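import Mathlib

/-!
# Abstract exactness arguments for the low-degree cohomology sequence of torsors (helper4)

Everything happens in a cartesian monoidal category `C`.  An object `X` is `EffEpi` when `X ⟶ 𝟙` is a universally
effective epimorphism in the following elementary sense: a morphism out of `X ⊗ T` which does not depend on the
`X`-coordinate factors uniquely through the projection to `T`.
-/

set_option autoImplicit false
set_option linter.unusedSectionVars false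
universe v u
open CategoryTheory MonoidalCategory CartesianMonoidalCategory MonObj GrpObj Limits

namespace Groth.Agent.Lib.Helper4.ExactH1

variable {C : Type u} [Category.{v} C] [CartesianMonoidalCategory C]

/-- `X ⟶ 𝟙` is a universally effective epimorphism (elementary form). -/
def EffEpi (X : C) : Prop :=
  ∀ (T Z : C) (m : X ⊗ T ⟶ Z),
    (∀ (W : C) (x₁ x₂ : W ⟶ X) (t : W ⟶ T), lift x₁ t ≫ m = lift x₂ t ≫ m) →
    ∃! z : T ⟶ Z, snd X T ≫ z = m

theorem EffEpi.epi_snd {X : C} (h : EffEpi X) (T : C) : Epi (snd X T) := by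
  refine ⟨fun {Z} z₁ z₂ hz => ?_⟩
  obtain ⟨z, _, huniq⟩ := h T Z (snd X T ≫ z₁) (fun W x₁ x₂ t => by simp)
  rw [huniq z₁ rfl, huniq z₂ hz.symm]

section Action

variable {G X : C} [GrpObj G] (a : G ⊗ X ⟶ X)

theorem one_pt (hone : (η[G] ▷ X) ≫ a = (λ_ X).hom) {T : C} (p : T ⟶ X) :
    lift (1 : T ⟶ G) p ≫ a = p := by
  have : lift (1 : T ⟶ G) p = lift (toUnit T) p ≫ (η[G] ▷ X) := by
    apply CartesianMonoidalCategory.hom_ext <;> simp [Hom.one_def]
  rw [this, Category.assoc, hone]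
  simp

theorem mul_pt (hmul : (μ[G] ▷ X) ≫ a = (α_ G G X).hom ≫ (G ◁ a) ≫ a) {T : C} (x y : T ⟶ G)
    (p : T ⟶ X) : lift (x * y) p ≫ a = lift x (lift y p ≫ a) ≫ a := by
  have h1 : lift (x * y) p = lift (lift x y) p ≫ (μ[G] ▷ X) := by
    apply CartesianMonoidalCategory.hom_ext <;> simp [Hom.mul_def]
  have h2 : lift (lift x y) p ≫ (α_ G G X).hom ≫ (G ◁ a) = lift x (lift y p ≫ a) := by
    apply CartesianMonoidalCategory.hom_ext <;> simp
  rw [h1, Category.assoc, hmul, ← Category.assoc (α_ G G X).hom, ← Category.assoc, h2]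

omit [GrpObj G] in
/-- Points form of the pseudo-torsor condition. -/
theorem existsUnique_act [IsIso (lift a (snd G X))] {T : C} (p₁ p₂ : T ⟶ X) :
    ∃! g : T ⟶ G, lift g p₂ ≫ a = p₁ := by
  set w : T ⟶ G ⊗ X := lift p₁ p₂ ≫ inv (lift a (snd G X)) with hw
  have hw' : w ≫ lift a (snd G X) = lift p₁ p₂ := by
    rw [hw, Category.assoc, IsIso.inv_hom_id, Category.comp_id]
  have hw1 : w ≫ a = p₁ := by
    have := congrArg (fun k => k ≫ fst X X) hw'
    simpa using this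
  have hw2 : w ≫ snd G X = p₂ := by
    have := congrArg (fun k => k ≫ snd X X) hw'
    simpa using this
  have hw3 : w = lift (w ≫ fst G X) p₂ := by
    apply CartesianMonoidalCategory.hom_ext <;> simp [hw2]
  refine ⟨w ≫ fst G X, by
    show lift (w ≫ fst G X) p₂ ≫ a = p₁
    rw [← hw3, hw1], fun g hg => ?_⟩
  have h1 : lift g p₂ ≫ lift a (snd G X) = lift p₁ p₂ := by
    apply CartesianMonoidalCategory.hom_ext <;> simp [hg]
  have h2 : lift g p₂ = w := by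
    rw [hw, ← h1, Category.assoc, IsIso.hom_inv_id, Category.comp_id]
  rw [← h2, lift_fst]

/-- The division map of a pseudo-torsor: `(p₁, p₂) ↦` the unique `g` with `g • p₂ = p₁`. -/
noncomputable def divMap [IsIso (lift a (snd G X))] : X ⊗ X ⟶ G :=
  inv (lift a (snd G X)) ≫ fst G X

omit [GrpObj G] in
theorem act_divMap [IsIso (lift a (snd G X))] {T : C} (p₁ p₂ : T ⟶ X) :
    lift (lift p₁ p₂ ≫ divMap a) p₂ ≫ a = p₁ := by
  set w : T ⟶ G ⊗ X := lift p₁ p₂ ≫ inv (lift a (snd G X)) with hw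
  have hw' : w ≫ lift a (snd G X) = lift p₁ p₂ := by
    rw [hw, Category.assoc, IsIso.inv_hom_id, Category.comp_id]
  have hw1 : w ≫ a = p₁ := by
    have := congrArg (fun k => k ≫ fst X X) hw'
    simpa using this
  have hw2 : w ≫ snd G X = p₂ := by
    have := congrArg (fun k => k ≫ snd X X) hw'
    simpa using this
  have hw3 : w = lift (lift p₁ p₂ ≫ divMap a) p₂ := by
    apply CartesianMonoidalCategory.hom_ext
    · simp [divMap, hw]
    · simp [hw2]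
  rw [← hw3, hw1]

omit [GrpObj G] in
theorem eq_divMap [IsIso (lift a (snd G X))] {T : C} (p₁ p₂ : T ⟶ X) (g : T ⟶ G)
    (hg : lift g p₂ ≫ a = p₁) : g = lift p₁ p₂ ≫ divMap a := by
  obtain ⟨g₀, _, huniq⟩ := existsUnique_act a p₁ p₂
  rw [huniq g hg, huniq _ (act_divMap a p₁ p₂)]

end Action

section Exact

variable {G G' G'' : C} [GrpObj G] [GrpObj G'] [GrpObj G'']
  (u : G' ⟶ G) (v : G ⟶ G'')

omit [GrpObj G'] [GrpObj G''] in
/-- Points form of the cartesian square of an exact sequence. -/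
theorem existsUnique_of_exact (hpb : IsPullback (fst G G') ((G ◁ u) ≫ μ[G]) v v)
    {T : C} (x y : T ⟶ G) (h : x ≫ v = y ≫ v) : ∃! g' : T ⟶ G', y = x * (g' ≫ u) := by
  have key : ∀ g' : T ⟶ G', lift x g' ≫ (G ◁ u) ≫ μ[G] = x * (g' ≫ u) := by
    intro g'
    rw [Hom.mul_def, ← Category.assoc]
    congr 1
    apply CartesianMonoidalCategory.hom_ext <;> simp
  refine ⟨hpb.lift x y h ≫ snd G G', ?_, fun g' hg' => ?_⟩
  · have h1 : hpb.lift x y h = lift x (hpb.lift x y h ≫ snd G G') := by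
      apply CartesianMonoidalCategory.hom_ext <;> simp
    have h2 := hpb.lift_snd x y h
    rw [h1, key] at h2
    exact h2.symm
  · have : lift x g' = hpb.lift x y h := by
      apply hpb.hom_ext
      · simp
      · rw [hpb.lift_snd, key, hg']
    rw [← this, lift_snd]

theorem u_inj_pt [IsMonHom v] (huv : u ≫ v = 1)
    (hpb : IsPullback (fst G G') ((G ◁ u) ≫ μ[G]) v v)
    {T : C} (g₁ g₂ : T ⟶ G') (h : g₁ ≫ u = g₂ ≫ u) : g₁ = g₂ := by
  obtain ⟨g, _, huniq⟩ := existsUnique_of_exact u v hpb (1 : T ⟶ G) (g₁ ≫ u) (by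
    rw [MonObj.one_comp, Category.assoc, huv, MonObj.comp_one])
  have e1 := huniq g₁ (by
    show g₁ ≫ u = 1 * (g₁ ≫ u)
    rw [_root_.one_mul])
  have e2 := huniq g₂ (by
    show g₁ ≫ u = 1 * (g₂ ≫ u)
    rw [_root_.one_mul, h])
  rw [e1, e2]

/-- Abstract form of exactness at `H¹(G')`: `(⇐)`. -/
theorem pushforward_of_pullbackTorsor {Q : C} (a : G' ⊗ Q ⟶ Q) (i : Q ⟶ G)
    (hi : ∀ (T : C) (g' : T ⟶ G') (p : T ⟶ Q), lift g' p ≫ a ≫ i = (p ≫ i) * (g' ≫ u)⁻¹) :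
    a ≫ i⁻¹ = lift (fst G' Q ≫ u) (snd G' Q ≫ i⁻¹) ≫ μ[G] := by
  have h1 : a ≫ i = (snd G' Q ≫ i) * (fst G' Q ≫ u)⁻¹ := by
    have := hi (G' ⊗ Q) (fst G' Q) (snd G' Q)
    rwa [lift_fst_snd, Category.id_comp] at this
  rw [← Hom.mul_def, GrpObj.comp_inv, h1, GrpObj.comp_inv, _root_.mul_inv_rev, _root_.inv_inv]

/-- Abstract form of exactness at `H¹(G')`: `(⇒)`. -/
theorem exists_pullbackTorsor_of_pushforward [IsMonHom u] [IsMonHom v] (huv : u ≫ v = 1)
    (hpb : IsPullback (fst G G') ((G ◁ u) ≫ μ[G]) v v)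
    {Q : C} (a : G' ⊗ Q ⟶ Q) (hone : (η[G'] ▷ Q) ≫ a = (λ_ Q).hom)
    [IsIso (lift a (snd G' Q))] (hE : EffEpi Q)
    (j : Q ⟶ G) (hj : a ≫ j = lift (fst G' Q ≫ u) (snd G' Q ≫ j) ≫ μ[G]) :
    ∃ (f : 𝟙_ C ⟶ G'') (i : Q ⟶ G), IsPullback i (toUnit Q) v f ∧
      ∀ (T : C) (g' : T ⟶ G') (p : T ⟶ Q), lift g' p ≫ a ≫ i = (p ≫ i) * (g' ≫ u)⁻¹ := by
  -- the morphism `i` and its equivariance
  have hi : ∀ (T : C) (g' : T ⟶ G') (p : T ⟶ Q),
      lift g' p ≫ a ≫ j⁻¹ = (p ≫ j⁻¹) * (g' ≫ u)⁻¹ := by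
    intro T g' p
    rw [GrpObj.comp_inv, GrpObj.comp_inv, hj, ← Hom.mul_def, MonObj.comp_mul, GrpObj.comp_inv,
      _root_.mul_inv_rev]
    simp
  -- `i ≫ v` is constant
  have hconst : ∀ (W : C) (x₁ x₂ : W ⟶ Q), x₁ ≫ j⁻¹ ≫ v = x₂ ≫ j⁻¹ ≫ v := by
    intro W x₁ x₂
    obtain ⟨g', hg', -⟩ := existsUnique_act a x₁ x₂
    calc x₁ ≫ j⁻¹ ≫ v = (lift g' x₂ ≫ a ≫ j⁻¹) ≫ v := by
          rw [← hg']; simp only [Category.assoc]
      _ = ((x₂ ≫ j⁻¹) * (g' ≫ u)⁻¹) ≫ v := by rw [hi]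
      _ = x₂ ≫ j⁻¹ ≫ v := by
          rw [MonObj.mul_comp, GrpObj.inv_comp, Category.assoc g', huv, MonObj.comp_one, inv_one,
            _root_.mul_one, Category.assoc]
  obtain ⟨f, hf, -⟩ := hE (𝟙_ C) G'' (fst Q (𝟙_ C) ≫ j⁻¹ ≫ v) (fun W x₁ x₂ t => by
    simp only [lift_fst_assoc]
    exact hconst W x₁ x₂)
  have hf' : toUnit Q ≫ f = j⁻¹ ≫ v := by
    have := congrArg (fun k => lift (𝟙 Q) (toUnit Q) ≫ k) hf
    simpa using this
  -- `i` is injective on points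
  have hinj : ∀ {T : C} (p₁ p₂ : T ⟶ Q), p₁ ≫ j⁻¹ = p₂ ≫ j⁻¹ → p₁ = p₂ := by
    intro T p₁ p₂ h
    obtain ⟨g', hg', -⟩ := existsUnique_act a p₁ p₂
    have h1 := hi T g' p₂
    rw [← Category.assoc, hg', h] at h1
    have h2 : g' ≫ u = 1 := by
      have : (g' ≫ u)⁻¹ = 1 := by
        have := congrArg (fun k => (p₂ ≫ j⁻¹)⁻¹ * k) h1
        simpa using this.symm
      simpa using this
    have h3 : g' = 1 := u_inj_pt u v huv hpb g' 1 (by rw [h2, MonObj.one_comp])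
    rw [← hg', h3, one_pt a hone]
  refine ⟨f, j⁻¹, ?_, hi⟩
  have huniv : ∀ s : PullbackCone v f, ∃ l : s.pt ⟶ Q, l ≫ j⁻¹ = s.fst ∧ l ≫ toUnit Q = s.snd ∧
      ∀ {m : s.pt ⟶ Q}, m ≫ j⁻¹ = s.fst → m ≫ toUnit Q = s.snd → m = l := by
    intro s
    have hs : s.fst ≫ v = s.snd ≫ f := s.condition
    have hx : (fst Q s.pt ≫ j⁻¹) ≫ v = (snd Q s.pt ≫ s.fst) ≫ v := by
      rw [Category.assoc, ← hf', Category.assoc, hs, ← Category.assoc, ← Category.assoc]
      congr 1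
      exact toUnit_unique _ _
    obtain ⟨g', hg', -⟩ := existsUnique_of_exact u v hpb (fst Q s.pt ≫ j⁻¹) (snd Q s.pt ≫ s.fst) hx
    -- the candidate on `Q ⊗ s.pt`
    have hm : (lift g'⁻¹ (fst Q s.pt) ≫ a) ≫ j⁻¹ = snd Q s.pt ≫ s.fst := by
      rw [Category.assoc, hi, GrpObj.inv_comp, _root_.inv_inv, ← hg']
    obtain ⟨z, hz, -⟩ := hE s.pt Q (lift g'⁻¹ (fst Q s.pt) ≫ a) (fun W x₁ x₂ t => by
      apply hinj
      rw [Category.assoc, hm, Category.assoc, hm]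
      simp)
    have := hE.epi_snd s.pt
    have hz1 : z ≫ j⁻¹ = s.fst := by
      rw [← cancel_epi (snd Q s.pt), ← Category.assoc, hz, hm]
    refine ⟨z, hz1, toUnit_unique _ _, fun {m'} hm1 _ => ?_⟩
    exact hinj _ _ (hm1.trans hz1.symm)
  exact ⟨⟨hf'.symm⟩, ⟨PullbackCone.isLimitAux' _ (fun s =>
    ⟨(huniv s).choose, (huniv s).choose_spec⟩)⟩⟩

/-- Abstract form of exactness at `H¹(G)`: `(⇐)`.  A reduction of the structure group of `P` to `G'` gives a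
`v`-equivariant morphism `P ⟶ G''`. -/
theorem exists_equivariant_of_reduction [IsMonHom u] [IsMonHom v] (huv : u ≫ v = 1)
    {P Q : C} (aP : G ⊗ P ⟶ P) (honeP : (η[G] ▷ P) ≫ aP = (λ_ P).hom)
    (hmulP : (μ[G] ▷ P) ≫ aP = (α_ G G P).hom ≫ (G ◁ aP) ≫ aP) [IsIso (lift aP (snd G P))]
    (aQ : G' ⊗ Q ⟶ Q) [IsIso (lift aQ (snd G' Q))] (hE : EffEpi Q)
    (h : Q ⟶ P) (hh : aQ ≫ h = lift (fst G' Q ≫ u) (snd G' Q ≫ h) ≫ aP) :
    ∃ ρ : P ⟶ G'', aP ≫ ρ = lift (fst G P ≫ v) (snd G P ≫ ρ) ≫ μ[G''] := by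
  -- translation behaviour of the division map
  have hdiv_right : ∀ {T : C} (p p' : T ⟶ P) (g : T ⟶ G),
      lift p (lift g p' ≫ aP) ≫ divMap aP = (lift p p' ≫ divMap aP) * g⁻¹ := by
    intro T p p' g
    symm
    apply eq_divMap
    rw [mul_pt aP hmulP, ← mul_pt aP hmulP g⁻¹ g, inv_mul_cancel, one_pt aP honeP, act_divMap]
  have hdiv_left : ∀ {T : C} (p p' : T ⟶ P) (g : T ⟶ G),
      lift (lift g p ≫ aP) p' ≫ divMap aP = g * (lift p p' ≫ divMap aP) := by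
    intro T p p' g
    symm
    apply eq_divMap
    rw [mul_pt aP hmulP, act_divMap]
  have hhpt : ∀ {T : C} (g' : T ⟶ G') (q : T ⟶ Q),
      (lift g' q ≫ aQ) ≫ h = lift (g' ≫ u) (q ≫ h) ≫ aP := by
    intro T g' q
    rw [Category.assoc, hh, ← Category.assoc]
    congr 1
    apply CartesianMonoidalCategory.hom_ext <;> simp
  let m : Q ⊗ P ⟶ G'' := lift (snd Q P) (fst Q P ≫ h) ≫ divMap aP ≫ v
  have hmpt : ∀ {T : C} (q : T ⟶ Q) (p : T ⟶ P),
      lift q p ≫ m = (lift p (q ≫ h) ≫ divMap aP) ≫ v := by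
    intro T q p
    simp only [m, ← Category.assoc]
    congr 2
    apply CartesianMonoidalCategory.hom_ext <;> simp
  obtain ⟨ρ, hρ, -⟩ := hE P G'' m (fun W q₁ q₂ p => by
    obtain ⟨g', hg', -⟩ := existsUnique_act aQ q₁ q₂
    rw [hmpt, hmpt, ← hg', hhpt, hdiv_right, MonObj.mul_comp, GrpObj.inv_comp, Category.assoc g',
      huv, MonObj.comp_one, inv_one, _root_.mul_one])
  have hρpt : ∀ {T : C} (q : T ⟶ Q) (p : T ⟶ P), p ≫ ρ = (lift p (q ≫ h) ≫ divMap aP) ≫ v := by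
    intro T q p
    rw [← hmpt, ← hρ, lift_snd_assoc]
  refine ⟨ρ, ?_⟩
  have := hE.epi_snd (G ⊗ P)
  rw [← cancel_epi (snd Q (G ⊗ P))]
  rw [← Category.assoc, hρpt (fst Q (G ⊗ P)) (snd Q (G ⊗ P) ≫ aP)]
  have e1 : snd Q (G ⊗ P) ≫ aP =
      lift (snd Q (G ⊗ P) ≫ fst G P) (snd Q (G ⊗ P) ≫ snd G P) ≫ aP := by
    congr 1
    apply CartesianMonoidalCategory.hom_ext <;> simp
  rw [e1, hdiv_left, MonObj.mul_comp, ← hρpt, ← Hom.mul_def, MonObj.comp_mul]
  simp only [Category.assoc]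

/-- Abstract form of exactness at `H¹(G)`: `(⇒)`.  The fibre `Q` of a `v`-equivariant morphism `ρ : P ⟶ G''` over the unit
section carries an action of `G'` making it a pseudo-torsor, and its inclusion into `P` is `u`-equivariant. -/
theorem reduction_of_equivariant [IsMonHom u] [IsMonHom v] (huv : u ≫ v = 1)
    (hpb : IsPullback (fst G G') ((G ◁ u) ≫ μ[G]) v v)
    {P Q : C} (aP : G ⊗ P ⟶ P) (honeP : (η[G] ▷ P) ≫ aP = (λ_ P).hom)
    (hmulP : (μ[G] ▷ P) ≫ aP = (α_ G G P).hom ≫ (G ◁ aP) ≫ aP) [IsIso (lift aP (snd G P))]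
    (ρ : P ⟶ G'') (hρ : aP ≫ ρ = lift (fst G P ≫ v) (snd G P ≫ ρ) ≫ μ[G''])
    (inc : Q ⟶ P) (hQ : IsPullback inc (toUnit Q) ρ η[G'']) :
    ∃ aQ : G' ⊗ Q ⟶ Q, (η[G'] ▷ Q) ≫ aQ = (λ_ Q).hom ∧
      (μ[G'] ▷ Q) ≫ aQ = (α_ G' G' Q).hom ≫ (G' ◁ aQ) ≫ aQ ∧
      IsIso (lift aQ (snd G' Q)) ∧ aQ ≫ inc = lift (fst G' Q ≫ u) (snd G' Q ≫ inc) ≫ aP := by
  have hρpt : ∀ {T : C} (g : T ⟶ G) (p : T ⟶ P), (lift g p ≫ aP) ≫ ρ = (g ≫ v) * (p ≫ ρ) := by
    intro T g p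
    rw [Category.assoc, hρ, ← Category.assoc, Hom.mul_def]
    congr 1
    apply CartesianMonoidalCategory.hom_ext <;> simp
  have hincρ : inc ≫ ρ = 1 := by rw [hQ.w, Hom.one_def]
  have hincmono : ∀ {T : C} (x y : T ⟶ Q), x ≫ inc = y ≫ inc → x = y := by
    intro T x y hxy
    exact hQ.hom_ext hxy (toUnit_unique _ _)
  have hcond : (lift (fst G' Q ≫ u) (snd G' Q ≫ inc) ≫ aP) ≫ ρ = toUnit (G' ⊗ Q) ≫ η[G''] := by
    rw [hρpt, Category.assoc, huv, MonObj.comp_one, Category.assoc, hincρ, MonObj.comp_one,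
      _root_.one_mul, Hom.one_def]
  let aQ : G' ⊗ Q ⟶ Q := hQ.lift (lift (fst G' Q ≫ u) (snd G' Q ≫ inc) ≫ aP) (toUnit _) hcond
  have haQ : aQ ≫ inc = lift (fst G' Q ≫ u) (snd G' Q ≫ inc) ≫ aP := hQ.lift_fst _ _ _
  have hpt : ∀ {T : C} (g' : T ⟶ G') (q : T ⟶ Q),
      (lift g' q ≫ aQ) ≫ inc = lift (g' ≫ u) (q ≫ inc) ≫ aP := by
    intro T g' q
    rw [Category.assoc, haQ, ← Category.assoc]
    congr 1
    apply CartesianMonoidalCategory.hom_ext <;> simp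
  refine ⟨aQ, ?_, ?_, ?_, haQ⟩
  · -- unit axiom
    apply hincmono
    have e1 : (η[G'] ▷ Q) = lift (1 : 𝟙_ C ⊗ Q ⟶ G') (snd (𝟙_ C) Q) := by
      apply CartesianMonoidalCategory.hom_ext
      · simp only [whiskerRight_fst, lift_fst, Hom.one_def]
        congr 1
        exact toUnit_unique _ _
      · simp
    rw [e1, hpt, MonObj.one_comp, one_pt aP honeP]
    rw [CartesianMonoidalCategory.leftUnitor_hom]
  · -- multiplication axiom
    apply hincmono
    have e1 : (μ[G'] ▷ Q) = lift ((fst (G' ⊗ G') Q ≫ fst G' G') * (fst (G' ⊗ G') Q ≫ snd G' G'))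
        (snd (G' ⊗ G') Q) := by
      apply CartesianMonoidalCategory.hom_ext
      · simp only [whiskerRight_fst, lift_fst, Hom.mul_def]
        congr 1
        apply CartesianMonoidalCategory.hom_ext <;> simp
      · simp
    have e2 : (α_ G' G' Q).hom ≫ (G' ◁ aQ) = lift (fst (G' ⊗ G') Q ≫ fst G' G')
        (lift (fst (G' ⊗ G') Q ≫ snd G' G') (snd (G' ⊗ G') Q) ≫ aQ) := by
      apply CartesianMonoidalCategory.hom_ext
      · simp
      · simp only [Category.assoc, whiskerLeft_snd, lift_snd]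
        rw [← Category.assoc]
        congr 1
        apply CartesianMonoidalCategory.hom_ext <;> simp
    rw [e1, hpt, MonObj.mul_comp, mul_pt aP hmulP, ← Category.assoc (α_ G' G' Q).hom, e2, hpt, hpt]
  · -- the shear map is an isomorphism
    apply isIso_of_yoneda_map_bijective
    intro T
    constructor
    · intro w w' hww
      dsimp only at hww
      have hq : w ≫ snd G' Q = w' ≫ snd G' Q := by
        have := congrArg (fun k => k ≫ snd Q Q) hww
        simpa using this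
      have ha : w ≫ aQ = w' ≫ aQ := by
        have := congrArg (fun k => k ≫ fst Q Q) hww
        simpa using this
      have ew : w = lift (w ≫ fst G' Q) (w ≫ snd G' Q) := by
        apply CartesianMonoidalCategory.hom_ext <;> simp
      have ew' : w' = lift (w' ≫ fst G' Q) (w ≫ snd G' Q) := by
        apply CartesianMonoidalCategory.hom_ext <;> simp [hq]
      have h1 : lift ((w ≫ fst G' Q) ≫ u) ((w ≫ snd G' Q) ≫ inc) ≫ aP =
          lift ((w' ≫ fst G' Q) ≫ u) ((w ≫ snd G' Q) ≫ inc) ≫ aP := by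
        rw [← hpt, ← hpt, ← ew, ← ew', ha]
      obtain ⟨g₀, _, huniq⟩ := existsUnique_act aP
        (lift ((w ≫ fst G' Q) ≫ u) ((w ≫ snd G' Q) ≫ inc) ≫ aP) ((w ≫ snd G' Q) ≫ inc)
      have h2 : (w ≫ fst G' Q) ≫ u = (w' ≫ fst G' Q) ≫ u := by
        rw [huniq _ rfl, huniq _ h1.symm]
      have h3 := u_inj_pt u v huv hpb _ _ h2
      rw [ew, ew', h3]
    · intro t
      set q₁ := t ≫ fst Q Q with hq₁
      set q₂ := t ≫ snd Q Q with hq₂
      set g := lift (q₁ ≫ inc) (q₂ ≫ inc) ≫ divMap aP with hg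
      have hg1 : lift g (q₂ ≫ inc) ≫ aP = q₁ ≫ inc := act_divMap aP _ _
      have hgv : g ≫ v = 1 := by
        have := congrArg (fun k => k ≫ ρ) hg1
        simp only [hρpt, Category.assoc, hincρ, MonObj.comp_one, _root_.mul_one] at this
        exact this
      obtain ⟨g', hg', -⟩ := existsUnique_of_exact u v hpb (1 : T ⟶ G) g (by
        rw [MonObj.one_comp, hgv])
      rw [_root_.one_mul] at hg'
      refine ⟨lift g' q₂, ?_⟩
      dsimp only
      apply CartesianMonoidalCategory.hom_ext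
      · simp only [Category.assoc, lift_fst]
        apply hincmono
        rw [hpt, ← hg', hg1]
      · simp [q₂]

end Exact

end Groth.Agent.Lib.Helper4.ExactH1
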