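import Mathlib
import Groth.Prelude.Def_NonAbH2
import Groth.Agent.Lib.Helper4.ExactH1

/-!
# Gluing morphisms of schemes along fpqc covering families (helper4)

* `isSheafFor_yoneda`, `hom_ext_of_fpqc`, `exists_glue_of_fpqc`: representable presheaves are fpqc sheaves (indexed forms).
* `existsUnique_desc_of_sections`: a morphism `π : X ⟶ B` which has sections over the members of an fpqc covering family of `B`
  is an effective epimorphism (elementary form).
* `effEpi_of_isLocallyTrivialFor`: an `S`-scheme which is fpqc-locally trivial (has sections locally) satisfies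
  `ExactH1.EffEpi` in `Over S`.
-/

set_option autoImplicit false
set_option backward.isDefEq.respectTransparency false
universe w u
open CategoryTheory CategoryTheory.Limits AlgebraicGeometry MonoidalCategory CartesianMonoidalCategory

namespace Groth.Agent.Lib.Helper4.SheafGlue

theorem isSheafFor_yoneda {B : Scheme.{u}} (Z : Scheme.{u}) (R : Presieve B)
    (hR : R ∈ Scheme.fpqcPrecoverage B) : Presieve.IsSheafFor (yoneda.obj Z) R := by
  rw [Presieve.isSheafFor_iff_generate]
  exact GrothendieckTopology.Subcanonical.isSheaf_of_isRepresentable (J := Scheme.fpqcTopology)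
    (yoneda.obj Z) _ (Precoverage.generate_mem_toGrothendieck hR)

variable {B Z : Scheme.{u}} {ι : Type w} (T : ι → Scheme.{u}) (f : ∀ i, T i ⟶ B)

include T in
theorem hom_ext_of_fpqc (hf : Presieve.ofArrows T f ∈ Scheme.fpqcPrecoverage B) (z₁ z₂ : B ⟶ Z)
    (h : ∀ i, f i ≫ z₁ = f i ≫ z₂) : z₁ = z₂ := by
  have hs := (Presieve.isSheafFor_arrows_iff (P := yoneda.obj Z) (X := T) (π := f)).mp
    (isSheafFor_yoneda Z _ hf)
  obtain ⟨t, _, huniq⟩ := hs (fun i => f i ≫ z₁) (by
    intro i j W gi gj hg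
    change gi ≫ f i ≫ z₁ = gj ≫ f j ≫ z₁
    rw [← Category.assoc, hg, Category.assoc])
  have e1 : z₁ = t := huniq z₁ (fun i => rfl)
  have e2 : z₂ = t := huniq z₂ (fun i => (h i).symm)
  rw [e1, e2]

include T in
theorem exists_glue_of_fpqc (hf : Presieve.ofArrows T f ∈ Scheme.fpqcPrecoverage B)
    (x : ∀ i, T i ⟶ Z)
    (hx : ∀ i j (W : Scheme.{u}) (gi : W ⟶ T i) (gj : W ⟶ T j), gi ≫ f i = gj ≫ f j →
      gi ≫ x i = gj ≫ x j) : ∃ z : B ⟶ Z, ∀ i, f i ≫ z = x i := by
  have hs := (Presieve.isSheafFor_arrows_iff (P := yoneda.obj Z) (X := T) (π := f)).mp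
    (isSheafFor_yoneda Z _ hf)
  obtain ⟨t, ht, -⟩ := hs x (fun i j W gi gj hg => hx i j W gi gj hg)
  exact ⟨t, ht⟩

/-- A morphism with sections over the members of an fpqc covering family of its target is an effective epimorphism. -/
theorem existsUnique_desc_of_sections {X B Z : Scheme.{u}} (π : X ⟶ B)
    {ι : Type (u + 1)} (T : ι → Scheme.{u}) (f : ∀ i, T i ⟶ B)
    (hf : Presieve.ofArrows T f ∈ Scheme.fpqcPrecoverage B)
    (σ : ∀ i, T i ⟶ X) (hσ : ∀ i, σ i ≫ π = f i)
    (m : X ⟶ Z)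
    (hm : ∀ (W : Scheme.{u}) (x₁ x₂ : W ⟶ X), x₁ ≫ π = x₂ ≫ π → x₁ ≫ m = x₂ ≫ m) :
    ∃! z : B ⟶ Z, π ≫ z = m := by
  obtain ⟨z, hz⟩ := exists_glue_of_fpqc T f hf (fun i => σ i ≫ m) (by
    intro i j W gi gj hg
    rw [← Category.assoc, ← Category.assoc]
    apply hm
    rw [Category.assoc, Category.assoc, hσ, hσ, hg])
  -- the pulled back covering of `X`
  have hf' : Presieve.ofArrows (fun i => pullback π (f i)) (fun i => pullback.fst π (f i)) ∈
      Scheme.fpqcPrecoverage X :=
    Precoverage.mem_coverings_of_isPullback f hf π _ (fun i => pullback.snd π (f i))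
      (fun i => IsPullback.of_hasPullback π (f i))
  refine ⟨z, ?_, fun z' hz' => ?_⟩
  · refine hom_ext_of_fpqc _ _ hf' _ _ (fun i => ?_)
    rw [← Category.assoc, pullback.condition, Category.assoc, hz, ← Category.assoc]
    apply hm
    rw [Category.assoc, hσ, pullback.condition]
  · refine hom_ext_of_fpqc T f hf _ _ (fun i => ?_)
    rw [hz, ← hσ, Category.assoc, hz']

/-- An `S`-scheme with sections fpqc-locally on `S` satisfies the elementary effective-epimorphism property in `Over S`. -/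
theorem effEpi_of_isLocallyTrivialFor {S : Scheme.{u}} (X : Over S)
    (hX : NonAbH1.IsLocallyTrivialFor Scheme.fpqcPrecoverage X) : ExactH1.EffEpi X := by
  obtain ⟨R, hR, hsec⟩ := hX
  obtain ⟨𝒰, rfl⟩ := R.exists_eq_preZeroHypercover
  choose σ hσ using fun i => hsec (𝒰.f i) (Presieve.ofArrows.mk i)
  intro T Z m hm
  -- the projection and the pulled back covering with its sections
  have hf' : Presieve.ofArrows (fun i => pullback T.hom (𝒰.f i)) (fun i => pullback.fst T.hom (𝒰.f i)) ∈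
      Scheme.fpqcPrecoverage T.left :=
    Precoverage.mem_coverings_of_isPullback 𝒰.f hR T.hom _ (fun i => pullback.snd T.hom (𝒰.f i))
      (fun i => IsPullback.of_hasPullback T.hom (𝒰.f i))
  let σ' : ∀ i, pullback T.hom (𝒰.f i) ⟶ pullback X.hom T.hom := fun i =>
    pullback.lift (pullback.snd T.hom (𝒰.f i) ≫ σ i) (pullback.fst T.hom (𝒰.f i)) (by
      rw [Category.assoc, hσ, pullback.condition])
  have hσ' : ∀ i, σ' i ≫ pullback.snd X.hom T.hom = pullback.fst T.hom (𝒰.f i) := fun i =>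
    pullback.lift_snd _ _ _
  -- constancy along the fibres, at the level of schemes
  have hconst : ∀ {Z' : Over S} (m' : X ⊗ T ⟶ Z')
      (hm' : ∀ (W : Over S) (x₁ x₂ : W ⟶ X) (t : W ⟶ T), lift x₁ t ≫ m' = lift x₂ t ≫ m')
      (W : Scheme.{u}) (x₁ x₂ : W ⟶ pullback X.hom T.hom),
      x₁ ≫ pullback.snd X.hom T.hom = x₂ ≫ pullback.snd X.hom T.hom →
      x₁ ≫ m'.left = x₂ ≫ m'.left := by
    intro Z' m' hm' W x₁ x₂ hx
    let W' : Over S := Over.mk (x₁ ≫ pullback.snd X.hom T.hom ≫ T.hom)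
    let a₁ : W' ⟶ X ⊗ T := Over.homMk x₁ (by
      change x₁ ≫ pullback.fst X.hom T.hom ≫ X.hom = x₁ ≫ pullback.snd X.hom T.hom ≫ T.hom
      rw [pullback.condition])
    let a₂ : W' ⟶ X ⊗ T := Over.homMk x₂ (by
      change x₂ ≫ pullback.fst X.hom T.hom ≫ X.hom = x₁ ≫ pullback.snd X.hom T.hom ≫ T.hom
      rw [pullback.condition, ← Category.assoc, ← hx, Category.assoc])
    have hsnd : a₁ ≫ snd X T = a₂ ≫ snd X T := by
      ext
      exact hx
    have e1 : a₁ = lift (a₁ ≫ fst X T) (a₁ ≫ snd X T) := by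
      apply CartesianMonoidalCategory.hom_ext <;> simp
    have e2 : a₂ = lift (a₂ ≫ fst X T) (a₁ ≫ snd X T) := by
      apply CartesianMonoidalCategory.hom_ext <;> simp [hsnd]
    have := hm' W' (a₁ ≫ fst X T) (a₂ ≫ fst X T) (a₁ ≫ snd X T)
    rw [← e1, ← e2] at this
    exact congrArg Over.Hom.left this
  have hπ : (snd X T).left = pullback.snd X.hom T.hom := rfl
  obtain ⟨z₀, hz₀, huniq⟩ := existsUnique_desc_of_sections (pullback.snd X.hom T.hom) _ _ hf' σ' hσ'
    m.left (hconst m hm)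
  -- `z₀` is a morphism over `S`
  have hz₀S : z₀ ≫ Z.hom = T.hom := by
    have hXT : (X ⊗ T).hom = pullback.snd X.hom T.hom ≫ T.hom := by
      change pullback.fst X.hom T.hom ≫ X.hom = _
      exact pullback.condition
    obtain ⟨y, _, hy⟩ := existsUnique_desc_of_sections (Z := S) (pullback.snd X.hom T.hom) _ _ hf' σ' hσ'
      (X ⊗ T).hom (by
        intro W x₁ x₂ hx
        rw [hXT, ← Category.assoc, hx, Category.assoc])
    rw [hy (z₀ ≫ Z.hom) (by
      show pullback.snd X.hom T.hom ≫ z₀ ≫ Z.hom = (X ⊗ T).hom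
      rw [← Category.assoc, hz₀]; exact Over.w m), hy T.hom hXT.symm]
  refine ⟨Over.homMk z₀ hz₀S, ?_, fun z' hz' => ?_⟩
  · ext
    exact hz₀
  · ext
    exact huniq z'.left (by
      show pullback.snd X.hom T.hom ≫ z'.left = m.left
      rw [← hπ, ← Over.comp_left, hz'])

end Groth.Agent.Lib.Helper4.SheafGlue
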