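import Mathlib
import Groth.Prelude.Def_DescFam
import Groth.Agent.Lib.Helper4.SheafGlue

/-!
# Full faithfulness of the canonical descent datum functor for fpqc covering families (helper4)

* `pullback_cover`: the base change of an fpqc covering family along any morphism is a covering family.
* `faithful_toDDFam`, `full_toDDFam`: `Desc.toDDFam f` is faithful and full for an fpqc covering family `f`.
-/

set_option autoImplicit false
set_option backward.isDefEq.respectTransparency false
universe w u
open CategoryTheory CategoryTheory.Limits AlgebraicGeometry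

namespace Groth.Agent.Lib.Helper4.DescFF

open Groth.Agent.Lib.Helper4.SheafGlue

variable {S : Scheme.{u}} {ι : Type w} {X : ι → Scheme.{u}} (f : ∀ i, X i ⟶ S)

/-- Base change of a covering family along `t : T ⟶ S` (first projections `X i ×_S T ⟶ X i`, second to `T`). -/
theorem pullback_cover (hf : Presieve.ofArrows X f ∈ Scheme.fpqcPrecoverage S) {T : Scheme.{u}} (t : T ⟶ S) :
    Presieve.ofArrows (fun i => pullback (f i) t) (fun i => pullback.snd (f i) t) ∈
      Scheme.fpqcPrecoverage T :=
  Precoverage.mem_coverings_of_isPullback f hf t _ (fun i => pullback.fst (f i) t)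
    (fun i => (IsPullback.of_hasPullback (f i) t).flip)

theorem faithful_toDDFam (hf : Presieve.ofArrows X f ∈ Scheme.fpqcPrecoverage S) :
    (Desc.toDDFam f).Faithful := by
  constructor
  intro U U' g g' h
  apply Over.OverMorphism.ext
  refine hom_ext_of_fpqc _ _ (pullback_cover f hf U.hom) _ _ (fun i => ?_)
  have h1 := congrArg (fun a => (a.hom i).left ≫ pullback.snd (f i) U'.hom) h
  simpa [Desc.toDDFam] using h1

theorem full_toDDFam (hf : Presieve.ofArrows X f ∈ Scheme.fpqcPrecoverage S) :
    (Desc.toDDFam f).Full := by
  constructor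
  intro U U' F
  -- components of `F`
  have hFw : ∀ i, (F.hom i).left ≫ pullback.fst (f i) U'.hom = pullback.fst (f i) U.hom := fun i =>
    Over.w (F.hom i)
  obtain ⟨G, hG⟩ := exists_glue_of_fpqc _ _ (pullback_cover f hf U.hom)
    (fun i => (F.hom i).left ≫ pullback.snd (f i) U'.hom) (by
      intro i j W gi gj hg
      have h : (gi ≫ pullback.fst (f i) U.hom) ≫ f i = (gj ≫ pullback.fst (f j) U.hom) ≫ f j := by
        rw [Category.assoc, Category.assoc, pullback.condition, pullback.condition, ← Category.assoc, hg,
          Category.assoc]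
      have hw : (gi ≫ (F.hom i).left) ≫ pullback.fst (f i) U'.hom = gi ≫ pullback.fst (f i) U.hom := by
        rw [Category.assoc, hFw]
      have hc := F.comm (gi ≫ pullback.fst (f i) U.hom) (gj ≫ pullback.fst (f j) U.hom) h
        ⟨gi, rfl⟩ ⟨gi ≫ (F.hom i).left, hw⟩ rfl
      have hb : (((Desc.toDDFam f).obj U).φ (gi ≫ pullback.fst (f i) U.hom) (gj ≫ pullback.fst (f j) U.hom) h
          ⟨gi, rfl⟩).1 = gj := by
        change pullback.lift _ _ _ = gj
        apply pullback.hom_ext
        · rw [pullback.lift_fst]
        · rw [pullback.lift_snd]; exact hg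
      rw [hb] at hc
      have hc2 := congrArg (· ≫ pullback.snd (f j) U'.hom) hc
      change pullback.lift _ _ _ ≫ pullback.snd (f j) U'.hom = (gj ≫ (F.hom j).left) ≫ pullback.snd (f j) U'.hom
        at hc2
      rw [pullback.lift_snd] at hc2
      exact (Category.assoc _ _ _).symm.trans (hc2.trans (Category.assoc _ _ _)))
  have hGw : G ≫ U'.hom = U.hom := by
    refine hom_ext_of_fpqc _ _ (pullback_cover f hf U.hom) _ _ (fun i => ?_)
    rw [← Category.assoc, hG, Category.assoc, ← pullback.condition, ← Category.assoc, hFw, pullback.condition]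
  refine ⟨Over.homMk G hGw, ?_⟩
  apply Desc.SchDDFam.hom_ext
  funext i
  apply Over.OverMorphism.ext
  change pullback.map (f i) U.hom (f i) U'.hom (𝟙 _) G (𝟙 S) (by simp) (by simp [hGw]) = (F.hom i).left
  apply pullback.hom_ext
  · rw [hFw]; exact (pullback.lift_fst _ _ _).trans (Category.comp_id _)
  · rw [pullback.lift_snd, hG]

end Groth.Agent.Lib.Helper4.DescFF
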