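import Mathlib
import Groth.Prelude.Def_DescFam
import Groth.Agent.Lib.Helper4.DescFF

/-!
# Sections of a descent datum and universal pairs (helper4)

For a descent datum `D` relative to a family `f i : X i ⟶ S` and `T : Over S`, the set `(toDDFam f).obj T ⟶ D` is the set of
`T`-points of the would-be descended scheme.  A pair `(U, ε : (toDDFam f).obj U ⟶ D)` is *universal* (`IsUniv`) if it represents
this functor.

* `pt s x t h`: evaluation of `s : (toDDFam f).obj T ⟶ D` at a point `(x, t)` of `X i ×_S T`.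
* `isIso_of_isUniv`: a universal pair is an isomorphism of descent data (no hypothesis on `f`).
* `isUniv_of_isIso`: conversely for an fpqc covering family.
-/

set_option autoImplicit false
set_option backward.isDefEq.respectTransparency false
universe w u
open CategoryTheory CategoryTheory.Limits AlgebraicGeometry

namespace Groth.Agent.Lib.Helper4.DescGamma

open Desc

variable {S : Scheme.{u}} {ι : Type w} {X : ι → Scheme.{u}} {f : ∀ i, X i ⟶ S}

section ph

variable (D : SchDDFam f)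

/-- The gluing bijection applied to a point, unbundled. -/
noncomputable def ph {W : Scheme.{u}} {i j : ι} (x₀ : W ⟶ X i) (x₁ : W ⟶ X j) (h : x₀ ≫ f i = x₁ ≫ f j)
    (d : W ⟶ (D.obj i).left) (hd : d ≫ (D.obj i).hom = x₀) : W ⟶ (D.obj j).left :=
  (D.φ x₀ x₁ h ⟨d, hd⟩).1

@[reassoc (attr := simp)]
theorem ph_hom {W : Scheme.{u}} {i j : ι} (x₀ : W ⟶ X i) (x₁ : W ⟶ X j) (h : x₀ ≫ f i = x₁ ≫ f j)
    (d : W ⟶ (D.obj i).left) (hd : d ≫ (D.obj i).hom = x₀) : ph D x₀ x₁ h d hd ≫ (D.obj j).hom = x₁ :=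
  (D.φ x₀ x₁ h ⟨d, hd⟩).2

theorem comp_ph {W W' : Scheme.{u}} (g : W' ⟶ W) {i j : ι} (x₀ : W ⟶ X i) (x₁ : W ⟶ X j)
    (h : x₀ ≫ f i = x₁ ≫ f j) (d : W ⟶ (D.obj i).left) (hd : d ≫ (D.obj i).hom = x₀) :
    g ≫ ph D x₀ x₁ h d hd = ph D (g ≫ x₀) (g ≫ x₁) (by rw [Category.assoc, h, Category.assoc]) (g ≫ d)
      (by rw [Category.assoc, hd]) :=
  (D.φ_natural g x₀ x₁ h (g ≫ x₀) (g ≫ x₁) rfl rfl (by rw [Category.assoc, h, Category.assoc]) ⟨d, hd⟩
    ⟨g ≫ d, by rw [Category.assoc, hd]⟩ rfl).symm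

theorem ph_congr {W : Scheme.{u}} {i j : ι} {x₀ x₀' : W ⟶ X i} {x₁ x₁' : W ⟶ X j} (h : x₀ ≫ f i = x₁ ≫ f j)
    {d d' : W ⟶ (D.obj i).left} (hd : d ≫ (D.obj i).hom = x₀) (e₀ : x₀ = x₀') (e₁ : x₁ = x₁') (ed : d = d') :
    ph D x₀ x₁ h d hd = ph D x₀' x₁' (by rw [← e₀, ← e₁]; exact h) d' (by rw [← e₀, ← ed]; exact hd) := by
  subst e₀ e₁ ed; rfl

theorem ph_self {W : Scheme.{u}} {i : ι} (x : W ⟶ X i) (d : W ⟶ (D.obj i).left)
    (hd : d ≫ (D.obj i).hom = x) : ph D x x rfl d hd = d :=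
  congrArg Subtype.val (D.φ_self x ⟨d, hd⟩)

theorem ph_ph {W : Scheme.{u}} {i j k : ι} (x₀ : W ⟶ X i) (x₁ : W ⟶ X j) (x₂ : W ⟶ X k)
    (h₀₁ : x₀ ≫ f i = x₁ ≫ f j) (h₁₂ : x₁ ≫ f j = x₂ ≫ f k) (d : W ⟶ (D.obj i).left)
    (hd : d ≫ (D.obj i).hom = x₀) :
    ph D x₁ x₂ h₁₂ (ph D x₀ x₁ h₀₁ d hd) (ph_hom D x₀ x₁ h₀₁ d hd) = ph D x₀ x₂ (h₀₁.trans h₁₂) d hd :=
  congrArg Subtype.val (D.φ_comp x₀ x₁ x₂ h₀₁ h₁₂ ⟨d, hd⟩)

end ph

section pt

variable {D : SchDDFam f} {T : Over S}

/-- Evaluation of a section at a point. -/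
noncomputable def pt (s : (toDDFam f).obj T ⟶ D) {W : Scheme.{u}} {i : ι} (x : W ⟶ X i) (t : W ⟶ T.left)
    (h : x ≫ f i = t ≫ T.hom) : W ⟶ (D.obj i).left :=
  pullback.lift x t h ≫ (s.hom i).left

theorem hom_left_hom (s : (toDDFam f).obj T ⟶ D) (i : ι) :
    (s.hom i).left ≫ (D.obj i).hom = pullback.fst (f i) T.hom := Over.w (s.hom i)

@[reassoc (attr := simp)]
theorem pt_hom (s : (toDDFam f).obj T ⟶ D) {W : Scheme.{u}} {i : ι} (x : W ⟶ X i) (t : W ⟶ T.left)
    (h : x ≫ f i = t ≫ T.hom) : pt s x t h ≫ (D.obj i).hom = x := by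
  rw [pt, Category.assoc, hom_left_hom, pullback.lift_fst]

theorem comp_pt (s : (toDDFam f).obj T ⟶ D) {W W' : Scheme.{u}} (g : W' ⟶ W) {i : ι} (x : W ⟶ X i)
    (t : W ⟶ T.left) (h : x ≫ f i = t ≫ T.hom) :
    g ≫ pt s x t h = pt s (g ≫ x) (g ≫ t) (by rw [Category.assoc, h, Category.assoc]) := by
  rw [pt, pt, ← Category.assoc]
  congr 1
  apply pullback.hom_ext <;> simp

theorem pt_congr (s : (toDDFam f).obj T ⟶ D) {W : Scheme.{u}} {i : ι} {x x' : W ⟶ X i} {t t' : W ⟶ T.left}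
    (h : x ≫ f i = t ≫ T.hom) (hx : x = x') (ht : t = t') :
    pt s x t h = pt s x' t' (by rw [← hx, ← ht]; exact h) := by
  subst hx ht; rfl

/-- a point of `X i ×_S T` written through its two projections -/
theorem comp_hom_left (s : (toDDFam f).obj T ⟶ D) {W : Scheme.{u}} {i : ι} (a : W ⟶ pullback (f i) T.hom) :
    a ≫ (s.hom i).left = pt s (a ≫ pullback.fst (f i) T.hom) (a ≫ pullback.snd (f i) T.hom)
      (by rw [Category.assoc, Category.assoc, pullback.condition]) := by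
  rw [pt]
  congr 1
  apply pullback.hom_ext <;> simp

/-- Sections are compatible with the gluing bijections. -/
theorem φ_pt (s : (toDDFam f).obj T ⟶ D) {W : Scheme.{u}} {i j : ι} (x₀ : W ⟶ X i) (x₁ : W ⟶ X j)
    (t : W ⟶ T.left) (h₀ : x₀ ≫ f i = t ≫ T.hom) (h₁ : x₁ ≫ f j = t ≫ T.hom) :
    (D.φ x₀ x₁ (h₀.trans h₁.symm) ⟨pt s x₀ t h₀, pt_hom s x₀ t h₀⟩).1 = pt s x₁ t h₁ := by
  have hc := s.comm x₀ x₁ (h₀.trans h₁.symm)
    (⟨pullback.lift x₀ t h₀, pullback.lift_fst x₀ t h₀⟩ : Lifts (((toDDFam f).obj T).obj i) x₀)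
    ⟨pt s x₀ t h₀, pt_hom s x₀ t h₀⟩ rfl
  rw [hc, pt]
  congr 1
  apply pullback.hom_ext
  · change pullback.lift _ _ _ ≫ pullback.fst (f j) T.hom = _
    rw [pullback.lift_fst, pullback.lift_fst]
  · change pullback.lift _ _ _ ≫ pullback.snd (f j) T.hom = _
    rw [pullback.lift_snd, pullback.lift_snd, pullback.lift_snd]

theorem ph_pt (s : (toDDFam f).obj T ⟶ D) {W : Scheme.{u}} {i j : ι} (x₀ : W ⟶ X i) (x₁ : W ⟶ X j)
    (t : W ⟶ T.left) (h₀ : x₀ ≫ f i = t ≫ T.hom) (h₁ : x₁ ≫ f j = t ≫ T.hom) :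
    ph D x₀ x₁ (h₀.trans h₁.symm) (pt s x₀ t h₀) (pt_hom s x₀ t h₀) = pt s x₁ t h₁ :=
  φ_pt s x₀ x₁ t h₀ h₁

theorem ext_of_pt {s s' : (toDDFam f).obj T ⟶ D}
    (h : ∀ i, pt s (pullback.fst (f i) T.hom) (pullback.snd (f i) T.hom) pullback.condition =
      pt s' (pullback.fst (f i) T.hom) (pullback.snd (f i) T.hom) pullback.condition) : s = s' := by
  apply SchDDFam.hom_ext
  funext i
  apply Over.OverMorphism.ext
  have h1 := h i
  rw [pt, pt] at h1
  have e : pullback.lift (pullback.fst (f i) T.hom) (pullback.snd (f i) T.hom) pullback.condition =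
      𝟙 (pullback (f i) T.hom) := by apply pullback.hom_ext <;> simp
  rw [e, Category.id_comp, Category.id_comp] at h1
  exact h1

@[reassoc (attr := simp)]
theorem toDDFam_map_hom_left_fst {T' : Over S} (g : T' ⟶ T) (i : ι) :
    (((toDDFam f).map g).hom i).left ≫ pullback.fst (f i) T.hom = pullback.fst (f i) T'.hom := by
  simp [toDDFam]

@[reassoc (attr := simp)]
theorem toDDFam_map_hom_left_snd {T' : Over S} (g : T' ⟶ T) (i : ι) :
    (((toDDFam f).map g).hom i).left ≫ pullback.snd (f i) T.hom = pullback.snd (f i) T'.hom ≫ g.left := by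
  simp [toDDFam]

theorem map_comp_pt {T' : Over S} (g : T' ⟶ T) (s : (toDDFam f).obj T ⟶ D) {W : Scheme.{u}} {i : ι}
    (x : W ⟶ X i) (t : W ⟶ T'.left) (h : x ≫ f i = t ≫ T'.hom) :
    pt ((toDDFam f).map g ≫ s) x t h = pt s x (t ≫ g.left)
      (by rw [Category.assoc, Over.w g]; exact h) := by
  rw [pt, pt]
  change pullback.lift x t h ≫ (((toDDFam f).map g).hom i).left ≫ (s.hom i).left = _
  rw [← Category.assoc]
  congr 1
  apply pullback.hom_ext
  · rw [Category.assoc, toDDFam_map_hom_left_fst, pullback.lift_fst, pullback.lift_fst]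
  · rw [Category.assoc, toDDFam_map_hom_left_snd, pullback.lift_snd_assoc, pullback.lift_snd]

/-- Construct a section from its components. -/
noncomputable def mkSection (m : ∀ i, pullback (f i) T.hom ⟶ (D.obj i).left)
    (hm : ∀ i, m i ≫ (D.obj i).hom = pullback.fst (f i) T.hom)
    (hφ : ∀ {W : Scheme.{u}} {i j : ι} (x₀ : W ⟶ X i) (x₁ : W ⟶ X j) (t : W ⟶ T.left)
      (h₀ : x₀ ≫ f i = t ≫ T.hom) (h₁ : x₁ ≫ f j = t ≫ T.hom),
      (D.φ x₀ x₁ (h₀.trans h₁.symm) ⟨pullback.lift x₀ t h₀ ≫ m i, by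
        rw [Category.assoc, hm, pullback.lift_fst]⟩).1 = pullback.lift x₁ t h₁ ≫ m j) :
    (toDDFam f).obj T ⟶ D where
  hom i := Over.homMk (m i) (hm i)
  comm W i j x₀ x₁ h v w hw := by
    have hv : v.1 ≫ pullback.fst (f i) T.hom = x₀ := v.2
    have h₀ : x₀ ≫ f i = (v.1 ≫ pullback.snd (f i) T.hom) ≫ T.hom := by
      have e : (v.1 ≫ pullback.fst (f i) T.hom) ≫ f i = (v.1 ≫ pullback.snd (f i) T.hom) ≫ T.hom := by
        rw [Category.assoc, Category.assoc, pullback.condition]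
      rw [← e]
      exact congrArg (· ≫ f i) hv.symm
    have h₁ : x₁ ≫ f j = (v.1 ≫ pullback.snd (f i) T.hom) ≫ T.hom := h.symm.trans h₀
    have key := hφ x₀ x₁ (v.1 ≫ pullback.snd (f i) T.hom) h₀ h₁
    have ev : pullback.lift x₀ (v.1 ≫ pullback.snd (f i) T.hom) h₀ = v.1 := by
      apply pullback.hom_ext
      · rw [pullback.lift_fst, hv]
      · rw [pullback.lift_snd]
    have ew : w = ⟨pullback.lift x₀ (v.1 ≫ pullback.snd (f i) T.hom) h₀ ≫ m i, by
        rw [Category.assoc, hm, pullback.lift_fst]⟩ := by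
      apply Subtype.ext
      change w.1 = pullback.lift x₀ (v.1 ≫ pullback.snd (f i) T.hom) h₀ ≫ m i
      exact hw.trans (congrArg (· ≫ m i) ev.symm)
    rw [ew, key]
    rfl

@[simp]
theorem mkSection_hom_left (m : ∀ i, pullback (f i) T.hom ⟶ (D.obj i).left) hm hφ (i : ι) :
    ((mkSection (D := D) m hm hφ).hom i).left = m i := rfl

theorem pt_mkSection (m : ∀ i, pullback (f i) T.hom ⟶ (D.obj i).left) hm hφ {W : Scheme.{u}} {i : ι}
    (x : W ⟶ X i) (t : W ⟶ T.left) (h : x ≫ f i = t ≫ T.hom) :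
    pt (mkSection (D := D) m hm hφ) x t h = pullback.lift x t h ≫ m i := rfl

end pt

/-- `(U, ε)` represents the functor of sections of `D`. -/
def IsUniv (D : SchDDFam f) (U : Over S) (ε : (toDDFam f).obj U ⟶ D) : Prop :=
  ∀ (T : Over S) (s : (toDDFam f).obj T ⟶ D), ∃! g : T ⟶ U, (toDDFam f).map g ≫ ε = s

section G2

theorem isUniv_of_isIso (hf : Presieve.ofArrows X f ∈ Scheme.fpqcPrecoverage S) (D : SchDDFam f) (U : Over S)
    (ε : (toDDFam f).obj U ⟶ D) [IsIso ε] : IsUniv D U ε := by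
  have := DescFF.full_toDDFam f hf
  have := DescFF.faithful_toDDFam f hf
  intro T s
  obtain ⟨g, hg⟩ := (toDDFam f).map_surjective (s ≫ inv ε)
  refine ⟨g, ?_, fun g' hg' => ?_⟩
  · show (toDDFam f).map g ≫ ε = s
    rw [hg, Category.assoc, IsIso.inv_hom_id, Category.comp_id]
  have hg'' : (toDDFam f).map g' ≫ ε = s := hg'
  apply (toDDFam f).map_injective
  rw [hg, ← hg'', Category.assoc, IsIso.hom_inv_id, Category.comp_id]

end G2

section G1

/-- A morphism of descent data all of whose components are isomorphisms of schemes is an isomorphism. -/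
theorem isIso_of_isIso_left {D D' : SchDDFam f} (a : D ⟶ D') (h : ∀ i, IsIso (a.hom i).left) : IsIso a := by
  have hw : ∀ i, inv (a.hom i).left ≫ (D.obj i).hom = (D'.obj i).hom := fun i => by
    rw [IsIso.inv_comp_eq, Over.w]
  let b : D' ⟶ D :=
    { hom := fun i => Over.homMk (inv (a.hom i).left) (hw i)
      comm := fun W i j x₀ x₁ hx v w hwv => by
        have hwv' : w.1 = v.1 ≫ inv (a.hom i).left := hwv
        have hc := a.comm x₀ x₁ hx w v (by rw [hwv', Category.assoc, IsIso.inv_hom_id, Category.comp_id])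
        change (D.φ x₀ x₁ hx w).1 = (D'.φ x₀ x₁ hx v).1 ≫ inv (a.hom j).left
        rw [hc, Category.assoc, IsIso.hom_inv_id, Category.comp_id] }
  refine ⟨b, ?_, ?_⟩
  · apply SchDDFam.hom_ext
    funext i
    apply Over.OverMorphism.ext
    change (a.hom i).left ≫ inv (a.hom i).left = 𝟙 _
    rw [IsIso.hom_inv_id]
  · apply SchDDFam.hom_ext
    funext i
    apply Over.OverMorphism.ext
    change inv (a.hom i).left ≫ (a.hom i).left = 𝟙 _
    rw [IsIso.inv_hom_id]

variable (D : SchDDFam f)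

/-- The `i`-th member of the datum as a scheme over `S`. -/
noncomputable abbrev total (i : ι) : Over S := Over.mk ((D.obj i).hom ≫ f i)

/-- The tautological section of `D` over its `i`-th member: `(x, d) ↦ φ(π d, x)(d)`. -/
noncomputable def act (i : ι) : (toDDFam f).obj (total D i) ⟶ D :=
  mkSection (fun j => ph D (pullback.snd (f j) (total D i).hom ≫ (D.obj i).hom) (pullback.fst (f j) (total D i).hom)
      (by rw [Category.assoc]; exact pullback.condition.symm) (pullback.snd (f j) (total D i).hom) rfl)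
    (fun j => ph_hom D _ _ _ _ _)
    (fun {W j k} x₀ x₁ t h₀ h₁ => by
      have e₀ : pullback.lift x₀ t h₀ ≫ ph D (pullback.snd (f j) (total D i).hom ≫ (D.obj i).hom)
          (pullback.fst (f j) (total D i).hom) (by rw [Category.assoc]; exact pullback.condition.symm)
          (pullback.snd (f j) (total D i).hom) rfl =
          ph D (t ≫ (D.obj i).hom) x₀ (by rw [Category.assoc]; exact h₀.symm) t rfl := by
        rw [comp_ph]
        exact ph_congr D _ _ (by rw [pullback.lift_snd_assoc]) (pullback.lift_fst _ _ _) (pullback.lift_snd _ _ _)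
      have e₁ : pullback.lift x₁ t h₁ ≫ ph D (pullback.snd (f k) (total D i).hom ≫ (D.obj i).hom)
          (pullback.fst (f k) (total D i).hom) (by rw [Category.assoc]; exact pullback.condition.symm)
          (pullback.snd (f k) (total D i).hom) rfl =
          ph D (t ≫ (D.obj i).hom) x₁ (by rw [Category.assoc]; exact h₁.symm) t rfl := by
        rw [comp_ph]
        exact ph_congr D _ _ (by rw [pullback.lift_snd_assoc]) (pullback.lift_fst _ _ _) (pullback.lift_snd _ _ _)
      rw [e₁]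
      have := ph_ph D (t ≫ (D.obj i).hom) x₀ x₁ (by rw [Category.assoc]; exact h₀.symm) (h₀.trans h₁.symm) t rfl
      rw [← this]
      exact congrArg Subtype.val (congrArg (D.φ x₀ x₁ (h₀.trans h₁.symm)) (Subtype.ext e₀)))

theorem pt_act (i : ι) {W : Scheme.{u}} {j : ι} (x : W ⟶ X j) (t : W ⟶ (D.obj i).left)
    (h : x ≫ f j = t ≫ (total D i).hom) :
    pt (act D i) x t h = ph D (t ≫ (D.obj i).hom) x (by rw [Category.assoc]; exact h.symm) t rfl := by
  rw [act, pt_mkSection, comp_ph]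
  exact ph_congr D _ _ (by rw [pullback.lift_snd_assoc]) (pullback.lift_fst _ _ _) (pullback.lift_snd _ _ _)

variable {D}

/-- A universal pair is an isomorphism of descent data. -/
theorem isIso_of_isUniv {U : Over S} {ε : (toDDFam f).obj U ⟶ D} (hε : IsUniv D U ε) : IsIso ε := by
  apply isIso_of_isIso_left
  intro i
  obtain ⟨c, hc, -⟩ := hε (total D i) (act D i)
  have hc' : (toDDFam f).map c ≫ ε = act D i := hc
  have hcw : (D.obj i).hom ≫ f i = c.left ≫ U.hom := (Over.w c).symm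
  let δ : (D.obj i).left ⟶ pullback (f i) U.hom := pullback.lift (D.obj i).hom c.left hcw
  have hid : (D.obj i).hom ≫ f i = 𝟙 (D.obj i).left ≫ (total D i).hom := (Category.id_comp _).symm
  have h1 : δ ≫ (ε.hom i).left = 𝟙 _ := by
    have e1 : δ ≫ (ε.hom i).left = pt ε (D.obj i).hom c.left hcw := rfl
    have e2 := (map_comp_pt c ε (D.obj i).hom (𝟙 _) hid).trans (pt_congr ε _ rfl (Category.id_comp _))
    have e3 : pt ((toDDFam f).map c ≫ ε) (D.obj i).hom (𝟙 _) hid = pt (act D i) (D.obj i).hom (𝟙 _) hid := by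
      rw [hc']
    have e4 := pt_act D i (D.obj i).hom (𝟙 _) hid
    have e5 := ph_congr D (i := i) (j := i) (x₀ := 𝟙 (D.obj i).left ≫ (D.obj i).hom) (x₁ := (D.obj i).hom)
      (by rw [Category.id_comp]) (d := 𝟙 _) rfl (Category.id_comp _) rfl rfl
    have e6 := ph_self D (D.obj i).hom (𝟙 _) (Category.id_comp _)
    exact e1.trans (e2.symm.trans (e3.trans (e4.trans (e5.trans e6))))
  have h2 : (ε.hom i).left ≫ δ = 𝟙 _ := by
    apply pullback.hom_ext
    · rw [Category.assoc, pullback.lift_fst, hom_left_hom, Category.id_comp]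
    · rw [Category.assoc, pullback.lift_snd, Category.id_comp]
      -- uniqueness part of the universal property
      let T : Over S := Over.mk (pullback.snd (f i) U.hom ≫ U.hom)
      have hg₁w : ((ε.hom i).left ≫ c.left) ≫ U.hom = T.hom := by
        change ((ε.hom i).left ≫ c.left) ≫ U.hom = pullback.snd (f i) U.hom ≫ U.hom
        rw [Category.assoc, ← hcw, ← Category.assoc, hom_left_hom, pullback.condition]
      let g₁ : T ⟶ U := Over.homMk ((ε.hom i).left ≫ c.left) hg₁w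
      let g₂ : T ⟶ U := Over.homMk (pullback.snd (f i) U.hom) rfl
      obtain ⟨g₀, -, huniq⟩ := hε T ((toDDFam f).map g₂ ≫ ε)
      have hg₂ : g₂ = g₀ := huniq g₂ rfl
      have hg₁ : g₁ = g₀ := by
        apply huniq
        show (toDDFam f).map g₁ ≫ ε = (toDDFam f).map g₂ ≫ ε
        apply ext_of_pt
        intro j
        let x' := pullback.fst (f j) T.hom
        let b := pullback.snd (f j) T.hom
        have hcond : x' ≫ f j = b ≫ T.hom := pullback.condition
        have hcond2 : x' ≫ f j = (b ≫ pullback.snd (f i) U.hom) ≫ U.hom :=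
          hcond.trans (Category.assoc _ _ _).symm
        have hbπ : (b ≫ pullback.fst (f i) U.hom) ≫ f i = (b ≫ pullback.snd (f i) U.hom) ≫ U.hom := by
          rw [Category.assoc, Category.assoc, pullback.condition]
        have hcond3 : x' ≫ f j = (b ≫ (ε.hom i).left) ≫ (total D i).hom := by
          change x' ≫ f j = (b ≫ (ε.hom i).left) ≫ (D.obj i).hom ≫ f i
          calc x' ≫ f j = b ≫ pullback.snd (f i) U.hom ≫ U.hom := by rw [hcond2, Category.assoc]
            _ = b ≫ pullback.fst (f i) U.hom ≫ f i := by rw [pullback.condition]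
            _ = b ≫ ((ε.hom i).left ≫ (D.obj i).hom) ≫ f i := by rw [hom_left_hom]
            _ = (b ≫ (ε.hom i).left) ≫ (D.obj i).hom ≫ f i := by simp only [Category.assoc]
        -- left side
        have l0 := map_comp_pt g₁ ε x' b hcond
        have l1 := (map_comp_pt c ε x' (b ≫ (ε.hom i).left) hcond3).trans
          (pt_congr ε _ rfl (Category.assoc _ _ _))
        have l2 : pt ((toDDFam f).map c ≫ ε) x' (b ≫ (ε.hom i).left) hcond3 =
            pt (act D i) x' (b ≫ (ε.hom i).left) hcond3 := by rw [hc']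
        have l3 := pt_act D i x' (b ≫ (ε.hom i).left) hcond3
        have l4 := ph_congr D (i := i) (j := j) (x₀ := (b ≫ (ε.hom i).left) ≫ (D.obj i).hom) (x₁ := x')
          (by rw [Category.assoc]; exact hcond3.symm) (d := b ≫ (ε.hom i).left) rfl
          (show (b ≫ (ε.hom i).left) ≫ (D.obj i).hom = b ≫ pullback.fst (f i) U.hom by
            rw [Category.assoc, hom_left_hom]) rfl (comp_hom_left ε b)
        have l5 := ph_pt ε (b ≫ pullback.fst (f i) U.hom) x' (b ≫ pullback.snd (f i) U.hom) hbπ hcond2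
        -- right side
        have r0 := map_comp_pt g₂ ε x' b hcond
        exact l0.trans (l1.symm.trans (l2.trans (l3.trans (l4.trans (l5.trans r0.symm)))))
      have := congrArg (fun g => g.left) (hg₁.trans hg₂.symm)
      exact this
  exact ⟨δ, h2, h1⟩

end G1

end Groth.Agent.Lib.Helper4.DescGamma
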