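import Mathlib
import Groth.Prelude.Def_DescFam
import Groth.Agent.Lib.Helper4.DescFF

/-!
# Descent of open immersions along fpqc covering families (helper4)

* `isOpen_of_fpqc`: a subset of `S` whose preimages under the members of an fpqc covering family are open is open
  (fpqc covering families are "topological quotients").
* `isEffective_of_isOpenImmersion`: descent data all of whose members are open immersions are effective.
-/

set_option autoImplicit false
set_option backward.isDefEq.respectTransparency false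
set_option linter.style.haveILetI false
universe w u
open CategoryTheory CategoryTheory.Limits AlgebraicGeometry

namespace Groth.Agent.Lib.Helper4.DescOpen

theorem isOpen_of_openCover {Y : Scheme.{u}} (𝒲 : Y.OpenCover) (A : Set Y)
    (h : ∀ k, IsOpen ((𝒲.f k) ⁻¹' A)) : IsOpen A := by
  rw [𝒲.isOpenCover_opensRange.isOpen_iff_inter]
  intro i
  rw [Scheme.Hom.coe_opensRange, ← Set.image_preimage_eq_inter_range]
  exact (𝒲.f i).isOpenEmbedding.isOpenMap _ (h i)

theorem isOpen_of_finite_affine {B : Scheme.{u}} {κ : Type w} [Finite κ] (T : κ → Scheme.{u})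
    [∀ k, IsAffine (T k)] [IsAffine B] (g : ∀ k, T k ⟶ B) (hflat : ∀ k, Flat (g k))
    (hsurj : ∀ b : B, ∃ k, b ∈ Set.range (g k)) (A : Set B)
    (h : ∀ k, IsOpen ((g k) ⁻¹' A)) : IsOpen A := by
  let p : ∐ T ⟶ B := Sigma.desc g
  have hp1 : Surjective p := ⟨fun b => by
    obtain ⟨i, t, rfl⟩ := hsurj b
    exact ⟨Sigma.ι T i t, by rw [← Scheme.Hom.comp_apply, Sigma.ι_desc]⟩⟩
  have hp2 : Flat p := by
    rw [IsZariskiLocalAtSource.iff_of_openCover (P := @Flat) (sigmaOpenCover T)]
    intro i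
    have : (sigmaOpenCover T).f i ≫ p = g i := Sigma.ι_desc _ _
    rw [this]; exact hflat i
  have hp3 : QuasiCompact p := inferInstance
  rw [← (Flat.isQuotientMap_of_surjective p).isOpen_preimage]
  refine isOpen_of_openCover (sigmaOpenCover T) _ (fun k => ?_)
  have e : (sigmaOpenCover T).f k ≫ p = g k := Sigma.ι_desc _ _
  rw [← Set.preimage_comp, ← TopCat.coe_comp, ← Scheme.Hom.comp_base, e]
  exact h k

theorem isOpen_of_fpqc {S : Scheme.{u}} {ι : Type w} {X : ι → Scheme.{u}} (f : ∀ i, X i ⟶ S)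
    (hf : Presieve.ofArrows X f ∈ Scheme.fpqcPrecoverage S) (U : Set S)
    (h : ∀ i, IsOpen ((f i) ⁻¹' U)) : IsOpen U := by
  have hf' : Presieve.ofArrows X f ∈ Scheme.propQCPrecoverage (@Flat : MorphismProperty Scheme.{u}) S := hf
  let 𝒰 : Scheme.Cover.{w} (Scheme.precoverage @Flat) S :=
    { I₀ := ι, X := X, f := f, mem₀ := hf'.2 }
  have hqc : QuasiCompactCover 𝒰.toPreZeroHypercover :=
    Scheme.presieve₀_mem_qcPrecoverage_iff.mp hf'.1
  refine isOpen_of_openCover S.affineCover U (fun j => ?_)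
  set V := S.affineCover.X j
  set ι' : V ⟶ S := S.affineCover.f j
  let 𝒰' : Scheme.Cover.{w} (Scheme.precoverage @Flat) V := 𝒰.pullback₁ ι'
  have : QuasiCompactCover 𝒰'.toPreZeroHypercover :=
    inferInstanceAs (QuasiCompactCover (𝒰.toPreZeroHypercover.pullback₁ ι'))
  have : CompactSpace V := inferInstance
  have hex : ∃ (𝒱 : Scheme.AffineCover.{w} @Flat V) (f : 𝒱.cover ⟶ 𝒰'),
      Finite 𝒱.I₀ ∧ ∀ j, IsOpenImmersion (f.h₀ j) := QuasiCompactCover.exists_hom 𝒰'
  obtain ⟨𝒱, φ, hfin, hopen⟩ := hex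
  refine isOpen_of_finite_affine (fun k : 𝒱.I₀ => Spec (𝒱.X k)) (fun k => 𝒱.f k)
    (fun k => 𝒱.map_prop k) (fun b => ⟨𝒱.idx b, 𝒱.covers b⟩) _ (fun k => ?_)
  set i := φ.s₀ k with hi
  let g : Spec (𝒱.X k) ⟶ X i := φ.h₀ k ≫ pullback.snd ι' (f i)
  have hg : 𝒱.f k ≫ ι' = g ≫ f i := by
    have h1 : φ.h₀ k ≫ pullback.fst ι' (f i) = 𝒱.f k := φ.w₀ k
    rw [← h1, Category.assoc, pullback.condition, Category.assoc]
  rw [← Set.preimage_comp, ← TopCat.coe_comp, ← Scheme.Hom.comp_base, hg, Scheme.Hom.comp_base,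
    TopCat.coe_comp, Set.preimage_comp]
  exact (h i).preimage g.continuous

end Groth.Agent.Lib.Helper4.DescOpen

namespace Groth.Agent.Lib.Helper4.DescOpen

variable {S : Scheme.{u}} {ι : Type w} {X : ι → Scheme.{u}} {f : ∀ i, X i ⟶ S}

/-- Any family of morphisms over the `X i` into a descent datum with monomorphic structure maps is a morphism of
descent data. -/
def homOfMono {D D' : Desc.SchDDFam f} (hD' : ∀ i, Mono (D'.obj i).hom) (a : ∀ i, D.obj i ⟶ D'.obj i) :
    D ⟶ D' :=
  ⟨a, fun T i j x₀ x₁ h v w _ => by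
    rw [← cancel_mono (D'.obj j).hom, Category.assoc, Over.w (a j)]
    exact (D'.φ x₀ x₁ h w).2.trans (D.φ x₀ x₁ h v).2.symm⟩

/-- Descent data with monomorphic structure maps are isomorphic as soon as their members are. -/
def isoOfMono {D D' : Desc.SchDDFam f} (hD : ∀ i, Mono (D.obj i).hom) (hD' : ∀ i, Mono (D'.obj i).hom)
    (a : ∀ i, D.obj i ≅ D'.obj i) : D ≅ D' where
  hom := homOfMono hD' (fun i => (a i).hom)
  inv := homOfMono hD (fun i => (a i).inv)
  hom_inv_id := by
    apply Desc.SchDDFam.hom_ext; funext i; exact (a i).hom_inv_id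
  inv_hom_id := by
    apply Desc.SchDDFam.hom_ext; funext i; exact (a i).inv_hom_id

/-- Open immersions descend along fpqc covering families. -/
theorem isEffective_of_isOpenImmersion (hf : Presieve.ofArrows X f ∈ Scheme.fpqcPrecoverage S)
    (D : Desc.SchDDFam f) (hD : ∀ i, IsOpenImmersion (D.obj i).hom) : D.IsEffective := by
  let Uset : Set S := ⋃ i, (f i) '' (Set.range (D.obj i).hom)
  have key : ∀ i, (f i) ⁻¹' Uset = Set.range (D.obj i).hom := by
    intro i
    apply Set.Subset.antisymm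
    · intro x hx
      obtain ⟨j, y, ⟨z, rfl⟩, hy⟩ := Set.mem_iUnion.mp hx
      let q : (D.obj j).left ⟶ S := (D.obj j).hom ≫ f j
      obtain ⟨t, ht1, ht2⟩ := Scheme.Pullback.exists_preimage_pullback (f := f i) (g := q) x z (by
        rw [Scheme.Hom.comp_apply]; exact hy.symm)
      let x₀ := pullback.fst (f i) q
      let v₁ := pullback.snd (f i) q
      have h : (v₁ ≫ (D.obj j).hom) ≫ f j = x₀ ≫ f i := by
        rw [Category.assoc]; exact pullback.condition.symm
      let u := D.φ (v₁ ≫ (D.obj j).hom) x₀ h ⟨v₁, rfl⟩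
      have hu : u.1 ≫ (D.obj i).hom = x₀ := u.2
      refine ⟨u.1 t, ?_⟩
      rw [← Scheme.Hom.comp_apply, hu]; exact ht1
    · rintro _ ⟨z, rfl⟩
      exact Set.mem_iUnion.mpr ⟨i, _, ⟨z, rfl⟩, rfl⟩
  have hopen : IsOpen Uset := isOpen_of_fpqc f hf Uset (fun i => by
    rw [key]; exact (D.obj i).hom.isOpenEmbedding.isOpen_range)
  let U : S.Opens := ⟨Uset, hopen⟩
  have hmono : ∀ i, Mono (D.obj i).hom := fun i => inferInstance
  have hmono' : ∀ i, Mono (((Desc.toDDFam f).obj (Over.mk U.ι)).obj i).hom := fun i => by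
    change Mono (pullback.fst (f i) U.ι); infer_instance
  have hrange : ∀ i, Set.range (pullback.fst (f i) U.ι) = Set.range (D.obj i).hom := fun i => by
    rw [Scheme.Pullback.range_fst, Scheme.Opens.range_ι]; exact key i
  refine ⟨Over.mk U.ι, ⟨isoOfMono hmono' hmono (fun i => ?_)⟩⟩
  exact Over.isoMk (IsOpenImmersion.isoOfRangeEq (pullback.fst (f i) U.ι) (D.obj i).hom (hrange i))
    (IsOpenImmersion.isoOfRangeEq_hom_fac _ _ _)

end Groth.Agent.Lib.Helper4.DescOpen
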