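import Mathlib
import Groth.Prelude.Def_DescFam
import Groth.Agent.Lib.Helper4.DescGamma
import Groth.Agent.Lib.Helper4.DescOpen

/-!
# Open sub-data of descent data (helper4)

* `homOfFactor`: a factorisation through a componentwise monomorphic morphism of descent data is a morphism of descent data.
* `subDD`, `subHom`: a family of monomorphisms into the members of a descent datum whose functors of points are stable
  under the gluing bijections is a descent datum.
* `Stable D W`: the family of opens `W i ⊆ D.obj i` is stable under the gluing bijections; `restrict`, `restrictHom`.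
* `stable_opensRange`: the ranges of a componentwise open immersion of descent data are stable.
* `existsUnique_opens`: opens descend along fpqc covering families.
* `exists_restrict_eff`: a stable family of opens inside an effective open sub-datum is an effective open sub-datum.
-/

set_option autoImplicit false
set_option linter.style.haveILetI false
set_option backward.isDefEq.respectTransparency false
universe w u
open CategoryTheory CategoryTheory.Limits AlgebraicGeometry

namespace Groth.Agent.Lib.Helper4.DescRestrict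

open Desc Groth.Agent.Lib.Helper4.DescGamma

variable {S : Scheme.{u}} {ι : Type w} {X : ι → Scheme.{u}} {f : ∀ i, X i ⟶ S}

section factor

/-- A factorisation through a componentwise monomorphic morphism of descent data is a morphism of descent data. -/
def homOfFactor {D₁ D₂ D : SchDDFam f} (a₁ : D₁ ⟶ D) (a₂ : D₂ ⟶ D) (hm : ∀ i, Mono (a₂.hom i).left)
    (c : ∀ i, D₁.obj i ⟶ D₂.obj i) (hc : ∀ i, c i ≫ a₂.hom i = a₁.hom i) : D₁ ⟶ D₂ :=
  ⟨c, fun T i j x₀ x₁ h v w hw => by
    haveI := hm j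
    rw [← cancel_mono (a₂.hom j).left, Category.assoc]
    have h1 := a₂.comm x₀ x₁ h w (a₂.push w) rfl
    have h2 := a₁.comm x₀ x₁ h v (a₁.push v) rfl
    have e : a₂.push w = a₁.push v := Subtype.ext (by
      change w.1 ≫ (a₂.hom i).left = v.1 ≫ (a₁.hom i).left
      rw [hw, Category.assoc, ← Over.comp_left, hc])
    rw [← h1, e, h2, ← Over.comp_left, hc]⟩

@[simp] theorem homOfFactor_hom {D₁ D₂ D : SchDDFam f} (a₁ : D₁ ⟶ D) (a₂ : D₂ ⟶ D) (hm : ∀ i, Mono (a₂.hom i).left)
    (c : ∀ i, D₁.obj i ⟶ D₂.obj i) (hc : ∀ i, c i ≫ a₂.hom i = a₁.hom i) (i : ι) :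
    (homOfFactor a₁ a₂ hm c hc).hom i = c i := rfl

theorem homOfFactor_comp {D₁ D₂ D : SchDDFam f} (a₁ : D₁ ⟶ D) (a₂ : D₂ ⟶ D) (hm : ∀ i, Mono (a₂.hom i).left)
    (c : ∀ i, D₁.obj i ⟶ D₂.obj i) (hc : ∀ i, c i ≫ a₂.hom i = a₁.hom i) :
    homOfFactor a₁ a₂ hm c hc ≫ a₂ = a₁ := by
  apply SchDDFam.hom_ext; funext i; exact hc i

end factor

section sub

variable (D : SchDDFam f) (V' : ∀ i, Over (X i)) (a : ∀ i, V' i ⟶ D.obj i)

/-- Push a point of `V' i` to a point of `D.obj i`. -/
def pushL {T : Scheme.{u}} {i : ι} {x : T ⟶ X i} (v : Lifts (V' i) x) : Lifts (D.obj i) x :=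
  ⟨v.1 ≫ (a i).left, by rw [Category.assoc, Over.w (a i)]; exact v.2⟩

/-- The family of monomorphisms `a i : V' i ⟶ D.obj i` has functors of points stable under the gluing bijections. -/
structure IsSub : Prop where
  mono : ∀ i, Mono (a i).left
  stable : ∀ ⦃T : Scheme.{u}⦄ ⦃i j : ι⦄ (x₀ : T ⟶ X i) (x₁ : T ⟶ X j) (h : x₀ ≫ f i = x₁ ≫ f j)
    (v : Lifts (V' i) x₀), ∃ w : T ⟶ (V' j).left, w ≫ (a j).left = (D.φ x₀ x₁ h (pushL D V' a v)).1

variable {D V' a}

theorem pushL_injective (H : IsSub D V' a) {T : Scheme.{u}} {i : ι} {x : T ⟶ X i} :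
    Function.Injective (pushL D V' a (T := T) (i := i) (x := x)) := by
  intro v w e
  apply Subtype.ext
  haveI := H.mono i
  rw [← cancel_mono (a i).left]
  exact congrArg Subtype.val e

/-- The restricted gluing map. -/
noncomputable def subφ (H : IsSub D V' a) {T : Scheme.{u}} {i j : ι} (x₀ : T ⟶ X i) (x₁ : T ⟶ X j)
    (h : x₀ ≫ f i = x₁ ≫ f j) (v : Lifts (V' i) x₀) : Lifts (V' j) x₁ :=
  ⟨(H.stable x₀ x₁ h v).choose, by
    have e := (H.stable x₀ x₁ h v).choose_spec
    rw [← Over.w (a j), ← Category.assoc, e]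
    exact (D.φ x₀ x₁ h _).2⟩

theorem pushL_subφ (H : IsSub D V' a) {T : Scheme.{u}} {i j : ι} (x₀ : T ⟶ X i) (x₁ : T ⟶ X j)
    (h : x₀ ≫ f i = x₁ ≫ f j) (v : Lifts (V' i) x₀) :
    pushL D V' a (subφ H x₀ x₁ h v) = D.φ x₀ x₁ h (pushL D V' a v) :=
  Subtype.ext (H.stable x₀ x₁ h v).choose_spec

variable (D V' a) in
/-- The sub-descent datum. -/
noncomputable def subDD (H : IsSub D V' a) : SchDDFam f where
  obj := V'
  φ T i j x₀ x₁ h :=
    { toFun := subφ H x₀ x₁ h
      invFun := subφ H x₁ x₀ h.symm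
      left_inv := fun v => pushL_injective H (by
        rw [pushL_subφ, pushL_subφ, D.φ_comp]; exact D.φ_self _ _)
      right_inv := fun v => pushL_injective H (by
        rw [pushL_subφ, pushL_subφ, D.φ_comp]; exact D.φ_self _ _) }
  φ_natural T T' g i j x₀ x₁ h y₀ y₁ hy₀ hy₁ h' v v' hv := by
    haveI := H.mono j
    rw [← cancel_mono (a j).left, Category.assoc]
    have e1 : (subφ H y₀ y₁ h' v').1 ≫ (a j).left = (D.φ y₀ y₁ h' (pushL D V' a v')).1 :=
      congrArg Subtype.val (pushL_subφ H y₀ y₁ h' v')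
    have e2 : (subφ H x₀ x₁ h v).1 ≫ (a j).left = (D.φ x₀ x₁ h (pushL D V' a v)).1 :=
      congrArg Subtype.val (pushL_subφ H x₀ x₁ h v)
    change (subφ H y₀ y₁ h' v').1 ≫ (a j).left = g ≫ (subφ H x₀ x₁ h v).1 ≫ (a j).left
    rw [e1, e2]
    exact D.φ_natural g x₀ x₁ h y₀ y₁ hy₀ hy₁ h' (pushL D V' a v) (pushL D V' a v') (by
      change v'.1 ≫ (a i).left = g ≫ v.1 ≫ (a i).left
      rw [hv, Category.assoc])
  φ_self T i x v := pushL_injective H (by
    change pushL D V' a (subφ H x x rfl v) = _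
    rw [pushL_subφ]; exact D.φ_self _ _)
  φ_comp T i j k x₀ x₁ x₂ h₀₁ h₁₂ v := pushL_injective H (by
    change pushL D V' a (subφ H x₁ x₂ h₁₂ (subφ H x₀ x₁ h₀₁ v)) = pushL D V' a (subφ H x₀ x₂ _ v)
    rw [pushL_subφ, pushL_subφ, pushL_subφ, D.φ_comp])

variable (D V' a) in
/-- The inclusion of the sub-descent datum. -/
noncomputable def subHom (H : IsSub D V' a) : subDD D V' a H ⟶ D :=
  ⟨a, fun T i j x₀ x₁ h v w hw => by
    have e : w = pushL D V' a v := Subtype.ext hw
    rw [e]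
    exact (congrArg Subtype.val (pushL_subφ H x₀ x₁ h v)).symm⟩

@[simp] theorem subHom_hom (H : IsSub D V' a) (i : ι) : (subHom D V' a H).hom i = a i := rfl

end sub

section opens

variable (D : SchDDFam f) (W : ∀ i, (D.obj i).left.Opens)

/-- The family of opens `W i` of the members of `D` is stable under the gluing bijections. -/
def Stable : Prop :=
  ∀ ⦃T : Scheme.{u}⦄ ⦃i j : ι⦄ (x₀ : T ⟶ X i) (x₁ : T ⟶ X j) (h : x₀ ≫ f i = x₁ ≫ f j)
    (v : Lifts (D.obj i) x₀) (t : T), v.1 t ∈ W i → (D.φ x₀ x₁ h v).1 t ∈ W j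

/-- The members of the restricted datum. -/
def rObj (i : ι) : Over (X i) := Over.mk ((W i).ι ≫ (D.obj i).hom)

/-- The inclusions of the members of the restricted datum. -/
def rHom (i : ι) : rObj D W i ⟶ D.obj i := Over.homMk (W i).ι rfl

variable {D W}

theorem isSub_restrict (hW : Stable D W) : IsSub D (rObj D W) (rHom D W) where
  mono i := inferInstanceAs (Mono (W i).ι)
  stable T i j x₀ x₁ h v := by
    have hr : Set.range (D.φ x₀ x₁ h (pushL D (rObj D W) (rHom D W) v)).1 ⊆ Set.range (W j).ι := by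
      rintro _ ⟨t, rfl⟩
      rw [Scheme.Opens.range_ι]
      refine hW x₀ x₁ h _ t ?_
      change (v.1 ≫ (W i).ι) t ∈ W i
      rw [Scheme.Hom.comp_apply]
      exact (v.1 t).2
    exact ⟨IsOpenImmersion.lift (W j).ι _ hr, IsOpenImmersion.lift_fac _ _ _⟩

variable (D W) in
/-- The restriction of a descent datum to a stable family of opens. -/
noncomputable def restrict (hW : Stable D W) : SchDDFam f := subDD D (rObj D W) (rHom D W) (isSub_restrict hW)

variable (D W) in
/-- The inclusion of the restriction. -/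
noncomputable def restrictHom (hW : Stable D W) : restrict D W hW ⟶ D :=
  subHom D (rObj D W) (rHom D W) (isSub_restrict hW)

@[simp] theorem restrictHom_hom_left (hW : Stable D W) (i : ι) : ((restrictHom D W hW).hom i).left = (W i).ι := rfl

instance (hW : Stable D W) (i : ι) : IsOpenImmersion ((restrictHom D W hW).hom i).left :=
  inferInstanceAs (IsOpenImmersion (W i).ι)

/-- The ranges of a componentwise open immersion of descent data form a stable family. -/
theorem stable_opensRange {D' : SchDDFam f} (a : D' ⟶ D) [∀ i, IsOpenImmersion (a.hom i).left] :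
    Stable D (fun i => (a.hom i).left.opensRange) := by
  intro T i j x₀ x₁ h v t ht
  let T₀ : T.Opens := v.1 ⁻¹ᵁ (a.hom i).left.opensRange
  let g : (T₀ : Scheme.{u}) ⟶ T := T₀.ι
  have hr : Set.range (g ≫ v.1) ⊆ Set.range (a.hom i).left := by
    rintro _ ⟨t', rfl⟩
    rw [Scheme.Hom.comp_apply]
    exact t'.2
  let v' : (T₀ : Scheme.{u}) ⟶ (D'.obj i).left := IsOpenImmersion.lift (a.hom i).left (g ≫ v.1) hr
  have hv' : v' ≫ (a.hom i).left = g ≫ v.1 := IsOpenImmersion.lift_fac _ _ _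
  have hv'' : v' ≫ (D'.obj i).hom = g ≫ x₀ := by
    rw [← Over.w (a.hom i), ← Category.assoc, hv', Category.assoc, v.2]
  have h' : (g ≫ x₀) ≫ f i = (g ≫ x₁) ≫ f j := by rw [Category.assoc, h, Category.assoc]
  have h1 := a.comm (g ≫ x₀) (g ≫ x₁) h' ⟨v', hv''⟩ ⟨g ≫ v.1, by rw [Category.assoc, v.2]⟩ hv'.symm
  have h2 := D.φ_natural g x₀ x₁ h (g ≫ x₀) (g ≫ x₁) rfl rfl h' v ⟨g ≫ v.1, by rw [Category.assoc, v.2]⟩ rfl
  rw [h1] at h2
  have h3 : (D.φ x₀ x₁ h v).1 t = (g ≫ (D.φ x₀ x₁ h v).1) ⟨t, ht⟩ := by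
    rw [Scheme.Hom.comp_apply]; rfl
  rw [h3, ← h2, Scheme.Hom.comp_apply]
  exact ⟨_, rfl⟩

theorem stable_inf {W' : ∀ i, (D.obj i).left.Opens} (hW : Stable D W) (hW' : Stable D W') :
    Stable D (fun i => W i ⊓ W' i) :=
  fun _ _ _ x₀ x₁ h v t ht => ⟨hW x₀ x₁ h v t ht.1, hW' x₀ x₁ h v t ht.2⟩

end opens

section descend

/-- Opens descend along fpqc covering families. -/
theorem existsUnique_opens {T : Scheme.{u}} {κ : Type w} {Ti : κ → Scheme.{u}}
    (g : ∀ i, Ti i ⟶ T) (hg : Presieve.ofArrows Ti g ∈ Scheme.fpqcPrecoverage T)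
    (W : ∀ i, (Ti i).Opens)
    (hW : ∀ i j, (pullback.fst (g i) (g j)) ⁻¹ᵁ (W i) = (pullback.snd (g i) (g j)) ⁻¹ᵁ (W j)) :
    ∃! V : T.Opens, ∀ i, (g i) ⁻¹ᵁ V = W i := by
  classical
  let Uset : Set T := ⋃ i, (g i) '' (W i : Set (Ti i))
  have key : ∀ i, (g i) ⁻¹' Uset = (W i : Set (Ti i)) := by
    intro i
    apply Set.Subset.antisymm
    · intro x hx
      obtain ⟨j, y, hyW, hy⟩ := Set.mem_iUnion.mp hx
      obtain ⟨t, ht1, ht2⟩ := Scheme.Pullback.exists_preimage_pullback (f := g i) (g := g j) x y hy.symm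
      have h1 : t ∈ (pullback.snd (g i) (g j)) ⁻¹ᵁ (W j) := by
        change (pullback.snd (g i) (g j)) t ∈ W j
        rw [ht2]; exact hyW
      rw [← hW i j] at h1
      have h2 : (pullback.fst (g i) (g j)) t ∈ W i := h1
      rw [ht1] at h2
      exact h2
    · intro x hx
      exact Set.mem_iUnion.mpr ⟨i, x, hx, rfl⟩
  have hopen : IsOpen Uset :=
    DescOpen.isOpen_of_fpqc g hg Uset (fun i => by rw [key]; exact (W i).2)
  have hsurj : ∀ x : T, ∃ i, ∃ y : Ti i, (g i) y = x := by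
    intro x
    have hg' : Presieve.ofArrows Ti g ∈
        Scheme.propQCPrecoverage (@Flat : MorphismProperty Scheme.{u}) T := hg
    obtain ⟨i, y, hy⟩ := ((Scheme.ofArrows_mem_precoverage_iff (P := @Flat)).mp hg'.2).1 x
    exact ⟨i, y, hy⟩
  refine ⟨⟨Uset, hopen⟩, fun i => ?_, fun V hV => ?_⟩
  · ext x
    exact Set.ext_iff.mp (key i) x
  · ext x
    obtain ⟨i, y, rfl⟩ := hsurj x
    have h1 : (g i) y ∈ V ↔ y ∈ W i := by
      rw [← hV i]; rfl
    have h2 : (g i) y ∈ Uset ↔ y ∈ W i := Set.ext_iff.mp (key i) y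
    exact h1.trans h2.symm

/-- The square expressing that `X ×_S A ⟶ X ×_S B` is the base change of `A ⟶ B`. -/
theorem isPullback_map_snd {Y A B : Scheme.{u}} (p : Y ⟶ S) (a : A ⟶ S) (b : B ⟶ S) (m : A ⟶ B)
    (hm : m ≫ b = a) :
    IsPullback (pullback.map p a p b (𝟙 _) m (𝟙 _) (by simp) (by simp [hm])) (pullback.snd p a)
      (pullback.snd p b) m := by
  have hbig : IsPullback (pullback.fst p a) (pullback.snd p a) p (m ≫ b) := by
    rw [hm]; exact IsPullback.of_hasPullback p a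
  have hright : IsPullback (pullback.fst p b) (pullback.snd p b) p b := IsPullback.of_hasPullback p b
  have h1 : pullback.map p a p b (𝟙 _) m (𝟙 _) (by simp) (by simp [hm]) ≫ pullback.fst p b =
      pullback.fst p a := by simp
  rw [← h1] at hbig
  exact IsPullback.of_right hbig (by simp) hright

end descend

section eff

variable {D : SchDDFam f}

/-- Pointwise compatibility of the preimages of a stable family under a morphism from a canonical datum. -/
theorem mem_of_stable {U : Over S} (ε : (toDDFam f).obj U ⟶ D) {W : ∀ i, (D.obj i).left.Opens} (hW : Stable D W)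
    {T : Scheme.{u}} {i j : ι} (a : T ⟶ pullback (f i) U.hom) (b : T ⟶ pullback (f j) U.hom)
    (hab : a ≫ pullback.snd (f i) U.hom = b ≫ pullback.snd (f j) U.hom) (t : T)
    (ht : (ε.hom i).left (a t) ∈ W i) : (ε.hom j).left (b t) ∈ W j := by
  let x₀ : T ⟶ X i := a ≫ pullback.fst (f i) U.hom
  let x₁ : T ⟶ X j := b ≫ pullback.fst (f j) U.hom
  have h : x₀ ≫ f i = x₁ ≫ f j := by
    change (a ≫ pullback.fst (f i) U.hom) ≫ f i = (b ≫ pullback.fst (f j) U.hom) ≫ f j
    rw [Category.assoc, Category.assoc, pullback.condition, pullback.condition, ← Category.assoc, hab, Category.assoc]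
  let va : Lifts (((toDDFam f).obj U).obj i) x₀ := ⟨a, rfl⟩
  have hwa : (a ≫ (ε.hom i).left) ≫ (D.obj i).hom = x₀ := by
    rw [Category.assoc, Over.w (ε.hom i)]; rfl
  have hc := ε.comm x₀ x₁ h va ⟨a ≫ (ε.hom i).left, hwa⟩ rfl
  have hb : (((toDDFam f).obj U).φ x₀ x₁ h va).1 = b := by
    change pullback.lift _ _ _ = b
    apply pullback.hom_ext
    · rw [pullback.lift_fst]
    · rw [pullback.lift_snd]; exact hab
  rw [hb] at hc
  have h2 := hW x₀ x₁ h ⟨a ≫ (ε.hom i).left, hwa⟩ t (by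
    change (a ≫ (ε.hom i).left) t ∈ W i
    rw [Scheme.Hom.comp_apply]; exact ht)
  rw [hc, Scheme.Hom.comp_apply] at h2
  exact h2

/-- A stable family of opens inside an effective open sub-datum is an effective open sub-datum. -/
theorem exists_restrict_eff (hf : Presieve.ofArrows X f ∈ Scheme.fpqcPrecoverage S) (U : Over S)
    (ε : (toDDFam f).obj U ⟶ D) [hε : ∀ i, IsOpenImmersion (ε.hom i).left]
    (W : ∀ i, (D.obj i).left.Opens) (hW : Stable D W) (hle : ∀ i, W i ≤ (ε.hom i).left.opensRange) :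
    ∃ (U₀ : Over S) (m : U₀ ⟶ U) (ε₀ : (toDDFam f).obj U₀ ⟶ D), IsOpenImmersion m.left ∧
      (toDDFam f).map m ≫ ε = ε₀ ∧ (∀ i, IsOpenImmersion (ε₀.hom i).left) ∧
      ∀ i, Set.range (ε₀.hom i).left = SetLike.coe (W i) := by
  let q : ∀ i, pullback (f i) U.hom ⟶ U.left := fun i => pullback.snd (f i) U.hom
  have hq : Presieve.ofArrows (fun i => pullback (f i) U.hom) q ∈ Scheme.fpqcPrecoverage U.left :=
    DescFF.pullback_cover f hf U.hom
  let W' : ∀ i, (pullback (f i) U.hom).Opens := fun i => (ε.hom i).left ⁻¹ᵁ (W i)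
  have hcompat : ∀ i j, (pullback.fst (q i) (q j)) ⁻¹ᵁ (W' i) = (pullback.snd (q i) (q j)) ⁻¹ᵁ (W' j) := by
    intro i j
    ext t
    constructor
    · intro ht
      exact mem_of_stable ε hW (pullback.fst (q i) (q j)) (pullback.snd (q i) (q j)) pullback.condition t ht
    · intro ht
      exact mem_of_stable ε hW (pullback.snd (q i) (q j)) (pullback.fst (q i) (q j)) pullback.condition.symm t ht
  obtain ⟨U₀, hU₀, -⟩ := existsUnique_opens q hq W' hcompat
  let U₀' : Over S := Over.mk (U₀.ι ≫ U.hom)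
  let m : U₀' ⟶ U := Over.homMk U₀.ι rfl
  have hsq : ∀ i, IsPullback (((toDDFam f).map m).hom i).left (pullback.snd (f i) U₀'.hom) (q i) U₀.ι := fun i =>
    isPullback_map_snd (f i) U₀'.hom U.hom U₀.ι rfl
  have hμ : ∀ i, IsOpenImmersion (((toDDFam f).map m).hom i).left := fun i =>
    MorphismProperty.of_isPullback (P := @IsOpenImmersion) (hsq i).flip inferInstance
  have hrange : ∀ i, Set.range (((toDDFam f).map m).hom i).left = SetLike.coe (W' i) := by
    intro i
    ext z
    rw [← hU₀ i]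
    constructor
    · rintro ⟨y, rfl⟩
      have e := congr($((hsq i).w) y)
      change ((((toDDFam f).map m).hom i).left ≫ q i) y ∈ U₀
      rw [e, Scheme.Hom.comp_apply]
      exact ((pullback.snd (f i) U₀'.hom) y).2
    · intro hz
      have hz' : (q i) z ∈ U₀ := hz
      obtain ⟨y, hy1, -⟩ := Scheme.exists_preimage_of_isPullback (hsq i) z ⟨(q i) z, hz'⟩ rfl
      exact ⟨y, hy1⟩
  refine ⟨U₀', m, (toDDFam f).map m ≫ ε, inferInstanceAs (IsOpenImmersion U₀.ι), rfl, fun i => ?_, fun i => ?_⟩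
  · have := hμ i
    change IsOpenImmersion ((((toDDFam f).map m).hom i).left ≫ (ε.hom i).left)
    infer_instance
  · change Set.range ((((toDDFam f).map m).hom i).left ≫ (ε.hom i).left) = SetLike.coe (W i)
    rw [Scheme.Hom.comp_base, TopCat.coe_comp, Set.range_comp, hrange i]
    change (ε.hom i).left '' ((ε.hom i).left ⁻¹' (SetLike.coe (W i))) = SetLike.coe (W i)
    rw [Set.image_preimage_eq_inter_range]
    exact Set.inter_eq_left.mpr (hle i)

end eff

end Groth.Agent.Lib.Helper4.DescRestrict
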