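import Mathlib

/-!
# Descent of properties of morphisms along fpqc covering families (helper4)

* `of_fpqc_finite_affine`: descent along a finite jointly surjective family of flat morphisms from affine schemes to an affine base.
* `of_fpqc_cover`: if `P` is Zariski-local on the target, stable under base change and descends along fpqc morphisms, then
  `P` descends along every quasi-compact flat cover.
* `of_fpqc_presieve`: the same for a covering presieve of `Scheme.fpqcPrecoverage`.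
-/

set_option autoImplicit false
set_option backward.isDefEq.respectTransparency false
universe w u
open CategoryTheory CategoryTheory.Limits AlgebraicGeometry

namespace Groth.Agent.Lib.Helper4.FpqcCoverDescent

theorem of_isPullback_iso (P : MorphismProperty Scheme.{u}) [P.RespectsIso] {X B T W W' : Scheme.{u}}
    {π : X ⟶ B} {g : T ⟶ B} {a : W ⟶ X} {b : W ⟶ T} {a' : W' ⟶ X} {b' : W' ⟶ T}
    (sq : IsPullback a b π g) (sq' : IsPullback a' b' π g) (h : P b) : P b' := by
  have e := sq'.isoIsPullback_hom_snd _ _ sq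
  rw [← (P.cancel_left_of_respectsIso (sq'.isoIsPullback _ _ sq).hom b), e] at h
  exact h

theorem of_fpqc_finite_affine (P : MorphismProperty Scheme.{u}) [IsZariskiLocalAtTarget P]
    [P.DescendsAlong (@Surjective ⊓ @Flat ⊓ @QuasiCompact)]
    {X B : Scheme.{u}} [IsAffine B] (π : X ⟶ B) {ι : Type w} [Finite ι] (T : ι → Scheme.{u})
    [∀ i, IsAffine (T i)] (f : ∀ i, T i ⟶ B)
    (hf1 : ∀ i, Flat (f i)) (hsurj : ∀ b : B, ∃ i, b ∈ Set.range (f i))
    (h : ∀ i, ∃ (W : Scheme.{u}) (p₁ : W ⟶ X) (p₂ : W ⟶ T i), IsPullback p₁ p₂ π (f i) ∧ P p₂) :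
    P π := by
  let p : ∐ T ⟶ B := Sigma.desc f
  have hp : (@Surjective ⊓ @Flat ⊓ @QuasiCompact : MorphismProperty Scheme.{u}) p := by
    refine ⟨⟨⟨fun b => ?_⟩, ?_⟩, ?_⟩
    · obtain ⟨i, t, rfl⟩ := hsurj b
      exact ⟨Sigma.ι T i t, by rw [← Scheme.Hom.comp_apply, Sigma.ι_desc]⟩
    · rw [IsZariskiLocalAtSource.iff_of_openCover (P := @Flat) (sigmaOpenCover T)]
      intro i
      have : (sigmaOpenCover T).f i ≫ p = f i := Sigma.ι_desc _ _
      rw [this]; exact hf1 i
    · exact (inferInstance : QuasiCompact p)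
  apply MorphismProperty.of_pullback_snd_of_descendsAlong
    (Q := @Surjective ⊓ @Flat ⊓ @QuasiCompact) (f := π) (g := p) hp
  rw [IsZariskiLocalAtTarget.iff_of_openCover (P := P) (sigmaOpenCover T)]
  intro i
  obtain ⟨W, p₁, p₂, sq, hP⟩ := h i
  have sq1 := (IsPullback.of_hasPullback (pullback.snd π p) ((sigmaOpenCover T).f i)).paste_horiz
    (IsPullback.of_hasPullback π p)
  have e : (sigmaOpenCover T).f i ≫ p = f i := Sigma.ι_desc _ _
  rw [e] at sq1
  exact of_isPullback_iso P sq sq1 hP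

theorem of_fpqc_cover (P : MorphismProperty Scheme.{u}) [IsZariskiLocalAtTarget P]
    [P.IsStableUnderBaseChange]
    [P.DescendsAlong (@Surjective ⊓ @Flat ⊓ @QuasiCompact)]
    {X B : Scheme.{u}} (π : X ⟶ B) (𝒰 : Scheme.Cover.{w} (Scheme.precoverage @Flat) B)
    [QuasiCompactCover 𝒰.toPreZeroHypercover]
    (h : ∀ i, P (pullback.snd π (𝒰.f i))) : P π := by
  rw [IsZariskiLocalAtTarget.iff_of_openCover (P := P) B.affineCover]
  intro j
  set V := B.affineCover.X j
  set ι : V ⟶ B := B.affineCover.f j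
  let 𝒰' : Scheme.Cover.{w} (Scheme.precoverage @Flat) V := 𝒰.pullback₁ ι
  have : QuasiCompactCover 𝒰'.toPreZeroHypercover :=
    inferInstanceAs (QuasiCompactCover (𝒰.toPreZeroHypercover.pullback₁ ι))
  have : CompactSpace V := inferInstance
  have hex : ∃ (𝒱 : Scheme.AffineCover.{w} @Flat V) (f : 𝒱.cover ⟶ 𝒰'),
      Finite 𝒱.I₀ ∧ ∀ j, IsOpenImmersion (f.h₀ j) := QuasiCompactCover.exists_hom 𝒰'
  obtain ⟨𝒱, φ, hfin, hopen⟩ := hex
  refine of_fpqc_finite_affine P (pullback.snd π ι) (fun k : 𝒱.I₀ => Spec (𝒱.X k)) (fun k => 𝒱.f k)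
    (fun k => 𝒱.map_prop k) (fun b => ⟨𝒱.idx b, 𝒱.covers b⟩) (fun k => ?_)
  refine ⟨pullback (pullback.snd π ι) (𝒱.f k), pullback.fst _ _, pullback.snd _ _,
    IsPullback.of_hasPullback _ _, ?_⟩
  -- the composite `Spec (𝒱.X k) ⟶ V ⟶ B` factors through `𝒰.f i`
  set i := φ.s₀ k with hi
  let g : Spec (𝒱.X k) ⟶ 𝒰.X i := φ.h₀ k ≫ pullback.snd ι (𝒰.f i)
  have hg : 𝒱.f k ≫ ι = g ≫ 𝒰.f i := by
    have h1 : φ.h₀ k ≫ pullback.fst ι (𝒰.f i) = 𝒱.f k := φ.w₀ k
    rw [← h1, Category.assoc, pullback.condition, Category.assoc]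
  have sqA := (IsPullback.of_hasPullback (pullback.snd π ι) (𝒱.f k)).paste_horiz
    (IsPullback.of_hasPullback π ι)
  have sqB := (IsPullback.of_hasPullback (pullback.snd π (𝒰.f i)) g).paste_horiz
    (IsPullback.of_hasPullback π (𝒰.f i))
  rw [hg] at sqA
  exact of_isPullback_iso P sqB sqA (P.pullback_snd _ _ (h i))

/-- Descent along a covering presieve of the fpqc precoverage. -/
theorem of_fpqc_presieve (P : MorphismProperty Scheme.{u}) [IsZariskiLocalAtTarget P]
    [P.IsStableUnderBaseChange]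
    [P.DescendsAlong (@Surjective ⊓ @Flat ⊓ @QuasiCompact)]
    {X B : Scheme.{u}} (π : X ⟶ B) (R : Presieve B) (hR : R ∈ Scheme.fpqcPrecoverage B)
    (h : ∀ ⦃T : Scheme.{u}⦄ (f : T ⟶ B), R f → P (pullback.snd π f)) : P π := by
  have hR' : R ∈ Scheme.propQCPrecoverage (@Flat : MorphismProperty Scheme.{u}) B := hR
  obtain ⟨𝒰, hqc, rfl⟩ := Scheme.mem_propQCPrecoverage_iff_exists_quasiCompactCover.mp hR'
  exact of_fpqc_cover P π 𝒰 (fun i => h (𝒰.f i) (Presieve.ofArrows.mk i))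

end Groth.Agent.Lib.Helper4.FpqcCoverDescent
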