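import Mathlib
import Groth.Prelude.Def_DescFam
import Groth.Agent.Lib.Helper4.DescRestrict
import Groth.Agent.Lib.Helper4.FpqcCoverDescent

/-!
# Gluing effective open sub-data of a descent datum (helper4)

If every point of every member of a descent datum `D` (relative to an fpqc covering family) lies in the range of a
componentwise open immersion `toDDFam U ⟶ D`, then `D` is effective.  The descended scheme is the colimit of the
locally directed diagram of the descended opens (Mathlib's locally directed gluing).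
-/

set_option autoImplicit false
set_option linter.style.haveILetI false
set_option backward.isDefEq.respectTransparency false
universe u
open CategoryTheory CategoryTheory.Limits AlgebraicGeometry

namespace Groth.Agent.Lib.Helper4.DescGlueOpen

open Desc Groth.Agent.Lib.Helper4.DescGamma Groth.Agent.Lib.Helper4.DescRestrict

variable {S : Scheme.{u}} {ι : Type u} {X : ι → Scheme.{u}} {f : ∀ i, X i ⟶ S}

section general

variable (hf : Presieve.ofArrows X f ∈ Scheme.fpqcPrecoverage S)

include hf in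
/-- A morphism over `S` whose base changes to the `X i` are open immersions is an open immersion. -/
theorem isOpenImmersion_of_toDDFam {U U' : Over S} (m : U ⟶ U')
    (h : ∀ i, IsOpenImmersion (((toDDFam f).map m).hom i).left) : IsOpenImmersion m.left := by
  refine FpqcCoverDescent.of_fpqc_presieve @IsOpenImmersion m.left _ (DescFF.pullback_cover f hf U'.hom) ?_
  rintro T _ ⟨i⟩
  have hsq : IsPullback (((toDDFam f).map m).hom i).left (pullback.snd (f i) U.hom)
      (pullback.snd (f i) U'.hom) m.left := isPullback_map_snd (f i) U.hom U'.hom m.left (Over.w m)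
  have h1 : pullback.snd m.left (pullback.snd (f i) U'.hom) =
      hsq.flip.isoPullback.inv ≫ (((toDDFam f).map m).hom i).left := by
    rw [Iso.eq_inv_comp]; exact hsq.flip.isoPullback_hom_snd
  change IsOpenImmersion (pullback.snd m.left (pullback.snd (f i) U'.hom))
  rw [h1]
  have := h i
  infer_instance

include hf in
/-- Uniqueness of factorisations through a componentwise monomorphic morphism from a canonical datum. -/
theorem map_unique {D : SchDDFam f} {T U : Over S} (ε : (toDDFam f).obj U ⟶ D) (hε : ∀ i, Mono (ε.hom i).left)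
    (m m' : T ⟶ U) (h : (toDDFam f).map m ≫ ε = (toDDFam f).map m' ≫ ε) : m = m' := by
  haveI := DescFF.faithful_toDDFam f hf
  apply (toDDFam f).map_injective
  apply SchDDFam.hom_ext
  funext i
  apply Over.OverMorphism.ext
  haveI := hε i
  rw [← cancel_mono (ε.hom i).left]
  exact congrArg (fun a : (toDDFam f).obj T ⟶ D => (a.hom i).left) h

include hf in
/-- Factorisation of a componentwise open immersion through another one with larger ranges. -/
theorem exists_factor {D : SchDDFam f} {U U' : Over S} (ε : (toDDFam f).obj U ⟶ D) (ε' : (toDDFam f).obj U' ⟶ D)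
    [∀ i, IsOpenImmersion (ε'.hom i).left]
    (hr : ∀ i, Set.range (ε.hom i).left ⊆ Set.range (ε'.hom i).left) :
    ∃ m : U ⟶ U', (toDDFam f).map m ≫ ε' = ε := by
  haveI := DescFF.full_toDDFam f hf
  have hfac : ∀ i, IsOpenImmersion.lift (ε'.hom i).left (ε.hom i).left (hr i) ≫ (ε'.hom i).left = (ε.hom i).left :=
    fun i => IsOpenImmersion.lift_fac _ _ _
  let c : ∀ i, ((toDDFam f).obj U).obj i ⟶ ((toDDFam f).obj U').obj i := fun i =>
    Over.homMk (IsOpenImmersion.lift (ε'.hom i).left (ε.hom i).left (hr i)) (by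
      rw [← Over.w (ε'.hom i), ← Category.assoc, hfac i, Over.w (ε.hom i)])
  have hc : ∀ i, c i ≫ ε'.hom i = ε.hom i := fun i => by
    apply Over.OverMorphism.ext
    exact hfac i
  let γ : (toDDFam f).obj U ⟶ (toDDFam f).obj U' := homOfFactor ε ε' (fun i => inferInstance) c hc
  obtain ⟨m, hm⟩ := (toDDFam f).map_surjective γ
  exact ⟨m, by rw [hm]; exact homOfFactor_comp ε ε' _ c hc⟩

end general

section loc

/-- A family of morphisms over the `X i` between descent data is compatible with the gluing bijections as soon as it is so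
on a jointly surjective family of componentwise open sub-data. -/
theorem comm_of_cover {D₁ D₂ : SchDDFam f} (c : ∀ i, D₁.obj i ⟶ D₂.obj i) {A : Type*} (E : A → SchDDFam f)
    (β : ∀ a, E a ⟶ D₁) (γ : ∀ a, E a ⟶ D₂) (hγ : ∀ a i, (β a).hom i ≫ c i = (γ a).hom i)
    (hopen : ∀ a i, IsOpenImmersion ((β a).hom i).left)
    (hcov : ∀ i (z : (D₁.obj i).left), ∃ a, z ∈ Set.range ((β a).hom i).left)
    ⦃T : Scheme.{u}⦄ ⦃i j : ι⦄ (x₀ : T ⟶ X i) (x₁ : T ⟶ X j) (h : x₀ ≫ f i = x₁ ≫ f j)
    (v : Lifts (D₁.obj i) x₀) (w : Lifts (D₂.obj i) x₀) (hw : w.1 = v.1 ≫ (c i).left) :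
    (D₂.φ x₀ x₁ h w).1 = (D₁.φ x₀ x₁ h v).1 ≫ (c j).left := by
  apply Scheme.hom_ext_of_forall
  intro t
  obtain ⟨a, ha⟩ := hcov i (v.1 t)
  haveI := hopen a i
  let T₀ : T.Opens := v.1 ⁻¹ᵁ ((β a).hom i).left.opensRange
  refine ⟨T₀, ha, ?_⟩
  let g : (T₀ : Scheme.{u}) ⟶ T := T₀.ι
  have hr : Set.range (g ≫ v.1) ⊆ Set.range ((β a).hom i).left := by
    rintro _ ⟨t', rfl⟩
    rw [Scheme.Hom.comp_apply]
    exact t'.2
  let va : (T₀ : Scheme.{u}) ⟶ ((E a).obj i).left := IsOpenImmersion.lift ((β a).hom i).left (g ≫ v.1) hr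
  have hva : va ≫ ((β a).hom i).left = g ≫ v.1 := IsOpenImmersion.lift_fac _ _ _
  have hva' : va ≫ ((E a).obj i).hom = g ≫ x₀ := by
    rw [← Over.w ((β a).hom i), ← Category.assoc, hva, Category.assoc, v.2]
  have h' : (g ≫ x₀) ≫ f i = (g ≫ x₁) ≫ f j := by rw [Category.assoc, h, Category.assoc]
  have n1 := D₂.φ_natural g x₀ x₁ h (g ≫ x₀) (g ≫ x₁) rfl rfl h' w ⟨g ≫ w.1, by rw [Category.assoc, w.2]⟩ rfl
  have n2 := D₁.φ_natural g x₀ x₁ h (g ≫ x₀) (g ≫ x₁) rfl rfl h' v ⟨g ≫ v.1, by rw [Category.assoc, v.2]⟩ rfl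
  have c1 := (γ a).comm (g ≫ x₀) (g ≫ x₁) h' ⟨va, hva'⟩ ⟨g ≫ w.1, by rw [Category.assoc, w.2]⟩ (by
    change g ≫ w.1 = va ≫ ((γ a).hom i).left
    rw [hw, ← hγ a i, Over.comp_left, ← Category.assoc va, hva, Category.assoc])
  have c2 := (β a).comm (g ≫ x₀) (g ≫ x₁) h' ⟨va, hva'⟩ ⟨g ≫ v.1, by rw [Category.assoc, v.2]⟩ hva.symm
  change g ≫ (D₂.φ x₀ x₁ h w).1 = g ≫ (D₁.φ x₀ x₁ h v).1 ≫ (c j).left
  rw [← n1, c1, ← Category.assoc, ← n2, c2, Category.assoc, ← Over.comp_left, hγ a j]

/-- An injective morphism which is an open immersion on the members of an open cover of the source is an open immersion. -/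
theorem isOpenImmersion_of_openCover {Y Z : Scheme.{u}} (g : Y ⟶ Z) (𝒰 : Y.OpenCover)
    (h : ∀ i, IsOpenImmersion (𝒰.f i ≫ g)) (hinj : Function.Injective g) : IsOpenImmersion g := by
  have hemb : Topology.IsOpenEmbedding g := by
    refine .of_continuous_injective_isOpenMap g.continuous hinj ?_
    intro A hA
    have e : g '' A = ⋃ i, (𝒰.f i ≫ g) '' ((𝒰.f i) ⁻¹' A) := by
      ext z
      constructor
      · rintro ⟨y, hy, rfl⟩
        obtain ⟨i, y', rfl⟩ := 𝒰.exists_eq y
        exact Set.mem_iUnion.mpr ⟨i, y', hy, by rw [Scheme.Hom.comp_apply]⟩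
      · intro hz
        obtain ⟨i, y', hy', rfl⟩ := Set.mem_iUnion.mp hz
        exact ⟨𝒰.f i y', hy', by rw [Scheme.Hom.comp_apply]⟩
    rw [e]
    exact isOpen_iUnion (fun i => haveI := h i
      (𝒰.f i ≫ g).isOpenEmbedding.isOpenMap _ (hA.preimage (𝒰.f i).continuous))
  have hst : ∀ y, IsIso (g.stalkMap y) := by
    intro y
    obtain ⟨i, y', rfl⟩ := 𝒰.exists_eq y
    have e := Scheme.Hom.stalkMap_comp (𝒰.f i) g y'
    have h1 : IsIso ((𝒰.f i ≫ g).stalkMap y') := haveI := h i; inferInstance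
    have h2 : IsIso ((𝒰.f i).stalkMap y') := inferInstance
    rw [e] at h1
    exact IsIso.of_isIso_comp_right _ ((𝒰.f i).stalkMap y')
  exact IsOpenImmersion.of_isIso_stalkMap g hemb

end loc

section index

variable (D : SchDDFam f)

/-- The family of opens `W` is the family of ranges of an effective open sub-datum. -/
def IsEffRange (W : ∀ i, (D.obj i).left.Opens) : Prop :=
  ∃ (U : Over S) (ε : (toDDFam f).obj U ⟶ D), (∀ i, IsOpenImmersion (ε.hom i).left) ∧
    ∀ i, Set.range (ε.hom i).left = SetLike.coe (W i)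

/-- The index poset of the gluing: the families of ranges of effective open sub-data. -/
def J : Type u := {W : ∀ i, (D.obj i).left.Opens // IsEffRange D W}

instance : PartialOrder (J D) :=
  inferInstanceAs (PartialOrder {W : ∀ i, (D.obj i).left.Opens // IsEffRange D W})

variable {D}

/-- The chosen descended scheme. -/
noncomputable def J.U (W : J D) : Over S := W.2.choose

/-- The chosen open immersion of descent data. -/
noncomputable def J.ε (W : J D) : (toDDFam f).obj W.U ⟶ D := W.2.choose_spec.choose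

instance (W : J D) (i : ι) : IsOpenImmersion ((W.ε).hom i).left := W.2.choose_spec.choose_spec.1 i

theorem J.range_ε (W : J D) (i : ι) : Set.range ((W.ε).hom i).left = SetLike.coe (W.1 i) :=
  W.2.choose_spec.choose_spec.2 i

theorem J.opensRange_ε (W : J D) (i : ι) : ((W.ε).hom i).left.opensRange = W.1 i :=
  TopologicalSpace.Opens.ext (W.range_ε i)

theorem J.stable (W : J D) : Stable D W.1 := by
  have h := stable_opensRange W.ε
  have e : (fun i => ((W.ε).hom i).left.opensRange) = W.1 := funext (fun i => W.opensRange_ε i)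
  rwa [e] at h

theorem J.range_subset {W W' : J D} (h : W ≤ W') (i : ι) :
    Set.range ((W.ε).hom i).left ⊆ Set.range ((W'.ε).hom i).left := by
  rw [W.range_ε, W'.range_ε]
  exact h i

variable (hf : Presieve.ofArrows X f ∈ Scheme.fpqcPrecoverage S)

/-- The transition morphisms. -/
noncomputable def J.tr {W W' : J D} (h : W ≤ W') : W.U ⟶ W'.U :=
  (exists_factor hf W.ε W'.ε (J.range_subset h)).choose

theorem J.tr_spec {W W' : J D} (h : W ≤ W') : (toDDFam f).map (J.tr hf h) ≫ W'.ε = W.ε :=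
  (exists_factor hf W.ε W'.ε (J.range_subset h)).choose_spec

theorem J.tr_spec_left {W W' : J D} (h : W ≤ W') (i : ι) :
    (((toDDFam f).map (J.tr hf h)).hom i).left ≫ ((W'.ε).hom i).left = ((W.ε).hom i).left :=
  congrArg (fun a : (toDDFam f).obj W.U ⟶ D => (a.hom i).left) (J.tr_spec hf h)

include hf in
theorem J.tr_unique {T : Over S} (W' : J D) (m m' : T ⟶ W'.U)
    (h : (toDDFam f).map m ≫ W'.ε = (toDDFam f).map m' ≫ W'.ε) : m = m' :=
  map_unique hf W'.ε (fun _ => inferInstance) m m' h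

theorem J.tr_refl (W : J D) : J.tr hf (le_refl W) = 𝟙 W.U := by
  apply J.tr_unique hf W
  rw [J.tr_spec, CategoryTheory.Functor.map_id, Category.id_comp]

theorem J.tr_trans {W W' W'' : J D} (h : W ≤ W') (h' : W' ≤ W'') :
    J.tr hf (h.trans h') = J.tr hf h ≫ J.tr hf h' := by
  apply J.tr_unique hf W''
  rw [J.tr_spec, Functor.map_comp, Category.assoc, J.tr_spec, J.tr_spec]

instance J.isOpenImmersion_tr_left {W W' : J D} (h : W ≤ W') : IsOpenImmersion (J.tr hf h).left := by
  refine isOpenImmersion_of_toDDFam hf _ (fun i => ?_)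
  have e := J.tr_spec_left hf h i
  have : IsOpenImmersion ((((toDDFam f).map (J.tr hf h)).hom i).left ≫ ((W'.ε).hom i).left) := by
    rw [e]; infer_instance
  exact IsOpenImmersion.of_comp _ ((W'.ε).hom i).left

variable (D) in
/-- The diagram of descended opens. -/
noncomputable def functor : J D ⥤ Scheme.{u} where
  obj W := W.U.left
  map h := (J.tr hf (leOfHom h)).left
  map_id W := by
    change (J.tr hf (le_refl W)).left = 𝟙 _
    rw [J.tr_refl]; rfl
  map_comp {W W' W''} h h' := by
    change (J.tr hf ((leOfHom h).trans (leOfHom h'))).left = _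
    rw [J.tr_trans]; rfl

instance {W W' : J D} (h : W ⟶ W') : IsOpenImmersion ((functor D hf).map h) :=
  J.isOpenImmersion_tr_left hf (leOfHom h)

include hf in
theorem J.exists_inf (W W' : J D) : ∃ Wl : J D, Wl.1 = fun i => W.1 i ⊓ W'.1 i := by
  obtain ⟨U₀, m, ε₀, -, -, hopen, hrange⟩ := exists_restrict_eff hf W.U W.ε (fun i => W.1 i ⊓ W'.1 i)
    (stable_inf W.stable W'.stable) (fun i => by rw [W.opensRange_ε]; exact inf_le_left)
  exact ⟨⟨_, ⟨U₀, ε₀, hopen, hrange⟩⟩, rfl⟩

/-- The base change square of a transition morphism. -/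
theorem J.isPullback_tr {W W' : J D} (h : W ≤ W') (i : ι) :
    IsPullback (((toDDFam f).map (J.tr hf h)).hom i).left (pullback.snd (f i) W.U.hom)
      (pullback.snd (f i) W'.U.hom) (J.tr hf h).left :=
  isPullback_map_snd (f i) W.U.hom W'.U.hom (J.tr hf h).left (Over.w (J.tr hf h))

theorem J.directed_aux {Wi Wj Wk : J D} (hi : Wi ≤ Wk) (hj : Wj ≤ Wk) (xi : Wi.U.left) (xj : Wj.U.left)
    (heq : (J.tr hf hi).left xi = (J.tr hf hj).left xj) :
    ∃ (Wl : J D) (hli : Wl ≤ Wi) (hlj : Wl ≤ Wj) (x : Wl.U.left),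
      (J.tr hf hli).left x = xi ∧ (J.tr hf hlj).left x = xj := by
  obtain ⟨Wl, hWl⟩ := J.exists_inf hf Wi Wj
  have hli : Wl ≤ Wi := fun i => by
    change Wl.1 i ≤ Wi.1 i
    rw [hWl]; exact inf_le_left
  have hlj : Wl ≤ Wj := fun i => by
    change Wl.1 i ≤ Wj.1 i
    rw [hWl]; exact inf_le_right
  refine ⟨Wl, hli, hlj, ?_⟩
  -- a point of `X i₀ ×_S U_k` over `x_k`
  set xk := (J.tr hf hi).left xi with hxk
  have hf' : Presieve.ofArrows X f ∈
      Scheme.propQCPrecoverage (@Flat : MorphismProperty Scheme.{u}) S := hf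
  obtain ⟨i₀, x', hx'⟩ := ((Scheme.ofArrows_mem_precoverage_iff (P := @Flat)).mp hf'.2).1 (Wk.U.hom xk)
  obtain ⟨z, hz1, hz2⟩ := Scheme.Pullback.exists_preimage_pullback (f := f i₀) (g := Wk.U.hom) x' xk hx'
  -- points over `xi` and `xj`
  obtain ⟨zi, hzi1, hzi2⟩ := Scheme.exists_preimage_of_isPullback (J.isPullback_tr hf hi i₀) z xi hz2
  obtain ⟨zj, hzj1, hzj2⟩ := Scheme.exists_preimage_of_isPullback (J.isPullback_tr hf hj i₀) z xj
    (hz2.trans heq)
  set v := ((Wk.ε).hom i₀).left z with hv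
  have hvi : v = ((Wi.ε).hom i₀).left zi := by
    rw [hv, ← hzi1, ← Scheme.Hom.comp_apply, J.tr_spec_left]
  have hvj : v = ((Wj.ε).hom i₀).left zj := by
    rw [hv, ← hzj1, ← Scheme.Hom.comp_apply, J.tr_spec_left]
  have hvl : v ∈ Set.range ((Wl.ε).hom i₀).left := by
    rw [Wl.range_ε, hWl]
    refine ⟨?_, ?_⟩
    · have : v ∈ Set.range ((Wi.ε).hom i₀).left := ⟨zi, hvi.symm⟩
      rwa [Wi.range_ε] at this
    · have : v ∈ Set.range ((Wj.ε).hom i₀).left := ⟨zj, hvj.symm⟩
      rwa [Wj.range_ε] at this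
  obtain ⟨zl, hzl⟩ := hvl
  refine ⟨(pullback.snd (f i₀) Wl.U.hom) zl, ?_, ?_⟩
  · have e1 : (((toDDFam f).map (J.tr hf hli)).hom i₀).left zl = zi := by
      apply ((Wi.ε).hom i₀).left.isOpenEmbedding.injective
      rw [← Scheme.Hom.comp_apply, J.tr_spec_left, hzl, hvi]
    have e2 := congr($((J.isPullback_tr hf hli i₀).w) zl)
    rw [Scheme.Hom.comp_apply, Scheme.Hom.comp_apply, e1] at e2
    exact e2.symm.trans hzi2
  · have e1 : (((toDDFam f).map (J.tr hf hlj)).hom i₀).left zl = zj := by
      apply ((Wj.ε).hom i₀).left.isOpenEmbedding.injective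
      rw [← Scheme.Hom.comp_apply, J.tr_spec_left, hzl, hvj]
    have e2 := congr($((J.isPullback_tr hf hlj i₀).w) zl)
    rw [Scheme.Hom.comp_apply, Scheme.Hom.comp_apply, e1] at e2
    exact e2.symm.trans hzj2

instance : ((functor D hf) ⋙ Scheme.forget).IsLocallyDirected where
  cond {i j k} fi fj xi xj heq := by
    obtain ⟨Wl, hli, hlj, x, h1, h2⟩ := J.directed_aux hf (leOfHom fi) (leOfHom fj) xi xj heq
    exact ⟨Wl, homOfLE hli, homOfLE hlj, x, h1, h2⟩

theorem J.isOpenImmersion_map_tr {W W' : J D} (h : W ≤ W') (i : ι) :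
    IsOpenImmersion (((toDDFam f).map (J.tr hf h)).hom i).left := by
  have e := J.tr_spec_left hf h i
  have : IsOpenImmersion ((((toDDFam f).map (J.tr hf h)).hom i).left ≫ ((W'.ε).hom i).left) := by
    rw [e]; infer_instance
  exact IsOpenImmersion.of_comp _ ((W'.ε).hom i).left

end index

section glued

variable (D : SchDDFam f) (hf : Presieve.ofArrows X f ∈ Scheme.fpqcPrecoverage S)

/-- The glued scheme. -/
noncomputable def Ug : Scheme.{u} := colimit (functor D hf)

/-- The inclusions of the descended opens. -/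
noncomputable def ιg (W : J D) : W.U.left ⟶ Ug D hf := colimit.ι (functor D hf) W

instance (W : J D) : IsOpenImmersion (ιg D hf W) :=
  inferInstanceAs (IsOpenImmersion (colimit.ι (functor D hf) W))

/-- The structure morphism of the glued scheme. -/
noncomputable def qg : Ug D hf ⟶ S :=
  colimit.desc (functor D hf)
    { pt := S
      ι := { app := fun W => W.U.hom
             naturality := fun W W' h => by
               change (J.tr hf (leOfHom h)).left ≫ W'.U.hom = W.U.hom ≫ 𝟙 S
               rw [Category.comp_id, Over.w] } }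

@[reassoc (attr := simp)]
theorem ιg_qg (W : J D) : ιg D hf W ≫ qg D hf = W.U.hom := colimit.ι_desc _ _

theorem tr_ιg {W W' : J D} (h : W ≤ W') : (J.tr hf h).left ≫ ιg D hf W' = ιg D hf W :=
  colimit.w (functor D hf) (homOfLE h)

/-- The glued scheme over `S`. -/
noncomputable def UG : Over S := Over.mk (qg D hf)

/-- The inclusions over `S`. -/
noncomputable def mg (W : J D) : W.U ⟶ UG D hf := Over.homMk (ιg D hf W) (ιg_qg D hf W)

theorem tr_mg {W W' : J D} (h : W ≤ W') : J.tr hf h ≫ mg D hf W' = mg D hf W := by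
  apply Over.OverMorphism.ext
  exact tr_ιg D hf h

/-- The base change of the inclusions. -/
noncomputable def μg (W : J D) (i : ι) : pullback (f i) W.U.hom ⟶ pullback (f i) (qg D hf) :=
  (((toDDFam f).map (mg D hf W)).hom i).left

theorem isPullback_μg (W : J D) (i : ι) :
    IsPullback (μg D hf W i) (pullback.snd (f i) W.U.hom) (pullback.snd (f i) (qg D hf)) (ιg D hf W) :=
  isPullback_map_snd (f i) W.U.hom (qg D hf) (ιg D hf W) (ιg_qg D hf W)

instance (W : J D) (i : ι) : IsOpenImmersion (μg D hf W i) :=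
  MorphismProperty.of_isPullback (P := @IsOpenImmersion) (isPullback_μg D hf W i).flip inferInstance

theorem tr_μg {W W' : J D} (h : W ≤ W') (i : ι) :
    (((toDDFam f).map (J.tr hf h)).hom i).left ≫ μg D hf W' i = μg D hf W i := by
  have e := congrArg (fun a => ((toDDFam f).map a)) (tr_mg D hf h)
  simp only [Functor.map_comp] at e
  exact congrArg (fun a : (toDDFam f).obj W.U ⟶ (toDDFam f).obj (UG D hf) => (a.hom i).left) e

theorem exists_μg_eq (i : ι) (z : ↥(pullback (f i) (qg D hf))) :
    ∃ (W : J D) (y : ↥(pullback (f i) W.U.hom)), μg D hf W i y = z := by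
  obtain ⟨W, x, hx⟩ := Scheme.IsLocallyDirected.ι_jointly_surjective (functor D hf)
    ((pullback.snd (f i) (qg D hf)) z)
  obtain ⟨y, hy, -⟩ := Scheme.exists_preimage_of_isPullback (isPullback_μg D hf W i) z x hx.symm
  exact ⟨W, y, hy⟩

/-- The open cover of `X i ×_S U` by the `X i ×_S U_W`. -/
noncomputable def cov (i : ι) : (pullback (f i) (qg D hf)).OpenCover where
  I₀ := J D
  X W := pullback (f i) W.U.hom
  f W := μg D hf W i
  mem₀ := by
    rw [Scheme.presieve₀_mem_precoverage_iff]
    refine ⟨fun z => ?_, fun W => inferInstanceAs (IsOpenImmersion (μg D hf W i))⟩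
    obtain ⟨W, y, hy⟩ := exists_μg_eq D hf i z
    exact ⟨W, y, hy⟩

instance (i : ι) : Category (cov D hf i).I₀ := inferInstanceAs (Category (J D))

theorem directed_cov (i : ι) {W W' : J D} (x : ↥(pullback (μg D hf W i) (μg D hf W' i))) :
    ∃ (k : J D) (hkW : k ≤ W) (hkW' : k ≤ W') (y : ↥(pullback (f i) k.U.hom)),
      pullback.lift (((toDDFam f).map (J.tr hf hkW)).hom i).left (((toDDFam f).map (J.tr hf hkW')).hom i).left
        (by rw [tr_μg, tr_μg]) y = x := by
  set a := (pullback.fst (μg D hf W i) (μg D hf W' i)) x with ha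
  set b := (pullback.snd (μg D hf W i) (μg D hf W' i)) x with hb
  have hab : μg D hf W i a = μg D hf W' i b := by
    rw [ha, hb, ← Scheme.Hom.comp_apply, ← Scheme.Hom.comp_apply, pullback.condition]
  have h1 : ιg D hf W ((pullback.snd (f i) W.U.hom) a) = ιg D hf W' ((pullback.snd (f i) W'.U.hom) b) := by
    have e1 := congr($((isPullback_μg D hf W i).w) a)
    have e2 := congr($((isPullback_μg D hf W' i).w) b)
    rw [Scheme.Hom.comp_apply, Scheme.Hom.comp_apply] at e1 e2
    rw [← e1, ← e2, hab]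
  obtain ⟨k, fi, fj, u, hu1, hu2⟩ := (Scheme.IsLocallyDirected.ι_eq_ι_iff (functor D hf)).mp h1
  have hkW : k ≤ W := leOfHom fi
  have hkW' : k ≤ W' := leOfHom fj
  obtain ⟨y, hy1, hy2⟩ := Scheme.exists_preimage_of_isPullback (J.isPullback_tr hf hkW i) a u hu1.symm
  refine ⟨k, hkW, hkW', y, ?_⟩
  have hinj : Function.Injective (pullback.fst (μg D hf W i) (μg D hf W' i) ≫ μg D hf W i) :=
    (pullback.fst (μg D hf W i) (μg D hf W' i) ≫ μg D hf W i).isOpenEmbedding.injective
  apply hinj
  rw [← Scheme.Hom.comp_apply, pullback.lift_fst_assoc, Scheme.Hom.comp_apply, hy1, Scheme.Hom.comp_apply]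
  rfl

noncomputable instance (i : ι) : (cov D hf i).LocallyDirected where
  trans {W W'} h := (((toDDFam f).map (J.tr hf (leOfHom (X := J D) h))).hom i).left
  trans_id W := by
    change (((toDDFam f).map (J.tr hf (@le_refl (J D) _ W))).hom i).left = 𝟙 _
    rw [J.tr_refl, CategoryTheory.Functor.map_id]; rfl
  trans_comp {W W' W''} h h' := by
    change (((toDDFam f).map (J.tr hf ((leOfHom (X := J D) h).trans (leOfHom (X := J D) h')))).hom i).left = _
    rw [J.tr_trans, Functor.map_comp]; rfl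
  w {W W'} h := tr_μg D hf (leOfHom (X := J D) h) i
  directed {W W'} x := by
    obtain ⟨k, hkW, hkW', y, hy⟩ := directed_cov D hf i x
    exact ⟨k, (homOfLE hkW : (k : J D) ⟶ W), (homOfLE hkW' : (k : J D) ⟶ W'), y, hy⟩
  property_trans {W W'} h := J.isOpenImmersion_map_tr hf (leOfHom (X := J D) h) i

/-- The glued comparison morphisms. -/
noncomputable def εg (i : ι) : pullback (f i) (qg D hf) ⟶ (D.obj i).left :=
  (cov D hf i).glueMorphismsOfLocallyDirected (fun W => ((J.ε W).hom i).left)
    (fun {_ _} h => J.tr_spec_left hf (leOfHom (X := J D) h) i)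

theorem μg_εg (W : J D) (i : ι) : μg D hf W i ≫ εg D hf i = ((W.ε).hom i).left :=
  (cov D hf i).map_glueMorphismsOfLocallyDirected (fun W => ((J.ε W).hom i).left)
    (fun {_ _} h => J.tr_spec_left hf (leOfHom (X := J D) h) i) W

theorem μg_fst (W : J D) (i : ι) : μg D hf W i ≫ pullback.fst (f i) (qg D hf) = pullback.fst (f i) W.U.hom := by
  exact toDDFam_map_hom_left_fst (mg D hf W) i

theorem εg_hom (i : ι) : εg D hf i ≫ (D.obj i).hom = pullback.fst (f i) (qg D hf) := by
  apply (cov D hf i).hom_ext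
  intro W
  change μg D hf W i ≫ _ = μg D hf W i ≫ _
  rw [← Category.assoc, μg_εg, μg_fst]
  exact Over.w (W.ε.hom i)

/-- The glued comparison morphism of descent data. -/
noncomputable def εG : (toDDFam f).obj (UG D hf) ⟶ D :=
  ⟨fun i => Over.homMk (εg D hf i) (εg_hom D hf i),
    comm_of_cover (fun i => Over.homMk (εg D hf i) (εg_hom D hf i)) (fun W : J D => (toDDFam f).obj W.U)
      (fun W => (toDDFam f).map (mg D hf W)) (fun W => W.ε)
      (fun W i => by
        apply Over.OverMorphism.ext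
        exact μg_εg D hf W i)
      (fun W i => inferInstanceAs (IsOpenImmersion (μg D hf W i)))
      (fun i z => by
        obtain ⟨W, y, hy⟩ := exists_μg_eq D hf i z
        exact ⟨W, y, hy⟩)⟩

theorem εG_hom_left (i : ι) : ((εG D hf).hom i).left = εg D hf i := rfl

theorem εg_μg_apply (W : J D) (i : ι) (y : ↥(pullback (f i) W.U.hom)) :
    εg D hf i (μg D hf W i y) = ((W.ε).hom i).left y :=
  congr($(μg_εg D hf W i) y)

theorem injective_εg (i : ι) : Function.Injective (εg D hf i) := by
  intro z z' hzz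
  obtain ⟨W, y, rfl⟩ := exists_μg_eq D hf i z
  obtain ⟨W', y', rfl⟩ := exists_μg_eq D hf i z'
  rw [εg_μg_apply, εg_μg_apply] at hzz
  obtain ⟨Wl, hWl⟩ := J.exists_inf hf W W'
  have hlW : Wl ≤ W := fun k => by
    change Wl.1 k ≤ W.1 k
    rw [hWl]; exact inf_le_left
  have hlW' : Wl ≤ W' := fun k => by
    change Wl.1 k ≤ W'.1 k
    rw [hWl]; exact inf_le_right
  set v := ((W.ε).hom i).left y with hv
  have hvl : v ∈ Set.range ((Wl.ε).hom i).left := by
    rw [Wl.range_ε, hWl]
    refine ⟨?_, ?_⟩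
    · have : v ∈ Set.range ((W.ε).hom i).left := ⟨y, rfl⟩
      rwa [W.range_ε] at this
    · have : v ∈ Set.range ((W'.ε).hom i).left := ⟨y', hzz.symm⟩
      rwa [W'.range_ε] at this
  obtain ⟨yl, hyl⟩ := hvl
  have e1 : (((toDDFam f).map (J.tr hf hlW)).hom i).left yl = y := by
    apply ((W.ε).hom i).left.isOpenEmbedding.injective
    rw [← Scheme.Hom.comp_apply, J.tr_spec_left, hyl]
  have e2 : (((toDDFam f).map (J.tr hf hlW')).hom i).left yl = y' := by
    apply ((W'.ε).hom i).left.isOpenEmbedding.injective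
    rw [← Scheme.Hom.comp_apply, J.tr_spec_left, hyl, hzz]
  have t1 : μg D hf W i y = μg D hf Wl i yl := by
    rw [← e1]; exact congr($(tr_μg D hf hlW i) yl)
  have t2 : μg D hf W' i y' = μg D hf Wl i yl := by
    rw [← e2]; exact congr($(tr_μg D hf hlW' i) yl)
  exact t1.trans t2.symm

instance (i : ι) : IsOpenImmersion (εg D hf i) := by
  refine isOpenImmersion_of_openCover (εg D hf i) (cov D hf i) (fun W => ?_) (injective_εg D hf i)
  change IsOpenImmersion (μg D hf W i ≫ εg D hf i)
  rw [μg_εg]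
  infer_instance

theorem isIso_εG (hcover : ∀ i (v : (D.obj i).left), ∃ W : J D, v ∈ W.1 i) : IsIso (εG D hf) := by
  refine isIso_of_isIso_left _ (fun i => ?_)
  rw [εG_hom_left, isIso_iff_isOpenImmersion_and_surjective]
  refine ⟨inferInstance, ⟨fun v => ?_⟩⟩
  obtain ⟨W, hW⟩ := hcover i v
  have hv : v ∈ Set.range ((W.ε).hom i).left := by
    rw [W.range_ε]; exact hW
  obtain ⟨y, hy⟩ := hv
  exact ⟨μg D hf W i y, (εg_μg_apply D hf W i y).trans hy⟩

end glued

/-- **Gluing effective open sub-data.** If every point of every member of `D` lies in the range of a componentwise open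
immersion from a canonical descent datum, then `D` is effective. -/
theorem isEffective_of_cover (hf : Presieve.ofArrows X f ∈ Scheme.fpqcPrecoverage S) (D : SchDDFam f)
    (h : ∀ i (v : (D.obj i).left), ∃ (U : Over S) (ε : (toDDFam f).obj U ⟶ D),
      (∀ k, IsOpenImmersion (ε.hom k).left) ∧ v ∈ Set.range (ε.hom i).left) : D.IsEffective := by
  have hcover : ∀ i (v : (D.obj i).left), ∃ W : J D, v ∈ W.1 i := by
    intro i v
    obtain ⟨U, ε, hopen, hv⟩ := h i v
    exact ⟨⟨fun k => haveI := hopen k; (ε.hom k).left.opensRange, ⟨U, ε, hopen, fun k => rfl⟩⟩, hv⟩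
  have := isIso_εG D hf hcover
  exact ⟨UG D hf, ⟨asIso (εG D hf)⟩⟩

end Groth.Agent.Lib.Helper4.DescGlueOpen
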