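import Mathlib
import Groth.Prelude.Def_DescFam
import Groth.Agent.Lib.Helper4.DescGlueOpen

/-!
# Gluing effective open sub-data, for a single fpqc morphism (helper4)
-/

set_option autoImplicit false
set_option linter.style.haveILetI false
set_option backward.isDefEq.respectTransparency false
universe u
open CategoryTheory CategoryTheory.Limits AlgebraicGeometry

namespace Groth.Agent.Lib.Helper4.DescGlueOpenSingle

open Desc

variable {X S : Scheme.{u}} (p : X ⟶ S)

theorem singleton_mem [Surjective p] [Flat p] [QuasiCompact p] :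
    Presieve.ofArrows (fun _ : PUnit.{u + 1} => X) (fun _ => p) ∈ Scheme.fpqcPrecoverage S := by
  rw [Presieve.ofArrows_pUnit]
  exact Scheme.Hom.singleton_mem_fpqcPrecoverage p

/-- The components of an isomorphism of descent data are isomorphisms. -/
theorem isIso_hom_left {D D' : SchDD p} (e : D ≅ D') : IsIso e.hom.hom.left := by
  refine ⟨e.inv.hom.left, ?_, ?_⟩
  · rw [← Over.comp_left, ← SchDD.comp_hom, e.hom_inv_id]; rfl
  · rw [← Over.comp_left, ← SchDD.comp_hom, e.inv_hom_id]; rfl

/-- **Gluing effective open sub-data** (`Desc.SchDD` form). -/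
theorem exists_iso_toDD_of_cover [Surjective p] [Flat p] [QuasiCompact p] (D : SchDD p)
    (h : ∀ v : D.obj.left, ∃ (D' : SchDD p) (j : D' ⟶ D), IsOpenImmersion j.hom.left ∧
      v ∈ Set.range j.hom.left ∧ ∃ U' : Over S, Nonempty ((toDD p).obj U' ≅ D')) :
    ∃ U : Over S, Nonempty ((toDD p).obj U ≅ D) := by
  let DD : SchDDFam (fun _ : PUnit.{u + 1} => p) := (SchDDFam.ofSchDD p).obj D
  have hf := singleton_mem p
  have heff : DD.IsEffective := by
    refine DescGlueOpen.isEffective_of_cover hf DD (fun i v => ?_)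
    obtain ⟨D', j, hopen, hv, U', ⟨e⟩⟩ := h v
    have hiso := isIso_hom_left p e
    let ε : (toDDFam (fun _ : PUnit.{u + 1} => p)).obj U' ⟶ DD := (SchDDFam.ofSchDD p).map (e.hom ≫ j)
    have hε : ∀ k, (ε.hom k).left = e.hom.hom.left ≫ j.hom.left := fun k => rfl
    refine ⟨U', ε, fun k => ?_, ?_⟩
    · rw [hε k]; infer_instance
    · obtain ⟨y, hy⟩ := hv
      have h1 : inv e.hom.hom.left ≫ e.hom.hom.left ≫ j.hom.left = j.hom.left := IsIso.inv_hom_id_assoc _ _
      have h2 := congr($(h1) y)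
      exact ⟨(inv e.hom.hom.left) y, h2.trans hy⟩
  obtain ⟨U, ⟨θ⟩⟩ := heff
  exact ⟨U, ⟨(SchDDFam.toSchDD p).mapIso θ⟩⟩

end Groth.Agent.Lib.Helper4.DescGlueOpenSingle
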