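import Mathlib

set_option backward.isDefEq.respectTransparency false
set_option autoImplicit false
set_option linter.style.haveILetI false

/-!
# Flatness satisfies fpqc (hence fppf) descent
-/

universe u

open CategoryTheory CategoryTheory.Limits AlgebraicGeometry MorphismProperty

namespace Groth.Agent.Lib.Helper4.FlatDescends

theorem flat_codescendsAlong_faithfullyFlat :
    RingHom.CodescendsAlong RingHom.Flat RingHom.FaithfullyFlat := by
  refine .mk _ RingHom.Flat.respectsIso fun R S T _ _ _ _ _ h h' ↦ ?_
  rw [RingHom.flat_algebraMap_iff] at h' ⊢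
  rw [RingHom.faithfullyFlat_algebraMap_iff] at h
  exact Module.Flat.of_flat_tensorProduct R T S

instance : DescendsAlong @Flat (@Surjective ⊓ @Flat ⊓ @QuasiCompact) :=
  HasRingHomProperty.descendsAlong_flat flat_codescendsAlong_faithfullyFlat

/-- Flatness descends along fppf morphisms. -/
theorem flat_of_pullback_snd {X Y S : Scheme.{u}} (f : X ⟶ S) (g : Y ⟶ S) [Surjective g] [Flat g]
    [LocallyOfFinitePresentation g] (h : Flat (pullback.snd f g)) : Flat f :=
  MorphismProperty.of_pullback_snd_of_descendsAlong (P := @Flat)
    (Q := @Surjective ⊓ @Flat ⊓ @LocallyOfFinitePresentation)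
    (f := f) (g := g) ⟨⟨inferInstance, inferInstance⟩, inferInstance⟩ h

theorem lfp_of_pullback_snd {X Y S : Scheme.{u}} (f : X ⟶ S) (g : Y ⟶ S) [Surjective g] [Flat g]
    [LocallyOfFinitePresentation g] (h : LocallyOfFinitePresentation (pullback.snd f g)) :
    LocallyOfFinitePresentation f :=
  MorphismProperty.of_pullback_snd_of_descendsAlong (P := @LocallyOfFinitePresentation)
    (Q := @Surjective ⊓ @Flat ⊓ @LocallyOfFinitePresentation)
    (f := f) (g := g) ⟨⟨inferInstance, inferInstance⟩, inferInstance⟩ h

theorem surjective_of_pullback_snd {X Y S : Scheme.{u}} (f : X ⟶ S) (g : Y ⟶ S) [Surjective g]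
    (h : Surjective (pullback.snd f g)) : Surjective f := by
  have h1 : Surjective (pullback.snd f g ≫ g) := inferInstance
  rw [← pullback.condition] at h1
  exact Surjective.of_comp (pullback.fst f g) f

end Groth.Agent.Lib.Helper4.FlatDescends
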