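import Mathlib
import Groth.Prelude.Def_Grpd
import Groth.Agent.S7457

/-!
# Restriction of a groupoid scheme along an arbitrary morphism (helper4)

Given a groupoid scheme `G = (U, R, s, t, c, e, i)` over `S` and any morphism `ι : W ⟶ U`, the
restricted groupoid has arrows `RW = W ×_U R ×_U W`.  We axiomatise `RW` by `RestrDataG`
(`ιR : RW ⟶ R`, `sW tW : RW ⟶ W`, jointly monic, through which every arrow of `R` with prescribed
source and target in `W` factors) and build the groupoid `d.restr`, the morphism `d.hom : d.restr ⟶ G`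
and the cartesian square `d.isPullback` exhibiting `RW` as the base change of `j = (t, s)`.
`RestrDataG.ofHom G ι` is the concrete model `RW = (R ×_{t,U} W) ×_{s,U} W`.
-/

set_option backward.isDefEq.respectTransparency false
set_option autoImplicit false
set_option linter.style.haveILetI false
set_option linter.unusedSectionVars false

universe u
open CategoryTheory CategoryTheory.Limits AlgebraicGeometry

namespace Groth.Agent.Lib.Helper4.GrpdRestrGen

open Groth.Agent.S7457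

variable {S : Scheme.{u}}

/-- Data for restricting a groupoid scheme along a morphism `ι : W ⟶ U`. -/
structure RestrDataG (G : Grpd.GroupoidScheme S) {W : Scheme.{u}} (ι : W ⟶ G.U) where
  /-- the arrows between points of `W` -/
  RW : Scheme.{u}
  ιR : RW ⟶ G.R
  sW : RW ⟶ W
  tW : RW ⟶ W
  ιR_s : ιR ≫ G.s = sW ≫ ι
  ιR_t : ιR ≫ G.t = tW ≫ ι
  ex : ∀ {T : Scheme.{u}} (α : T ⟶ G.R) (a b : T ⟶ W), α ≫ G.s = a ≫ ι → α ≫ G.t = b ≫ ι →
    ∃ l : T ⟶ RW, l ≫ ιR = α ∧ l ≫ sW = a ∧ l ≫ tW = b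
  ext : ∀ {T : Scheme.{u}} (l l' : T ⟶ RW), l ≫ ιR = l' ≫ ιR → l ≫ sW = l' ≫ sW →
    l ≫ tW = l' ≫ tW → l = l'

variable {G : Grpd.GroupoidScheme S} {W : Scheme.{u}} {ι : W ⟶ G.U} (d : RestrDataG G ι)

namespace RestrDataG

attribute [reassoc] ιR_s ιR_t

section lift

variable {T : Scheme.{u}} (α : T ⟶ G.R) (a b : T ⟶ W) (hs : α ≫ G.s = a ≫ ι)
  (ht : α ≫ G.t = b ≫ ι)

/-- the arrow of the restriction defined by an arrow of `G` with source `a` and target `b` in `W` -/
noncomputable def lift : T ⟶ d.RW := (d.ex α a b hs ht).choose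

@[reassoc (attr := simp)]
theorem lift_ιR : d.lift α a b hs ht ≫ d.ιR = α := (d.ex α a b hs ht).choose_spec.1

@[reassoc (attr := simp)]
theorem lift_sW : d.lift α a b hs ht ≫ d.sW = a := (d.ex α a b hs ht).choose_spec.2.1

@[reassoc (attr := simp)]
theorem lift_tW : d.lift α a b hs ht ≫ d.tW = b := (d.ex α a b hs ht).choose_spec.2.2

theorem eq_lift (l : T ⟶ d.RW) (h1 : l ≫ d.ιR = α) (h2 : l ≫ d.sW = a) (h3 : l ≫ d.tW = b) :
    l = d.lift α a b hs ht :=
  d.ext _ _ (h1.trans (d.lift_ιR α a b hs ht).symm) (h2.trans (d.lift_sW α a b hs ht).symm)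
    (h3.trans (d.lift_tW α a b hs ht).symm)

end lift

/-- identity -/
noncomputable def eW : W ⟶ d.RW :=
  d.lift (ι ≫ G.e) (𝟙 W) (𝟙 W)
    (by rw [Category.assoc, G.e_s, Category.comp_id, Category.id_comp])
    (by rw [Category.assoc, G.e_t, Category.comp_id, Category.id_comp])

@[reassoc (attr := simp)]
theorem eW_ιR : d.eW ≫ d.ιR = ι ≫ G.e := d.lift_ιR _ _ _ _ _

@[reassoc (attr := simp)]
theorem eW_sW : d.eW ≫ d.sW = 𝟙 W := d.lift_sW _ _ _ _ _

@[reassoc (attr := simp)]
theorem eW_tW : d.eW ≫ d.tW = 𝟙 W := d.lift_tW _ _ _ _ _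

/-- inverse -/
noncomputable def iW : d.RW ⟶ d.RW :=
  d.lift (d.ιR ≫ G.i) d.tW d.sW (by rw [Category.assoc, G.i_s, d.ιR_t])
    (by rw [Category.assoc, G.i_t, d.ιR_s])

@[reassoc (attr := simp)]
theorem iW_ιR : d.iW ≫ d.ιR = d.ιR ≫ G.i := d.lift_ιR _ _ _ _ _

@[reassoc (attr := simp)]
theorem iW_sW : d.iW ≫ d.sW = d.tW := d.lift_sW _ _ _ _ _

@[reassoc (attr := simp)]
theorem iW_tW : d.iW ≫ d.tW = d.sW := d.lift_tW _ _ _ _ _

section cmpW

variable {T : Scheme.{u}} (α β : T ⟶ d.RW) (h : α ≫ d.sW = β ≫ d.tW)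

include h in
theorem cmpW_aux1 : (α ≫ d.ιR) ≫ G.s = (β ≫ d.ιR) ≫ G.t := by
  rw [Category.assoc, Category.assoc, d.ιR_s, d.ιR_t, ← Category.assoc, ← Category.assoc, h]

include h in
theorem cmpW_aux2 :
    cmp G (α ≫ d.ιR) (β ≫ d.ιR) (cmpW_aux1 d α β h) ≫ G.s = (β ≫ d.sW) ≫ ι := by
  rw [cmp_s, Category.assoc, Category.assoc, d.ιR_s]

include h in
theorem cmpW_aux3 :
    cmp G (α ≫ d.ιR) (β ≫ d.ιR) (cmpW_aux1 d α β h) ≫ G.t = (α ≫ d.tW) ≫ ι := by
  rw [cmp_t, Category.assoc, Category.assoc, d.ιR_t]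

/-- composition of `T`-points of the restriction -/
noncomputable def cmpW : T ⟶ d.RW :=
  d.lift (cmp G (α ≫ d.ιR) (β ≫ d.ιR) (cmpW_aux1 d α β h)) (β ≫ d.sW) (α ≫ d.tW)
    (cmpW_aux2 d α β h) (cmpW_aux3 d α β h)

@[reassoc]
theorem cmpW_ιR : cmpW d α β h ≫ d.ιR = cmp G (α ≫ d.ιR) (β ≫ d.ιR) (cmpW_aux1 d α β h) :=
  d.lift_ιR _ _ _ _ _

@[reassoc]
theorem cmpW_sW : cmpW d α β h ≫ d.sW = β ≫ d.sW := d.lift_sW _ _ _ _ _

@[reassoc]
theorem cmpW_tW : cmpW d α β h ≫ d.tW = α ≫ d.tW := d.lift_tW _ _ _ _ _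

theorem cmpW_congr {α' β' : T ⟶ d.RW} (hα : α = α') (hβ : β = β') :
    cmpW d α β h = cmpW d α' β' (by rw [← hα, ← hβ]; exact h) := by
  subst hα hβ; rfl

theorem pre_cmpW {T' : Scheme.{u}} (f : T' ⟶ T) :
    f ≫ cmpW d α β h = cmpW d (f ≫ α) (f ≫ β)
      (by rw [Category.assoc, Category.assoc, h]) := by
  apply d.ext
  · rw [Category.assoc, cmpW_ιR, cmpW_ιR, pre_cmp]
    exact cmp_congr G _ (Category.assoc _ _ _).symm (Category.assoc _ _ _).symm
  · rw [Category.assoc, cmpW_sW, cmpW_sW, Category.assoc]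
  · rw [Category.assoc, cmpW_tW, cmpW_tW, Category.assoc]

end cmpW

/-- composition -/
noncomputable def cW : pullback d.sW d.tW ⟶ d.RW :=
  cmpW d (pullback.fst _ _) (pullback.snd _ _) pullback.condition

theorem lift_cW {T : Scheme.{u}} (α β : T ⟶ d.RW) (h : α ≫ d.sW = β ≫ d.tW) :
    pullback.lift α β h ≫ d.cW = cmpW d α β h := by
  unfold cW
  rw [pre_cmpW]
  exact cmpW_congr d _ _ _ (pullback.lift_fst _ _ _) (pullback.lift_snd _ _ _)

/-- The restriction of the groupoid scheme `G` along `ι : W ⟶ U`. -/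
noncomputable def restr : Grpd.GroupoidScheme S where
  U := W
  R := d.RW
  pU := ι ≫ G.pU
  pR := d.ιR ≫ G.pR
  s := d.sW
  t := d.tW
  e := d.eW
  i := d.iW
  c := d.cW
  s_over := by rw [← d.ιR_s_assoc, G.s_over]
  t_over := by rw [← d.ιR_t_assoc, G.t_over]
  comp_s := fun α β h => by rw [lift_cW, cmpW_sW]
  comp_t := fun α β h => by rw [lift_cW, cmpW_tW]
  assoc := fun α β γ h₁ h₂ => by
    refine (lift_cW d _ _ _).trans (Eq.trans ?_ (lift_cW d _ _ _).symm)
    apply d.ext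
    · rw [cmpW_ιR, cmpW_ιR]
      have e1 : (pullback.lift α β h₁ ≫ d.cW) ≫ d.ιR =
          cmp G (α ≫ d.ιR) (β ≫ d.ιR) (cmpW_aux1 d α β h₁) := by rw [lift_cW, cmpW_ιR]
      have e2 : (pullback.lift β γ h₂ ≫ d.cW) ≫ d.ιR =
          cmp G (β ≫ d.ιR) (γ ≫ d.ιR) (cmpW_aux1 d β γ h₂) := by rw [lift_cW, cmpW_ιR]
      rw [cmp_congr G _ e1 rfl, cmp_congr G _ rfl e2]
      exact cmp_assoc G _ _ _ _ _
    · rw [cmpW_sW, cmpW_sW, lift_cW, cmpW_sW]
    · rw [cmpW_tW, cmpW_tW, lift_cW, cmpW_tW]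
  e_s := d.eW_sW
  e_t := d.eW_tW
  comp_e := fun α => by
    rw [lift_cW]
    apply d.ext
    · rw [cmpW_ιR]
      have e1 : (α ≫ d.sW ≫ d.eW) ≫ d.ιR = (α ≫ d.ιR) ≫ G.s ≫ G.e := by
        simp only [Category.assoc, eW_ιR, d.ιR_s_assoc]
      rw [cmp_congr G _ rfl e1]
      exact G.comp_e _
    · rw [cmpW_sW, Category.assoc, Category.assoc, eW_sW, Category.comp_id]
    · rw [cmpW_tW]
  e_comp := fun α => by
    rw [lift_cW]
    apply d.ext
    · rw [cmpW_ιR]
      have e1 : (α ≫ d.tW ≫ d.eW) ≫ d.ιR = (α ≫ d.ιR) ≫ G.t ≫ G.e := by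
        simp only [Category.assoc, eW_ιR, d.ιR_t_assoc]
      rw [cmp_congr G _ e1 rfl]
      exact G.e_comp _
    · rw [cmpW_sW]
    · rw [cmpW_tW, Category.assoc, Category.assoc, eW_tW, Category.comp_id]
  i_s := d.iW_sW
  i_t := d.iW_tW
  comp_i := fun α => by
    rw [lift_cW]
    apply d.ext
    · rw [cmpW_ιR]
      have e1 : (α ≫ d.iW) ≫ d.ιR = (α ≫ d.ιR) ≫ G.i := by
        simp only [Category.assoc, iW_ιR]
      rw [cmp_congr G _ rfl e1]
      refine (G.comp_i _).trans ?_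
      simp only [Category.assoc, eW_ιR, d.ιR_t_assoc]
    · rw [cmpW_sW, Category.assoc, iW_sW, Category.assoc, Category.assoc, eW_sW, Category.comp_id]
    · rw [cmpW_tW, Category.assoc, Category.assoc, eW_tW, Category.comp_id]
  i_comp := fun α => by
    rw [lift_cW]
    apply d.ext
    · rw [cmpW_ιR]
      have e1 : (α ≫ d.iW) ≫ d.ιR = (α ≫ d.ιR) ≫ G.i := by
        simp only [Category.assoc, iW_ιR]
      rw [cmp_congr G _ e1 rfl]
      refine (G.i_comp _).trans ?_
      simp only [Category.assoc, eW_ιR, d.ιR_s_assoc]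
    · rw [cmpW_sW, Category.assoc, Category.assoc, eW_sW, Category.comp_id]
    · rw [cmpW_tW, Category.assoc, iW_tW, Category.assoc, Category.assoc, eW_tW, Category.comp_id]

@[simp] theorem restr_U : d.restr.U = W := rfl
@[simp] theorem restr_R : d.restr.R = d.RW := rfl
@[simp] theorem restr_s : d.restr.s = d.sW := rfl
@[simp] theorem restr_t : d.restr.t = d.tW := rfl
@[simp] theorem restr_e : d.restr.e = d.eW := rfl
@[simp] theorem restr_i : d.restr.i = d.iW := rfl
@[simp] theorem restr_c : d.restr.c = d.cW := rfl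
@[simp] theorem restr_pU : d.restr.pU = ι ≫ G.pU := rfl

/-- The morphism of groupoid schemes from the restriction to `G`. -/
noncomputable def hom : Grpd.GroupoidScheme.Hom d.restr G where
  fU := ι
  fR := d.ιR
  fU_over := rfl
  comm_s := d.ιR_s
  comm_t := d.ιR_t
  comm_c := fun {T} α β h => by
    have h' : (α : T ⟶ d.RW) ≫ d.sW = β ≫ d.tW := h
    have := lift_cW d α β h'
    refine (congrArg (· ≫ d.ιR) this).trans ?_
    rw [cmpW_ιR]
    rfl

@[simp] theorem hom_fU : d.hom.fU = ι := rfl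
@[simp] theorem hom_fR : d.hom.fR = d.ιR := rfl

@[reassoc]
theorem j_fst (G : Grpd.GroupoidScheme S) : G.j ≫ pullback.fst G.pU G.pU = G.t :=
  pullback.lift_fst _ _ _

@[reassoc]
theorem j_snd (G : Grpd.GroupoidScheme S) : G.j ≫ pullback.snd G.pU G.pU = G.s :=
  pullback.lift_snd _ _ _

/-- The arrows of the restriction are the base change of `j = (t, s)`. -/
theorem isPullback :
    IsPullback d.hom.fR d.restr.j G.j
      (pullback.map d.restr.pU d.restr.pU G.pU G.pU d.hom.fU d.hom.fU (𝟙 S)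
        ((Category.comp_id _).trans d.hom.fU_over.symm)
        ((Category.comp_id _).trans d.hom.fU_over.symm)) := by
  have hw : d.ιR ≫ G.j = d.restr.j ≫ pullback.map d.restr.pU d.restr.pU G.pU G.pU ι ι (𝟙 S)
        ((Category.comp_id _).trans d.hom.fU_over.symm)
        ((Category.comp_id _).trans d.hom.fU_over.symm) := by
    apply pullback.hom_ext
    · rw [Category.assoc, Category.assoc, j_fst, pullback.lift_fst, j_fst_assoc]
      exact d.ιR_t
    · rw [Category.assoc, Category.assoc, j_snd, pullback.lift_snd, j_snd_assoc]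
      exact d.ιR_s
  refine ⟨⟨hw⟩, ⟨PullbackCone.IsLimit.mk _ (fun c => d.lift c.fst (c.snd ≫ pullback.snd _ _)
    (c.snd ≫ pullback.fst _ _) ?_ ?_) ?_ ?_ ?_⟩⟩
  · have := c.condition =≫ pullback.snd _ _
    rw [Category.assoc, Category.assoc, j_snd, pullback.lift_snd] at this
    rw [this, Category.assoc]
    rfl
  · have := c.condition =≫ pullback.fst _ _
    rw [Category.assoc, Category.assoc, j_fst, pullback.lift_fst] at this
    rw [this, Category.assoc]
    rfl
  · intro c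
    exact d.lift_ιR _ _ _ _ _
  · intro c
    apply pullback.hom_ext
    · rw [Category.assoc, j_fst d.restr]
      exact d.lift_tW _ _ _ _ _
    · rw [Category.assoc, j_snd d.restr]
      exact d.lift_sW _ _ _ _ _
  · intro c m h1 h2
    apply d.eq_lift
    · exact h1
    · have := h2 =≫ pullback.snd _ _
      rw [Category.assoc, j_snd d.restr] at this
      exact this
    · have := h2 =≫ pullback.fst _ _
      rw [Category.assoc, j_fst d.restr] at this
      exact this

/-- The concrete model `RW = (R ×_{t,U} W) ×_{s,U} W`. -/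
noncomputable def ofHom (G : Grpd.GroupoidScheme S) {W : Scheme.{u}} (ι : W ⟶ G.U) :
    RestrDataG G ι where
  RW := pullback (pullback.fst G.t ι ≫ G.s) ι
  ιR := pullback.fst (pullback.fst G.t ι ≫ G.s) ι ≫ pullback.fst G.t ι
  sW := pullback.snd (pullback.fst G.t ι ≫ G.s) ι
  tW := pullback.fst (pullback.fst G.t ι ≫ G.s) ι ≫ pullback.snd G.t ι
  ιR_s := by rw [Category.assoc, pullback.condition]
  ιR_t := by rw [Category.assoc, Category.assoc, pullback.condition]
  ex := fun α a b hs ht =>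
    ⟨pullback.lift (pullback.lift α b ht) a (by rw [pullback.lift_fst_assoc, hs]), by
      rw [pullback.lift_fst_assoc, pullback.lift_fst], by rw [pullback.lift_snd], by
      rw [pullback.lift_fst_assoc, pullback.lift_snd]⟩
  ext := fun l l' h1 h2 h3 => by
    apply pullback.hom_ext
    · apply pullback.hom_ext
      · simpa only [Category.assoc] using h1
      · simpa only [Category.assoc] using h3
    · exact h2

end RestrDataG

end Groth.Agent.Lib.Helper4.GrpdRestrGen
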