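import Mathlib
import Groth.Prelude.Def_Grpd
import Groth.Agent.S7457
import Groth.Agent.Lib.Helper28.GrpdPts

/-!
# A total composition for `T`-points of a groupoid scheme (helper4)

`tc G α β` is `α ∘ β` when `α ≫ s = β ≫ t` and a junk value otherwise.  The point is that terms do
not carry composability proofs, so that rewriting is painless; the lemmas carry them as hypotheses.
-/

set_option backward.isDefEq.respectTransparency false
set_option autoImplicit false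
set_option linter.style.haveILetI false
set_option linter.unusedSectionVars false

universe u
open CategoryTheory CategoryTheory.Limits AlgebraicGeometry

namespace Groth.Agent.Lib.Helper4.GrpdTc

open Groth.Agent.S7457

variable {S : Scheme.{u}} (G : Grpd.GroupoidScheme S) {T : Scheme.{u}}

open Classical in
/-- total composition of `T`-points -/
noncomputable def tc (α β : T ⟶ G.R) : T ⟶ G.R :=
  if h : α ≫ G.s = β ≫ G.t then cmp G α β h else α

theorem tc_eq (α β : T ⟶ G.R) (h : α ≫ G.s = β ≫ G.t) : tc G α β = cmp G α β h := by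
  unfold tc
  rw [dif_pos h]

theorem tc_eq' (α β : T ⟶ G.R) (h : α ≫ G.s = β ≫ G.t) :
    tc G α β = pullback.lift α β h ≫ G.c := tc_eq G α β h

@[reassoc]
theorem tc_s (α β : T ⟶ G.R) (h : α ≫ G.s = β ≫ G.t) : tc G α β ≫ G.s = β ≫ G.s := by
  rw [tc_eq G α β h, cmp_s]

@[reassoc]
theorem tc_t (α β : T ⟶ G.R) (h : α ≫ G.s = β ≫ G.t) : tc G α β ≫ G.t = α ≫ G.t := by
  rw [tc_eq G α β h, cmp_t]

theorem tc_assoc (α β γ : T ⟶ G.R) (h₁ : α ≫ G.s = β ≫ G.t) (h₂ : β ≫ G.s = γ ≫ G.t) :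
    tc G (tc G α β) γ = tc G α (tc G β γ) := by
  have h₃ : tc G α β ≫ G.s = γ ≫ G.t := (tc_s G α β h₁).trans h₂
  have h₄ : α ≫ G.s = tc G β γ ≫ G.t := h₁.trans (tc_t G β γ h₂).symm
  rw [tc_eq G _ γ h₃, tc_eq G α _ h₄]
  have e1 := tc_eq G α β h₁
  have e2 := tc_eq G β γ h₂
  rw [cmp_congr G h₃ e1 rfl, cmp_congr G h₄ rfl e2]
  exact cmp_assoc G α β γ h₁ h₂

theorem pre_tc {T' : Scheme.{u}} (g : T' ⟶ T) (α β : T ⟶ G.R) (h : α ≫ G.s = β ≫ G.t) :
    g ≫ tc G α β = tc G (g ≫ α) (g ≫ β) := by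
  rw [tc_eq G α β h, tc_eq G (g ≫ α) (g ≫ β) (by rw [Category.assoc, Category.assoc, h])]
  exact pre_cmp G g α β h

/-- `α ∘ e = α` -/
theorem tc_e (α : T ⟶ G.R) (u : T ⟶ G.U) (h : α ≫ G.s = u) : tc G α (u ≫ G.e) = α := by
  subst h
  rw [tc_eq G α _ (by rw [Category.assoc, Category.assoc, G.e_t, Category.comp_id])]
  exact G.comp_e α

/-- `e ∘ α = α` -/
theorem e_tc (α : T ⟶ G.R) (u : T ⟶ G.U) (h : α ≫ G.t = u) : tc G (u ≫ G.e) α = α := by
  subst h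
  rw [tc_eq G _ α (by rw [Category.assoc, Category.assoc, G.e_s, Category.comp_id])]
  exact G.e_comp α

/-- `α ∘ α⁻¹ = e` -/
theorem tc_i (α : T ⟶ G.R) : tc G α (α ≫ G.i) = α ≫ G.t ≫ G.e := by
  rw [tc_eq G α _ (by rw [Category.assoc, G.i_t])]
  exact G.comp_i α

/-- `α⁻¹ ∘ α = e` -/
theorem i_tc (α : T ⟶ G.R) : tc G (α ≫ G.i) α = α ≫ G.s ≫ G.e := by
  rw [tc_eq G _ α (by rw [Category.assoc, G.i_s])]
  exact G.i_comp α

@[reassoc]
theorem i_i : G.i ≫ G.i = 𝟙 G.R := Groth.Agent.Lib.helper28.GrpdPts.i_i G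

/-- `(α ∘ β)⁻¹ = β⁻¹ ∘ α⁻¹` -/
theorem tc_inv (α β : T ⟶ G.R) (h : α ≫ G.s = β ≫ G.t) :
    tc G α β ≫ G.i = tc G (β ≫ G.i) (α ≫ G.i) := by
  have h' : (β ≫ G.i) ≫ G.s = (α ≫ G.i) ≫ G.t := by
    rw [Category.assoc, Category.assoc, G.i_s, G.i_t, h]
  rw [tc_eq G α β h, tc_eq G _ _ h']
  exact (Groth.Agent.Lib.helper28.GrpdPts.cmp_inv G α β h h').symm

theorem e_i : G.e ≫ G.i = G.e := by
  have h1 := tc_i G G.e
  rw [← Category.assoc, G.e_t, Category.id_comp] at h1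
  have h2 := e_tc G (G.e ≫ G.i) (𝟙 G.U) (by rw [Category.assoc, G.i_t, G.e_s])
  rw [Category.id_comp] at h2
  rw [← h2, h1]

end Groth.Agent.Lib.Helper4.GrpdTc
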