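import Mathlib

set_option backward.isDefEq.respectTransparency false
set_option autoImplicit false
set_option linter.style.haveILetI false
set_option linter.unusedSectionVars false

universe u
open Polynomial

namespace Groth.Agent.Lib.Helper4.GrpdPolyLoc

variable {C : Type u} [CommRing C] (𝔭 : Ideal C) [h𝔭 : 𝔭.IsPrime]

instance isPrime_mapC : (𝔭.map (Polynomial.C : C →+* C[X])).IsPrime :=
  Ideal.isPrime_map_C_of_isPrime

/-- `C[X]` localized at the prime `𝔭 C[X]`: a flat local `C`-algebra with infinite residue field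
whose closed point lies over `𝔭`. -/
abbrev PolyLoc : Type u := Localization.AtPrime (𝔭.map (Polynomial.C : C →+* C[X]))

instance : Module.Flat C (PolyLoc 𝔭) :=
  Module.Flat.trans C C[X] (PolyLoc 𝔭)

theorem comap_maximalIdeal :
    (IsLocalRing.maximalIdeal (PolyLoc 𝔭)).comap (algebraMap C (PolyLoc 𝔭)) = 𝔭 := by
  have h1 : (IsLocalRing.maximalIdeal (PolyLoc 𝔭)).comap (algebraMap C[X] (PolyLoc 𝔭)) =
      𝔭.map (Polynomial.C : C →+* C[X]) :=
    IsLocalization.AtPrime.under_maximalIdeal (PolyLoc 𝔭) _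
  have h2 : algebraMap C (PolyLoc 𝔭) = (algebraMap C[X] (PolyLoc 𝔭)).comp (Polynomial.C) :=
    IsScalarTower.algebraMap_eq C C[X] (PolyLoc 𝔭)
  rw [h2, ← Ideal.comap_comap, h1]
  ext c
  rw [Ideal.mem_comap, Ideal.mem_map_C_iff]
  constructor
  · intro h
    have := h 0
    simpa using this
  · intro h n
    rw [Polynomial.coeff_C]
    split_ifs
    · exact h
    · exact 𝔭.zero_mem

instance : Infinite (IsLocalRing.ResidueField (PolyLoc 𝔭)) := by
  let f : ℕ → IsLocalRing.ResidueField (PolyLoc 𝔭) := fun n =>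
    IsLocalRing.residue (PolyLoc 𝔭) (algebraMap C[X] (PolyLoc 𝔭) (X ^ n))
  refine Infinite.of_injective f ?_
  intro n m hnm
  by_contra hne
  have h0 : IsLocalRing.residue (PolyLoc 𝔭)
      (algebraMap C[X] (PolyLoc 𝔭) ((X : C[X]) ^ n - X ^ m)) = 0 := by
    rw [map_sub, map_sub]
    exact sub_eq_zero.mpr hnm
  rw [IsLocalRing.residue_eq_zero_iff] at h0
  have h1 : ((X : C[X]) ^ n - X ^ m) ∈ (IsLocalRing.maximalIdeal (PolyLoc 𝔭)).comap
      (algebraMap C[X] (PolyLoc 𝔭)) := h0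
  have h1' : (IsLocalRing.maximalIdeal (PolyLoc 𝔭)).comap (algebraMap C[X] (PolyLoc 𝔭)) =
      𝔭.map (Polynomial.C : C →+* C[X]) :=
    IsLocalization.AtPrime.under_maximalIdeal (PolyLoc 𝔭) _
  rw [h1', Ideal.mem_map_C_iff] at h1
  have h2 := h1 n
  rw [Polynomial.coeff_sub, Polynomial.coeff_X_pow, Polynomial.coeff_X_pow, if_pos rfl,
    if_neg hne, sub_zero] at h2
  exact h𝔭.ne_top ((Ideal.eq_top_iff_one _).mpr h2)

end Groth.Agent.Lib.Helper4.GrpdPolyLoc
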