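import Mathlib
import Groth.Prelude.Def_Grpd
import Groth.Agent.S7457

/-!
# Base change of a groupoid scheme along a morphism to an invariant target

Given a groupoid scheme `G = (U, R, s, t, c, e, i)` over `S`, an invariant morphism `q : U ⟶ M`
(`s ≫ q = t ≫ q`) and any `g : M' ⟶ M`, we build the base-changed groupoid scheme
`bc G q hq g` with `U' = U ×_M M'`, `R' = R ×_M M'`.
-/

set_option backward.isDefEq.respectTransparency false
set_option autoImplicit false
set_option linter.style.haveILetI false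

universe u
open CategoryTheory CategoryTheory.Limits AlgebraicGeometry

namespace Groth.Agent.Lib.Helper4.GrpdBC

open Groth.Agent.S7457

variable {S : Scheme.{u}} (G : Grpd.GroupoidScheme S) {M M' : Scheme.{u}} (q : G.U ⟶ M)
  (hq : G.s ≫ q = G.t ≫ q) (g : M' ⟶ M)

/-- source of the base change -/
noncomputable def bcs : pullback (G.s ≫ q) g ⟶ pullback q g :=
  pullback.map (G.s ≫ q) g q g G.s (𝟙 M') (𝟙 M) (by simp) (by simp)

include hq in
theorem bct_aux : (G.s ≫ q) ≫ 𝟙 M = G.t ≫ q := by rw [Category.comp_id, hq]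

/-- target of the base change -/
noncomputable def bct : pullback (G.s ≫ q) g ⟶ pullback q g :=
  pullback.map (G.s ≫ q) g q g G.t (𝟙 M') (𝟙 M) (bct_aux G q hq) (by simp)

theorem bce_aux : q ≫ 𝟙 M = G.e ≫ G.s ≫ q := by
  rw [Category.comp_id, ← Category.assoc, G.e_s, Category.id_comp]

/-- identity of the base change -/
noncomputable def bce : pullback q g ⟶ pullback (G.s ≫ q) g :=
  pullback.map q g (G.s ≫ q) g G.e (𝟙 M') (𝟙 M) (bce_aux G q) (by simp)

include hq in
theorem bci_aux : (G.s ≫ q) ≫ 𝟙 M = G.i ≫ G.s ≫ q := by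
  rw [Category.comp_id, ← Category.assoc, G.i_s, hq]

/-- inverse of the base change -/
noncomputable def bci : pullback (G.s ≫ q) g ⟶ pullback (G.s ≫ q) g :=
  pullback.map (G.s ≫ q) g (G.s ≫ q) g G.i (𝟙 M') (𝟙 M) (bci_aux G q hq) (by simp)

@[reassoc (attr := simp)]
theorem bcs_fst : bcs G q g ≫ pullback.fst q g = pullback.fst (G.s ≫ q) g ≫ G.s := by
  simp [bcs]

@[reassoc (attr := simp)]
theorem bcs_snd : bcs G q g ≫ pullback.snd q g = pullback.snd (G.s ≫ q) g := by
  simp [bcs]

@[reassoc (attr := simp)]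
theorem bct_fst : bct G q hq g ≫ pullback.fst q g = pullback.fst (G.s ≫ q) g ≫ G.t := by
  simp [bct]

@[reassoc (attr := simp)]
theorem bct_snd : bct G q hq g ≫ pullback.snd q g = pullback.snd (G.s ≫ q) g := by
  simp [bct]

@[reassoc (attr := simp)]
theorem bce_fst : bce G q g ≫ pullback.fst (G.s ≫ q) g = pullback.fst q g ≫ G.e := by
  simp [bce]

@[reassoc (attr := simp)]
theorem bce_snd : bce G q g ≫ pullback.snd (G.s ≫ q) g = pullback.snd q g := by
  simp [bce]

@[reassoc (attr := simp)]
theorem bci_fst : bci G q hq g ≫ pullback.fst (G.s ≫ q) g = pullback.fst (G.s ≫ q) g ≫ G.i := by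
  simp [bci]

@[reassoc (attr := simp)]
theorem bci_snd : bci G q hq g ≫ pullback.snd (G.s ≫ q) g = pullback.snd (G.s ≫ q) g := by
  simp [bci]

section cmp'

variable {T : Scheme.{u}} (α β : T ⟶ pullback (G.s ≫ q) g)
  (h : α ≫ bcs G q g = β ≫ bct G q hq g)

include h in
theorem cmp'_aux1 :
    (α ≫ pullback.fst (G.s ≫ q) g) ≫ G.s = (β ≫ pullback.fst (G.s ≫ q) g) ≫ G.t := by
  have := congrArg (· ≫ pullback.fst q g) h
  simpa only [Category.assoc, bcs_fst, bct_fst] using this

include h in
theorem cmp'_aux2 : α ≫ pullback.snd (G.s ≫ q) g = β ≫ pullback.snd (G.s ≫ q) g := by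
  have := congrArg (· ≫ pullback.snd q g) h
  simpa only [Category.assoc, bcs_snd, bct_snd] using this

include h in
theorem cmp'_aux3 :
    cmp G (α ≫ pullback.fst (G.s ≫ q) g) (β ≫ pullback.fst (G.s ≫ q) g)
      (cmp'_aux1 G q hq g α β h) ≫ G.s ≫ q = (α ≫ pullback.snd (G.s ≫ q) g) ≫ g := by
  rw [← Category.assoc, cmp_s, cmp'_aux2 G q hq g α β h, Category.assoc, Category.assoc,
    Category.assoc, pullback.condition]

/-- composition of `T`-points of the base change -/
noncomputable def cmp' : T ⟶ pullback (G.s ≫ q) g :=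
  pullback.lift (cmp G (α ≫ pullback.fst (G.s ≫ q) g) (β ≫ pullback.fst (G.s ≫ q) g)
    (cmp'_aux1 G q hq g α β h)) (α ≫ pullback.snd (G.s ≫ q) g) (cmp'_aux3 G q hq g α β h)

@[reassoc]
theorem cmp'_fst : cmp' G q hq g α β h ≫ pullback.fst (G.s ≫ q) g =
    cmp G (α ≫ pullback.fst (G.s ≫ q) g) (β ≫ pullback.fst (G.s ≫ q) g)
      (cmp'_aux1 G q hq g α β h) := pullback.lift_fst _ _ _

@[reassoc]
theorem cmp'_snd : cmp' G q hq g α β h ≫ pullback.snd (G.s ≫ q) g =
    α ≫ pullback.snd (G.s ≫ q) g := pullback.lift_snd _ _ _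

theorem cmp'_congr {α' β' : T ⟶ pullback (G.s ≫ q) g} (hα : α = α') (hβ : β = β') :
    cmp' G q hq g α β h = cmp' G q hq g α' β' (by rw [← hα, ← hβ]; exact h) := by
  subst hα hβ; rfl

theorem pre_cmp' {T' : Scheme.{u}} (f : T' ⟶ T) :
    f ≫ cmp' G q hq g α β h = cmp' G q hq g (f ≫ α) (f ≫ β)
      (by rw [Category.assoc, Category.assoc, h]) := by
  apply pullback.hom_ext
  · rw [Category.assoc, cmp'_fst, cmp'_fst, pre_cmp]
    exact cmp_congr G _ (Category.assoc _ _ _).symm (Category.assoc _ _ _).symm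
  · rw [Category.assoc, cmp'_snd, cmp'_snd, Category.assoc]

theorem cmp'_s : cmp' G q hq g α β h ≫ bcs G q g = β ≫ bcs G q g := by
  apply pullback.hom_ext
  · simp only [Category.assoc, bcs_fst, cmp'_fst_assoc, cmp_s]
  · simp only [Category.assoc, bcs_snd, cmp'_snd, cmp'_aux2 G q hq g α β h]

theorem cmp'_t : cmp' G q hq g α β h ≫ bct G q hq g = α ≫ bct G q hq g := by
  apply pullback.hom_ext
  · simp only [Category.assoc, bct_fst, cmp'_fst_assoc, cmp_t]
  · simp only [Category.assoc, bct_snd, cmp'_snd]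

end cmp'

/-- composition of the base change -/
noncomputable def bcc : pullback (bcs G q g) (bct G q hq g) ⟶ pullback (G.s ≫ q) g :=
  cmp' G q hq g (pullback.fst _ _) (pullback.snd _ _) pullback.condition

theorem lift_bcc {T : Scheme.{u}} (α β : T ⟶ pullback (G.s ≫ q) g)
    (h : α ≫ bcs G q g = β ≫ bct G q hq g) :
    pullback.lift α β h ≫ bcc G q hq g = cmp' G q hq g α β h := by
  unfold bcc
  rw [pre_cmp']
  exact cmp'_congr G q hq g _ _ _ (pullback.lift_fst _ _ _) (pullback.lift_snd _ _ _)

/-- The base change of the groupoid scheme `G` along `g : M' ⟶ M`, for an invariant `q : U ⟶ M`. -/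
noncomputable def bc : Grpd.GroupoidScheme S where
  U := pullback q g
  R := pullback (G.s ≫ q) g
  pU := pullback.fst q g ≫ G.pU
  pR := pullback.fst (G.s ≫ q) g ≫ G.pR
  s := bcs G q g
  t := bct G q hq g
  e := bce G q g
  i := bci G q hq g
  c := bcc G q hq g
  s_over := by rw [bcs_fst_assoc, G.s_over]
  t_over := by rw [bct_fst_assoc, G.t_over]
  comp_s := fun α β h => by rw [lift_bcc, cmp'_s]
  comp_t := fun α β h => by rw [lift_bcc, cmp'_t]
  assoc := fun α β γ h₁ h₂ => by
    refine (lift_bcc G q hq g _ _ _).trans (Eq.trans ?_ (lift_bcc G q hq g _ _ _).symm)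
    apply pullback.hom_ext
    · rw [cmp'_fst, cmp'_fst]
      have e1 : (pullback.lift α β h₁ ≫ bcc G q hq g) ≫ pullback.fst (G.s ≫ q) g =
          cmp G (α ≫ pullback.fst (G.s ≫ q) g) (β ≫ pullback.fst (G.s ≫ q) g)
            (cmp'_aux1 G q hq g α β h₁) := by rw [lift_bcc, cmp'_fst]
      have e2 : (pullback.lift β γ h₂ ≫ bcc G q hq g) ≫ pullback.fst (G.s ≫ q) g =
          cmp G (β ≫ pullback.fst (G.s ≫ q) g) (γ ≫ pullback.fst (G.s ≫ q) g)
            (cmp'_aux1 G q hq g β γ h₂) := by rw [lift_bcc, cmp'_fst]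
      rw [cmp_congr G _ e1 rfl, cmp_congr G _ rfl e2]
      exact cmp_assoc G _ _ _ _ _
    · rw [cmp'_snd, cmp'_snd, lift_bcc, cmp'_snd]
  e_s := by
    apply pullback.hom_ext
    · rw [Category.assoc, bcs_fst, bce_fst_assoc, G.e_s, Category.comp_id, Category.id_comp]
    · rw [Category.assoc, bcs_snd, bce_snd, Category.id_comp]
  e_t := by
    apply pullback.hom_ext
    · rw [Category.assoc, bct_fst, bce_fst_assoc, G.e_t, Category.comp_id, Category.id_comp]
    · rw [Category.assoc, bct_snd, bce_snd, Category.id_comp]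
  comp_e := fun α => by
    rw [lift_bcc]
    apply pullback.hom_ext
    · rw [cmp'_fst]
      have e1 : (α ≫ bcs G q g ≫ bce G q g) ≫ pullback.fst (G.s ≫ q) g =
          (α ≫ pullback.fst (G.s ≫ q) g) ≫ G.s ≫ G.e := by
        simp only [Category.assoc, bce_fst, bcs_fst_assoc]
      rw [cmp_congr G _ rfl e1]
      exact G.comp_e _
    · rw [cmp'_snd]
  e_comp := fun α => by
    rw [lift_bcc]
    apply pullback.hom_ext
    · rw [cmp'_fst]
      have e1 : (α ≫ bct G q hq g ≫ bce G q g) ≫ pullback.fst (G.s ≫ q) g =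
          (α ≫ pullback.fst (G.s ≫ q) g) ≫ G.t ≫ G.e := by
        simp only [Category.assoc, bce_fst, bct_fst_assoc]
      rw [cmp_congr G _ e1 rfl]
      exact G.e_comp _
    · rw [cmp'_snd]
      simp only [Category.assoc, bce_snd, bct_snd]
  i_s := by
    apply pullback.hom_ext
    · rw [Category.assoc, bcs_fst, bci_fst_assoc, G.i_s, bct_fst]
    · rw [Category.assoc, bcs_snd, bci_snd, bct_snd]
  i_t := by
    apply pullback.hom_ext
    · rw [Category.assoc, bct_fst, bci_fst_assoc, G.i_t, bcs_fst]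
    · rw [Category.assoc, bct_snd, bci_snd, bcs_snd]
  comp_i := fun α => by
    rw [lift_bcc]
    apply pullback.hom_ext
    · rw [cmp'_fst]
      have e1 : (α ≫ bci G q hq g) ≫ pullback.fst (G.s ≫ q) g =
          (α ≫ pullback.fst (G.s ≫ q) g) ≫ G.i := by
        simp only [Category.assoc, bci_fst]
      rw [cmp_congr G _ rfl e1]
      refine (G.comp_i _).trans ?_
      simp only [Category.assoc, bce_fst, bct_fst_assoc]
    · rw [cmp'_snd]
      simp only [Category.assoc, bce_snd, bct_snd]
  i_comp := fun α => by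
    rw [lift_bcc]
    apply pullback.hom_ext
    · rw [cmp'_fst]
      have e1 : (α ≫ bci G q hq g) ≫ pullback.fst (G.s ≫ q) g =
          (α ≫ pullback.fst (G.s ≫ q) g) ≫ G.i := by
        simp only [Category.assoc, bci_fst]
      rw [cmp_congr G _ e1 rfl]
      refine (G.i_comp _).trans ?_
      simp only [Category.assoc, bce_fst, bcs_fst_assoc]
    · rw [cmp'_snd]
      simp only [Category.assoc, bce_snd, bcs_snd, bci_snd]

@[simp] theorem bc_s : (bc G q hq g).s = bcs G q g := rfl
@[simp] theorem bc_t : (bc G q hq g).t = bct G q hq g := rfl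

/-- the square of sources is cartesian -/
theorem isPullback_bcs :
    IsPullback (pullback.fst (G.s ≫ q) g) (bcs G q g) G.s (pullback.fst q g) := by
  have hbig : IsPullback (bcs G q g ≫ pullback.snd q g) (pullback.fst (G.s ≫ q) g) g
      (G.s ≫ q) := by
    rw [bcs_snd]
    exact (IsPullback.of_hasPullback (G.s ≫ q) g).flip
  exact (IsPullback.of_right hbig (bcs_fst G q g) (IsPullback.of_hasPullback q g).flip).flip

/-- the square of targets is cartesian -/
theorem isPullback_bct :
    IsPullback (pullback.fst (G.s ≫ q) g) (bct G q hq g) G.t (pullback.fst q g) := by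
  have hbig : IsPullback (bct G q hq g ≫ pullback.snd q g) (pullback.fst (G.s ≫ q) g) g
      (G.t ≫ q) := by
    rw [bct_snd, ← hq]
    exact (IsPullback.of_hasPullback (G.s ≫ q) g).flip
  exact (IsPullback.of_right hbig (bct_fst G q hq g) (IsPullback.of_hasPullback q g).flip).flip

/-- `(t, s)` is jointly monic on `T`-points. -/
def JMono (G : Grpd.GroupoidScheme S) : Prop :=
  ∀ ⦃T : Scheme.{u}⦄ (a b : T ⟶ G.R), a ≫ G.t = b ≫ G.t → a ≫ G.s = b ≫ G.s → a = b

theorem jMono_of_mono (G : Grpd.GroupoidScheme S) [Mono G.j] : JMono G := by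
  intro T a b ht hs
  rw [← cancel_mono G.j]
  apply pullback.hom_ext
  · simpa only [Category.assoc, Grpd.GroupoidScheme.j, pullback.lift_fst] using ht
  · simpa only [Category.assoc, Grpd.GroupoidScheme.j, pullback.lift_snd] using hs

theorem jMono_bc (hJ : JMono G) : JMono (bc G q hq g) := by
  intro T a b ht hs
  change a ≫ bct G q hq g = b ≫ bct G q hq g at ht
  change a ≫ bcs G q g = b ≫ bcs G q g at hs
  apply pullback.hom_ext
  · apply hJ
    · have := congrArg (· ≫ pullback.fst q g) ht
      simpa only [Category.assoc, bct_fst] using this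
    · have := congrArg (· ≫ pullback.fst q g) hs
      simpa only [Category.assoc, bcs_fst] using this
  · have := congrArg (· ≫ pullback.snd q g) hs
    simpa only [Category.assoc, bcs_snd] using this

section props

variable [IsFinite G.s] [Flat G.s] [LocallyOfFinitePresentation G.s]
  [IsFinite G.t] [Flat G.t] [LocallyOfFinitePresentation G.t]

instance : IsFinite (bc G q hq g).s :=
  MorphismProperty.of_isPullback (P := @IsFinite) (isPullback_bcs G q g) inferInstance
instance : Flat (bc G q hq g).s :=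
  MorphismProperty.of_isPullback (P := @Flat) (isPullback_bcs G q g) inferInstance
instance : LocallyOfFinitePresentation (bc G q hq g).s :=
  MorphismProperty.of_isPullback (P := @LocallyOfFinitePresentation)
    (isPullback_bcs G q g) inferInstance
instance : IsFinite (bc G q hq g).t :=
  MorphismProperty.of_isPullback (P := @IsFinite) (isPullback_bct G q hq g) inferInstance
instance : Flat (bc G q hq g).t :=
  MorphismProperty.of_isPullback (P := @Flat) (isPullback_bct G q hq g) inferInstance
instance : LocallyOfFinitePresentation (bc G q hq g).t :=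
  MorphismProperty.of_isPullback (P := @LocallyOfFinitePresentation)
    (isPullback_bct G q hq g) inferInstance

end props

instance [IsAffine G.U] [IsAffine M] [IsAffine M'] : IsAffine (bc G q hq g).U :=
  inferInstanceAs (IsAffine (pullback q g))

instance [IsAffine G.R] [IsAffine M] [IsAffine M'] : IsAffine (bc G q hq g).R :=
  inferInstanceAs (IsAffine (pullback (G.s ≫ q) g))

end Groth.Agent.Lib.Helper4.GrpdBC
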