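import Mathlib
import Groth.Agent.Lib.Helper4.GrpdBC

set_option backward.isDefEq.respectTransparency false
set_option autoImplicit false
set_option linter.style.haveILetI false

universe u
open CategoryTheory CategoryTheory.Limits TensorProduct AlgebraicGeometry

namespace Groth.Agent.Lib.Helper4.GrpdInvBC

/-- Flat base change of an equalizer of rings, phrased with abstract pushout squares. -/
theorem eqLocus_baseChange {C₀ A B C' A' B' : Type u} [CommRing C₀] [CommRing A] [CommRing B]
    [CommRing C'] [CommRing A'] [CommRing B']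
    (ι : C₀ →+* A) (s t : A →+* B) (γ : C₀ →+* C') (α : A →+* A') (ι' : C' →+* A')
    (β : B →+* B') (σ : C' →+* B') (s' t' : A' →+* B')
    (hflat : γ.Flat)
    (hA : IsPushout (CommRingCat.ofHom ι) (CommRingCat.ofHom γ) (CommRingCat.ofHom α)
      (CommRingCat.ofHom ι'))
    (hB : IsPushout (CommRingCat.ofHom (s.comp ι)) (CommRingCat.ofHom γ) (CommRingCat.ofHom β)
      (CommRingCat.ofHom σ))
    (hst : s.comp ι = t.comp ι)
    (hsα : s'.comp α = β.comp s) (hsι : s'.comp ι' = σ)
    (htα : t'.comp α = β.comp t) (htι : t'.comp ι' = σ)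
    (hinj : Function.Injective ι) (hex : ∀ a, s a = t a → ∃ c, ι c = a) :
    Function.Injective ι' ∧ ∀ a', s' a' = t' a' → ∃ c', ι' c' = a' := by
  letI : Algebra C₀ A := ι.toAlgebra
  letI : Algebra C₀ C' := γ.toAlgebra
  letI : Algebra A A' := α.toAlgebra
  letI : Algebra C' A' := ι'.toAlgebra
  letI : Algebra C₀ A' := (α.comp ι).toAlgebra
  letI : Algebra C₀ B := (s.comp ι).toAlgebra
  letI : Algebra B B' := β.toAlgebra
  letI : Algebra C' B' := σ.toAlgebra
  letI : Algebra C₀ B' := (β.comp (s.comp ι)).toAlgebra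
  haveI : IsScalarTower C₀ A A' := .of_algebraMap_eq' rfl
  haveI : IsScalarTower C₀ C' A' := .of_algebraMap_eq' (congr($(hA.w).hom))
  haveI : IsScalarTower C₀ B B' := .of_algebraMap_eq' rfl
  haveI : IsScalarTower C₀ C' B' := .of_algebraMap_eq' (congr($(hB.w).hom))
  haveI : Module.Flat C₀ C' := hflat
  have pA : Algebra.IsPushout C₀ C' A A' :=
    (CommRingCat.isPushout_iff_isPushout.mp hA).symm
  have pB : Algebra.IsPushout C₀ C' B B' :=
    (CommRingCat.isPushout_iff_isPushout.mp hB).symm
  let eA : C' ⊗[C₀] A ≃ₐ[C'] A' := Algebra.IsPushout.equiv C₀ C' A A'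
  let eB : C' ⊗[C₀] B ≃ₐ[C'] B' := Algebra.IsPushout.equiv C₀ C' B B'
  have heA : ∀ (c' : C') (a : A), eA (c' ⊗ₜ a) = ι' c' * α a := fun c' a =>
    Algebra.IsPushout.equiv_tmul C₀ C' A A' c' a
  have heB : ∀ (c' : C') (b : B), eB (c' ⊗ₜ b) = σ c' * β b := fun c' b =>
    Algebra.IsPushout.equiv_tmul C₀ C' B B' c' b
  let sL : A →ₗ[C₀] B :=
    { toFun := s
      map_add' := map_add s
      map_smul' := fun c a => by
        simp only [RingHom.id_apply, Algebra.smul_def, map_mul]
        rfl }
  let tL : A →ₗ[C₀] B :=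
    { toFun := t
      map_add' := map_add t
      map_smul' := fun c a => by
        simp only [RingHom.id_apply, Algebra.smul_def, map_mul]
        have : t (ι c) = s (ι c) := (congrArg (fun f => f c) hst).symm
        change t (ι c) * t a = s (ι c) * t a
        rw [this] }
  let ιL : C₀ →ₗ[C₀] A := Algebra.linearMap C₀ A
  have hexact : Function.Exact ιL (sL - tL) := by
    intro a
    change s a - t a = 0 ↔ _
    rw [sub_eq_zero]
    constructor
    · intro h
      obtain ⟨c, hc⟩ := hex a h
      exact ⟨c, hc⟩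
    · rintro ⟨c, rfl⟩
      exact congrArg (fun f => f c) hst
  have hex' := Module.Flat.lTensor_exact C' hexact
  have hιinj : Function.Injective (ιL.lTensor C') :=
    Module.Flat.lTensor_preserves_injective_linearMap ιL hinj
  have hι : ∀ y : C' ⊗[C₀] C₀, eA (ιL.lTensor C' y) = ι' (TensorProduct.rid C₀ C' y) := by
    intro y
    induction y using TensorProduct.induction_on with
    | zero => simp
    | tmul c' c =>
      rw [LinearMap.lTensor_tmul, heA, TensorProduct.rid_tmul]
      change ι' c' * α (ι c) = ι' (c • c')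
      rw [Algebra.smul_def, map_mul, mul_comm]
      congr 1
      exact congrArg (fun f => f.hom c) hA.w
    | add x y hx hy => simp only [map_add, hx, hy]
  have hd : ∀ z : C' ⊗[C₀] A, eB ((sL - tL).lTensor C' z) = s' (eA z) - t' (eA z) := by
    intro z
    induction z using TensorProduct.induction_on with
    | zero => simp
    | tmul c' a =>
      rw [LinearMap.lTensor_tmul, heB, heA, map_mul, map_mul]
      change σ c' * β (s a - t a) = _
      have h1 : s' (ι' c') = σ c' := congrArg (fun f => f c') hsι
      have h2 : t' (ι' c') = σ c' := congrArg (fun f => f c') htι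
      have h3 : s' (α a) = β (s a) := congrArg (fun f => f a) hsα
      have h4 : t' (α a) = β (t a) := congrArg (fun f => f a) htα
      rw [h1, h2, h3, h4, map_sub, mul_sub]
    | add x y hx hy =>
      simp only [map_add, hx, hy]
      ring
  constructor
  · intro c₁ c₂ h
    have h' : eA (ιL.lTensor C' ((TensorProduct.rid C₀ C').symm c₁)) =
        eA (ιL.lTensor C' ((TensorProduct.rid C₀ C').symm c₂)) := by
      rw [hι, hι, LinearEquiv.apply_symm_apply, LinearEquiv.apply_symm_apply, h]
    exact (TensorProduct.rid C₀ C').symm.injective (hιinj (eA.injective h'))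
  · intro a' ha'
    have h0 : (sL - tL).lTensor C' (eA.symm a') = 0 := by
      apply eB.injective
      rw [hd, AlgEquiv.apply_symm_apply, ha', sub_self, map_zero]
    obtain ⟨y, hy⟩ := (hex' _).mp h0
    refine ⟨TensorProduct.rid C₀ C' y, ?_⟩
    rw [← hι, hy, AlgEquiv.apply_symm_apply]

open Groth.Agent.Lib.Helper4.GrpdBC

variable {S : Scheme.{u}} (G : Grpd.GroupoidScheme S) {M M' : Scheme.{u}} (q : G.U ⟶ M)
  (hq : G.s ≫ q = G.t ≫ q) (g : M' ⟶ M)

/-- `q : U ⟶ M` identifies `Γ(M)` with the ring of invariant functions of `G`. -/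
structure IsInvQuot (G : Grpd.GroupoidScheme S) {M : Scheme.{u}} (q : G.U ⟶ M) : Prop where
  inj : Function.Injective q.appTop.hom
  surj : ∀ a ∈ G.invariants, ∃ c, q.appTop.hom c = a

theorem mem_invariants_iff (a : Γ(G.U, ⊤)) :
    a ∈ G.invariants ↔ G.s.appTop.hom a = G.t.appTop.hom a := Iff.rfl

include hq in
theorem appTop_mem_invariants (c : Γ(M, ⊤)) : q.appTop.hom c ∈ G.invariants := by
  rw [mem_invariants_iff]
  have := congrArg (fun f => f.appTop.hom c) hq
  simpa only [Scheme.Hom.comp_appTop, CommRingCat.hom_comp, RingHom.comp_apply] using this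

theorem isInvQuot_bc [IsAffine G.U] [IsAffine G.R] [IsAffine M] [IsAffine M'] [Flat g]
    (h : IsInvQuot G q) : IsInvQuot (bc G q hq g) (pullback.snd q g) := by
  have hA := isPushout_appTop_of_isPullback (IsPullback.of_hasPullback q g)
  have hB := isPushout_appTop_of_isPullback (IsPullback.of_hasPullback (G.s ≫ q) g)
  have key := eqLocus_baseChange q.appTop.hom G.s.appTop.hom G.t.appTop.hom g.appTop.hom
    (pullback.fst q g).appTop.hom (pullback.snd q g).appTop.hom
    (pullback.fst (G.s ≫ q) g).appTop.hom (pullback.snd (G.s ≫ q) g).appTop.hom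
    (bcs G q g).appTop.hom (bct G q hq g).appTop.hom g.flat_appTop
    (by simpa using hA)
    (by simpa using hB)
    (by
      have := congrArg (fun f => f.appTop.hom) hq
      simpa only [Scheme.Hom.comp_appTop, CommRingCat.hom_comp] using this)
    (by
      have := congrArg (fun f => f.appTop.hom) (bcs_fst G q g)
      simpa only [Scheme.Hom.comp_appTop, CommRingCat.hom_comp] using this)
    (by
      have := congrArg (fun f => f.appTop.hom) (bcs_snd G q g)
      simpa only [Scheme.Hom.comp_appTop, CommRingCat.hom_comp] using this)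
    (by
      have := congrArg (fun f => f.appTop.hom) (bct_fst G q hq g)
      simpa only [Scheme.Hom.comp_appTop, CommRingCat.hom_comp] using this)
    (by
      have := congrArg (fun f => f.appTop.hom) (bct_snd G q hq g)
      simpa only [Scheme.Hom.comp_appTop, CommRingCat.hom_comp] using this)
    h.inj (fun a ha => h.surj a ha)
  exact ⟨key.1, fun a ha => key.2 a ha⟩

end Groth.Agent.Lib.Helper4.GrpdInvBC
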