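import Mathlib
import Groth.Agent.Lib.Helper4.GrpdBC
import Groth.Agent.S1878
import Groth.Agent.S7486
import Groth.Agent.S5213

/-!
# Finite locally free groupoids, affine case: the local step (SGA3 V 4.1, Stacks 03BM)
-/

set_option backward.isDefEq.respectTransparency false
set_option autoImplicit false
set_option linter.style.haveILetI false
set_option linter.unusedSectionVars false

universe u
open CategoryTheory CategoryTheory.Limits AlgebraicGeometry TensorProduct

namespace Groth.Agent.Lib.Helper4.GrpdLocalCase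

open Groth.Agent.Lib.Helper4.GrpdBC

open Groth.Agent.Lib.helper28.FinProjCharpoly

section ring

variable {A B : Type u} [CommRing A] [CommRing B] (s t : A →+* B)

/-- rank of the fibre of a finite projective algebra at a maximal ideal, in the form needed for
`Module.free_of_flat_of_finrank_eq`. -/
theorem finrank_quotient_tensor_eq [Algebra A B] [Module.Finite A B] [Module.Flat A B]
    (P : Ideal A) [hP : P.IsMaximal] :
    Module.finrank (A ⧸ P) ((A ⧸ P) ⊗[A] B) =
      Module.rankAtStalk (R := A) B ⟨P, hP.isPrime⟩ := by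
  letI : Field (A ⧸ P) := Ideal.Quotient.field P
  have h1 := Module.rankAtStalk_baseChange (R := A) (M := B) (S := A ⧸ P) (⊥ : PrimeSpectrum (A ⧸ P))
  have h2 : Module.rankAtStalk (R := A ⧸ P) ((A ⧸ P) ⊗[A] B) (⊥ : PrimeSpectrum (A ⧸ P)) =
      Module.finrank (A ⧸ P) ((A ⧸ P) ⊗[A] B) := by
    rw [Module.rankAtStalk_eq_finrank_of_free]; rfl
  rw [← h2, h1]
  congr 1
  apply PrimeSpectrum.ext
  change Ideal.comap (algebraMap A (A ⧸ P)) ⊥ = P
  rw [← RingHom.ker_eq_comap_bot]
  exact Ideal.mk_ker

theorem comap_eq_maximalIdeal (hint : (RingHom.eqLocus s t).subtype.IsIntegral)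
    [IsLocalRing (RingHom.eqLocus s t)] (P : Ideal A) [P.IsMaximal] :
    P.comap (RingHom.eqLocus s t).subtype = IsLocalRing.maximalIdeal (RingHom.eqLocus s t) := by
  haveI : Algebra.IsIntegral (RingHom.eqLocus s t) A := ⟨hint⟩
  have : (P.comap (algebraMap (RingHom.eqLocus s t) A)).IsMaximal :=
    Ideal.isMaximal_comap_of_isIntegral_of_isMaximal P
  exact IsLocalRing.eq_maximalIdeal this

theorem finite_maximalSpectrum (e : B →+* A)
    (hes : ∀ a, e (s a) = a) (het : ∀ a, e (t a) = a)
    {n₀ : ℕ} {D : DualBasis s n₀} (H : InvData s t D)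
    (hint : (RingHom.eqLocus s t).subtype.IsIntegral) (hfin : s.Finite)
    [IsLocalRing (RingHom.eqLocus s t)] : Finite (MaximalSpectrum A) := by
  rcases isEmpty_or_nonempty (MaximalSpectrum A) with h | ⟨⟨P₀, hP₀⟩⟩
  · infer_instance
  letI := s.toAlgebra
  haveI : Module.Finite A B := hfin
  have hfib : (PrimeSpectrum.comap s ⁻¹' {⟨P₀, hP₀.isPrime⟩}).Finite :=
    Algebra.QuasiFinite.finite_comap_preimage_singleton (R := A) (S := B) ⟨P₀, hP₀.isPrime⟩
  have himg := hfib.image (PrimeSpectrum.comap t)
  let f : MaximalSpectrum A → PrimeSpectrum A := MaximalSpectrum.toPrimeSpectrum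
  have hf : ∀ P : MaximalSpectrum A, f P ∈ PrimeSpectrum.comap t '' (PrimeSpectrum.comap s ⁻¹'
      {⟨P₀, hP₀.isPrime⟩}) := by
    intro P
    haveI := P.isMaximal
    haveI := P.isMaximal.isPrime
    haveI := hP₀.isPrime
    obtain ⟨𝔮, h𝔮, ht, hs⟩ := InvData.exists_prime_orbit H e hes het hint P.asIdeal P₀
      ((comap_eq_maximalIdeal s t hint P.asIdeal).trans
        (comap_eq_maximalIdeal s t hint P₀).symm)
    refine ⟨⟨𝔮, h𝔮⟩, ?_, ?_⟩
    · exact PrimeSpectrum.ext hs
    · exact PrimeSpectrum.ext ht
  haveI : Finite ↥(PrimeSpectrum.comap t '' (PrimeSpectrum.comap s ⁻¹' {⟨P₀, hP₀.isPrime⟩})) :=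
    himg.to_subtype
  exact Finite.of_injective (fun P => (⟨f P, hf P⟩ : ↥(PrimeSpectrum.comap t ''
    (PrimeSpectrum.comap s ⁻¹' {⟨P₀, hP₀.isPrime⟩})))) (fun P Q h => by
      have := congrArg Subtype.val h
      exact MaximalSpectrum.toPrimeSpectrum_injective this)

theorem exists_basis_range_t (e : B →+* A)
    (hes : ∀ a, e (s a) = a) (het : ∀ a, e (t a) = a)
    {n₀ : ℕ} {D : DualBasis s n₀} (H : InvData s t D)
    (hint : (RingHom.eqLocus s t).subtype.IsIntegral) (hfin : s.Finite) (hflat : s.Flat)
    (hrank : ∀ x : PrimeSpectrum B,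
      s.finrank (PrimeSpectrum.comap t x) = s.finrank (PrimeSpectrum.comap s x))
    (hspan : letI := s.toAlgebra; Submodule.span A (Set.range t) = ⊤)
    [IsLocalRing (RingHom.eqLocus s t)]
    [Infinite (IsLocalRing.ResidueField (RingHom.eqLocus s t))] :
    letI := s.toAlgebra
    ∃ (n : ℕ) (x : Fin n → A) (b : Module.Basis (Fin n) A B), ∀ i, b i = t (x i) := by
  letI algAB : Algebra A B := s.toAlgebra
  haveI : Module.Finite A B := hfin
  haveI : Module.Flat A B := hflat
  haveI hsemi : Finite (MaximalSpectrum A) := finite_maximalSpectrum s t e hes het H hint hfin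
  set C : Subring A := RingHom.eqLocus s t with hC
  -- the common rank
  let ρ : PrimeSpectrum A → ℕ := s.finrank
  obtain ⟨n, hn⟩ : ∃ n : ℕ, ∀ P : MaximalSpectrum A, ρ P.toPrimeSpectrum = n := by
    rcases isEmpty_or_nonempty (MaximalSpectrum A) with h | ⟨⟨P₀⟩⟩
    · exact ⟨0, fun P => (h.false P).elim⟩
    refine ⟨ρ P₀.toPrimeSpectrum, fun P => ?_⟩
    haveI := P.isMaximal
    haveI := P.isMaximal.isPrime
    haveI := P₀.isMaximal
    haveI := P₀.isMaximal.isPrime
    obtain ⟨𝔮, h𝔮, ht, hs⟩ := InvData.exists_prime_orbit H e hes het hint P.asIdeal P₀.asIdeal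
      ((comap_eq_maximalIdeal s t hint P.asIdeal).trans
        (comap_eq_maximalIdeal s t hint P₀.asIdeal).symm)
    have := hrank ⟨𝔮, h𝔮⟩
    have e1 : PrimeSpectrum.comap t ⟨𝔮, h𝔮⟩ = P.toPrimeSpectrum := PrimeSpectrum.ext ht
    have e2 : PrimeSpectrum.comap s ⟨𝔮, h𝔮⟩ = P₀.toPrimeSpectrum := PrimeSpectrum.ext hs
    rw [e1, e2] at this
    exact this
  have hfree : Module.Free A B := by
    refine Module.free_of_flat_of_finrank_eq A B n (fun P => ?_)
    haveI := P.isMaximal
    rw [finrank_quotient_tensor_eq P.asIdeal]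
    exact hn P
  -- module structure over C
  letI algCB : Algebra C B := (s.comp C.subtype).toAlgebra
  haveI : IsScalarTower C A B := IsScalarTower.of_algebraMap_eq' rfl
  have hBA : (IsLocalRing.maximalIdeal C).map (algebraMap C A) ≤ (⊥ : Ideal A).jacobson := by
    rw [Ideal.map_le_iff_le_comap]
    intro c hc
    rw [Ideal.mem_comap, Ideal.jacobson, Ideal.mem_sInf]
    rintro J ⟨-, hJ⟩
    haveI := hJ
    have hJc := comap_eq_maximalIdeal s t hint J
    have hc' : c ∈ J.comap C.subtype := by rw [hJc]; exact hc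
    exact hc'
  let tL : A →ₗ[C] B :=
    { toFun := t
      map_add' := map_add t
      map_smul' := fun c a => by
        simp only [RingHom.id_apply]
        rw [Algebra.smul_def, Algebra.smul_def, map_mul]
        have : t (c : A) = s (c : A) := c.2.symm
        change t (c : A) * t a = s (c : A) * t a
        rw [this] }
  let N : Submodule C B := LinearMap.range tL
  have hN : Submodule.span A (N : Set B) = ⊤ := by
    have : (N : Set B) = Set.range t := by
      ext y
      simp only [N, LinearMap.coe_range, Set.mem_range]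
      rfl
    rw [this]; exact hspan
  obtain ⟨b, hb⟩ := Groth.Agent.S5213.result (B := C) (A := A) (M := B) hBA N hN
  choose x hx using fun i => (hb i)
  exact ⟨_, x, b, fun i => (hx i).symm⟩

end ring

/-- A pushout of commutative rings is additively generated by products. -/
theorem mem_closure_of_isPushout {R S T P : CommRingCat.{u}} {f : R ⟶ S} {g : R ⟶ T}
    {inl : S ⟶ P} {inr : T ⟶ P} (h : IsPushout f g inl inr) (y : P) :
    y ∈ AddSubmonoid.closure {z : P | ∃ a a', z = inl.hom a * inr.hom a'} := by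
  algebraize [f.hom, g.hom, inl.hom, inr.hom, inl.hom.comp f.hom]
  have : IsScalarTower R T P := .of_algebraMap_eq' <| congr($(h.1.1).hom)
  have hp : Algebra.IsPushout R S T P := CommRingCat.isPushout_iff_isPushout.mp h
  refine hp.out.inductionOn y _ ?_ ?_ ?_ ?_
  · exact zero_mem _
  · intro m
    apply AddSubmonoid.subset_closure
    exact ⟨1, m, by rw [map_one, one_mul]; rfl⟩
  · intro s n hn
    induction hn using AddSubmonoid.closure_induction with
    | mem z hz =>
      obtain ⟨a, a', rfl⟩ := hz
      apply AddSubmonoid.subset_closure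
      refine ⟨s * a, a', ?_⟩
      rw [Algebra.smul_def, map_mul, mul_assoc]
      rfl
    | zero => rw [smul_zero]; exact zero_mem _
    | add x y _ _ hx hy => rw [smul_add]; exact add_mem hx hy
  · intro n₁ n₂ h₁ h₂
    exact add_mem h₁ h₂

variable {S : Scheme.{u}} (G : Grpd.GroupoidScheme S)

/-- the canonical map `R ⟶ U ×_M U` for `M = Spec` of the invariants -/
noncomputable def kQuot : G.R ⟶ pullback G.toQuot G.toQuot :=
  pullback.lift G.t G.s (Groth.Agent.S1878.t_toQuot G)

@[reassoc (attr := simp)]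
theorem kQuot_fst : kQuot G ≫ pullback.fst G.toQuot G.toQuot = G.t := pullback.lift_fst _ _ _

@[reassoc (attr := simp)]
theorem kQuot_snd : kQuot G ≫ pullback.snd G.toQuot G.toQuot = G.s := pullback.lift_snd _ _ _

variable [IsAffine G.U]

theorem isClosedImmersion_kQuot [IsFinite G.s] (hJ : JMono G) : IsClosedImmersion (kQuot G) := by
  rw [IsClosedImmersion.iff_isFinite_and_mono]
  constructor
  · have : IsFinite (kQuot G ≫ pullback.snd G.toQuot G.toQuot) := by
      rw [kQuot_snd]; infer_instance
    exact IsFinite.of_comp (kQuot G) (pullback.snd G.toQuot G.toQuot)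
  · constructor
    intro T a b hab
    apply hJ
    · have := congrArg (· ≫ pullback.fst G.toQuot G.toQuot) hab
      simpa only [Category.assoc, kQuot_fst] using this
    · have := congrArg (· ≫ pullback.snd G.toQuot G.toQuot) hab
      simpa only [Category.assoc, kQuot_snd] using this

theorem span_range_t_eq_top [IsFinite G.s] (hJ : JMono G) :
    letI := G.s.appTop.hom.toAlgebra
    Submodule.span Γ(G.U, ⊤) (Set.range G.t.appTop.hom) = ⊤ := by
  letI := G.s.appTop.hom.toAlgebra
  have hk := isClosedImmersion_kQuot G hJ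
  have hsurj : Function.Surjective (kQuot G).appTop :=
    ((HasAffineProperty.iff_of_isAffine (P := @IsClosedImmersion)).mp hk).2
  have hpo := isPushout_appTop_of_isPullback (IsPullback.of_hasPullback G.toQuot G.toQuot)
  suffices H : ∀ y, (kQuot G).appTop.hom y ∈
      Submodule.span Γ(G.U, ⊤) (Set.range G.t.appTop.hom) by
    rw [eq_top_iff]
    intro b _
    obtain ⟨y, rfl⟩ := hsurj b
    exact H y
  intro y
  have hy := mem_closure_of_isPushout hpo y
  induction hy using AddSubmonoid.closure_induction with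
  | mem z hz =>
    obtain ⟨a, a', rfl⟩ := hz
    have e1 : (kQuot G).appTop.hom ((pullback.fst G.toQuot G.toQuot).appTop.hom a) =
        G.t.appTop.hom a := by
      have := congrArg (fun f => f.appTop.hom a) (kQuot_fst G)
      simpa only [Scheme.Hom.comp_appTop, CommRingCat.hom_comp, RingHom.comp_apply] using this
    have e2 : (kQuot G).appTop.hom ((pullback.snd G.toQuot G.toQuot).appTop.hom a') =
        G.s.appTop.hom a' := by
      have := congrArg (fun f => f.appTop.hom a') (kQuot_snd G)
      simpa only [Scheme.Hom.comp_appTop, CommRingCat.hom_comp, RingHom.comp_apply] using this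
    rw [map_mul, e1, e2, mul_comm]
    have : G.s.appTop.hom a' * G.t.appTop.hom a = a' • G.t.appTop.hom a := by
      rw [Algebra.smul_def]; rfl
    rw [this]
    exact Submodule.smul_mem _ _ (Submodule.subset_span ⟨a, rfl⟩)
  | zero =>
    rw [map_zero]; exact zero_mem _
  | add x y _ _ hx hy =>
    rw [map_add]; exact add_mem hx hy

variable [IsAffine G.R] [IsFinite G.s] [Flat G.s] [LocallyOfFinitePresentation G.s]
  [IsFinite G.t] [Flat G.t] [LocallyOfFinitePresentation G.t]

/-- the rank of `s` is invariant under the groupoid -/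
theorem finrank_comap_t_eq (x : PrimeSpectrum Γ(G.R, ⊤)) :
    G.s.appTop.hom.finrank (PrimeSpectrum.comap G.t.appTop.hom x) =
      G.s.appTop.hom.finrank (PrimeSpectrum.comap G.s.appTop.hom x) := by
  have sq1 := isPushout_appTop_of_isPullback (IsPullback.of_hasPullback G.s G.t)
  have sq2 := isPushout_appTop_of_isPullback (Groth.Agent.S7457.result S G).2
  have e1 := CommRingCat.finrank_eq_of_isPushout sq1 G.s.flat_appTop G.s.finite_appTop x
  have e2 := CommRingCat.finrank_eq_of_isPushout sq2 G.s.flat_appTop G.s.finite_appTop x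
  exact e1.symm.trans e2

/-- **Local case** of the finite locally free quotient theorem: if the ring of invariants is local
with infinite residue field, `Γ(U)` has a basis `x` over the invariants with `t♯(x)` an `s♯`-basis
of `Γ(R)`, and `Γ(U) ⊗_C Γ(U) ≃ Γ(R)`. -/
theorem local_case (hJ : JMono G) (hloc : IsLocalRing G.invariants)
    (hinf : Infinite (IsLocalRing.ResidueField G.invariants)) :
    ∃ (n : ℕ) (x : ULift.{u} (Fin n) → Γ(G.U, ⊤)),
      (∃ b : Module.Basis (ULift.{u} (Fin n)) G.invariants Γ(G.U, ⊤), ∀ i, b i = x i) ∧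
      (letI := (G.s.appTop.hom.comp G.invariants.subtype).toAlgebra;
        ∀ φ : TensorProduct G.invariants Γ(G.U, ⊤) Γ(G.U, ⊤) →ₗ[G.invariants] Γ(G.R, ⊤),
          (∀ a a' : Γ(G.U, ⊤), φ (a ⊗ₜ[G.invariants] a') =
            G.t.appTop.hom a * G.s.appTop.hom a') → Function.Bijective φ) := by
  obtain ⟨n₀, ⟨D⟩⟩ := Groth.Agent.S1879.exists_dualBasis G.s
  have H := Groth.Agent.S1878.invData G D
  have hint := Groth.Agent.S1878.isIntegral_subtype G
  have hes := Groth.Agent.S1879.e_s_app G
  have het := Groth.Agent.S1879.e_t_app G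
  haveI : IsLocalRing (RingHom.eqLocus G.s.appTop.hom G.t.appTop.hom) := hloc
  haveI : Infinite (IsLocalRing.ResidueField (RingHom.eqLocus G.s.appTop.hom G.t.appTop.hom)) :=
    hinf
  obtain ⟨n, x, b, hb⟩ := exists_basis_range_t G.s.appTop.hom G.t.appTop.hom G.e.appTop.hom
    hes het H hint G.s.finite_appTop G.s.flat_appTop (finrank_comap_t_eq G)
    (span_range_t_eq_top G hJ)
  have hB : letI := G.s.appTop.hom.toAlgebra
      ∃ b' : Module.Basis (ULift.{u} (Fin n)) Γ(G.U, ⊤) Γ(G.R, ⊤),
        ∀ i, b' i = G.t.appTop.hom (x i.down) := by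
    letI := G.s.appTop.hom.toAlgebra
    exact ⟨b.reindex Equiv.ulift.symm, fun i => by
      rw [Module.Basis.reindex_apply]; exact hb _⟩
  exact ⟨n, fun i => x i.down,
    Groth.Agent.S7486.result S G (ULift.{u} (Fin n)) (fun i => x i.down) hB⟩

end Groth.Agent.Lib.Helper4.GrpdLocalCase
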