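import Mathlib
import Groth.Agent.Lib.Helper4.GrpdLocalCase
import Groth.Agent.Lib.Helper4.GrpdInvBC

/-!
# Finite locally free groupoids, affine case: from the local basis to flatness and `R = U ×_M U`
-/

set_option backward.isDefEq.respectTransparency false
set_option autoImplicit false
set_option linter.style.haveILetI false
set_option linter.unusedSectionVars false

universe u
open CategoryTheory CategoryTheory.Limits AlgebraicGeometry TensorProduct

namespace Groth.Agent.Lib.Helper4.GrpdQuotLocal

open Groth.Agent.Lib.Helper4.GrpdBC Groth.Agent.Lib.Helper4.GrpdInvBC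
  Groth.Agent.Lib.Helper4.GrpdLocalCase

variable {S : Scheme.{u}} (G : Grpd.GroupoidScheme S) [IsAffine G.U] [IsAffine G.R]
  {M : Scheme.{u}} [IsAffine M] (q : G.U ⟶ M) (hq : G.s ≫ q = G.t ≫ q)

include hq in
/-- If `Γ(U)` is free over the invariants `≅ Γ(M)`, then `q` is flat. -/
theorem flat_of_basis (hI : IsInvQuot G q) {ι : Type u}
    (b : Module.Basis ι G.invariants Γ(G.U, ⊤)) : Flat q := by
  rw [HasRingHomProperty.iff_of_isAffine (P := @Flat)]
  let ε : Γ(M, ⊤) →+* G.invariants :=
    q.appTop.hom.codRestrict G.invariants (fun c => appTop_mem_invariants G q hq c)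
  have hε : Function.Bijective ε := by
    constructor
    · intro c₁ c₂ h
      exact hI.inj (congrArg Subtype.val h)
    · rintro ⟨a, ha⟩
      obtain ⟨c, hc⟩ := hI.surj a ha
      exact ⟨c, Subtype.ext hc⟩
  have h1 : ε.Flat := RingHom.Flat.of_bijective hε
  haveI : Module.Free G.invariants Γ(G.U, ⊤) := Module.Free.of_basis b
  have h2 : (algebraMap G.invariants Γ(G.U, ⊤)).Flat :=
    RingHom.flat_algebraMap_iff.mpr inferInstance
  have h3 : q.appTop.hom = (algebraMap G.invariants Γ(G.U, ⊤)).comp ε := by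
    ext c; rfl
  rw [h3]
  exact h1.comp h2

/-- the canonical map `R ⟶ U ×_M U` -/
noncomputable def kq : G.R ⟶ pullback q q := pullback.lift G.t G.s hq.symm

@[reassoc (attr := simp)]
theorem kq_fst : kq G q hq ≫ pullback.fst q q = G.t := pullback.lift_fst _ _ _

@[reassoc (attr := simp)]
theorem kq_snd : kq G q hq ≫ pullback.snd q q = G.s := pullback.lift_snd _ _ _

theorem kq_appTop_fst (a : Γ(G.U, ⊤)) :
    (kq G q hq).appTop.hom ((pullback.fst q q).appTop.hom a) = G.t.appTop.hom a := by
  have := congrArg (fun f => f.appTop.hom a) (kq_fst G q hq)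
  simpa only [Scheme.Hom.comp_appTop, CommRingCat.hom_comp, RingHom.comp_apply] using this

theorem kq_appTop_snd (a : Γ(G.U, ⊤)) :
    (kq G q hq).appTop.hom ((pullback.snd q q).appTop.hom a) = G.s.appTop.hom a := by
  have := congrArg (fun f => f.appTop.hom a) (kq_snd G q hq)
  simpa only [Scheme.Hom.comp_appTop, CommRingCat.hom_comp, RingHom.comp_apply] using this

include hq in
/-- If `Γ(U) ⊗_C Γ(U) → Γ(R)` is bijective (`C ≅ Γ(M)` the invariants), then `R = U ×_M U`. -/
theorem isPullback_of_bijective (hI : IsInvQuot G q)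
    (hφ : letI := (G.s.appTop.hom.comp G.invariants.subtype).toAlgebra;
      ∀ φ : TensorProduct G.invariants Γ(G.U, ⊤) Γ(G.U, ⊤) →ₗ[G.invariants] Γ(G.R, ⊤),
        (∀ a a' : Γ(G.U, ⊤), φ (a ⊗ₜ[G.invariants] a') =
          G.t.appTop.hom a * G.s.appTop.hom a') → Function.Bijective φ) :
    IsPullback G.t G.s q q := by
  letI algCB : Algebra G.invariants Γ(G.R, ⊤) :=
    (G.s.appTop.hom.comp G.invariants.subtype).toAlgebra
  have hc : ∀ c : G.invariants, G.t.appTop.hom (c : Γ(G.U, ⊤)) = G.s.appTop.hom c :=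
    fun c => c.2.symm
  have hsm : ∀ (c : G.invariants) (y : Γ(G.R, ⊤)), c • y = G.s.appTop.hom c * y := fun c y => by
    rw [Algebra.smul_def]; rfl
  let φ : TensorProduct G.invariants Γ(G.U, ⊤) Γ(G.U, ⊤) →ₗ[G.invariants] Γ(G.R, ⊤) :=
    TensorProduct.lift (LinearMap.mk₂ G.invariants
      (fun a a' => G.t.appTop.hom a * G.s.appTop.hom a')
      (fun a₁ a₂ a' => by simp only [map_add, add_mul])
      (fun c a a' => by
        rw [hsm, Algebra.smul_def, map_mul]
        change G.t.appTop.hom (c : Γ(G.U, ⊤)) * _ * _ = _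
        rw [hc, mul_assoc])
      (fun a a₁ a₂ => by simp only [map_add, mul_add])
      (fun c a a' => by
        rw [hsm, Algebra.smul_def, map_mul]
        change _ * (G.s.appTop.hom (c : Γ(G.U, ⊤)) * _) = _
        ring))
  have hφ' : Function.Bijective φ := hφ φ (fun a a' => by
    simp only [φ, TensorProduct.lift.tmul, LinearMap.mk₂_apply])
  -- the additive map to `Γ(U ×_M U)`
  have hfs : ∀ c : G.invariants, (pullback.fst q q).appTop.hom (c : Γ(G.U, ⊤)) =
      (pullback.snd q q).appTop.hom c := by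
    intro c
    obtain ⟨m, hm⟩ := hI.surj c.1 c.2
    rw [← hm]
    have := congrArg (fun f => f.appTop.hom m) (pullback.condition (f := q) (g := q))
    simpa only [Scheme.Hom.comp_appTop, CommRingCat.hom_comp, RingHom.comp_apply] using this
  let f : Γ(G.U, ⊤) →+ Γ(G.U, ⊤) →+ Γ(pullback q q, ⊤) :=
    AddMonoidHom.mk' (fun a => AddMonoidHom.mk'
      (fun a' => (pullback.fst q q).appTop.hom a * (pullback.snd q q).appTop.hom a')
      (fun a₁ a₂ => by simp only [map_add, mul_add]))
      (fun a₁ a₂ => by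
        ext a'
        simp only [AddMonoidHom.mk'_apply, AddMonoidHom.add_apply, map_add, add_mul])
  let ψ : TensorProduct G.invariants Γ(G.U, ⊤) Γ(G.U, ⊤) →+ Γ(pullback q q, ⊤) :=
    TensorProduct.liftAddHom f (fun c a a' => by
      simp only [f, AddMonoidHom.mk'_apply]
      rw [Algebra.smul_def, Algebra.smul_def, map_mul, map_mul]
      change (pullback.fst q q).appTop.hom (c : Γ(G.U, ⊤)) * _ * _ =
        _ * ((pullback.snd q q).appTop.hom (c : Γ(G.U, ⊤)) * _)
      rw [hfs]
      ring)
  have hψ : ∀ a a', ψ (a ⊗ₜ[G.invariants] a') =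
      (pullback.fst q q).appTop.hom a * (pullback.snd q q).appTop.hom a' := fun a a' => by
    simp only [ψ, TensorProduct.liftAddHom_tmul, f, AddMonoidHom.mk'_apply]
  have hkψ : ∀ z, (kq G q hq).appTop.hom (ψ z) = φ z := by
    intro z
    induction z using TensorProduct.induction_on with
    | zero => simp
    | tmul a a' =>
      rw [hψ, map_mul, kq_appTop_fst, kq_appTop_snd]
      simp only [φ, TensorProduct.lift.tmul, LinearMap.mk₂_apply]
    | add x y hx hy => rw [map_add, map_add, map_add, hx, hy]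
  have hψsurj : Function.Surjective ψ := by
    intro y
    have hpo := isPushout_appTop_of_isPullback (IsPullback.of_hasPullback q q)
    have hy := mem_closure_of_isPushout hpo y
    induction hy using AddSubmonoid.closure_induction with
    | mem z hz =>
      obtain ⟨a, a', rfl⟩ := hz
      exact ⟨a ⊗ₜ a', hψ a a'⟩
    | zero => exact ⟨0, map_zero _⟩
    | add x y _ _ hx hy =>
      obtain ⟨zx, rfl⟩ := hx
      obtain ⟨zy, rfl⟩ := hy
      exact ⟨zx + zy, map_add _ _ _⟩
  have hbij : Function.Bijective (kq G q hq).appTop.hom := by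
    constructor
    · rw [injective_iff_map_eq_zero]
      intro y hy
      obtain ⟨z, rfl⟩ := hψsurj y
      rw [hkψ] at hy
      have : z = 0 := hφ'.1 (by rw [hy, map_zero])
      rw [this, map_zero]
    · intro b
      obtain ⟨z, rfl⟩ := hφ'.2 b
      exact ⟨ψ z, hkψ z⟩
  have hiso : IsIso (kq G q hq) := by
    have h1 : IsIso (kq G q hq).appTop :=
      (ConcreteCategory.isIso_iff_bijective _).mpr hbij
    exact (HasAffineProperty.iff_of_isAffine (P := MorphismProperty.isomorphisms Scheme)).mpr
      ⟨inferInstance, h1⟩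
  exact IsPullback.of_iso_pullback ⟨hq.symm⟩ (asIso (kq G q hq)) (kq_fst G q hq) (kq_snd G q hq)

end Groth.Agent.Lib.Helper4.GrpdQuotLocal
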