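import Mathlib
import Groth.Agent.Lib.Helper4.GrpdQuotLocal
import Groth.Agent.Lib.Helper4.GrpdPolyLoc

/-!
# Finite locally free groupoids, affine case: local data at every point of `M = Spec C`
-/

set_option backward.isDefEq.respectTransparency false
set_option autoImplicit false
set_option linter.style.haveILetI false
set_option linter.unusedSectionVars false

universe u
open CategoryTheory CategoryTheory.Limits AlgebraicGeometry TensorProduct

namespace Groth.Agent.Lib.Helper4.GrpdQuotData

open Groth.Agent.Lib.Helper4.GrpdBC Groth.Agent.Lib.Helper4.GrpdInvBC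
  Groth.Agent.Lib.Helper4.GrpdLocalCase Groth.Agent.Lib.Helper4.GrpdQuotLocal
  Groth.Agent.Lib.Helper4.GrpdPolyLoc

variable {S : Scheme.{u}} (G : Grpd.GroupoidScheme S)

theorem toQuot_appTop : G.toQuot.appTop =
    (Scheme.ΓSpecIso (CommRingCat.of G.invariants)).hom ≫
      CommRingCat.ofHom G.invariants.subtype := by
  unfold Grpd.GroupoidScheme.toQuot
  rw [Scheme.Hom.comp_appTop, Scheme.toSpecΓ_appTop]
  exact Scheme.ΓSpecIso_naturality (CommRingCat.ofHom G.invariants.subtype)

theorem s_toQuot : G.s ≫ G.toQuot = G.t ≫ G.toQuot := (Groth.Agent.S1878.t_toQuot G).symm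

theorem isInvQuot_toQuot : IsInvQuot G G.toQuot := by
  have h : ∀ c, G.toQuot.appTop.hom c =
      ((Scheme.ΓSpecIso (CommRingCat.of G.invariants)).hom c : G.invariants).1 := by
    intro c
    rw [toQuot_appTop]
    rfl
  constructor
  · intro c₁ c₂ h12
    rw [h, h] at h12
    have := Subtype.ext h12
    exact (ConcreteCategory.bijective_of_isIso
      (Scheme.ΓSpecIso (CommRingCat.of G.invariants)).hom).1 this
  · intro a ha
    obtain ⟨c, hc⟩ := (ConcreteCategory.bijective_of_isIso
      (Scheme.ΓSpecIso (CommRingCat.of G.invariants)).hom).2 (⟨a, ha⟩ : G.invariants)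
    refine ⟨c, ?_⟩
    rw [h, hc]


section aux

variable [IsAffine G.U] [IsAffine G.R] [IsFinite G.s] [Flat G.s] [LocallyOfFinitePresentation G.s]
  [IsFinite G.t] [Flat G.t] [LocallyOfFinitePresentation G.t]

/-- The local case, packaged for an arbitrary invariant quotient map to an affine local scheme
with infinite residue field. -/
theorem local_data_aux {M : Scheme.{u}} [IsAffine M] (q : G.U ⟶ M) (hq : G.s ≫ q = G.t ≫ q)
    (hI : IsInvQuot G q) (hJ : JMono G) {C' : Type u} [CommRing C'] [IsLocalRing C']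
    [Infinite (IsLocalRing.ResidueField C')] (e₀ : C' ≃+* Γ(M, ⊤)) :
    Flat q ∧ IsPullback G.t G.s q q := by
  let ε : Γ(M, ⊤) →+* G.invariants :=
    q.appTop.hom.codRestrict G.invariants (fun c => appTop_mem_invariants G q hq c)
  have hε : Function.Bijective ε := by
    constructor
    · intro c₁ c₂ h
      exact hI.inj (congrArg Subtype.val h)
    · rintro ⟨a, ha⟩
      obtain ⟨c, hc⟩ := hI.surj a ha
      exact ⟨c, Subtype.ext hc⟩
  let e : C' ≃+* G.invariants := e₀.trans (RingEquiv.ofBijective ε hε)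
  haveI hloc : IsLocalRing G.invariants := e.isLocalRing
  haveI hinf : Infinite (IsLocalRing.ResidueField G.invariants) :=
    Infinite.of_injective _ (IsLocalRing.ResidueField.mapEquiv e).injective
  obtain ⟨n, x, ⟨b, hb⟩, hφ⟩ := local_case G hJ hloc hinf
  exact ⟨flat_of_basis G q hq hI b, isPullback_of_bijective G q hq hI hφ⟩

end aux

section data

variable [IsAffine G.U] [IsAffine G.R] [IsFinite G.s] [Flat G.s] [LocallyOfFinitePresentation G.s]
  [IsFinite G.t] [Flat G.t] [LocallyOfFinitePresentation G.t]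

/-- Local data at a point `m` of `M = Spec C`: a flat `g : M' ⟶ M` hitting `m` over which the
base changed groupoid has a flat quotient map and `R' = U' ×_{M'} U'`. -/
theorem exists_local_data (hJ : JMono G) (m : ↥(Spec (CommRingCat.of G.invariants))) :
    ∃ (M' : Scheme.{u}) (g : M' ⟶ Spec (CommRingCat.of G.invariants)),
      IsAffine M' ∧ Flat g ∧ m ∈ Set.range g ∧ Flat (pullback.snd G.toQuot g) ∧
      IsPullback (bct G G.toQuot (s_toQuot G) g) (bcs G G.toQuot g)
        (pullback.snd G.toQuot g) (pullback.snd G.toQuot g) := by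
  let 𝔭 : Ideal G.invariants := m.asIdeal
  haveI h𝔭 : 𝔭.IsPrime := m.isPrime
  let g : Spec (CommRingCat.of (PolyLoc 𝔭)) ⟶ Spec (CommRingCat.of G.invariants) :=
    Spec.map (CommRingCat.ofHom (algebraMap G.invariants (PolyLoc 𝔭)))
  haveI hgflat : Flat g :=
    (HasRingHomProperty.Spec_iff (P := @Flat)).mpr (RingHom.flat_algebraMap_iff.mpr inferInstance)
  have hm : m ∈ Set.range g := by
    refine ⟨IsLocalRing.closedPoint (PolyLoc 𝔭), ?_⟩
    apply PrimeSpectrum.ext
    exact comap_maximalIdeal 𝔭
  have hI' : IsInvQuot (bc G G.toQuot (s_toQuot G) g) (pullback.snd G.toQuot g) :=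
    isInvQuot_bc G G.toQuot (s_toQuot G) g (isInvQuot_toQuot G)
  have hq' : (bc G G.toQuot (s_toQuot G) g).s ≫ pullback.snd G.toQuot g =
      (bc G G.toQuot (s_toQuot G) g).t ≫ pullback.snd G.toQuot g := by
    rw [bc_s, bc_t, bcs_snd, bct_snd]
  obtain ⟨h1, h2⟩ := local_data_aux (bc G G.toQuot (s_toQuot G) g) (pullback.snd G.toQuot g) hq'
    hI' (jMono_bc G G.toQuot (s_toQuot G) g hJ)
    (Scheme.ΓSpecIso (CommRingCat.of (PolyLoc 𝔭))).symm.commRingCatIsoToRingEquiv
  exact ⟨Spec (CommRingCat.of (PolyLoc 𝔭)), g, inferInstance, hgflat, hm, h1, h2⟩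

end data

end Groth.Agent.Lib.Helper4.GrpdQuotData
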