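import Mathlib
import Groth.Agent.Lib.Helper4.GrpdQuotData
import Groth.Agent.Lib.Helper12.SpecPushout

/-!
# Finite locally free groupoids, affine case: topological and categorical properties of `U ⟶ Spec C`

No monomorphism assumption on `j` here.
-/

set_option backward.isDefEq.respectTransparency false
set_option autoImplicit false
set_option linter.style.haveILetI false
set_option linter.unusedSectionVars false

universe u
open CategoryTheory CategoryTheory.Limits AlgebraicGeometry

namespace Groth.Agent.Lib.Helper4.GrpdAffQuot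

open Groth.Agent.Lib.Helper4.GrpdBC Groth.Agent.Lib.Helper4.GrpdInvBC
  Groth.Agent.Lib.Helper4.GrpdQuotData Groth.Agent.Lib.Helper12.SpecPushout

variable {S : Scheme.{u}} (G : Grpd.GroupoidScheme S)
  [IsAffine G.U] [IsAffine G.R] [IsFinite G.s] [Flat G.s] [LocallyOfFinitePresentation G.s]
  [IsFinite G.t] [Flat G.t] [LocallyOfFinitePresentation G.t]

instance isIntegralHom_toQuot : IsIntegralHom G.toQuot := by
  rw [HasAffineProperty.iff_of_isAffine (P := @IsIntegralHom)]
  refine ⟨inferInstance, ?_⟩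
  change (G.toQuot.appTop).hom.IsIntegral
  rw [toQuot_appTop, CommRingCat.hom_comp]
  have h1 : (CommRingCat.ofHom G.invariants.subtype).hom.IsIntegral := by
    have := Groth.Agent.S1879.result S G
    exact algebraMap_isIntegral_iff.mpr this
  exact RingHom.IsIntegral.trans _ _
    (RingHom.isIntegral_of_surjective _
      (ConcreteCategory.bijective_of_isIso (Scheme.ΓSpecIso (CommRingCat.of G.invariants)).hom).2)
    h1

theorem surjective_toQuot : Function.Surjective G.toQuot := (Groth.Agent.S1878.result S G).1.1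

instance : Surjective G.toQuot := ⟨surjective_toQuot G⟩

theorem toQuot_eq_iff (u₀ u₁ : G.U) :
    G.toQuot u₀ = G.toQuot u₁ ↔ ∃ r : G.R, G.t r = u₀ ∧ G.s r = u₁ :=
  (Groth.Agent.S1878.result S G).1.2 u₀ u₁

theorem isQuotientMap_toQuot : Topology.IsQuotientMap G.toQuot.base :=
  IsClosedMap.isQuotientMap G.toQuot.isClosedMap G.toQuot.continuous (surjective_toQuot G)

theorem isOpenMap_toQuot : IsOpenMap G.toQuot.base := by
  intro V hV
  rw [← (isQuotientMap_toQuot G).isOpen_preimage]
  have : G.toQuot.base ⁻¹' (G.toQuot.base '' V) = G.t.base '' (G.s.base ⁻¹' V) := by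
    ext u
    constructor
    · rintro ⟨v, hv, hvu⟩
      obtain ⟨r, hr1, hr2⟩ := (toQuot_eq_iff G u v).mp hvu.symm
      exact ⟨r, by simpa [hr2] using hv, hr1⟩
    · rintro ⟨r, hr, rfl⟩
      exact ⟨G.s r, hr, ((toQuot_eq_iff G _ _).mpr ⟨r, rfl, rfl⟩).symm⟩
  rw [this]
  exact G.t.isOpenMap _ (hV.preimage G.s.continuous)

theorem app_injective_toQuot (V : (Spec (CommRingCat.of G.invariants)).Opens) :
    Function.Injective (G.toQuot.app V) := by
  unfold Grpd.GroupoidScheme.toQuot
  rw [Scheme.Hom.comp_app]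
  have h1 := app_injective_specMap (CommRingCat.ofHom G.invariants.subtype)
    Subtype.val_injective V
  have h2 : Function.Injective
      (G.U.toSpecΓ.app (Spec.map (CommRingCat.ofHom G.invariants.subtype) ⁻¹ᵁ V)) :=
    (ConcreteCategory.bijective_of_isIso _).1
  exact h2.comp h1

theorem hex_toQuot (c : Γ(G.U, ⊤)) (hc : G.s.appTop c = G.t.appTop c) :
    ∃ x : Γ(Spec (CommRingCat.of G.invariants), ⊤), G.toQuot.appTop x = c :=
  (isInvQuot_toQuot G).surj c hc

/-- invariant sections over the preimage of an open of `Spec C` descend -/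
theorem mem_range_app_toQuot (V : (Spec (CommRingCat.of G.invariants)).Opens)
    (σ : Γ(G.U, G.toQuot ⁻¹ᵁ V))
    (hσ : G.s.app (G.toQuot ⁻¹ᵁ V) σ =
      G.t.appLE (G.toQuot ⁻¹ᵁ V) (G.s ⁻¹ᵁ G.toQuot ⁻¹ᵁ V)
        (preimage_le G.toQuot G.s G.t (s_toQuot G) _) σ) :
    σ ∈ Set.range (G.toQuot.app V) :=
  mem_range_app G.toQuot G.s G.t (s_toQuot G) (hex_toQuot G) (app_injective_toQuot G) V σ hσ

section desc

variable {T : Scheme.{u}} (g : G.U ⟶ T) (hg : G.s ≫ g = G.t ≫ g)

include hg in
theorem hfib_toQuot (x x' : G.U) (h : G.toQuot.base x = G.toQuot.base x') :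
    g.base x = g.base x' := by
  obtain ⟨r, hr1, hr2⟩ := (toQuot_eq_iff G x x').mp h
  rw [← hr1, ← hr2]
  change (G.t ≫ g) r = (G.s ≫ g) r
  rw [hg]

/-- `Spec C` is the coequalizer of `(s, t)` in the category of schemes: existence -/
noncomputable def descQuot : Spec (CommRingCat.of G.invariants) ⟶ T :=
  Coeq.desc G.toQuot G.s G.t (s_toQuot G) (hex_toQuot G) (app_injective_toQuot G)
    (isQuotientMap_toQuot G) g hg (hfib_toQuot G g hg)

theorem toQuot_descQuot : G.toQuot ≫ descQuot G g hg = g :=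
  Coeq.fac G.toQuot G.s G.t (s_toQuot G) (hex_toQuot G) (app_injective_toQuot G)
    (isQuotientMap_toQuot G) g hg (hfib_toQuot G g hg)

end desc

theorem uniq_toQuot {T : Scheme.{u}} (k₁ k₂ : Spec (CommRingCat.of G.invariants) ⟶ T)
    (hk : G.toQuot ≫ k₁ = G.toQuot ≫ k₂) : k₁ = k₂ :=
  Coeq.uniq G.toQuot (app_injective_toQuot G) (isQuotientMap_toQuot G) k₁ k₂ hk

end Groth.Agent.Lib.Helper4.GrpdAffQuot
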