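import Mathlib
import Groth.Agent.Lib.Helper4.GrpdAffQuot
import Groth.Agent.Lib.Helper4.GrpdLocalCase

/-!
# Finite locally free groupoids, affine case: `R ⟶ U ×_M U` is surjective
-/

set_option backward.isDefEq.respectTransparency false
set_option autoImplicit false
set_option linter.style.haveILetI false
set_option linter.unusedSectionVars false

universe u
open CategoryTheory CategoryTheory.Limits AlgebraicGeometry

namespace Groth.Agent.Lib.Helper4.GrpdAffSurj

open Groth.Agent.Lib.Helper4.GrpdLocalCase

variable {S : Scheme.{u}} (G : Grpd.GroupoidScheme S)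
  [IsAffine G.U] [IsAffine G.R] [IsFinite G.s] [Flat G.s] [LocallyOfFinitePresentation G.s]
  [IsFinite G.t] [Flat G.t] [LocallyOfFinitePresentation G.t]

theorem surjective_kQuot : Function.Surjective (kQuot G) := by
  intro z
  let K := (pullback G.toQuot G.toQuot).residueField z
  let Kbar : Type u := AlgebraicClosure K
  let ξ : Spec (CommRingCat.of Kbar) ⟶ pullback G.toQuot G.toQuot :=
    Spec.map (CommRingCat.ofHom (algebraMap K Kbar)) ≫
      (pullback G.toQuot G.toQuot).fromSpecResidueField z
  have hξ : ∀ pt, ξ pt = z := fun pt => by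
    change ((pullback G.toQuot G.toQuot).fromSpecResidueField z) _ = z
    exact Scheme.fromSpecResidueField_apply _ _
  obtain ⟨r, hr1, hr2⟩ := (((Groth.Agent.S1878.result S G).2 Kbar).2
    (ξ ≫ pullback.fst _ _) (ξ ≫ pullback.snd _ _)).mp
    (by simp only [Category.assoc, pullback.condition])
  have hrk : r ≫ kQuot G = ξ := by
    apply pullback.hom_ext
    · rw [Category.assoc, kQuot_fst, hr1]
    · rw [Category.assoc, kQuot_snd, hr2]
  have pt : Spec (CommRingCat.of Kbar) := IsLocalRing.closedPoint Kbar
  refine ⟨r pt, ?_⟩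
  rw [← Scheme.Hom.comp_apply, hrk, hξ]

end Groth.Agent.Lib.Helper4.GrpdAffSurj
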