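import Mathlib
import Groth.Prelude.Def_SGA1

/-!
# Descent along universally submersive morphisms (helper4)

* `univSubmersive_isStableUnderBaseChange`, `univSubmersive_respectsIso`.
* `UnivSubmersive.isQuotientMap`, `UnivSubmersive.surjective`.
* `descendsAlong_universallyClosed_univSubmersive`: universally closed descends along universally
  submersive morphisms (hence so does its diagonal version).
* `descendsAlong_quasiCompact_surjective_inf_quasiCompact`.
* `isSeparated_of_pullback_of_isOpenImmersion_diagonal`.
* `isFinite_of_etale_of_pullback_snd`: S14797.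
-/

set_option backward.isDefEq.respectTransparency false
set_option autoImplicit false
set_option linter.style.haveILetI false

universe u

open CategoryTheory AlgebraicGeometry CategoryTheory.Limits MorphismProperty

namespace Groth.Agent.Lib.helper4.SubmDescent

instance univSubmersive_isStableUnderBaseChange :
    (SGA1.UnivSubmersive : MorphismProperty Scheme.{u}).IsStableUnderBaseChange :=
  universally_isStableUnderBaseChange _

instance univSubmersive_respectsIso :
    (SGA1.UnivSubmersive : MorphismProperty Scheme.{u}).RespectsIso :=
  inferInstance

theorem UnivSubmersive.isQuotientMap {X Y : Scheme.{u}} {f : X ⟶ Y} (hf : SGA1.UnivSubmersive f) :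
    Topology.IsQuotientMap f :=
  hf (𝟙 X) (𝟙 Y) f (IsPullback.of_id_snd (f := f))

theorem UnivSubmersive.surjective {X Y : Scheme.{u}} {f : X ⟶ Y} (hf : SGA1.UnivSubmersive f) :
    Function.Surjective f :=
  (UnivSubmersive.isQuotientMap hf).surjective

/-- Universally closed morphisms descend along universally submersive morphisms. -/
instance descendsAlong_universallyClosed_univSubmersive :
    DescendsAlong @UniversallyClosed (SGA1.UnivSubmersive : MorphismProperty Scheme.{u}) := by
  apply DescendsAlong.mk'
  intro X Y Z f g _ hf hfst
  refine ⟨universally_mk' _ _ fun {T} f' _ s hs ↦ ?_⟩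
  -- `f' : T ⟶ Z`, `s` closed in `pullback f' g`, show image under `pullback.fst f' g` closed
  let p := pullback.fst (pullback.fst f f') (pullback.fst f g)
  let r : pullback (pullback.fst f f') (pullback.fst f g) ⟶ pullback f' g :=
    pullback.map _ _ _ _ (pullback.snd _ _) (pullback.snd _ _) f (pullback.condition ..)
      (pullback.condition ..)
  have hq : Topology.IsQuotientMap (pullback.snd f f') :=
    UnivSubmersive.isQuotientMap (MorphismProperty.pullback_snd _ _ hf)
  have : IsClosed ((pullback.snd f f').base ⁻¹' ((pullback.fst f' g).base '' s)) := by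
    rw [← Scheme.image_preimage_eq_of_isPullback (isPullback_map_snd_snd ..)]
    exact p.isClosedMap _ (hs.preimage r.continuous)
  rwa [hq.isClosed_preimage] at this

/-- Quasi-compactness descends along surjective quasi-compact morphisms. -/
instance descendsAlong_quasiCompact_surjective_inf_quasiCompact :
    DescendsAlong @QuasiCompact (@Surjective ⊓ @QuasiCompact : MorphismProperty Scheme.{u}) where
  of_isPullback {A X Y Z fst snd f g} h hf hfst := by
    have hf1 : Surjective f := hf.1
    have hf3 : QuasiCompact f := hf.2
    have hfst' : QuasiCompact fst := hfst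
    have hsnd : Surjective snd := MorphismProperty.of_isPullback (P := @Surjective) h hf1
    refine ⟨fun U hU hUc => ?_⟩
    have h1 : IsCompact (f ⁻¹' U) := hf3.isCompact_preimage U hU hUc
    have h2 : IsCompact (fst ⁻¹' (f ⁻¹' U)) :=
      hfst'.isCompact_preimage _ (hU.preimage f.continuous) h1
    have h3 : snd '' (fst ⁻¹' (f ⁻¹' U)) = g ⁻¹' U := by
      ext y
      constructor
      · rintro ⟨a, ha, rfl⟩
        change g (snd a) ∈ U
        rw [← Scheme.Hom.comp_apply, ← h.w, Scheme.Hom.comp_apply]
        exact ha
      · intro hy
        obtain ⟨a, rfl⟩ := hsnd.surj y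
        refine ⟨a, ?_, rfl⟩
        change f (fst a) ∈ U
        rw [← Scheme.Hom.comp_apply, h.w, Scheme.Hom.comp_apply]
        exact hy
    rw [← h3]
    exact h2.image snd.continuous

/-- S14797: finiteness of an étale morphism descends along quasi-compact universally submersive
morphisms. -/
theorem isFinite_of_etale_of_pullback_snd {X S S' : Scheme.{u}} (g : S' ⟶ S)
    [QuasiCompact g] (hg : SGA1.UnivSubmersive g) (f : X ⟶ S) [Etale f]
    [IsFinite (pullback.snd f g)] : IsFinite f := by
  have hsurj : Surjective g := ⟨UnivSubmersive.surjective hg⟩
  -- universally closed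
  have huc : UniversallyClosed f :=
    of_pullback_snd_of_descendsAlong (P := @UniversallyClosed)
      (Q := (SGA1.UnivSubmersive : MorphismProperty Scheme.{u})) (f := f) (g := g) hg
      inferInstance
  -- quasi-compact
  have hqc : QuasiCompact f :=
    of_pullback_snd_of_descendsAlong (P := @QuasiCompact)
      (Q := (@Surjective ⊓ @QuasiCompact : MorphismProperty Scheme.{u})) (f := f) (g := g)
      ⟨hsurj, inferInstance⟩ inferInstance
  -- diagonal universally closed
  have hdiag : (diagonal @UniversallyClosed) f :=
    of_pullback_snd_of_descendsAlong (P := diagonal @UniversallyClosed)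
      (Q := (SGA1.UnivSubmersive : MorphismProperty Scheme.{u})) (f := f) (g := g) hg
      (by
        show UniversallyClosed (pullback.diagonal (pullback.snd f g))
        infer_instance)
  have hdiag' : UniversallyClosed (pullback.diagonal f) := hdiag
  have hsep : IsSeparated f := by
    refine ⟨?_⟩
    exact IsClosedImmersion.of_isPreimmersion _ (pullback.diagonal f).isClosedMap.isClosed_range
  have hproper : IsProper f := { }
  have hlqf : LocallyQuasiFinite f := by
    refine ⟨fun {U} hU {V} hV e ↦ ?_⟩
    have h1 : (f.appLE U V e).hom.FiniteType := f.finiteType_appLE hU hV e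
    have h2 : (f.appLE U V e).hom.FormallyUnramified :=
      HasRingHomProperty.appLE @FormallyUnramified f inferInstance ⟨U, hU⟩ ⟨V, hV⟩ e
    algebraize [(f.appLE U V e).hom]
    show Algebra.QuasiFinite _ _
    infer_instance
  exact IsFinite.of_isProper_of_locallyQuasiFinite f

end Groth.Agent.Lib.helper4.SubmDescent
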