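import Mathlib
import Groth.Agent.Lib.Helper4.SubmDescent

/-!
# Affine morphisms satisfy fpqc descent (helper4)

* `isAffine_of_isAffine_pullback`: if `Spec S ⟶ Spec R` is faithfully flat and `Y ×_R S` is affine then `Y` is affine.
* instance `IsAffineHom` descends along `Surjective ⊓ Flat ⊓ QuasiCompact` (and hence along fppf).
* instances: `IsFinite`, `IsIntegralHom`, `IsClosedImmersion` descend along fpqc morphisms.
-/

set_option autoImplicit false
set_option linter.style.haveILetI false
set_option backward.isDefEq.respectTransparency false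
universe u
open CategoryTheory CategoryTheory.Limits AlgebraicGeometry MorphismProperty

namespace Groth.Agent.Lib.Helper4.AffineDescent

theorem isAffine_of_isAffine_pullback {R S : CommRingCat.{u}} {Y : Scheme.{u}} (φ : R ⟶ S)
    (g : Y ⟶ Spec R) [Surjective (Spec.map φ)] [Flat (Spec.map φ)]
    [IsAffine (pullback (Spec.map φ) g)] : IsAffine Y := by
  have hQ : (@Surjective ⊓ @QuasiCompact : MorphismProperty Scheme.{u}) (Spec.map φ) :=
    ⟨inferInstance, inferInstance⟩
  have hqc : QuasiCompact g :=
    of_pullback_fst_of_descendsAlong (P := @QuasiCompact)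
      (Q := (@Surjective ⊓ @QuasiCompact : MorphismProperty Scheme.{u})) (f := Spec.map φ) (g := g)
      hQ inferInstance
  have hqs : QuasiSeparated g := by
    have : (diagonal @QuasiCompact : MorphismProperty Scheme.{u}) g :=
      of_pullback_fst_of_descendsAlong (P := diagonal @QuasiCompact)
        (Q := (@Surjective ⊓ @QuasiCompact : MorphismProperty Scheme.{u})) (f := Spec.map φ) (g := g)
        hQ (by
          show QuasiCompact (pullback.diagonal (pullback.fst (Spec.map φ) g))
          infer_instance)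
    rw [quasiSeparated_eq_diagonal_is_quasiCompact]
    exact this
  have hc : CompactSpace Y := (quasiCompact_iff_compactSpace g).mp hqc
  have hs : QuasiSeparatedSpace Y := (quasiSeparated_iff_quasiSeparatedSpace g).mp hqs
  have H : IsPullback (pullback.snd (Spec.map φ) g) (pullback.fst (Spec.map φ) g) g (Spec.map φ) :=
    (IsPullback.of_hasPullback (Spec.map φ) g).flip
  have hiso := isIso_pushoutSection_of_isQuasiSeparated_of_flat_right H
    (US := ⊤) (UT := ⊤) (UX := ⊤) (UY := ⊤) le_top le_top (by simp)
    (isAffineOpen_top _) (isAffineOpen_top _) isCompact_univ isQuasiSeparated_univ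
  have hpo := (isIso_pushoutSection_iff H le_top le_top (by simp)).mp hiso
  have hpb := isPullback_SpecMap_of_isPushout _ _ _ _ hpo
  have e1 : ∀ {A B : Scheme.{u}} (f : A ⟶ B) (h : (⊤ : A.Opens) ≤ f ⁻¹ᵁ ⊤), f.appLE ⊤ ⊤ h = f.appTop := by
    intro A B f h
    rw [Scheme.Hom.appTop, ← Scheme.Hom.appLE_eq_app]
    rfl
  rw [e1, e1, e1, e1] at hpb
  haveI hS : IsIso (Spec S).toSpecΓ := IsAffine.affine
  haveI hR : IsIso (Spec R).toSpecΓ := IsAffine.affine
  have hsq : IsPullback (Spec.map φ) (Spec S).toSpecΓ (Spec R).toSpecΓ (Spec.map (Spec.map φ).appTop) :=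
    IsPullback.of_vert_isIso ⟨Scheme.toSpecΓ_naturality (Spec.map φ)⟩
  have hbig := H.paste_vert hsq
  rw [Scheme.toSpecΓ_naturality, Scheme.toSpecΓ_naturality] at hbig
  have hmain : IsPullback (pullback.snd (Spec.map φ) g) (pullback (Spec.map φ) g).toSpecΓ Y.toSpecΓ
      (Spec.map (pullback.snd (Spec.map φ) g).appTop) :=
    IsPullback.of_bot hbig (Scheme.toSpecΓ_naturality _) hpb
  have hQ0 : (@Surjective ⊓ @Flat ⊓ @QuasiCompact : MorphismProperty Scheme.{u}) (Spec.map φ) :=
    ⟨⟨inferInstance, inferInstance⟩, inferInstance⟩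
  have hQ1 : (@Surjective ⊓ @Flat ⊓ @QuasiCompact : MorphismProperty Scheme.{u})
      (Spec.map (Spec.map φ).appTop) :=
    ((@Surjective ⊓ @Flat ⊓ @QuasiCompact : MorphismProperty Scheme.{u}).arrow_mk_iso_iff
      (CategoryTheory.Arrow.isoMk (asIso (Spec S).toSpecΓ) (asIso (Spec R).toSpecΓ)
        (Scheme.toSpecΓ_naturality (Spec.map φ)).symm)).mp hQ0
  have hQ2 : (@Surjective ⊓ @Flat ⊓ @QuasiCompact : MorphismProperty Scheme.{u})
      (Spec.map (pullback.snd (Spec.map φ) g).appTop) :=
    MorphismProperty.of_isPullback hpb.flip hQ1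
  have hZ : IsIso (pullback (Spec.map φ) g).toSpecΓ := IsAffine.affine
  have : MorphismProperty.isomorphisms Scheme.{u} Y.toSpecΓ :=
    MorphismProperty.of_isPullback_of_descendsAlong (P := MorphismProperty.isomorphisms Scheme.{u})
      (Q := @Surjective ⊓ @Flat ⊓ @QuasiCompact) hmain.flip hQ2 hZ
  exact ⟨this⟩

/-- Affine morphisms satisfy fpqc descent. -/
instance isAffineHom_descendsAlong_fpqc :
    DescendsAlong @IsAffineHom (@Surjective ⊓ @Flat ⊓ @QuasiCompact : MorphismProperty Scheme.{u}) := by
  apply IsZariskiLocalAtTarget.descendsAlong_inf_quasiCompact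
  · rw [inf_comm]
    exact inf_le_inf le_rfl (IsLocalIso.le_of_isZariskiLocalAtSource _)
  intro R S Y φ g h hfst
  have : Surjective (Spec.map φ) := h.1
  have : Flat (Spec.map φ) := h.2
  have : IsAffineHom (pullback.fst (Spec.map φ) g) := hfst
  have : IsAffine (pullback (Spec.map φ) g) := isAffine_of_isAffineHom (pullback.fst (Spec.map φ) g)
  have : IsAffine Y := isAffine_of_isAffine_pullback φ g
  change IsAffineHom g
  infer_instance

/-- A property of the form `affineAnd Q`, with `Q` codescending along faithfully flat ring maps, satisfies fpqc descent. -/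
theorem descendsAlong_of_affineAnd {P : MorphismProperty Scheme.{u}}
    {Q : ∀ {R S : Type u} [CommRing R] [CommRing S], (R →+* S) → Prop}
    [P.IsStableUnderBaseChange]
    (hP : HasAffineProperty P (affineAnd Q)) (hQ : RingHom.RespectsIso Q)
    (hQQ' : RingHom.CodescendsAlong Q RingHom.FaithfullyFlat) :
    P.DescendsAlong (@Surjective ⊓ @Flat ⊓ @QuasiCompact : MorphismProperty Scheme.{u}) := by
  apply IsZariskiLocalAtTarget.descendsAlong_inf_quasiCompact
  · rw [inf_comm]
    exact inf_le_inf le_rfl (IsLocalIso.le_of_isZariskiLocalAtSource _)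
  introv h hf
  have : IsAffine Y := by
    have : IsAffineHom (pullback.fst (Spec.map φ) g) :=
      AlgebraicGeometry.HasAffineProperty.affineAnd_le_isAffineHom P inferInstance _ hf
    have : IsAffine (pullback (Spec.map φ) g) := isAffine_of_isAffineHom (pullback.fst (Spec.map φ) g)
    have : Surjective (Spec.map φ) := h.1
    have : Flat (Spec.map φ) := h.2
    exact isAffine_of_isAffine_pullback φ g
  wlog hY : ∃ S, Y = Spec S generalizing Y
  · rw [← P.cancel_left_of_respectsIso Y.isoSpec.inv]
    have heq : pullback.fst (Spec.map φ) (Y.isoSpec.inv ≫ g) =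
        pullback.map _ _ _ _ (𝟙 _) (Y.isoSpec.inv) (𝟙 _) (by simp) (by simp) ≫
          pullback.fst (Spec.map φ) g := (pullback.lift_fst _ _ _).symm
    refine this _ ?_ inferInstance ⟨_, rfl⟩
    rwa [heq, P.cancel_left_of_respectsIso]
  obtain ⟨Y, rfl⟩ := hY
  refine of_pullback_fst_Spec_of_codescendsAlong (P := P) (P' := @Surjective ⊓ @Flat)
    (Q' := RingHom.FaithfullyFlat) hQQ' ?_ ?_ h hf
  · intro R S f ⟨hf₁, hf₂⟩
    rw [RingHom.FaithfullyFlat.iff_flat_and_comap_surjective]
    refine ⟨?_, (Spec.map f).surjective⟩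
    rwa [HasRingHomProperty.Spec_iff (P := @Flat)] at hf₂
  · intro R S f
    exact HasAffineProperty.SpecMap_iff_of_affineAnd hP hQ f

instance isFinite_descendsAlong_fpqc :
    DescendsAlong @IsFinite (@Surjective ⊓ @Flat ⊓ @QuasiCompact : MorphismProperty Scheme.{u}) :=
  descendsAlong_of_affineAnd (Q := RingHom.Finite) inferInstance RingHom.finite_respectsIso
    RingHom.Finite.codescendsAlong_faithfullyFlat

instance isClosedImmersion_descendsAlong_fpqc :
    DescendsAlong @IsClosedImmersion
      (@Surjective ⊓ @Flat ⊓ @QuasiCompact : MorphismProperty Scheme.{u}) :=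
  descendsAlong_of_affineAnd (Q := fun f => Function.Surjective f)
    IsClosedImmersion.hasAffineProperty RingHom.surjective_respectsIso
    RingHom.FaithfullyFlat.codescendsAlong_surjective

/-- Convenience form: finiteness of `f` from finiteness of its base change along an fppf morphism. -/
theorem isFinite_of_pullback_snd {X S S' : Scheme.{u}} (f : X ⟶ S) (g : S' ⟶ S)
    [Surjective g] [Flat g] [LocallyOfFinitePresentation g] [IsFinite (pullback.snd f g)] : IsFinite f :=
  of_pullback_snd_of_descendsAlong (P := @IsFinite)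
    (Q := (@Surjective ⊓ @Flat ⊓ @LocallyOfFinitePresentation : MorphismProperty Scheme.{u}))
    (f := f) (g := g) ⟨⟨inferInstance, inferInstance⟩, inferInstance⟩ inferInstance

theorem isAffineHom_of_pullback_snd {X S S' : Scheme.{u}} (f : X ⟶ S) (g : S' ⟶ S)
    [Surjective g] [Flat g] [LocallyOfFinitePresentation g] [IsAffineHom (pullback.snd f g)] :
    IsAffineHom f :=
  of_pullback_snd_of_descendsAlong (P := @IsAffineHom)
    (Q := (@Surjective ⊓ @Flat ⊓ @LocallyOfFinitePresentation : MorphismProperty Scheme.{u}))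
    (f := f) (g := g) ⟨⟨inferInstance, inferInstance⟩, inferInstance⟩ inferInstance

end Groth.Agent.Lib.Helper4.AffineDescent
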