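import Mathlib

/-!
# Flatness can be checked flat-locally on the target (pointwise version)

* `flat_of_faithfullyFlat_comp` : `A → B → B'` with `B → B'` faithfully flat and `A → B'` flat
  implies `A → B` flat.
* `flat_of_local_data` : `q : U ⟶ M` is flat as soon as every point of `M` is in the image of a
  flat `g : M' ⟶ M` such that the base change `U ×_M M' ⟶ M'` is flat.
-/

set_option backward.isDefEq.respectTransparency false
set_option autoImplicit false
set_option linter.style.haveILetI false
set_option linter.unusedSectionVars false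

universe u
open CategoryTheory CategoryTheory.Limits AlgebraicGeometry TensorProduct

namespace Groth.Agent.Lib.Helper4.GrpdFlatLocal

theorem flat_of_faithfullyFlat_comp (A B B' : Type u) [CommRing A] [CommRing B] [CommRing B']
    [Algebra A B] [Algebra B B'] [Algebra A B'] [IsScalarTower A B B']
    [Module.FaithfullyFlat B B'] [Module.Flat A B'] : Module.Flat A B := by
  rw [Module.Flat.iff_lTensor_preserves_injective_linearMap]
  intro N P _ _ _ _ f hf
  have h1 : Function.Injective (f.lTensor B') :=
    Module.Flat.lTensor_preserves_injective_linearMap f hf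
  have h2 : Function.Injective ((f.baseChange B).lTensor B') := by
    have : (f.baseChange B).lTensor B' =
        (TensorProduct.AlgebraTensorModule.cancelBaseChange A B B B' P).symm.toLinearMap ∘ₗ
          ((f.baseChange B').restrictScalars B) ∘ₗ
          (TensorProduct.AlgebraTensorModule.cancelBaseChange A B B B' N).toLinearMap := by
      ext b' n
      simp
    rw [this]
    simp only [LinearMap.coe_comp, LinearEquiv.coe_coe, LinearMap.coe_restrictScalars]
    exact (LinearEquiv.injective _).comp (h1.comp (LinearEquiv.injective _))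
  exact (Module.FaithfullyFlat.lTensor_injective_iff_injective B B' (f.baseChange B)).mp h2


/-- If `p : U' ⟶ U` is flat and `p ≫ q` is flat, then `q` is flat at all points of the image
of `p`. -/
theorem flat_stalkMap_of_comp {U' U M : Scheme.{u}} (p : U' ⟶ U) (q : U ⟶ M) [Flat p]
    [Flat (p ≫ q)] (x' : U') : (q.stalkMap (p x')).hom.Flat := by
  have hp : (p.stalkMap x').hom.Flat := Flat.stalkMap p x'
  have hpq : ((p ≫ q).stalkMap x').hom.Flat := Flat.stalkMap (p ≫ q) x'
  rw [Scheme.Hom.stalkMap_comp] at hpq
  letI a1 : Algebra (M.presheaf.stalk (q (p x'))) (U.presheaf.stalk (p x')) :=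
    (q.stalkMap (p x')).hom.toAlgebra
  letI a2 : Algebra (U.presheaf.stalk (p x')) (U'.presheaf.stalk x') :=
    (p.stalkMap x').hom.toAlgebra
  letI a3 : Algebra (M.presheaf.stalk (q (p x'))) (U'.presheaf.stalk x') :=
    (q.stalkMap (p x') ≫ p.stalkMap x').hom.toAlgebra
  haveI : IsScalarTower (M.presheaf.stalk (q (p x'))) (U.presheaf.stalk (p x'))
      (U'.presheaf.stalk x') := IsScalarTower.of_algebraMap_eq' rfl
  haveI : Module.Flat (U.presheaf.stalk (p x')) (U'.presheaf.stalk x') := hp
  haveI : Module.Flat (M.presheaf.stalk (q (p x'))) (U'.presheaf.stalk x') := hpq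
  haveI : IsLocalHom (algebraMap (U.presheaf.stalk (p x')) (U'.presheaf.stalk x')) :=
    inferInstanceAs (IsLocalHom (p.stalkMap x').hom)
  haveI : Module.FaithfullyFlat (U.presheaf.stalk (p x')) (U'.presheaf.stalk x') :=
    Module.FaithfullyFlat.of_flat_of_isLocalHom
  exact flat_of_faithfullyFlat_comp (M.presheaf.stalk (q (p x'))) (U.presheaf.stalk (p x'))
    (U'.presheaf.stalk x')

/-- Flatness can be checked after flat base changes that jointly cover the target. -/
theorem flat_of_local_data {U M : Scheme.{u}} (q : U ⟶ M)
    (H : ∀ m : M, ∃ (M' : Scheme.{u}) (g : M' ⟶ M), Flat g ∧ m ∈ Set.range g ∧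
      Flat (pullback.snd q g)) : Flat q := by
  rw [Flat.iff_flat_stalkMap]
  intro x
  obtain ⟨M', g, hg, ⟨m', hm'⟩, hq'⟩ := H (q x)
  obtain ⟨x', hx1, hx2⟩ := Scheme.Pullback.exists_preimage_pullback (f := q) (g := g) x m' hm'.symm
  subst hx1
  haveI : Flat (pullback.fst q g ≫ q) := by
    rw [pullback.condition]
    infer_instance
  exact flat_stalkMap_of_comp (pullback.fst q g) q x'

end Groth.Agent.Lib.Helper4.GrpdFlatLocal
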