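import Mathlib
import Groth.Agent.Lib.Helper4.GrpdQuotData
import Groth.Agent.Lib.Helper4.GrpdFlatLocal
import Groth.Agent.Lib.Helper4.AffineDescent

/-!
# Finite locally free groupoids, affine case: the quotient map is finite locally free and
`R = U ×_M U`
-/

set_option backward.isDefEq.respectTransparency false
set_option autoImplicit false
set_option linter.style.haveILetI false
set_option linter.unusedSectionVars false

universe u
open CategoryTheory CategoryTheory.Limits AlgebraicGeometry TensorProduct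

namespace Groth.Agent.Lib.Helper4.GrpdFinFlat

open Groth.Agent.Lib.Helper4.GrpdBC Groth.Agent.Lib.Helper4.GrpdInvBC
  Groth.Agent.Lib.Helper4.GrpdLocalCase Groth.Agent.Lib.Helper4.GrpdQuotLocal
  Groth.Agent.Lib.Helper4.GrpdPolyLoc Groth.Agent.Lib.Helper4.GrpdQuotData
  Groth.Agent.Lib.Helper4.GrpdFlatLocal

/-- A global section vanishes if it vanishes after pulling back along a jointly surjective
family of flat morphisms. -/
theorem eq_zero_of_flat_cover {Y : Scheme.{u}} (z : Γ(Y, ⊤))
    (H : ∀ y : Y, ∃ (X : Scheme.{u}) (f : X ⟶ Y), Flat f ∧ y ∈ Set.range f ∧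
      f.appTop.hom z = 0) : z = 0 := by
  apply TopCat.Presheaf.section_ext Y.sheaf ⊤
  intro y hy
  obtain ⟨X, f, hf, ⟨x, rfl⟩, hz⟩ := H y
  have hinj : Function.Injective (f.stalkMap x).hom := by
    algebraize [(f.stalkMap x).hom]
    have : Module.FaithfullyFlat (Y.presheaf.stalk (f x)) (X.presheaf.stalk x) :=
      @Module.FaithfullyFlat.of_flat_of_isLocalHom _ _ _ _ _ _ _
        (Flat.stalkMap f x) (f.toLRSHom.prop x)
    exact ‹RingHom.FaithfullyFlat _›.injective
  apply hinj
  have h1 := Scheme.Hom.germ_stalkMap_apply f ⊤ x hy z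
  have h2 := Scheme.Hom.germ_stalkMap_apply f ⊤ x hy 0
  refine h1.trans (Eq.trans ?_ h2.symm)
  change _ = (X.presheaf.germ (f ⁻¹ᵁ ⊤) x hy) ((f.app ⊤).hom 0)
  rw [map_zero, map_zero]
  have : (f.app ⊤).hom z = 0 := hz
  rw [show (f.app ⊤) z = (f.app ⊤).hom z from rfl, this, map_zero]


variable {S : Scheme.{u}} (G : Grpd.GroupoidScheme S)

section main

variable [IsAffine G.U] [IsAffine G.R] [IsFinite G.s] [Flat G.s] [LocallyOfFinitePresentation G.s]
  [IsFinite G.t] [Flat G.t] [LocallyOfFinitePresentation G.t]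

/-- the quotient map is flat -/
theorem flat_toQuot (hJ : JMono G) : Flat G.toQuot := by
  apply flat_of_local_data
  intro m
  obtain ⟨M', g, _, hg, hm, hq', _⟩ := exists_local_data G hJ m
  exact ⟨M', g, hg, hm, hq'⟩

/-- Every point of `U ×_M U` is in the image of a flat morphism that factors through `R`. -/
theorem exists_flat_factor (hJ : JMono G) (p : ↥(pullback G.toQuot G.toQuot)) :
    ∃ (P' : Scheme.{u}) (pr : P' ⟶ pullback G.toQuot G.toQuot) (ρ : P' ⟶ G.R),
      Flat pr ∧ p ∈ Set.range pr ∧ ρ ≫ kQuot G = pr := by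
  let π : pullback G.toQuot G.toQuot ⟶ Spec (CommRingCat.of G.invariants) :=
    pullback.fst G.toQuot G.toQuot ≫ G.toQuot
  obtain ⟨M', g, _, hg, ⟨m', hm'⟩, _, hpb⟩ := exists_local_data G hJ (π p)
  obtain ⟨p', hp'1, hp'2⟩ :=
    Scheme.Pullback.exists_preimage_pullback (f := π) (g := g) p m' hm'.symm
  have hπ2 : π = pullback.snd G.toQuot G.toQuot ≫ G.toQuot := pullback.condition
  let a : pullback π g ⟶ pullback G.toQuot g :=
    pullback.lift (pullback.fst π g ≫ pullback.fst G.toQuot G.toQuot) (pullback.snd π g)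
      (by rw [Category.assoc]; exact pullback.condition)
  let b : pullback π g ⟶ pullback G.toQuot g :=
    pullback.lift (pullback.fst π g ≫ pullback.snd G.toQuot G.toQuot) (pullback.snd π g)
      (by rw [Category.assoc, ← hπ2]; exact pullback.condition)
  have hab : a ≫ pullback.snd G.toQuot g = b ≫ pullback.snd G.toQuot g := by
    rw [pullback.lift_snd, pullback.lift_snd]
  let ρ' : pullback π g ⟶ pullback (G.s ≫ G.toQuot) g := hpb.lift a b hab
  have hρt : ρ' ≫ bct G G.toQuot (s_toQuot G) g = a := hpb.lift_fst a b hab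
  have hρs : ρ' ≫ bcs G G.toQuot g = b := hpb.lift_snd a b hab
  refine ⟨pullback π g, pullback.fst π g, ρ' ≫ pullback.fst (G.s ≫ G.toQuot) g, inferInstance,
    ⟨p', hp'1⟩, ?_⟩
  apply pullback.hom_ext
  · rw [Category.assoc, Category.assoc, kQuot_fst, ← bct_fst G G.toQuot (s_toQuot G) g,
      reassoc_of% hρt, pullback.lift_fst]
  · rw [Category.assoc, Category.assoc, kQuot_snd, ← bcs_fst G G.toQuot g,
      reassoc_of% hρs, pullback.lift_fst]

/-- `R ⟶ U ×_M U` is an isomorphism. -/
theorem isIso_kQuot (hJ : JMono G) : IsIso (kQuot G) := by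
  haveI := isClosedImmersion_kQuot G hJ
  apply IsClosedImmersion.isIso_of_injective_of_isAffine
  rw [injective_iff_map_eq_zero]
  intro z hz
  apply eq_zero_of_flat_cover
  intro p
  obtain ⟨P', pr, ρ, hpr, hp, hfac⟩ := exists_flat_factor G hJ p
  refine ⟨P', pr, hpr, hp, ?_⟩
  rw [← hfac, Scheme.Hom.comp_appTop, CommRingCat.hom_comp, RingHom.comp_apply]
  have : (kQuot G).appTop.hom z = 0 := hz
  rw [this, map_zero]

/-- SGA 3 V 4.1 / Stacks 03BM, affine case. -/
theorem finite_flat_quotient (hJ : JMono G) :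
    (IsFinite G.toQuot ∧ Flat G.toQuot ∧ LocallyOfFinitePresentation G.toQuot) ∧
      ∃ φ : G.R ≅ pullback G.toQuot G.toQuot,
        φ.hom ≫ pullback.fst G.toQuot G.toQuot = G.t ∧
        φ.hom ≫ pullback.snd G.toQuot G.toQuot = G.s := by
  haveI hflat : Flat G.toQuot := flat_toQuot G hJ
  haveI hiso : IsIso (kQuot G) := isIso_kQuot G hJ
  haveI hsurj : Surjective G.toQuot := ⟨(Groth.Agent.S1878.result S G).1.1⟩
  have hQ : (@Surjective ⊓ @Flat ⊓ @QuasiCompact : MorphismProperty Scheme.{u}) G.toQuot :=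
    ⟨⟨hsurj, hflat⟩, inferInstance⟩
  have hsnd : pullback.snd G.toQuot G.toQuot = inv (kQuot G) ≫ G.s := by
    rw [IsIso.eq_inv_comp, kQuot_snd]
  have hfin : IsFinite G.toQuot := by
    apply MorphismProperty.of_pullback_snd_of_descendsAlong (P := @IsFinite)
      (Q := (@Surjective ⊓ @Flat ⊓ @QuasiCompact : MorphismProperty Scheme.{u}))
      (f := G.toQuot) (g := G.toQuot) hQ
    rw [hsnd]
    infer_instance
  have hlfp : LocallyOfFinitePresentation G.toQuot := by
    apply MorphismProperty.of_pullback_snd_of_descendsAlong (P := @LocallyOfFinitePresentation)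
      (Q := (@Surjective ⊓ @Flat ⊓ @QuasiCompact : MorphismProperty Scheme.{u}))
      (f := G.toQuot) (g := G.toQuot) hQ
    rw [hsnd]
    infer_instance
  exact ⟨⟨hfin, hflat, hlfp⟩, asIso (kQuot G), kQuot_fst G, kQuot_snd G⟩

end main

end Groth.Agent.Lib.Helper4.GrpdFinFlat
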