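import Mathlib
import Groth.Agent.Lib.Helper4.GrpdAffQuot

/-!
# Quotients of finite locally free groupoids: restriction to an invariant affine open

For affine groupoid schemes `G'`, `G` and a pair of open immersions `fU : U' ⟶ U`, `fR : R' ⟶ R`
making both squares with `s` and with `t` cartesian, the induced morphism
`Spec C' ⟶ Spec C` of spectra of invariants is an open immersion and `U' = U ×_{Spec C} Spec C'`.
-/

set_option backward.isDefEq.respectTransparency false
set_option autoImplicit false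
set_option linter.style.haveILetI false
set_option linter.unusedSectionVars false

universe u
open CategoryTheory CategoryTheory.Limits AlgebraicGeometry

namespace Groth.Agent.Lib.Helper4.GrpdQuotOpen

open Groth.Agent.Lib.Helper4.GrpdBC Groth.Agent.Lib.Helper4.GrpdInvBC
  Groth.Agent.Lib.Helper4.GrpdQuotData Groth.Agent.Lib.Helper4.GrpdAffQuot

variable {S : Scheme.{u}}

/-- comparison of two invariant quotients along a morphism of groupoids which is bijective on
functions on objects and injective on functions on arrows -/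
theorem appTop_bijective_of_isInvQuot {G₁ G₂ : Grpd.GroupoidScheme S} {M₁ M₂ : Scheme.{u}}
    (q₁ : G₁.U ⟶ M₁) (q₂ : G₂.U ⟶ M₂) (h₁ : IsInvQuot G₁ q₁) (h₂ : IsInvQuot G₂ q₂)
    (hq₂ : G₂.s ≫ q₂ = G₂.t ≫ q₂)
    (a : G₂.U ⟶ G₁.U) (b : G₂.R ⟶ G₁.R) (m : M₂ ⟶ M₁)
    (hs : b ≫ G₁.s = G₂.s ≫ a) (ht : b ≫ G₁.t = G₂.t ≫ a) (hm : a ≫ q₁ = q₂ ≫ m)
    (ha : Function.Bijective a.appTop.hom) (hb : Function.Injective b.appTop.hom) :
    Function.Bijective m.appTop.hom := by
  have es : ∀ x : Γ(G₁.U, ⊤), G₂.s.appTop.hom (a.appTop.hom x) =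
      b.appTop.hom (G₁.s.appTop.hom x) := fun x => by
    have := congrArg (fun f => f.appTop.hom x) hs
    simpa only [Scheme.Hom.comp_appTop, CommRingCat.hom_comp, RingHom.comp_apply] using this.symm
  have et : ∀ x : Γ(G₁.U, ⊤), G₂.t.appTop.hom (a.appTop.hom x) =
      b.appTop.hom (G₁.t.appTop.hom x) := fun x => by
    have := congrArg (fun f => f.appTop.hom x) ht
    simpa only [Scheme.Hom.comp_appTop, CommRingCat.hom_comp, RingHom.comp_apply] using this.symm
  have em : ∀ y : Γ(M₁, ⊤), a.appTop.hom (q₁.appTop.hom y) =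
      q₂.appTop.hom (m.appTop.hom y) := fun y => by
    have := congrArg (fun f => f.appTop.hom y) hm
    simpa only [Scheme.Hom.comp_appTop, CommRingCat.hom_comp, RingHom.comp_apply] using this
  constructor
  · intro y₁ y₂ h
    apply h₁.inj
    apply ha.1
    rw [em, em, h]
  · intro y'
    obtain ⟨x, hx⟩ := ha.2 (q₂.appTop.hom y')
    have hz : q₂.appTop.hom y' ∈ G₂.invariants := appTop_mem_invariants G₂ q₂ hq₂ y'
    have hxinv : x ∈ G₁.invariants := by
      rw [mem_invariants_iff]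
      apply hb
      rw [← es, ← et, hx]
      exact hz
    obtain ⟨y, hy⟩ := h₁.surj x hxinv
    refine ⟨y, ?_⟩
    apply h₂.inj
    rw [← em, hy, hx]


/-- points of a cartesian square -/
theorem mem_range_iff_of_isPullback {P X Y Z : Scheme.{u}} {a : P ⟶ X} {b : P ⟶ Y} {f : X ⟶ Z}
    {g : Y ⟶ Z} (h : IsPullback a b f g) (x : X) : x ∈ Set.range a ↔ f x ∈ Set.range g := by
  constructor
  · rintro ⟨z, rfl⟩
    refine ⟨b z, ?_⟩
    rw [← Scheme.Hom.comp_apply, ← h.w, Scheme.Hom.comp_apply]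
  · rintro ⟨y, hy⟩
    obtain ⟨w, hw1, -⟩ := Scheme.Pullback.exists_preimage_pullback (f := f) (g := g) x y hy.symm
    refine ⟨h.isoPullback.inv w, ?_⟩
    rw [← Scheme.Hom.comp_apply, h.isoPullback_inv_fst, hw1]

/-- a comparison map between two base changes along open immersions is an isomorphism as soon
as it is surjective -/
theorem isIso_pullback_map {X' X Y' Y Z' Z : Scheme.{u}} (f : X' ⟶ X) [IsOpenImmersion f]
    (p' : X' ⟶ Y') (p : X ⟶ Y) (h' : Z' ⟶ Y') (h : Z ⟶ Y) [IsOpenImmersion h']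
    [IsOpenImmersion h] (m : Z' ⟶ Z) (ρ : Y' ⟶ Y) (e₁ : p' ≫ ρ = f ≫ p) (e₂ : h' ≫ ρ = m ≫ h)
    (hcov : ∀ x : X, p x ∈ Set.range h → ∃ x' : X', f x' = x ∧ p' x' ∈ Set.range h') :
    IsIso (pullback.map p' h' p h f m ρ e₁ e₂) := by
  haveI : IsOpenImmersion (pullback.map p' h' p h f m ρ e₁ e₂ ≫ pullback.fst p h) := by
    rw [pullback.lift_fst]
    infer_instance
  haveI : IsOpenImmersion (pullback.map p' h' p h f m ρ e₁ e₂) :=
    IsOpenImmersion.of_comp _ (pullback.fst p h)
  rw [isIso_iff_isOpenImmersion_and_surjective]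
  refine ⟨inferInstance, ⟨fun z => ?_⟩⟩
  have hz : p (pullback.fst p h z) ∈ Set.range h := by
    refine ⟨pullback.snd p h z, ?_⟩
    rw [← Scheme.Hom.comp_apply, ← pullback.condition, Scheme.Hom.comp_apply]
  obtain ⟨x', hx'1, ⟨w', hw'⟩⟩ := hcov _ hz
  obtain ⟨z', hz'1, -⟩ :=
    Scheme.Pullback.exists_preimage_pullback (f := p') (g := h') x' w' hw'.symm
  refine ⟨z', ?_⟩
  apply (pullback.fst p h).isOpenEmbedding.injective
  rw [← Scheme.Hom.comp_apply, pullback.lift_fst, Scheme.Hom.comp_apply, hz'1, hx'1]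

section main

variable (G' G : Grpd.GroupoidScheme S)
  [IsAffine G.U] [IsAffine G.R] [IsFinite G.s] [Flat G.s] [LocallyOfFinitePresentation G.s]
  [IsFinite G.t] [Flat G.t] [LocallyOfFinitePresentation G.t]
  [IsAffine G'.U] [IsAffine G'.R] [IsFinite G'.s] [Flat G'.s] [LocallyOfFinitePresentation G'.s]
  [IsFinite G'.t] [Flat G'.t] [LocallyOfFinitePresentation G'.t]
  (fU : G'.U ⟶ G.U) (fR : G'.R ⟶ G.R)
  (hs : fR ≫ G.s = G'.s ≫ fU) (ht : fR ≫ G.t = G'.t ≫ fU)

include hs ht in
theorem appTop_mem (a : Γ(G.U, ⊤)) (ha : a ∈ G.invariants) :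
    fU.appTop.hom a ∈ G'.invariants := by
  rw [mem_invariants_iff] at ha ⊢
  have e1 := congrArg (fun f => f.appTop.hom a) hs
  have e2 := congrArg (fun f => f.appTop.hom a) ht
  simp only [Scheme.Hom.comp_appTop, CommRingCat.hom_comp, RingHom.comp_apply] at e1 e2
  rw [← e1, ← e2, ha]

/-- restriction of invariant functions -/
noncomputable def resInv : G.invariants →+* G'.invariants :=
  (fU.appTop.hom.comp G.invariants.subtype).codRestrict G'.invariants
    (fun a => appTop_mem G' G fU fR hs ht a.1 a.2)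

/-- the induced morphism on spectra of invariants -/
noncomputable def quotMap : Spec (CommRingCat.of G'.invariants) ⟶
    Spec (CommRingCat.of G.invariants) :=
  Spec.map (CommRingCat.ofHom (resInv G' G fU fR hs ht))

@[reassoc]
theorem toQuot_quotMap : G'.toQuot ≫ quotMap G' G fU fR hs ht = fU ≫ G.toQuot := by
  unfold Grpd.GroupoidScheme.toQuot quotMap
  rw [Category.assoc, ← Spec.map_comp]
  have e : CommRingCat.ofHom (resInv G' G fU fR hs ht) ≫ CommRingCat.ofHom G'.invariants.subtype =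
      CommRingCat.ofHom G.invariants.subtype ≫ fU.appTop := rfl
  rw [e, Spec.map_comp, Scheme.toSpecΓ_naturality_assoc]

section compare

variable {M₁ M₂ : Scheme.{u}} [IsAffine M₁] [IsAffine M₂]
  (g : M₁ ⟶ Spec (CommRingCat.of G.invariants)) (g' : M₂ ⟶ Spec (CommRingCat.of G'.invariants))
  [IsOpenImmersion g] [IsOpenImmersion g'] [IsOpenImmersion fU] [IsOpenImmersion fR]
  (m : M₂ ⟶ M₁) (e : g' ≫ quotMap G' G fU fR hs ht = m ≫ g)
  (hcovU : ∀ x : G.U, G.toQuot x ∈ Set.range g →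
    ∃ x' : G'.U, fU x' = x ∧ G'.toQuot x' ∈ Set.range g')
  (hcovR : ∀ x : G.R, (G.s ≫ G.toQuot) x ∈ Set.range g →
    ∃ x' : G'.R, fR x' = x ∧ (G'.s ≫ G'.toQuot) x' ∈ Set.range g')

include hs ht e hcovU hcovR in
/-- Over an affine open of `Spec C` whose preimage in `U` lies in the image of `U'`, the map
`Spec C' ⟶ Spec C` is an isomorphism (statement on functions). -/
theorem appTop_bijective_of_cover : Function.Bijective m.appTop.hom := by
  have e₁ : G'.toQuot ≫ quotMap G' G fU fR hs ht = fU ≫ G.toQuot :=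
    toQuot_quotMap G' G fU fR hs ht
  have e₂ : (G'.s ≫ G'.toQuot) ≫ quotMap G' G fU fR hs ht = fR ≫ G.s ≫ G.toQuot := by
    rw [Category.assoc, e₁, ← Category.assoc, ← hs, Category.assoc]
  haveI ha : IsIso (pullback.map G'.toQuot g' G.toQuot g fU m _ e₁ e) :=
    isIso_pullback_map fU G'.toQuot G.toQuot g' g m _ e₁ e hcovU
  haveI hb : IsIso (pullback.map (G'.s ≫ G'.toQuot) g' (G.s ≫ G.toQuot) g fR m _ e₂ e) :=
    isIso_pullback_map fR (G'.s ≫ G'.toQuot) (G.s ≫ G.toQuot) g' g m _ e₂ e hcovR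
  refine appTop_bijective_of_isInvQuot
    (G₁ := bc G G.toQuot (s_toQuot G) g) (G₂ := bc G' G'.toQuot (s_toQuot G') g')
    (pullback.snd G.toQuot g) (pullback.snd G'.toQuot g')
    (isInvQuot_bc G G.toQuot (s_toQuot G) g (isInvQuot_toQuot G))
    (isInvQuot_bc G' G'.toQuot (s_toQuot G') g' (isInvQuot_toQuot G')) ?_
    (pullback.map G'.toQuot g' G.toQuot g fU m _ e₁ e)
    (pullback.map (G'.s ≫ G'.toQuot) g' (G.s ≫ G.toQuot) g fR m _ e₂ e) m ?_ ?_ ?_
    (ConcreteCategory.bijective_of_isIso _) (ConcreteCategory.bijective_of_isIso _).1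
  · rw [bc_s, bc_t, bcs_snd, bct_snd]
  · rw [bc_s, bc_s]
    apply pullback.hom_ext
    · simp only [Category.assoc, bcs_fst, bcs_fst_assoc, pullback.lift_fst, pullback.lift_fst_assoc, hs]
    · simp only [Category.assoc, bcs_snd, bcs_snd_assoc, pullback.lift_snd]
  · rw [bc_t, bc_t]
    apply pullback.hom_ext
    · simp only [Category.assoc, bct_fst, bct_fst_assoc, pullback.lift_fst, pullback.lift_fst_assoc, ht]
    · simp only [Category.assoc, bct_snd, bct_snd_assoc, pullback.lift_snd]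
  · exact pullback.lift_snd _ _ _

end compare

section openImm

variable [IsOpenImmersion fU] [IsOpenImmersion fR]
  (hsp : IsPullback fR G'.s G.s fU) (htp : IsPullback fR G'.t G.t fU)

include hsp in
theorem mem_range_fR_iff_s (r : G.R) : r ∈ Set.range fR ↔ G.s r ∈ Set.range fU :=
  mem_range_iff_of_isPullback hsp r

include htp in
theorem mem_range_fR_iff_t (r : G.R) : r ∈ Set.range fR ↔ G.t r ∈ Set.range fU :=
  mem_range_iff_of_isPullback htp r

/-- the image of `U'` in `Spec C`, an open subset -/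
noncomputable def imOpen : (Spec (CommRingCat.of G.invariants)).Opens :=
  ⟨(G.toQuot '' (Set.range fU)ᶜ)ᶜ,
    (G.toQuot.isClosedMap _ fU.isOpenEmbedding.isOpen_range.isClosed_compl).isOpen_compl⟩

include hsp htp in
theorem toQuot_mem_imOpen_iff (x : G.U) : G.toQuot x ∈ imOpen G' G fU ↔ x ∈ Set.range fU := by
  constructor
  · intro h
    by_contra hx
    exact h ⟨x, hx, rfl⟩
  · rintro hx ⟨z, hz, hzx⟩
    obtain ⟨r, hr1, hr2⟩ := (toQuot_eq_iff G x z).mp hzx.symm
    apply hz
    rw [← hr2, ← mem_range_fR_iff_s G' G fU fR hsp, mem_range_fR_iff_t G' G fU fR htp, hr1]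
    exact hx

theorem quotMap_toQuot_apply (x' : G'.U) :
    quotMap G' G fU fR hs ht (G'.toQuot x') = G.toQuot (fU x') := by
  rw [← Scheme.Hom.comp_apply, toQuot_quotMap, Scheme.Hom.comp_apply]

include hsp htp in
theorem quotMap_mem_imOpen (y' : Spec (CommRingCat.of G'.invariants)) :
    quotMap G' G fU fR hsp.w htp.w y' ∈ imOpen G' G fU := by
  obtain ⟨x', rfl⟩ := surjective_toQuot G' y'
  rw [quotMap_toQuot_apply, toQuot_mem_imOpen_iff G' G fU fR hsp htp]
  exact ⟨x', rfl⟩

include hsp htp in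
theorem quotMap_injective : Function.Injective (quotMap G' G fU fR hsp.w htp.w) := by
  intro y₁ y₂ h
  obtain ⟨x₁, rfl⟩ := surjective_toQuot G' y₁
  obtain ⟨x₂, rfl⟩ := surjective_toQuot G' y₂
  rw [quotMap_toQuot_apply, quotMap_toQuot_apply, toQuot_eq_iff] at h
  obtain ⟨r, hr1, hr2⟩ := h
  obtain ⟨r', rfl⟩ := (mem_range_fR_iff_s G' G fU fR hsp r).mpr ⟨x₂, hr2.symm⟩
  rw [toQuot_eq_iff]
  refine ⟨r', ?_, ?_⟩
  · apply fU.isOpenEmbedding.injective
    rw [← hr1, ← Scheme.Hom.comp_apply, ← Scheme.Hom.comp_apply, htp.w]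
  · apply fU.isOpenEmbedding.injective
    rw [← hr2, ← Scheme.Hom.comp_apply, ← Scheme.Hom.comp_apply, hsp.w]

include hsp htp in
theorem range_quotMap :
    Set.range (quotMap G' G fU fR hsp.w htp.w) = (imOpen G' G fU : Set _) := by
  apply Set.Subset.antisymm
  · rintro _ ⟨y', rfl⟩
    exact quotMap_mem_imOpen G' G fU fR hsp htp y'
  · intro y hy
    obtain ⟨x, rfl⟩ := surjective_toQuot G y
    obtain ⟨x', rfl⟩ := (toQuot_mem_imOpen_iff G' G fU fR hsp htp x).mp hy
    exact ⟨G'.toQuot x', quotMap_toQuot_apply G' G fU fR hsp.w htp.w x'⟩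

include hsp htp in
theorem isIso_quotMap_restrict (V : (Spec (CommRingCat.of G.invariants)).Opens)
    (hV : IsAffineOpen V) (hVO : V ≤ imOpen G' G fU) :
    IsIso (quotMap G' G fU fR hsp.w htp.w ∣_ V) := by
  haveI : IsAffine V.toScheme := hV
  haveI : IsAffine (quotMap G' G fU fR hsp.w htp.w ⁻¹ᵁ V).toScheme :=
    hV.preimage (quotMap G' G fU fR hsp.w htp.w)
  have key : MorphismProperty.isomorphisms Scheme (quotMap G' G fU fR hsp.w htp.w ∣_ V) := by
    rw [HasAffineProperty.iff_of_isAffine (P := MorphismProperty.isomorphisms Scheme)]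
    refine ⟨inferInstance, ?_⟩
    rw [ConcreteCategory.isIso_iff_bijective]
    refine appTop_bijective_of_cover G' G fU fR hsp.w htp.w V.ι
      (quotMap G' G fU fR hsp.w htp.w ⁻¹ᵁ V).ι (quotMap G' G fU fR hsp.w htp.w ∣_ V)
      (morphismRestrict_ι _ _).symm ?_ ?_
    · intro x hx
      rw [Scheme.Opens.range_ι] at hx
      obtain ⟨x', rfl⟩ := (toQuot_mem_imOpen_iff G' G fU fR hsp htp x).mp (hVO hx)
      refine ⟨x', rfl, ?_⟩
      rw [Scheme.Opens.range_ι]
      change quotMap G' G fU fR hsp.w htp.w (G'.toQuot x') ∈ V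
      rw [quotMap_toQuot_apply]
      exact hx
    · intro r hr
      rw [Scheme.Opens.range_ι] at hr
      have hr' : G.toQuot (G.s r) ∈ V := hr
      obtain ⟨r', rfl⟩ := (mem_range_fR_iff_s G' G fU fR hsp r).mpr
        ((toQuot_mem_imOpen_iff G' G fU fR hsp htp _).mp (hVO hr'))
      refine ⟨r', rfl, ?_⟩
      rw [Scheme.Opens.range_ι]
      change quotMap G' G fU fR hsp.w htp.w (G'.toQuot (G'.s r')) ∈ V
      have e3 : fU (G'.s r') = G.s (fR r') := by
        change (G'.s ≫ fU) r' = (fR ≫ G.s) r'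
        rw [hsp.w]
      rw [quotMap_toQuot_apply, e3]
      exact hr'
  exact key

include hsp htp in
theorem isOpenImmersion_quotMap : IsOpenImmersion (quotMap G' G fU fR hsp.w htp.w) := by
  apply IsOpenImmersion.of_forall_source_exists _ (quotMap_injective G' G fU fR hsp htp)
  intro y'
  have hy' := quotMap_mem_imOpen G' G fU fR hsp htp y'
  obtain ⟨_, ⟨V, hV : IsAffineOpen V, rfl⟩, hyV, hVO⟩ :=
    (Spec (CommRingCat.of G.invariants)).isBasis_affineOpens.exists_subset_of_mem_open hy'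
      (imOpen G' G fU).2
  haveI := isIso_quotMap_restrict G' G fU fR hsp htp V hV hVO
  refine ⟨(quotMap G' G fU fR hsp.w htp.w ⁻¹ᵁ V).toScheme,
    (quotMap G' G fU fR hsp.w htp.w ⁻¹ᵁ V).ι, inferInstance, ?_, ?_⟩
  · rw [Scheme.Opens.opensRange_ι]
    exact hyV
  · rw [← morphismRestrict_ι]
    infer_instance

include hsp htp in
theorem isPullback_quotMap :
    IsPullback fU G'.toQuot G.toQuot (quotMap G' G fU fR hsp.w htp.w) := by
  haveI := isOpenImmersion_quotMap G' G fU fR hsp htp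
  refine (IsOpenImmersion.isPullback G'.toQuot fU (quotMap G' G fU fR hsp.w htp.w) G.toQuot
    (toQuot_quotMap G' G fU fR hsp.w htp.w).symm ?_).flip
  ext x
  change G.toQuot x ∈ Set.range (quotMap G' G fU fR hsp.w htp.w) ↔ x ∈ Set.range fU
  rw [range_quotMap G' G fU fR hsp htp]
  exact toQuot_mem_imOpen_iff G' G fU fR hsp htp x

end openImm

end main

end Groth.Agent.Lib.Helper4.GrpdQuotOpen
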