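import Mathlib
import Groth.Agent.Lib.Helper4.GrpdRes
import Groth.Agent.Lib.Helper4.GrpdQuotOpen

/-!
# Quotients of finite locally free groupoids: the restricted groupoids on invariant affine opens
-/

set_option backward.isDefEq.respectTransparency false
set_option autoImplicit false
set_option linter.style.haveILetI false
set_option linter.unusedSectionVars false

universe u
open CategoryTheory CategoryTheory.Limits AlgebraicGeometry

namespace Groth.Agent.Lib.Helper4.GrpdGlue

open Groth.Agent.Lib.Helper4.GrpdBC Groth.Agent.Lib.Helper4.GrpdRes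
  Groth.Agent.Lib.Helper4.GrpdAffQuot Groth.Agent.Lib.Helper4.GrpdQuotOpen

theorem isPullback_resLE_of_eq {X Y : Scheme.{u}} (f : X ⟶ Y) (U : Y.Opens) (V : X.Opens)
    (hV : V = f ⁻¹ᵁ U) : IsPullback V.ι (f.resLE U V (le_of_eq hV)) f U.ι := by
  subst hV
  rw [Scheme.Hom.resLE_eq_morphismRestrict]
  exact (isPullback_morphismRestrict f U).flip

variable {S : Scheme.{u}} (G : Grpd.GroupoidScheme S)

/-- restriction data for an invariant open -/
noncomputable def resOpen (W : G.U.Opens) (hW : G.s ⁻¹ᵁ W = G.t ⁻¹ᵁ W) : ResData G where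
  W := W
  RW := (G.s ⁻¹ᵁ W)
  ι := W.ι
  ιR := (G.s ⁻¹ᵁ W).ι
  sW := G.s ∣_ W
  tW := G.t.resLE W (G.s ⁻¹ᵁ W) (le_of_eq hW)
  hs := (isPullback_morphismRestrict G.s W).flip
  ht := isPullback_resLE_of_eq G.t W (G.s ⁻¹ᵁ W) hW
  mono_ι := inferInstance

/-- the index type: invariant affine opens -/
def J : Type u := {W : G.U.Opens // IsAffineOpen W ∧ G.s ⁻¹ᵁ W = G.t ⁻¹ᵁ W}

instance : Preorder (J G) := inferInstanceAs (Preorder {W : G.U.Opens // _})

/-- the restricted groupoid on an invariant affine open -/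
noncomputable abbrev GW (W : J G) : Grpd.GroupoidScheme S := (resOpen G W.1 W.2.2).res

instance (W : J G) : IsAffine (GW G W).U := W.2.1

instance [IsFinite G.s] (W : J G) : IsAffine (GW G W).R := W.2.1.preimage G.s

section trans

variable {G}
variable {W' W : J G} (h : W' ≤ W)

/-- transition on objects -/
noncomputable def fU : (GW G W').U ⟶ (GW G W).U := G.U.homOfLE h

/-- transition on arrows -/
noncomputable def fR : (GW G W').R ⟶ (GW G W).R := G.R.homOfLE (G.s.preimage_mono h)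

instance : IsOpenImmersion (fU h) := inferInstanceAs (IsOpenImmersion (G.U.homOfLE _))
instance : IsOpenImmersion (fR h) := inferInstanceAs (IsOpenImmersion (G.R.homOfLE _))

theorem hsp : IsPullback (fR h) (GW G W').s (GW G W).s (fU h) := by
  refine (IsOpenImmersion.isPullback (GW G W').s (fR h) (fU h) (GW G W).s ?_ ?_).flip
  · change G.R.homOfLE _ ≫ (G.s ∣_ W.1) = (G.s ∣_ W'.1) ≫ G.U.homOfLE _
    rw [← cancel_mono W.1.ι]
    simp only [Category.assoc, morphismRestrict_ι, Scheme.homOfLE_ι, Scheme.homOfLE_ι_assoc]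
  · change (G.s ∣_ W.1) ⁻¹ᵁ (G.U.homOfLE _).opensRange = (G.R.homOfLE _).opensRange
    rw [Scheme.opensRange_homOfLE, Scheme.opensRange_homOfLE, ← Scheme.Hom.comp_preimage,
      morphismRestrict_ι, Scheme.Hom.comp_preimage]

theorem htp : IsPullback (fR h) (GW G W').t (GW G W).t (fU h) := by
  refine (IsOpenImmersion.isPullback (GW G W').t (fR h) (fU h) (GW G W).t ?_ ?_).flip
  · change G.R.homOfLE _ ≫ G.t.resLE W.1 (G.s ⁻¹ᵁ W.1) _ =
      G.t.resLE W'.1 (G.s ⁻¹ᵁ W'.1) _ ≫ G.U.homOfLE _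
    rw [Scheme.Hom.map_resLE, Scheme.Hom.resLE_map]
  · change (G.t.resLE W.1 (G.s ⁻¹ᵁ W.1) _) ⁻¹ᵁ (G.U.homOfLE _).opensRange =
      (G.R.homOfLE _).opensRange
    rw [Scheme.opensRange_homOfLE, Scheme.opensRange_homOfLE, ← Scheme.Hom.comp_preimage,
      Scheme.Hom.resLE_comp_ι, Scheme.Hom.comp_preimage, W'.2.2]

end trans

end Groth.Agent.Lib.Helper4.GrpdGlue
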