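import Mathlib
import Groth.Agent.Lib.Helper4.GrpdGlue1

/-!
# Quotients of finite locally free groupoids: points of the restricted groupoids, basis lemma
-/

set_option backward.isDefEq.respectTransparency false
set_option autoImplicit false
set_option linter.style.haveILetI false
set_option linter.unusedSectionVars false

universe u
open CategoryTheory CategoryTheory.Limits AlgebraicGeometry

namespace Groth.Agent.Lib.Helper4.GrpdGlue

open Groth.Agent.Lib.Helper4.GrpdBC Groth.Agent.Lib.Helper4.GrpdRes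
  Groth.Agent.Lib.Helper4.GrpdAffQuot Groth.Agent.Lib.Helper4.GrpdQuotOpen

variable {S : Scheme.{u}} {G : Grpd.GroupoidScheme S}

section points

variable (W : J G)

theorem ι_sW (r' : (GW G W).R) : W.1.ι ((GW G W).s r') = G.s ((G.s ⁻¹ᵁ W.1).ι r') := by
  change (G.s ∣_ W.1 ≫ W.1.ι) r' = ((G.s ⁻¹ᵁ W.1).ι ≫ G.s) r'
  rw [morphismRestrict_ι]

theorem ι_tW (r' : (GW G W).R) : W.1.ι ((GW G W).t r') = G.t ((G.s ⁻¹ᵁ W.1).ι r') := by
  change (G.t.resLE W.1 (G.s ⁻¹ᵁ W.1) _ ≫ W.1.ι) r' = ((G.s ⁻¹ᵁ W.1).ι ≫ G.t) r'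
  rw [Scheme.Hom.resLE_comp_ι]

theorem s_mem_iff_t_mem (r : G.R) : G.s r ∈ W.1 ↔ G.t r ∈ W.1 := by
  have := W.2.2
  constructor
  · intro h
    have h' : r ∈ G.s ⁻¹ᵁ W.1 := h
    rw [this] at h'
    exact h'
  · intro h
    have h' : r ∈ G.t ⁻¹ᵁ W.1 := h
    rw [← this] at h'
    exact h'

/-- orbits of the restricted groupoid are orbits of `G` -/
theorem exists_arrow_iff (x y : (GW G W).U) :
    (∃ r' : (GW G W).R, (GW G W).t r' = x ∧ (GW G W).s r' = y) ↔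
      ∃ r : G.R, G.t r = W.1.ι x ∧ G.s r = W.1.ι y := by
  constructor
  · rintro ⟨r', rfl, rfl⟩
    exact ⟨(G.s ⁻¹ᵁ W.1).ι r', (ι_tW W r').symm, (ι_sW W r').symm⟩
  · rintro ⟨r, hr1, hr2⟩
    have hr : r ∈ G.s ⁻¹ᵁ W.1 := by
      change G.s r ∈ W.1
      rw [hr2]
      exact y.2
    refine ⟨⟨r, hr⟩, ?_, ?_⟩
    · apply W.1.ι.isOpenEmbedding.injective
      rw [ι_tW]
      exact hr1
    · apply W.1.ι.isOpenEmbedding.injective
      rw [ι_sW]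
      exact hr2

end points

section basis

variable [IsFinite G.s] [Flat G.s] [LocallyOfFinitePresentation G.s]
  [IsFinite G.t] [Flat G.t] [LocallyOfFinitePresentation G.t]

theorem pW_eq_iff (W : J G) (x y : (GW G W).U) :
    (GW G W).toQuot x = (GW G W).toQuot y ↔ ∃ r : G.R, G.t r = W.1.ι x ∧ G.s r = W.1.ι y := by
  rw [toQuot_eq_iff, exists_arrow_iff]

/-- invariant affine opens form a basis of the invariant opens -/
theorem exists_invariant_affine_le (W : J G) (V : G.U.Opens) (hV : G.s ⁻¹ᵁ V = G.t ⁻¹ᵁ V)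
    (x : G.U) (hxW : x ∈ W.1) (hxV : x ∈ V) :
    ∃ W₀ : J G, x ∈ W₀.1 ∧ W₀.1 ≤ W.1 ∧ W₀.1 ≤ V := by
  have hVpt : ∀ r : G.R, G.t r ∈ V → G.s r ∈ V := by
    intro r h
    have h' : r ∈ G.t ⁻¹ᵁ V := h
    rw [← hV] at h'
    exact h'
  -- the closed complement and its image
  let Z : Set (GW G W).U := ((W.1.ι ⁻¹ᵁ V : (GW G W).U.Opens) : Set (GW G W).U)ᶜ
  have hZ : IsClosed Z := (W.1.ι ⁻¹ᵁ V).isOpen.isClosed_compl
  have hK : IsClosed ((GW G W).toQuot '' Z) := (GW G W).toQuot.isClosedMap _ hZ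
  have hx' : (GW G W).toQuot ⟨x, hxW⟩ ∈ ((GW G W).toQuot '' Z)ᶜ := by
    rintro ⟨z, hz, hzx⟩
    obtain ⟨r, hr1, hr2⟩ := (pW_eq_iff W ⟨x, hxW⟩ z).mp hzx.symm
    apply hz
    change W.1.ι z ∈ V
    rw [← hr2]
    apply hVpt
    rw [hr1]
    exact hxV
  obtain ⟨_, ⟨_, ⟨c, rfl⟩, rfl⟩, hxc, hcK⟩ :=
    (isBasis_basicOpen (Spec (CommRingCat.of (GW G W).invariants))).exists_subset_of_mem_open
      hx' hK.isOpen_compl
  -- the invariant affine open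
  let V₀ : (GW G W).U.Opens :=
    (GW G W).toQuot ⁻¹ᵁ (Spec (CommRingCat.of (GW G W).invariants)).basicOpen c
  have hV₀aff : IsAffineOpen V₀ := by
    change IsAffineOpen ((GW G W).toQuot ⁻¹ᵁ _)
    rw [Scheme.preimage_basicOpen_top]
    exact (isAffineOpen_top _).basicOpen _
  have hmem : ∀ y : G.U, y ∈ W.1.ι ''ᵁ V₀ ↔ ∃ y' : (GW G W).U, y' ∈ V₀ ∧ W.1.ι y' = y :=
    fun y => Iff.rfl
  have hinv : G.s ⁻¹ᵁ (W.1.ι ''ᵁ V₀) = G.t ⁻¹ᵁ (W.1.ι ''ᵁ V₀) := by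
    ext r
    change G.s r ∈ W.1.ι ''ᵁ V₀ ↔ G.t r ∈ W.1.ι ''ᵁ V₀
    rw [hmem, hmem]
    constructor
    · rintro ⟨y', hy', hy'r⟩
      have hrW : G.t r ∈ W.1 := (s_mem_iff_t_mem W r).mp (by rw [← hy'r]; exact y'.2)
      refine ⟨⟨G.t r, hrW⟩, ?_, rfl⟩
      change (GW G W).toQuot ⟨G.t r, hrW⟩ ∈
        (Spec (CommRingCat.of (GW G W).invariants)).basicOpen c
      have : (GW G W).toQuot ⟨G.t r, hrW⟩ = (GW G W).toQuot y' :=
        (pW_eq_iff W _ _).mpr ⟨r, rfl, hy'r.symm⟩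
      rw [this]
      exact hy'
    · rintro ⟨y', hy', hy'r⟩
      have hrW : G.s r ∈ W.1 := (s_mem_iff_t_mem W r).mpr (by rw [← hy'r]; exact y'.2)
      refine ⟨⟨G.s r, hrW⟩, ?_, rfl⟩
      change (GW G W).toQuot ⟨G.s r, hrW⟩ ∈
        (Spec (CommRingCat.of (GW G W).invariants)).basicOpen c
      have : (GW G W).toQuot y' = (GW G W).toQuot ⟨G.s r, hrW⟩ :=
        (pW_eq_iff W _ _).mpr ⟨r, hy'r.symm, rfl⟩
      rw [← this]
      exact hy'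
  refine ⟨⟨W.1.ι ''ᵁ V₀, hV₀aff.image_of_isOpenImmersion W.1.ι, hinv⟩, ?_, ?_, ?_⟩
  · exact ⟨⟨x, hxW⟩, hxc, rfl⟩
  · rintro _ ⟨y', -, rfl⟩
    exact y'.2
  · rintro _ ⟨y', hy', rfl⟩
    by_contra hy
    exact hcK hy' ⟨y', hy, rfl⟩

end basis

end Groth.Agent.Lib.Helper4.GrpdGlue
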