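import Mathlib
import Groth.Agent.Lib.Helper4.GrpdGlue2

/-!
# Quotients of finite locally free groupoids: the glued quotient `Y` and `p : U ⟶ Y`
-/

set_option backward.isDefEq.respectTransparency false
set_option autoImplicit false
set_option linter.style.haveILetI false
set_option linter.unusedSectionVars false

universe u
open CategoryTheory CategoryTheory.Limits AlgebraicGeometry

namespace Groth.Agent.Lib.Helper4.GrpdGlue

open Groth.Agent.Lib.Helper4.GrpdBC Groth.Agent.Lib.Helper4.GrpdRes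
  Groth.Agent.Lib.Helper4.GrpdAffQuot Groth.Agent.Lib.Helper4.GrpdQuotOpen

variable {S : Scheme.{u}} (G : Grpd.GroupoidScheme S)
  [IsFinite G.s] [Flat G.s] [LocallyOfFinitePresentation G.s]
  [IsFinite G.t] [Flat G.t] [LocallyOfFinitePresentation G.t]

section functor

variable {G}

/-- transition maps on the local quotients -/
noncomputable def ρ {W' W : J G} (h : W' ≤ W) :
    Spec (CommRingCat.of (GW G W').invariants) ⟶ Spec (CommRingCat.of (GW G W).invariants) :=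
  quotMap (GW G W') (GW G W) (fU h) (fR h) (hsp h).w (htp h).w

@[reassoc]
theorem pW_ρ {W' W : J G} (h : W' ≤ W) :
    (GW G W').toQuot ≫ ρ h = fU h ≫ (GW G W).toQuot :=
  toQuot_quotMap _ _ _ _ _ _

instance {W' W : J G} (h : W' ≤ W) : IsOpenImmersion (ρ h) :=
  isOpenImmersion_quotMap _ _ _ _ (hsp h) (htp h)

theorem isPullback_ρ {W' W : J G} (h : W' ≤ W) :
    IsPullback (fU h) (GW G W').toQuot (GW G W).toQuot (ρ h) :=
  isPullback_quotMap _ _ _ _ (hsp h) (htp h)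

theorem ρ_refl (W : J G) : ρ (le_refl W) = 𝟙 _ := by
  apply uniq_toQuot (GW G W)
  rw [pW_ρ, Category.comp_id]
  change G.U.homOfLE _ ≫ _ = _
  rw [Scheme.homOfLE_rfl, Category.id_comp]

theorem ρ_trans {W'' W' W : J G} (h₁ : W'' ≤ W') (h₂ : W' ≤ W) :
    ρ (h₁.trans h₂) = ρ h₁ ≫ ρ h₂ := by
  apply uniq_toQuot (GW G W'')
  rw [pW_ρ, pW_ρ_assoc, pW_ρ, ← Category.assoc]
  congr 1
  change G.U.homOfLE _ = G.U.homOfLE _ ≫ G.U.homOfLE _
  rw [Scheme.homOfLE_homOfLE]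

end functor

/-- the diagram of local quotients -/
noncomputable def F : J G ⥤ Scheme.{u} where
  obj W := Spec (CommRingCat.of (GW G W).invariants)
  map f := ρ (leOfHom f)
  map_id W := ρ_refl W
  map_comp _ _ := ρ_trans _ _

instance {W' W : J G} (f : W' ⟶ W) : IsOpenImmersion ((F G).map f) :=
  inferInstanceAs (IsOpenImmersion (ρ (leOfHom f)))

theorem ρ_pW_apply {W' W : J G} (h : W' ≤ W) (x : (GW G W').U) :
    ρ h ((GW G W').toQuot x) = (GW G W).toQuot (fU h x) := by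
  rw [← Scheme.Hom.comp_apply, pW_ρ, Scheme.Hom.comp_apply]

theorem ι_fU {W' W : J G} (h : W' ≤ W) (x : (GW G W').U) : W.1.ι (fU h x) = W'.1.ι x := by
  change (G.U.homOfLE _ ≫ W.1.ι) x = _
  rw [Scheme.homOfLE_ι]

instance isLocallyDirected_F : ((F G) ⋙ Scheme.forget).IsLocallyDirected where
  cond {W₁ W₂ W₃} f₁ f₂ y₁ y₂ heq := by
    have h₁ : W₁ ≤ W₃ := leOfHom f₁
    have h₂ : W₂ ≤ W₃ := leOfHom f₂
    have heq' : ρ h₁ y₁ = ρ h₂ y₂ := heq
    obtain ⟨x₁, rfl⟩ := surjective_toQuot (GW G W₁) y₁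
    obtain ⟨x₂, rfl⟩ := surjective_toQuot (GW G W₂) y₂
    rw [ρ_pW_apply, ρ_pW_apply, pW_eq_iff, ι_fU, ι_fU] at heq'
    obtain ⟨r, hr1, hr2⟩ := heq'
    have hx₁W₂ : W₁.1.ι x₁ ∈ W₂.1 := by
      rw [← hr1, ← s_mem_iff_t_mem, hr2]
      exact x₂.2
    obtain ⟨W₀, hx₀, h₀₁, h₀₂⟩ :=
      exists_invariant_affine_le W₁ W₂.1 W₂.2.2 (W₁.1.ι x₁) x₁.2 hx₁W₂
    refine ⟨W₀, homOfLE h₀₁, homOfLE h₀₂, (GW G W₀).toQuot ⟨W₁.1.ι x₁, hx₀⟩, ?_, ?_⟩
    · change ρ h₀₁ _ = _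
      rw [ρ_pW_apply]
      congr 1
      apply W₁.1.ι.isOpenEmbedding.injective
      rw [ι_fU]
      rfl
    · change ρ h₀₂ _ = _
      rw [ρ_pW_apply, pW_eq_iff]
      refine ⟨r, ?_, hr2⟩
      rw [hr1, ι_fU]
      rfl

end Groth.Agent.Lib.Helper4.GrpdGlue
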