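import Mathlib
import Groth.Agent.Lib.Helper4.GrpdGlue3

/-!
# Quotients of finite locally free groupoids: the quotient morphism `p : U ⟶ Y`
-/

set_option backward.isDefEq.respectTransparency false
set_option autoImplicit false
set_option linter.style.haveILetI false
set_option linter.unusedSectionVars false

universe u
open CategoryTheory CategoryTheory.Limits AlgebraicGeometry

namespace Groth.Agent.Lib.Helper4.GrpdGlue

open Groth.Agent.Lib.Helper4.GrpdBC Groth.Agent.Lib.Helper4.GrpdRes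
  Groth.Agent.Lib.Helper4.GrpdAffQuot Groth.Agent.Lib.Helper4.GrpdQuotOpen

variable {S : Scheme.{u}} (G : Grpd.GroupoidScheme S)
  [IsFinite G.s] [Flat G.s] [LocallyOfFinitePresentation G.s]
  [IsFinite G.t] [Flat G.t] [LocallyOfFinitePresentation G.t]
  (hcov : ∀ x : G.U, ∃ W : J G, x ∈ W.1)

/-- the open cover of `U` by invariant affine opens -/
noncomputable def cov : G.U.OpenCover where
  I₀ := J G
  X W := W.1
  f W := W.1.ι
  mem₀ := by
    rw [Scheme.presieve₀_mem_precoverage_iff]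
    refine ⟨fun x => ?_, fun W => inferInstance⟩
    obtain ⟨W, hW⟩ := hcov x
    exact ⟨W, ⟨x, hW⟩, rfl⟩

omit [IsFinite G.s] [Flat G.s] [LocallyOfFinitePresentation G.s]
  [IsFinite G.t] [Flat G.t] [LocallyOfFinitePresentation G.t] in
theorem lift_homOfLE_aux {W₀ W₁ W₂ : J G} (h₁ : W₀ ≤ W₁) (h₂ : W₀ ≤ W₂) :
    G.U.homOfLE h₁ ≫ W₁.1.ι = G.U.homOfLE h₂ ≫ W₂.1.ι := by
  rw [Scheme.homOfLE_ι, Scheme.homOfLE_ι]

theorem cov_directed (W₁ W₂ : J G) (x : ↥(pullback W₁.1.ι W₂.1.ι)) :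
    ∃ (W₀ : J G) (h₁ : W₀ ≤ W₁) (h₂ : W₀ ≤ W₂) (y : ↥(W₀.1 : Scheme.{u})),
      pullback.lift (G.U.homOfLE h₁) (G.U.homOfLE h₂) (lift_homOfLE_aux G h₁ h₂) y = x := by
  let x₁ := pullback.fst (W₁.1.ι) (W₂.1.ι) x
  let x₂ := pullback.snd (W₁.1.ι) (W₂.1.ι) x
  have e : W₁.1.ι x₁ = W₂.1.ι x₂ := by
    change (pullback.fst (W₁.1.ι) (W₂.1.ι) ≫ W₁.1.ι) x = (pullback.snd _ _ ≫ W₂.1.ι) x
    rw [pullback.condition]
  have hx₂ : W₁.1.ι x₁ ∈ W₂.1 := by rw [e]; exact x₂.2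
  obtain ⟨W₀, hx₀, h₀₁, h₀₂⟩ :=
    exists_invariant_affine_le W₁ W₂.1 W₂.2.2 (W₁.1.ι x₁) x₁.2 hx₂
  refine ⟨W₀, h₀₁, h₀₂, ⟨W₁.1.ι x₁, hx₀⟩, ?_⟩
  apply (pullback.fst (W₁.1.ι) (W₂.1.ι) ≫ W₁.1.ι).isOpenEmbedding.injective
  have key : ∀ (L : (W₀.1 : Scheme.{u}) ⟶ pullback (W₁.1.ι) (W₂.1.ι))
      (_ : L ≫ pullback.fst _ _ = G.U.homOfLE h₀₁),
      (pullback.fst _ _ ≫ W₁.1.ι) (L ⟨W₁.1.ι x₁, hx₀⟩) = W₁.1.ι x₁ := by
    intro L hL
    rw [← Scheme.Hom.comp_apply, ← Category.assoc, hL, Scheme.homOfLE_ι]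
    rfl
  exact key _ (pullback.lift_fst _ _ _)

instance : Preorder (cov G hcov).I₀ := inferInstanceAs (Preorder (J G))

noncomputable instance : (cov G hcov).LocallyDirected where
  trans {W' W} h := G.U.homOfLE (leOfHom h)
  trans_id W := Scheme.homOfLE_rfl _ _
  trans_comp h₁ h₂ := (Scheme.homOfLE_homOfLE _ _ _).symm
  w h := Scheme.homOfLE_ι _ _
  directed {W₁ W₂} x := by
    obtain ⟨W₀, h₁, h₂, y, hy⟩ := cov_directed G W₁ W₂ x
    exact ⟨W₀, homOfLE h₁, homOfLE h₂, y, hy⟩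

/-- the quotient scheme -/
noncomputable def Y : Scheme.{u} := colimit (F G)

/-- the canonical open immersions of the local quotients -/
noncomputable def ιY (W : J G) : Spec (CommRingCat.of (GW G W).invariants) ⟶ Y G :=
  colimit.ι (F G) W

instance (W : J G) : IsOpenImmersion (ιY G W) :=
  inferInstanceAs (IsOpenImmersion (colimit.ι (F G) W))

@[reassoc]
theorem ρ_ιY {W' W : J G} (h : W' ≤ W) : ρ h ≫ ιY G W = ιY G W' :=
  colimit.w (F G) (homOfLE h)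

theorem p_compat {W' W : (cov G hcov).I₀} (h : W' ⟶ W) :
    (cov G hcov).trans h ≫ (GW G W).toQuot ≫ ιY G W = (GW G W').toQuot ≫ ιY G W' := by
  change G.U.homOfLE (leOfHom h) ≫ (GW G W).toQuot ≫ ιY G W = (GW G W').toQuot ≫ ιY G W'
  have := pW_ρ_assoc (leOfHom h) (ιY G W)
  rw [ρ_ιY] at this
  exact this.symm

/-- the quotient morphism -/
noncomputable def p : G.U ⟶ Y G :=
  (cov G hcov).glueMorphismsOfLocallyDirected (fun W => (GW G W).toQuot ≫ ιY G W)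
    (fun h => p_compat G hcov h)

@[reassoc]
theorem ι_p (W : J G) : W.1.ι ≫ p G hcov = (GW G W).toQuot ≫ ιY G W :=
  (cov G hcov).map_glueMorphismsOfLocallyDirected _ (fun h => p_compat G hcov h) W

theorem p_apply (W : J G) (x : (GW G W).U) :
    p G hcov (W.1.ι x) = ιY G W ((GW G W).toQuot x) := by
  rw [← Scheme.Hom.comp_apply, ι_p, Scheme.Hom.comp_apply]
  rfl

theorem mem_of_p_mem_range (W : J G) (x : G.U) (hx : p G hcov x ∈ Set.range (ιY G W)) :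
    x ∈ W.1 := by
  obtain ⟨W₁, hxW₁⟩ := hcov x
  obtain ⟨y, hy⟩ := hx
  have h1 := p_apply G hcov W₁ ⟨x, hxW₁⟩
  change p G hcov x = _ at h1
  rw [← hy] at h1
  obtain ⟨W₀, f₀, f₁, z, hz0, hz1⟩ := (Scheme.IsLocallyDirected.ι_eq_ι_iff (F G)).mp h1
  obtain ⟨x₀, rfl⟩ := surjective_toQuot (GW G W₀) z
  have hz1' : ρ (leOfHom f₁) ((GW G W₀).toQuot x₀) = (GW G W₁).toQuot ⟨x, hxW₁⟩ := hz1
  rw [ρ_pW_apply, pW_eq_iff, ι_fU] at hz1'
  obtain ⟨r, hr1, hr2⟩ := hz1'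
  have : G.s r ∈ W.1 := by
    rw [s_mem_iff_t_mem, hr1]
    exact leOfHom f₀ x₀.2
  rw [hr2] at this
  exact this

theorem p_eq_iff (x y : G.U) :
    p G hcov x = p G hcov y ↔ ∃ r : G.R, G.t r = x ∧ G.s r = y := by
  obtain ⟨W, hxW⟩ := hcov x
  constructor
  · intro h
    have hy : y ∈ W.1 := by
      apply mem_of_p_mem_range G hcov W
      rw [← h]
      exact ⟨_, (p_apply G hcov W ⟨x, hxW⟩).symm⟩
    have h1 := p_apply G hcov W ⟨x, hxW⟩
    have h2 := p_apply G hcov W ⟨y, hy⟩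
    change p G hcov x = _ at h1
    change p G hcov y = _ at h2
    rw [h1, h2] at h
    exact (pW_eq_iff W _ _).mp ((ιY G W).isOpenEmbedding.injective h)
  · rintro ⟨r, rfl, rfl⟩
    have hy : G.s r ∈ W.1 := (s_mem_iff_t_mem W r).mpr hxW
    have h1 := p_apply G hcov W ⟨G.t r, hxW⟩
    have h2 := p_apply G hcov W ⟨G.s r, hy⟩
    change p G hcov (G.t r) = _ at h1
    change p G hcov (G.s r) = _ at h2
    rw [h1, h2]
    congr 1
    exact (pW_eq_iff W _ _).mpr ⟨r, rfl, rfl⟩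

theorem isPullback_p (W : J G) :
    IsPullback W.1.ι (GW G W).toQuot (p G hcov) (ιY G W) := by
  refine (IsOpenImmersion.isPullback (GW G W).toQuot W.1.ι (ιY G W) (p G hcov)
    (ι_p G hcov W) ?_).flip
  ext x
  change p G hcov x ∈ Set.range (ιY G W) ↔ x ∈ Set.range W.1.ι
  rw [Scheme.Opens.range_ι]
  constructor
  · exact mem_of_p_mem_range G hcov W x
  · intro hx
    exact ⟨_, (p_apply G hcov W ⟨x, hx⟩).symm⟩

end Groth.Agent.Lib.Helper4.GrpdGlue
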