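import Mathlib
import Groth.Agent.Lib.Helper4.GrpdGlue4
import Groth.Agent.Lib.Helper4.GrpdFinFlat

/-!
# Quotients of finite locally free groupoids: properties of `p : U ⟶ Y`
-/

set_option backward.isDefEq.respectTransparency false
set_option autoImplicit false
set_option linter.style.haveILetI false
set_option linter.unusedSectionVars false

universe u
open CategoryTheory CategoryTheory.Limits AlgebraicGeometry

namespace Groth.Agent.Lib.Helper4.GrpdGlue

open Groth.Agent.Lib.Helper4.GrpdBC Groth.Agent.Lib.Helper4.GrpdRes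
  Groth.Agent.Lib.Helper4.GrpdAffQuot Groth.Agent.Lib.Helper4.GrpdQuotOpen

/-- a property local on the target can be checked on the pieces of an open cover of the target,
given cartesian squares -/
theorem of_cover_isPullback (P : MorphismProperty Scheme.{u}) [IsZariskiLocalAtTarget P]
    {X Y : Scheme.{u}} (f : X ⟶ Y) (𝒰 : Y.OpenCover)
    (H : ∀ i, ∃ (Xi : Scheme.{u}) (a : Xi ⟶ X) (fi : Xi ⟶ 𝒰.X i),
      IsPullback a fi f (𝒰.f i) ∧ P fi) : P f := by
  apply IsZariskiLocalAtTarget.of_openCover 𝒰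
  intro i
  obtain ⟨Xi, a, fi, hpb, hfi⟩ := H i
  have e : hpb.isoPullback.hom ≫ pullback.snd f (𝒰.f i) = fi := hpb.isoPullback_hom_snd
  rw [← e] at hfi
  exact (P.cancel_left_of_respectsIso _ _).mp hfi

variable {S : Scheme.{u}} (G : Grpd.GroupoidScheme S)
  [IsFinite G.s] [Flat G.s] [LocallyOfFinitePresentation G.s]
  [IsFinite G.t] [Flat G.t] [LocallyOfFinitePresentation G.t]
  (hcov : ∀ x : G.U, ∃ W : J G, x ∈ W.1)

/-- transfer of target-local properties from the local quotient maps to `p` -/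
theorem p_prop (P : MorphismProperty Scheme.{u}) [IsZariskiLocalAtTarget P]
    (hP : ∀ W : J G, P (GW G W).toQuot) : P (p G hcov) := by
  refine of_cover_isPullback P (p G hcov) (Scheme.IsLocallyDirected.openCover (F G)) ?_
  intro W
  exact ⟨_, W.1.ι, (GW G W).toQuot, isPullback_p G hcov W, hP W⟩

instance : IsIntegralHom (p G hcov) := p_prop G hcov @IsIntegralHom fun _ => inferInstance

instance : IsAffineHom (p G hcov) := p_prop G hcov @IsAffineHom fun _ => inferInstance

instance : Surjective (p G hcov) := p_prop G hcov @Surjective fun _ => inferInstance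

@[reassoc]
theorem ιR_s (W : J G) : (G.s ⁻¹ᵁ W.1).ι ≫ G.s = (GW G W).s ≫ W.1.ι :=
  (resOpen G W.1 W.2.2).ιR_s

@[reassoc]
theorem ιR_t (W : J G) : (G.s ⁻¹ᵁ W.1).ι ≫ G.t = (GW G W).t ≫ W.1.ι :=
  (resOpen G W.1 W.2.2).ιR_t

theorem s_p : G.s ≫ p G hcov = G.t ≫ p G hcov := by
  apply Scheme.hom_ext_of_forall
  intro r
  obtain ⟨W, hW⟩ := hcov (G.s r)
  refine ⟨G.s ⁻¹ᵁ W.1, hW, ?_⟩
  rw [ιR_s_assoc, ιR_t_assoc, ι_p, ← Category.assoc, ← Category.assoc, Groth.Agent.Lib.Helper4.GrpdQuotData.s_toQuot (GW G W)]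

section desc

variable {T : Scheme.{u}} (g : G.U ⟶ T) (hg : G.s ≫ g = G.t ≫ g)

include hg in
theorem hgW (W : J G) : (GW G W).s ≫ W.1.ι ≫ g = (GW G W).t ≫ W.1.ι ≫ g := by
  rw [← ιR_s_assoc, ← ιR_t_assoc, hg]

/-- the local descents -/
noncomputable def dW (W : J G) : Spec (CommRingCat.of (GW G W).invariants) ⟶ T :=
  descQuot (GW G W) (W.1.ι ≫ g) (hgW G g hg W)

theorem pW_dW (W : J G) : (GW G W).toQuot ≫ dW G g hg W = W.1.ι ≫ g :=
  toQuot_descQuot (GW G W) _ _

theorem ρ_dW {W' W : J G} (h : W' ≤ W) : ρ h ≫ dW G g hg W = dW G g hg W' := by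
  apply uniq_toQuot (GW G W')
  rw [pW_ρ_assoc, pW_dW, pW_dW, ← Category.assoc]
  congr 1
  exact Scheme.homOfLE_ι _ _

/-- the cocone of local descents -/
noncomputable def descCocone : Cocone (F G) where
  pt := T
  ι := { app := fun W => dW G g hg W
         naturality := fun W' W f => by
           change ρ (leOfHom f) ≫ dW G g hg W = dW G g hg W' ≫ 𝟙 T
           rw [Category.comp_id, ρ_dW] }

/-- the descent of an invariant morphism to the quotient -/
noncomputable def descY : Y G ⟶ T := colimit.desc (F G) (descCocone G g hg)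

theorem ιY_descY (W : J G) : ιY G W ≫ descY G g hg = dW G g hg W :=
  colimit.ι_desc (descCocone G g hg) W

theorem p_descY : p G hcov ≫ descY G g hg = g := by
  apply (cov G hcov).hom_ext
  intro W
  change W.1.ι ≫ p G hcov ≫ descY G g hg = W.1.ι ≫ g
  rw [ι_p_assoc, ιY_descY, pW_dW]

end desc

theorem uniq_p {T : Scheme.{u}} (k₁ k₂ : Y G ⟶ T) (hk : p G hcov ≫ k₁ = p G hcov ≫ k₂) :
    k₁ = k₂ := by
  apply colimit.hom_ext
  intro W
  change ιY G W ≫ k₁ = ιY G W ≫ k₂
  apply uniq_toQuot (GW G W)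
  rw [← Category.assoc, ← Category.assoc, ← ι_p G hcov, Category.assoc, Category.assoc, hk]

theorem isOpenMap_p : IsOpenMap (p G hcov).base := by
  intro V hV
  have : (p G hcov).base '' V =
      ⋃ W : J G, (ιY G W).base '' ((GW G W).toQuot.base '' (W.1.ι.base ⁻¹' V)) := by
    ext y
    simp only [Set.mem_image, Set.mem_iUnion, Set.mem_preimage]
    constructor
    · rintro ⟨v, hv, rfl⟩
      obtain ⟨W, hW⟩ := hcov v
      exact ⟨W, _, ⟨⟨v, hW⟩, hv, rfl⟩, (p_apply G hcov W ⟨v, hW⟩).symm⟩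
    · rintro ⟨W, _, ⟨v, hv, rfl⟩, rfl⟩
      exact ⟨W.1.ι v, hv, p_apply G hcov W v⟩
  rw [this]
  apply isOpen_iUnion
  intro W
  apply (ιY G W).isOpenEmbedding.isOpenMap
  apply isOpenMap_toQuot (GW G W)
  exact hV.preimage W.1.ι.continuous

end Groth.Agent.Lib.Helper4.GrpdGlue
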