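import Mathlib
import Groth.Agent.Lib.Helper4.GrpdGlue5
import Groth.Agent.Lib.Helper4.GrpdAffSurj

/-!
# Quotients of finite locally free groupoids: `R ⟶ U ×_Y U`
-/

set_option backward.isDefEq.respectTransparency false
set_option autoImplicit false
set_option linter.style.haveILetI false
set_option linter.unusedSectionVars false

universe u
open CategoryTheory CategoryTheory.Limits AlgebraicGeometry

namespace Groth.Agent.Lib.Helper4.GrpdGlue

open Groth.Agent.Lib.Helper4.GrpdBC Groth.Agent.Lib.Helper4.GrpdRes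
  Groth.Agent.Lib.Helper4.GrpdAffQuot Groth.Agent.Lib.Helper4.GrpdQuotOpen
  Groth.Agent.Lib.Helper4.GrpdLocalCase Groth.Agent.Lib.Helper4.GrpdAffSurj

variable {S : Scheme.{u}} (G : Grpd.GroupoidScheme S)
  [IsFinite G.s] [Flat G.s] [LocallyOfFinitePresentation G.s]
  [IsFinite G.t] [Flat G.t] [LocallyOfFinitePresentation G.t]
  (hcov : ∀ x : G.U, ∃ W : J G, x ∈ W.1)

/-- the canonical morphism `R ⟶ U ×_Y U` -/
noncomputable def kY : G.R ⟶ pullback (p G hcov) (p G hcov) :=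
  pullback.lift G.t G.s (s_p G hcov).symm

@[reassoc (attr := simp)]
theorem kY_fst : kY G hcov ≫ pullback.fst _ _ = G.t := pullback.lift_fst _ _ _

@[reassoc (attr := simp)]
theorem kY_snd : kY G hcov ≫ pullback.snd _ _ = G.s := pullback.lift_snd _ _ _

/-- the open pieces of `U ×_Y U` -/
noncomputable def jW (W : J G) :
    pullback (GW G W).toQuot (GW G W).toQuot ⟶ pullback (p G hcov) (p G hcov) :=
  pullback.map _ _ _ _ W.1.ι W.1.ι (ιY G W) (ι_p G hcov W).symm (ι_p G hcov W).symm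

instance (W : J G) : IsOpenImmersion (jW G hcov W) := by
  unfold jW
  infer_instance

theorem mem_range_jW_iff (W : J G) (z : ↥(pullback (p G hcov) (p G hcov))) :
    z ∈ Set.range (jW G hcov W) ↔
      pullback.fst (p G hcov) (p G hcov) z ∈ W.1 ∧ pullback.snd (p G hcov) (p G hcov) z ∈ W.1 := by
  unfold jW
  rw [Scheme.Pullback.range_map]
  constructor
  · rintro ⟨⟨x, hx⟩, ⟨y, hy⟩⟩
    exact ⟨by rw [← hx]; exact x.2, by rw [← hy]; exact y.2⟩
  · rintro ⟨h1, h2⟩
    exact ⟨⟨⟨_, h1⟩, rfl⟩, ⟨⟨_, h2⟩, rfl⟩⟩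

theorem exists_mem_range_jW (z : ↥(pullback (p G hcov) (p G hcov))) :
    ∃ W : J G, z ∈ Set.range (jW G hcov W) := by
  obtain ⟨W, hW⟩ := hcov (pullback.fst (p G hcov) (p G hcov) z)
  refine ⟨W, (mem_range_jW_iff G hcov W z).mpr ⟨hW, ?_⟩⟩
  apply mem_of_p_mem_range G hcov W
  have : p G hcov (pullback.snd (p G hcov) (p G hcov) z) =
      p G hcov (pullback.fst (p G hcov) (p G hcov) z) := by
    rw [← Scheme.Hom.comp_apply, ← Scheme.Hom.comp_apply, pullback.condition]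
  rw [this]
  exact ⟨_, (p_apply G hcov W ⟨_, hW⟩).symm⟩

/-- the open cover of `U ×_Y U` -/
noncomputable def covP : (pullback (p G hcov) (p G hcov)).OpenCover where
  I₀ := J G
  X W := pullback (GW G W).toQuot (GW G W).toQuot
  f W := jW G hcov W
  mem₀ := by
    rw [Scheme.presieve₀_mem_precoverage_iff]
    exact ⟨fun z => exists_mem_range_jW G hcov z, fun W => inferInstance⟩

theorem ιR_kY (W : J G) :
    (G.s ⁻¹ᵁ W.1).ι ≫ kY G hcov = kQuot (GW G W) ≫ jW G hcov W := by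
  apply pullback.hom_ext
  · rw [Category.assoc, kY_fst, Category.assoc, jW, pullback.lift_fst, kQuot_fst_assoc, ιR_t]
  · rw [Category.assoc, kY_snd, Category.assoc, jW, pullback.lift_snd, kQuot_snd_assoc, ιR_s]

theorem isPullback_kY (W : J G) :
    IsPullback (G.s ⁻¹ᵁ W.1).ι (kQuot (GW G W)) (kY G hcov) (jW G hcov W) := by
  refine (IsOpenImmersion.isPullback (kQuot (GW G W)) (G.s ⁻¹ᵁ W.1).ι (jW G hcov W) (kY G hcov)
    (ιR_kY G hcov W) ?_).flip
  ext r
  change kY G hcov r ∈ Set.range (jW G hcov W) ↔ r ∈ Set.range (G.s ⁻¹ᵁ W.1).ι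
  rw [mem_range_jW_iff, Scheme.Opens.range_ι, ← Scheme.Hom.comp_apply, ← Scheme.Hom.comp_apply,
    kY_fst, kY_snd]
  constructor
  · exact fun h => h.2
  · exact fun h => ⟨(s_mem_iff_t_mem W r).mp h, h⟩

theorem surjective_kY : Function.Surjective (kY G hcov) := by
  intro z
  obtain ⟨W, z', rfl⟩ := exists_mem_range_jW G hcov z
  obtain ⟨r', rfl⟩ := surjective_kQuot (GW G W) z'
  refine ⟨(G.s ⁻¹ᵁ W.1).ι r', ?_⟩
  rw [← Scheme.Hom.comp_apply, ← Scheme.Hom.comp_apply, ιR_kY]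
  rfl

theorem jMono_GW (hJ : JMono G) (W : J G) : JMono (GW G W) :=
  (resOpen G W.1 W.2.2).jMono_res hJ

theorem isIso_kY (hJ : JMono G) : IsIso (kY G hcov) := by
  have : MorphismProperty.isomorphisms Scheme.{u} (kY G hcov) := by
    refine of_cover_isPullback _ (kY G hcov) (covP G hcov) ?_
    intro W
    exact ⟨_, (G.s ⁻¹ᵁ W.1).ι, kQuot (GW G W), isPullback_kY G hcov W,
      Groth.Agent.Lib.Helper4.GrpdFinFlat.isIso_kQuot (GW G W) (jMono_GW G hJ W)⟩
  exact this

theorem finite_flat_p (hJ : JMono G) :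
    IsFinite (p G hcov) ∧ Flat (p G hcov) ∧ LocallyOfFinitePresentation (p G hcov) := by
  have h := fun W : J G =>
    (Groth.Agent.Lib.Helper4.GrpdFinFlat.finite_flat_quotient (GW G W) (jMono_GW G hJ W)).1
  exact ⟨p_prop G hcov @IsFinite fun W => (h W).1, p_prop G hcov @Flat fun W => (h W).2.1,
    p_prop G hcov @LocallyOfFinitePresentation fun W => (h W).2.2⟩

include hcov in
theorem isAffine_Y (hU : IsAffine G.U) : IsAffine (Y G) := by
  have htop : G.s ⁻¹ᵁ (⊤ : G.U.Opens) = G.t ⁻¹ᵁ ⊤ := rfl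
  let W : J G := ⟨⊤, isAffineOpen_top G.U, htop⟩
  haveI : Surjective (ιY G W) := by
    refine ⟨fun y => ?_⟩
    obtain ⟨x, rfl⟩ := (inferInstance : Surjective (p G hcov)).surj y
    exact ⟨_, (p_apply G hcov W ⟨x, trivial⟩).symm⟩
  haveI : IsIso (ιY G W) := (isIso_iff_isOpenImmersion_and_surjective _).mpr ⟨inferInstance, this⟩
  exact IsAffine.of_isIso (inv (ιY G W))

end Groth.Agent.Lib.Helper4.GrpdGlue
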