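import Mathlib
import Groth.Agent.Lib.Helper4.GrpdGlue6
import Groth.Agent.S1881

/-!
# Quotients of schemes by finite locally free groupoids (SGA 3 V, Théorème 4.1)

Main statement `exists_quotient`.
-/

set_option backward.isDefEq.respectTransparency false
set_option autoImplicit false
set_option linter.style.haveILetI false
set_option linter.unusedSectionVars false

universe u
open CategoryTheory CategoryTheory.Limits AlgebraicGeometry

namespace Groth.Agent.Lib.Helper4.GrpdQuotMain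

open Groth.Agent.Lib.Helper4.GrpdBC Groth.Agent.Lib.Helper4.GrpdGlue Groth.Agent.S7457

variable {S : Scheme.{u}} (G : Grpd.GroupoidScheme S)

/-- the inverse is an involution (argument of helper28, `GrpdPts.i_i`) -/
theorem i_i : G.i ≫ G.i = 𝟙 G.R := by
  have h1 : G.i ≫ G.s = 𝟙 G.R ≫ G.t := by rw [G.i_s, Category.id_comp]
  have h2 : G.i ≫ G.s = (G.i ≫ G.i) ≫ G.t := by rw [Category.assoc, G.i_t]
  have e1 : cmp G G.i (𝟙 G.R) h1 = G.s ≫ G.e :=
    (cmp_congr G h1 (Category.id_comp G.i).symm rfl).trans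
      ((G.i_comp (𝟙 G.R)).trans (Category.id_comp _))
  have e2 : cmp G G.i (G.i ≫ G.i) h2 = G.s ≫ G.e :=
    (G.comp_i G.i).trans (by rw [← Category.assoc, G.i_t])
  have l1 := L2 G G.i (𝟙 G.R) h1 (by rw [cmp_t, Category.assoc, G.i_s])
  have l2 := L2 G G.i (G.i ≫ G.i) h2 (by rw [cmp_t, Category.assoc, G.i_s])
  rw [← l2]
  conv_rhs => rw [← l1]
  exact cmp_congr G _ rfl (e2.trans e1.symm)

instance isIso_i : IsIso G.i := ⟨G.i, i_i G, i_i G⟩

theorem isFinite_t [IsFinite G.s] : IsFinite G.t := by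
  rw [← G.i_s]; infer_instance

theorem flat_t [Flat G.s] : Flat G.t := by
  rw [← G.i_s]; infer_instance

theorem lfp_t [LocallyOfFinitePresentation G.s] : LocallyOfFinitePresentation G.t := by
  rw [← G.i_s]; infer_instance

/-- **SGA 3 V, Théorème 4.1** (existence part, with the complements). -/
theorem exists_quotient [IsFinite G.s] [Flat G.s] [LocallyOfFinitePresentation G.s]
    (haff : ∀ x : G.U, ∃ V : G.U.Opens, IsAffineOpen V ∧
      G.t.base '' (G.s.base ⁻¹' {x}) ⊆ (V : Set G.U)) :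
    ∃ (Y : Scheme.{u}) (q : G.U ⟶ Y) (w : G.s ≫ q = G.t ≫ q),
      (∀ (T : Scheme.{u}) (g : G.U ⟶ T), G.s ≫ g = G.t ≫ g → ∃ k : Y ⟶ T, q ≫ k = g) ∧
      (∀ (T : Scheme.{u}) (k₁ k₂ : Y ⟶ T), q ≫ k₁ = q ≫ k₂ → k₁ = k₂) ∧
      IsAffineHom q ∧ IsIntegralHom q ∧ Surjective q ∧ IsOpenMap q.base ∧
      (∀ x x' : G.U, q.base x = q.base x' ↔ ∃ r : G.R, G.t.base r = x ∧ G.s.base r = x') ∧
      Function.Surjective (pullback.lift G.t G.s w.symm).base ∧
      (IsAffine G.U → IsAffine Y) ∧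
      (JMono G → IsFinite q ∧ Flat q ∧ LocallyOfFinitePresentation q ∧
        IsIso (pullback.lift G.t G.s w.symm)) := by
  haveI := isFinite_t G
  haveI := flat_t G
  haveI := lfp_t G
  have hcov : ∀ x : G.U, ∃ W : J G, x ∈ W.1 := by
    intro x
    obtain ⟨V, hV, hxV⟩ := haff x
    obtain ⟨W, hW, hxW, hinv⟩ := Groth.Agent.S1881.result S G x V hV
      (fun r hr => hxV ⟨r, hr, rfl⟩)
    exact ⟨⟨W, hW, hinv⟩, hxW⟩
  refine ⟨Y G, p G hcov, s_p G hcov, ?_, ?_, inferInstance, inferInstance, inferInstance,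
    isOpenMap_p G hcov, ?_, ?_, isAffine_Y G hcov, ?_⟩
  · intro T g hg
    exact ⟨descY G g hg, p_descY G hcov g hg⟩
  · intro T k₁ k₂ hk
    exact uniq_p G hcov k₁ k₂ hk
  · intro x x'
    exact p_eq_iff G hcov x x'
  · exact surjective_kY G hcov
  · intro hJ
    obtain ⟨h1, h2, h3⟩ := finite_flat_p G hcov hJ
    exact ⟨h1, h2, h3, isIso_kY G hcov hJ⟩

end Groth.Agent.Lib.Helper4.GrpdQuotMain
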