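import Mathlib
import Groth.Prelude.Def_Grpd
import Groth.Agent.Lib.Helper4.GrpdTc
import Groth.Agent.Lib.Helper4.GrpdBC

/-!
# Sub-groupoids of a groupoid scheme (helper4)

A monomorphism `ιP : P ⟶ R` through which `e`, `i ∘ ιP` and `c ∘ (ιP × ιP)` factor defines a
groupoid scheme `GP` on `U` with arrows `P`.
-/

set_option backward.isDefEq.respectTransparency false
set_option autoImplicit false
set_option linter.style.haveILetI false
set_option linter.unusedSectionVars false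

universe u
open CategoryTheory CategoryTheory.Limits AlgebraicGeometry

namespace Groth.Agent.Lib.Helper4.SubGrpd1

open Groth.Agent.S7457 Groth.Agent.Lib.Helper4.GrpdTc Groth.Agent.Lib.Helper4.GrpdBC

variable {S : Scheme.{u}} (G : Grpd.GroupoidScheme S) {P : Scheme.{u}} (ιP : P ⟶ G.R) [Mono ιP]
  (eP : G.U ⟶ P) (heP : eP ≫ ιP = G.e) (iP : P ⟶ P) (hiP : iP ≫ ιP = ιP ≫ G.i)
  (cP : pullback (ιP ≫ G.s) (ιP ≫ G.t) ⟶ P)
  (hcP : cP ≫ ιP = pullback.map (ιP ≫ G.s) (ιP ≫ G.t) G.s G.t ιP ιP (𝟙 G.U)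
    (Category.comp_id _) (Category.comp_id _) ≫ G.c)

include hcP in
theorem lift_cP {T : Scheme.{u}} (α β : T ⟶ P) (h : α ≫ ιP ≫ G.s = β ≫ ιP ≫ G.t) :
    (pullback.lift α β h ≫ cP) ≫ ιP = tc G (α ≫ ιP) (β ≫ ιP) := by
  have h' : (α ≫ ιP) ≫ G.s = (β ≫ ιP) ≫ G.t := by simpa only [Category.assoc] using h
  rw [tc_eq' G _ _ h', Category.assoc, hcP, ← Category.assoc]
  congr 1
  apply pullback.hom_ext
  · rw [Category.assoc, pullback.lift_fst]
    erw [pullback.lift_fst]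
    rw [pullback.lift_fst_assoc]
  · rw [Category.assoc, pullback.lift_snd]
    erw [pullback.lift_snd]
    rw [pullback.lift_snd_assoc]

/-- The sub-groupoid. -/
noncomputable def GP : Grpd.GroupoidScheme S where
  U := G.U
  R := P
  pU := G.pU
  pR := ιP ≫ G.pR
  s := ιP ≫ G.s
  t := ιP ≫ G.t
  e := eP
  i := iP
  c := cP
  s_over := by rw [Category.assoc, G.s_over]
  t_over := by rw [Category.assoc, G.t_over]
  comp_s := fun {T} α β h => by
    have h' : (α ≫ ιP) ≫ G.s = (β ≫ ιP) ≫ G.t := by simpa only [Category.assoc] using h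
    rw [← Category.assoc, lift_cP G ιP cP hcP α β h, tc_s G _ _ h', Category.assoc]
  comp_t := fun {T} α β h => by
    have h' : (α ≫ ιP) ≫ G.s = (β ≫ ιP) ≫ G.t := by simpa only [Category.assoc] using h
    rw [← Category.assoc, lift_cP G ιP cP hcP α β h, tc_t G _ _ h', Category.assoc]
  assoc := fun {T} α β γ h₁ h₂ => by
    have h₁' : (α ≫ ιP) ≫ G.s = (β ≫ ιP) ≫ G.t := by simpa only [Category.assoc] using h₁
    have h₂' : (β ≫ ιP) ≫ G.s = (γ ≫ ιP) ≫ G.t := by simpa only [Category.assoc] using h₂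
    rw [← cancel_mono ιP, lift_cP G ιP cP hcP, lift_cP G ιP cP hcP, lift_cP G ιP cP hcP,
      lift_cP G ιP cP hcP]
    exact tc_assoc G _ _ _ h₁' h₂'
  e_s := by rw [← Category.assoc, heP, G.e_s]
  e_t := by rw [← Category.assoc, heP, G.e_t]
  comp_e := fun {T} α => by
    rw [← cancel_mono ιP, lift_cP G ιP cP hcP]
    have : (α ≫ (ιP ≫ G.s) ≫ eP) ≫ ιP = ((α ≫ ιP) ≫ G.s) ≫ G.e := by
      simp only [Category.assoc, heP]
    rw [this]
    exact tc_e G _ _ rfl
  e_comp := fun {T} α => by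
    rw [← cancel_mono ιP, lift_cP G ιP cP hcP]
    have : (α ≫ (ιP ≫ G.t) ≫ eP) ≫ ιP = ((α ≫ ιP) ≫ G.t) ≫ G.e := by
      simp only [Category.assoc, heP]
    rw [this]
    exact e_tc G _ _ rfl
  i_s := by rw [← Category.assoc, hiP, Category.assoc, G.i_s]
  i_t := by rw [← Category.assoc, hiP, Category.assoc, G.i_t]
  comp_i := fun {T} α => by
    rw [← cancel_mono ιP, lift_cP G ιP cP hcP]
    have h1 : (α ≫ iP) ≫ ιP = (α ≫ ιP) ≫ G.i := by simp only [Category.assoc, hiP]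
    have h2 : (α ≫ (ιP ≫ G.t) ≫ eP) ≫ ιP = (α ≫ ιP) ≫ G.t ≫ G.e := by
      simp only [Category.assoc, heP]
    rw [h1, h2]
    exact tc_i G _
  i_comp := fun {T} α => by
    rw [← cancel_mono ιP, lift_cP G ιP cP hcP]
    have h1 : (α ≫ iP) ≫ ιP = (α ≫ ιP) ≫ G.i := by simp only [Category.assoc, hiP]
    have h2 : (α ≫ (ιP ≫ G.s) ≫ eP) ≫ ιP = (α ≫ ιP) ≫ G.s ≫ G.e := by
      simp only [Category.assoc, heP]
    rw [h1, h2]
    exact i_tc G _

theorem jMono_GP [Mono (ιP ≫ G.j)] : JMono (GP G ιP eP heP iP hiP cP hcP) := by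
  intro T a b ht hs
  have ht' : a ≫ ιP ≫ G.t = b ≫ ιP ≫ G.t := ht
  have hs' : a ≫ ιP ≫ G.s = b ≫ ιP ≫ G.s := hs
  have : (a : T ⟶ P) = b := by
    rw [← cancel_mono (ιP ≫ G.j)]
    apply pullback.hom_ext
    · simpa only [Category.assoc, Grpd.GroupoidScheme.j, pullback.lift_fst] using ht'
    · simpa only [Category.assoc, Grpd.GroupoidScheme.j, pullback.lift_snd] using hs'
  exact this

end Groth.Agent.Lib.Helper4.SubGrpd1
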