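import Mathlib
import Groth.Prelude.Def_Grpd
import Groth.Prelude.Def_Desc
import Groth.Agent.Lib.Helper4.GrpdBC

/-!
# The groupoid scheme of a descent datum

For `p : X ⟶ Y` and a descent datum `D` on a scheme `V = D.obj.left` over `X` (functor-of-points
form), the groupoid scheme `grpd p D` over `Y` has objects `V`, arrows `R = V ×_Y X`, source the
first projection and target `(v, x₁) ↦ φ_{a v, x₁}(v)`.  Its `j = (t, s)` is a monomorphism
(`jMono_grpd`), and the source map is a base change of `p`.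
-/

set_option backward.isDefEq.respectTransparency false
set_option autoImplicit false
set_option linter.style.haveILetI false
set_option linter.unusedSectionVars false

universe u
open CategoryTheory CategoryTheory.Limits AlgebraicGeometry

namespace Groth.Agent.Lib.Helper4.DescGrpd

open Groth.Agent.Lib.Helper4.GrpdBC

variable {X Y : Scheme.{u}} (p : X ⟶ Y) (D : Desc.SchDD p)

/-! ### The gluing bijections, unbundled -/

/-- The gluing bijection applied to a point, unbundled. -/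
noncomputable def ph {T : Scheme.{u}} (x₀ x₁ : T ⟶ X) (h : x₀ ≫ p = x₁ ≫ p)
    (d : T ⟶ D.obj.left) (hd : d ≫ D.obj.hom = x₀) : T ⟶ D.obj.left :=
  (D.φ x₀ x₁ h ⟨d, hd⟩).1

@[reassoc (attr := simp)]
theorem ph_hom {T : Scheme.{u}} (x₀ x₁ : T ⟶ X) (h : x₀ ≫ p = x₁ ≫ p)
    (d : T ⟶ D.obj.left) (hd : d ≫ D.obj.hom = x₀) : ph p D x₀ x₁ h d hd ≫ D.obj.hom = x₁ :=
  (D.φ x₀ x₁ h ⟨d, hd⟩).2

theorem comp_ph {T T' : Scheme.{u}} (g : T' ⟶ T) (x₀ x₁ : T ⟶ X) (h : x₀ ≫ p = x₁ ≫ p)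
    (d : T ⟶ D.obj.left) (hd : d ≫ D.obj.hom = x₀) :
    g ≫ ph p D x₀ x₁ h d hd = ph p D (g ≫ x₀) (g ≫ x₁)
      (by rw [Category.assoc, h, Category.assoc]) (g ≫ d) (by rw [Category.assoc, hd]) :=
  (D.φ_natural g x₀ x₁ h (by rw [Category.assoc, h, Category.assoc]) ⟨d, hd⟩
    ⟨g ≫ d, by rw [Category.assoc, hd]⟩ rfl).symm

theorem ph_congr {T : Scheme.{u}} {x₀ x₀' x₁ x₁' : T ⟶ X} (h : x₀ ≫ p = x₁ ≫ p)
    {d d' : T ⟶ D.obj.left} (hd : d ≫ D.obj.hom = x₀) (e₀ : x₀ = x₀') (e₁ : x₁ = x₁')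
    (ed : d = d') :
    ph p D x₀ x₁ h d hd = ph p D x₀' x₁' (by rw [← e₀, ← e₁]; exact h) d'
      (by rw [← e₀, ← ed]; exact hd) := by
  subst e₀ e₁ ed; rfl

theorem ph_self {T : Scheme.{u}} (x : T ⟶ X) (d : T ⟶ D.obj.left) (hd : d ≫ D.obj.hom = x) :
    ph p D x x rfl d hd = d :=
  congrArg Subtype.val (D.φ_self x ⟨d, hd⟩)

theorem ph_ph {T : Scheme.{u}} (x₀ x₁ x₂ : T ⟶ X) (h₀₁ : x₀ ≫ p = x₁ ≫ p)
    (h₁₂ : x₁ ≫ p = x₂ ≫ p) (d : T ⟶ D.obj.left) (hd : d ≫ D.obj.hom = x₀) :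
    ph p D x₁ x₂ h₁₂ (ph p D x₀ x₁ h₀₁ d hd) (ph_hom p D x₀ x₁ h₀₁ d hd) =
      ph p D x₀ x₂ (h₀₁.trans h₁₂) d hd :=
  congrArg Subtype.val (D.φ_comp x₀ x₁ x₂ h₀₁ h₁₂ ⟨d, hd⟩)

/-! ### The groupoid -/

/-- arrows: `V ×_Y X` -/
noncomputable abbrev Rs : Scheme.{u} := pullback (D.obj.hom ≫ p) p

/-- source -/
noncomputable def sR : Rs p D ⟶ D.obj.left := pullback.fst _ _

/-- the `X`-component of the target -/
noncomputable def xR : Rs p D ⟶ X := pullback.snd _ _

theorem cond : (sR p D ≫ D.obj.hom) ≫ p = xR p D ≫ p := by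
  rw [Category.assoc]; exact pullback.condition

@[reassoc]
theorem cond' : sR p D ≫ D.obj.hom ≫ p = xR p D ≫ p := pullback.condition

theorem comp_cond {T : Scheme.{u}} (α : T ⟶ Rs p D) :
    ((α ≫ sR p D) ≫ D.obj.hom) ≫ p = (α ≫ xR p D) ≫ p := by
  simp only [Category.assoc]
  rw [cond']

/-- target -/
noncomputable def tR : Rs p D ⟶ D.obj.left :=
  ph p D (sR p D ≫ D.obj.hom) (xR p D) (cond p D) (sR p D) rfl

@[reassoc (attr := simp)]
theorem tR_hom : tR p D ≫ D.obj.hom = xR p D := ph_hom _ _ _ _ _ _ _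

section mk

variable {T : Scheme.{u}} (v : T ⟶ D.obj.left) (x : T ⟶ X) (h : (v ≫ D.obj.hom) ≫ p = x ≫ p)

/-- the arrow with source `v` and target over `x` -/
noncomputable def mk : T ⟶ Rs p D :=
  pullback.lift v x (by rw [← Category.assoc]; exact h)

@[reassoc (attr := simp)]
theorem mk_sR : mk p D v x h ≫ sR p D = v := pullback.lift_fst _ _ _

@[reassoc (attr := simp)]
theorem mk_xR : mk p D v x h ≫ xR p D = x := pullback.lift_snd _ _ _

theorem mk_tR : mk p D v x h ≫ tR p D = ph p D (v ≫ D.obj.hom) x h v rfl := by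
  unfold tR
  rw [comp_ph]
  exact ph_congr p D _ _ (by rw [mk_sR_assoc]) (mk_xR p D v x h) (mk_sR p D v x h)

end mk

theorem hom_ext {T : Scheme.{u}} {α β : T ⟶ Rs p D} (h₁ : α ≫ sR p D = β ≫ sR p D)
    (h₂ : α ≫ xR p D = β ≫ xR p D) : α = β :=
  pullback.hom_ext h₁ h₂

theorem eq_mk {T : Scheme.{u}} (α : T ⟶ Rs p D) :
    α = mk p D (α ≫ sR p D) (α ≫ xR p D) (comp_cond p D α) :=
  hom_ext p D (by rw [mk_sR]) (by rw [mk_xR])

/-- `t` of a general arrow -/
theorem comp_tR {T : Scheme.{u}} (α : T ⟶ Rs p D) :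
    α ≫ tR p D = ph p D ((α ≫ sR p D) ≫ D.obj.hom) (α ≫ xR p D)
      (comp_cond p D α) (α ≫ sR p D) rfl := by
  conv_lhs => rw [eq_mk p D α]
  exact mk_tR p D _ _ _

/-- identity -/
noncomputable def eR : D.obj.left ⟶ Rs p D :=
  mk p D (𝟙 _) D.obj.hom (by rw [Category.id_comp])

/-- inverse -/
noncomputable def iR : Rs p D ⟶ Rs p D :=
  mk p D (tR p D) (sR p D ≫ D.obj.hom) (by rw [tR_hom, cond])

/-- composition -/
noncomputable def cR : pullback (sR p D) (tR p D) ⟶ Rs p D :=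
  mk p D (pullback.snd _ _ ≫ sR p D) (pullback.fst _ _ ≫ xR p D) (by
    have h2 : pullback.snd (sR p D) (tR p D) ≫ xR p D =
        pullback.fst (sR p D) (tR p D) ≫ sR p D ≫ D.obj.hom := by
      rw [← tR_hom, pullback.condition_assoc]
    simp only [Category.assoc]
    rw [cond', reassoc_of% h2, cond'])

theorem lift_cR {T : Scheme.{u}} (α β : T ⟶ Rs p D) (h : α ≫ sR p D = β ≫ tR p D) :
    pullback.lift α β h ≫ cR p D = mk p D (β ≫ sR p D) (α ≫ xR p D) (by
      have e1 : β ≫ xR p D = α ≫ sR p D ≫ D.obj.hom := by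
        rw [reassoc_of% h, tR_hom]
      simp only [Category.assoc]
      rw [cond', reassoc_of% e1, cond']) := by
  apply hom_ext
  · unfold cR
    rw [Category.assoc, mk_sR, mk_sR, pullback.lift_snd_assoc]
  · unfold cR
    rw [Category.assoc, mk_xR, mk_xR, pullback.lift_fst_assoc]

@[reassoc (attr := simp)]
theorem lift_cR_sR {T : Scheme.{u}} (α β : T ⟶ Rs p D) (h : α ≫ sR p D = β ≫ tR p D) :
    (pullback.lift α β h ≫ cR p D) ≫ sR p D = β ≫ sR p D := by
  rw [lift_cR, mk_sR]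

@[reassoc (attr := simp)]
theorem lift_cR_xR {T : Scheme.{u}} (α β : T ⟶ Rs p D) (h : α ≫ sR p D = β ≫ tR p D) :
    (pullback.lift α β h ≫ cR p D) ≫ xR p D = α ≫ xR p D := by
  rw [lift_cR, mk_xR]

@[reassoc (attr := simp)]
theorem eR_sR : eR p D ≫ sR p D = 𝟙 _ := mk_sR _ _ _ _ _

@[reassoc (attr := simp)]
theorem eR_xR : eR p D ≫ xR p D = D.obj.hom := mk_xR _ _ _ _ _

@[reassoc (attr := simp)]
theorem iR_sR : iR p D ≫ sR p D = tR p D := mk_sR _ _ _ _ _

@[reassoc (attr := simp)]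
theorem iR_xR : iR p D ≫ xR p D = sR p D ≫ D.obj.hom := mk_xR _ _ _ _ _

theorem eR_tR : eR p D ≫ tR p D = 𝟙 _ := by
  unfold eR
  rw [mk_tR]
  exact (ph_congr p D _ _ (Category.id_comp _) rfl rfl).trans (ph_self p D _ _ _)

theorem iR_tR : iR p D ≫ tR p D = sR p D := by
  unfold iR
  rw [mk_tR]
  have e : ph p D (tR p D ≫ D.obj.hom) (sR p D ≫ D.obj.hom) (by rw [tR_hom, cond]) (tR p D) rfl =
      ph p D (xR p D) (sR p D ≫ D.obj.hom) (cond p D).symm
        (ph p D (sR p D ≫ D.obj.hom) (xR p D) (cond p D) (sR p D) rfl)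
        (ph_hom _ _ _ _ _ _ _) :=
    ph_congr p D _ _ (tR_hom p D) rfl rfl
  rw [e, ph_ph]
  exact ph_self p D _ _ _

theorem lift_cR_tR {T : Scheme.{u}} (α β : T ⟶ Rs p D) (h : α ≫ sR p D = β ≫ tR p D) :
    (pullback.lift α β h ≫ cR p D) ≫ tR p D = α ≫ tR p D := by
  rw [lift_cR, mk_tR, comp_tR p D α]
  have hd : α ≫ sR p D = ph p D ((β ≫ sR p D) ≫ D.obj.hom) (β ≫ xR p D) (comp_cond p D β)
      (β ≫ sR p D) rfl := h.trans (comp_tR p D β)
  have e0 : (α ≫ sR p D) ≫ D.obj.hom = β ≫ xR p D := by rw [h, Category.assoc, tR_hom]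
  rw [ph_congr p D _ _ e0 rfl hd, ph_ph]

/-- The groupoid scheme over `Y` of the descent datum `D`. -/
noncomputable def grpd : Grpd.GroupoidScheme Y where
  U := D.obj.left
  R := Rs p D
  pU := D.obj.hom ≫ p
  pR := sR p D ≫ D.obj.hom ≫ p
  s := sR p D
  t := tR p D
  e := eR p D
  i := iR p D
  c := cR p D
  s_over := rfl
  t_over := by rw [tR_hom_assoc, cond']
  comp_s := fun α β h => lift_cR_sR p D α β h
  comp_t := fun α β h => lift_cR_tR p D α β h
  assoc := fun α β γ h₁ h₂ => by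
    apply hom_ext
    · rw [lift_cR_sR, lift_cR_sR, lift_cR_sR]
    · rw [lift_cR_xR, lift_cR_xR, lift_cR_xR]
  e_s := eR_sR p D
  e_t := eR_tR p D
  comp_e := fun α => by
    apply hom_ext
    · rw [lift_cR_sR, Category.assoc, Category.assoc, eR_sR, Category.comp_id]
    · rw [lift_cR_xR]
  e_comp := fun α => by
    apply hom_ext
    · rw [lift_cR_sR]
    · rw [lift_cR_xR, Category.assoc, Category.assoc, eR_xR, tR_hom]
  i_s := iR_sR p D
  i_t := iR_tR p D
  comp_i := fun α => by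
    apply hom_ext
    · rw [lift_cR_sR, Category.assoc, Category.assoc, Category.assoc, iR_sR, eR_sR,
        Category.comp_id]
    · rw [lift_cR_xR, Category.assoc, Category.assoc, eR_xR, tR_hom]
  i_comp := fun α => by
    apply hom_ext
    · rw [lift_cR_sR, Category.assoc, Category.assoc, eR_sR, Category.comp_id]
    · rw [lift_cR_xR, Category.assoc, Category.assoc, Category.assoc, iR_xR, eR_xR]

@[simp] theorem grpd_U : (grpd p D).U = D.obj.left := rfl
@[simp] theorem grpd_R : (grpd p D).R = Rs p D := rfl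
theorem grpd_s : (grpd p D).s = sR p D := rfl
theorem grpd_t : (grpd p D).t = tR p D := rfl
theorem grpd_pU : (grpd p D).pU = D.obj.hom ≫ p := rfl

theorem jMono_grpd : JMono (grpd p D) := by
  intro T α β ht hs
  change α ≫ tR p D = β ≫ tR p D at ht
  change α ≫ sR p D = β ≫ sR p D at hs
  apply hom_ext p D hs
  have := ht =≫ D.obj.hom
  simpa only [Category.assoc, tR_hom] using this

instance [IsFinite p] : IsFinite (grpd p D).s :=
  inferInstanceAs (IsFinite (pullback.fst (D.obj.hom ≫ p) p))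

instance [Flat p] : Flat (grpd p D).s :=
  inferInstanceAs (Flat (pullback.fst (D.obj.hom ≫ p) p))

instance [LocallyOfFinitePresentation p] : LocallyOfFinitePresentation (grpd p D).s :=
  inferInstanceAs (LocallyOfFinitePresentation (pullback.fst (D.obj.hom ≫ p) p))

end Groth.Agent.Lib.Helper4.DescGrpd
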