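import Mathlib
import Groth.Prelude.Def_Desc
import Groth.Agent.Lib.Helper4.DescGrpd

/-!
# The projection from the member of an effective descent datum to the descended scheme (helper4)

For `θ : (toDD p).obj W ≅ D`, `pi : D.obj.left ⟶ W.left` is the composite of `θ⁻¹` with the second
projection of `X ×_Y W`.  It is a base change of `p`, it is invariant under the gluing bijections,
and two points with the same image are related by a gluing bijection.
-/

set_option backward.isDefEq.respectTransparency false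
set_option autoImplicit false
set_option linter.style.haveILetI false
set_option linter.unusedSectionVars false

universe u
open CategoryTheory CategoryTheory.Limits AlgebraicGeometry

namespace Groth.Agent.Lib.Helper4.DescPi

open Groth.Agent.Lib.Helper4.DescGrpd

variable {X Y : Scheme.{u}} (p : X ⟶ Y) {D : Desc.SchDD p} {W : Over Y}
  (θ : (Desc.toDD p).obj W ≅ D)

/-- the underlying isomorphism `X ×_Y W ≅ V` -/
noncomputable def θl : pullback p W.hom ⟶ D.obj.left := θ.hom.hom.left

instance : IsIso (θl p θ) := by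
  refine ⟨θ.inv.hom.left, ?_, ?_⟩
  · show θ.hom.hom.left ≫ θ.inv.hom.left = _
    rw [← Over.comp_left, ← Desc.SchDD.comp_hom, θ.hom_inv_id]; rfl
  · show θ.inv.hom.left ≫ θ.hom.hom.left = _
    rw [← Over.comp_left, ← Desc.SchDD.comp_hom, θ.inv_hom_id]; rfl

@[reassoc]
theorem θl_hom : θl p θ ≫ D.obj.hom = pullback.fst p W.hom := Over.w θ.hom.hom

/-- the projection to the descended scheme -/
noncomputable def pi : D.obj.left ⟶ W.left := inv (θl p θ) ≫ pullback.snd p W.hom

@[reassoc]
theorem θl_pi : θl p θ ≫ pi p θ = pullback.snd p W.hom := by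
  unfold pi
  rw [IsIso.hom_inv_id_assoc]

@[reassoc]
theorem inv_θl_fst : inv (θl p θ) ≫ pullback.fst p W.hom = D.obj.hom := by
  rw [IsIso.inv_comp_eq, θl_hom]

@[reassoc]
theorem pi_hom : pi p θ ≫ W.hom = D.obj.hom ≫ p := by
  unfold pi
  rw [Category.assoc, ← pullback.condition, inv_θl_fst_assoc]

theorem isPullback_pi : IsPullback (pi p θ) D.obj.hom W.hom p := by
  have h : IsPullback (pullback.snd p W.hom) (pullback.fst p W.hom) W.hom p :=
    (IsPullback.of_hasPullback p W.hom).flip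
  refine IsPullback.of_iso h (asIso (θl p θ)) (Iso.refl _) (Iso.refl _) (Iso.refl _) ?_ ?_ ?_ ?_
  · simp only [asIso_hom, Iso.refl_hom, Category.comp_id]
    exact (θl_pi p θ).symm
  · simp only [asIso_hom, Iso.refl_hom, Category.comp_id]
    exact (θl_hom p θ).symm
  · simp
  · simp

variable {T : Scheme.{u}}

theorem eq_lift (d : T ⟶ D.obj.left) :
    d ≫ inv (θl p θ) = pullback.lift (d ≫ D.obj.hom) (d ≫ pi p θ)
      (by rw [Category.assoc, Category.assoc, pi_hom]) := by
  apply pullback.hom_ext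
  · rw [Category.assoc, inv_θl_fst, pullback.lift_fst]
  · rw [Category.assoc, pullback.lift_snd]; rfl

theorem ph_eq (x₀ x₁ : T ⟶ X) (h : x₀ ≫ p = x₁ ≫ p) (dd : T ⟶ D.obj.left)
    (hd : dd ≫ D.obj.hom = x₀) :
    ph p D x₀ x₁ h dd hd = pullback.lift x₁ (dd ≫ pi p θ)
      (by rw [← h, ← hd, Category.assoc, Category.assoc, pi_hom]) ≫ θl p θ := by
  have hv : (dd ≫ inv (θl p θ)) ≫ ((Desc.toDD p).obj W).obj.hom = x₀ := by
    show (dd ≫ inv (θl p θ)) ≫ pullback.fst p W.hom = x₀
    rw [Category.assoc, inv_θl_fst, hd]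
  have := θ.hom.comm x₀ x₁ h ⟨dd ≫ inv (θl p θ), hv⟩ ⟨dd, hd⟩ (by
    show dd = (dd ≫ inv (θl p θ)) ≫ θl p θ
    rw [Category.assoc, IsIso.inv_hom_id, Category.comp_id])
  refine this.trans ?_
  show _ ≫ θl p θ = _
  congr 1

/-- `pi` is invariant under the gluing bijections. -/
theorem ph_pi (x₀ x₁ : T ⟶ X) (h : x₀ ≫ p = x₁ ≫ p) (dd : T ⟶ D.obj.left)
    (hd : dd ≫ D.obj.hom = x₀) : ph p D x₀ x₁ h dd hd ≫ pi p θ = dd ≫ pi p θ := by
  rw [ph_eq p θ, Category.assoc, θl_pi, pullback.lift_snd]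

theorem cond_of_pi_eq {d₀ d₁ : T ⟶ D.obj.left} (h : d₀ ≫ pi p θ = d₁ ≫ pi p θ) :
    (d₀ ≫ D.obj.hom) ≫ p = (d₁ ≫ D.obj.hom) ≫ p := by
  rw [Category.assoc, Category.assoc, ← pi_hom p θ, reassoc_of% h]

/-- Two points with the same image under `pi` are related by a gluing bijection. -/
theorem eq_ph_of_pi_eq {d₀ d₁ : T ⟶ D.obj.left} (h : d₀ ≫ pi p θ = d₁ ≫ pi p θ) :
    d₁ = ph p D (d₀ ≫ D.obj.hom) (d₁ ≫ D.obj.hom) (cond_of_pi_eq p θ h) d₀ rfl := by
  rw [ph_eq p θ]
  have h1 : d₁ = (d₁ ≫ inv (θl p θ)) ≫ θl p θ := by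
    rw [Category.assoc, IsIso.inv_hom_id, Category.comp_id]
  conv_lhs => rw [h1]
  congr 1
  rw [eq_lift p θ]
  apply pullback.hom_ext
  · rw [pullback.lift_fst, pullback.lift_fst]
  · rw [pullback.lift_snd, pullback.lift_snd, h]

instance [Flat p] : Flat (pi p θ) := by unfold pi; infer_instance
instance [Surjective p] : Surjective (pi p θ) := by unfold pi; infer_instance
instance [IsFinite p] : IsFinite (pi p θ) := by unfold pi; infer_instance
instance [LocallyOfFinitePresentation p] : LocallyOfFinitePresentation (pi p θ) := by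
  unfold pi; infer_instance
instance [QuasiCompact p] : QuasiCompact (pi p θ) := by unfold pi; infer_instance

end Groth.Agent.Lib.Helper4.DescPi
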