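import Mathlib
import Groth.Prelude.Def_Grpd
import Groth.Agent.Lib.Helper4.GrpdTc

/-!
# Typed arrows, arrows of a sub-groupoid with `P = U ×_Ū U`, and conjugation (helper4)
-/

set_option backward.isDefEq.respectTransparency false
set_option autoImplicit false
set_option linter.style.haveILetI false
set_option linter.unusedSectionVars false

universe u
open CategoryTheory CategoryTheory.Limits AlgebraicGeometry

namespace Groth.Agent.Lib.Helper4.SubGrpd2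

open Groth.Agent.Lib.Helper4.GrpdTc

variable {S : Scheme.{u}} (G : Grpd.GroupoidScheme S) {T : Scheme.{u}}

/-- `r` is an arrow from `b` to `a`. -/
structure IsArr (r : T ⟶ G.R) (a b : T ⟶ G.U) : Prop where
  t : r ≫ G.t = a
  s : r ≫ G.s = b

variable {G}

theorem isArr_self (r : T ⟶ G.R) : IsArr G r (r ≫ G.t) (r ≫ G.s) := ⟨rfl, rfl⟩

theorem IsArr.tc {α β : T ⟶ G.R} {a b c : T ⟶ G.U} (hα : IsArr G α a b) (hβ : IsArr G β b c) :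
    IsArr G (tc G α β) a c :=
  ⟨(tc_t G α β (hα.s.trans hβ.t.symm)).trans hα.t, (tc_s G α β (hα.s.trans hβ.t.symm)).trans hβ.s⟩

theorem isArr_e (a : T ⟶ G.U) : IsArr G (a ≫ G.e) a a :=
  ⟨by rw [Category.assoc, G.e_t, Category.comp_id], by rw [Category.assoc, G.e_s, Category.comp_id]⟩

theorem IsArr.i {α : T ⟶ G.R} {a b : T ⟶ G.U} (hα : IsArr G α a b) : IsArr G (α ≫ G.i) b a :=
  ⟨by rw [Category.assoc, G.i_t, hα.s], by rw [Category.assoc, G.i_s, hα.t]⟩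

theorem IsArr.pre {α : T ⟶ G.R} {a b : T ⟶ G.U} (hα : IsArr G α a b) {T' : Scheme.{u}}
    (g : T' ⟶ T) : IsArr G (g ≫ α) (g ≫ a) (g ≫ b) :=
  ⟨by rw [Category.assoc, hα.t], by rw [Category.assoc, hα.s]⟩

theorem tc_assoc' {α β γ : T ⟶ G.R} {a b c d : T ⟶ G.U} (hα : IsArr G α a b)
    (hβ : IsArr G β b c) (hγ : IsArr G γ c d) : tc G (tc G α β) γ = tc G α (tc G β γ) :=
  tc_assoc G α β γ (hα.s.trans hβ.t.symm) (hβ.s.trans hγ.t.symm)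

theorem tc_e' {α : T ⟶ G.R} {a b : T ⟶ G.U} (hα : IsArr G α a b) : tc G α (b ≫ G.e) = α :=
  tc_e G α b hα.s

theorem e_tc' {α : T ⟶ G.R} {a b : T ⟶ G.U} (hα : IsArr G α a b) : tc G (a ≫ G.e) α = α :=
  e_tc G α a hα.t

theorem tc_i' {α : T ⟶ G.R} {a b : T ⟶ G.U} (hα : IsArr G α a b) :
    tc G α (α ≫ G.i) = a ≫ G.e := by
  rw [tc_i, ← Category.assoc, hα.t]

theorem i_tc' {α : T ⟶ G.R} {a b : T ⟶ G.U} (hα : IsArr G α a b) :
    tc G (α ≫ G.i) α = b ≫ G.e := by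
  rw [i_tc, ← Category.assoc, hα.s]

theorem tc_inv' {α β : T ⟶ G.R} {a b c : T ⟶ G.U} (hα : IsArr G α a b) (hβ : IsArr G β b c) :
    tc G α β ≫ G.i = tc G (β ≫ G.i) (α ≫ G.i) :=
  tc_inv G α β (hα.s.trans hβ.t.symm)

theorem pre_tc' {α β : T ⟶ G.R} {a b c : T ⟶ G.U} (hα : IsArr G α a b) (hβ : IsArr G β b c)
    {T' : Scheme.{u}} (g : T' ⟶ T) : g ≫ tc G α β = tc G (g ≫ α) (g ≫ β) :=
  pre_tc G g α β (hα.s.trans hβ.t.symm)

/-! ### The quotient data -/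

variable (G)

/-- A sub-groupoid `P ⊆ R` together with a morphism `q : U ⟶ Ū` with `P = U ×_Ū U`. -/
structure QData {P : Scheme.{u}} (ιP : P ⟶ G.R) where
  eP : G.U ⟶ P
  heP : eP ≫ ιP = G.e
  iP : P ⟶ P
  hiP : iP ≫ ιP = ιP ≫ G.i
  cP : pullback (ιP ≫ G.s) (ιP ≫ G.t) ⟶ P
  hcP : cP ≫ ιP = pullback.map (ιP ≫ G.s) (ιP ≫ G.t) G.s G.t ιP ιP (𝟙 G.U)
    (Category.comp_id _) (Category.comp_id _) ≫ G.c
  Ub : Scheme.{u}
  q : G.U ⟶ Ub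
  pUb : Ub ⟶ S
  q_over : q ≫ pUb = G.pU
  hpb : IsPullback (ιP ≫ G.t) (ιP ≫ G.s) q q

variable {G} {P : Scheme.{u}} {ιP : P ⟶ G.R} (d : QData G ιP)

/-- `r` factors through `P`. -/
def InP (_ : QData G ιP) (r : T ⟶ G.R) : Prop := ∃ ρ : T ⟶ P, ρ ≫ ιP = r

theorem inP_tc {α β : T ⟶ G.R} {a b c : T ⟶ G.U} (hα : IsArr G α a b) (hβ : IsArr G β b c)
    (pα : InP d α) (pβ : InP d β) : InP d (tc G α β) := by
  obtain ⟨ρα, rfl⟩ := pα
  obtain ⟨ρβ, rfl⟩ := pβ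
  have h : ρα ≫ ιP ≫ G.s = ρβ ≫ ιP ≫ G.t := by
    simpa only [Category.assoc] using hα.s.trans hβ.t.symm
  have h' : (ρα ≫ ιP) ≫ G.s = (ρβ ≫ ιP) ≫ G.t := hα.s.trans hβ.t.symm
  refine ⟨pullback.lift ρα ρβ h ≫ d.cP, ?_⟩
  rw [tc_eq' G _ _ h', Category.assoc, d.hcP, ← Category.assoc]
  congr 1
  apply pullback.hom_ext
  · rw [Category.assoc, pullback.lift_fst]
    erw [pullback.lift_fst]
    rw [pullback.lift_fst_assoc]
  · rw [Category.assoc, pullback.lift_snd]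
    erw [pullback.lift_snd]
    rw [pullback.lift_snd_assoc]

theorem inP_e (a : T ⟶ G.U) : InP d (a ≫ G.e) := ⟨a ≫ d.eP, by rw [Category.assoc, d.heP]⟩

theorem inP_i {α : T ⟶ G.R} (pα : InP d α) : InP d (α ≫ G.i) := by
  obtain ⟨ρ, rfl⟩ := pα
  exact ⟨ρ ≫ d.iP, by rw [Category.assoc, d.hiP, Category.assoc]⟩

theorem inP_pre {α : T ⟶ G.R} (pα : InP d α) {T' : Scheme.{u}} (g : T' ⟶ T) : InP d (g ≫ α) := by
  obtain ⟨ρ, rfl⟩ := pα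
  exact ⟨g ≫ ρ, by rw [Category.assoc]⟩

open Classical in
/-- the arrow of `P` from `a'` to `a` (when `q a = q a'`) -/
noncomputable def ar (a a' : T ⟶ G.U) : T ⟶ G.R :=
  if h : a ≫ d.q = a' ≫ d.q then d.hpb.lift a a' h ≫ ιP else a ≫ G.e

theorem ar_eq (a a' : T ⟶ G.U) (h : a ≫ d.q = a' ≫ d.q) :
    ar d a a' = d.hpb.lift a a' h ≫ ιP := by
  unfold ar
  rw [dif_pos h]

theorem isArr_ar {a a' : T ⟶ G.U} (h : a ≫ d.q = a' ≫ d.q) : IsArr G (ar d a a') a a' := by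
  rw [ar_eq d a a' h]
  exact ⟨by rw [Category.assoc, d.hpb.lift_fst], by rw [Category.assoc, d.hpb.lift_snd]⟩

theorem inP_ar (a a' : T ⟶ G.U) : InP d (ar d a a') := by
  unfold ar
  split_ifs with h
  · exact ⟨_, rfl⟩
  · exact inP_e d a

theorem q_eq_of_inP {r : T ⟶ G.R} {a b : T ⟶ G.U} (hr : IsArr G r a b) (pr : InP d r) :
    a ≫ d.q = b ≫ d.q := by
  obtain ⟨ρ, rfl⟩ := pr
  have := d.hpb.w
  simp only [Category.assoc] at this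
  rw [← hr.t, ← hr.s, Category.assoc, Category.assoc, Category.assoc, Category.assoc, this]

theorem ar_unique {r : T ⟶ G.R} {a b : T ⟶ G.U} (hr : IsArr G r a b) (pr : InP d r) :
    r = ar d a b := by
  have h := q_eq_of_inP d hr pr
  obtain ⟨ρ, rfl⟩ := pr
  rw [ar_eq d a b h]
  congr 1
  apply d.hpb.hom_ext
  · rw [d.hpb.lift_fst, ← hr.t, Category.assoc]
  · rw [d.hpb.lift_snd, ← hr.s, Category.assoc]

theorem ar_self (a : T ⟶ G.U) : ar d a a = a ≫ G.e :=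
  (ar_unique d (isArr_e a) (inP_e d a)).symm

theorem ar_tc {a a' a'' : T ⟶ G.U} (h : a ≫ d.q = a' ≫ d.q) (h' : a' ≫ d.q = a'' ≫ d.q) :
    tc G (ar d a a') (ar d a' a'') = ar d a a'' :=
  ar_unique d ((isArr_ar d h).tc (isArr_ar d h'))
    (inP_tc d (isArr_ar d h) (isArr_ar d h') (inP_ar d _ _) (inP_ar d _ _))

theorem ar_i {a a' : T ⟶ G.U} (h : a ≫ d.q = a' ≫ d.q) : ar d a a' ≫ G.i = ar d a' a :=
  ar_unique d (isArr_ar d h).i (inP_i d (inP_ar d _ _))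

theorem pre_ar {a a' : T ⟶ G.U} (h : a ≫ d.q = a' ≫ d.q) {T' : Scheme.{u}} (g : T' ⟶ T) :
    g ≫ ar d a a' = ar d (g ≫ a) (g ≫ a') :=
  ar_unique d ((isArr_ar d h).pre g) (inP_pre d (inP_ar d _ _) g)

/-! ### Conjugation -/

/-- `p ∘ r ∘ p'` with `p : t r → a`, `p' : b → s r` the arrows of `P` -/
noncomputable def conj (a b : T ⟶ G.U) (r : T ⟶ G.R) : T ⟶ G.R :=
  tc G (ar d a (r ≫ G.t)) (tc G r (ar d (r ≫ G.s) b))

section conj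

variable {a b a₀ b₀ : T ⟶ G.U} {r : T ⟶ G.R}

theorem conj_eq (hr : IsArr G r a₀ b₀) (a b : T ⟶ G.U) :
    conj d a b r = tc G (ar d a a₀) (tc G r (ar d b₀ b)) := by
  unfold conj
  rw [hr.t, hr.s]

theorem isArr_conj (hr : IsArr G r a₀ b₀) (ha : a ≫ d.q = a₀ ≫ d.q) (hb : b₀ ≫ d.q = b ≫ d.q) :
    IsArr G (conj d a b r) a b := by
  rw [conj_eq d hr]
  exact (isArr_ar d ha).tc (hr.tc (isArr_ar d hb))

theorem conj_self (hr : IsArr G r a₀ b₀) : conj d a₀ b₀ r = r := by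
  rw [conj_eq d hr, ar_self, ar_self, tc_e' hr, e_tc' hr]

theorem conj_conj (hr : IsArr G r a₀ b₀) (ha : a ≫ d.q = a₀ ≫ d.q) (hb : b₀ ≫ d.q = b ≫ d.q)
    {a' b' : T ⟶ G.U} (ha' : a' ≫ d.q = a ≫ d.q) (hb' : b ≫ d.q = b' ≫ d.q) :
    conj d a' b' (conj d a b r) = conj d a' b' r := by
  rw [conj_eq d (isArr_conj d hr ha hb), conj_eq d hr, conj_eq d hr]
  have hA := isArr_ar d ha
  have hB := isArr_ar d hb
  have hA' := isArr_ar d ha'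
  have hB' := isArr_ar d hb'
  rw [tc_assoc' hA (hr.tc hB) hB', tc_assoc' hr hB hB', ar_tc d hb hb',
    ← tc_assoc' hA' hA (hr.tc (isArr_ar d (hb.trans hb'))), ar_tc d ha' ha]

theorem conj_i (hr : IsArr G r a₀ b₀) (ha : a ≫ d.q = a₀ ≫ d.q) (hb : b₀ ≫ d.q = b ≫ d.q) :
    conj d a b r ≫ G.i = conj d b a (r ≫ G.i) := by
  rw [conj_eq d hr, conj_eq d hr.i]
  have hA := isArr_ar d ha
  have hB := isArr_ar d hb
  rw [tc_inv' hA (hr.tc hB), tc_inv' hr hB, ar_i d ha, ar_i d hb,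
    tc_assoc' (isArr_ar d hb.symm) hr.i (isArr_ar d ha.symm)]

theorem conj_e {a u : T ⟶ G.U} (h : a ≫ d.q = u ≫ d.q) : conj d a a (u ≫ G.e) = a ≫ G.e := by
  rw [conj_eq d (isArr_e u), e_tc' (isArr_ar d h.symm), ar_tc d h h.symm, ar_self]

theorem pre_conj (hr : IsArr G r a₀ b₀) (ha : a ≫ d.q = a₀ ≫ d.q) (hb : b₀ ≫ d.q = b ≫ d.q)
    {T' : Scheme.{u}} (g : T' ⟶ T) :
    g ≫ conj d a b r = conj d (g ≫ a) (g ≫ b) (g ≫ r) := by
  rw [conj_eq d hr, conj_eq d (hr.pre g), pre_tc' (isArr_ar d ha) (hr.tc (isArr_ar d hb)),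
    pre_tc' hr (isArr_ar d hb), pre_ar d ha, pre_ar d hb]

end conj

/-! ### Composition modulo `P` -/

/-- `r ∘ p ∘ r'` with `p : t r' → s r` the arrow of `P` -/
noncomputable def mtc (r r' : T ⟶ G.R) : T ⟶ G.R :=
  tc G r (tc G (ar d (r ≫ G.s) (r' ≫ G.t)) r')

section mtc

variable {a b c a₀ b₀ c₀ e₀ : T ⟶ G.U} {r r' : T ⟶ G.R}

theorem mtc_eq (hr : IsArr G r a₀ b₀) (hr' : IsArr G r' c₀ e₀) :
    mtc d r r' = tc G r (tc G (ar d b₀ c₀) r') := by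
  unfold mtc
  rw [hr.s, hr'.t]

theorem isArr_mtc (hr : IsArr G r a₀ b₀) (hr' : IsArr G r' c₀ e₀) (hm : b₀ ≫ d.q = c₀ ≫ d.q) :
    IsArr G (mtc d r r') a₀ e₀ := by
  rw [mtc_eq d hr hr']
  exact hr.tc ((isArr_ar d hm).tc hr')

theorem mtc_of_composable (hr : IsArr G r a₀ b₀) (hr' : IsArr G r' b₀ e₀) :
    mtc d r r' = tc G r r' := by
  rw [mtc_eq d hr hr', ar_self, e_tc' hr']

theorem mtc_conj (hr : IsArr G r a₀ b₀) (hr' : IsArr G r' c₀ e₀) (hm : b₀ ≫ d.q = c₀ ≫ d.q)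
    {a b c e : T ⟶ G.U} (ha : a ≫ d.q = a₀ ≫ d.q) (hb : b₀ ≫ d.q = b ≫ d.q)
    (hc : c ≫ d.q = c₀ ≫ d.q) (he : e₀ ≫ d.q = e ≫ d.q) :
    mtc d (conj d a b r) (conj d c e r') = conj d a e (mtc d r r') := by
  have hbc : b ≫ d.q = c ≫ d.q := hb.symm.trans (hm.trans hc.symm)
  rw [mtc_eq d (isArr_conj d hr ha hb) (isArr_conj d hr' hc he),
    conj_eq d (isArr_mtc d hr hr' hm), mtc_eq d hr hr', conj_eq d hr, conj_eq d hr']
  have hA := isArr_ar d ha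
  have hB := isArr_ar d hb
  have hC := isArr_ar d hc
  have hE := isArr_ar d he
  have hM := isArr_ar d hbc
  have hN := isArr_ar d hm
  -- LHS
  rw [tc_assoc' hA (hr.tc hB) (hM.tc (hC.tc (hr'.tc hE))),
    tc_assoc' hr hB (hM.tc (hC.tc (hr'.tc hE))),
    ← tc_assoc' hB hM (hC.tc (hr'.tc hE)), ar_tc d hb hbc,
    ← tc_assoc' (isArr_ar d (hb.trans hbc)) hC (hr'.tc hE), ar_tc d (hb.trans hbc) hc]
  -- RHS
  rw [tc_assoc' hr (hN.tc hr') hE, tc_assoc' hN hr' hE]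

theorem pre_mtc (hr : IsArr G r a₀ b₀) (hr' : IsArr G r' c₀ e₀) (hm : b₀ ≫ d.q = c₀ ≫ d.q)
    {T' : Scheme.{u}} (g : T' ⟶ T) : g ≫ mtc d r r' = mtc d (g ≫ r) (g ≫ r') := by
  rw [mtc_eq d hr hr', mtc_eq d (hr.pre g) (hr'.pre g), pre_tc' hr ((isArr_ar d hm).tc hr'),
    pre_tc' (isArr_ar d hm) hr', pre_ar d hm]

end mtc

end Groth.Agent.Lib.Helper4.SubGrpd2
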