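import Mathlib
import Groth.Prelude.Def_Grpd
import Groth.Prelude.Def_Desc
import Groth.Agent.Lib.Helper4.SubGrpd2

/-!
# The descent datum on `R` relative to `U ×_S U ⟶ Ū ×_S Ū` (helper4)
-/

set_option backward.isDefEq.respectTransparency false
set_option autoImplicit false
set_option linter.style.haveILetI false
set_option linter.unusedSectionVars false

universe u
open CategoryTheory CategoryTheory.Limits AlgebraicGeometry

namespace Groth.Agent.Lib.Helper4.SubGrpd3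

open Groth.Agent.Lib.Helper4.GrpdTc Groth.Agent.Lib.Helper4.SubGrpd2

variable {S : Scheme.{u}} {G : Grpd.GroupoidScheme S} {P : Scheme.{u}} {ιP : P ⟶ G.R}
  (d : QData G ιP)

/-- `q × q : U ×_S U ⟶ Ū ×_S Ū` -/
noncomputable def qq : pullback G.pU G.pU ⟶ pullback d.pUb d.pUb :=
  pullback.map G.pU G.pU d.pUb d.pUb d.q d.q (𝟙 S)
    ((Category.comp_id _).trans d.q_over.symm) ((Category.comp_id _).trans d.q_over.symm)

@[reassoc]
theorem qq_fst : qq d ≫ pullback.fst d.pUb d.pUb = pullback.fst G.pU G.pU ≫ d.q :=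
  pullback.lift_fst _ _ _

@[reassoc]
theorem qq_snd : qq d ≫ pullback.snd d.pUb d.pUb = pullback.snd G.pU G.pU ≫ d.q :=
  pullback.lift_snd _ _ _

variable {T : Scheme.{u}}

theorem isArr_of_j {v : T ⟶ G.R} {x : T ⟶ pullback G.pU G.pU} (hv : v ≫ G.j = x) :
    IsArr G v (x ≫ pullback.fst _ _) (x ≫ pullback.snd _ _) := by
  subst hv
  exact ⟨by rw [Category.assoc, Grpd.GroupoidScheme.j, pullback.lift_fst],
    by rw [Category.assoc, Grpd.GroupoidScheme.j, pullback.lift_snd]⟩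

theorem j_of_isArr {v : T ⟶ G.R} {x : T ⟶ pullback G.pU G.pU}
    (hv : IsArr G v (x ≫ pullback.fst _ _) (x ≫ pullback.snd _ _)) : v ≫ G.j = x := by
  apply pullback.hom_ext
  · rw [Category.assoc, Grpd.GroupoidScheme.j, pullback.lift_fst, hv.t]
  · rw [Category.assoc, Grpd.GroupoidScheme.j, pullback.lift_snd, hv.s]

theorem fst_q_of_qq {x₀ x₁ : T ⟶ pullback G.pU G.pU} (h : x₀ ≫ qq d = x₁ ≫ qq d) :
    (x₀ ≫ pullback.fst _ _) ≫ d.q = (x₁ ≫ pullback.fst _ _) ≫ d.q := by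
  have := congr($h ≫ pullback.fst _ _)
  simpa only [Category.assoc, qq_fst] using this

theorem snd_q_of_qq {x₀ x₁ : T ⟶ pullback G.pU G.pU} (h : x₀ ≫ qq d = x₁ ≫ qq d) :
    (x₀ ≫ pullback.snd _ _) ≫ d.q = (x₁ ≫ pullback.snd _ _) ≫ d.q := by
  have := congr($h ≫ pullback.snd _ _)
  simpa only [Category.assoc, qq_snd] using this

theorem qq_of_q {x₀ x₁ : T ⟶ pullback G.pU G.pU}
    (h1 : (x₀ ≫ pullback.fst _ _) ≫ d.q = (x₁ ≫ pullback.fst _ _) ≫ d.q)
    (h2 : (x₀ ≫ pullback.snd _ _) ≫ d.q = (x₁ ≫ pullback.snd _ _) ≫ d.q) :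
    x₀ ≫ qq d = x₁ ≫ qq d := by
  apply pullback.hom_ext
  · simpa only [Category.assoc, qq_fst] using h1
  · simpa only [Category.assoc, qq_snd] using h2

/-- the gluing map -/
noncomputable def glue (x₀ x₁ : T ⟶ pullback G.pU G.pU) (h : x₀ ≫ qq d = x₁ ≫ qq d)
    (v : Desc.Lifts (Over.mk G.j) x₀) : Desc.Lifts (Over.mk G.j) x₁ :=
  ⟨conj d (x₁ ≫ pullback.fst _ _) (x₁ ≫ pullback.snd _ _) v.1,
    j_of_isArr (isArr_conj d (isArr_of_j v.2) (fst_q_of_qq d h).symm (snd_q_of_qq d h))⟩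

theorem glue_glue (x₀ x₁ x₂ : T ⟶ pullback G.pU G.pU) (h : x₀ ≫ qq d = x₁ ≫ qq d)
    (h' : x₁ ≫ qq d = x₂ ≫ qq d) (v : Desc.Lifts (Over.mk G.j) x₀) :
    glue d x₁ x₂ h' (glue d x₀ x₁ h v) = glue d x₀ x₂ (h.trans h') v :=
  Subtype.ext (conj_conj d (isArr_of_j v.2) (fst_q_of_qq d h).symm (snd_q_of_qq d h)
    (fst_q_of_qq d h').symm (snd_q_of_qq d h'))

theorem glue_self (x : T ⟶ pullback G.pU G.pU) (v : Desc.Lifts (Over.mk G.j) x) :
    glue d x x rfl v = v :=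
  Subtype.ext (conj_self d (isArr_of_j v.2))

/-- The descent datum on `R`. -/
noncomputable def DD : Desc.SchDD (qq d) where
  obj := Over.mk G.j
  φ T x₀ x₁ h :=
    { toFun := glue d x₀ x₁ h
      invFun := glue d x₁ x₀ h.symm
      left_inv := fun v => by rw [glue_glue, glue_self]
      right_inv := fun v => by rw [glue_glue, glue_self] }
  φ_natural T T' g x₀ x₁ h h' v v' hv' := by
    show conj d _ _ v'.1 = g ≫ conj d _ _ v.1
    rw [pre_conj d (isArr_of_j v.2) (fst_q_of_qq d h).symm (snd_q_of_qq d h) g, hv']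
    simp only [Category.assoc]
  φ_self T x v := glue_self d x v
  φ_comp T x₀ x₁ x₂ h₀₁ h₁₂ v := glue_glue d x₀ x₁ x₂ h₀₁ h₁₂ v

theorem DD_obj : (DD d).obj = Over.mk G.j := rfl

theorem DD_φ (x₀ x₁ : T ⟶ pullback G.pU G.pU) (h : x₀ ≫ qq d = x₁ ≫ qq d)
    (v : Desc.Lifts (Over.mk G.j) x₀) :
    ((DD d).φ x₀ x₁ h v).1 = conj d (x₁ ≫ pullback.fst _ _) (x₁ ≫ pullback.snd _ _) v.1 := rfl

end Groth.Agent.Lib.Helper4.SubGrpd3
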