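import Mathlib

/-!
# Flat base change for global sections, in `Algebra.IsPushout` form (helper4)

For a cartesian square `Y = X ×_S T` with `S`, `T` affine, `T ⟶ S` flat and `X` quasi-compact and quasi-separated,
`Γ(Y) = Γ(T) ⊗_{Γ(S)} Γ(X)`.
-/

set_option autoImplicit false
set_option linter.style.haveILetI false
set_option backward.isDefEq.respectTransparency false
universe u
open CategoryTheory CategoryTheory.Limits AlgebraicGeometry TensorProduct

namespace Groth.Agent.Lib.Helper4.FlatBCGamma

variable {S T X Y : Scheme.{u}} {f : T ⟶ S} {g : Y ⟶ X} {iX : X ⟶ S} {iY : Y ⟶ T}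

theorem appLE_top (h : X ⟶ S) (e : (⊤ : X.Opens) ≤ h ⁻¹ᵁ ⊤) : h.appLE ⊤ ⊤ e = h.appTop := by
  rw [Scheme.Hom.appTop, Scheme.Hom.app_eq_appLE]
  rfl

/-- Flat base change for global sections as a pushout square of rings. -/
theorem isPushout_appTop [IsAffine S] [IsAffine T] [Flat f] [CompactSpace X] [QuasiSeparatedSpace X]
    (H : IsPullback g iY iX f) : IsPushout f.appTop iX.appTop iY.appTop g.appTop := by
  have hUS : IsAffineOpen (⊤ : S.Opens) := isAffineOpen_top S
  have hUT : IsAffineOpen (⊤ : T.Opens) := isAffineOpen_top T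
  have hUX : IsCompact ((⊤ : X.Opens) : Set X) := isCompact_univ
  have hUX' : IsQuasiSeparated ((⊤ : X.Opens) : Set X) := isQuasiSeparated_univ
  have hiso := isIso_pushoutSection_of_isQuasiSeparated_of_flat_right H (US := ⊤) (UT := ⊤) (UX := ⊤)
    (UY := ⊤) le_top le_top (by simp) hUS hUT hUX hUX'
  have hpo := (isIso_pushoutSection_iff H (US := ⊤) (UT := ⊤) (UX := ⊤) (UY := ⊤) le_top le_top (by simp)).mp hiso
  rw [appLE_top, appLE_top, appLE_top, appLE_top] at hpo
  exact hpo.flip

end Groth.Agent.Lib.Helper4.FlatBCGamma
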