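import Mathlib
import Groth.Agent.Lib.Helper4.FlatBCGamma

/-!
# A small calculus for `Scheme.Hom.appLE` and flat base change for sections over opens (helper4)
-/

set_option autoImplicit false
set_option linter.style.haveILetI false
set_option backward.isDefEq.respectTransparency false
universe u
open CategoryTheory CategoryTheory.Limits AlgebraicGeometry TensorProduct

namespace Groth.Agent.Lib.Helper4.DescAppLE

theorem appLE_congr_hom {W Z : Scheme.{u}} {k k' : W ⟶ Z} (hk : k = k') (UZ : Z.Opens) (UW : W.Opens)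
    (h : UW ≤ k ⁻¹ᵁ UZ) (h' : UW ≤ k' ⁻¹ᵁ UZ) : k.appLE UZ UW h = k'.appLE UZ UW h' := by
  subst hk; rfl

/-- composites of `appLE` along a commutative square agree -/
theorem appLE_comm {W X Y Z : Scheme.{u}} {f : W ⟶ X} {g : X ⟶ Z} {f' : W ⟶ Y} {g' : Y ⟶ Z}
    (e : f ≫ g = f' ≫ g') (UZ : Z.Opens) (UX : X.Opens) (UY : Y.Opens) (UW : W.Opens)
    (h1 : UX ≤ g ⁻¹ᵁ UZ) (h2 : UW ≤ f ⁻¹ᵁ UX) (h1' : UY ≤ g' ⁻¹ᵁ UZ) (h2' : UW ≤ f' ⁻¹ᵁ UY) (x : Γ(Z, UZ)) :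
    (f.appLE UX UW h2).hom ((g.appLE UZ UX h1).hom x) = (f'.appLE UY UW h2').hom ((g'.appLE UZ UY h1').hom x) := by
  have a1 := congr($(Scheme.Hom.appLE_comp_appLE f g UZ UX UW h1 h2).hom x)
  have a2 := congr($(Scheme.Hom.appLE_comp_appLE f' g' UZ UY UW h1' h2').hom x)
  rw [CommRingCat.comp_apply] at a1 a2
  refine a1.trans (Eq.trans ?_ a2.symm)
  exact congr($(appLE_congr_hom e UZ UW _ _).hom x)

/-- a composite of `appLE`'s is the `appLE` of the composite -/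
theorem appLE_eq {W X Z : Scheme.{u}} {f : W ⟶ X} {g : X ⟶ Z} {k : W ⟶ Z}
    (e : f ≫ g = k) (UZ : Z.Opens) (UX : X.Opens) (UW : W.Opens)
    (h1 : UX ≤ g ⁻¹ᵁ UZ) (h2 : UW ≤ f ⁻¹ᵁ UX) (h3 : UW ≤ k ⁻¹ᵁ UZ) (x : Γ(Z, UZ)) :
    (f.appLE UX UW h2).hom ((g.appLE UZ UX h1).hom x) = (k.appLE UZ UW h3).hom x := by
  have a1 := congr($(Scheme.Hom.appLE_comp_appLE f g UZ UX UW h1 h2).hom x)
  rw [CommRingCat.comp_apply] at a1
  refine a1.trans ?_
  exact congr($(appLE_congr_hom e UZ UW _ _).hom x)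

theorem id_appLE {X : Scheme.{u}} (U U' : X.Opens) (h : U' ≤ (𝟙 X : X ⟶ X) ⁻¹ᵁ U) :
    Scheme.Hom.appLE (𝟙 X : X ⟶ X) U U' h = X.presheaf.map (homOfLE (show U' ≤ U from h)).op := by
  simp [Scheme.Hom.appLE]

theorem id_appLE_self {X : Scheme.{u}} (U : X.Opens) (h : U ≤ (𝟙 X : X ⟶ X) ⁻¹ᵁ U) (x : Γ(X, U)) :
    (Scheme.Hom.appLE (𝟙 X : X ⟶ X) U U h).hom x = x := by
  rw [id_appLE]
  simp

variable {S T X Y : Scheme.{u}} {f : T ⟶ S} {g : Y ⟶ X} {iX : X ⟶ S} {iY : Y ⟶ T}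

/-- Flat base change for sections over a quasi-compact quasi-separated open, as a pushout square of rings. -/
theorem isPushout_appLE [IsAffine S] [IsAffine T] [Flat f] (H : IsPullback g iY iX f) (UX : X.Opens)
    (hUX : IsCompact (UX : Set X)) (hUX' : IsQuasiSeparated (UX : Set X)) :
    IsPushout f.appTop (iX.appLE ⊤ UX le_top) (iY.appLE ⊤ (g ⁻¹ᵁ UX) le_top) (g.appLE UX (g ⁻¹ᵁ UX) le_rfl) := by
  have hUS : IsAffineOpen (⊤ : S.Opens) := isAffineOpen_top S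
  have hUT : IsAffineOpen (⊤ : T.Opens) := isAffineOpen_top T
  have hiso := isIso_pushoutSection_of_isQuasiSeparated_of_flat_right H (US := ⊤) (UT := ⊤) (UX := UX)
    (UY := g ⁻¹ᵁ UX) le_top le_top (by simp) hUS hUT hUX hUX'
  have hpo := (isIso_pushoutSection_iff H (US := ⊤) (UT := ⊤) (UX := UX) (UY := g ⁻¹ᵁ UX) le_top le_top
    (by simp)).mp hiso
  rw [FlatBCGamma.appLE_top] at hpo
  exact hpo.flip

theorem isQuasiSeparated_of_isQuasiAffine {X : Scheme.{u}} (U : X.Opens) [(U : Scheme.{u}).IsQuasiAffine] :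
    IsQuasiSeparated (U : Set X) := by
  exact (isQuasiSeparated_iff_quasiSeparatedSpace (U : Set X) U.2).mpr
    (inferInstance : QuasiSeparatedSpace (U : Scheme.{u}))

end Groth.Agent.Lib.Helper4.DescAppLE
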