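import Mathlib

/-!
# Flat descent of algebras in coaction form (helper4)

`A → A'` flat, `B` an `A'`-algebra with a "coaction" `ρ : B →ₐ[A] A' ⊗[A] B` which is `A'`-linear for the left factor,
counital and coassociative (this is what a descent datum on `Spec B → Spec A'` relative to `Spec A' → Spec A` amounts to).
Then for the subalgebra `C₀ = {b | ρ b = 1 ⊗ b}` the canonical map `A' ⊗[A] C₀ → B` is bijective.
-/

set_option autoImplicit false
universe u
open TensorProduct

namespace Groth.Agent.Lib.Helper4.DescRing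

variable {A A' B : Type u} [CommRing A] [CommRing A'] [CommRing B] [Algebra A A'] [Algebra A' B] [Algebra A B]
  [IsScalarTower A A' B]

/-- multiplication `A' ⊗ B → B` -/
noncomputable def mu : A' ⊗[A] B →ₐ[A] B :=
  Algebra.TensorProduct.lift (IsScalarTower.toAlgHom A A' B) (AlgHom.id A B) (fun _ _ => Commute.all _ _)

@[simp] theorem mu_tmul (a : A') (b : B) : mu (A := A) (a ⊗ₜ[A] b) = algebraMap A' B a * b := by
  simp [mu]

/-- the canonical map `A' ⊗ C₀ → B` -/
noncomputable def lam (C₀ : Subalgebra A B) : A' ⊗[A] C₀ →ₐ[A] B :=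
  Algebra.TensorProduct.lift (IsScalarTower.toAlgHom A A' B) C₀.val (fun _ _ => Commute.all _ _)

@[simp] theorem lam_tmul (C₀ : Subalgebra A B) (a : A') (c : C₀) :
    lam C₀ (a ⊗ₜ[A] c) = algebraMap A' B a * (c : B) := by
  simp [lam]

theorem bijective_lam [Module.Flat A A'] (ρ : B →ₐ[A] A' ⊗[A] B)
    (hlin : ∀ a : A', ρ (algebraMap A' B a) = a ⊗ₜ[A] (1 : B))
    (hcounit : ∀ b : B, mu (ρ b) = b)
    (hcoassoc : ∀ b : B, Algebra.TensorProduct.map (AlgHom.id A A') ρ (ρ b) =
      Algebra.TensorProduct.map (AlgHom.id A A') Algebra.TensorProduct.includeRight (ρ b))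
    (C₀ : Subalgebra A B) (hC₀ : ∀ b : B, b ∈ C₀ ↔ ρ b = (1 : A') ⊗ₜ[A] b) :
    Function.Bijective (lam (A' := A') C₀) := by
  -- linear forms
  let ι₀ : C₀ →ₗ[A] B := C₀.val.toLinearMap
  let K : B →ₗ[A] A' ⊗[A] B := ρ.toLinearMap - (Algebra.TensorProduct.includeRight : B →ₐ[A] A' ⊗[A] B).toLinearMap
  have hmap : ∀ (g : B →ₐ[A] A' ⊗[A] B) (x : A' ⊗[A] B),
      Algebra.TensorProduct.map (AlgHom.id A A') g x = LinearMap.lTensor A' g.toLinearMap x := by
    intro g x
    induction x using TensorProduct.induction_on with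
    | zero => simp
    | tmul a b => simp
    | add x y hx hy => rw [map_add, map_add, hx, hy]
  have hex : Function.Exact ι₀ K := by
    intro b
    constructor
    · intro hb
      have hb' : ρ b = (1 : A') ⊗ₜ[A] b := by
        have : ρ b - (1 : A') ⊗ₜ[A] b = 0 := by simpa [K] using hb
        exact sub_eq_zero.mp this
      exact ⟨⟨b, (hC₀ b).mpr hb'⟩, rfl⟩
    · rintro ⟨c, rfl⟩
      have := (hC₀ c).mp c.2
      simp [K, ι₀, this]
  have hexT : Function.Exact (LinearMap.lTensor A' ι₀) (LinearMap.lTensor A' K) :=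
    Module.Flat.lTensor_exact A' hex
  constructor
  · -- injectivity
    have hcomp : ∀ z : A' ⊗[A] C₀, ρ (lam C₀ z) = LinearMap.lTensor A' ι₀ z := by
      intro z
      induction z using TensorProduct.induction_on with
      | zero => simp
      | tmul a c =>
        rw [lam_tmul, map_mul, hlin, (hC₀ c).mp c.2]
        simp [ι₀]
      | add x y hx hy => rw [map_add, map_add, map_add, hx, hy]
    have hinj : Function.Injective (LinearMap.lTensor A' ι₀) :=
      Module.Flat.lTensor_preserves_injective_linearMap ι₀ Subtype.val_injective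
    intro z z' hz
    apply hinj
    rw [← hcomp, ← hcomp, hz]
  · -- surjectivity
    intro b
    have hy : LinearMap.lTensor A' K (ρ b) = 0 := by
      have := hcoassoc b
      rw [hmap, hmap] at this
      simp only [K, LinearMap.lTensor_sub, LinearMap.sub_apply]
      rw [this, sub_self]
    obtain ⟨z, hz⟩ := (hexT (ρ b)).mp hy
    refine ⟨z, ?_⟩
    have hlm : ∀ z : A' ⊗[A] C₀, lam C₀ z = mu (LinearMap.lTensor A' ι₀ z) := by
      intro z
      induction z using TensorProduct.induction_on with
      | zero => simp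
      | tmul a c => simp [ι₀]
      | add x y hx hy => rw [map_add, map_add, map_add, hx, hy]
    rw [hlm, hz, hcounit]

end Groth.Agent.Lib.Helper4.DescRing
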