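import Mathlib
import Groth.Agent.Lib.Helper4.DescRing

/-!
# Flat descent of algebras for a partial coaction on a tower of rings (helper4)

A tower of `A'`-algebras `B 0 → B 1 → ⋯` with "partial coactions" `ρ k : B k → A' ⊗ B (k+1)` (linear, counital and coassociative
up to the transition maps).  On the direct limit `Lim B f` these assemble to an honest coaction, so `Lim B f = A' ⊗ C` for the
subalgebra `C` of invariants (`bijective_lam`).
-/

set_option autoImplicit false
universe u
open TensorProduct

namespace Groth.Agent.Lib.Helper4.DescRingLim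

open Groth.Agent.Lib.Helper4.DescRing

variable {A A' : Type u} [CommRing A] [CommRing A'] [Algebra A A']
variable (B : ℕ → Type u) [∀ k, CommRing (B k)] [∀ k, Algebra A' (B k)] [∀ k, Algebra A (B k)]
  [∀ k, IsScalarTower A A' (B k)]
variable (f : ∀ i j, i ≤ j → B i →ₐ[A'] B j)

/-- the direct limit of the tower -/
def Lim : Type u := Ring.DirectLimit B (fun i j h => f i j h)

noncomputable instance : CommRing (Lim B f) := inferInstanceAs (CommRing (Ring.DirectLimit B _))

/-- the canonical maps to the limit -/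
noncomputable def of (k : ℕ) : B k →+* Lim B f := Ring.DirectLimit.of B (fun i j h => f i j h) k

theorem of_f {i j : ℕ} (h : i ≤ j) (x : B i) : of B f j (f i j h x) = of B f i x :=
  Ring.DirectLimit.of_f (G := B) (f := fun i j h => f i j h) h x

theorem exists_of (z : Lim B f) : ∃ (k : ℕ) (x : B k), of B f k x = z :=
  Ring.DirectLimit.exists_of (G := B) (f := fun i j h => f i j h) z

/-- maps out of the limit -/
noncomputable def lift {P : Type u} [CommRing P] (g : ∀ k, B k →+* P)
    (Hg : ∀ i j (hij : i ≤ j) x, g j (f i j hij x) = g i x) : Lim B f →+* P :=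
  Ring.DirectLimit.lift B (fun i j h => f i j h) P g Hg

@[simp] theorem lift_of {P : Type u} [CommRing P] (g : ∀ k, B k →+* P)
    (Hg : ∀ i j (hij : i ≤ j) x, g j (f i j hij x) = g i x) (k : ℕ) (x : B k) :
    lift B f g Hg (of B f k x) = g k x :=
  Ring.DirectLimit.lift_of P g Hg k x

noncomputable instance : Algebra A' (Lim B f) := ((of B f 0).comp (algebraMap A' (B 0))).toAlgebra

theorem of_algebraMap (k : ℕ) (a : A') : of B f k (algebraMap A' (B k) a) = algebraMap A' (Lim B f) a := by
  change _ = of B f 0 (algebraMap A' (B 0) a)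
  rw [← of_f B f (Nat.zero_le k), AlgHom.commutes]

noncomputable instance : Algebra A (Lim B f) := ((algebraMap A' (Lim B f)).comp (algebraMap A A')).toAlgebra

instance : IsScalarTower A A' (Lim B f) := IsScalarTower.of_algebraMap_eq (fun _ => rfl)

theorem of_algebraMap' (k : ℕ) (a : A) : of B f k (algebraMap A (B k) a) = algebraMap A (Lim B f) a := by
  rw [IsScalarTower.algebraMap_apply A A' (B k), of_algebraMap, ← IsScalarTower.algebraMap_apply]

/-- the canonical maps as `A`-algebra maps -/
noncomputable def ofA (k : ℕ) : B k →ₐ[A] Lim B f :=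
  { toRingHom := of B f k
    commutes' := fun a => of_algebraMap' B f k a }

@[simp] theorem ofA_apply (k : ℕ) (x : B k) : ofA (A := A) B f k x = of B f k x := rfl

section coaction

variable (hf₁ : ∀ i x, f i i le_rfl x = x)
  (hf₂ : ∀ i j k (hij : i ≤ j) (hjk : j ≤ k) x, f j k hjk (f i j hij x) = f i k (hij.trans hjk) x)
  (ρ : ∀ k, B k →ₐ[A] A' ⊗[A] B (k + 1))
  (hnat : ∀ k b, ρ (k + 1) (f k (k + 1) (Nat.le_succ k) b) =
    Algebra.TensorProduct.map (AlgHom.id A A') ((f (k + 1) (k + 2) (Nat.le_succ _)).restrictScalars A) (ρ k b))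

/-- the level maps to `A' ⊗ Lim` -/
noncomputable def gρ (k : ℕ) : B k →ₐ[A] A' ⊗[A] Lim B f :=
  (Algebra.TensorProduct.map (AlgHom.id A A') (ofA B f (k + 1))).comp (ρ k)

theorem map_of_f (k : ℕ) (x : A' ⊗[A] B (k + 1)) :
    Algebra.TensorProduct.map (AlgHom.id A A') (ofA B f (k + 2))
      (Algebra.TensorProduct.map (AlgHom.id A A') ((f (k + 1) (k + 2) (Nat.le_succ _)).restrictScalars A) x) =
      Algebra.TensorProduct.map (AlgHom.id A A') (ofA B f (k + 1)) x := by
  induction x using TensorProduct.induction_on with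
  | zero => simp
  | tmul a b =>
    simp only [Algebra.TensorProduct.map_tmul, AlgHom.id_apply, AlgHom.restrictScalars_apply, ofA_apply]
    rw [of_f]
  | add x y hx hy => simp only [map_add, hx, hy]

include hf₁ hf₂ hnat in
theorem gρ_compat : ∀ i j (hij : i ≤ j) (x : B i), gρ B f ρ j (f i j hij x) = gρ B f ρ i x := by
  intro i j hij
  induction j, hij using Nat.le_induction with
  | base => intro x; rw [hf₁]
  | succ j hij ih =>
    intro x
    rw [← hf₂ i j (j + 1) hij (Nat.le_succ j) x, ← ih x]
    generalize f i j hij x = y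
    change Algebra.TensorProduct.map (AlgHom.id A A') (ofA B f (j + 2)) (ρ (j + 1) _) =
      Algebra.TensorProduct.map (AlgHom.id A A') (ofA B f (j + 1)) (ρ j y)
    rw [hnat, map_of_f]

/-- the coaction on the limit, as a ring homomorphism -/
noncomputable def ρLim₀ : Lim B f →+* A' ⊗[A] Lim B f :=
  lift B f (fun k => (gρ B f ρ k).toRingHom) (gρ_compat B f hf₁ hf₂ ρ hnat)

theorem ρLim₀_of (k : ℕ) (x : B k) : ρLim₀ B f hf₁ hf₂ ρ hnat (of B f k x) =
    Algebra.TensorProduct.map (AlgHom.id A A') (ofA B f (k + 1)) (ρ k x) :=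
  lift_of B f _ _ k x

/-- the coaction on the limit -/
noncomputable def ρLim : Lim B f →ₐ[A] A' ⊗[A] Lim B f :=
  { toRingHom := ρLim₀ B f hf₁ hf₂ ρ hnat
    commutes' := fun a => by
      have h1 := ρLim₀_of B f hf₁ hf₂ ρ hnat 0 (algebraMap A (B 0) a)
      rw [of_algebraMap' B f 0 a] at h1
      refine h1.trans ?_
      rw [AlgHom.commutes, AlgHom.commutes] }

theorem ρLim_of (k : ℕ) (x : B k) : ρLim B f hf₁ hf₂ ρ hnat (of B f k x) =
    Algebra.TensorProduct.map (AlgHom.id A A') (ofA B f (k + 1)) (ρ k x) :=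
  ρLim₀_of B f hf₁ hf₂ ρ hnat k x

variable (hlin : ∀ k a, ρ k (algebraMap A' (B k) a) = a ⊗ₜ[A] (1 : B (k + 1)))
  (hcounit : ∀ k b, mu (A := A) (ρ k b) = f k (k + 1) (Nat.le_succ k) b)
  (hcoassoc : ∀ k b, Algebra.TensorProduct.map (AlgHom.id A A') (ρ (k + 1)) (ρ k b) =
    Algebra.TensorProduct.map (AlgHom.id A A')
      ((Algebra.TensorProduct.includeRight : B (k + 2) →ₐ[A] A' ⊗[A] B (k + 2)).comp
        ((f (k + 1) (k + 2) (Nat.le_succ _)).restrictScalars A)) (ρ k b))

theorem mu_map_of (k : ℕ) (x : A' ⊗[A] B k) :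
    mu (A := A) (Algebra.TensorProduct.map (AlgHom.id A A') (ofA B f k) x) = of B f k (mu (A := A) x) := by
  induction x using TensorProduct.induction_on with
  | zero => simp
  | tmul a b =>
    simp only [Algebra.TensorProduct.map_tmul, AlgHom.id_apply, ofA_apply, mu_tmul, map_mul, of_algebraMap]
  | add x y hx hy => simp only [map_add, hx, hy]

/-- the subalgebra of invariants of the limit -/
noncomputable def invariants : Subalgebra A (Lim B f) :=
  AlgHom.equalizer (ρLim B f hf₁ hf₂ ρ hnat) (Algebra.TensorProduct.includeRight : Lim B f →ₐ[A] A' ⊗[A] Lim B f)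

theorem mem_invariants (b : Lim B f) :
    b ∈ invariants B f hf₁ hf₂ ρ hnat ↔ ρLim B f hf₁ hf₂ ρ hnat b = (1 : A') ⊗ₜ[A] b := Iff.rfl

include hlin hcounit hcoassoc in
/-- **Descent for a partial coaction on a tower**: the limit of the tower is `A' ⊗ (invariants)`. -/
theorem bijective_lam [Module.Flat A A'] :
    Function.Bijective (lam (A' := A') (invariants B f hf₁ hf₂ ρ hnat)) := by
  refine DescRing.bijective_lam (ρLim B f hf₁ hf₂ ρ hnat) ?_ ?_ ?_ _ (mem_invariants B f hf₁ hf₂ ρ hnat)
  · intro a
    rw [← of_algebraMap B f 0 a, ρLim_of, hlin]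
    simp
  · intro b
    obtain ⟨k, x, rfl⟩ := exists_of B f b
    rw [ρLim_of, mu_map_of, hcounit, of_f]
  · intro b
    obtain ⟨k, x, rfl⟩ := exists_of B f b
    rw [ρLim_of]
    have h1 : ∀ y : A' ⊗[A] B (k + 1),
        Algebra.TensorProduct.map (AlgHom.id A A') (ρLim B f hf₁ hf₂ ρ hnat)
          (Algebra.TensorProduct.map (AlgHom.id A A') (ofA B f (k + 1)) y) =
        Algebra.TensorProduct.map (AlgHom.id A A')
          (Algebra.TensorProduct.map (AlgHom.id A A') (ofA B f (k + 2)))
          (Algebra.TensorProduct.map (AlgHom.id A A') (ρ (k + 1)) y) := by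
      intro y
      induction y using TensorProduct.induction_on with
      | zero => simp
      | tmul a b =>
        simp only [Algebra.TensorProduct.map_tmul, AlgHom.id_apply, ofA_apply]
        rw [ρLim_of]
      | add x y hx hy => simp only [map_add, hx, hy]
    have h2 : ∀ y : A' ⊗[A] B (k + 1),
        Algebra.TensorProduct.map (AlgHom.id A A')
          (Algebra.TensorProduct.includeRight : Lim B f →ₐ[A] A' ⊗[A] Lim B f)
          (Algebra.TensorProduct.map (AlgHom.id A A') (ofA B f (k + 1)) y) =
        Algebra.TensorProduct.map (AlgHom.id A A')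
          (Algebra.TensorProduct.map (AlgHom.id A A') (ofA B f (k + 2)))
          (Algebra.TensorProduct.map (AlgHom.id A A')
            ((Algebra.TensorProduct.includeRight : B (k + 2) →ₐ[A] A' ⊗[A] B (k + 2)).comp
              ((f (k + 1) (k + 2) (Nat.le_succ _)).restrictScalars A)) y) := by
      intro y
      induction y using TensorProduct.induction_on with
      | zero => simp
      | tmul a b =>
        simp only [Algebra.TensorProduct.map_tmul, AlgHom.id_apply, ofA_apply, AlgHom.comp_apply,
          Algebra.TensorProduct.includeRight_apply, AlgHom.restrictScalars_apply]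
        rw [of_f]
      | add x y hx hy => simp only [map_add, hx, hy]
    rw [h1, h2, hcoassoc]

end coaction

end Groth.Agent.Lib.Helper4.DescRingLim
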