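import Mathlib
import Groth.Agent.Lib.Helper4.DescRingLim

/-!
# Partial coactions on a tower of rings from "geometric" ring data (helper4)

Level version of `DescRingAct`: `B k = Γ(M_k)`, `Q k = Γ(X ×_S M_k)`, `T k = Γ(X ×_S X ×_S M_k)` for a decreasing chain of opens
`M_k` with partial action `X ×_S M_{k+1} ⟶ M_k`.  Output: the hypotheses of `DescRingLim.bijective_lam`.
-/

set_option autoImplicit false
set_option linter.unusedSectionVars false
universe u
open TensorProduct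

namespace Groth.Agent.Lib.Helper4.DescRingLevel

open Groth.Agent.Lib.Helper4.DescRing

variable {A A' : Type u} [CommRing A] [CommRing A'] [Algebra A A']
variable (B : ℕ → Type u) [∀ k, CommRing (B k)] [∀ k, Algebra A' (B k)] [∀ k, Algebra A (B k)]
  [∀ k, IsScalarTower A A' (B k)]
variable (f : ∀ i j, i ≤ j → B i →ₐ[A'] B j)
variable (Q : ℕ → Type u) [∀ k, CommRing (Q k)] [∀ k, Algebra A (Q k)]
variable (T : ℕ → Type u) [∀ k, CommRing (T k)]

/-- the ring data coming from a chain of opens with a partial action -/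
structure Data where
  fstQ : ∀ k, A' →+* Q k
  sndQ : ∀ k, B k →+* Q k
  halgQ : ∀ k (r : A), algebraMap A (Q k) r = sndQ k (algebraMap A (B k) r)
  θ : ∀ k, A' ⊗[A] B k ≃+* Q k
  hθ : ∀ k a b, θ k (a ⊗ₜ[A] b) = fstQ k a * sndQ k b
  rQ : ∀ k, Q k →+* Q (k + 1)
  rQ_fst : ∀ k a, rQ k (fstQ k a) = fstQ (k + 1) a
  rQ_snd : ∀ k b, rQ k (sndQ k b) = sndQ (k + 1) (f k (k + 1) (Nat.le_succ k) b)
  actQ : ∀ k, B k →+* Q (k + 1)
  act_lin : ∀ k a, actQ k (algebraMap A' (B k) a) = fstQ (k + 1) a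
  act_nat : ∀ k b, rQ (k + 1) (actQ k b) = actQ (k + 1) (f k (k + 1) (Nat.le_succ k) b)
  δ : ∀ k, Q k →+* B k
  δ_fst : ∀ k a, δ k (fstQ k a) = algebraMap A' (B k) a
  δ_snd : ∀ k b, δ k (sndQ k b) = b
  δ_act : ∀ k b, δ (k + 1) (actQ k b) = f k (k + 1) (Nat.le_succ k) b
  fstT : ∀ k, A' →+* T k
  sndT : ∀ k, Q k →+* T k
  θT : ∀ k, A' ⊗[A] Q k →+* T k
  hθT : ∀ k a q, θT k (a ⊗ₜ[A] q) = fstT k a * sndT k q
  θT_inj : ∀ k, Function.Injective (θT k)
  mact : ∀ k, Q k →+* T (k + 1)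
  mact_fst : ∀ k a, mact k (fstQ k a) = fstT (k + 1) a
  mact_snd : ∀ k b, mact k (sndQ k b) = sndT (k + 1) (actQ k b)
  msnd : ∀ k, Q k →+* T (k + 1)
  msnd_fst : ∀ k a, msnd k (fstQ k a) = fstT (k + 1) a
  msnd_snd : ∀ k b, msnd k (sndQ k b) = sndT (k + 1) (sndQ (k + 1) (f k (k + 1) (Nat.le_succ k) b))
  assoc : ∀ k b, mact (k + 1) (actQ k b) = msnd (k + 1) (actQ k b)

variable {B f Q T} (d : Data (A := A) (A' := A') B f Q T)

namespace Data

theorem fst_eq_snd (k : ℕ) (r : A) : d.fstQ k (algebraMap A A' r) = d.sndQ k (algebraMap A (B k) r) := by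
  have h1 := d.hθ k (algebraMap A A' r) 1
  have h2 := d.hθ k 1 (algebraMap A (B k) r)
  have h3 : (algebraMap A A' r) ⊗ₜ[A] (1 : B k) = (1 : A') ⊗ₜ[A] (algebraMap A (B k) r) := by
    rw [Algebra.algebraMap_eq_smul_one, Algebra.algebraMap_eq_smul_one, TensorProduct.smul_tmul]
  rw [h3, h2, map_one, one_mul] at h1
  rw [map_one, mul_one] at h1
  exact h1.symm

/-- `θ` as an `A`-algebra isomorphism -/
noncomputable def θA (k : ℕ) : A' ⊗[A] B k ≃ₐ[A] Q k :=
  AlgEquiv.ofRingEquiv (f := d.θ k) (fun r => by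
    rw [Algebra.TensorProduct.algebraMap_apply, d.hθ, map_one, mul_one, d.halgQ, d.fst_eq_snd])

theorem θA_apply (k : ℕ) (x : A' ⊗[A] B k) : d.θA k x = d.θ k x := rfl

/-- the partial coaction -/
noncomputable def ρ (k : ℕ) : B k →ₐ[A] A' ⊗[A] B (k + 1) :=
  { toRingHom := ((d.θ (k + 1)).symm : Q (k + 1) →+* A' ⊗[A] B (k + 1)).comp (d.actQ k)
    commutes' := fun r => by
      change (d.θ (k + 1)).symm (d.actQ k (algebraMap A (B k) r)) = _
      rw [RingEquiv.symm_apply_eq, Algebra.TensorProduct.algebraMap_apply, d.hθ, map_one, mul_one,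
        IsScalarTower.algebraMap_apply A A' (B k), d.act_lin] }

theorem θ_ρ (k : ℕ) (b : B k) : d.θ (k + 1) (d.ρ k b) = d.actQ k b := (d.θ (k + 1)).apply_symm_apply _

theorem ρ_lin (k : ℕ) (a : A') : d.ρ k (algebraMap A' (B k) a) = a ⊗ₜ[A] (1 : B (k + 1)) := by
  apply (d.θ (k + 1)).injective
  rw [θ_ρ, d.act_lin, d.hθ, map_one, mul_one]

theorem θ_map (k : ℕ) (x : A' ⊗[A] B k) :
    d.θ (k + 1) (Algebra.TensorProduct.map (AlgHom.id A A') ((f k (k + 1) (Nat.le_succ k)).restrictScalars A) x) =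
      d.rQ k (d.θ k x) := by
  induction x using TensorProduct.induction_on with
  | zero => simp
  | tmul a b =>
    rw [Algebra.TensorProduct.map_tmul, AlgHom.id_apply, d.hθ, d.hθ, map_mul, d.rQ_fst, d.rQ_snd]
    rfl
  | add x y hx hy => simp only [map_add, hx, hy]

theorem ρ_nat (k : ℕ) (b : B k) : d.ρ (k + 1) (f k (k + 1) (Nat.le_succ k) b) =
    Algebra.TensorProduct.map (AlgHom.id A A') ((f (k + 1) (k + 2) (Nat.le_succ _)).restrictScalars A) (d.ρ k b) := by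
  apply (d.θ (k + 2)).injective
  rw [θ_ρ, d.θ_map (k + 1), θ_ρ, d.act_nat]

theorem δ_θ (k : ℕ) (x : A' ⊗[A] B k) : d.δ k (d.θ k x) = mu (A := A) x := by
  induction x using TensorProduct.induction_on with
  | zero => simp
  | tmul a b => rw [d.hθ, map_mul, d.δ_fst, d.δ_snd, mu_tmul]
  | add x y hx hy => rw [map_add, map_add, map_add, hx, hy]

theorem ρ_counit (k : ℕ) (b : B k) : mu (A := A) (d.ρ k b) = f k (k + 1) (Nat.le_succ k) b := by
  rw [← d.δ_θ, θ_ρ, d.δ_act]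

theorem ρ_coassoc (k : ℕ) (b : B k) :
    Algebra.TensorProduct.map (AlgHom.id A A') (d.ρ (k + 1)) (d.ρ k b) =
      Algebra.TensorProduct.map (AlgHom.id A A')
        ((Algebra.TensorProduct.includeRight : B (k + 2) →ₐ[A] A' ⊗[A] B (k + 2)).comp
          ((f (k + 1) (k + 2) (Nat.le_succ _)).restrictScalars A)) (d.ρ k b) := by
  let Φ : A' ⊗[A] (A' ⊗[A] B (k + 2)) ≃ₐ[A] A' ⊗[A] Q (k + 2) :=
    Algebra.TensorProduct.congr (AlgEquiv.refl (R := A) (A₁ := A')) (d.θA (k + 2))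
  have hΦ : ∀ (a : A') (x : A' ⊗[A] B (k + 2)), Φ (a ⊗ₜ[A] x) = a ⊗ₜ[A] d.θ (k + 2) x := by
    intro a x
    simp [Φ, θA_apply]
  have hΨinj : Function.Injective (fun z : A' ⊗[A] (A' ⊗[A] B (k + 2)) => d.θT (k + 2) (Φ z)) :=
    (d.θT_inj (k + 2)).comp Φ.injective
  have hθ1 : ∀ b' : B (k + 2), d.θ (k + 2) ((1 : A') ⊗ₜ[A] b') = d.sndQ (k + 2) b' := fun b' => by
    rw [d.hθ, map_one, one_mul]
  have hcl1 : ∀ x : A' ⊗[A] B (k + 1),
      d.θT (k + 2) (Φ (Algebra.TensorProduct.map (AlgHom.id A A') (d.ρ (k + 1)) x)) =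
        d.mact (k + 1) (d.θ (k + 1) x) := by
    intro x
    induction x using TensorProduct.induction_on with
    | zero => simp
    | tmul a b' =>
      rw [Algebra.TensorProduct.map_tmul, AlgHom.id_apply, hΦ, θ_ρ, d.hθT, d.hθ, map_mul, d.mact_fst, d.mact_snd]
    | add x y hx hy => simp only [map_add, hx, hy]
  have hcl2 : ∀ x : A' ⊗[A] B (k + 1),
      d.θT (k + 2) (Φ (Algebra.TensorProduct.map (AlgHom.id A A')
        ((Algebra.TensorProduct.includeRight : B (k + 2) →ₐ[A] A' ⊗[A] B (k + 2)).comp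
          ((f (k + 1) (k + 2) (Nat.le_succ _)).restrictScalars A)) x)) = d.msnd (k + 1) (d.θ (k + 1) x) := by
    intro x
    induction x using TensorProduct.induction_on with
    | zero => simp
    | tmul a b' =>
      rw [Algebra.TensorProduct.map_tmul, AlgHom.id_apply, hΦ, AlgHom.comp_apply,
        Algebra.TensorProduct.includeRight_apply, hθ1, d.hθT, d.hθ, map_mul, d.msnd_fst, d.msnd_snd]
      rfl
    | add x y hx hy => simp only [map_add, hx, hy]
  apply hΨinj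
  change d.θT (k + 2) (Φ _) = d.θT (k + 2) (Φ _)
  rw [hcl1, hcl2, θ_ρ, d.assoc]

variable (hf₁ : ∀ i x, f i i le_rfl x = x)
  (hf₂ : ∀ i j k (hij : i ≤ j) (hjk : j ≤ k) x, f j k hjk (f i j hij x) = f i k (hij.trans hjk) x)

/-- the coaction on the limit ring -/
noncomputable def ρLim : DescRingLim.Lim B f →ₐ[A] A' ⊗[A] DescRingLim.Lim B f :=
  DescRingLim.ρLim B f hf₁ hf₂ d.ρ d.ρ_nat

theorem ρLim_of (k : ℕ) (x : B k) : d.ρLim hf₁ hf₂ (DescRingLim.of B f k x) =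
    Algebra.TensorProduct.map (AlgHom.id A A') (DescRingLim.ofA B f (k + 1)) (d.ρ k x) :=
  DescRingLim.ρLim_of B f hf₁ hf₂ d.ρ d.ρ_nat k x

/-- the invariants of the limit ring -/
noncomputable def invariants : Subalgebra A (DescRingLim.Lim B f) :=
  DescRingLim.invariants B f hf₁ hf₂ d.ρ d.ρ_nat

theorem mem_invariants (b : DescRingLim.Lim B f) :
    b ∈ d.invariants hf₁ hf₂ ↔ d.ρLim hf₁ hf₂ b = (1 : A') ⊗ₜ[A] b := Iff.rfl

theorem bijective_lam [Module.Flat A A'] : Function.Bijective (lam (A' := A') (d.invariants hf₁ hf₂)) :=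
  DescRingLim.bijective_lam B f hf₁ hf₂ d.ρ d.ρ_nat d.ρ_lin d.ρ_counit d.ρ_coassoc

end Data

end Groth.Agent.Lib.Helper4.DescRingLevel
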