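import Mathlib
import Groth.Agent.Lib.Helper4.DescRingLevel

/-!
# Ring-level complements for the germ-ring argument (helper4)

* `isPushout_of_bijective_lam`: `A' ⊗ C₀ ≃ L` as a pushout square of commutative rings.
* `Data.act_eq_snd_of_mem_invariants`: invariants of the limit coaction become invariant functions on any "saturated" level.
* `isLocalization_away_lim`: localisations of a direct limit at an element of level `0`.
-/

set_option autoImplicit false
set_option linter.unusedSectionVars false
set_option linter.style.haveILetI false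
universe u
open TensorProduct CategoryTheory CategoryTheory.Limits

namespace Groth.Agent.Lib.Helper4.DescRingLevel

open Groth.Agent.Lib.Helper4.DescRing

section pushout

variable {A A' L : Type u} [CommRing A] [CommRing A'] [CommRing L] [Algebra A A'] [Algebra A' L] [Algebra A L]
  [IsScalarTower A A' L]

theorem isPushout_of_bijective_lam (C₀ : Subalgebra A L) (h : Function.Bijective (lam (A' := A') C₀)) :
    IsPushout (CommRingCat.ofHom (algebraMap A A')) (CommRingCat.ofHom (algebraMap A C₀))
      (CommRingCat.ofHom (algebraMap A' L)) (CommRingCat.ofHom C₀.val.toRingHom) := by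
  let e : CommRingCat.of (A' ⊗[A] C₀) ≅ CommRingCat.of L :=
    (RingEquiv.ofBijective (lam (A' := A') C₀) h).toCommRingCatIso
  refine (CommRingCat.isPushout_tensorProduct A A' C₀).of_iso (Iso.refl _) (Iso.refl _) (Iso.refl _) e
    ?_ ?_ ?_ ?_
  · rfl
  · rfl
  · ext a
    change lam C₀ (a ⊗ₜ[A] (1 : C₀)) = algebraMap A' L a
    rw [lam_tmul]
    simp
  · ext c
    change lam C₀ ((1 : A') ⊗ₜ[A] c) = (c : L)
    rw [lam_tmul]
    simp

end pushout

variable {A A' : Type u} [CommRing A] [CommRing A'] [Algebra A A']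
variable {B : ℕ → Type u} [∀ k, CommRing (B k)] [∀ k, Algebra A' (B k)] [∀ k, Algebra A (B k)]
  [∀ k, IsScalarTower A A' (B k)]
variable {f : ∀ i j, i ≤ j → B i →ₐ[A'] B j}
variable {Q : ℕ → Type u} [∀ k, CommRing (Q k)] [∀ k, Algebra A (Q k)]
variable {T : ℕ → Type u} [∀ k, CommRing (T k)]

section transfer

variable (d : Data (A := A) (A' := A') B f Q T)
variable (hf₁ : ∀ i x, f i i le_rfl x = x)
  (hf₂ : ∀ i j k (hij : i ≤ j) (hjk : j ≤ k) x, f j k hjk (f i j hij x) = f i k (hij.trans hjk) x)
variable {BW QW : Type u} [CommRing BW] [CommRing QW]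
  (resB : ∀ k, B k →+* BW) (hresB : ∀ i j (hij : i ≤ j) x, resB j (f i j hij x) = resB i x)
  (resQ : ∀ k, Q k →+* QW) (fstW : A' →+* QW) (sndW actW : BW →+* QW)
  (h1 : ∀ k a, resQ k (d.fstQ k a) = fstW a)
  (h2 : ∀ k b, resQ k (d.sndQ k b) = sndW (resB k b))
  (h3 : ∀ k b, resQ (k + 1) (d.actQ k b) = actW (resB k b))

include h1 h2 h3 in
/-- Invariant elements of the limit ring give invariant functions on a saturated level. -/
theorem Data.act_eq_snd_of_mem_invariants (c : DescRingLim.Lim B f) (hc : c ∈ d.invariants hf₁ hf₂) :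
    actW (DescRingLim.lift B f resB hresB c) = sndW (DescRingLim.lift B f resB hresB c) := by
  letI : Algebra A QW := (fstW.comp (algebraMap A A')).toAlgebra
  let κ := DescRingLim.lift B f resB hresB
  have hκ : ∀ k b, κ (DescRingLim.of B f k b) = resB k b := fun k b => DescRingLim.lift_of B f resB hresB k b
  let F : A' →ₐ[A] QW := { toRingHom := fstW, commutes' := fun r => rfl }
  let G : DescRingLim.Lim B f →ₐ[A] QW :=
    { toRingHom := sndW.comp κ
      commutes' := fun r => by
        change sndW (κ (algebraMap A (DescRingLim.Lim B f) r)) = fstW (algebraMap A A' r)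
        rw [← DescRingLim.of_algebraMap' B f 0 r, hκ, ← h2, ← d.fst_eq_snd, h1] }
  let Ξ : A' ⊗[A] DescRingLim.Lim B f →ₐ[A] QW := Algebra.TensorProduct.productMap F G
  have hΞ : ∀ (a : A') (x : DescRingLim.Lim B f), Ξ (a ⊗ₜ[A] x) = fstW a * sndW (κ x) := fun a x =>
    Algebra.TensorProduct.productMap_apply_tmul F G a x
  have hkey : ∀ (k : ℕ) (y : A' ⊗[A] B (k + 1)),
      Ξ (Algebra.TensorProduct.map (AlgHom.id A A') (DescRingLim.ofA B f (k + 1)) y) =
        resQ (k + 1) (d.θ (k + 1) y) := by
    intro k y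
    induction y using TensorProduct.induction_on with
    | zero => simp
    | tmul a b =>
      rw [Algebra.TensorProduct.map_tmul, AlgHom.id_apply, hΞ, DescRingLim.ofA_apply, hκ, d.hθ, map_mul, h1, h2]
    | add x y hx hy => simp only [map_add, hx, hy]
  have hact : ∀ x : DescRingLim.Lim B f, Ξ (d.ρLim hf₁ hf₂ x) = actW (κ x) := by
    intro x
    obtain ⟨k, b, rfl⟩ := DescRingLim.exists_of B f x
    rw [d.ρLim_of, hkey, d.θ_ρ, h3, hκ]
  have h4 := hact c
  rw [(d.mem_invariants hf₁ hf₂ c).mp hc, hΞ, map_one, one_mul] at h4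
  exact h4.symm

end transfer

section localization

variable (hf₁ : ∀ i x, f i i le_rfl x = x)
  (hf₂ : ∀ i j k (hij : i ≤ j) (hjk : j ≤ k) x, f j k hjk (f i j hij x) = f i k (hij.trans hjk) x)

include hf₂ in
/-- A ring which is compatibly the localisation of every level of a tower at the images of an element `r` of level `0` is the
localisation of the direct limit at the image of `r`. -/
theorem isLocalization_away_lim {L : Type u} [CommRing L] (ρ : ∀ k, B k →+* L)
    (hρ : ∀ i j (hij : i ≤ j) x, ρ j (f i j hij x) = ρ i x) (r : B 0)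
    (h1 : IsUnit (ρ 0 r))
    (h2 : ∀ l : L, ∃ (n : ℕ) (b : B 0), l * ρ 0 r ^ n = ρ 0 b)
    (h3 : ∀ (k : ℕ) (b b' : B k), ρ k b = ρ k b' →
      ∃ n : ℕ, (f 0 k (Nat.zero_le k) r) ^ n * b = (f 0 k (Nat.zero_le k) r) ^ n * b') :
    letI := (DescRingLim.lift B f ρ hρ).toAlgebra
    IsLocalization.Away (DescRingLim.of B f 0 r) L := by
  letI := (DescRingLim.lift B f ρ hρ).toAlgebra
  have halg : ∀ x, algebraMap (DescRingLim.Lim B f) L x = DescRingLim.lift B f ρ hρ x := fun _ => rfl
  constructor; constructor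
  · rintro ⟨_, n, rfl⟩
    rw [map_pow, halg, DescRingLim.lift_of]
    exact h1.pow n
  · intro l
    obtain ⟨n, b, hb⟩ := h2 l
    refine ⟨⟨DescRingLim.of B f 0 b, ⟨_, n, rfl⟩⟩, ?_⟩
    change l * algebraMap _ L (DescRingLim.of B f 0 r ^ n) = algebraMap _ L (DescRingLim.of B f 0 b)
    rw [map_pow, halg, halg, DescRingLim.lift_of, DescRingLim.lift_of, hb]
  · intro x y hxy
    obtain ⟨i, bx, rfl⟩ := DescRingLim.exists_of B f x
    obtain ⟨j, by', rfl⟩ := DescRingLim.exists_of B f y
    rw [halg, halg, DescRingLim.lift_of, DescRingLim.lift_of] at hxy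
    let m := max i j
    have hx' : ρ m (f i m (le_max_left i j) bx) = ρ m (f j m (le_max_right i j) by') := by
      rw [hρ, hρ, hxy]
    obtain ⟨n, hn⟩ := h3 m _ _ hx'
    refine ⟨⟨_, n, rfl⟩, ?_⟩
    change DescRingLim.of B f 0 r ^ n * DescRingLim.of B f i bx = DescRingLim.of B f 0 r ^ n * DescRingLim.of B f j by'
    rw [← DescRingLim.of_f B f (Nat.zero_le m) r, ← DescRingLim.of_f B f (le_max_left i j) bx,
      ← DescRingLim.of_f B f (le_max_right i j) by', ← map_pow, ← map_mul, ← map_mul, hn]

end localization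

end Groth.Agent.Lib.Helper4.DescRingLevel
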