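import Mathlib
import Groth.Prelude.Def_DescFam
import Groth.Agent.Lib.Helper4.DescRestrict

/-!
# Open sub-data of effective descent data are effective (helper4)

* `isoOfRangeEq`: two componentwise open immersions of descent data into the same datum with the same ranges have
  isomorphic sources.
* `isEffective_of_isOpenImmersion`: a descent datum relative to an fpqc covering family which maps to a canonical descent
  datum by componentwise open immersions is effective.
-/

set_option autoImplicit false
set_option backward.isDefEq.respectTransparency false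
set_option linter.style.haveILetI false
universe w u
open CategoryTheory CategoryTheory.Limits AlgebraicGeometry

namespace Groth.Agent.Lib.Helper4.DescOpenSub

open Desc Groth.Agent.Lib.Helper4.DescGamma Groth.Agent.Lib.Helper4.DescRestrict

variable {S : Scheme.{u}} {ι : Type w} {X : ι → Scheme.{u}} {f : ∀ i, X i ⟶ S}

/-- factorisation of one componentwise open immersion through another with larger ranges -/
noncomputable def factor {D₁ D₂ D : SchDDFam f} (a₁ : D₁ ⟶ D) (a₂ : D₂ ⟶ D)
    [∀ i, IsOpenImmersion (a₂.hom i).left]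
    (h : ∀ i, Set.range (a₁.hom i).left ⊆ Set.range (a₂.hom i).left) : D₁ ⟶ D₂ :=
  homOfFactor a₁ a₂ (fun i => inferInstance)
    (fun i => Over.homMk (IsOpenImmersion.lift (a₂.hom i).left (a₁.hom i).left (h i)) (by
      rw [← Over.w (a₂.hom i), ← Category.assoc, IsOpenImmersion.lift_fac, Over.w (a₁.hom i)]))
    (fun i => by
      apply Over.OverMorphism.ext
      exact IsOpenImmersion.lift_fac _ _ _)

theorem factor_comp {D₁ D₂ D : SchDDFam f} (a₁ : D₁ ⟶ D) (a₂ : D₂ ⟶ D)
    [∀ i, IsOpenImmersion (a₂.hom i).left]
    (h : ∀ i, Set.range (a₁.hom i).left ⊆ Set.range (a₂.hom i).left) : factor a₁ a₂ h ≫ a₂ = a₁ :=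
  homOfFactor_comp _ _ _ _ _

theorem hom_ext_of_mono {D₁ D₂ D : SchDDFam f} (a : D₂ ⟶ D) (hm : ∀ i, Mono (a.hom i).left) (b b' : D₁ ⟶ D₂)
    (h : b ≫ a = b' ≫ a) : b = b' := by
  apply SchDDFam.hom_ext
  funext i
  apply Over.OverMorphism.ext
  haveI := hm i
  rw [← cancel_mono (a.hom i).left]
  exact congrArg (fun c : D₁ ⟶ D => (c.hom i).left) h

/-- Two componentwise open immersions into the same descent datum with the same ranges have isomorphic sources. -/
noncomputable def isoOfRangeEq {D₁ D₂ D : SchDDFam f} (a₁ : D₁ ⟶ D) (a₂ : D₂ ⟶ D)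
    [∀ i, IsOpenImmersion (a₁.hom i).left] [∀ i, IsOpenImmersion (a₂.hom i).left]
    (h : ∀ i, Set.range (a₁.hom i).left = Set.range (a₂.hom i).left) : D₁ ≅ D₂ where
  hom := factor a₁ a₂ (fun i => (h i).le)
  inv := factor a₂ a₁ (fun i => (h i).ge)
  hom_inv_id := by
    apply hom_ext_of_mono a₁ (fun i => inferInstance)
    rw [Category.assoc, factor_comp, factor_comp, Category.id_comp]
  inv_hom_id := by
    apply hom_ext_of_mono a₂ (fun i => inferInstance)
    rw [Category.assoc, factor_comp, factor_comp, Category.id_comp]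

/-- A descent datum with a componentwise open immersion into a canonical descent datum is effective. -/
theorem isEffective_of_isOpenImmersion (hf : Presieve.ofArrows X f ∈ Scheme.fpqcPrecoverage S) (D : SchDDFam f)
    (U : Over S) (s : D ⟶ (toDDFam f).obj U) [hs : ∀ i, IsOpenImmersion (s.hom i).left] : D.IsEffective := by
  let W : ∀ i, (((toDDFam f).obj U).obj i).left.Opens := fun i => (s.hom i).left.opensRange
  have hW : Stable ((toDDFam f).obj U) W := stable_opensRange s
  have hid : ∀ i, IsOpenImmersion ((𝟙 ((toDDFam f).obj U) : (toDDFam f).obj U ⟶ _).hom i).left := fun i => by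
    change IsOpenImmersion (𝟙 (((toDDFam f).obj U).obj i).left)
    infer_instance
  obtain ⟨U₀, m, ε₀, -, -, hε₀, hr⟩ := exists_restrict_eff hf U (𝟙 ((toDDFam f).obj U)) W hW (fun i z _ => by
    change z ∈ Set.range (𝟙 (((toDDFam f).obj U).obj i).left)
    exact ⟨z, rfl⟩)
  haveI := hε₀
  exact ⟨U₀, ⟨isoOfRangeEq ε₀ s (fun i => (hr i).trans rfl)⟩⟩

end Groth.Agent.Lib.Helper4.DescOpenSub
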