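import Mathlib
import Groth.Agent.Lib.Helper4.DescRing

/-!
# Flat descent of algebras from an "action" on rings of functions (helper4)

Abstract ring-theoretic input for quasi-affine descent: `B = Γ(V)`, `BP = Γ(X ×_S V)`, `BP₃ = Γ(X ×_S X ×_S V)`, with the
pullback maps along the projections and the action.  Output: the invariants `C₀ = {b | act b = snd b}` satisfy
`A' ⊗[A] C₀ ≅ B`.
-/

set_option autoImplicit false
universe u
open TensorProduct

namespace Groth.Agent.Lib.Helper4.DescRingAct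

open Groth.Agent.Lib.Helper4.DescRing

variable {A A' B BP BP₃ : Type u} [CommRing A] [CommRing A'] [CommRing B] [CommRing BP] [CommRing BP₃]
  [Algebra A A'] [Algebra A' B] [Algebra A B] [IsScalarTower A A' B] [Algebra A BP]

theorem bijective_lam_of_action [Module.Flat A A']
    (fstP : A' →+* BP) (sndP actP : B →+* BP)
    (halg : ∀ r : A, algebraMap A BP r = sndP (algebraMap A B r))
    (θ : A' ⊗[A] B ≃+* BP) (hθ : ∀ a b, θ (a ⊗ₜ[A] b) = fstP a * sndP b)
    (fst₃ : A' →+* BP₃) (snd₃ : BP →+* BP₃)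
    (θ₃ : A' ⊗[A] BP →+* BP₃) (hθ₃ : ∀ a x, θ₃ (a ⊗ₜ[A] x) = fst₃ a * snd₃ x) (hθ₃inj : Function.Injective θ₃)
    (mact msnd : BP →+* BP₃)
    (hma1 : ∀ a, mact (fstP a) = fst₃ a) (hma2 : ∀ b, mact (sndP b) = snd₃ (actP b))
    (hms1 : ∀ a, msnd (fstP a) = fst₃ a) (hms2 : ∀ b, msnd (sndP b) = snd₃ (sndP b))
    (hassoc : ∀ b, mact (actP b) = msnd (actP b))
    (δ : BP →+* B) (hδ1 : ∀ a, δ (fstP a) = algebraMap A' B a) (hδ2 : ∀ b, δ (sndP b) = b)
    (hδ3 : ∀ b, δ (actP b) = b)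
    (hactlin : ∀ a, actP (algebraMap A' B a) = fstP a)
    (C₀ : Subalgebra A B) (hC₀ : ∀ b : B, b ∈ C₀ ↔ actP b = sndP b) :
    Function.Bijective (lam (A' := A') C₀) := by
  -- the coaction
  have hθ1 : ∀ b : B, θ ((1 : A') ⊗ₜ[A] b) = sndP b := fun b => by rw [hθ, map_one, one_mul]
  have hρc : ∀ r : A, θ.symm (actP (algebraMap A B r)) = algebraMap A (A' ⊗[A] B) r := by
    intro r
    rw [RingEquiv.symm_apply_eq, Algebra.TensorProduct.algebraMap_apply, hθ, map_one, mul_one,
      IsScalarTower.algebraMap_apply A A' B, hactlin]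
  let ρ : B →ₐ[A] A' ⊗[A] B :=
    { toRingHom := (θ.symm : BP →+* A' ⊗[A] B).comp actP
      commutes' := hρc }
  have hρ : ∀ b, θ (ρ b) = actP b := fun b => θ.apply_symm_apply _
  have hlin : ∀ a : A', ρ (algebraMap A' B a) = a ⊗ₜ[A] (1 : B) := by
    intro a
    apply θ.injective
    rw [hρ, hactlin, hθ, map_one, mul_one]
  have hδθ : ∀ x : A' ⊗[A] B, δ (θ x) = mu (A := A) x := by
    intro x
    induction x using TensorProduct.induction_on with
    | zero => simp
    | tmul a b => rw [hθ, map_mul, hδ1, hδ2, mu_tmul]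
    | add x y hx hy => rw [map_add, map_add, map_add, hx, hy]
  have hcounit : ∀ b : B, mu (ρ b) = b := fun b => by rw [← hδθ, hρ, hδ3]
  -- the injective comparison map into `BP₃`
  have hcomm : ∀ r : A, fstP (algebraMap A A' r) = sndP (algebraMap A B r) := by
    intro r
    have h1 := hθ (algebraMap A A' r) 1
    have h2 := hθ 1 (algebraMap A B r)
    have h3 : (algebraMap A A' r) ⊗ₜ[A] (1 : B) = (1 : A') ⊗ₜ[A] (algebraMap A B r) := by
      rw [Algebra.algebraMap_eq_smul_one, Algebra.algebraMap_eq_smul_one, TensorProduct.smul_tmul]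
    rw [h3, h2, map_one, one_mul] at h1
    rw [map_one, mul_one] at h1
    exact h1.symm
  let θA : A' ⊗[A] B ≃ₐ[A] BP :=
    AlgEquiv.ofRingEquiv (f := θ) (fun r => by
        rw [Algebra.TensorProduct.algebraMap_apply, hθ, map_one, mul_one, halg, hcomm])
  have hθA : ∀ x, θA x = θ x := fun _ => rfl
  let Φ : A' ⊗[A] (A' ⊗[A] B) ≃ₐ[A] A' ⊗[A] BP :=
    Algebra.TensorProduct.congr (AlgEquiv.refl (R := A) (A₁ := A')) θA
  have hΦ : ∀ (a : A') (x : A' ⊗[A] B), Φ (a ⊗ₜ[A] x) = a ⊗ₜ[A] θ x := by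
    intro a x
    simp [Φ, hθA]
  have hΨinj : Function.Injective (fun z : A' ⊗[A] (A' ⊗[A] B) => θ₃ (Φ z)) :=
    hθ₃inj.comp Φ.injective
  have hcl1 : ∀ x : A' ⊗[A] B,
      θ₃ (Φ (Algebra.TensorProduct.map (AlgHom.id A A') ρ x)) = mact (θ x) := by
    intro x
    induction x using TensorProduct.induction_on with
    | zero => simp
    | tmul a b =>
      rw [Algebra.TensorProduct.map_tmul, AlgHom.id_apply, hΦ, hρ, hθ₃, hθ, map_mul, hma1, hma2]
    | add x y hx hy => simp only [map_add, hx, hy]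
  have hcl2 : ∀ x : A' ⊗[A] B,
      θ₃ (Φ (Algebra.TensorProduct.map (AlgHom.id A A')
        (Algebra.TensorProduct.includeRight : B →ₐ[A] A' ⊗[A] B) x)) = msnd (θ x) := by
    intro x
    induction x using TensorProduct.induction_on with
    | zero => simp
    | tmul a b =>
      rw [Algebra.TensorProduct.map_tmul, AlgHom.id_apply, hΦ,
        Algebra.TensorProduct.includeRight_apply, hθ1, hθ₃, hθ, map_mul, hms1, hms2]
    | add x y hx hy => simp only [map_add, hx, hy]
  have hcoassoc : ∀ b : B, Algebra.TensorProduct.map (AlgHom.id A A') ρ (ρ b) =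
      Algebra.TensorProduct.map (AlgHom.id A A') Algebra.TensorProduct.includeRight (ρ b) := by
    intro b
    apply hΨinj
    change θ₃ (Φ _) = θ₃ (Φ _)
    rw [hcl1, hcl2, hρ, hassoc]
  refine bijective_lam ρ hlin hcounit hcoassoc C₀ ?_
  intro b
  rw [hC₀, ← hρ, ← hθ1]
  exact ⟨fun h => θ.injective h, fun h => congrArg θ h⟩

end Groth.Agent.Lib.Helper4.DescRingAct
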