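import Mathlib
import Groth.Prelude.Def_DescFam
import Groth.Agent.Lib.Helper4.DescOpenSub
import Groth.Agent.Lib.Helper4.DescRingAct
import Groth.Agent.Lib.Helper4.FlatBCGamma

/-!
# Quasi-affine fpqc descent, affine case (helper4)

`isEffective_of_isAffine`: a descent datum relative to a flat surjective morphism of affine schemes `p : X ⟶ S` whose member
`V` is a quasi-affine scheme is effective.  Proof: the "action" `X ×_S V ⟶ V` gives on global sections the data of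
`DescRingAct.bijective_lam_of_action` (flat base change for `Γ`), so `Γ(V) = Γ(X) ⊗ C` for the ring `C` of invariant
functions; then `V ⟶ X ×_S Spec C` is an open immersion and a morphism of descent data, and open sub-data of effective data
are effective (`DescOpenSub`).
-/

set_option autoImplicit false
set_option backward.isDefEq.respectTransparency false
set_option linter.style.haveILetI false
universe u
open CategoryTheory CategoryTheory.Limits AlgebraicGeometry TensorProduct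

namespace Groth.Agent.Lib.Helper4.DescQAff

open Desc Groth.Agent.Lib.Helper4.DescGamma Groth.Agent.Lib.Helper4.DescRestrict

/-- A pushout square of commutative rings identifies the corner with the tensor product. -/
theorem exists_ringEquiv_of_isPushout {R A B X : CommRingCat.{u}} {f : R ⟶ A} {g : R ⟶ B} {a : A ⟶ X} {b : B ⟶ X}
    (H : IsPushout f g a b) :
    letI := f.hom.toAlgebra
    letI := g.hom.toAlgebra
    ∃ θ : A ⊗[R] B ≃+* X, ∀ (x : A) (y : B), θ (x ⊗ₜ[R] y) = a.hom x * b.hom y := by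
  letI := f.hom.toAlgebra
  letI := g.hom.toAlgebra
  let e := ((CommRingCat.isPushout_tensorProduct R A B).isoIsPushout A B H)
  refine ⟨e.commRingCatIsoToRingEquiv, fun x y => ?_⟩
  have h1 : ∀ x : A, e.hom.hom (x ⊗ₜ[R] (1 : B)) = a.hom x := fun x =>
    congr($((CommRingCat.isPushout_tensorProduct R A B).inl_isoIsPushout_hom A B H).hom x)
  have h2 : ∀ y : B, e.hom.hom ((1 : A) ⊗ₜ[R] y) = b.hom y := fun y =>
    congr($((CommRingCat.isPushout_tensorProduct R A B).inr_isoIsPushout_hom A B H).hom y)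
  have h3 : x ⊗ₜ[R] y = (x ⊗ₜ[R] (1 : B)) * ((1 : A) ⊗ₜ[R] y) := by
    rw [Algebra.TensorProduct.tmul_mul_tmul, mul_one, one_mul]
  change e.hom.hom (x ⊗ₜ[R] y) = _
  rw [h3, map_mul, h1, h2]

section action

variable {S X : Scheme.{u}} (p : X ⟶ S) (D : SchDDFam (fun _ : PUnit.{u + 1} => p))

/-- the underlying scheme of the datum -/
noncomputable abbrev V : Scheme.{u} := (D.obj ⟨⟩).left
/-- its structure morphism -/
noncomputable abbrev π : V p D ⟶ X := (D.obj ⟨⟩).hom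
/-- `X ×_S V` -/
noncomputable abbrev P : Scheme.{u} := pullback p (π p D ≫ p)
noncomputable abbrev fstP : P p D ⟶ X := pullback.fst p (π p D ≫ p)
noncomputable abbrev sndP : P p D ⟶ V p D := pullback.snd p (π p D ≫ p)

theorem condP : (sndP p D ≫ π p D) ≫ p = fstP p D ≫ p := by
  rw [Category.assoc]; exact pullback.condition.symm

/-- the "action" `X ×_S V ⟶ V`, `(x, v) ↦ φ_{π v → x}(v)` -/
noncomputable def act : P p D ⟶ V p D :=
  ph D (i := ⟨⟩) (j := ⟨⟩) (sndP p D ≫ π p D) (fstP p D) (condP p D) (sndP p D) rfl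

@[reassoc]
theorem act_π : act p D ≫ π p D = fstP p D := ph_hom D (i := ⟨⟩) (j := ⟨⟩) _ _ _ _ _

theorem comp_act {T : Scheme.{u}} (a : T ⟶ P p D) :
    a ≫ act p D = ph D (i := ⟨⟩) (j := ⟨⟩) ((a ≫ sndP p D) ≫ π p D) (a ≫ fstP p D)
      (by
        have := condP p D
        simp only [Category.assoc] at this ⊢
        rw [this]) (a ≫ sndP p D) rfl := by
  rw [act, comp_ph]
  exact ph_congr D (i := ⟨⟩) (j := ⟨⟩) _ _ (Category.assoc _ _ _).symm rfl rfl

theorem lift_act {T : Scheme.{u}} (x₁ : T ⟶ X) (v : T ⟶ V p D) (h : x₁ ≫ p = v ≫ π p D ≫ p) :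
    pullback.lift x₁ v h ≫ act p D = ph D (i := ⟨⟩) (j := ⟨⟩) (v ≫ π p D) x₁
      (by rw [Category.assoc, h]) v rfl := by
  rw [comp_act]
  exact ph_congr D (i := ⟨⟩) (j := ⟨⟩) _ _ (by rw [pullback.lift_snd]) (pullback.lift_fst _ _ _)
    (pullback.lift_snd _ _ _)

/-- the gluing bijection in terms of the action -/
theorem ph_eq_lift_act {T : Scheme.{u}} (x₀ x₁ : T ⟶ X) (h : x₀ ≫ p = x₁ ≫ p) (v : T ⟶ V p D)
    (hv : v ≫ π p D = x₀) :
    ph D (i := ⟨⟩) (j := ⟨⟩) x₀ x₁ h v hv =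
      pullback.lift x₁ v (by rw [← h, ← hv, Category.assoc]) ≫ act p D := by
  rw [lift_act]
  exact ph_congr D (i := ⟨⟩) (j := ⟨⟩) _ _ hv.symm rfl rfl

/-- the unit section `V ⟶ X ×_S V` -/
noncomputable def δ : V p D ⟶ P p D := pullback.lift (π p D) (𝟙 _) (by simp)

@[reassoc (attr := simp)] theorem δ_fst : δ p D ≫ fstP p D = π p D := pullback.lift_fst _ _ _
@[reassoc (attr := simp)] theorem δ_snd : δ p D ≫ sndP p D = 𝟙 _ := pullback.lift_snd _ _ _

theorem δ_act : δ p D ≫ act p D = 𝟙 _ := by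
  rw [δ, lift_act]
  exact (ph_congr D (i := ⟨⟩) (j := ⟨⟩) _ _ (Category.id_comp _) rfl rfl).trans
    (ph_self D (i := ⟨⟩) (π p D) (𝟙 (V p D)) (Category.id_comp _))

/-- `X ×_S X ×_S V` -/
noncomputable abbrev P₃ : Scheme.{u} := pullback p (sndP p D ≫ π p D ≫ p)
noncomputable abbrev fst₃ : P₃ p D ⟶ X := pullback.fst p (sndP p D ≫ π p D ≫ p)
noncomputable abbrev snd₃ : P₃ p D ⟶ P p D := pullback.snd p (sndP p D ≫ π p D ≫ p)

theorem cond₃ : fst₃ p D ≫ p = snd₃ p D ≫ sndP p D ≫ π p D ≫ p := pullback.condition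

noncomputable def mact : P₃ p D ⟶ P p D :=
  pullback.lift (fst₃ p D) (snd₃ p D ≫ act p D) (by
    rw [Category.assoc, act_π_assoc, cond₃]
    congr 1
    exact pullback.condition.symm)

noncomputable def msnd : P₃ p D ⟶ P p D :=
  pullback.lift (fst₃ p D) (snd₃ p D ≫ sndP p D) (by rw [Category.assoc, cond₃])

@[reassoc (attr := simp)] theorem mact_fst : mact p D ≫ fstP p D = fst₃ p D := pullback.lift_fst _ _ _
@[reassoc (attr := simp)] theorem mact_snd : mact p D ≫ sndP p D = snd₃ p D ≫ act p D := pullback.lift_snd _ _ _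
@[reassoc (attr := simp)] theorem msnd_fst : msnd p D ≫ fstP p D = fst₃ p D := pullback.lift_fst _ _ _
@[reassoc (attr := simp)] theorem msnd_snd : msnd p D ≫ sndP p D = snd₃ p D ≫ sndP p D := pullback.lift_snd _ _ _

theorem ph_trans' {T : Scheme.{u}} {x₀ x₁ x₁' x₂ : T ⟶ X} (h₀₁ : x₀ ≫ p = x₁ ≫ p) (h₁₂ : x₁' ≫ p = x₂ ≫ p)
    (d : T ⟶ V p D) (hd : d ≫ π p D = x₀) (d' : T ⟶ V p D) (hd' : d' ≫ π p D = x₁')
    (e : d' = ph D (i := ⟨⟩) (j := ⟨⟩) x₀ x₁ h₀₁ d hd) :
    ph D (i := ⟨⟩) (j := ⟨⟩) x₁' x₂ h₁₂ d' hd' =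
      ph D (i := ⟨⟩) (j := ⟨⟩) x₀ x₂ (by
        have : x₁' = x₁ := by rw [← hd', e, ph_hom]
        rw [h₀₁, ← this, h₁₂]) d hd := by
  have e1 : x₁' = x₁ := by rw [← hd', e, ph_hom]
  subst e1
  subst e
  exact ph_ph D (i := ⟨⟩) (j := ⟨⟩) (k := ⟨⟩) x₀ _ x₂ h₀₁ h₁₂ d hd

theorem mact_act : mact p D ≫ act p D = msnd p D ≫ act p D := by
  rw [comp_act, comp_act]
  have e := comp_act p D (snd₃ p D)
  rw [ph_trans' p D _ _ (snd₃ p D ≫ sndP p D) rfl (mact p D ≫ sndP p D) rfl ((mact_snd p D).trans e)]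
  exact ph_congr D (i := ⟨⟩) (j := ⟨⟩) _ _ (by rw [msnd_snd]) (by rw [mact_fst, msnd_fst]) (by rw [msnd_snd])

end action

section rings

theorem appTop_comp_apply {X Y Z : Scheme.{u}} (f : X ⟶ Y) (g : Y ⟶ Z) (x : Γ(Z, ⊤)) :
    f.appTop.hom (g.appTop.hom x) = (f ≫ g).appTop.hom x := by
  rw [Scheme.Hom.comp_appTop]; rfl

theorem appTop_apply_of_eq {X Y Z : Scheme.{u}} {f : X ⟶ Y} {g : Y ⟶ Z} {h : X ⟶ Z} (e : f ≫ g = h)
    (x : Γ(Z, ⊤)) : f.appTop.hom (g.appTop.hom x) = h.appTop.hom x := by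
  subst e; exact appTop_comp_apply f g x

theorem appTop_apply_of_comm {W X Y Z : Scheme.{u}} {f : W ⟶ X} {g : X ⟶ Z} {f' : W ⟶ Y} {g' : Y ⟶ Z}
    (e : f ≫ g = f' ≫ g') (x : Γ(Z, ⊤)) : f.appTop.hom (g.appTop.hom x) = f'.appTop.hom (g'.appTop.hom x) := by
  rw [appTop_comp_apply, appTop_comp_apply, e]

variable {S X : Scheme.{u}} (p : X ⟶ S) (D : SchDDFam (fun _ : PUnit.{u + 1} => p))

theorem exists_isPushout [IsAffine S] [IsAffine X] [Flat p] [(V p D).IsQuasiAffine] :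
    ∃ (C : CommRingCat.{u}) (a : Γ(S, ⊤) ⟶ C) (ι : C ⟶ Γ(V p D, ⊤)),
      IsPushout p.appTop a (π p D).appTop ι ∧ ι ≫ (act p D).appTop = ι ≫ (sndP p D).appTop := by
  letI iAA' : Algebra Γ(S, ⊤) Γ(X, ⊤) := p.appTop.hom.toAlgebra
  letI iA'B : Algebra Γ(X, ⊤) Γ(V p D, ⊤) := (π p D).appTop.hom.toAlgebra
  letI iAB : Algebra Γ(S, ⊤) Γ(V p D, ⊤) := (π p D ≫ p).appTop.hom.toAlgebra
  letI iABP : Algebra Γ(S, ⊤) Γ(P p D, ⊤) := (sndP p D ≫ π p D ≫ p).appTop.hom.toAlgebra
  haveI : IsScalarTower Γ(S, ⊤) Γ(X, ⊤) Γ(V p D, ⊤) := IsScalarTower.of_algebraMap_eq (fun r => by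
    change (π p D ≫ p).appTop.hom r = (π p D).appTop.hom (p.appTop.hom r)
    exact (appTop_comp_apply _ _ r).symm)
  haveI hflat : Module.Flat Γ(S, ⊤) Γ(X, ⊤) := Scheme.Hom.flat_appTop p
  -- `P` is quasi-compact and quasi-separated
  haveI : IsAffineHom (sndP p D) := MorphismProperty.pullback_snd _ _ inferInstance
  haveI : (P p D).IsQuasiAffine := Scheme.IsQuasiAffine.of_isAffineHom (sndP p D)
  haveI : QuasiSeparatedSpace (V p D) := inferInstance
  haveI : QuasiSeparatedSpace (P p D) := inferInstance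
  have hpo := FlatBCGamma.isPushout_appTop (f := p) (iX := π p D ≫ p) (g := sndP p D) (iY := fstP p D)
    (IsPullback.of_hasPullback p (π p D ≫ p)).flip
  obtain ⟨θ, hθ⟩ := exists_ringEquiv_of_isPushout hpo
  have hpo₃ := FlatBCGamma.isPushout_appTop (f := p) (iX := sndP p D ≫ π p D ≫ p) (g := snd₃ p D)
    (iY := fst₃ p D) (IsPullback.of_hasPullback p (sndP p D ≫ π p D ≫ p)).flip
  obtain ⟨θ₃, hθ₃⟩ := exists_ringEquiv_of_isPushout hpo₃
  let actR : Γ(V p D, ⊤) →+* Γ(P p D, ⊤) := (act p D).appTop.hom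
  let sndR : Γ(V p D, ⊤) →+* Γ(P p D, ⊤) := (sndP p D).appTop.hom
  have e1 : act p D ≫ π p D ≫ p = sndP p D ≫ π p D ≫ p := by
    rw [act_π_assoc]; exact pullback.condition
  let C₀ : Subalgebra Γ(S, ⊤) Γ(V p D, ⊤) :=
    { toSubsemiring := (RingHom.eqLocus actR sndR).toSubsemiring
      algebraMap_mem' := fun r => by
        change actR ((π p D ≫ p).appTop.hom r) = sndR ((π p D ≫ p).appTop.hom r)
        exact appTop_apply_of_comm e1 r }
  have halg : ∀ r : Γ(S, ⊤), algebraMap Γ(S, ⊤) Γ(P p D, ⊤) r = sndR (algebraMap Γ(S, ⊤) Γ(V p D, ⊤) r) :=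
    fun r => (appTop_comp_apply (sndP p D) (π p D ≫ p) r).symm
  have hma1 : ∀ a, (mact p D).appTop.hom ((fstP p D).appTop.hom a) = (fst₃ p D).appTop.hom a :=
    fun a => appTop_apply_of_eq (mact_fst p D) a
  have hma2 : ∀ b, (mact p D).appTop.hom (sndR b) = (snd₃ p D).appTop.hom (actR b) :=
    fun b => appTop_apply_of_comm (mact_snd p D) b
  have hms1 : ∀ a, (msnd p D).appTop.hom ((fstP p D).appTop.hom a) = (fst₃ p D).appTop.hom a :=
    fun a => appTop_apply_of_eq (msnd_fst p D) a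
  have hms2 : ∀ b, (msnd p D).appTop.hom (sndR b) = (snd₃ p D).appTop.hom (sndR b) :=
    fun b => appTop_apply_of_comm (msnd_snd p D) b
  have hassoc : ∀ b, (mact p D).appTop.hom (actR b) = (msnd p D).appTop.hom (actR b) :=
    fun b => appTop_apply_of_comm (mact_act p D) b
  have hδ1 : ∀ a, (δ p D).appTop.hom ((fstP p D).appTop.hom a) = algebraMap Γ(X, ⊤) Γ(V p D, ⊤) a :=
    fun a => appTop_apply_of_eq (δ_fst p D) a
  have hδ2 : ∀ b, (δ p D).appTop.hom (sndR b) = b :=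
    fun b => (appTop_apply_of_eq (δ_snd p D) b).trans (by simp)
  have hδ3 : ∀ b, (δ p D).appTop.hom (actR b) = b :=
    fun b => (appTop_apply_of_eq (δ_act p D) b).trans (by simp)
  have hactlin : ∀ a, actR (algebraMap Γ(X, ⊤) Γ(V p D, ⊤) a) = (fstP p D).appTop.hom a :=
    fun a => appTop_apply_of_eq (act_π p D) a
  have hbij := DescRingAct.bijective_lam_of_action (A := Γ(S, ⊤)) (A' := Γ(X, ⊤)) (B := Γ(V p D, ⊤))
    (BP := Γ(P p D, ⊤)) (BP₃ := Γ(P₃ p D, ⊤))
    (fstP p D).appTop.hom sndR actR halg θ hθ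
    (fst₃ p D).appTop.hom (snd₃ p D).appTop.hom
    (θ₃ : _ →+* _) hθ₃ θ₃.injective (mact p D).appTop.hom (msnd p D).appTop.hom
    hma1 hma2 hms1 hms2 hassoc (δ p D).appTop.hom hδ1 hδ2 hδ3 hactlin C₀ (fun b => Iff.rfl)
  let e : CommRingCat.of (Γ(X, ⊤) ⊗[Γ(S, ⊤)] C₀) ≅ Γ(V p D, ⊤) :=
    (RingEquiv.ofBijective (DescRing.lam (A' := Γ(X, ⊤)) C₀) hbij).toCommRingCatIso
  refine ⟨CommRingCat.of C₀, CommRingCat.ofHom (algebraMap Γ(S, ⊤) C₀), CommRingCat.ofHom C₀.val.toRingHom, ?_, ?_⟩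
  · refine (CommRingCat.isPushout_tensorProduct Γ(S, ⊤) Γ(X, ⊤) C₀).of_iso (Iso.refl _) (Iso.refl _) (Iso.refl _) e
      ?_ ?_ ?_ ?_
    · rfl
    · rfl
    · ext a
      change DescRing.lam C₀ (a ⊗ₜ[Γ(S, ⊤)] (1 : C₀)) = (π p D).appTop.hom a
      rw [DescRing.lam_tmul]
      simp
      rfl
    · ext c
      change DescRing.lam C₀ ((1 : Γ(X, ⊤)) ⊗ₜ[Γ(S, ⊤)] c) = (c : Γ(V p D, ⊤))
      rw [DescRing.lam_tmul]
      simp
  · ext c
    exact c.2

end rings

section geometry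

variable {S X : Scheme.{u}} (p : X ⟶ S) (D : SchDDFam (fun _ : PUnit.{u + 1} => p))

/-- **Quasi-affine fpqc descent, affine case**: a descent datum relative to a flat surjective morphism of affine schemes
whose member is a quasi-affine scheme is effective. -/
theorem isEffective_of_isAffine [IsAffine S] [IsAffine X] [Flat p] [Surjective p] [(V p D).IsQuasiAffine] :
    D.IsEffective := by
  obtain ⟨C, a, ι, hpo, hinv⟩ := exists_isPushout p D
  let U₀ : Over S := Over.mk (Spec.map a ≫ S.isoSpec.inv)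
  let c : V p D ⟶ Spec C := (V p D).toSpecΓ ≫ Spec.map ι
  have hc : π p D ≫ p = c ≫ U₀.hom := by
    change _ = ((V p D).toSpecΓ ≫ Spec.map ι) ≫ Spec.map a ≫ S.isoSpec.inv
    rw [Category.assoc, ← Category.assoc (Spec.map ι), ← Spec.map_comp, ← hpo.w, ← Scheme.Hom.comp_appTop,
      ← Scheme.toSpecΓ_naturality_assoc, Scheme.toSpecΓ_isoSpec_inv, Category.comp_id]
  let j : V p D ⟶ pullback p U₀.hom := pullback.lift (π p D) c hc
  -- `j` is an open immersion
  have hpb : IsPullback (Spec.map (π p D).appTop) (Spec.map ι) (Spec.map p.appTop) (Spec.map a) :=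
    isPullback_SpecMap_of_isPushout _ _ _ _ hpo
  have hpb' : IsPullback (Spec.map (π p D).appTop ≫ X.isoSpec.inv) (Spec.map ι) p (Spec.map a ≫ S.isoSpec.inv) :=
    hpb.of_iso (Iso.refl _) X.isoSpec.symm (Iso.refl _) S.isoSpec.symm (by simp) (by simp)
      (Scheme.isoSpec_inv_naturality p) (by simp)
  have hj : j = (V p D).toSpecΓ ≫ hpb'.isoPullback.hom := by
    have e1 : hpb'.isoPullback.hom ≫ pullback.fst p U₀.hom = _ := hpb'.isoPullback_hom_fst
    have e2 : hpb'.isoPullback.hom ≫ pullback.snd p U₀.hom = _ := hpb'.isoPullback_hom_snd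
    apply pullback.hom_ext
    · rw [pullback.lift_fst, Category.assoc, e1, ← Scheme.toSpecΓ_naturality_assoc,
        Scheme.toSpecΓ_isoSpec_inv, Category.comp_id]
    · rw [pullback.lift_snd, Category.assoc, e2]
  have hjo : IsOpenImmersion j := by rw [hj]; infer_instance
  -- invariance of `c`
  have hinvc : act p D ≫ c = sndP p D ≫ c := by
    change act p D ≫ (V p D).toSpecΓ ≫ Spec.map ι = sndP p D ≫ (V p D).toSpecΓ ≫ Spec.map ι
    rw [Scheme.toSpecΓ_naturality_assoc, Scheme.toSpecΓ_naturality_assoc, ← Spec.map_comp, ← Spec.map_comp, hinv]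
  -- the morphism of descent data
  let s : D ⟶ (toDDFam (fun _ : PUnit.{u + 1} => p)).obj U₀ :=
    { hom := fun _ => Over.homMk j (pullback.lift_fst _ _ _)
      comm := fun T i k x₀ x₁ h v w hw => by
        cases i
        cases k
        have hw' : w.1 = v.1 ≫ j := hw
        have h1 := ph_eq_lift_act p D x₀ x₁ h v.1 v.2
        replace h1 : (D.φ x₀ x₁ h v).1 = _ := h1
        change pullback.lift x₁ (w.1 ≫ pullback.snd p U₀.hom) _ = (D.φ x₀ x₁ h v).1 ≫ j
        apply pullback.hom_ext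
        · rw [pullback.lift_fst, Category.assoc, pullback.lift_fst]
          exact (D.φ x₀ x₁ h v).2.symm
        · rw [pullback.lift_snd, Category.assoc, pullback.lift_snd, hw', Category.assoc, pullback.lift_snd, h1,
            Category.assoc, hinvc, pullback.lift_snd_assoc] }
  have hs : ∀ i, IsOpenImmersion (s.hom i).left := fun _ => hjo
  have hf : Presieve.ofArrows (fun _ : PUnit.{u + 1} => X) (fun _ => p) ∈ Scheme.fpqcPrecoverage S := by
    rw [Presieve.ofArrows_pUnit]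
    exact Scheme.Hom.singleton_mem_fpqcPrecoverage p
  exact DescOpenSub.isEffective_of_isOpenImmersion hf D U₀ s

end geometry

end Groth.Agent.Lib.Helper4.DescQAff
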