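import Mathlib
import Groth.Prelude.Def_DescFam
import Groth.Agent.Lib.Helper4.DescQAff

/-!
# Saturated opens for descent data relative to flat quasi-compact morphisms (helper4)

* `exists_specializes_of_mem_closure_image`: for a quasi-compact morphism, points in the closure of the image of a closed set
  are specializations of points of the image.
* `τ`, `sat`, `core`: the involution of `X ×_S V`, the saturation of a subset of `V` under the gluing bijections, and the largest
  open with saturation inside a given open; `sat_sat`, `sat_core`, `subset_core`.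
* `exists_chain`: every point has a saturated open neighbourhood inside a chain of quasi-compact opens `M k` with
  `sat (M (k+1)) ⊆ M k` (input for the germ-ring argument of ind-quasi-affine descent).
-/

set_option autoImplicit false
set_option backward.isDefEq.respectTransparency false
set_option linter.style.haveILetI false
universe u
open CategoryTheory CategoryTheory.Limits AlgebraicGeometry

namespace Groth.Agent.Lib.Helper4.DescSat

open Desc Groth.Agent.Lib.Helper4.DescGamma Groth.Agent.Lib.Helper4.DescQAff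

theorem primeSpectrum_exists_specializes {R₀ R : Type u} [CommRing R₀] [CommRing R] (φ : R₀ →+* R)
    (K : Set (PrimeSpectrum R)) (hK : IsClosed K) (z : PrimeSpectrum R₀)
    (hz : z ∈ closure (PrimeSpectrum.comap φ '' K)) : ∃ q ∈ K, PrimeSpectrum.comap φ q ⤳ z := by
  obtain ⟨I, rfl⟩ := (PrimeSpectrum.isClosed_iff_zeroLocus_ideal K).mp hK
  have h1 : PrimeSpectrum.comap φ '' PrimeSpectrum.zeroLocus (I : Set R) ⊆
      PrimeSpectrum.zeroLocus ((I.comap φ : Ideal R₀) : Set R₀) := by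
    rintro _ ⟨q, hq, rfl⟩
    exact Ideal.comap_mono hq
  have h2 : z ∈ PrimeSpectrum.zeroLocus ((I.comap φ : Ideal R₀) : Set R₀) :=
    closure_minimal h1 (PrimeSpectrum.isClosed_zeroLocus _) hz
  obtain ⟨q, hqI, hq, hqle⟩ := z.asIdeal.exists_ideal_comap_le_prime I h2
  exact ⟨⟨q, hq⟩, hqI, (PrimeSpectrum.le_iff_specializes ⟨q.comap φ, inferInstance⟩ z).mp hqle⟩

theorem exists_specializes_Spec {R₀ R : CommRingCat.{u}} (f : Spec R ⟶ Spec R₀) (K : Set (Spec R))
    (hK : IsClosed K) (z : Spec R₀) (hz : z ∈ closure (f '' K)) : ∃ k ∈ K, f k ⤳ z := by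
  obtain ⟨φ, rfl⟩ := Spec.homEquiv.symm.surjective f
  exact primeSpectrum_exists_specializes φ.hom K hK z hz

theorem exists_specializes_of_compact {R₀ : CommRingCat.{u}} {Y : Scheme.{u}} [CompactSpace Y] (f : Y ⟶ Spec R₀)
    (K : Set Y) (hK : IsClosed K) (z : Spec R₀) (hz : z ∈ closure (f '' K)) : ∃ k ∈ K, f k ⤳ z := by
  obtain ⟨R, g, hg⟩ := compactSpace_iff_exists.mp (inferInstance : CompactSpace Y)
  have h1 : (g ≫ f) '' (g ⁻¹' K) = f '' K := by
    rw [Scheme.Hom.comp_base, TopCat.coe_comp, Set.image_comp, Set.image_preimage_eq _ hg]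
  obtain ⟨k, hk, hsp⟩ := exists_specializes_Spec (g ≫ f) (g ⁻¹' K) (hK.preimage g.continuous) z (by rw [h1]; exact hz)
  exact ⟨g k, hk, by rwa [Scheme.Hom.comp_apply] at hsp⟩

theorem exists_specializes_of_isAffine {Y Z : Scheme.{u}} [IsAffine Z] (f : Y ⟶ Z) [QuasiCompact f] (K : Set Y)
    (hK : IsClosed K) (z : Z) (hz : z ∈ closure (f '' K)) : ∃ k ∈ K, f k ⤳ z := by
  haveI : CompactSpace Y := QuasiCompact.compactSpace_of_compactSpace f
  let e := Z.isoSpec.hom
  have he : Topology.IsClosedEmbedding e := (TopCat.homeoOfIso (Scheme.forgetToTop.mapIso Z.isoSpec)).isClosedEmbedding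
  have h1 : e z ∈ closure ((f ≫ e) '' K) := by
    have : (f ≫ e) '' K = e '' (f '' K) := by
      rw [Scheme.Hom.comp_base, TopCat.coe_comp, Set.image_comp]
    rw [this, he.closure_image_eq]
    exact ⟨z, hz, rfl⟩
  obtain ⟨k, hk, hsp⟩ := exists_specializes_of_compact (f ≫ e) K hK (e z) h1
  refine ⟨k, hk, ?_⟩
  rw [Scheme.Hom.comp_apply] at hsp
  exact (he.isInducing.specializes_iff).mp hsp

/-- For a quasi-compact morphism, a point in the closure of the image of a closed set is a specialization of a point of the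
image. -/
theorem exists_specializes_of_mem_closure_image {Y Z : Scheme.{u}} (f : Y ⟶ Z) [QuasiCompact f] (K : Set Y)
    (hK : IsClosed K) (z : Z) (hz : z ∈ closure (f '' K)) : ∃ k ∈ K, f k ⤳ z := by
  obtain ⟨U, hU, hzU, -⟩ := exists_isAffineOpen_mem_and_subset (X := Z) (x := z) (U := ⊤) trivial
  have : QuasiCompact (f ∣_ U) := inferInstance
  let K' : Set ↥(f ⁻¹ᵁ U) := (f ⁻¹ᵁ U).ι ⁻¹' K
  have hK' : IsClosed K' := hK.preimage (f ⁻¹ᵁ U).ι.continuous
  have hz' : (⟨z, hzU⟩ : U) ∈ closure ((f ∣_ U) '' K') := by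
    rw [mem_closure_iff]
    intro o ho hzo
    have ho' : IsOpen (U.ι '' o) := U.ι.isOpenEmbedding.isOpenMap o ho
    have hz2 : z ∈ U.ι '' o := ⟨⟨z, hzU⟩, hzo, rfl⟩
    obtain ⟨_, ⟨y, hyo, rfl⟩, k, hk, hky⟩ := mem_closure_iff.mp hz _ ho' hz2
    have hkU : k ∈ f ⁻¹ᵁ U := by
      show f k ∈ U
      rw [hky]; exact y.2
    refine ⟨y, hyo, ⟨k, hkU⟩, hk, ?_⟩
    apply U.ι.injective
    rw [← Scheme.Hom.comp_apply, morphismRestrict_ι, Scheme.Hom.comp_apply]
    exact hky
  haveI : IsAffine (U : Scheme.{u}) := hU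
  obtain ⟨k', hk', hsp⟩ := exists_specializes_of_isAffine (f ∣_ U) K' hK' ⟨z, hzU⟩ hz'
  refine ⟨(f ⁻¹ᵁ U).ι k', hk', ?_⟩
  have h3 := hsp.map U.ι.continuous
  rw [← Scheme.Hom.comp_apply, morphismRestrict_ι, Scheme.Hom.comp_apply] at h3
  exact h3

section sat

variable {S X : Scheme.{u}} (p : X ⟶ S) (D : SchDDFam (fun _ : PUnit.{u + 1} => p))

/-- the involution `(x, v) ↦ (π v, act (x, v))` of `X ×_S V` -/
noncomputable def τ : P p D ⟶ P p D :=
  pullback.lift (sndP p D ≫ π p D) (act p D) (by rw [act_π_assoc]; exact condP p D)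

@[reassoc (attr := simp)] theorem τ_fst : τ p D ≫ fstP p D = sndP p D ≫ π p D := pullback.lift_fst _ _ _
@[reassoc (attr := simp)] theorem τ_snd : τ p D ≫ sndP p D = act p D := pullback.lift_snd _ _ _

theorem τ_act : τ p D ≫ act p D = sndP p D := by
  rw [comp_act]
  have e : τ p D ≫ sndP p D = ph D (i := ⟨⟩) (j := ⟨⟩) (sndP p D ≫ π p D) (fstP p D) (condP p D) (sndP p D) rfl :=
    τ_snd p D
  rw [ph_trans' p D (condP p D) _ (sndP p D) rfl (τ p D ≫ sndP p D) rfl e]
  exact (ph_congr D (i := ⟨⟩) (j := ⟨⟩) _ _ rfl (τ_fst p D) rfl).trans (ph_self D (i := ⟨⟩) _ _ rfl)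

theorem τ_τ : τ p D ≫ τ p D = 𝟙 _ := by
  apply pullback.hom_ext
  · rw [Category.assoc, τ_fst, τ_snd_assoc, act_π, Category.id_comp]
  · rw [Category.assoc, τ_snd, τ_act, Category.id_comp]

instance : IsIso (τ p D) := ⟨τ p D, τ_τ p D, τ_τ p D⟩

theorem act_eq : act p D = τ p D ≫ sndP p D := (τ_snd p D).symm

instance [Flat p] : Flat (act p D) := by rw [act_eq]; infer_instance
instance [QuasiCompact p] : QuasiCompact (act p D) := by rw [act_eq]; infer_instance

/-- the saturation of a subset of `V` -/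
def sat (M : Set (V p D)) : Set (V p D) := (act p D) '' ((sndP p D) ⁻¹' M)

theorem sat_mono {M M' : Set (V p D)} (h : M ⊆ M') : sat p D M ⊆ sat p D M' :=
  Set.image_mono (Set.preimage_mono h)

theorem subset_sat (M : Set (V p D)) : M ⊆ sat p D M := by
  intro x hx
  refine ⟨(δ p D) x, ?_, ?_⟩
  · show (sndP p D) ((δ p D) x) ∈ M
    rw [← Scheme.Hom.comp_apply, δ_snd]
    exact hx
  · rw [← Scheme.Hom.comp_apply, δ_act]
    rfl

theorem isPullback_mact : IsPullback (mact p D) (snd₃ p D) (sndP p D) (act p D) := by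
  have hbig : IsPullback (fst₃ p D) (snd₃ p D) p (act p D ≫ π p D ≫ p) := by
    have e : act p D ≫ π p D ≫ p = sndP p D ≫ π p D ≫ p := by
      rw [act_π_assoc]; exact pullback.condition
    rw [e]
    exact IsPullback.of_hasPullback p (sndP p D ≫ π p D ≫ p)
  have hright : IsPullback (fstP p D) (sndP p D) p (π p D ≫ p) := IsPullback.of_hasPullback p (π p D ≫ p)
  rw [← mact_fst p D] at hbig
  exact IsPullback.of_right hbig (mact_snd p D) hright

theorem sat_sat (M : Set (V p D)) : sat p D (sat p D M) ⊆ sat p D M := by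
  rintro _ ⟨r, ⟨r₁, hr₁, hr⟩, rfl⟩
  obtain ⟨z, hz1, hz2⟩ := Scheme.exists_preimage_of_isPullback (isPullback_mact p D) r r₁ hr.symm
  refine ⟨(msnd p D) z, ?_, ?_⟩
  · show (sndP p D) ((msnd p D) z) ∈ M
    rw [← Scheme.Hom.comp_apply, msnd_snd, Scheme.Hom.comp_apply, hz2]
    exact hr₁
  · rw [← Scheme.Hom.comp_apply, ← mact_act, Scheme.Hom.comp_apply, hz1]

theorem isCompact_sat [QuasiCompact p] (M : (V p D).Opens) (hM : IsCompact (M : Set (V p D))) :
    IsCompact (sat p D M) :=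
  ((sndP p D).isCompact_preimage hM).image (act p D).continuous

theorem stableUnderGeneralization_sat [Flat p] (M : Set (V p D)) (hM : StableUnderGeneralization M) :
    StableUnderGeneralization (sat p D M) :=
  (Flat.generalizingMap (act p D)).stableUnderGeneralization_image (hM.preimage (sndP p D).continuous)

/-- the largest open subset all of whose points have neighbourhoods with saturation in `N` -/
noncomputable def core (N : (V p D).Opens) : (V p D).Opens :=
  ⟨(closure ((sndP p D) '' ((act p D) ⁻¹' (N : Set (V p D)))ᶜ))ᶜ, isClosed_closure.isOpen_compl⟩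

theorem sat_core_subset (N : (V p D).Opens) : sat p D (core p D N) ⊆ N := by
  rintro _ ⟨r, hr, rfl⟩
  by_contra hn
  exact hr (subset_closure ⟨r, hn, rfl⟩)

theorem core_le (N : (V p D).Opens) : core p D N ≤ N :=
  fun _ hx => sat_core_subset p D N (subset_sat p D _ hx)

theorem subset_core [QuasiCompact p] (N : (V p D).Opens) (G : Set (V p D)) (hG : StableUnderGeneralization G)
    (hGN : sat p D G ⊆ N) : G ⊆ core p D N := by
  intro g hg hcl
  obtain ⟨k, hk, hsp⟩ := exists_specializes_of_mem_closure_image (sndP p D) _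
    ((N.2.preimage (act p D).continuous).isClosed_compl) g hcl
  exact hk (hGN ⟨k, hG hsp hg, rfl⟩)

theorem sat_core [Flat p] [QuasiCompact p] (N : (V p D).Opens) : sat p D (core p D N) ⊆ core p D N := by
  apply subset_core p D N _ (stableUnderGeneralization_sat p D _ (core p D N).2.stableUnderGeneralization)
  exact (sat_sat p D _).trans (sat_core_subset p D N)

end sat

theorem exists_isCompact_opens_between {Z : Scheme.{u}} (K : Set Z) (hK : IsCompact K) (O : Z.Opens)
    (hKO : K ⊆ O) : ∃ M : Z.Opens, IsCompact (M : Set Z) ∧ K ⊆ M ∧ M ≤ O := by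
  have hex : ∀ x : Z, ∃ U : Z.Opens, IsCompact (U : Set Z) ∧ (x ∈ O → x ∈ U) ∧ U ≤ O := by
    intro x
    by_cases hx : x ∈ O
    · obtain ⟨U, hU, hxU, hUO⟩ := exists_isAffineOpen_mem_and_subset (X := Z) (x := x) (U := O) hx
      exact ⟨U, hU.isCompact, fun _ => hxU, hUO⟩
    · exact ⟨⊥, by simp, fun h => (hx h).elim, bot_le⟩
  choose U hUc hxU hUO using hex
  obtain ⟨t, htK⟩ := hK.elim_nhds_subcover' (fun x _ => (U x : Set Z))
    (fun x hx => (U x).2.mem_nhds (hxU x (hKO hx)))
  refine ⟨⨆ x ∈ t, U x.1, ?_, ?_, ?_⟩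
  · have : ((⨆ x ∈ t, U x.1 : Z.Opens) : Set Z) = ⋃ x ∈ t, (U x.1 : Set Z) := by
      simp
    rw [this]
    exact t.isCompact_biUnion (fun x _ => hUc x.1)
  · intro x hx
    obtain ⟨y, hy, hxy⟩ := Set.mem_iUnion₂.mp (htK hx)
    exact TopologicalSpace.Opens.mem_iSup.mpr ⟨y, TopologicalSpace.Opens.mem_iSup.mpr ⟨hy, hxy⟩⟩
  · exact iSup₂_le fun x _ => hUO x.1

section chain

variable {S X : Scheme.{u}} (p : X ⟶ S) (D : SchDDFam (fun _ : PUnit.{u + 1} => p)) [Flat p] [QuasiCompact p]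

/-- Every point of `V` has a saturated open neighbourhood `W` contained in every member of a chain of quasi-compact opens
`M 0 ⊇ M 1 ⊇ ⋯` such that the saturation of `M (k+1)` is contained in `M k`. -/
theorem exists_chain (v : V p D) :
    ∃ (W : (V p D).Opens) (M : ℕ → (V p D).Opens), v ∈ W ∧ sat p D W ⊆ W ∧
      (∀ k, IsCompact (M k : Set (V p D))) ∧ (∀ k, M (k + 1) ≤ M k) ∧
      (∀ k, sat p D (M (k + 1)) ⊆ M k) ∧ ∀ k, W ≤ M k := by
  obtain ⟨N₀, hN₀, hvN₀, -⟩ := exists_isAffineOpen_mem_and_subset (X := V p D) (x := v) (U := ⊤) trivial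
  have hE₀c : IsCompact (sat p D N₀) := isCompact_sat p D N₀ hN₀.isCompact
  have hE₀g : StableUnderGeneralization (sat p D N₀) :=
    stableUnderGeneralization_sat p D _ N₀.2.stableUnderGeneralization
  obtain ⟨N₁, hN₁c, hE₀N₁, -⟩ := exists_isCompact_opens_between (sat p D N₀) hE₀c ⊤ (fun _ _ => trivial)
  have hvW : v ∈ core p D N₁ :=
    subset_core p D N₁ _ hE₀g ((sat_sat p D _).trans hE₀N₁) (subset_sat p D _ hvN₀)
  have hEc : IsCompact (sat p D N₁) := isCompact_sat p D N₁ hN₁c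
  have hEg : StableUnderGeneralization (sat p D N₁) :=
    stableUnderGeneralization_sat p D _ N₁.2.stableUnderGeneralization
  have hWE : (core p D N₁ : Set (V p D)) ⊆ sat p D N₁ := fun x hx => subset_sat p D _ (core_le p D N₁ hx)
  let 𝒮 := {M : (V p D).Opens // IsCompact (M : Set (V p D)) ∧ sat p D N₁ ⊆ M}
  have hnext : ∀ M : 𝒮, ∃ M' : 𝒮, M'.1 ≤ core p D M.1 := by
    intro M
    have h1 : sat p D N₁ ⊆ core p D M.1 := subset_core p D M.1 _ hEg ((sat_sat p D _).trans M.2.2)
    obtain ⟨M', hM'c, hEM', hM'⟩ := exists_isCompact_opens_between (sat p D N₁) hEc (core p D M.1) h1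
    exact ⟨⟨M', hM'c, hEM'⟩, hM'⟩
  choose next hnext' using hnext
  obtain ⟨M₀, hM₀c, hEM₀, -⟩ := exists_isCompact_opens_between (sat p D N₁) hEc ⊤ (fun _ _ => trivial)
  let Ms : ℕ → 𝒮 := fun k => Nat.rec (⟨M₀, hM₀c, hEM₀⟩ : 𝒮) (fun _ m => next m) k
  have hMs : ∀ k, Ms (k + 1) = next (Ms k) := fun k => rfl
  refine ⟨core p D N₁, fun k => (Ms k).1, hvW, sat_core p D N₁, fun k => (Ms k).2.1, fun k => ?_, fun k => ?_,
    fun k => ?_⟩
  · show (Ms (k + 1)).1 ≤ (Ms k).1
    rw [hMs]
    exact (hnext' (Ms k)).trans (core_le p D _)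
  · show sat p D (Ms (k + 1)).1 ⊆ (Ms k).1
    rw [hMs]
    exact (sat_mono p D (hnext' (Ms k))).trans (sat_core_subset p D _)
  · exact fun x hx => (Ms k).2.2 (hWE hx)

end chain

end Groth.Agent.Lib.Helper4.DescSat
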