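import Mathlib
import Groth.Prelude.Def_DescFam
import Groth.Agent.Lib.Helper4.DescSat
import Groth.Agent.Lib.Helper4.DescRingLevel2
import Groth.Agent.Lib.Helper4.DescAppLE

/-!
# The ring data of a chain of quasi-affine opens in a descent datum (helper4)

For a descent datum `V` relative to a flat morphism of affine schemes `p : X ⟶ S` and a chain of quasi-affine opens
`M 0 ⊇ M 1 ⊇ ⋯` of `V` with `sat (M (k+1)) ⊆ M k`, the rings `Γ(V, M k)`, `Γ(X ×_S V, pr⁻¹ M k)`,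
`Γ(X ×_S X ×_S V, pr⁻¹ M k)` form a `DescRingLevel.Data`.
-/

set_option autoImplicit false
set_option backward.isDefEq.respectTransparency false
set_option linter.style.haveILetI false
set_option linter.unusedSectionVars false
universe u
open CategoryTheory CategoryTheory.Limits AlgebraicGeometry TensorProduct

namespace Groth.Agent.Lib.Helper4.DescIQA

open Desc Groth.Agent.Lib.Helper4.DescGamma Groth.Agent.Lib.Helper4.DescQAff Groth.Agent.Lib.Helper4.DescSat
  Groth.Agent.Lib.Helper4.DescAppLE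

section level

variable {S X : Scheme.{u}} (p : X ⟶ S) (D : SchDDFam (fun _ : PUnit.{u + 1} => p))

/-- the preimage of an open of `V` in `X ×_S V` -/
noncomputable abbrev PN (N : (V p D).Opens) : (P p D).Opens := sndP p D ⁻¹ᵁ N
/-- the preimage of an open of `V` in `X ×_S X ×_S V` -/
noncomputable abbrev TN (N : (V p D).Opens) : (P₃ p D).Opens := snd₃ p D ⁻¹ᵁ PN p D N

theorem PN_mono {N' N : (V p D).Opens} (h : N' ≤ N) : PN p D N' ≤ PN p D N := fun _ hx => h hx
theorem TN_mono {N' N : (V p D).Opens} (h : N' ≤ N) : TN p D N' ≤ TN p D N := fun _ hx => h hx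

theorem PN_le_act {N' N : (V p D).Opens} (h : sat p D N' ⊆ N) : PN p D N' ≤ act p D ⁻¹ᵁ N :=
  fun x hx => h ⟨x, hx, rfl⟩

theorem le_δ_PN (N : (V p D).Opens) : N ≤ δ p D ⁻¹ᵁ PN p D N := by
  intro x hx
  show (sndP p D) ((δ p D) x) ∈ N
  rw [← Scheme.Hom.comp_apply, δ_snd]
  exact hx

theorem TN_le_mact {N' N : (V p D).Opens} (h : sat p D N' ⊆ N) : TN p D N' ≤ mact p D ⁻¹ᵁ PN p D N := by
  intro x hx
  show (sndP p D) ((mact p D) x) ∈ N
  rw [← Scheme.Hom.comp_apply, mact_snd, Scheme.Hom.comp_apply]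
  exact h ⟨(snd₃ p D) x, hx, rfl⟩

theorem TN_le_msnd {N' N : (V p D).Opens} (h : N' ≤ N) : TN p D N' ≤ msnd p D ⁻¹ᵁ PN p D N := by
  intro x hx
  show (sndP p D) ((msnd p D) x) ∈ N
  rw [← Scheme.Hom.comp_apply, msnd_snd, Scheme.Hom.comp_apply]
  exact h hx

theorem isQuasiAffine_PN [IsAffine S] [IsAffine X] (N : (V p D).Opens) [(N : Scheme.{u}).IsQuasiAffine] :
    (PN p D N : Scheme.{u}).IsQuasiAffine := by
  haveI : IsAffineHom (sndP p D) := MorphismProperty.pullback_snd _ _ inferInstance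
  haveI : IsAffineHom (sndP p D ∣_ N) := IsZariskiLocalAtTarget.restrict (P := @IsAffineHom) inferInstance N
  exact Scheme.IsQuasiAffine.of_isAffineHom (sndP p D ∣_ N)

theorem isCompact_of_isQuasiAffine {Z : Scheme.{u}} (U : Z.Opens) [(U : Scheme.{u}).IsQuasiAffine] :
    IsCompact (U : Set Z) :=
  isCompact_iff_compactSpace.mpr (inferInstance : CompactSpace (U : Scheme.{u}))

/-- `Γ(X, ⊤)` with its `Γ(S, ⊤)`-algebra structure via `p` -/
def AX (_ : X ⟶ S) : Type u := Γ(X, ⊤)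

noncomputable instance : CommRing (AX p) := inferInstanceAs (CommRing Γ(X, ⊤))

noncomputable instance algSX : Algebra Γ(S, ⊤) (AX p) :=
  RingHom.toAlgebra (R := Γ(S, ⊤)) (S := AX p) p.appTop.hom

/-- the algebra structures -/
noncomputable abbrev algXN (N : (V p D).Opens) : Algebra (AX p) Γ(V p D, N) :=
  RingHom.toAlgebra (R := AX p) (S := Γ(V p D, N)) ((π p D).appLE ⊤ N le_top).hom
noncomputable abbrev algSN (N : (V p D).Opens) : Algebra Γ(S, ⊤) Γ(V p D, N) :=
  ((π p D ≫ p).appLE ⊤ N le_top).hom.toAlgebra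
noncomputable abbrev algSPN (N : (V p D).Opens) : Algebra Γ(S, ⊤) Γ(P p D, PN p D N) :=
  ((sndP p D ≫ π p D ≫ p).appLE ⊤ (PN p D N) le_top).hom.toAlgebra

attribute [local instance] algXN algSN algSPN

theorem algebraMap_AX (r : Γ(S, ⊤)) : algebraMap Γ(S, ⊤) (AX p) r = p.appTop.hom r := rfl
theorem algebraMap_XN (N : (V p D).Opens) (a : AX p) :
    algebraMap (AX p) Γ(V p D, N) a = ((π p D).appLE ⊤ N le_top).hom a := rfl
theorem algebraMap_SN (N : (V p D).Opens) (r : Γ(S, ⊤)) :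
    algebraMap Γ(S, ⊤) Γ(V p D, N) r = ((π p D ≫ p).appLE ⊤ N le_top).hom r := rfl
theorem algebraMap_SPN (N : (V p D).Opens) (r : Γ(S, ⊤)) :
    algebraMap Γ(S, ⊤) Γ(P p D, PN p D N) r = ((sndP p D ≫ π p D ≫ p).appLE ⊤ (PN p D N) le_top).hom r := rfl

instance isScalarTower_N (N : (V p D).Opens) : IsScalarTower Γ(S, ⊤) (AX p) Γ(V p D, N) :=
  IsScalarTower.of_algebraMap_eq (fun r => by
    rw [algebraMap_SN, algebraMap_XN, algebraMap_AX, ← FlatBCGamma.appLE_top p le_top]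
    exact (appLE_eq rfl _ _ _ _ _ _ r).symm)

theorem isPushout_N [IsAffine S] [IsAffine X] [Flat p] (N : (V p D).Opens) [(N : Scheme.{u}).IsQuasiAffine] :
    IsPushout p.appTop ((π p D ≫ p).appLE ⊤ N le_top) ((fstP p D).appLE ⊤ (PN p D N) le_top)
      ((sndP p D).appLE N (PN p D N) le_rfl) :=
  isPushout_appLE (f := p) (iX := π p D ≫ p) (g := sndP p D) (iY := fstP p D)
    (IsPullback.of_hasPullback p (π p D ≫ p)).flip N (isCompact_of_isQuasiAffine N)
    (isQuasiSeparated_of_isQuasiAffine N)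

theorem isPushout_PN [IsAffine S] [IsAffine X] [Flat p] (N : (V p D).Opens) [(N : Scheme.{u}).IsQuasiAffine] :
    IsPushout p.appTop ((sndP p D ≫ π p D ≫ p).appLE ⊤ (PN p D N) le_top)
      ((fst₃ p D).appLE ⊤ (TN p D N) le_top) ((snd₃ p D).appLE (PN p D N) (TN p D N) le_rfl) := by
  haveI := isQuasiAffine_PN p D N
  exact isPushout_appLE (f := p) (iX := sndP p D ≫ π p D ≫ p) (g := snd₃ p D) (iY := fst₃ p D)
    (IsPullback.of_hasPullback p (sndP p D ≫ π p D ≫ p)).flip (PN p D N) (isCompact_of_isQuasiAffine _)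
    (isQuasiSeparated_of_isQuasiAffine _)

theorem exists_θN [IsAffine S] [IsAffine X] [Flat p] (N : (V p D).Opens) [(N : Scheme.{u}).IsQuasiAffine] :
    ∃ θ : AX p ⊗[Γ(S, ⊤)] Γ(V p D, N) ≃+* Γ(P p D, PN p D N), ∀ (x : AX p) (y : Γ(V p D, N)),
      θ (x ⊗ₜ[Γ(S, ⊤)] y) = ((fstP p D).appLE ⊤ (PN p D N) le_top).hom x *
        ((sndP p D).appLE N (PN p D N) le_rfl).hom y :=
  exists_ringEquiv_of_isPushout (isPushout_N p D N)

theorem exists_θPN [IsAffine S] [IsAffine X] [Flat p] (N : (V p D).Opens) [(N : Scheme.{u}).IsQuasiAffine] :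
    ∃ θ : AX p ⊗[Γ(S, ⊤)] Γ(P p D, PN p D N) ≃+* Γ(P₃ p D, TN p D N),
      ∀ (x : AX p) (y : Γ(P p D, PN p D N)),
      θ (x ⊗ₜ[Γ(S, ⊤)] y) = ((fst₃ p D).appLE ⊤ (TN p D N) le_top).hom x *
        ((snd₃ p D).appLE (PN p D N) (TN p D N) le_rfl).hom y :=
  exists_ringEquiv_of_isPushout (isPushout_PN p D N)

end level

section chain

variable {S X : Scheme.{u}} (p : X ⟶ S) (D : SchDDFam (fun _ : PUnit.{u + 1} => p))
variable (M : ℕ → (V p D).Opens) (hM : Antitone M) (hsat : ∀ k, sat p D (M (k + 1)) ⊆ M k)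

attribute [local instance] algXN algSN algSPN

/-- restriction of sections of `V` -/
noncomputable abbrev resV {N N' : (V p D).Opens} (h : N' ≤ N) : Γ(V p D, N) ⟶ Γ(V p D, N') :=
  Scheme.Hom.appLE (𝟙 (V p D) : V p D ⟶ V p D) N N' h
/-- restriction of sections of `X ×_S V` -/
noncomputable abbrev resP {N N' : (P p D).Opens} (h : N' ≤ N) : Γ(P p D, N) ⟶ Γ(P p D, N') :=
  Scheme.Hom.appLE (𝟙 (P p D) : P p D ⟶ P p D) N N' h

/-- the rings of the tower -/
abbrev BB (k : ℕ) : Type u := Γ(V p D, M k)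
abbrev QQ (k : ℕ) : Type u := Γ(P p D, PN p D (M k))
abbrev TT (k : ℕ) : Type u := Γ(P₃ p D, TN p D (M k))

/-- the transition maps of the tower -/
noncomputable def ff (i j : ℕ) (hij : i ≤ j) : BB p D M i →ₐ[AX p] BB p D M j :=
  { toRingHom := (resV p D (hM hij)).hom
    commutes' := fun a => by
      change (resV p D (hM hij)).hom (((π p D).appLE ⊤ (M i) le_top).hom a) = ((π p D).appLE ⊤ (M j) le_top).hom a
      exact appLE_eq (Category.id_comp _) _ _ _ _ _ _ a }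

theorem ff_apply (i j : ℕ) (hij : i ≤ j) (x : BB p D M i) : ff p D M hM i j hij x = (resV p D (hM hij)).hom x := rfl

theorem ff_self (i : ℕ) (x : BB p D M i) : ff p D M hM i i le_rfl x = x :=
  id_appLE_self _ _ x

theorem ff_trans (i j k : ℕ) (hij : i ≤ j) (hjk : j ≤ k) (x : BB p D M i) :
    ff p D M hM j k hjk (ff p D M hM i j hij x) = ff p D M hM i k (hij.trans hjk) x :=
  appLE_eq (Category.id_comp _) _ _ _ _ _ _ x

variable [IsAffine S] [IsAffine X] [Flat p] [hqa : ∀ k, (M k : Scheme.{u}).IsQuasiAffine]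

/-- the flat base change isomorphisms -/
noncomputable def θN (k : ℕ) : AX p ⊗[Γ(S, ⊤)] BB p D M k ≃+* QQ p D M k := (exists_θN p D (M k)).choose

theorem θN_tmul (k : ℕ) (x : AX p) (y : BB p D M k) :
    θN p D M k (x ⊗ₜ[Γ(S, ⊤)] y) = ((fstP p D).appLE ⊤ (PN p D (M k)) le_top).hom x *
      ((sndP p D).appLE (M k) (PN p D (M k)) le_rfl).hom y :=
  (exists_θN p D (M k)).choose_spec x y

noncomputable def θPN (k : ℕ) : AX p ⊗[Γ(S, ⊤)] QQ p D M k ≃+* TT p D M k := (exists_θPN p D (M k)).choose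

theorem θPN_tmul (k : ℕ) (x : AX p) (y : QQ p D M k) :
    θPN p D M k (x ⊗ₜ[Γ(S, ⊤)] y) = ((fst₃ p D).appLE ⊤ (TN p D (M k)) le_top).hom x *
      ((snd₃ p D).appLE (PN p D (M k)) (TN p D (M k)) le_rfl).hom y :=
  (exists_θPN p D (M k)).choose_spec x y

/-- **The ring data of the chain.** -/
noncomputable def data : DescRingLevel.Data (A := Γ(S, ⊤)) (A' := AX p) (BB p D M) (ff p D M hM) (QQ p D M)
    (TT p D M) where
  fstQ k := ((fstP p D).appLE ⊤ (PN p D (M k)) le_top).hom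
  sndQ k := ((sndP p D).appLE (M k) (PN p D (M k)) le_rfl).hom
  halgQ k r := (appLE_eq rfl _ _ _ _ _ _ r).symm
  θ k := θN p D M k
  hθ k a b := θN_tmul p D M k a b
  rQ k := (resP p D (PN_mono p D (hM (Nat.le_succ k)))).hom
  rQ_fst k a := appLE_eq (Category.id_comp _) _ _ _ _ _ _ a
  rQ_snd k b := appLE_comm ((Category.id_comp _).trans (Category.comp_id _).symm) _ _ _ _ _ _ _ _ b
  actQ k := ((act p D).appLE (M k) (PN p D (M (k + 1))) (PN_le_act p D (hsat k))).hom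
  act_lin k a := appLE_eq (act_π p D) _ _ _ _ _ _ a
  act_nat k b := appLE_comm ((Category.id_comp _).trans (Category.comp_id _).symm) _ _ _ _ _ _ _ _ b
  δ k := ((δ p D).appLE (PN p D (M k)) (M k) (le_δ_PN p D (M k))).hom
  δ_fst k a := appLE_eq (δ_fst p D) _ _ _ _ _ _ a
  δ_snd k b := (appLE_eq (δ_snd p D) _ _ _ _ _ le_rfl b).trans (id_appLE_self _ _ b)
  δ_act k b := appLE_eq (δ_act p D) _ _ _ _ _ _ b
  fstT k := ((fst₃ p D).appLE ⊤ (TN p D (M k)) le_top).hom
  sndT k := ((snd₃ p D).appLE (PN p D (M k)) (TN p D (M k)) le_rfl).hom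
  θT k := (θPN p D M k : _ →+* _)
  hθT k a q := θPN_tmul p D M k a q
  θT_inj k := (θPN p D M k).injective
  mact k := ((mact p D).appLE (PN p D (M k)) (TN p D (M (k + 1))) (TN_le_mact p D (hsat k))).hom
  mact_fst k a := appLE_eq (mact_fst p D) _ _ _ _ _ _ a
  mact_snd k b := appLE_comm (mact_snd p D) _ _ _ _ _ _ _ _ b
  msnd k := ((msnd p D).appLE (PN p D (M k)) (TN p D (M (k + 1))) (TN_le_msnd p D (hM (Nat.le_succ k)))).hom
  msnd_fst k a := appLE_eq (msnd_fst p D) _ _ _ _ _ _ a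
  msnd_snd k b := by
    have h1 : ((sndP p D).appLE (M (k + 1)) (PN p D (M (k + 1))) le_rfl).hom
        (ff p D M hM k (k + 1) (Nat.le_succ k) b) =
        ((sndP p D).appLE (M k) (PN p D (M (k + 1))) (PN_mono p D (hM (Nat.le_succ k)))).hom b :=
      appLE_eq (Category.comp_id _) _ _ _ _ _ _ b
    rw [h1]
    exact appLE_comm (msnd_snd p D) _ _ _ _ _ _ _ _ b
  assoc k b := appLE_comm (mact_act p D) _ _ _ _ _ _ _ _ b

end chain

end Groth.Agent.Lib.Helper4.DescIQA
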