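import Mathlib
import Groth.Prelude.Def_DescFam
import Groth.Agent.Lib.Helper4.DescIQAData

/-!
# The germ ring of a chain of quasi-affine opens: geometry (helper4)
-/

set_option autoImplicit false
set_option backward.isDefEq.respectTransparency false
set_option linter.style.haveILetI false
set_option linter.unusedSectionVars false
universe u
open CategoryTheory CategoryTheory.Limits AlgebraicGeometry TensorProduct

namespace Groth.Agent.Lib.Helper4.DescIQA

open Desc Groth.Agent.Lib.Helper4.DescGamma Groth.Agent.Lib.Helper4.DescQAff Groth.Agent.Lib.Helper4.DescSat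
  Groth.Agent.Lib.Helper4.DescAppLE

/-- In a quasi-affine open `N`, every point has arbitrarily small affine neighbourhoods of the form `D(r)`, `r ∈ Γ(N)`. -/
theorem exists_basicOpen_of_isQuasiAffine {Z : Scheme.{u}} (N : Z.Opens) [(N : Scheme.{u}).IsQuasiAffine] (x : Z)
    (hxN : x ∈ N) (O : Z.Opens) (hxO : x ∈ O) :
    ∃ r : Γ(Z, N), IsAffineOpen (Z.basicOpen r) ∧ x ∈ Z.basicOpen r ∧ Z.basicOpen r ≤ O := by
  obtain ⟨_, ⟨_, ⟨r₀, hr₀, rfl⟩, rfl⟩, hxr, hrO⟩ :=
    (Scheme.IsQuasiAffine.isBasis_basicOpen (N : Scheme.{u})).exists_subset_of_mem_open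
      (show (⟨x, hxN⟩ : N) ∈ N.ι ⁻¹ᵁ O from hxO) (N.ι ⁻¹ᵁ O).2
  have e : N.ι ''ᵁ (N : Scheme.{u}).basicOpen r₀ = Z.basicOpen (N.topIso.hom r₀) := by
    have h := Scheme.Opens.ι_image_basicOpen_topIso_inv N (N.topIso.hom r₀)
    rwa [CategoryTheory.Iso.hom_inv_id_apply] at h
  refine ⟨N.topIso.hom r₀, ?_, ?_, ?_⟩
  · rw [← e]
    exact hr₀.image_of_isOpenImmersion N.ι
  · rw [← e]
    exact ⟨⟨x, hxN⟩, hxr, rfl⟩
  · rw [← e]
    rintro _ ⟨y, hy, rfl⟩
    exact hrO hy

/-- `O ⟶ Spec Γ(O) ⟶ Spec Γ(Z) = Z` is the composite `O ⟶ Y ⟶ Z` -/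
theorem toSpecΓ_appLE_top {Y Z : Scheme.{u}} [IsAffine Z] (g : Y ⟶ Z) (O : Y.Opens) :
    O.toSpecΓ ≫ Spec.map (g.appLE ⊤ O le_top) ≫ Z.isoSpec.inv = O.ι ≫ g := by
  rw [Scheme.Opens.toSpecΓ_SpecMap_appLE_assoc, Scheme.Opens.toSpecΓ_top, Category.assoc,
    Scheme.toSpecΓ_isoSpec_inv, Category.comp_id, Scheme.Hom.resLE_comp_ι]

section germ

variable {S X : Scheme.{u}} (p : X ⟶ S) (D : SchDDFam (fun _ : PUnit.{u + 1} => p))
variable (M : ℕ → (V p D).Opens) (hM : Antitone M) (hsat : ∀ k, sat p D (M (k + 1)) ⊆ M k)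

attribute [local instance] algXN algSN algSPN

/-- the germ ring of the chain -/
abbrev LL : Type u := DescRingLim.Lim (BB p D M) (ff p D M hM)

/-- restriction from the germ ring to an open contained in all members of the chain -/
noncomputable def κ (O : (V p D).Opens) (hO : ∀ k, O ≤ M k) : LL p D M hM →+* Γ(V p D, O) :=
  DescRingLim.lift (BB p D M) (ff p D M hM) (fun k => (resV p D (hO k)).hom)
    (fun _ _ _ x => appLE_eq (Category.id_comp _) _ _ _ _ _ _ x)

theorem κ_of (O : (V p D).Opens) (hO : ∀ k, O ≤ M k) (k : ℕ) (b : BB p D M k) :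
    κ p D M hM O hO (DescRingLim.of (BB p D M) (ff p D M hM) k b) = (resV p D (hO k)).hom b :=
  DescRingLim.lift_of _ _ _ _ k b

theorem res_κ (O O' : (V p D).Opens) (hO : ∀ k, O ≤ M k) (hO' : ∀ k, O' ≤ M k) (h : O' ≤ O) (x : LL p D M hM) :
    (resV p D h).hom (κ p D M hM O hO x) = κ p D M hM O' hO' x := by
  obtain ⟨k, b, rfl⟩ := DescRingLim.exists_of _ _ x
  rw [κ_of, κ_of]
  exact appLE_eq (Category.id_comp _) _ _ _ _ _ _ b

theorem resV_eq {N N' : (V p D).Opens} (h : N' ≤ N) : resV p D h = (V p D).presheaf.map (homOfLE h).op :=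
  id_appLE _ _ _

variable [hqa : ∀ k, (M k : Scheme.{u}).IsQuasiAffine]

/-- the sections over a small affine `D(r)`, `r` of level `0`, are the localisation of the germ ring at `r` -/
theorem isLocalization_κ (r : Γ(V p D, M 0)) (hr : ∀ k, (V p D).basicOpen r ≤ M k) :
    letI := (κ p D M hM ((V p D).basicOpen r) hr).toAlgebra
    IsLocalization.Away (DescRingLim.of (BB p D M) (ff p D M hM) 0 r) Γ(V p D, (V p D).basicOpen r) := by
  have hloc0 := isLocalization_basicOpen_of_qcqs (U := M 0) (isCompact_of_isQuasiAffine (M 0))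
    (isQuasiSeparated_of_isQuasiAffine (M 0)) r
  have halg0 : ∀ x, algebraMap Γ(V p D, M 0) Γ(V p D, (V p D).basicOpen r) x = (resV p D (hr 0)).hom x := by
    intro x
    rw [resV_eq]
    rfl
  refine DescRingLevel.isLocalization_away_lim (ff_trans p D M hM) (fun k => (resV p D (hr k)).hom)
    (fun i j hij x => appLE_eq (Category.id_comp _) _ _ _ _ _ _ x) r ?_ ?_ ?_
  · rw [← halg0]
    exact IsLocalization.Away.algebraMap_isUnit r
  · intro l
    obtain ⟨n, a, h⟩ := IsLocalization.Away.surj r l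
    exact ⟨n, a, by rw [← halg0, ← halg0]; exact h⟩
  · intro k b b' hbb'
    have hlock := isLocalization_basicOpen_of_qcqs (U := M k) (isCompact_of_isQuasiAffine (M k))
      (isQuasiSeparated_of_isQuasiAffine (M k)) (ff p D M hM 0 k (Nat.zero_le k) r)
    have hUk : (V p D).basicOpen (ff p D M hM 0 k (Nat.zero_le k) r) ≤ (V p D).basicOpen r := by
      rw [ff_apply, resV_eq, Scheme.basicOpen_res]
      exact inf_le_right
    have halgk : ∀ x : Γ(V p D, M k), algebraMap Γ(V p D, M k)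
        Γ(V p D, (V p D).basicOpen (ff p D M hM 0 k (Nat.zero_le k) r)) x =
        (resV p D hUk).hom ((resV p D (hr k)).hom x) := by
      intro x
      have hle : (V p D).basicOpen (ff p D M hM 0 k (Nat.zero_le k) r) ≤ M k := hUk.trans (hr k)
      have h5 : (resV p D hUk).hom ((resV p D (hr k)).hom x) = (resV p D hle).hom x :=
        appLE_eq (Category.id_comp _) _ _ _ _ _ _ x
      rw [h5, resV_eq]
      rfl
    have h4 : algebraMap Γ(V p D, M k) Γ(V p D, (V p D).basicOpen (ff p D M hM 0 k (Nat.zero_le k) r)) b =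
        algebraMap Γ(V p D, M k) Γ(V p D, (V p D).basicOpen (ff p D M hM 0 k (Nat.zero_le k) r)) b' := by
      rw [halgk, halgk, hbb']
    exact IsLocalization.Away.exists_of_eq (ff p D M hM 0 k (Nat.zero_le k) r) h4

/-- the canonical morphism from an open contained in all members of the chain to the spectrum of the germ ring -/
noncomputable def iW (W : (V p D).Opens) (hW : ∀ k, W ≤ M k) :
    (W : Scheme.{u}) ⟶ Spec (CommRingCat.of (LL p D M hM)) :=
  W.toSpecΓ ≫ Spec.map (CommRingCat.ofHom (κ p D M hM W hW))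

theorem isOpenImmersion_iW (W : (V p D).Opens) (hW : ∀ k, W ≤ M k) : IsOpenImmersion (iW p D M hM W hW) := by
  refine IsZariskiLocalAtTarget.of_forall_source_exists_preimage _ fun x => ?_
  obtain ⟨r, hra, hxr, hrW⟩ := exists_basicOpen_of_isQuasiAffine (M 0) x.1 (hW 0 x.2) W x.2
  have hr : ∀ k, (V p D).basicOpen r ≤ M k := fun k => hrW.trans (hW k)
  have hκr : (V p D).basicOpen (κ p D M hM W hW (DescRingLim.of (BB p D M) (ff p D M hM) 0 r)) =
      (V p D).basicOpen r := by
    rw [κ_of, resV_eq, Scheme.basicOpen_res]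
    exact inf_eq_right.mpr hrW
  have hpre : iW p D M hM W hW ⁻¹ᵁ PrimeSpectrum.basicOpen (DescRingLim.of (BB p D M) (ff p D M hM) 0 r) =
      W.ι ⁻¹ᵁ (V p D).basicOpen r := by
    rw [iW, Scheme.Hom.comp_preimage, SpecMap_preimage_basicOpen, Scheme.Opens.toSpecΓ_preimage_basicOpen]
    exact congrArg (fun O => W.ι ⁻¹ᵁ O) hκr
  refine ⟨PrimeSpectrum.basicOpen (DescRingLim.of (BB p D M) (ff p D M hM) 0 r), ?_, ?_⟩
  · show x ∈ iW p D M hM W hW ⁻¹ᵁ PrimeSpectrum.basicOpen _
    rw [hpre]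
    exact hxr
  · rw [hpre]
    have e1 : (W.ι ⁻¹ᵁ (V p D).basicOpen r).ι = (Scheme.Opens.isoOfLE hrW).hom ≫ (V p D).homOfLE hrW := by
      rw [← cancel_mono W.ι, Category.assoc, Scheme.homOfLE_ι, Scheme.Opens.isoOfLE_hom_ι]
    have e2 : (V p D).homOfLE hrW ≫ W.toSpecΓ =
        ((V p D).basicOpen r).toSpecΓ ≫ Spec.map ((V p D).presheaf.map (homOfLE hrW).op) :=
      (Scheme.Opens.toSpecΓ_SpecMap_presheaf_map _ W hrW).symm
    have e3 : CommRingCat.ofHom (κ p D M hM W hW) ≫ (V p D).presheaf.map (homOfLE hrW).op =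
        CommRingCat.ofHom (κ p D M hM ((V p D).basicOpen r) hr) := by
      ext y
      rw [← resV_eq]
      exact res_κ p D M hM W _ hW hr hrW y
    rw [iW, e1, Category.assoc, reassoc_of% e2, ← Spec.map_comp, e3]
    letI := (κ p D M hM ((V p D).basicOpen r) hr).toAlgebra
    haveI := isLocalization_κ p D M hM r hr
    have h6 : IsOpenImmersion (Spec.map (CommRingCat.ofHom (algebraMap (LL p D M hM)
        Γ(V p D, (V p D).basicOpen r)))) :=
      IsOpenImmersion.of_isLocalization (DescRingLim.of (BB p D M) (ff p D M hM) 0 r)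
    haveI : IsIso ((V p D).basicOpen r).toSpecΓ := by
      rw [← hra.isoSpec_hom]
      infer_instance
    exact MorphismProperty.comp_mem _ _ _ inferInstance (MorphismProperty.comp_mem _ _ _ inferInstance h6)

end germ

end Groth.Agent.Lib.Helper4.DescIQA
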