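import Mathlib
import Groth.Prelude.Def_DescFam
import Groth.Agent.Lib.Helper4.DescGamma

/-!
# Gluing local universal pairs of a descent datum over the affine opens of the base (helper4)

`Chart D V`: a pair `(U, ε)` over the open `V ⊆ S` which is universal among `S`-schemes factoring through `V`.
`exists_isUniv_of_charts`: charts over all affine opens of `S` glue (Mathlib's relative gluing) to a universal pair.
-/

set_option autoImplicit false
set_option backward.isDefEq.respectTransparency false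
universe w u
open CategoryTheory CategoryTheory.Limits AlgebraicGeometry

namespace Groth.Agent.Lib.Helper4.DescGlue

open Desc Groth.Agent.Lib.Helper4.DescGamma

variable {S : Scheme.{u}} {ι : Type w} {X : ι → Scheme.{u}} {f : ∀ i, X i ⟶ S}

/-- A local universal pair over the open `V`. -/
structure Chart (D : SchDDFam f) (V : S.Opens) where
  U : Over S
  w : U.left ⟶ (V : Scheme.{u})
  hw : w ≫ V.ι = U.hom
  ε : (toDDFam f).obj U ⟶ D
  univ : ∀ (T : Over S) (t' : T.left ⟶ (V : Scheme.{u})), t' ≫ V.ι = T.hom →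
    ∀ s : (toDDFam f).obj T ⟶ D, ∃! g : T ⟶ U, (toDDFam f).map g ≫ ε = s

variable {D : SchDDFam f}

section transition

variable {V V' : S.Opens} (h : V ≤ V') (C : Chart D V) (C' : Chart D V')

include h in
theorem exists_tr : ∃ m : C.U ⟶ C'.U, (toDDFam f).map m ≫ C'.ε = C.ε := by
  obtain ⟨m, hm, -⟩ := C'.univ C.U (C.w ≫ S.homOfLE h) (by rw [Category.assoc, Scheme.homOfLE_ι, C.hw]) C.ε
  exact ⟨m, hm⟩

theorem tr_unique (C' : Chart D V') {T : Over S} (t' : T.left ⟶ (V' : Scheme.{u})) (ht' : t' ≫ V'.ι = T.hom)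
    (m m' : T ⟶ C'.U) (hm : (toDDFam f).map m ≫ C'.ε = (toDDFam f).map m' ≫ C'.ε) : m = m' := by
  obtain ⟨g, -, huniq⟩ := C'.univ T t' ht' ((toDDFam f).map m' ≫ C'.ε)
  rw [huniq m hm, huniq m' rfl]

include h in
theorem tr_w (m : C.U ⟶ C'.U) : m.left ≫ C'.w = C.w ≫ S.homOfLE h := by
  rw [← cancel_mono V'.ι, Category.assoc, C'.hw, Over.w m, Category.assoc, Scheme.homOfLE_ι, C.hw]

theorem isPullback_tr (m : C.U ⟶ C'.U) (hm : (toDDFam f).map m ≫ C'.ε = C.ε) :
    IsPullback m.left C.w C'.w (S.homOfLE h) := by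
  refine ⟨⟨tr_w h C C' m⟩, ⟨PullbackCone.IsLimit.mk _ ?_ ?_ ?_ ?_⟩⟩
  · intro s
    have hT : s.snd ≫ V.ι = s.fst ≫ C'.U.hom := by
      rw [← C'.hw, ← Category.assoc, s.condition, Category.assoc, Scheme.homOfLE_ι]
    exact ((C.univ (Over.mk (s.fst ≫ C'.U.hom)) s.snd hT
      ((toDDFam f).map (Over.homMk s.fst rfl : Over.mk (s.fst ≫ C'.U.hom) ⟶ C'.U) ≫ C'.ε)).exists.choose).left
  · intro s
    have hT : s.snd ≫ V.ι = s.fst ≫ C'.U.hom := by
      rw [← C'.hw, ← Category.assoc, s.condition, Category.assoc, Scheme.homOfLE_ι]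
    have hspec := (C.univ (Over.mk (s.fst ≫ C'.U.hom)) s.snd hT
      ((toDDFam f).map (Over.homMk s.fst rfl : Over.mk (s.fst ≫ C'.U.hom) ⟶ C'.U) ≫ C'.ε)).exists.choose_spec
    set g := (C.univ (Over.mk (s.fst ≫ C'.U.hom)) s.snd hT
      ((toDDFam f).map (Over.homMk s.fst rfl : Over.mk (s.fst ≫ C'.U.hom) ⟶ C'.U) ≫ C'.ε)).exists.choose
    have hT' : (s.snd ≫ S.homOfLE h) ≫ V'.ι = (Over.mk (s.fst ≫ C'.U.hom)).hom := by
      rw [Category.assoc, Scheme.homOfLE_ι]; exact hT
    have e : g ≫ m = (Over.homMk s.fst rfl : Over.mk (s.fst ≫ C'.U.hom) ⟶ C'.U) := by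
      apply tr_unique C' _ hT'
      rw [Functor.map_comp, Category.assoc, hm]
      exact hspec
    exact congrArg (fun a => a.left) e
  · intro s
    have hT : s.snd ≫ V.ι = s.fst ≫ C'.U.hom := by
      rw [← C'.hw, ← Category.assoc, s.condition, Category.assoc, Scheme.homOfLE_ι]
    rw [← cancel_mono V.ι, Category.assoc, C.hw]
    exact (Over.w _).trans hT.symm
  · intro s m' h1 h2
    have hT : s.snd ≫ V.ι = s.fst ≫ C'.U.hom := by
      rw [← C'.hw, ← Category.assoc, s.condition, Category.assoc, Scheme.homOfLE_ι]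
    have hspec := (C.univ (Over.mk (s.fst ≫ C'.U.hom)) s.snd hT
      ((toDDFam f).map (Over.homMk s.fst rfl : Over.mk (s.fst ≫ C'.U.hom) ⟶ C'.U) ≫ C'.ε)).exists.choose_spec
    have hm'w : m' ≫ C.U.hom = (Over.mk (s.fst ≫ C'.U.hom)).hom := by
      rw [← C.hw, ← Category.assoc, h2]; exact hT
    let m'' : Over.mk (s.fst ≫ C'.U.hom) ⟶ C.U := Over.homMk m' hm'w
    have e : m'' = (C.univ (Over.mk (s.fst ≫ C'.U.hom)) s.snd hT
      ((toDDFam f).map (Over.homMk s.fst rfl : Over.mk (s.fst ≫ C'.U.hom) ⟶ C'.U) ≫ C'.ε)).exists.choose := by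
      apply tr_unique C s.snd hT
      rw [hspec, ← hm, ← Category.assoc, ← Functor.map_comp]
      congr 2
      apply Over.OverMorphism.ext
      exact h1
    exact congrArg (fun a => a.left) e

end transition

section Glue

variable (C : ∀ V : S.affineOpens, Chart D V.1)

/-- The chosen transition maps. -/
noncomputable def tr {V V' : S.affineOpens} (h : V ≤ V') : (C V).U ⟶ (C V').U :=
  (exists_tr (show V.1 ≤ V'.1 from h) (C V) (C V')).choose

theorem tr_ε {V V' : S.affineOpens} (h : V ≤ V') : (toDDFam f).map (tr C h) ≫ (C V').ε = (C V).ε :=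
  (exists_tr (show V.1 ≤ V'.1 from h) (C V) (C V')).choose_spec

theorem tr_id (V : S.affineOpens) : tr C (le_refl V) = 𝟙 _ := by
  apply tr_unique (C V) (C V).w (C V).hw
  rw [tr_ε, CategoryTheory.Functor.map_id, Category.id_comp]

theorem tr_comp {V V' V'' : S.affineOpens} (h : V ≤ V') (h' : V' ≤ V'') :
    tr C h ≫ tr C h' = tr C (h.trans h') := by
  apply tr_unique (C V'') ((C V).w ≫ S.homOfLE (show V.1 ≤ V''.1 from h.trans h'))
    (by rw [Category.assoc, Scheme.homOfLE_ι, (C V).hw])
  rw [Functor.map_comp, Category.assoc, tr_ε, tr_ε, tr_ε]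

/-- The functor of local schemes. -/
noncomputable def gFunctor : S.directedAffineCover.I₀ ⥤ Scheme.{u} where
  obj V := (C V).U.left
  map g := (tr C (leOfHom g)).left
  map_id V := congrArg (fun m => m.left) (tr_id C V)
  map_comp g g' := (congrArg (fun m => m.left) (tr_comp C (leOfHom g) (leOfHom g'))).symm

/-- The structure maps of the local schemes. -/
noncomputable def gNatTrans : gFunctor C ⟶ S.directedAffineCover.functorOfLocallyDirected where
  app V := (C V).w
  naturality V V' g := tr_w (show V.1 ≤ V'.1 from leOfHom g) (C V) (C V') (tr C (leOfHom g))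

theorem gNatTrans_equifibered : (gNatTrans C).Equifibered := by
  intro V V' g
  exact isPullback_tr (show V.1 ≤ V'.1 from leOfHom g) (C V) (C V') (tr C (leOfHom g)) (tr_ε C (leOfHom g))

/-- The relative gluing datum. -/
noncomputable def gData : Scheme.Cover.RelativeGluingData S.directedAffineCover where
  functor := gFunctor C
  natTrans := gNatTrans C
  equifibered := gNatTrans_equifibered C

/-- The glued scheme, over `S`. -/
noncomputable def gU : Over S := Over.mk (gData C).toBase

theorem gj_w (V : S.affineOpens) : colimit.ι (gData C).functor V ≫ (gU C).hom = (C V).U.hom := by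
  show colimit.ι (gData C).functor V ≫ (gData C).toBase = _
  rw [Scheme.Cover.RelativeGluingData.ι_toBase, ← (C V).hw]
  rfl

/-- The inclusions of the local schemes into the glued scheme. -/
noncomputable def gj (V : S.affineOpens) : (C V).U ⟶ gU C :=
  Over.homMk (colimit.ι (gData C).functor V) (gj_w C V)

theorem tr_gj {V V' : S.affineOpens} (h : V ≤ V') : tr C h ≫ gj C V' = gj C V := by
  apply Over.OverMorphism.ext
  show (gData C).functor.map (homOfLE h) ≫ colimit.ι (gData C).functor V' = colimit.ι (gData C).functor V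
  exact colimit.w _ _

theorem isPullback_gj (V : S.affineOpens) :
    IsPullback (C V).w (gj C V).left V.1.ι (gU C).hom :=
  (gData C).isPullback_natTrans_ι_toBase V

end Glue

section GlueEps

variable (C : ∀ V : S.affineOpens, Chart D V.1)

/-- The open cover of `X i ×_S U` by the `X i ×_S U_V`. -/
noncomputable abbrev cov (i : ι) : (pullback (f i) (gU C).hom).OpenCover :=
  (gData C).cover.pullback₁ (pullback.snd (f i) (gU C).hom)

theorem cov_cond (i : ι) (V : S.affineOpens) :
    (pullback.fst (pullback.snd (f i) (gU C).hom) ((gData C).cover.f V) ≫ pullback.fst (f i) (gU C).hom) ≫ f i =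
      pullback.snd (pullback.snd (f i) (gU C).hom) ((gData C).cover.f V) ≫ (C V).U.hom := by
  rw [Category.assoc, pullback.condition, ← Category.assoc, pullback.condition, Category.assoc]
  congr 1
  exact gj_w C V

/-- The local pieces of the glued section. -/
noncomputable def gloc (i : ι) (V : S.affineOpens) : (cov C i).X V ⟶ (D.obj i).left :=
  pt (C V).ε (pullback.fst (pullback.snd (f i) (gU C).hom) ((gData C).cover.f V) ≫ pullback.fst (f i) (gU C).hom)
    (pullback.snd (pullback.snd (f i) (gU C).hom) ((gData C).cover.f V)) (cov_cond C i V)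

theorem gloc_compat (i : ι) {V V' : S.affineOpens} (hij : (V : (cov C i).I₀) ⟶ V') :
    (cov C i).trans hij ≫ gloc C i V' = gloc C i V := by
  have hle : V ≤ V' := leOfHom (show (V : S.affineOpens) ⟶ V' from hij)
  rw [gloc, comp_pt]
  have e1 : (cov C i).trans hij ≫ pullback.fst (pullback.snd (f i) (gU C).hom) ((gData C).cover.f V') ≫
      pullback.fst (f i) (gU C).hom =
      pullback.fst (pullback.snd (f i) (gU C).hom) ((gData C).cover.f V) ≫ pullback.fst (f i) (gU C).hom := by
    rw [← Category.assoc]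
    congr 1
    exact (pullback.lift_fst _ _ _).trans (Category.comp_id _)
  have e2 : (cov C i).trans hij ≫ pullback.snd (pullback.snd (f i) (gU C).hom) ((gData C).cover.f V') =
      pullback.snd (pullback.snd (f i) (gU C).hom) ((gData C).cover.f V) ≫ (tr C hle).left :=
    pullback.lift_snd _ _ _
  refine (pt_congr (C V').ε _ e1 e2).trans ?_
  refine (map_comp_pt (tr C hle) (C V').ε _ _ (cov_cond C i V)).symm.trans ?_
  rw [tr_ε]
  rfl

/-- The components of the glued section. -/
noncomputable def mloc (i : ι) : pullback (f i) (gU C).hom ⟶ (D.obj i).left :=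
  (cov C i).glueMorphismsOfLocallyDirected (gloc C i) (fun hij => gloc_compat C i hij)

theorem cov_f_mloc (i : ι) (V : S.affineOpens) : (cov C i).f V ≫ mloc C i = gloc C i V :=
  Scheme.OpenCover.map_glueMorphismsOfLocallyDirected _ _ _ _

theorem lift_mloc {i : ι} {V : S.affineOpens} {W : Scheme.{u}} (x : W ⟶ X i) (u : W ⟶ (C V).U.left)
    (h : x ≫ f i = u ≫ (C V).U.hom) :
    pullback.lift x (u ≫ (gj C V).left) (by rw [Category.assoc, Over.w (gj C V)]; exact h) ≫ mloc C i =
      pt (C V).ε x u h := by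
  have ha : x ≫ f i = (u ≫ (gj C V).left) ≫ (gU C).hom := by rw [Category.assoc, Over.w (gj C V)]; exact h
  let b : W ⟶ (cov C i).X V := pullback.lift (pullback.lift x (u ≫ (gj C V).left) ha) u
    (by rw [pullback.lift_snd]; rfl)
  have hb : b ≫ (cov C i).f V = pullback.lift x (u ≫ (gj C V).left) ha := pullback.lift_fst _ _ _
  rw [← hb, Category.assoc, cov_f_mloc, gloc, comp_pt]
  refine pt_congr (C V).ε _ ?_ ?_
  · rw [← Category.assoc]
    have : b ≫ pullback.fst (pullback.snd (f i) (gU C).hom) ((gData C).cover.f V) =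
        pullback.lift x (u ≫ (gj C V).left) ha := pullback.lift_fst _ _ _
    rw [this, pullback.lift_fst]
  · exact pullback.lift_snd _ _ _

end GlueEps

section LocalExt

/-- Sections are determined locally on `T`. -/
theorem ext_of_cover {T : Over S} (𝒯 : T.left.OpenCover) (s₁ s₂ : (toDDFam f).obj T ⟶ D)
    (h : ∀ V : 𝒯.I₀, (toDDFam f).map (Over.homMk (𝒯.f V) rfl : Over.mk (𝒯.f V ≫ T.hom) ⟶ T) ≫ s₁ =
      (toDDFam f).map (Over.homMk (𝒯.f V) rfl : Over.mk (𝒯.f V ≫ T.hom) ⟶ T) ≫ s₂) : s₁ = s₂ := by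
  apply ext_of_pt
  intro i
  apply (𝒯.pullback₁ (pullback.snd (f i) T.hom)).hom_ext
  intro V
  change pullback.fst (pullback.snd (f i) T.hom) (𝒯.f V) ≫ _ = pullback.fst (pullback.snd (f i) T.hom) (𝒯.f V) ≫ _
  rw [comp_pt, comp_pt]
  have hc : (pullback.fst (pullback.snd (f i) T.hom) (𝒯.f V) ≫ pullback.fst (f i) T.hom) ≫ f i =
      pullback.snd (pullback.snd (f i) T.hom) (𝒯.f V) ≫ (Over.mk (𝒯.f V ≫ T.hom)).hom := by
    change _ = pullback.snd (pullback.snd (f i) T.hom) (𝒯.f V) ≫ 𝒯.f V ≫ T.hom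
    rw [Category.assoc, pullback.condition, ← Category.assoc, pullback.condition, Category.assoc]
  have e₁ := map_comp_pt (Over.homMk (𝒯.f V) rfl : Over.mk (𝒯.f V ≫ T.hom) ⟶ T) s₁ _ _ hc
  have e₂ := map_comp_pt (Over.homMk (𝒯.f V) rfl : Over.mk (𝒯.f V ≫ T.hom) ⟶ T) s₂ _ _ hc
  rw [h V] at e₁
  refine (pt_congr s₁ _ rfl ?_).trans (e₁.symm.trans (e₂.trans (pt_congr s₂ _ rfl ?_)))
  · exact pullback.condition
  · exact pullback.condition.symm

end LocalExt

section GlueUniv

variable (C : ∀ V : S.affineOpens, Chart D V.1)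

theorem mloc_hom (i : ι) : mloc C i ≫ (D.obj i).hom = pullback.fst (f i) (gU C).hom := by
  apply (cov C i).hom_ext
  intro V
  rw [← Category.assoc, cov_f_mloc, gloc, pt_hom]
  rfl

theorem mloc_φ {W : Scheme.{u}} {i k : ι} (x₀ : W ⟶ X i) (x₁ : W ⟶ X k) (t : W ⟶ (gU C).left)
    (h₀ : x₀ ≫ f i = t ≫ (gU C).hom) (h₁ : x₁ ≫ f k = t ≫ (gU C).hom) :
    (D.φ x₀ x₁ (h₀.trans h₁.symm) ⟨pullback.lift x₀ t h₀ ≫ mloc C i, by
      rw [Category.assoc, mloc_hom, pullback.lift_fst]⟩).1 = pullback.lift x₁ t h₁ ≫ mloc C k := by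
  apply ((gData C).cover.pullback₁ t).hom_ext
  intro V
  have key : ∀ (g : pullback t ((gData C).cover.f V) ⟶ W) (u : pullback t ((gData C).cover.f V) ⟶ (C V).U.left)
      (hgu : g ≫ t = u ≫ (gj C V).left),
      g ≫ ph D x₀ x₁ (h₀.trans h₁.symm) (pullback.lift x₀ t h₀ ≫ mloc C i)
        (by rw [Category.assoc, mloc_hom, pullback.lift_fst]) = g ≫ pullback.lift x₁ t h₁ ≫ mloc C k := by
    intro g u hgu
    have hx₀ : (g ≫ x₀) ≫ f i = u ≫ (C V).U.hom := by
      rw [Category.assoc, h₀, ← Category.assoc, hgu, Category.assoc, Over.w (gj C V)]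
    have hx₁ : (g ≫ x₁) ≫ f k = u ≫ (C V).U.hom := by
      rw [Category.assoc, h₁, ← Category.assoc, hgu, Category.assoc, Over.w (gj C V)]
    have l₀ : g ≫ pullback.lift x₀ t h₀ ≫ mloc C i = pt (C V).ε (g ≫ x₀) u hx₀ := by
      rw [← lift_mloc C (g ≫ x₀) u hx₀, ← Category.assoc]
      congr 1
      apply pullback.hom_ext
      · rw [Category.assoc, pullback.lift_fst, pullback.lift_fst]
      · rw [Category.assoc, pullback.lift_snd, pullback.lift_snd, hgu]
    have l₁ : g ≫ pullback.lift x₁ t h₁ ≫ mloc C k = pt (C V).ε (g ≫ x₁) u hx₁ := by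
      rw [← lift_mloc C (g ≫ x₁) u hx₁, ← Category.assoc]
      congr 1
      apply pullback.hom_ext
      · rw [Category.assoc, pullback.lift_fst, pullback.lift_fst]
      · rw [Category.assoc, pullback.lift_snd, pullback.lift_snd, hgu]
    have e := comp_ph D g x₀ x₁ (h₀.trans h₁.symm) (pullback.lift x₀ t h₀ ≫ mloc C i)
      (by rw [Category.assoc, mloc_hom, pullback.lift_fst])
    exact e.trans ((ph_congr D _ _ rfl rfl l₀).trans ((ph_pt (C V).ε (g ≫ x₀) (g ≫ x₁) u hx₀ hx₁).trans l₁.symm))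
  exact key _ _ pullback.condition

/-- The glued section. -/
noncomputable def gε : (toDDFam f).obj (gU C) ⟶ D :=
  mkSection (mloc C) (mloc_hom C) (fun x₀ x₁ t h₀ h₁ => mloc_φ C x₀ x₁ t h₀ h₁)

theorem gj_ε (V : S.affineOpens) : (toDDFam f).map (gj C V) ≫ gε C = (C V).ε := by
  apply ext_of_pt
  intro i
  rw [map_comp_pt, gε, pt_mkSection]
  exact lift_mloc C _ _ pullback.condition

theorem gε_univ : IsUniv D (gU C) (gε C) := by
  intro T s
  -- the cover of `T` and the local maps
  let 𝒯 : T.left.OpenCover := S.directedAffineCover.pullback₁ T.hom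
  let TV : S.affineOpens → Over S := fun V => Over.mk (pullback.fst T.hom V.1.ι ≫ T.hom)
  have ht' : ∀ V : S.affineOpens, pullback.snd T.hom V.1.ι ≫ V.1.ι = (TV V).hom := fun V =>
    pullback.condition.symm
  let incl : ∀ V : S.affineOpens, TV V ⟶ T := fun V => Over.homMk (pullback.fst T.hom V.1.ι) rfl
  let sV : ∀ V : S.affineOpens, (toDDFam f).obj (TV V) ⟶ D := fun V => (toDDFam f).map (incl V) ≫ s
  have hex := fun V : S.affineOpens => ((C V).univ (TV V) (pullback.snd T.hom V.1.ι) (ht' V) (sV V)).exists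
  choose gV hgV using hex
  have hgV' : ∀ V, (toDDFam f).map (gV V) ≫ (C V).ε = sV V := hgV
  -- compatibility with the transition maps
  have hcompat : ∀ {V V' : S.affineOpens} (hij : (V : 𝒯.I₀) ⟶ V'),
      𝒯.trans hij ≫ (gV V').left ≫ (gj C V').left = (gV V).left ≫ (gj C V).left := by
    intro V V' hij
    have hle : V ≤ V' := leOfHom (show (V : S.affineOpens) ⟶ V' from hij)
    have hτw : 𝒯.trans hij ≫ (TV V').hom = (TV V).hom := by
      change 𝒯.trans hij ≫ pullback.fst T.hom V'.1.ι ≫ T.hom = pullback.fst T.hom V.1.ι ≫ T.hom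
      rw [← Category.assoc]
      congr 1
      exact (pullback.lift_fst _ _ _).trans (Category.comp_id _)
    let τ : TV V ⟶ TV V' := Over.homMk (𝒯.trans hij) hτw
    have hτi : τ ≫ incl V' = incl V := by
      apply Over.OverMorphism.ext
      exact (pullback.lift_fst _ _ _).trans (Category.comp_id _)
    have e : τ ≫ gV V' = gV V ≫ tr C hle := by
      apply tr_unique (C V') (pullback.snd T.hom V.1.ι ≫ S.homOfLE (show V.1 ≤ V'.1 from hle))
        (by rw [Category.assoc, Scheme.homOfLE_ι]; exact ht' V)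
      rw [Functor.map_comp, Category.assoc, hgV', Functor.map_comp, Category.assoc, tr_ε, hgV']
      change (toDDFam f).map τ ≫ (toDDFam f).map (incl V') ≫ s = (toDDFam f).map (incl V) ≫ s
      rw [← Category.assoc, ← Functor.map_comp, hτi]
    have e' := congrArg (fun a => a.left ≫ (gj C V').left) e
    have e'' : (gV V ≫ tr C hle).left ≫ (gj C V').left = (gV V).left ≫ (gj C V).left := by
      change ((gV V).left ≫ (tr C hle).left) ≫ (gj C V').left = _
      rw [Category.assoc]
      congr 1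
      exact congrArg (fun a => a.left) (tr_gj C hle)
    exact (Category.assoc _ _ _).symm.trans (e'.trans e'')
  let G : T.left ⟶ (gU C).left :=
    𝒯.glueMorphismsOfLocallyDirected (fun V => (gV V).left ≫ (gj C V).left) (fun hij => hcompat hij)
  have hG : ∀ V : S.affineOpens, pullback.fst T.hom V.1.ι ≫ G = (gV V).left ≫ (gj C V).left := fun V =>
    Scheme.OpenCover.map_glueMorphismsOfLocallyDirected 𝒯 _ _ V
  have hGw : G ≫ (gU C).hom = T.hom := by
    apply 𝒯.hom_ext
    intro V
    change pullback.fst T.hom V.1.ι ≫ G ≫ (gU C).hom = pullback.fst T.hom V.1.ι ≫ T.hom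
    rw [← Category.assoc, hG, Category.assoc, Over.w (gj C V), Over.w (gV V)]
    rfl
  let g : T ⟶ gU C := Over.homMk G hGw
  have hincl : ∀ V, incl V ≫ g = gV V ≫ gj C V := fun V => by
    apply Over.OverMorphism.ext
    exact hG V
  refine ⟨g, ?_, ?_⟩
  · show (toDDFam f).map g ≫ gε C = s
    apply ext_of_cover 𝒯
    intro V
    change (toDDFam f).map (incl V) ≫ (toDDFam f).map g ≫ gε C = (toDDFam f).map (incl V) ≫ s
    rw [← Category.assoc, ← Functor.map_comp, hincl, Functor.map_comp, Category.assoc, gj_ε, hgV']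
  · intro g' hg'
    have hg'' : (toDDFam f).map g' ≫ gε C = s := hg'
    apply Over.OverMorphism.ext
    apply 𝒯.hom_ext
    intro V
    change pullback.fst T.hom V.1.ι ≫ g'.left = pullback.fst T.hom V.1.ι ≫ G
    rw [hG]
    have hcond : pullback.snd T.hom V.1.ι ≫ V.1.ι = (pullback.fst T.hom V.1.ι ≫ g'.left) ≫ (gU C).hom := by
      rw [Category.assoc, Over.w g']; exact pullback.condition.symm
    obtain ⟨ℓ, hℓ1, hℓ2⟩ := (isPullback_gj C V).exists_lift (pullback.snd T.hom V.1.ι)
      (pullback.fst T.hom V.1.ι ≫ g'.left) hcond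
    have hℓw : ℓ ≫ (C V).U.hom = (TV V).hom := by
      rw [← (C V).hw, ← Category.assoc, hℓ1]; exact ht' V
    let g'V : TV V ⟶ (C V).U := Over.homMk ℓ hℓw
    have hg'V : g'V ≫ gj C V = incl V ≫ g' := by
      apply Over.OverMorphism.ext
      exact hℓ2
    have e : g'V = gV V := by
      apply tr_unique (C V) (pullback.snd T.hom V.1.ι) (ht' V)
      rw [hgV', ← gj_ε C V, ← Category.assoc, ← Functor.map_comp, hg'V, Functor.map_comp, Category.assoc, hg'']
    rw [← hℓ2]
    exact congrArg (fun a => a.left ≫ (gj C V).left) e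

end GlueUniv

/-- Charts over all affine opens glue to a universal pair. -/
theorem exists_isUniv_of_charts (C : ∀ V : S.affineOpens, Nonempty (Chart D V.1)) :
    ∃ (U : Over S) (ε : (toDDFam f).obj U ⟶ D), IsUniv D U ε :=
  ⟨gU (fun V => (C V).some), gε (fun V => (C V).some), gε_univ (fun V => (C V).some)⟩

end Groth.Agent.Lib.Helper4.DescGlue
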