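import Mathlib
import Groth.Prelude.Def_DescFam
import Groth.Agent.Lib.Helper4.DescGamma

/-!
# Transport of a descent datum along isomorphisms of its members (helper4)

`transport D V' e`: the descent datum with members `V' i` obtained from `D` and isomorphisms `e i : D.obj i ≅ V' i` over `X i`;
`transportHom D V' e : D ⟶ transport D V' e` is an isomorphism (`isIso_transportHom`).
-/

set_option autoImplicit false
set_option backward.isDefEq.respectTransparency false
universe w u
open CategoryTheory CategoryTheory.Limits AlgebraicGeometry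

namespace Groth.Agent.Lib.Helper4.DescTransport

open Desc Groth.Agent.Lib.Helper4.DescGamma

variable {S : Scheme.{u}} {ι : Type w} {X : ι → Scheme.{u}} {f : ∀ i, X i ⟶ S}

/-- Points of isomorphic schemes over `Y`. -/
def liftsCongr {Y : Scheme.{u}} {V V' : Over Y} (e : V ≅ V') {T : Scheme.{u}} (x : T ⟶ Y) :
    Lifts V x ≃ Lifts V' x where
  toFun v := ⟨v.1 ≫ e.hom.left, by rw [Category.assoc, Over.w]; exact v.2⟩
  invFun v := ⟨v.1 ≫ e.inv.left, by rw [Category.assoc, Over.w]; exact v.2⟩
  left_inv v := by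
    apply Subtype.ext
    change (v.1 ≫ e.hom.left) ≫ e.inv.left = v.1
    rw [Category.assoc, ← Over.comp_left, e.hom_inv_id, Over.id_left, Category.comp_id]
  right_inv v := by
    apply Subtype.ext
    change (v.1 ≫ e.inv.left) ≫ e.hom.left = v.1
    rw [Category.assoc, ← Over.comp_left, e.inv_hom_id, Over.id_left, Category.comp_id]

/-- Transport of a descent datum along isomorphisms of its members. -/
def transport (D : SchDDFam f) (V' : ∀ i, Over (X i)) (e : ∀ i, D.obj i ≅ V' i) : SchDDFam f where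
  obj := V'
  φ T i j x₀ x₁ h := (liftsCongr (e i) x₀).symm.trans ((D.φ x₀ x₁ h).trans (liftsCongr (e j) x₁))
  φ_natural T T' g i j x₀ x₁ h y₀ y₁ hy₀ hy₁ h' v v' hv' := by
    change (D.φ y₀ y₁ h' ⟨v'.1 ≫ (e i).inv.left, _⟩).1 ≫ (e j).hom.left =
      g ≫ (D.φ x₀ x₁ h ⟨v.1 ≫ (e i).inv.left, _⟩).1 ≫ (e j).hom.left
    rw [← Category.assoc]
    congr 1
    exact D.φ_natural g x₀ x₁ h y₀ y₁ hy₀ hy₁ h' _ _ (by
      change v'.1 ≫ (e i).inv.left = g ≫ v.1 ≫ (e i).inv.left
      rw [hv', Category.assoc])
  φ_self T i x v := by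
    apply Subtype.ext
    change (D.φ x x rfl ⟨v.1 ≫ (e i).inv.left, _⟩).1 ≫ (e i).hom.left = v.1
    rw [D.φ_self]
    change (v.1 ≫ (e i).inv.left) ≫ (e i).hom.left = v.1
    rw [Category.assoc, ← Over.comp_left, (e i).inv_hom_id, Over.id_left, Category.comp_id]
  φ_comp T i j k x₀ x₁ x₂ h₀₁ h₁₂ v := by
    simp only [Equiv.trans_apply, Equiv.symm_apply_apply, D.φ_comp]

/-- The tautological morphism to the transported datum. -/
def transportHom (D : SchDDFam f) (V' : ∀ i, Over (X i)) (e : ∀ i, D.obj i ≅ V' i) : D ⟶ transport D V' e where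
  hom i := (e i).hom
  comm T i j x₀ x₁ h v w hw := by
    have hv : (liftsCongr (e i) x₀).symm w = v := by
      apply Subtype.ext
      change w.1 ≫ (e i).inv.left = v.1
      rw [hw, Category.assoc, ← Over.comp_left, (e i).hom_inv_id, Over.id_left, Category.comp_id]
    change (D.φ x₀ x₁ h ((liftsCongr (e i) x₀).symm w)).1 ≫ (e j).hom.left = _
    rw [hv]

instance isIso_transportHom (D : SchDDFam f) (V' : ∀ i, Over (X i)) (e : ∀ i, D.obj i ≅ V' i) :
    IsIso (transportHom D V' e) :=
  isIso_of_isIso_left _ (fun i => by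
    change IsIso ((Over.forget _).map (e i).hom)
    infer_instance)

end Groth.Agent.Lib.Helper4.DescTransport
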