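import Mathlib
import Groth.Prelude.Def_DescFam
import Groth.Agent.Lib.Helper4.DescGamma
import Groth.Agent.Lib.Helper4.DescTransport
import Groth.Agent.Lib.Helper4.DescRing

/-!
# Effective descent for affine schemes: the case of `Spec A' ⟶ Spec A` flat (helper4)

A descent datum on `Spec B ⟶ Spec A'` relative to `Spec A' ⟶ Spec A` is translated into a coaction
`ρ : B → A' ⊗[A] B` (`rho`), evaluated on `Spec Q`-points (`Phi`).  The descended scheme is `Spec C₀` for the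
subalgebra `C₀ = {b | ρ b = 1 ⊗ b}`.
-/

set_option autoImplicit false
set_option backward.isDefEq.respectTransparency false
set_option linter.style.haveILetI false
universe u
open CategoryTheory CategoryTheory.Limits AlgebraicGeometry TensorProduct

namespace Groth.Agent.Lib.Helper4.DescAffine

open Desc Groth.Agent.Lib.Helper4.DescGamma Groth.Agent.Lib.Helper4.DescTransport
  Groth.Agent.Lib.Helper4.DescRing

variable (A A' B : Type u) [CommRing A] [CommRing A'] [CommRing B] [Algebra A A'] [Algebra A' B] [Algebra A B]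
  [IsScalarTower A A' B]

/-- `Spec A' ⟶ Spec A` -/
noncomputable abbrev pS : Spec (.of A') ⟶ Spec (.of A) := Spec.map (CommRingCat.ofHom (algebraMap A A'))

/-- `Spec B ⟶ Spec A'` -/
noncomputable abbrev pY : Spec (.of B) ⟶ Spec (.of A') := Spec.map (CommRingCat.ofHom (algebraMap A' B))

variable {A A' B}
variable (D₀ : SchDDFam (fun _ : PUnit.{u + 1} => pS A A')) (e : D₀.obj ⟨⟩ ≅ Over.mk (pY A' B))

/-- The datum with member literally `Spec B ⟶ Spec A'`. -/
noncomputable abbrev DD : SchDDFam (fun _ : PUnit.{u + 1} => pS A A') :=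
  transport D₀ (fun _ => Over.mk (pY A' B)) (fun _ => e)

section Phi

variable {Q : Type u} [CommRing Q]

theorem cond_aux (ξ : A' →+* Q) (β : B →+* Q) (h : ξ.comp (algebraMap A A') = β.comp (algebraMap A B)) :
    Spec.map (CommRingCat.ofHom (β.comp (algebraMap A' B))) ≫ pS A A' =
      Spec.map (CommRingCat.ofHom ξ) ≫ pS A A' := by
  rw [← Spec.map_comp, ← Spec.map_comp]
  congr 1
  ext a
  have := congrArg (fun g => g a) h
  simp only [RingHom.comp_apply] at this
  simp [this, ← IsScalarTower.algebraMap_apply]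

theorem hd_aux (β : B →+* Q) :
    Spec.map (CommRingCat.ofHom β) ≫ pY A' B = Spec.map (CommRingCat.ofHom (β.comp (algebraMap A' B))) := by
  rw [← Spec.map_comp]
  rfl

/-- The gluing bijection on `Spec Q`-points, as an operation on ring homomorphisms. -/
noncomputable def Phi (ξ : A' →+* Q) (β : B →+* Q) (h : ξ.comp (algebraMap A A') = β.comp (algebraMap A B)) :
    B →+* Q :=
  (Spec.preimage (ph (DD D₀ e) (i := ⟨⟩) (j := ⟨⟩) (Spec.map (CommRingCat.ofHom (β.comp (algebraMap A' B))))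
    (Spec.map (CommRingCat.ofHom ξ)) (cond_aux ξ β h) (Spec.map (CommRingCat.ofHom β)) (hd_aux β))).hom

theorem spec_Phi (ξ : A' →+* Q) (β : B →+* Q) (h : ξ.comp (algebraMap A A') = β.comp (algebraMap A B)) :
    Spec.map (CommRingCat.ofHom (Phi D₀ e ξ β h)) =
      ph (DD D₀ e) (i := ⟨⟩) (j := ⟨⟩) (Spec.map (CommRingCat.ofHom (β.comp (algebraMap A' B))))
        (Spec.map (CommRingCat.ofHom ξ)) (cond_aux ξ β h) (Spec.map (CommRingCat.ofHom β)) (hd_aux β) := by
  rw [Phi, CommRingCat.ofHom_hom, Spec.map_preimage]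

theorem Phi_congr {ξ ξ' : A' →+* Q} {β β' : B →+* Q} (h : ξ.comp (algebraMap A A') = β.comp (algebraMap A B))
    (eξ : ξ = ξ') (eβ : β = β') :
    Phi D₀ e ξ β h = Phi D₀ e ξ' β' (by rw [← eξ, ← eβ]; exact h) := by
  subst eξ eβ; rfl

/-- P1 -/
theorem Phi_comp_algebraMap (ξ : A' →+* Q) (β : B →+* Q)
    (h : ξ.comp (algebraMap A A') = β.comp (algebraMap A B)) :
    (Phi D₀ e ξ β h).comp (algebraMap A' B) = ξ := by
  have h1 := ph_hom (DD D₀ e) (i := ⟨⟩) (j := ⟨⟩) (Spec.map (CommRingCat.ofHom (β.comp (algebraMap A' B))))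
    (Spec.map (CommRingCat.ofHom ξ)) (cond_aux ξ β h) (Spec.map (CommRingCat.ofHom β)) (hd_aux β)
  have h2 : Spec.map (CommRingCat.ofHom (Phi D₀ e ξ β h)) ≫ pY A' B = Spec.map (CommRingCat.ofHom ξ) :=
    (congrArg (· ≫ pY A' B) (spec_Phi D₀ e ξ β h)).trans h1
  rw [hd_aux] at h2
  have h3 := Spec.map_injective h2
  exact congrArg CommRingCat.Hom.hom h3

theorem Phi_comp_algebraMap' (ξ : A' →+* Q) (β : B →+* Q)
    (h : ξ.comp (algebraMap A A') = β.comp (algebraMap A B)) :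
    (Phi D₀ e ξ β h).comp (algebraMap A B) = β.comp (algebraMap A B) := by
  have e1 : (Phi D₀ e ξ β h).comp (algebraMap A B) =
      ((Phi D₀ e ξ β h).comp (algebraMap A' B)).comp (algebraMap A A') := by
    rw [RingHom.comp_assoc, ← IsScalarTower.algebraMap_eq]
  rw [e1, Phi_comp_algebraMap, h]

theorem self_aux (β : B →+* Q) :
    (β.comp (algebraMap A' B)).comp (algebraMap A A') = β.comp (algebraMap A B) := by
  rw [RingHom.comp_assoc, ← IsScalarTower.algebraMap_eq]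

/-- P2 -/
theorem Phi_self (β : B →+* Q) : Phi D₀ e (β.comp (algebraMap A' B)) β (self_aux β) = β := by
  have h1 := ph_self (DD D₀ e) (i := ⟨⟩) (Spec.map (CommRingCat.ofHom (β.comp (algebraMap A' B))))
    (Spec.map (CommRingCat.ofHom β)) (hd_aux β)
  have h2 := (spec_Phi D₀ e (β.comp (algebraMap A' B)) β (self_aux β)).trans h1
  exact congrArg CommRingCat.Hom.hom (Spec.map_injective h2)

/-- P3 -/
theorem Phi_Phi (ξ₁ ξ₂ : A' →+* Q) (β : B →+* Q) (h₁ : ξ₁.comp (algebraMap A A') = β.comp (algebraMap A B))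
    (h₂ : ξ₂.comp (algebraMap A A') = β.comp (algebraMap A B)) :
    Phi D₀ e ξ₂ (Phi D₀ e ξ₁ β h₁) (h₂.trans (Phi_comp_algebraMap' D₀ e ξ₁ β h₁).symm) = Phi D₀ e ξ₂ β h₂ := by
  have h1 := ph_ph (DD D₀ e) (i := ⟨⟩) (j := ⟨⟩) (k := ⟨⟩)
    (Spec.map (CommRingCat.ofHom (β.comp (algebraMap A' B)))) (Spec.map (CommRingCat.ofHom ξ₁))
    (Spec.map (CommRingCat.ofHom ξ₂)) (cond_aux ξ₁ β h₁)
    (by rw [← cond_aux ξ₁ β h₁, cond_aux ξ₂ β h₂]) (Spec.map (CommRingCat.ofHom β)) (hd_aux β)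
  have h2 := spec_Phi D₀ e ξ₂ (Phi D₀ e ξ₁ β h₁) (h₂.trans (Phi_comp_algebraMap' D₀ e ξ₁ β h₁).symm)
  have h3 := ph_congr (DD D₀ e) (i := ⟨⟩) (j := ⟨⟩)
    (x₀ := Spec.map (CommRingCat.ofHom ((Phi D₀ e ξ₁ β h₁).comp (algebraMap A' B))))
    (x₁ := Spec.map (CommRingCat.ofHom ξ₂))
    (cond_aux ξ₂ (Phi D₀ e ξ₁ β h₁) (h₂.trans (Phi_comp_algebraMap' D₀ e ξ₁ β h₁).symm))
    (d := Spec.map (CommRingCat.ofHom (Phi D₀ e ξ₁ β h₁))) (hd_aux _)
    (show Spec.map (CommRingCat.ofHom ((Phi D₀ e ξ₁ β h₁).comp (algebraMap A' B))) =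
      Spec.map (CommRingCat.ofHom ξ₁) by rw [Phi_comp_algebraMap]) rfl (spec_Phi D₀ e ξ₁ β h₁)
  have h4 := h2.trans (h3.trans (h1.trans (spec_Phi D₀ e ξ₂ β h₂).symm))
  exact congrArg CommRingCat.Hom.hom (Spec.map_injective h4)

/-- P4 -/
theorem comp_Phi {Q' : Type u} [CommRing Q'] (γ : Q →+* Q') (ξ : A' →+* Q) (β : B →+* Q)
    (h : ξ.comp (algebraMap A A') = β.comp (algebraMap A B)) :
    γ.comp (Phi D₀ e ξ β h) = Phi D₀ e (γ.comp ξ) (γ.comp β)
      (by rw [RingHom.comp_assoc, h, RingHom.comp_assoc]) := by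
  have h1 := comp_ph (DD D₀ e) (Spec.map (CommRingCat.ofHom γ)) (i := ⟨⟩) (j := ⟨⟩)
    (Spec.map (CommRingCat.ofHom (β.comp (algebraMap A' B)))) (Spec.map (CommRingCat.ofHom ξ))
    (cond_aux ξ β h) (Spec.map (CommRingCat.ofHom β)) (hd_aux β)
  have h0 : Spec.map (CommRingCat.ofHom (γ.comp (Phi D₀ e ξ β h))) =
      Spec.map (CommRingCat.ofHom γ) ≫ Spec.map (CommRingCat.ofHom (Phi D₀ e ξ β h)) := by
    rw [← Spec.map_comp]; rfl
  have h2 := spec_Phi D₀ e (γ.comp ξ) (γ.comp β) (by rw [RingHom.comp_assoc, h, RingHom.comp_assoc])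
  have h3 := ph_congr (DD D₀ e) (i := ⟨⟩) (j := ⟨⟩)
    (x₀ := Spec.map (CommRingCat.ofHom γ) ≫ Spec.map (CommRingCat.ofHom (β.comp (algebraMap A' B))))
    (x₁ := Spec.map (CommRingCat.ofHom γ) ≫ Spec.map (CommRingCat.ofHom ξ))
    (by rw [Category.assoc, cond_aux ξ β h, Category.assoc])
    (d := Spec.map (CommRingCat.ofHom γ) ≫ Spec.map (CommRingCat.ofHom β))
    ((Category.assoc _ _ _).trans (congrArg (Spec.map (CommRingCat.ofHom γ) ≫ ·) (hd_aux β)))
    (show _ = Spec.map (CommRingCat.ofHom ((γ.comp β).comp (algebraMap A' B))) by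
      rw [← Spec.map_comp]; rfl)
    (show _ = Spec.map (CommRingCat.ofHom (γ.comp ξ)) by rw [← Spec.map_comp]; rfl)
    (show _ = Spec.map (CommRingCat.ofHom (γ.comp β)) by rw [← Spec.map_comp]; rfl)
  have h4 := h0.trans ((congrArg (Spec.map (CommRingCat.ofHom γ) ≫ ·) (spec_Phi D₀ e ξ β h)).trans
    (h1.trans (h3.trans h2.symm)))
  exact congrArg CommRingCat.Hom.hom (Spec.map_injective h4)

end Phi

section rho

omit [Algebra A' B] [IsScalarTower A A' B] in
theorem rho_aux : (Algebra.TensorProduct.includeLeftRingHom : A' →+* A' ⊗[A] B).comp (algebraMap A A') =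
    (Algebra.TensorProduct.includeRight : B →ₐ[A] A' ⊗[A] B).toRingHom.comp (algebraMap A B) := by
  ext a
  simp [Algebra.TensorProduct.algebraMap_apply]

/-- The coaction, as a ring homomorphism. -/
noncomputable def rhoRing : B →+* A' ⊗[A] B :=
  Phi D₀ e Algebra.TensorProduct.includeLeftRingHom
    (Algebra.TensorProduct.includeRight : B →ₐ[A] A' ⊗[A] B).toRingHom rho_aux

/-- The coaction. -/
noncomputable def rho : B →ₐ[A] A' ⊗[A] B :=
  { rhoRing D₀ e with
    commutes' := fun a => by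
      have h := Phi_comp_algebraMap' D₀ e Algebra.TensorProduct.includeLeftRingHom
        (Algebra.TensorProduct.includeRight : B →ₐ[A] A' ⊗[A] B).toRingHom rho_aux
      have h2 := congrArg (fun g => g a) h
      simp only [RingHom.comp_apply] at h2
      change rhoRing D₀ e (algebraMap A B a) = _
      rw [rhoRing, h2]
      simp }

theorem rho_apply (b : B) : rho D₀ e b = rhoRing D₀ e b := rfl

theorem rho_lin (a : A') : rho D₀ e (algebraMap A' B a) = a ⊗ₜ[A] (1 : B) := by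
  have h := Phi_comp_algebraMap D₀ e Algebra.TensorProduct.includeLeftRingHom
    (Algebra.TensorProduct.includeRight : B →ₐ[A] A' ⊗[A] B).toRingHom rho_aux
  have h2 := congrArg (fun g => g a) h
  simpa [rho_apply, rhoRing] using h2

theorem rho_counit (b : B) : mu (rho D₀ e b) = b := by
  have h1 := comp_Phi D₀ e (mu (A := A) (A' := A') (B := B)).toRingHom Algebra.TensorProduct.includeLeftRingHom
    (Algebra.TensorProduct.includeRight : B →ₐ[A] A' ⊗[A] B).toRingHom rho_aux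
  have e1 : (mu (A := A) (A' := A') (B := B)).toRingHom.comp Algebra.TensorProduct.includeLeftRingHom =
      (RingHom.id B).comp (algebraMap A' B) := by
    ext a; simp
  have e2 : (mu (A := A) (A' := A') (B := B)).toRingHom.comp
      (Algebra.TensorProduct.includeRight : B →ₐ[A] A' ⊗[A] B).toRingHom = RingHom.id B := by
    ext b; simp
  have h2 := h1.trans ((Phi_congr D₀ e _ e1 e2).trans (Phi_self D₀ e (RingHom.id B)))
  have h3 := congrArg (fun g => g b) h2
  simpa [rho_apply, rhoRing] using h3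

theorem rho_coassoc (b : B) :
    Algebra.TensorProduct.map (AlgHom.id A A') (rho D₀ e) (rho D₀ e b) =
      Algebra.TensorProduct.map (AlgHom.id A A') Algebra.TensorProduct.includeRight (rho D₀ e b) := by
  let incL' : A' →+* A' ⊗[A] (A' ⊗[A] B) := Algebra.TensorProduct.includeLeftRingHom
  let incR' : A' ⊗[A] B →+* A' ⊗[A] (A' ⊗[A] B) :=
    (Algebra.TensorProduct.includeRight : A' ⊗[A] B →ₐ[A] A' ⊗[A] (A' ⊗[A] B)).toRingHom
  let incL : A' →+* A' ⊗[A] B := Algebra.TensorProduct.includeLeftRingHom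
  let incR : B →+* A' ⊗[A] B := (Algebra.TensorProduct.includeRight : B →ₐ[A] A' ⊗[A] B).toRingHom
  let γ₁ : A' ⊗[A] B →+* A' ⊗[A] (A' ⊗[A] B) :=
    (Algebra.TensorProduct.map (AlgHom.id A A') (rho D₀ e)).toRingHom
  let γ₂ : A' ⊗[A] B →+* A' ⊗[A] (A' ⊗[A] B) :=
    (Algebra.TensorProduct.map (AlgHom.id A A') (Algebra.TensorProduct.includeRight : B →ₐ[A] A' ⊗[A] B)).toRingHom
  -- left side
  have l1 := comp_Phi D₀ e γ₁ incL incR rho_aux
  have a1 : γ₁.comp incL = incL' := by ext a; simp [γ₁, incL, incL']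
  have a2 : γ₁.comp incR = incR'.comp (rhoRing D₀ e) := by
    ext b; simp [γ₁, incR, incR', rho_apply]
  have l2 := comp_Phi D₀ e incR' incL incR rho_aux
  have hγ₁ : (γ₁.comp incL).comp (algebraMap A A') = (γ₁.comp incR).comp (algebraMap A B) := by
    rw [RingHom.comp_assoc, rho_aux, RingHom.comp_assoc]
  have l3 := (Phi_congr D₀ e hγ₁ a1 (a2.trans l2))
  have hβ : (incR'.comp incL).comp (algebraMap A A') = (incR'.comp incR).comp (algebraMap A B) := by
    rw [RingHom.comp_assoc, rho_aux, RingHom.comp_assoc]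
  have hβ2 : incL'.comp (algebraMap A A') = (incR'.comp incR).comp (algebraMap A B) := by
    ext a
    simp only [incL', incR', incR, RingHom.comp_apply, Algebra.TensorProduct.includeLeftRingHom_apply,
      AlgHom.toRingHom_eq_coe, RingHom.coe_coe, Algebra.TensorProduct.includeRight_apply]
    calc (algebraMap A A' a) ⊗ₜ[A] (1 : A' ⊗[A] B) = a • ((1 : A') ⊗ₜ[A] (1 : A' ⊗[A] B)) := by
          rw [TensorProduct.smul_tmul', Algebra.smul_def, mul_one]
      _ = (1 : A') ⊗ₜ[A] (a • (1 : A' ⊗[A] B)) := by rw [TensorProduct.tmul_smul]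
      _ = (1 : A') ⊗ₜ[A] ((1 : A') ⊗ₜ[A] (algebraMap A B a)) := by
          congr 1
          rw [Algebra.TensorProduct.one_def, ← TensorProduct.tmul_smul, Algebra.smul_def, mul_one]
  have l4 := Phi_Phi D₀ e (incR'.comp incL) incL' (incR'.comp incR) hβ hβ2
  have L : γ₁.comp (rhoRing D₀ e) = Phi D₀ e incL' (incR'.comp incR) hβ2 := l1.trans (l3.trans l4)
  -- right side
  have r1 := comp_Phi D₀ e γ₂ incL incR rho_aux
  have b1 : γ₂.comp incL = incL' := by ext a; simp [γ₂, incL, incL']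
  have b2 : γ₂.comp incR = incR'.comp incR := by ext b; simp [γ₂, incR, incR']
  have hγ₂ : (γ₂.comp incL).comp (algebraMap A A') = (γ₂.comp incR).comp (algebraMap A B) := by
    rw [RingHom.comp_assoc, rho_aux, RingHom.comp_assoc]
  have Rr : γ₂.comp (rhoRing D₀ e) = Phi D₀ e incL' (incR'.comp incR) hβ2 := r1.trans (Phi_congr D₀ e hγ₂ b1 b2)
  have := congrArg (fun g => g b) (L.trans Rr.symm)
  simpa [γ₁, γ₂, rho_apply] using this

end rho

section descended

/-- The descended algebra. -/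
noncomputable def C0 : Subalgebra A B :=
  AlgHom.equalizer (rho D₀ e) (Algebra.TensorProduct.includeRight : B →ₐ[A] A' ⊗[A] B)

theorem mem_C0 (b : B) : b ∈ C0 D₀ e ↔ rho D₀ e b = (1 : A') ⊗ₜ[A] b := by
  rw [C0, AlgHom.mem_equalizer]
  rfl

theorem bijective_lam_C0 [Module.Flat A A'] : Function.Bijective (lam (A' := A') (C0 D₀ e)) :=
  bijective_lam (rho D₀ e) (rho_lin D₀ e) (rho_counit D₀ e) (rho_coassoc D₀ e) (C0 D₀ e) (mem_C0 D₀ e)

/-- `Spec C₀ ⟶ Spec A` -/
noncomputable abbrev u0 : Spec (.of (C0 D₀ e)) ⟶ Spec (.of A) :=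
  Spec.map (CommRingCat.ofHom (algebraMap A (C0 D₀ e)))

/-- `Spec B ⟶ Spec C₀` -/
noncomputable abbrev q0 : Spec (.of B) ⟶ Spec (.of (C0 D₀ e)) :=
  Spec.map (CommRingCat.ofHom (algebraMap (C0 D₀ e) B))

theorem isPushout_C0 [Module.Flat A A'] :
    IsPushout (CommRingCat.ofHom (algebraMap A A')) (CommRingCat.ofHom (algebraMap A (C0 D₀ e)))
      (CommRingCat.ofHom (algebraMap A' B)) (CommRingCat.ofHom (algebraMap (C0 D₀ e) B)) := by
  let E : A' ⊗[A] (C0 D₀ e) ≃+* B := RingEquiv.ofBijective (lam (A' := A') (C0 D₀ e)).toRingHom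
    (bijective_lam_C0 D₀ e)
  refine (CommRingCat.isPushout_tensorProduct A A' (C0 D₀ e)).of_iso (Iso.refl _) (Iso.refl _) (Iso.refl _)
    E.toCommRingCatIso (by simp) (by simp) ?_ ?_
  · ext a
    simp [E]
  · ext c
    simp [E]

theorem isPullback_C0 [Module.Flat A A'] : IsPullback (pY A' B) (q0 D₀ e) (pS A A') (u0 D₀ e) :=
  isPullback_SpecMap_of_isPushout _ _ _ _ (isPushout_C0 D₀ e)

/-- The lift `A' ⊗ B → Q` of a pair of ring homomorphisms. -/
noncomputable def liftQ {Q : Type u} [CommRing Q] (ξ : A' →+* Q) (β : B →+* Q)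
    (h : ξ.comp (algebraMap A A') = β.comp (algebraMap A B)) : A' ⊗[A] B →+* Q :=
  letI : Algebra A Q := (ξ.comp (algebraMap A A')).toAlgebra
  (Algebra.TensorProduct.lift (⟨ξ, fun _ => rfl⟩ : A' →ₐ[A] Q)
    (⟨β, fun a => (congrArg (fun g => g a) h).symm⟩ : B →ₐ[A] Q) (fun _ _ => Commute.all _ _)).toRingHom

omit [Algebra A' B] [IsScalarTower A A' B] in
theorem liftQ_tmul {Q : Type u} [CommRing Q] (ξ : A' →+* Q) (β : B →+* Q)
    (h : ξ.comp (algebraMap A A') = β.comp (algebraMap A B)) (a : A') (b : B) :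
    liftQ ξ β h (a ⊗ₜ[A] b) = ξ a * β b := by
  letI : Algebra A Q := (ξ.comp (algebraMap A A')).toAlgebra
  simp [liftQ]

theorem Phi_eq_liftQ {Q : Type u} [CommRing Q] (ξ : A' →+* Q) (β : B →+* Q)
    (h : ξ.comp (algebraMap A A') = β.comp (algebraMap A B)) :
    Phi D₀ e ξ β h = (liftQ ξ β h).comp (rhoRing D₀ e) := by
  have h1 := comp_Phi D₀ e (liftQ ξ β h) Algebra.TensorProduct.includeLeftRingHom
    (Algebra.TensorProduct.includeRight : B →ₐ[A] A' ⊗[A] B).toRingHom rho_aux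
  have e1 : (liftQ ξ β h).comp Algebra.TensorProduct.includeLeftRingHom = ξ := by
    ext a; simp [liftQ_tmul]
  have e2 : (liftQ ξ β h).comp (Algebra.TensorProduct.includeRight : B →ₐ[A] A' ⊗[A] B).toRingHom = β := by
    ext b; simp [liftQ_tmul]
  have hc : ((liftQ ξ β h).comp Algebra.TensorProduct.includeLeftRingHom).comp (algebraMap A A') =
      ((liftQ ξ β h).comp (Algebra.TensorProduct.includeRight : B →ₐ[A] A' ⊗[A] B).toRingHom).comp
        (algebraMap A B) := by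
    rw [RingHom.comp_assoc, rho_aux, RingHom.comp_assoc]
  exact (h1.trans (Phi_congr D₀ e hc e1 e2)).symm

/-- `Spec B ⟶ Spec C₀` is invariant under the gluing bijections: affine test schemes. -/
theorem ph_q0_affine (Q : CommRingCat.{u}) (x₀ x₁ : Spec Q ⟶ Spec (.of A'))
    (h : x₀ ≫ pS A A' = x₁ ≫ pS A A') (d : Spec Q ⟶ Spec (.of B)) (hd : d ≫ pY A' B = x₀) :
    ph (DD D₀ e) (i := ⟨⟩) (j := ⟨⟩) x₀ x₁ h d hd ≫ q0 D₀ e = d ≫ q0 D₀ e := by
  obtain ⟨ξ, rfl⟩ : ∃ ξ : A' →+* Q, x₁ = Spec.map (CommRingCat.ofHom ξ) :=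
    ⟨(Spec.preimage x₁).hom, by rw [CommRingCat.ofHom_hom, Spec.map_preimage]⟩
  obtain ⟨β, rfl⟩ : ∃ β : B →+* Q, d = Spec.map (CommRingCat.ofHom β) :=
    ⟨(Spec.preimage d).hom, by rw [CommRingCat.ofHom_hom, Spec.map_preimage]⟩
  have hx₀ : x₀ = Spec.map (CommRingCat.ofHom (β.comp (algebraMap A' B))) := hd.symm.trans (hd_aux β)
  subst hx₀
  have hξβ : ξ.comp (algebraMap A A') = β.comp (algebraMap A B) := by
    have h1 : Spec.map (CommRingCat.ofHom (β.comp (algebraMap A' B))) ≫ pS A A' =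
        Spec.map (CommRingCat.ofHom ξ) ≫ pS A A' := h
    rw [← Spec.map_comp, ← Spec.map_comp] at h1
    have h2 := congrArg CommRingCat.Hom.hom (Spec.map_injective h1)
    rw [← self_aux (A := A) (A' := A') β]
    exact h2.symm
  have h3 := spec_Phi D₀ e ξ β hξβ
  rw [← h3, ← Spec.map_comp, ← Spec.map_comp]
  congr 1
  ext c
  change Phi D₀ e ξ β hξβ (c : B) = β (c : B)
  rw [Phi_eq_liftQ]
  change liftQ ξ β hξβ (rho D₀ e (c : B)) = β (c : B)
  rw [(mem_C0 D₀ e c).mp c.2, liftQ_tmul, map_one, one_mul]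

/-- `Spec B ⟶ Spec C₀` is invariant under the gluing bijections. -/
theorem ph_q0 {W : Scheme.{u}} (x₀ x₁ : W ⟶ Spec (.of A')) (h : x₀ ≫ pS A A' = x₁ ≫ pS A A')
    (d : W ⟶ Spec (.of B)) (hd : d ≫ pY A' B = x₀) :
    ph (DD D₀ e) (i := ⟨⟩) (j := ⟨⟩) x₀ x₁ h d hd ≫ q0 D₀ e = d ≫ q0 D₀ e := by
  apply W.affineCover.hom_ext
  intro i
  have e1 := comp_ph (DD D₀ e) (W.affineCover.f i) (i := ⟨⟩) (j := ⟨⟩) x₀ x₁ h d hd
  refine (Category.assoc _ _ _).symm.trans ((congrArg (· ≫ q0 D₀ e) e1).trans ?_)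
  refine (ph_q0_affine D₀ e _ _ _ _ _ _).trans (Category.assoc _ _ _)

end descended

section main

variable [Module.Flat A A']

/-- **Effective descent for `Spec B ⟶ Spec A'` along a flat `Spec A' ⟶ Spec A`.** -/
theorem exists_isIso (D₀ : SchDDFam (fun _ : PUnit.{u + 1} => pS A A')) (e : D₀.obj ⟨⟩ ≅ Over.mk (pY A' B)) :
    ∃ (U : Over (Spec (.of A))) (ε : (toDDFam (fun _ : PUnit.{u + 1} => pS A A')).obj U ⟶ D₀), IsIso ε := by
  have hpb := isPullback_C0 D₀ e
  let m : pullback (pS A A') (u0 D₀ e) ⟶ Spec (.of B) := hpb.isoPullback.inv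
  have hm1 : m ≫ pY A' B = pullback.fst (pS A A') (u0 D₀ e) := hpb.isoPullback_inv_fst
  have hm2 : m ≫ q0 D₀ e = pullback.snd (pS A A') (u0 D₀ e) := hpb.isoPullback_inv_snd
  let ε : (toDDFam (fun _ : PUnit.{u + 1} => pS A A')).obj (Over.mk (u0 D₀ e)) ⟶ DD D₀ e :=
    mkSection (D := DD D₀ e) (T := Over.mk (u0 D₀ e)) (fun _ => m) (fun _ => hm1)
      (fun {W i j} x₀ x₁ t h₀ h₁ => by
        apply hpb.hom_ext
        · refine (ph_hom (DD D₀ e) _ _ _ _ _).trans ?_
          rw [Category.assoc, hm1]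
          exact (pullback.lift_fst _ _ _).symm
        · refine (ph_q0 D₀ e _ _ _ _ _).trans ?_
          rw [Category.assoc, Category.assoc, hm2]
          exact (pullback.lift_snd _ _ _).trans (pullback.lift_snd _ _ _).symm)
  have hε : IsIso ε := isIso_of_isIso_left ε (fun _ => by
    change IsIso m
    infer_instance)
  exact ⟨Over.mk (u0 D₀ e), ε ≫ inv (transportHom D₀ (fun _ => Over.mk (pY A' B)) (fun _ => e)), inferInstance⟩

end main

end Groth.Agent.Lib.Helper4.DescAffine
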