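import Mathlib
import Groth.Prelude.Def_DescFam
import Groth.Agent.Lib.Helper4.DescGamma

/-!
# Sections of a descent datum are invariant under pullback to a covering family (helper4)

For a morphism of families `(α, p, p')` from `f' : X' j ⟶ S'` to `f : X i ⟶ S` and a descent datum `D` relative to `f`,
restriction `res : ((toDDFam f).obj (push p T') ⟶ D) → ((toDDFam f').obj T' ⟶ (pullDDFam w).obj D)` is a bijection as soon as
`f'` is an fpqc covering family of `S'` (`res_injective`, `res_surjective`), naturally in `T'` (`res_natural`).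
Consequence `exists_univ_push`: a universal pair for the pulled back datum gives a pair for `D` which is universal among
the `S`-schemes `push p T'`.
-/

set_option autoImplicit false
set_option backward.isDefEq.respectTransparency false
universe w' w u
open CategoryTheory CategoryTheory.Limits AlgebraicGeometry

namespace Groth.Agent.Lib.Helper4.DescPull

open Desc Groth.Agent.Lib.Helper4.DescGamma Groth.Agent.Lib.Helper4.SheafGlue

variable {S : Scheme.{u}} {ι : Type w} {X : ι → Scheme.{u}} {f : ∀ i, X i ⟶ S}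
  {S' : Scheme.{u}} {ι' : Type w'} {X' : ι' → Scheme.{u}} {f' : ∀ j, X' j ⟶ S'}
  {α : ι' → ι} {p : S' ⟶ S} {p' : ∀ j, X' j ⟶ X (α j)} (w : ∀ j, p' j ≫ f (α j) = f' j ≫ p)

/-- An `S'`-scheme as an `S`-scheme. -/
abbrev push (p : S' ⟶ S) (T' : Over S') : Over S := Over.mk (T'.hom ≫ p)

/-- A morphism of `S'`-schemes as a morphism of `S`-schemes. -/
abbrev pushMap (p : S' ⟶ S) {T' U' : Over S'} (g : T' ⟶ U') : push p T' ⟶ push p U' :=
  Over.homMk g.left (by change g.left ≫ U'.hom ≫ p = T'.hom ≫ p; rw [← Category.assoc, Over.w g])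

variable (D : SchDDFam f)

include w in
theorem cond_push {T' : Over S'} {W : Scheme.{u}} {j : ι'} (x : W ⟶ X' j) (t : W ⟶ T'.left)
    (h : x ≫ f' j = t ≫ T'.hom) : (x ≫ p' j) ≫ f (α j) = t ≫ (push p T').hom := by
  change (x ≫ p' j) ≫ f (α j) = t ≫ T'.hom ≫ p
  rw [Category.assoc, w, ← Category.assoc, h, Category.assoc]

theorem ph_pull {W : Scheme.{u}} {j₀ j₁ : ι'} (x₀ : W ⟶ X' j₀) (x₁ : W ⟶ X' j₁) (h : x₀ ≫ f' j₀ = x₁ ≫ f' j₁)
    (d : W ⟶ (((pullDDFam w).obj D).obj j₀).left) (hd : d ≫ (((pullDDFam w).obj D).obj j₀).hom = x₀) :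
    ph ((pullDDFam w).obj D) x₀ x₁ h d hd ≫ pullback.fst (D.obj (α j₁)).hom (p' j₁) =
      ph D (x₀ ≫ p' j₀) (x₁ ≫ p' j₁) (pull_compat w x₀ x₁ h) (d ≫ pullback.fst (D.obj (α j₀)).hom (p' j₀))
        (by
          have e : d ≫ pullback.snd (D.obj (α j₀)).hom (p' j₀) = x₀ := hd
          rw [Category.assoc, pullback.condition, ← Category.assoc, e]) := by
  change pullback.lift _ _ _ ≫ pullback.fst (D.obj (α j₁)).hom (p' j₁) = _
  rw [pullback.lift_fst]
  rfl

variable {D}

section res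

variable {T' : Over S'}

theorem res_aux (s : (toDDFam f).obj (push p T') ⟶ D) {W : Scheme.{u}} {j : ι'} (x : W ⟶ X' j)
    (t : W ⟶ T'.left) (h : x ≫ f' j = t ≫ T'.hom) :
    (pullback.lift x t h ≫ pullback.lift (pt s (pullback.fst (f' j) T'.hom ≫ p' j) (pullback.snd (f' j) T'.hom)
        (cond_push w _ _ pullback.condition)) (pullback.fst (f' j) T'.hom) (pt_hom s _ _ _)) ≫
      pullback.fst (D.obj (α j)).hom (p' j) = pt s (x ≫ p' j) t (cond_push w x t h) := by
  rw [Category.assoc, pullback.lift_fst, comp_pt]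
  exact pt_congr s _ (by rw [pullback.lift_fst_assoc]) (pullback.lift_snd _ _ _)

/-- Restriction of a section to the pulled back datum. -/
noncomputable def res (s : (toDDFam f).obj (push p T') ⟶ D) : (toDDFam f').obj T' ⟶ (pullDDFam w).obj D :=
  mkSection (D := (pullDDFam w).obj D)
    (fun j => pullback.lift (pt s (pullback.fst (f' j) T'.hom ≫ p' j) (pullback.snd (f' j) T'.hom)
        (cond_push w _ _ pullback.condition)) (pullback.fst (f' j) T'.hom) (pt_hom s _ _ _))
    (fun j => pullback.lift_snd _ _ _)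
    (fun {W j k} x₀ x₁ t h₀ h₁ => by
      apply pullback.hom_ext
      · have e := ph_pull w D x₀ x₁ (h₀.trans h₁.symm)
          (pullback.lift x₀ t h₀ ≫ pullback.lift (pt s (pullback.fst (f' j) T'.hom ≫ p' j)
            (pullback.snd (f' j) T'.hom) (cond_push w _ _ pullback.condition)) (pullback.fst (f' j) T'.hom)
            (pt_hom s _ _ _))
          (by
            change (_ ≫ _) ≫ pullback.snd (D.obj (α j)).hom (p' j) = x₀
            rw [Category.assoc, pullback.lift_snd, pullback.lift_fst])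
        have e2 := ph_pt s (x₀ ≫ p' j) (x₁ ≫ p' k) t (cond_push w x₀ t h₀) (cond_push w x₁ t h₁)
        exact e.trans ((ph_congr D _ _ rfl rfl (res_aux w s x₀ t h₀)).trans (e2.trans (res_aux w s x₁ t h₁).symm))
      · refine ((((pullDDFam w).obj D).φ x₀ x₁ (h₀.trans h₁.symm) _).2).trans ?_
        rw [Category.assoc, pullback.lift_snd, pullback.lift_fst])

theorem pt_res_fst (s : (toDDFam f).obj (push p T') ⟶ D) {W : Scheme.{u}} {j : ι'} (x : W ⟶ X' j)
    (t : W ⟶ T'.left) (h : x ≫ f' j = t ≫ T'.hom) :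
    pt (res w s) x t h ≫ pullback.fst (D.obj (α j)).hom (p' j) = pt s (x ≫ p' j) t (cond_push w x t h) := by
  rw [res, pt_mkSection]
  exact res_aux w s x t h

theorem pt_snd (s' : (toDDFam f').obj T' ⟶ (pullDDFam w).obj D) {W : Scheme.{u}} {j : ι'} (x : W ⟶ X' j)
    (t : W ⟶ T'.left) (h : x ≫ f' j = t ≫ T'.hom) :
    pt s' x t h ≫ pullback.snd (D.obj (α j)).hom (p' j) = x :=
  pt_hom s' x t h

end res

section tr

variable {T' : Over S'} (s' : (toDDFam f').obj T' ⟶ (pullDDFam w).obj D)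

/-- The value of `s'` at `(y, t)`, transported to a point `x` of `X i` by the gluing bijection. -/
noncomputable def tr {W : Scheme.{u}} {j : ι'} {i : ι} (y : W ⟶ X' j) (t : W ⟶ T'.left) (x : W ⟶ X i)
    (hy : y ≫ f' j = t ≫ T'.hom) (hx : x ≫ f i = t ≫ T'.hom ≫ p) : W ⟶ (D.obj i).left :=
  ph D (y ≫ p' j) x ((cond_push w y t hy).trans hx.symm)
    (pt s' y t hy ≫ pullback.fst (D.obj (α j)).hom (p' j))
    (by rw [Category.assoc, pullback.condition, ← Category.assoc, pt_snd])

@[reassoc]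
theorem tr_hom {W : Scheme.{u}} {j : ι'} {i : ι} (y : W ⟶ X' j) (t : W ⟶ T'.left) (x : W ⟶ X i)
    (hy : y ≫ f' j = t ≫ T'.hom) (hx : x ≫ f i = t ≫ T'.hom ≫ p) :
    tr w s' y t x hy hx ≫ (D.obj i).hom = x := ph_hom _ _ _ _ _ _

theorem tr_congr {W : Scheme.{u}} {j : ι'} {i : ι} {y y' : W ⟶ X' j} {t t' : W ⟶ T'.left} {x x' : W ⟶ X i}
    (hy : y ≫ f' j = t ≫ T'.hom) (hx : x ≫ f i = t ≫ T'.hom ≫ p) (ey : y = y') (et : t = t') (ex : x = x') :
    tr w s' y t x hy hx = tr w s' y' t' x' (by rw [← ey, ← et]; exact hy) (by rw [← ex, ← et]; exact hx) := by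
  subst ey et ex; rfl

theorem comp_tr {W W' : Scheme.{u}} (g : W' ⟶ W) {j : ι'} {i : ι} (y : W ⟶ X' j) (t : W ⟶ T'.left)
    (x : W ⟶ X i) (hy : y ≫ f' j = t ≫ T'.hom) (hx : x ≫ f i = t ≫ T'.hom ≫ p) :
    g ≫ tr w s' y t x hy hx = tr w s' (g ≫ y) (g ≫ t) (g ≫ x) (by rw [Category.assoc, hy, Category.assoc])
      (by rw [Category.assoc, hx, Category.assoc]) := by
  rw [tr, comp_ph]
  refine ph_congr D _ _ (Category.assoc _ _ _).symm rfl ?_
  rw [← Category.assoc, comp_pt]

theorem ph_tr {W : Scheme.{u}} {j : ι'} {i k : ι} (y : W ⟶ X' j) (t : W ⟶ T'.left) (x₀ : W ⟶ X i)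
    (x₁ : W ⟶ X k) (hy : y ≫ f' j = t ≫ T'.hom) (h₀ : x₀ ≫ f i = t ≫ T'.hom ≫ p)
    (h₁ : x₁ ≫ f k = t ≫ T'.hom ≫ p) :
    ph D x₀ x₁ (h₀.trans h₁.symm) (tr w s' y t x₀ hy h₀) (tr_hom w s' y t x₀ hy h₀) = tr w s' y t x₁ hy h₁ :=
  ph_ph D _ _ _ _ _ _ _

/-- Independence of the auxiliary point. -/
theorem tr_indep {W : Scheme.{u}} {j k : ι'} {i : ι} (y : W ⟶ X' j) (y' : W ⟶ X' k) (t : W ⟶ T'.left)
    (x : W ⟶ X i) (hy : y ≫ f' j = t ≫ T'.hom) (hy' : y' ≫ f' k = t ≫ T'.hom)
    (hx : x ≫ f i = t ≫ T'.hom ≫ p) : tr w s' y t x hy hx = tr w s' y' t x hy' hx := by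
  have e1 := ph_pt s' y y' t hy hy'
  have e2 := ph_pull w D y y' (hy.trans hy'.symm) (pt s' y t hy) (pt_hom s' y t hy)
  have e3 : ph D (y ≫ p' j) (y' ≫ p' k) (pull_compat w y y' (hy.trans hy'.symm))
      (pt s' y t hy ≫ pullback.fst (D.obj (α j)).hom (p' j))
      (by rw [Category.assoc, pullback.condition, ← Category.assoc, pt_snd]) =
      pt s' y' t hy' ≫ pullback.fst (D.obj (α k)).hom (p' k) := by
    rw [← e2, e1]
  have e4 := ph_ph D (y ≫ p' j) (y' ≫ p' k) x (pull_compat w y y' (hy.trans hy'.symm))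
    ((cond_push w y' t hy').trans hx.symm) (pt s' y t hy ≫ pullback.fst (D.obj (α j)).hom (p' j))
    (by rw [Category.assoc, pullback.condition, ← Category.assoc, pt_snd])
  rw [tr, ← e4]
  exact ph_congr D _ _ rfl rfl e3

theorem tr_self {W : Scheme.{u}} {j : ι'} (y : W ⟶ X' j) (t : W ⟶ T'.left) (hy : y ≫ f' j = t ≫ T'.hom) :
    tr w s' y t (y ≫ p' j) hy (by rw [← Category.assoc]; exact cond_push w y t hy) =
      pt s' y t hy ≫ pullback.fst (D.obj (α j)).hom (p' j) :=
  ph_self D _ _ _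

end tr

section bij

variable {T' : Over S'}

/-- `tr` of a restricted section recovers the section. -/
theorem tr_res (s : (toDDFam f).obj (push p T') ⟶ D) {W : Scheme.{u}} {j : ι'} {i : ι} (y : W ⟶ X' j)
    (t : W ⟶ T'.left) (x : W ⟶ X i) (hy : y ≫ f' j = t ≫ T'.hom) (hx : x ≫ f i = t ≫ T'.hom ≫ p) :
    tr w (res w s) y t x hy hx = pt s x t hx := by
  have e := ph_pt s (y ≫ p' j) x t (cond_push w y t hy) hx
  rw [tr, ← e]
  exact ph_congr D _ _ rfl rfl (pt_res_fst w s y t hy)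

variable (hf' : Presieve.ofArrows X' f' ∈ Scheme.fpqcPrecoverage S')
include hf'

theorem res_injective : Function.Injective (res w (D := D) (T' := T')) := by
  intro s₁ s₂ h
  apply ext_of_pt
  intro i
  let t₀ : pullback (f i) (push p T').hom ⟶ S' := pullback.snd (f i) (push p T').hom ≫ T'.hom
  refine hom_ext_of_fpqc _ _ (DescFF.pullback_cover f' hf' t₀) _ _ (fun j => ?_)
  have hy : pullback.fst (f' j) t₀ ≫ f' j =
      (pullback.snd (f' j) t₀ ≫ pullback.snd (f i) (push p T').hom) ≫ T'.hom := by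
    rw [pullback.condition, Category.assoc]
  have hx : (pullback.snd (f' j) t₀ ≫ pullback.fst (f i) (push p T').hom) ≫ f i =
      (pullback.snd (f' j) t₀ ≫ pullback.snd (f i) (push p T').hom) ≫ T'.hom ≫ p := by
    rw [Category.assoc, Category.assoc, pullback.condition]; rfl
  have e₁ := tr_res w s₁ (pullback.fst (f' j) t₀) _ _ hy hx
  have e₂ := tr_res w s₂ (pullback.fst (f' j) t₀) _ _ hy hx
  rw [comp_pt, comp_pt]
  rw [h] at e₁
  exact e₁.symm.trans e₂

theorem res_surjective : Function.Surjective (res w (D := D) (T' := T')) := by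
  intro s'
  -- the covers
  let t₀ : ∀ i, pullback (f i) (push p T').hom ⟶ S' := fun i => pullback.snd (f i) (push p T').hom ≫ T'.hom
  have hcov := fun i => DescFF.pullback_cover f' hf' (t₀ i)
  have hyC : ∀ i j, pullback.fst (f' j) (t₀ i) ≫ f' j =
      (pullback.snd (f' j) (t₀ i) ≫ pullback.snd (f i) (push p T').hom) ≫ T'.hom := fun i j => by
    rw [pullback.condition, Category.assoc]
  have hxC : ∀ i j, (pullback.snd (f' j) (t₀ i) ≫ pullback.fst (f i) (push p T').hom) ≫ f i =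
      (pullback.snd (f' j) (t₀ i) ≫ pullback.snd (f i) (push p T').hom) ≫ T'.hom ≫ p := fun i j => by
    rw [Category.assoc, Category.assoc, pullback.condition]; rfl
  -- local pieces and their compatibility
  have hglue : ∀ i, ∃ m : pullback (f i) (push p T').hom ⟶ (D.obj i).left,
      ∀ j, pullback.snd (f' j) (t₀ i) ≫ m = tr w s' (pullback.fst (f' j) (t₀ i))
        (pullback.snd (f' j) (t₀ i) ≫ pullback.snd (f i) (push p T').hom)
        (pullback.snd (f' j) (t₀ i) ≫ pullback.fst (f i) (push p T').hom) (hyC i j) (hxC i j) := by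
    intro i
    refine exists_glue_of_fpqc _ _ (hcov i) _ ?_
    intro j k W gj gk hg
    rw [comp_tr, comp_tr]
    have e1 : gj ≫ pullback.snd (f' j) (t₀ i) ≫ pullback.snd (f i) (push p T').hom =
        gk ≫ pullback.snd (f' k) (t₀ i) ≫ pullback.snd (f i) (push p T').hom := by
      rw [← Category.assoc, hg, Category.assoc]
    have e2 : gj ≫ pullback.snd (f' j) (t₀ i) ≫ pullback.fst (f i) (push p T').hom =
        gk ≫ pullback.snd (f' k) (t₀ i) ≫ pullback.fst (f i) (push p T').hom := by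
      rw [← Category.assoc, hg, Category.assoc]
    refine (tr_congr w s' _ _ rfl e1 e2).trans ?_
    exact tr_indep w s' _ _ _ _ _ _ _
  choose m hm using hglue
  -- the key property of the glued maps
  have key : ∀ {W : Scheme.{u}} {i : ι} {j : ι'} (a : W ⟶ pullback (f i) (push p T').hom) (y : W ⟶ X' j)
      (hy : y ≫ f' j = (a ≫ pullback.snd (f i) (push p T').hom) ≫ T'.hom),
      a ≫ m i = tr w s' y (a ≫ pullback.snd (f i) (push p T').hom) (a ≫ pullback.fst (f i) (push p T').hom) hy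
        (by rw [Category.assoc, Category.assoc, pullback.condition]; rfl) := by
    intro W i j a y hy
    let g : W ⟶ pullback (f' j) (t₀ i) := pullback.lift y a (by rw [hy, Category.assoc])
    have hg : g ≫ pullback.snd (f' j) (t₀ i) = a := pullback.lift_snd _ _ _
    have hg' : g ≫ pullback.fst (f' j) (t₀ i) = y := pullback.lift_fst _ _ _
    calc a ≫ m i = g ≫ pullback.snd (f' j) (t₀ i) ≫ m i := by rw [← Category.assoc, hg]
      _ = _ := by
        rw [hm, comp_tr]
        exact tr_congr w s' _ _ hg' (by rw [← Category.assoc, hg]) (by rw [← Category.assoc, hg])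
  have hmhom : ∀ i, m i ≫ (D.obj i).hom = pullback.fst (f i) (push p T').hom := by
    intro i
    refine hom_ext_of_fpqc _ _ (hcov i) _ _ (fun j => ?_)
    rw [← Category.assoc, hm, tr_hom]
  have hφ : ∀ {W : Scheme.{u}} {i k : ι} (x₀ : W ⟶ X i) (x₁ : W ⟶ X k) (t : W ⟶ (push p T').left)
      (h₀ : x₀ ≫ f i = t ≫ (push p T').hom) (h₁ : x₁ ≫ f k = t ≫ (push p T').hom),
      (D.φ x₀ x₁ (h₀.trans h₁.symm) ⟨pullback.lift x₀ t h₀ ≫ m i, by
        rw [Category.assoc, hmhom, pullback.lift_fst]⟩).1 = pullback.lift x₁ t h₁ ≫ m k := by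
    intro W i k x₀ x₁ t h₀ h₁
    -- check locally on `W`
    refine hom_ext_of_fpqc _ _ (DescFF.pullback_cover f' hf' (t ≫ T'.hom)) _ _ (fun j => ?_)
    obtain ⟨g, hgdef⟩ : ∃ g, g = pullback.snd (f' j) (t ≫ T'.hom) := ⟨_, rfl⟩
    obtain ⟨y, hydef⟩ : ∃ y, y = pullback.fst (f' j) (t ≫ T'.hom) := ⟨_, rfl⟩
    have hy : y ≫ f' j = (g ≫ t) ≫ T'.hom := by rw [hydef, hgdef, pullback.condition, Category.assoc]
    rw [← hgdef]
    have hx₀ : (g ≫ x₀) ≫ f i = (g ≫ t) ≫ T'.hom ≫ p := by rw [Category.assoc, h₀, Category.assoc]; rfl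
    have hx₁ : (g ≫ x₁) ≫ f k = (g ≫ t) ≫ T'.hom ≫ p := by rw [Category.assoc, h₁, Category.assoc]; rfl
    have k₀ : (g ≫ pullback.lift x₀ t h₀) ≫ m i = tr w s' y (g ≫ t) (g ≫ x₀) hy hx₀ := by
      refine (key (g ≫ pullback.lift x₀ t h₀) y (by
        simp only [Category.assoc, pullback.lift_snd]; rw [hy, Category.assoc])).trans ?_
      exact tr_congr w s' _ _ rfl (by rw [Category.assoc, pullback.lift_snd])
        (by rw [Category.assoc, pullback.lift_fst])
    have k₁ : (g ≫ pullback.lift x₁ t h₁) ≫ m k = tr w s' y (g ≫ t) (g ≫ x₁) hy hx₁ := by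
      refine (key (g ≫ pullback.lift x₁ t h₁) y (by
        simp only [Category.assoc, pullback.lift_snd]; rw [hy, Category.assoc])).trans ?_
      exact tr_congr w s' _ _ rfl (by rw [Category.assoc, pullback.lift_snd])
        (by rw [Category.assoc, pullback.lift_fst])
    have e := comp_ph D g x₀ x₁ (h₀.trans h₁.symm) (pullback.lift x₀ t h₀ ≫ m i)
      (by rw [Category.assoc, hmhom, pullback.lift_fst])
    change g ≫ ph D x₀ x₁ (h₀.trans h₁.symm) (pullback.lift x₀ t h₀ ≫ m i) _ = g ≫ pullback.lift x₁ t h₁ ≫ m k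
    exact e.trans ((ph_congr D _ _ rfl rfl ((Category.assoc _ _ _).symm.trans k₀)).trans
      ((ph_tr w s' y (g ≫ t) (g ≫ x₀) (g ≫ x₁) hy hx₀ hx₁).trans (k₁.symm.trans (Category.assoc _ _ _))))
  refine ⟨mkSection m hmhom hφ, ?_⟩
  · apply ext_of_pt
    intro j
    obtain ⟨y, hydef⟩ : ∃ y, y = pullback.fst (f' j) T'.hom := ⟨_, rfl⟩
    obtain ⟨t, htdef⟩ : ∃ t, t = pullback.snd (f' j) T'.hom := ⟨_, rfl⟩
    have hy : y ≫ f' j = t ≫ T'.hom := by rw [hydef, htdef]; exact pullback.condition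
    have goal : pt (res w (mkSection m hmhom hφ)) y t hy = pt s' y t hy := by
      apply pullback.hom_ext
      · rw [pt_res_fst, pt_mkSection]
        have hy2 : y ≫ f' j = (pullback.lift (y ≫ p' j) t (cond_push w y t hy) ≫
            pullback.snd (f (α j)) (push p T').hom) ≫ T'.hom := by rw [pullback.lift_snd]; exact hy
        refine (key (pullback.lift (y ≫ p' j) t (cond_push w y t hy)) y hy2).trans ?_
        refine (tr_congr w s' _ _ rfl (pullback.lift_snd _ _ _) (pullback.lift_fst _ _ _)).trans ?_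
        exact tr_self w s' y t hy
      · rw [pt_snd, pt_snd]
    subst hydef htdef
    exact goal

end bij

section natural

variable {T' U' : Over S'}

theorem res_natural (g : T' ⟶ U') (s : (toDDFam f).obj (push p U') ⟶ D) :
    res w ((toDDFam f).map (pushMap p g) ≫ s) = (toDDFam f').map g ≫ res w s := by
  apply ext_of_pt
  intro j
  apply pullback.hom_ext
  · rw [pt_res_fst, map_comp_pt, map_comp_pt, pt_res_fst]
    rfl
  · rw [pt_snd, pt_snd]

end natural

/-- A universal pair for the pulled back datum gives a pair for `D` which is universal among `S`-schemes of the form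
`push p T'`. -/
theorem exists_univ_push (hf' : Presieve.ofArrows X' f' ∈ Scheme.fpqcPrecoverage S') (U' : Over S')
    (ε' : (toDDFam f').obj U' ⟶ (pullDDFam w).obj D) (hε' : IsUniv ((pullDDFam w).obj D) U' ε') :
    ∃ ε : (toDDFam f).obj (push p U') ⟶ D, res w ε = ε' ∧
      ∀ (T' : Over S') (s : (toDDFam f).obj (push p T') ⟶ D),
        ∃! g : T' ⟶ U', (toDDFam f).map (pushMap p g) ≫ ε = s := by
  obtain ⟨ε, hε⟩ := res_surjective w hf' ε'
  refine ⟨ε, hε, fun T' s => ?_⟩
  obtain ⟨g, hg, huniq⟩ := hε' T' (res w s)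
  have hg' : (toDDFam f').map g ≫ ε' = res w s := hg
  refine ⟨g, ?_, fun g' hg'' => huniq g' ?_⟩
  · show (toDDFam f).map (pushMap p g) ≫ ε = s
    apply res_injective w hf'
    rw [res_natural, hε, hg']
  · show (toDDFam f').map g' ≫ ε' = res w s
    have h2 : (toDDFam f).map (pushMap p g') ≫ ε = s := hg''
    rw [← h2, res_natural, hε]

end Groth.Agent.Lib.Helper4.DescPull
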