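import Mathlib
import Groth.Prelude.Def_DescFam
import Groth.Agent.Lib.Helper4.DescGamma
import Groth.Agent.Lib.Helper4.DescPull
import Groth.Agent.Lib.Helper4.DescGlue
import Groth.Agent.Lib.Helper4.DescAffine

/-!
# Effective fpqc descent for affine morphisms (helper4)

`exists_isIso_of_isAffineHom`: for `p : X ⟶ S` surjective, flat and quasi-compact, every descent datum relative to `p`
whose member is affine over `X` is effective.
-/

set_option autoImplicit false
set_option backward.isDefEq.respectTransparency false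
set_option linter.style.haveILetI false
universe u
open CategoryTheory CategoryTheory.Limits AlgebraicGeometry

namespace Groth.Agent.Lib.Helper4.DescMain

open Desc Groth.Agent.Lib.Helper4.DescGamma Groth.Agent.Lib.Helper4.DescPull Groth.Agent.Lib.Helper4.DescGlue
  Groth.Agent.Lib.Helper4.DescAffine

/-- Over an affine open `U` of the base of an fpqc morphism `f : Y ⟶ X` there is an affine scheme `W` with a flat
morphism `p : W ⟶ Y` such that `Γ(X,U) → Γ(W,⊤)` is faithfully flat (argument of helper16, `QCohPullback2`). -/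
theorem exists_affine_faithfullyFlat {X Y : Scheme.{u}} (f : Y ⟶ X) [Flat f] [Surjective f] [QuasiCompact f]
    {U : X.Opens} (hU : IsAffineOpen U) :
    ∃ (W : Scheme.{u}) (_ : IsAffine W) (p : W ⟶ Y) (_ : Flat p) (e : (⊤ : W.Opens) ≤ (p ≫ f) ⁻¹ᵁ U),
      ((p ≫ f).appLE U ⊤ e).hom.FaithfullyFlat := by
  haveI : CompactSpace ((f ⁻¹ᵁ U : Y.Opens) : Scheme.{u}) :=
    isCompact_iff_compactSpace.mp (f.isCompact_preimage hU.isCompact)
  obtain ⟨W, p₀, hsurj, hflat, haff⟩ :=
    Scheme.exists_hom_isAffine_of_isZariskiLocalAtSource @Flat (f ⁻¹ᵁ U : Scheme.{u})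
  haveI : Flat p₀ := hflat
  have e : (⊤ : W.Opens) ≤ ((p₀ ≫ (f ⁻¹ᵁ U).ι) ≫ f) ⁻¹ᵁ U := by
    intro w _
    exact (p₀ w).2
  refine ⟨W, haff, p₀ ≫ (f ⁻¹ᵁ U).ι, inferInstance, e, ?_⟩
  rw [RingHom.FaithfullyFlat.iff_flat_and_comap_surjective]
  constructor
  · exact HasRingHomProperty.appLE (P := @Flat) ((p₀ ≫ (f ⁻¹ᵁ U).ι) ≫ f) inferInstance
      ⟨U, hU⟩ ⟨⊤, isAffineOpen_top W⟩ e
  · intro q
    have hcomm := IsAffineOpen.SpecMap_appLE_fromSpec ((p₀ ≫ (f ⁻¹ᵁ U).ι) ≫ f) hU
      (isAffineOpen_top W) e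
    have hx : hU.fromSpec q ∈ U := by
      have : hU.fromSpec q ∈ Set.range hU.fromSpec := ⟨q, rfl⟩
      rwa [hU.range_fromSpec] at this
    obtain ⟨y, hy⟩ := f.surjective (hU.fromSpec q)
    have hyU : y ∈ f ⁻¹ᵁ U := by
      show f y ∈ U
      rw [hy]; exact hx
    obtain ⟨w, hw⟩ := hsurj.surj ⟨y, hyU⟩
    have hwtop : w ∈ Set.range (isAffineOpen_top W).fromSpec := by
      rw [(isAffineOpen_top W).range_fromSpec]; trivial
    obtain ⟨w', rfl⟩ := hwtop
    refine ⟨w', ?_⟩
    apply hU.fromSpec.isOpenEmbedding.injective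
    have h2 := congr($(hcomm) w')
    rw [Scheme.Hom.comp_apply, Scheme.Hom.comp_apply] at h2
    refine h2.trans ?_
    rw [Scheme.Hom.comp_apply, Scheme.Hom.comp_apply, hw]
    exact hy

variable {S : Scheme.{u}}

/-- A pair over `S'` which is universal for the `S`-schemes `push b T'`, where `b : S' ⟶ S` is an isomorphism onto the
open `V`, is a chart over `V`. -/
noncomputable def chartOfPush {ι : Type u} {X : ι → Scheme.{u}} {f : ∀ i, X i ⟶ S} (D : SchDDFam f)
    {S' : Scheme.{u}} (b : S' ⟶ S) (V : S.Opens) (c : S' ≅ (V : Scheme.{u})) (hc : c.hom ≫ V.ι = b)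
    (U' : Over S') (ε : (toDDFam f).obj (push b U') ⟶ D)
    (huniv : ∀ (T' : Over S') (s : (toDDFam f).obj (push b T') ⟶ D),
      ∃! g : T' ⟶ U', (toDDFam f).map (pushMap b g) ≫ ε = s) : Chart D V where
  U := push b U'
  w := U'.hom ≫ c.hom
  hw := by rw [Category.assoc, hc]; rfl
  ε := ε
  univ T t' ht' s := by
    have hb : Mono b := by rw [← hc]; infer_instance
    let T' : Over S' := Over.mk (t' ≫ c.inv)
    have hθ : (push b T').hom = T.hom := by
      change (t' ≫ c.inv) ≫ b = T.hom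
      rw [← hc, Category.assoc, Iso.inv_hom_id_assoc, ht']
    let θ : push b T' ≅ T := Over.isoMk (Iso.refl _) (by
      change 𝟙 _ ≫ T.hom = (push b T').hom
      rw [Category.id_comp, hθ])
    obtain ⟨g', hg', huniq⟩ := huniv T' ((toDDFam f).map θ.hom ≫ s)
    have hg'' : (toDDFam f).map (pushMap b g') ≫ ε = (toDDFam f).map θ.hom ≫ s := hg'
    refine ⟨θ.inv ≫ pushMap b g', ?_, ?_⟩
    · show (toDDFam f).map (θ.inv ≫ pushMap b g') ≫ ε = s
      rw [Functor.map_comp, Category.assoc, hg'', ← Category.assoc, ← Functor.map_comp, θ.inv_hom_id,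
        CategoryTheory.Functor.map_id, Category.id_comp]
    · intro g₂ hg₂
      have hg₂' : (toDDFam f).map g₂ ≫ ε = s := hg₂
      have hw₂ : (θ.hom ≫ g₂).left ≫ U'.hom = T'.hom := by
        rw [← cancel_mono b, Category.assoc]
        exact Over.w (θ.hom ≫ g₂)
      let g₂' : T' ⟶ U' := Over.homMk (θ.hom ≫ g₂).left hw₂
      have e1 : pushMap b g₂' = θ.hom ≫ g₂ := by
        apply Over.OverMorphism.ext
        rfl
      have e2 : g₂' = g' := by
        apply huniq
        show (toDDFam f).map (pushMap b g₂') ≫ ε = (toDDFam f).map θ.hom ≫ s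
        rw [e1, Functor.map_comp, Category.assoc, hg₂']
      rw [← e2, e1, θ.inv_hom_id_assoc]

section single

variable {X : Scheme.{u}} (p : X ⟶ S) [Surjective p] [Flat p] [QuasiCompact p]
  (DD : SchDDFam (fun _ : PUnit.{u + 1} => p)) [IsAffineHom (DD.obj ⟨⟩).hom]

theorem nonempty_chart (V : S.affineOpens) : Nonempty (Chart DD V.1) := by
  obtain ⟨W, hW, p₀, hp₀, e, hff⟩ := exists_affine_faithfullyFlat p V.2
  -- rings
  let A : CommRingCat.{u} := Γ(S, V.1)
  let A' : CommRingCat.{u} := Γ(W, ⊤)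
  let φ : A ⟶ A' := (p₀ ≫ p).appLE V.1 ⊤ e
  letI : Algebra A A' := φ.hom.toAlgebra
  have hffm : Module.FaithfullyFlat A A' := hff
  have hflat : Module.Flat A A' := inferInstance
  have hpS : pS A A' = Spec.map φ := rfl
  -- morphisms
  let q : Spec A' ⟶ X := (isAffineOpen_top W).fromSpec ≫ p₀
  let b : Spec A ⟶ S := V.2.fromSpec
  have hw : q ≫ p = pS A A' ≫ b := by
    rw [hpS]
    exact ((Category.assoc _ _ _).trans
      (IsAffineOpen.SpecMap_appLE_fromSpec (p₀ ≫ p) V.2 (isAffineOpen_top W) e).symm)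
  -- the covering
  have hfs := (flat_and_surjective_SpecMap_iff φ).mpr hff
  have hcov : Presieve.ofArrows (fun _ : PUnit.{u + 1} => Spec A') (fun _ => pS A A') ∈
      Scheme.fpqcPrecoverage (Spec A) := by
    rw [Presieve.ofArrows_pUnit, hpS]
    haveI := hfs.1
    haveI := hfs.2
    exact Scheme.Hom.singleton_mem_fpqcPrecoverage (Spec.map φ)
  -- the pulled back datum
  let D'' : SchDDFam (fun _ : PUnit.{u + 1} => pS A A') :=
    (pullDDFam (f := fun _ : PUnit.{u + 1} => p) (f' := fun _ : PUnit.{u + 1} => pS A A')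
      (α := fun j => j) (p := b) (p' := fun _ => q) (fun _ => hw)).obj DD
  let Y : Scheme.{u} := pullback (DD.obj ⟨⟩).hom q
  have hYaff : IsAffine Y := inferInstance
  let B : CommRingCat.{u} := Γ(Y, ⊤)
  let ψ : A' ⟶ B := (Scheme.ΓSpecIso A').inv ≫ (pullback.snd (DD.obj ⟨⟩).hom q).appTop
  letI : Algebra A' B := ψ.hom.toAlgebra
  letI : Algebra A B := (φ ≫ ψ).hom.toAlgebra
  have : IsScalarTower A A' B := IsScalarTower.of_algebraMap_eq (fun _ => rfl)
  have hpY : pY A' B = Spec.map ψ := rfl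
  have hY : Y.isoSpec.hom ≫ pY A' B = pullback.snd (DD.obj ⟨⟩).hom q := by
    rw [hpY, Spec.map_comp, Scheme.isoSpec_hom, ← Category.assoc, ← Scheme.toSpecΓ_naturality, Category.assoc,
      toSpecΓ_SpecMap_ΓSpecIso_inv, Category.comp_id]
  let e'' : D''.obj ⟨⟩ ≅ Over.mk (pY A' B) := Over.isoMk Y.isoSpec hY
  obtain ⟨U', ε', hε'⟩ := exists_isIso D'' e''
  have huniv' := isUniv_of_isIso hcov D'' U' ε'
  obtain ⟨ε, -, huniv⟩ := exists_univ_push (fun _ => hw) hcov U' ε' huniv'
  exact ⟨chartOfPush DD b V.1 V.2.isoSpec.symm (IsAffineOpen.isoSpec_inv_ι V.2) U' ε huniv⟩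

/-- **Effective fpqc descent for affine morphisms**, family form with one member. -/
theorem exists_isIso_of_isAffineHom :
    ∃ (U : Over S) (ε : (toDDFam (fun _ : PUnit.{u + 1} => p)).obj U ⟶ DD), IsIso ε := by
  obtain ⟨U, ε, hε⟩ := exists_isUniv_of_charts (D := DD) (fun V => nonempty_chart p DD V)
  exact ⟨U, ε, isIso_of_isUniv hε⟩

end single

/-- **Effective fpqc descent for affine morphisms** (`Desc.SchDD` form). -/
theorem exists_iso_toDD {X : Scheme.{u}} (p : X ⟶ S) [Surjective p] [Flat p] [QuasiCompact p]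
    (D : SchDD p) [IsAffineHom D.obj.hom] : ∃ U : Over S, Nonempty ((toDD p).obj U ≅ D) := by
  let DD : SchDDFam (fun _ : PUnit.{u + 1} => p) := (SchDDFam.ofSchDD p).obj D
  have : IsAffineHom (DD.obj ⟨⟩).hom := ‹IsAffineHom D.obj.hom›
  obtain ⟨U, ε, hε⟩ := exists_isIso_of_isAffineHom p DD
  exact ⟨U, ⟨(SchDDFam.toSchDD p).mapIso (asIso ε)⟩⟩

end Groth.Agent.Lib.Helper4.DescMain
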