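import Mathlib
import Groth.Prelude.Def_DescFam
import Groth.Agent.Lib.Helper4.DescGamma

/-!
# Descent data relative to a family and relative to the coproduct of the family (helper4)

For a family `f i : X i ⟶ S` (small index type) and a descent datum `D` relative to the family:

* `isPullback_sigma q i`: the square `Z i ⟶ ∐ Z`, `X i ⟶ ∐ X` of a coproduct of morphisms is a pullback.
* `sig`, `comp_sig`: the gluing bijection of the coproduct datum on points, characterized on test schemes over which the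
  points land in single summands; `sig_hom`, `sig_self`, `sig_sig`, `sig_natural`.
* `sigmaDD D : Desc.SchDD (Sigma.desc f)`: the descent datum with member `∐ (D.obj i).left ⟶ ∐ X`.
* `restr f`: restriction of descent data along the coprojections (the functor of S9851);
  `cmp D : D ⟶ (restr f).obj (sigmaDD D)` is an isomorphism.
-/

set_option autoImplicit false
set_option backward.isDefEq.respectTransparency false
set_option linter.style.haveILetI false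
universe w u
open CategoryTheory CategoryTheory.Limits AlgebraicGeometry

namespace Groth.Agent.Lib.Helper4.DescSigma

variable {ι : Type w} [Small.{u} ι]

section coprod

theorem exists_sigmaι (X : ι → Scheme.{u}) (x : (∐ X : Scheme.{u})) : ∃ (i : ι) (y : X i), Sigma.ι X i y = x := by
  obtain ⟨y, hy⟩ := (sigmaOpenCover X).covers x
  exact ⟨(sigmaOpenCover X).idx x, y, hy⟩

theorem sigmaι_index_eq (X : ι → Scheme.{u}) {i j : ι} {x : X i} {y : X j} (h : Sigma.ι X i x = Sigma.ι X j y) :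
    i = j := by
  have := (sigmaι_eq_iff X i j x y).mp h
  exact (Sigma.mk.inj_iff.mp this).1

variable {X Z : ι → Scheme.{u}} (q : ∀ i, Z i ⟶ X i)

theorem map_sigmaι_apply (j : ι) (z : Z j) : Limits.Sigma.map q (Sigma.ι Z j z) = Sigma.ι X j (q j z) := by
  rw [← Scheme.Hom.comp_apply, Limits.Sigma.ι_map, Scheme.Hom.comp_apply]

theorem preimage_opensRange (i : ι) :
    (Limits.Sigma.map q) ⁻¹ᵁ (Sigma.ι X i).opensRange = (Sigma.ι Z i).opensRange := by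
  ext z
  obtain ⟨j, z', rfl⟩ := exists_sigmaι Z z
  constructor
  · rintro ⟨y, hy⟩
    have hy' : Sigma.ι X i y = Sigma.ι X j (q j z') := hy.trans (map_sigmaι_apply q j z')
    obtain rfl := sigmaι_index_eq X hy'
    exact ⟨z', rfl⟩
  · rintro ⟨z'', hz⟩
    obtain rfl := sigmaι_index_eq Z hz
    exact ⟨q i z', (map_sigmaι_apply q i z').symm⟩

theorem isPullback_sigma (i : ι) : IsPullback (Sigma.ι Z i) (q i) (Limits.Sigma.map q) (Sigma.ι X i) :=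
  (IsOpenImmersion.isPullback (q i) (Sigma.ι Z i) (Sigma.ι X i) (Limits.Sigma.map q) (Limits.Sigma.ι_map q i)
    (preimage_opensRange q i)).flip

end coprod


section glue

theorem exists_glue {T Y : Scheme.{u}} {K : Type w} [Small.{u} K] (W : K → T.Opens)
    (hcov : ∀ t : T, ∃ k, t ∈ W k) (hdisj : ∀ k k', k ≠ k' → Disjoint (W k) (W k'))
    (m : ∀ k, (W k : Scheme.{u}) ⟶ Y) : ∃ a : T ⟶ Y, ∀ k, (W k).ι ≫ a = m k := by
  obtain ⟨hc⟩ := nonempty_isColimit_cofanMk_of (fun k => (W k).ι) (by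
      rw [eq_top_iff]
      intro t _
      obtain ⟨k, hk⟩ := hcov t
      simp only [Scheme.Opens.opensRange_ι]
      exact TopologicalSpace.Opens.mem_iSup.mpr ⟨k, hk⟩)
    (by
      intro k k' h
      simp only [Function.onFun, Scheme.Opens.opensRange_ι]
      exact hdisj k k' h)
  exact ⟨Cofan.IsColimit.desc hc m, fun k => Cofan.IsColimit.fac hc m k⟩

end glue

section points

variable {X : ι → Scheme.{u}} {T : Scheme.{u}}

/-- The restriction of a point of the coproduct to an open on which it lands in the `i`-th summand. -/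
noncomputable def comp (x : T ⟶ ∐ X) (i : ι) (W : T.Opens) (hW : W ≤ x ⁻¹ᵁ (Sigma.ι X i).opensRange) :
    (W : Scheme.{u}) ⟶ X i :=
  IsOpenImmersion.lift (Sigma.ι X i) (W.ι ≫ x) (by
    rintro _ ⟨w, rfl⟩
    exact hW w.2)

@[reassoc]
theorem comp_ι (x : T ⟶ ∐ X) (i : ι) (W : T.Opens) (hW : W ≤ x ⁻¹ᵁ (Sigma.ι X i).opensRange) :
    comp x i W hW ≫ Sigma.ι X i = W.ι ≫ x :=
  IsOpenImmersion.lift_fac _ _ _

theorem exists_loc₁ (x : T ⟶ ∐ X) (t : T) :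
    ∃ W : T.Opens, t ∈ W ∧ ∃ (i : ι) (y : (W : Scheme.{u}) ⟶ X i), W.ι ≫ x = y ≫ Sigma.ι X i := by
  obtain ⟨i, y, hy⟩ := exists_sigmaι X (x t)
  exact ⟨x ⁻¹ᵁ (Sigma.ι X i).opensRange, ⟨y, hy⟩, i, comp x i _ le_rfl, (comp_ι x i _ le_rfl).symm⟩

theorem exists_loc₂ (x₀ x₁ : T ⟶ ∐ X) (t : T) :
    ∃ W : T.Opens, t ∈ W ∧ ∃ (i j : ι) (y₀ : (W : Scheme.{u}) ⟶ X i) (y₁ : (W : Scheme.{u}) ⟶ X j),
      W.ι ≫ x₀ = y₀ ≫ Sigma.ι X i ∧ W.ι ≫ x₁ = y₁ ≫ Sigma.ι X j := by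
  obtain ⟨W₀, ht₀, i, y₀, h₀⟩ := exists_loc₁ x₀ t
  obtain ⟨W₁, ht₁, j, y₁, h₁⟩ := exists_loc₁ x₁ t
  refine ⟨W₀ ⊓ W₁, ⟨ht₀, ht₁⟩, i, j, T.homOfLE inf_le_left ≫ y₀, T.homOfLE inf_le_right ≫ y₁, ?_, ?_⟩
  · rw [Category.assoc, ← h₀, Scheme.homOfLE_ι_assoc]
  · rw [Category.assoc, ← h₁, Scheme.homOfLE_ι_assoc]

theorem exists_loc₃ (x₀ x₁ x₂ : T ⟶ ∐ X) (t : T) :
    ∃ W : T.Opens, t ∈ W ∧ ∃ (i j k : ι) (y₀ : (W : Scheme.{u}) ⟶ X i) (y₁ : (W : Scheme.{u}) ⟶ X j)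
      (y₂ : (W : Scheme.{u}) ⟶ X k),
      W.ι ≫ x₀ = y₀ ≫ Sigma.ι X i ∧ W.ι ≫ x₁ = y₁ ≫ Sigma.ι X j ∧ W.ι ≫ x₂ = y₂ ≫ Sigma.ι X k := by
  obtain ⟨W₀, ht₀, i, j, y₀, y₁, h₀, h₁⟩ := exists_loc₂ x₀ x₁ t
  obtain ⟨W₁, ht₁, k, y₂, h₂⟩ := exists_loc₁ x₂ t
  refine ⟨W₀ ⊓ W₁, ⟨ht₀, ht₁⟩, i, j, k, T.homOfLE inf_le_left ≫ y₀, T.homOfLE inf_le_left ≫ y₁,
    T.homOfLE inf_le_right ≫ y₂, ?_, ?_, ?_⟩
  · rw [Category.assoc, ← h₀, Scheme.homOfLE_ι_assoc]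
  · rw [Category.assoc, ← h₁, Scheme.homOfLE_ι_assoc]
  · rw [Category.assoc, ← h₂, Scheme.homOfLE_ι_assoc]

/-- The cover of `T` by the opens on which `x₀` lands in the `i`-th and `x₁` in the `j`-th summand. -/
noncomputable def Wc (x₀ x₁ : T ⟶ ∐ X) (k : ι × ι) : T.Opens :=
  x₀ ⁻¹ᵁ (Sigma.ι X k.1).opensRange ⊓ x₁ ⁻¹ᵁ (Sigma.ι X k.2).opensRange

theorem Wc_cov (x₀ x₁ : T ⟶ ∐ X) (t : T) : ∃ k, t ∈ Wc x₀ x₁ k := by
  obtain ⟨i, y, hy⟩ := exists_sigmaι X (x₀ t)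
  obtain ⟨j, y', hy'⟩ := exists_sigmaι X (x₁ t)
  exact ⟨(i, j), ⟨y, hy⟩, ⟨y', hy'⟩⟩

theorem Wc_disj (x₀ x₁ : T ⟶ ∐ X) (k k' : ι × ι) (h : k ≠ k') : Disjoint (Wc x₀ x₁ k) (Wc x₀ x₁ k') := by
  rw [disjoint_iff]
  ext t
  simp only [TopologicalSpace.Opens.coe_inf, TopologicalSpace.Opens.coe_bot, Set.mem_inter_iff,
    Set.mem_empty_iff_false, iff_false, not_and]
  rintro ⟨⟨y, hy⟩, ⟨z, hz⟩⟩ ⟨⟨y', hy'⟩, ⟨z', hz'⟩⟩
  apply h
  exact Prod.ext (sigmaι_index_eq X (hy.trans hy'.symm)) (sigmaι_index_eq X (hz.trans hz'.symm))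

theorem range_subset_Wc (x₀ x₁ : T ⟶ ∐ X) {T' : Scheme.{u}} (g : T' ⟶ T) {i j : ι} (y₀ : T' ⟶ X i)
    (y₁ : T' ⟶ X j) (h₀ : g ≫ x₀ = y₀ ≫ Sigma.ι X i) (h₁ : g ≫ x₁ = y₁ ≫ Sigma.ι X j) :
    Set.range g ⊆ Set.range (Wc x₀ x₁ (i, j)).ι := by
  rintro _ ⟨t', rfl⟩
  rw [Scheme.Opens.range_ι]
  refine ⟨⟨y₀ t', ?_⟩, ⟨y₁ t', ?_⟩⟩
  · rw [← Scheme.Hom.comp_apply, ← h₀, Scheme.Hom.comp_apply]
  · rw [← Scheme.Hom.comp_apply, ← h₁, Scheme.Hom.comp_apply]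

end points


section sig

open Desc Groth.Agent.Lib.Helper4.DescGamma

variable {S : Scheme.{u}} {X : ι → Scheme.{u}} {f : ∀ i, X i ⟶ S} (D : SchDDFam f)

/-- The coproduct of the members of a descent datum relative to a family. -/
noncomputable abbrev Zs : Scheme.{u} := ∐ fun i => (D.obj i).left

/-- Its structure morphism to the coproduct of the family. -/
noncomputable abbrev qs : Zs D ⟶ ∐ X := Limits.Sigma.map fun i => (D.obj i).hom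

theorem ι_qs (i : ι) : Sigma.ι (fun i => (D.obj i).left) i ≫ qs D = (D.obj i).hom ≫ Sigma.ι X i :=
  Limits.Sigma.ι_map _ i

variable {T : Scheme.{u}} (x₀ x₁ : T ⟶ ∐ X) (h : x₀ ≫ Sigma.desc f = x₁ ≫ Sigma.desc f)
  (v : T ⟶ Zs D) (hv : v ≫ qs D = x₀)

include h in
theorem hy_of {T' : Scheme.{u}} (g : T' ⟶ T) {i j : ι} (y₀ : T' ⟶ X i) (y₁ : T' ⟶ X j)
    (h₀ : g ≫ x₀ = y₀ ≫ Sigma.ι X i) (h₁ : g ≫ x₁ = y₁ ≫ Sigma.ι X j) : y₀ ≫ f i = y₁ ≫ f j := by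
  have e₀ : y₀ ≫ f i = g ≫ x₀ ≫ Sigma.desc f := by
    rw [← Category.assoc, h₀, Category.assoc, Sigma.ι_desc]
  have e₁ : y₁ ≫ f j = g ≫ x₁ ≫ Sigma.desc f := by
    rw [← Category.assoc, h₁, Category.assoc, Sigma.ι_desc]
  rw [e₀, e₁, h]

include hv in
theorem hq_of {T' : Scheme.{u}} (g : T' ⟶ T) {i : ι} (y₀ : T' ⟶ X i) (u : T' ⟶ (D.obj i).left)
    (h₀ : g ≫ x₀ = y₀ ≫ Sigma.ι X i) (hu : u ≫ Sigma.ι (fun i => (D.obj i).left) i = g ≫ v) :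
    u ≫ (D.obj i).hom = y₀ := by
  rw [← cancel_mono (Sigma.ι X i), Category.assoc, ← ι_qs, ← Category.assoc, hu, Category.assoc, hv, h₀]

include hv in
theorem exists_u {T' : Scheme.{u}} (g : T' ⟶ T) {i : ι} (y₀ : T' ⟶ X i) (h₀ : g ≫ x₀ = y₀ ≫ Sigma.ι X i) :
    ∃ u : T' ⟶ (D.obj i).left, u ≫ Sigma.ι (fun i => (D.obj i).left) i = g ≫ v :=
  ⟨(isPullback_sigma (fun i => (D.obj i).hom) i).lift (g ≫ v) y₀ (by rw [Category.assoc, hv, h₀]),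
    IsPullback.lift_fst _ _ _ _⟩

/-- The standard lift on the member `Wc x₀ x₁ k` of the cover. -/
noncomputable def uStd (k : ι × ι) : ((Wc x₀ x₁ k : T.Opens) : Scheme.{u}) ⟶ (D.obj k.1).left :=
  (isPullback_sigma (fun i => (D.obj i).hom) k.1).lift ((Wc x₀ x₁ k).ι ≫ v)
    (comp x₀ k.1 (Wc x₀ x₁ k) inf_le_left) (by rw [Category.assoc, hv, comp_ι])

theorem uStd_ι (k : ι × ι) :
    uStd D x₀ x₁ v hv k ≫ Sigma.ι (fun i => (D.obj i).left) k.1 = (Wc x₀ x₁ k).ι ≫ v :=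
  IsPullback.lift_fst _ _ _ _

theorem uStd_hom (k : ι × ι) :
    uStd D x₀ x₁ v hv k ≫ (D.obj k.1).hom = comp x₀ k.1 (Wc x₀ x₁ k) inf_le_left :=
  IsPullback.lift_snd _ _ _ _

/-- The value of the glued bijection on the member `Wc x₀ x₁ k` of the cover. -/
noncomputable def piece (k : ι × ι) : ((Wc x₀ x₁ k : T.Opens) : Scheme.{u}) ⟶ Zs D :=
  ph D (comp x₀ k.1 (Wc x₀ x₁ k) inf_le_left) (comp x₁ k.2 (Wc x₀ x₁ k) inf_le_right)
    (hy_of x₀ x₁ h (Wc x₀ x₁ k).ι _ _ (comp_ι x₀ k.1 _ inf_le_left).symm (comp_ι x₁ k.2 _ inf_le_right).symm)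
    (uStd D x₀ x₁ v hv k) (uStd_hom D x₀ x₁ v hv k) ≫ Sigma.ι (fun i => (D.obj i).left) k.2

/-- The gluing bijection of the coproduct datum, as a map on points. -/
noncomputable def sig : T ⟶ Zs D :=
  (exists_glue (Wc x₀ x₁) (Wc_cov x₀ x₁) (Wc_disj x₀ x₁) (piece D x₀ x₁ h v hv)).choose

theorem Wc_ι_sig (k : ι × ι) : (Wc x₀ x₁ k).ι ≫ sig D x₀ x₁ h v hv = piece D x₀ x₁ h v hv k :=
  (exists_glue (Wc x₀ x₁) (Wc_cov x₀ x₁) (Wc_disj x₀ x₁) (piece D x₀ x₁ h v hv)).choose_spec k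

/-- Characterization of `sig` on any test scheme over which the points land in single summands. -/
theorem comp_sig {T' : Scheme.{u}} (g : T' ⟶ T) {i j : ι} (y₀ : T' ⟶ X i) (y₁ : T' ⟶ X j)
    (u : T' ⟶ (D.obj i).left) (h₀ : g ≫ x₀ = y₀ ≫ Sigma.ι X i) (h₁ : g ≫ x₁ = y₁ ≫ Sigma.ι X j)
    (hu : u ≫ Sigma.ι (fun i => (D.obj i).left) i = g ≫ v) :
    g ≫ sig D x₀ x₁ h v hv =
      ph D y₀ y₁ (hy_of x₀ x₁ h g y₀ y₁ h₀ h₁) u (hq_of D x₀ v hv g y₀ u h₀ hu) ≫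
        Sigma.ι (fun i => (D.obj i).left) j := by
  let g' : T' ⟶ (Wc x₀ x₁ (i, j) : T.Opens) :=
    IsOpenImmersion.lift (Wc x₀ x₁ (i, j)).ι g (range_subset_Wc x₀ x₁ g y₀ y₁ h₀ h₁)
  have hg' : g' ≫ (Wc x₀ x₁ (i, j)).ι = g := IsOpenImmersion.lift_fac _ _ _
  have e₀ : g' ≫ comp x₀ i (Wc x₀ x₁ (i, j)) inf_le_left = y₀ := by
    rw [← cancel_mono (Sigma.ι X i), Category.assoc, comp_ι, ← Category.assoc, hg', h₀]
  have e₁ : g' ≫ comp x₁ j (Wc x₀ x₁ (i, j)) inf_le_right = y₁ := by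
    rw [← cancel_mono (Sigma.ι X j), Category.assoc, comp_ι, ← Category.assoc, hg', h₁]
  have eu : g' ≫ uStd D x₀ x₁ v hv (i, j) = u := by
    rw [← cancel_mono (Sigma.ι (fun i => (D.obj i).left) i), Category.assoc]
    exact ((congrArg (g' ≫ ·) (uStd_ι D x₀ x₁ v hv (i, j))).trans
      ((Category.assoc _ _ _).symm.trans (congrArg (· ≫ v) hg'))).trans hu.symm
  calc g ≫ sig D x₀ x₁ h v hv = g' ≫ (Wc x₀ x₁ (i, j)).ι ≫ sig D x₀ x₁ h v hv := by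
        rw [← Category.assoc, hg']
    _ = g' ≫ piece D x₀ x₁ h v hv (i, j) := by rw [Wc_ι_sig]
    _ = (g' ≫ ph D _ _ (hy_of x₀ x₁ h (Wc x₀ x₁ (i, j)).ι _ _ (comp_ι x₀ i _ inf_le_left).symm
          (comp_ι x₁ j _ inf_le_right).symm) (uStd D x₀ x₁ v hv (i, j)) (uStd_hom D x₀ x₁ v hv (i, j))) ≫
          Sigma.ι (fun i => (D.obj i).left) j := (Category.assoc _ _ _).symm
    _ = _ := by
        rw [comp_ph]
        exact congrArg (· ≫ Sigma.ι (fun i => (D.obj i).left) j) (ph_congr D _ _ e₀ e₁ eu)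

theorem sig_hom : sig D x₀ x₁ h v hv ≫ qs D = x₁ := by
  apply Scheme.hom_ext_of_forall
  intro t
  obtain ⟨W, ht, i, j, y₀, y₁, h₀, h₁⟩ := exists_loc₂ x₀ x₁ t
  refine ⟨W, ht, ?_⟩
  obtain ⟨u, hu⟩ := exists_u D x₀ v hv W.ι y₀ h₀
  rw [← Category.assoc, comp_sig D x₀ x₁ h v hv W.ι y₀ y₁ u h₀ h₁ hu, Category.assoc, ι_qs, ← Category.assoc,
    ph_hom, h₁]

theorem sig_self (x : T ⟶ ∐ X) (v : T ⟶ Zs D) (hv : v ≫ qs D = x) : sig D x x rfl v hv = v := by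
  apply Scheme.hom_ext_of_forall
  intro t
  obtain ⟨W, ht, i, y, h₀⟩ := exists_loc₁ x t
  refine ⟨W, ht, ?_⟩
  obtain ⟨u, hu⟩ := exists_u D x v hv W.ι y h₀
  rw [comp_sig D x x rfl v hv W.ι y y u h₀ h₀ hu, ph_self, hu]

theorem sig_sig (x₂ : T ⟶ ∐ X) (h₁₂ : x₁ ≫ Sigma.desc f = x₂ ≫ Sigma.desc f) :
    sig D x₁ x₂ h₁₂ (sig D x₀ x₁ h v hv) (sig_hom D x₀ x₁ h v hv) = sig D x₀ x₂ (h.trans h₁₂) v hv := by
  apply Scheme.hom_ext_of_forall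
  intro t
  obtain ⟨W, ht, i, j, k, y₀, y₁, y₂, h₀, h₁, h₂⟩ := exists_loc₃ x₀ x₁ x₂ t
  refine ⟨W, ht, ?_⟩
  obtain ⟨u, hu⟩ := exists_u D x₀ v hv W.ι y₀ h₀
  have e₀₁ := comp_sig D x₀ x₁ h v hv W.ι y₀ y₁ u h₀ h₁ hu
  rw [comp_sig D x₁ x₂ h₁₂ _ (sig_hom D x₀ x₁ h v hv) W.ι y₁ y₂ _ h₁ h₂ e₀₁.symm,
    comp_sig D x₀ x₂ (h.trans h₁₂) v hv W.ι y₀ y₂ u h₀ h₂ hu, ph_ph]

theorem sig_natural {T' : Scheme.{u}} (g : T' ⟶ T)
    (h' : (g ≫ x₀) ≫ Sigma.desc f = (g ≫ x₁) ≫ Sigma.desc f) (v' : T' ⟶ Zs D) (hv' : v' ≫ qs D = g ≫ x₀)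
    (e : v' = g ≫ v) : sig D (g ≫ x₀) (g ≫ x₁) h' v' hv' = g ≫ sig D x₀ x₁ h v hv := by
  subst e
  apply Scheme.hom_ext_of_forall
  intro t
  obtain ⟨W, ht, i, j, y₀, y₁, h₀, h₁⟩ := exists_loc₂ (g ≫ x₀) (g ≫ x₁) t
  refine ⟨W, ht, ?_⟩
  obtain ⟨u, hu⟩ := exists_u D (g ≫ x₀) (g ≫ v) hv' W.ι y₀ h₀
  rw [comp_sig D (g ≫ x₀) (g ≫ x₁) h' (g ≫ v) hv' W.ι y₀ y₁ u h₀ h₁ hu, ← Category.assoc,
    comp_sig D x₀ x₁ h v hv (W.ι ≫ g) y₀ y₁ u ((Category.assoc _ _ _).trans h₀)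
      ((Category.assoc _ _ _).trans h₁) (hu.trans (Category.assoc _ _ _).symm)]

end sig


section datum

open Desc Groth.Agent.Lib.Helper4.DescGamma

variable {S : Scheme.{u}} {X : ι → Scheme.{u}} {f : ∀ i, X i ⟶ S} (D : SchDDFam f)

/-- The descent datum relative to `∐ X ⟶ S` with member `∐ (D.obj i).left` obtained from a descent datum relative
to the family. -/
noncomputable def sigmaDD : SchDD (Sigma.desc f) where
  obj := Over.mk (qs D)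
  φ _ x₀ x₁ h :=
    { toFun := fun v => ⟨sig D x₀ x₁ h v.1 v.2, sig_hom D x₀ x₁ h v.1 v.2⟩
      invFun := fun v => ⟨sig D x₁ x₀ h.symm v.1 v.2, sig_hom D x₁ x₀ h.symm v.1 v.2⟩
      left_inv := fun v => Subtype.ext ((sig_sig D x₀ x₁ h v.1 v.2 x₀ h.symm).trans (sig_self D x₀ v.1 v.2))
      right_inv := fun v => Subtype.ext ((sig_sig D x₁ x₀ h.symm v.1 v.2 x₁ h).trans (sig_self D x₁ v.1 v.2)) }
  φ_natural _ _ g x₀ x₁ h h' v v' hv' := sig_natural D x₀ x₁ h v.1 v.2 g h' v'.1 v'.2 hv'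
  φ_self _ x v := Subtype.ext (sig_self D x v.1 v.2)
  φ_comp _ x₀ x₁ x₂ h₀₁ h₁₂ v := Subtype.ext (sig_sig D x₀ x₁ h₀₁ v.1 v.2 x₂ h₁₂)

theorem sigmaDD_φ_val {T : Scheme.{u}} (x₀ x₁ : T ⟶ ∐ X) (h : x₀ ≫ Sigma.desc f = x₁ ≫ Sigma.desc f)
    (v : Lifts (sigmaDD D).obj x₀) : ((sigmaDD D).φ x₀ x₁ h v).1 = sig D x₀ x₁ h v.1 v.2 := rfl

end datum


section restr

open Desc Groth.Agent.Lib.Helper4.DescGamma

variable {S : Scheme.{u}} {X : ι → Scheme.{u}} (f : ∀ i, X i ⟶ S)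

theorem wσ (i : ι) : Sigma.ι X i ≫ Sigma.desc f = f i ≫ 𝟙 S :=
  (Sigma.ι_desc f i).trans (Category.comp_id (f i)).symm

/-- Restriction of descent data relative to `∐ X ⟶ S` to descent data relative to the family. -/
noncomputable abbrev restr : SchDD (Sigma.desc f) ⥤ SchDDFam f :=
  SchDDFam.ofSchDD (Sigma.desc f) ⋙
    pullDDFam (f := fun _ : PUnit.{u + 1} => Sigma.desc f) (f' := f) (α := fun _ => PUnit.unit)
      (p := 𝟙 S) (p' := fun i => Sigma.ι X i) (fun i => wσ f i)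

variable {f} (D : SchDDFam f)

/-- The component of the comparison `D ⟶ restr (sigmaDD D)`. -/
noncomputable def cmpHom (i : ι) : (D.obj i).left ⟶ pullback (qs D) (Sigma.ι X i) :=
  (isPullback_sigma (fun i => (D.obj i).hom) i).isoPullback.hom

@[reassoc (attr := simp)]
theorem cmpHom_fst (i : ι) : cmpHom D i ≫ pullback.fst (qs D) (Sigma.ι X i) =
    Sigma.ι (fun i => (D.obj i).left) i :=
  IsPullback.isoPullback_hom_fst _

@[reassoc (attr := simp)]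
theorem cmpHom_snd (i : ι) : cmpHom D i ≫ pullback.snd (qs D) (Sigma.ι X i) = (D.obj i).hom :=
  IsPullback.isoPullback_hom_snd _

instance (i : ι) : IsIso (cmpHom D i) := by unfold cmpHom; infer_instance

/-- The comparison `D ⟶ restr (sigmaDD D)`. -/
noncomputable def cmp : D ⟶ (restr f).obj (sigmaDD D) where
  hom i := Over.homMk (cmpHom D i) (cmpHom_snd D i)
  comm T i j x₀ x₁ h v w hw := by
    have hw' : w.1 = v.1 ≫ cmpHom D i := hw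
    have hw1 : w.1 ≫ pullback.fst (qs D) (Sigma.ι X i) = v.1 ≫ Sigma.ι (fun i => (D.obj i).left) i := by
      rw [hw', Category.assoc, cmpHom_fst]
    have hv1 : (w.1 ≫ pullback.fst (qs D) (Sigma.ι X i)) ≫ qs D = x₀ ≫ Sigma.ι X i := by
      rw [hw1, Category.assoc, ι_qs, ← Category.assoc, v.2]
    have hcompat : (x₀ ≫ Sigma.ι X i) ≫ Sigma.desc f = (x₁ ≫ Sigma.ι X j) ≫ Sigma.desc f := by
      rw [Category.assoc, Category.assoc, Sigma.ι_desc, Sigma.ι_desc, h]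
    change pullback.lift (sig D (x₀ ≫ Sigma.ι X i) (x₁ ≫ Sigma.ι X j) hcompat
        (w.1 ≫ pullback.fst (qs D) (Sigma.ι X i)) hv1) x₁ _ = (D.φ x₀ x₁ h v).1 ≫ cmpHom D j
    have key := comp_sig D (x₀ ≫ Sigma.ι X i) (x₁ ≫ Sigma.ι X j) hcompat
      (w.1 ≫ pullback.fst (qs D) (Sigma.ι X i)) hv1 (𝟙 T) x₀ x₁ v.1 (Category.id_comp _) (Category.id_comp _)
      (hw1.symm.trans (Category.id_comp _).symm)
    rw [Category.id_comp] at key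
    apply pullback.hom_ext
    · rw [pullback.lift_fst, key, Category.assoc, cmpHom_fst]
      exact congrArg (· ≫ Sigma.ι (fun i => (D.obj i).left) j) (ph_congr D _ _ rfl rfl rfl)
    · rw [pullback.lift_snd, Category.assoc, cmpHom_snd]
      exact (D.φ x₀ x₁ h v).2.symm

instance : IsIso (cmp D) :=
  isIso_of_isIso_left (cmp D) (fun i => by change IsIso (cmpHom D i); infer_instance)

end restr

end Groth.Agent.Lib.Helper4.DescSigma
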