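import Mathlib
import Groth.Prelude.Def_DescFam
import Groth.Agent.Lib.Helper4.DescGamma
import Groth.Agent.Lib.Helper4.DescPull
import Groth.Agent.Lib.Helper4.DescGlue
import Groth.Agent.Lib.Helper4.DescMain
import Groth.Agent.Lib.Helper4.DescSigma

/-!
# Effectivity of descent data relative to fpqc covering families (helper4)

* `sigma_mem_fpqc`: the coproduct of an fpqc covering family is an fpqc covering.
* `exists_isUniv_of_sigma`: a scheme whose canonical datum relative to `∐ X ⟶ S` is isomorphic to `sigmaDD D` carries a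
  universal section of the family datum `D`.
* `finite_affine_mem_fpqc`, `exists_finite_affine_refinement`: finite affine refinements of fpqc covering families.
* `isEffective_of_sigma_affine`: reduction of effectivity for fpqc covering families to coproduct data of finite flat
  families of affine schemes over affine bases (the reduction of S9858).
* `isEffective_of_isAffineHom`: effective fpqc descent for affine morphisms, family version.
-/

set_option autoImplicit false
set_option backward.isDefEq.respectTransparency false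
set_option linter.style.haveILetI false
universe w u
open CategoryTheory CategoryTheory.Limits AlgebraicGeometry

namespace Groth.Agent.Lib.Helper4.DescFamEff

open Desc Groth.Agent.Lib.Helper4.DescGamma Groth.Agent.Lib.Helper4.DescPull Groth.Agent.Lib.Helper4.DescGlue
  Groth.Agent.Lib.Helper4.DescSigma

variable {ι : Type w} [Small.{u} ι] {S : Scheme.{u}} {X : ι → Scheme.{u}} {f : ∀ i, X i ⟶ S}

/-- The coproduct of an fpqc covering family is an fpqc covering. -/
theorem sigma_mem_fpqc (hf : Presieve.ofArrows X f ∈ Scheme.fpqcPrecoverage S) :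
    Presieve.ofArrows (fun _ : PUnit.{u + 1} => ∐ X) (fun _ => Sigma.desc f) ∈ Scheme.fpqcPrecoverage S := by
  have hf' : Presieve.ofArrows X f ∈ Scheme.propQCPrecoverage (@Flat : MorphismProperty Scheme.{u}) S := hf
  let E : PreZeroHypercover.{w} S := { I₀ := ι, X := X, f := f }
  let E' : PreZeroHypercover.{u} S := { I₀ := PUnit.{u + 1}, X := fun _ => ∐ X, f := fun _ => Sigma.desc f }
  have hqc : QuasiCompactCover E := Scheme.presieve₀_mem_qcPrecoverage_iff.mp hf'.1
  have hqc' : QuasiCompactCover E' :=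
    QuasiCompactCover.of_hom (𝒰 := E') (𝒱 := E)
      { s₀ := fun _ => PUnit.unit, h₀ := fun i => Sigma.ι X i, w₀ := fun i => Sigma.ι_desc f i }
  obtain ⟨hsurj, hflat⟩ := (Scheme.ofArrows_mem_precoverage_iff (P := @Flat)).mp hf'.2
  refine ⟨Scheme.presieve₀_mem_qcPrecoverage_iff.mpr hqc', ?_⟩
  rw [Scheme.ofArrows_mem_precoverage_iff]
  refine ⟨fun s => ?_, fun _ => ?_⟩
  · obtain ⟨i, x, hx⟩ := hsurj s
    exact ⟨PUnit.unit, Sigma.ι X i x, by rw [← Scheme.Hom.comp_apply, Sigma.ι_desc]; exact hx⟩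
  · rw [IsZariskiLocalAtSource.iff_of_openCover (P := @Flat) (sigmaOpenCover X)]
    intro i
    have : (sigmaOpenCover X).f i ≫ Sigma.desc f = f i := Sigma.ι_desc _ _
    rw [this]; exact hflat i


/-- A scheme over `S` whose canonical datum relative to `∐ X ⟶ S` is isomorphic to the coproduct datum of `D`
carries a universal section of `D`. -/
theorem exists_isUniv_of_sigma (hf : Presieve.ofArrows X f ∈ Scheme.fpqcPrecoverage S) (D : SchDDFam f)
    (U : Over S) (θ : (toDD (Sigma.desc f)).obj U ≅ sigmaDD D) :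
    ∃ ε : (toDDFam f).obj U ⟶ D, IsUniv D U ε := by
  let DS : SchDDFam (fun _ : PUnit.{u + 1} => Sigma.desc f) :=
    (SchDDFam.ofSchDD (Sigma.desc f)).obj (sigmaDD D)
  let ε₀ : (toDDFam (fun _ : PUnit.{u + 1} => Sigma.desc f)).obj U ⟶ DS :=
    (SchDDFam.ofSchDD (Sigma.desc f)).map θ.hom
  have hε₀ : IsIso ε₀ := Functor.map_isIso _ _
  let κ : push (𝟙 S) U ≅ U := Over.isoMk (Iso.refl _) (by
    change 𝟙 _ ≫ U.hom = U.hom ≫ 𝟙 S
    rw [Category.id_comp, Category.comp_id])
  let ε₁ : (toDDFam (fun _ : PUnit.{u + 1} => Sigma.desc f)).obj (push (𝟙 S) U) ⟶ DS :=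
    (toDDFam (fun _ : PUnit.{u + 1} => Sigma.desc f)).map κ.hom ≫ ε₀
  have hε₁ : IsIso ε₁ := inferInstance
  have hU₁ : IsUniv DS (push (𝟙 S) U) ε₁ := isUniv_of_isIso (sigma_mem_fpqc hf) DS _ ε₁
  let ε₂ : (toDDFam f).obj U ⟶ (restr f).obj (sigmaDD D) := res (f := fun _ : PUnit.{u + 1} => Sigma.desc f) (f' := f) (α := fun _ => PUnit.unit) (p := 𝟙 S) (p' := fun i => Sigma.ι X i) (wσ f) ε₁
  refine ⟨ε₂ ≫ inv (cmp D), fun T s => ?_⟩
  obtain ⟨s₁, hs₁⟩ := res_surjective (f := fun _ : PUnit.{u + 1} => Sigma.desc f) (f' := f) (α := fun _ => PUnit.unit) (p := 𝟙 S) (p' := fun i => Sigma.ι X i) (wσ f) hf (D := DS) (T' := T) (s ≫ cmp D)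
  obtain ⟨m, hm, huniq⟩ := hU₁ (push (𝟙 S) T) s₁
  have hm' : (toDDFam (fun _ : PUnit.{u + 1} => Sigma.desc f)).map m ≫ ε₁ = s₁ := hm
  have hmw : m.left ≫ U.hom = T.hom := by
    have := Over.w m
    change m.left ≫ U.hom ≫ 𝟙 S = T.hom ≫ 𝟙 S at this
    simpa using this
  let m' : T ⟶ U := Over.homMk m.left hmw
  have em : pushMap (𝟙 S) m' = m := Over.OverMorphism.ext rfl
  refine ⟨m', ?_, fun m'' hm'' => ?_⟩
  · show (toDDFam f).map m' ≫ ε₂ ≫ inv (cmp D) = s
    have e : (toDDFam f).map m' ≫ ε₂ = s ≫ cmp D := by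
      rw [← hs₁, ← hm', ← em]
      exact (res_natural (f := fun _ : PUnit.{u + 1} => Sigma.desc f) (f' := f) (α := fun _ => PUnit.unit) (p := 𝟙 S) (p' := fun i => Sigma.ι X i) (wσ f) m' ε₁).symm
    rw [← Category.assoc, e, Category.assoc, IsIso.hom_inv_id, Category.comp_id]
  · have hm2 : (toDDFam f).map m'' ≫ ε₂ ≫ inv (cmp D) = s := hm''
    have e : (toDDFam f).map m'' ≫ ε₂ = s ≫ cmp D := by
      rw [← hm2, Category.assoc, Category.assoc, IsIso.inv_hom_id, Category.comp_id]
    have e2 : (toDDFam (fun _ : PUnit.{u + 1} => Sigma.desc f)).map (pushMap (𝟙 S) m'') ≫ ε₁ = s₁ := by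
      apply res_injective (f := fun _ : PUnit.{u + 1} => Sigma.desc f) (f' := f) (α := fun _ => PUnit.unit) (p := 𝟙 S) (p' := fun i => Sigma.ι X i) (wσ f) hf
      rw [res_natural (f := fun _ : PUnit.{u + 1} => Sigma.desc f) (f' := f) (α := fun _ => PUnit.unit) (p := 𝟙 S) (p' := fun i => Sigma.ι X i) (wσ f), hs₁]
      exact e
    have e3 : pushMap (𝟙 S) m'' = m := huniq _ e2
    apply Over.OverMorphism.ext
    exact congrArg (fun a => a.left) e3


section finite

theorem flat_sigmaDesc {κ : Type w} [Small.{u} κ] {B : Scheme.{u}} (T : κ → Scheme.{u}) (g : ∀ k, T k ⟶ B)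
    (hflat : ∀ k, Flat (g k)) : Flat (Sigma.desc g) := by
  rw [IsZariskiLocalAtSource.iff_of_openCover (P := @Flat) (sigmaOpenCover T)]
  intro i
  have : (sigmaOpenCover T).f i ≫ Sigma.desc g = g i := Sigma.ι_desc _ _
  rw [this]; exact hflat i

theorem surjective_sigmaDesc {κ : Type w} [Small.{u} κ] {B : Scheme.{u}} (T : κ → Scheme.{u}) (g : ∀ k, T k ⟶ B)
    (hsurj : ∀ b : B, ∃ k, b ∈ Set.range (g k)) : Surjective (Sigma.desc g) :=
  ⟨fun b => by
    obtain ⟨i, t, rfl⟩ := hsurj b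
    exact ⟨Sigma.ι T i t, by rw [← Scheme.Hom.comp_apply, Sigma.ι_desc]⟩⟩

/-- A finite jointly surjective family of flat morphisms of affine schemes is an fpqc covering. -/
theorem finite_affine_mem_fpqc {B : Scheme.{u}} [IsAffine B] {m : ℕ} (T : Fin m → Scheme.{u})
    [∀ k, IsAffine (T k)] (g : ∀ k, T k ⟶ B) (hflat : ∀ k, Flat (g k))
    (hsurj : ∀ b : B, ∃ k, b ∈ Set.range (g k)) :
    Presieve.ofArrows T g ∈ Scheme.fpqcPrecoverage B := by
  have hmem : Presieve.ofArrows T g ∈ Scheme.precoverage (@Flat : MorphismProperty Scheme.{u}) B :=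
    (Scheme.ofArrows_mem_precoverage_iff (P := @Flat)).mpr ⟨hsurj, hflat⟩
  let 𝒰 : Scheme.Cover.{0} (Scheme.precoverage @Flat) B := { I₀ := Fin m, X := T, f := g, mem₀ := hmem }
  have : ∀ i, QuasiCompact (𝒰.f i) := fun i => (inferInstance : QuasiCompact (g i))
  have : Finite 𝒰.I₀ := (inferInstance : Finite (Fin m))
  have hqc : QuasiCompactCover 𝒰.toPreZeroHypercover := QuasiCompactCover.of_finite
  exact ⟨Scheme.presieve₀_mem_qcPrecoverage_iff.mpr hqc, hmem⟩

/-- Over an affine scheme mapping to `S`, an fpqc covering family of `S` is refined by a finite family of flat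
morphisms from affine schemes. -/
theorem exists_finite_affine_refinement {ι : Type w} {S : Scheme.{u}} {X : ι → Scheme.{u}} (f : ∀ i, X i ⟶ S)
    (hf : Presieve.ofArrows X f ∈ Scheme.fpqcPrecoverage S) {S' : Scheme.{u}} [IsAffine S'] (b : S' ⟶ S) :
    ∃ (m : ℕ) (W : Fin m → Scheme.{u}) (_ : ∀ k, IsAffine (W k)) (g : ∀ k, W k ⟶ S') (_ : ∀ k, Flat (g k))
      (_ : ∀ s : S', ∃ k, s ∈ Set.range (g k)) (α : Fin m → ι) (p' : ∀ k, W k ⟶ X (α k)),
      ∀ k, p' k ≫ f (α k) = g k ≫ b := by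
  have hf' : Presieve.ofArrows X f ∈ Scheme.propQCPrecoverage (@Flat : MorphismProperty Scheme.{u}) S := hf
  let 𝒰 : Scheme.Cover.{w} (Scheme.precoverage @Flat) S :=
    { I₀ := ι, X := X, f := f, mem₀ := hf'.2 }
  have hqc : QuasiCompactCover 𝒰.toPreZeroHypercover :=
    Scheme.presieve₀_mem_qcPrecoverage_iff.mp hf'.1
  let 𝒰' : Scheme.Cover.{w} (Scheme.precoverage @Flat) S' := 𝒰.pullback₁ b
  have : QuasiCompactCover 𝒰'.toPreZeroHypercover :=
    inferInstanceAs (QuasiCompactCover (𝒰.toPreZeroHypercover.pullback₁ b))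
  have : CompactSpace S' := inferInstance
  have hex : ∃ (𝒱 : Scheme.AffineCover.{w} @Flat S') (f : 𝒱.cover ⟶ 𝒰'),
      Finite 𝒱.I₀ ∧ ∀ j, IsOpenImmersion (f.h₀ j) := QuasiCompactCover.exists_hom 𝒰'
  obtain ⟨𝒱, φ, hfin, -⟩ := hex
  obtain ⟨m, ⟨e⟩⟩ := Finite.exists_equiv_fin 𝒱.I₀
  refine ⟨m, fun k => Spec (𝒱.X (e.symm k)), fun k => inferInstance, fun k => 𝒱.f (e.symm k),
    fun k => 𝒱.map_prop _, fun s => ⟨e (𝒱.idx s), ?_⟩, fun k => φ.s₀ (e.symm k),
    fun k => φ.h₀ (e.symm k) ≫ pullback.snd b (f (φ.s₀ (e.symm k))), fun k => ?_⟩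
  · show s ∈ Set.range (𝒱.f (e.symm (e (𝒱.idx s))))
    rw [Equiv.symm_apply_apply]; exact 𝒱.covers s
  · have h1 : φ.h₀ (e.symm k) ≫ pullback.fst b (f (φ.s₀ (e.symm k))) = 𝒱.f (e.symm k) := φ.w₀ _
    show (φ.h₀ (e.symm k) ≫ pullback.snd b (f (φ.s₀ (e.symm k)))) ≫ f (φ.s₀ (e.symm k)) = 𝒱.f (e.symm k) ≫ b
    rw [← h1, Category.assoc, Category.assoc, pullback.condition]

end finite

section main

variable {ι' : Type u} {S' : Scheme.{u}} {Y : ι' → Scheme.{u}} {a : ∀ i, Y i ⟶ S'}

/-- Effectivity of a descent datum relative to an fpqc covering family follows from effectivity of the coproduct data of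
its pullbacks to finite flat families of affine schemes over affine opens of the base. -/
theorem isEffective_of_sigma_affine (ha : Presieve.ofArrows Y a ∈ Scheme.fpqcPrecoverage S') (D : SchDDFam a)
    (H : ∀ (B : Scheme.{u}) (_ : IsAffine B) (b : B ⟶ S') (m : ℕ) (W : Fin m → Scheme.{u})
      (_ : ∀ k, IsAffine (W k)) (g : ∀ k, W k ⟶ B) (_ : ∀ k, Flat (g k))
      (_ : ∀ s : B, ∃ k, s ∈ Set.range (g k)) (α : Fin m → ι') (p' : ∀ k, W k ⟶ Y (α k))
      (w : ∀ k, p' k ≫ a (α k) = g k ≫ b),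
      ∃ U' : Over B, Nonempty ((toDD (Sigma.desc g)).obj U' ≅
        sigmaDD ((pullDDFam (f := a) (f' := g) (α := α) (p := b) (p' := p') w).obj D))) :
    D.IsEffective := by
  have hchart : ∀ V : S'.affineOpens, Nonempty (Chart D V.1) := fun V => by
    obtain ⟨m, W, hW, g, hflat, hsurj, α, p', w⟩ := exists_finite_affine_refinement a ha V.2.fromSpec
    obtain ⟨U', ⟨θ⟩⟩ := H (Spec Γ(S', V.1)) inferInstance V.2.fromSpec m W hW g hflat hsurj α p' w
    have hg := finite_affine_mem_fpqc W g hflat hsurj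
    obtain ⟨ε', hε'⟩ := exists_isUniv_of_sigma hg
      ((pullDDFam (f := a) (f' := g) (α := α) (p := V.2.fromSpec) (p' := p') w).obj D) U' θ
    obtain ⟨ε, -, huniv⟩ := exists_univ_push (f := a) (f' := g) (α := α) (p := V.2.fromSpec) (p' := p') w hg U' ε' hε'
    exact ⟨DescMain.chartOfPush D V.2.fromSpec V.1 V.2.isoSpec.symm (IsAffineOpen.isoSpec_inv_ι V.2) U' ε huniv⟩
  obtain ⟨U, ε, hε⟩ := exists_isUniv_of_charts hchart
  have := isIso_of_isUniv hε
  exact ⟨U, ⟨asIso ε⟩⟩


/-- **Effective fpqc descent for affine morphisms, for covering families.** -/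
theorem isEffective_of_isAffineHom (ha : Presieve.ofArrows Y a ∈ Scheme.fpqcPrecoverage S') (D : SchDDFam a)
    (hD : ∀ i, IsAffineHom (D.obj i).hom) : D.IsEffective := by
  refine isEffective_of_sigma_affine ha D (fun B hB b m W hW g hflat hsurj α p' w => ?_)
  have h1 : Flat (Sigma.desc g) := flat_sigmaDesc W g hflat
  have h2 : Surjective (Sigma.desc g) := surjective_sigmaDesc W g hsurj
  have h3 : IsAffine (∐ W) := inferInstance
  have h4 : QuasiCompact (Sigma.desc g) := inferInstance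
  let D₁ := (pullDDFam (f := a) (f' := g) (α := α) (p := b) (p' := p') w).obj D
  have h5 : ∀ k, IsAffine (D₁.obj k).left := fun k => by
    have : IsAffineHom (pullback.snd (D.obj (α k)).hom (p' k)) :=
      MorphismProperty.pullback_snd _ _ (hD (α k))
    exact isAffine_of_isAffineHom (pullback.snd (D.obj (α k)).hom (p' k))
  have h6 : IsAffine (∐ fun k => (D₁.obj k).left) := inferInstance
  have h7 : IsAffineHom (sigmaDD D₁).obj.hom := by
    change IsAffineHom (qs D₁)
    infer_instance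
  exact DescMain.exists_iso_toDD (Sigma.desc g) (sigmaDD D₁)

end main

end Groth.Agent.Lib.Helper4.DescFamEff
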