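import Mathlib
import Groth.Prelude.Def_DescFam
import Groth.Agent.Lib.Helper4.DescMain

/-!
# Effectivity of descent data is local on the base (helper4)

`isEffective_of_affineOpens`: a descent datum relative to an fpqc covering family of `S` is effective as soon as its
pullbacks to the affine opens of `S` (relative to the base-changed families) are effective.
-/

set_option autoImplicit false
set_option linter.style.haveILetI false
set_option backward.isDefEq.respectTransparency false
universe u
open CategoryTheory CategoryTheory.Limits AlgebraicGeometry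

namespace Groth.Agent.Lib.Helper4.DescLocalBase

open Desc Groth.Agent.Lib.Helper4.DescGamma Groth.Agent.Lib.Helper4.DescPull Groth.Agent.Lib.Helper4.DescGlue

variable {S : Scheme.{u}} {ι : Type u} {X : ι → Scheme.{u}} {f : ∀ i, X i ⟶ S}

/-- The pullback of a descent datum to a scheme `B` over the base, relative to the base-changed family. -/
noncomputable abbrev baseChangeDD (D : SchDDFam f) {B : Scheme.{u}} (b : B ⟶ S) :
    SchDDFam (fun i => pullback.snd (f i) b) :=
  (pullDDFam (f := f) (f' := fun i => pullback.snd (f i) b) (α := fun i => i) (p := b)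
    (p' := fun i => pullback.fst (f i) b) (fun _ => pullback.condition)).obj D

/-- Effectivity is local on the base. -/
theorem isEffective_of_affineOpens (hf : Presieve.ofArrows X f ∈ Scheme.fpqcPrecoverage S) (D : SchDDFam f)
    (H : ∀ V : S.affineOpens, (baseChangeDD D V.2.fromSpec).IsEffective) : D.IsEffective := by
  have hchart : ∀ V : S.affineOpens, Nonempty (Chart D V.1) := fun V => by
    obtain ⟨U', ⟨θ⟩⟩ := H V
    have hcov := DescFF.pullback_cover f hf V.2.fromSpec
    have huniv' := isUniv_of_isIso hcov (baseChangeDD D V.2.fromSpec) U' θ.hom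
    obtain ⟨ε, -, huniv⟩ := exists_univ_push (f := f) (f' := fun i => pullback.snd (f i) V.2.fromSpec)
      (α := fun i => i) (p := V.2.fromSpec) (p' := fun i => pullback.fst (f i) V.2.fromSpec)
      (fun _ => pullback.condition) hcov U' θ.hom huniv'
    exact ⟨DescMain.chartOfPush D V.2.fromSpec V.1 V.2.isoSpec.symm (IsAffineOpen.isoSpec_inv_ι V.2) U' ε huniv⟩
  obtain ⟨U, ε, hε⟩ := exists_isUniv_of_charts hchart
  have := isIso_of_isUniv hε
  exact ⟨U, ⟨asIso ε⟩⟩

end Groth.Agent.Lib.Helper4.DescLocalBase
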