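import Mathlib
import Groth.Prelude.Def_DescFam
import Groth.Agent.Lib.Helper4.DescLocalBase
import Groth.Agent.Lib.Helper4.DescGlueOpen
import Groth.Agent.Lib.Helper4.DescFamEff

/-!
# Descent along flat, surjective, quasi-compact, universally injective morphisms is effective for all schemes (helper4)
-/

set_option autoImplicit false
set_option linter.style.haveILetI false
set_option backward.isDefEq.respectTransparency false
universe u
open CategoryTheory CategoryTheory.Limits AlgebraicGeometry

namespace Groth.Agent.Lib.Helper4.DescUnivInj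

open Desc Groth.Agent.Lib.Helper4.DescGamma Groth.Agent.Lib.Helper4.DescRestrict

/-- A universally injective morphism is separated. -/
theorem isSeparated_of_universallyInjective {X Y : Scheme.{u}} (g : X ⟶ Y) [UniversallyInjective g] :
    IsSeparated g := by
  have hs : Surjective (pullback.diagonal g) := (UniversallyInjective.iff_diagonal g).mp inferInstance
  have hr : IsClosed (Set.range (pullback.diagonal g)) := by
    rw [Set.range_eq_univ.mpr hs.surj]; exact isClosed_univ
  exact ⟨IsClosedImmersion.of_isPreimmersion _ hr⟩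

section stable

variable {S' S : Scheme.{u}} {g : S' ⟶ S} [UniversallyInjective g]

/-- The gluing bijections of a descent datum relative to a universally injective morphism do not move points. -/
theorem φ_apply_eq (D : SchDDFam (fun _ : PUnit.{u + 1} => g)) ⦃T : Scheme.{u}⦄ (x₀ x₁ : T ⟶ S')
    (h : x₀ ≫ g = x₁ ≫ g) (v : Lifts (D.obj ⟨⟩) x₀) (t : T) :
    (D.φ (i := ⟨⟩) (j := ⟨⟩) x₀ x₁ h v).1 t = v.1 t := by
  let τ : Spec (T.residueField t) ⟶ T := T.fromSpecResidueField t
  have hK0 : ∀ (K : Type u) [Field K], Function.Injective (fun a : Spec (.of K) ⟶ S' ↦ a ≫ g) :=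
    ((tfae_universallyInjective g).out 0 1).mp ‹UniversallyInjective g›
  have hK := hK0 (T.residueField t)
  have e : τ ≫ x₀ = τ ≫ x₁ := hK (by
    change (τ ≫ x₀) ≫ g = (τ ≫ x₁) ≫ g
    rw [Category.assoc, h, Category.assoc])
  have h1 := comp_ph D τ (i := ⟨⟩) (j := ⟨⟩) x₀ x₁ h v.1 v.2
  have h2 : ph D (i := ⟨⟩) (j := ⟨⟩) (τ ≫ x₀) (τ ≫ x₁) (by rw [Category.assoc, h, Category.assoc]) (τ ≫ v.1)
      (by rw [Category.assoc, v.2]) = τ ≫ v.1 := by
    rw [ph_congr D (i := ⟨⟩) (j := ⟨⟩) (x₀' := τ ≫ x₀) (x₁' := τ ≫ x₀) (d' := τ ≫ v.1) _ _ rfl e.symm rfl]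
    exact ph_self D _ _ _
  rw [h2] at h1
  have h3 := congr($(h1) (IsLocalRing.closedPoint (T.residueField t)))
  rw [Scheme.Hom.comp_apply, Scheme.Hom.comp_apply] at h3
  have h4 : τ (IsLocalRing.closedPoint (T.residueField t)) = t := Scheme.fromSpecResidueField_apply _ _
  rw [h4] at h3
  exact h3

theorem stable_of_universallyInjective (D : SchDDFam (fun _ : PUnit.{u + 1} => g))
    (W : ∀ i, (D.obj i).left.Opens) : Stable D W := by
  rintro T ⟨⟩ ⟨⟩ x₀ x₁ h v t ht
  rw [φ_apply_eq D x₀ x₁ h v t]
  exact ht

end stable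

section main

variable {S' S : Scheme.{u}} (g : S' ⟶ S) [Flat g] [Surjective g] [QuasiCompact g] [UniversallyInjective g]

omit [UniversallyInjective g] in
theorem singleton_mem : Presieve.ofArrows (fun _ : PUnit.{u + 1} => S') (fun _ => g) ∈ Scheme.fpqcPrecoverage S := by
  rw [Presieve.ofArrows_pUnit]
  exact Scheme.Hom.singleton_mem_fpqcPrecoverage g

/-- The components of an isomorphism of descent data are isomorphisms. -/
theorem isIso_hom_left {ι : Type u} {X : ι → Scheme.{u}} {f : ∀ i, X i ⟶ S} {D D' : SchDDFam f} (e : D ≅ D')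
    (k : ι) : IsIso (e.hom.hom k).left := by
  refine ⟨(e.inv.hom k).left, ?_, ?_⟩
  · rw [← Over.comp_left, ← SchDDFam.comp_hom, e.hom_inv_id]; rfl
  · rw [← Over.comp_left, ← SchDDFam.comp_hom, e.inv_hom_id]; rfl

/-- Over an affine base, every descent datum relative to a flat, surjective, quasi-compact, universally injective morphism is
effective. -/
theorem isEffective_of_isAffine_base [IsAffine S] (D : SchDDFam (fun _ : PUnit.{u + 1} => g)) : D.IsEffective := by
  have hf := singleton_mem g
  have hsep : IsSeparated g := isSeparated_of_universallyInjective g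
  refine DescGlueOpen.isEffective_of_cover hf D (fun i v => ?_)
  obtain ⟨W, hW, hvW, -⟩ := exists_isAffineOpen_mem_and_subset (X := (D.obj i).left) (x := v) (U := ⊤) trivial
  cases i
  let W' : ∀ k : PUnit.{u + 1}, (D.obj k).left.Opens := fun _ => W
  have hst : Stable D W' := stable_of_universallyInjective D W'
  let R := restrict D W' hst
  have haff : ∀ k, IsAffineHom (R.obj k).hom := fun k => by
    cases k
    haveI : IsAffine (W : Scheme.{u}) := hW
    have h1 : IsAffineHom ((W.ι ≫ (D.obj ⟨⟩).hom) ≫ g) := inferInstance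
    exact IsAffineHom.of_comp (W.ι ≫ (D.obj ⟨⟩).hom) g
  obtain ⟨U, ⟨θ⟩⟩ := DescFamEff.isEffective_of_isAffineHom hf R haff
  refine ⟨U, θ.hom ≫ restrictHom D W' hst, fun k => ?_, ?_⟩
  · have := isIso_hom_left θ k
    change IsOpenImmersion ((θ.hom.hom k).left ≫ ((restrictHom D W' hst).hom k).left)
    infer_instance
  · have := isIso_hom_left θ PUnit.unit
    have h1 : inv (θ.hom.hom PUnit.unit).left ≫ (θ.hom.hom PUnit.unit).left ≫ W.ι = W.ι := IsIso.inv_hom_id_assoc _ _
    have h2 := congr($(h1) ⟨v, hvW⟩)
    exact ⟨(inv (θ.hom.hom PUnit.unit).left) ⟨v, hvW⟩, h2⟩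

/-- Every descent datum relative to a flat, surjective, quasi-compact, universally injective morphism is effective (family
form with one member). -/
theorem isEffective (D : SchDDFam (fun _ : PUnit.{u + 1} => g)) : D.IsEffective := by
  refine DescLocalBase.isEffective_of_affineOpens (singleton_mem g) D (fun V => ?_)
  have h1 : UniversallyInjective (pullback.snd g V.2.fromSpec) :=
    MorphismProperty.pullback_snd (P := @UniversallyInjective) _ _ inferInstance
  exact isEffective_of_isAffine_base (pullback.snd g V.2.fromSpec) _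

/-- Every descent datum relative to a flat, surjective, quasi-compact, universally injective morphism is effective. -/
theorem exists_iso_toDD (D : SchDD g) : ∃ U : Over S, Nonempty ((toDD g).obj U ≅ D) := by
  obtain ⟨U, ⟨θ⟩⟩ := isEffective g ((SchDDFam.ofSchDD g).obj D)
  exact ⟨U, ⟨(SchDDFam.toSchDD g).mapIso θ⟩⟩

end main

end Groth.Agent.Lib.Helper4.DescUnivInj
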