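import Mathlib
import Groth.Prelude.Def_DescFam
import Groth.Prelude.Def_MoreMor
import Groth.Agent.Lib.Helper4.DescIQAGeom
import Groth.Agent.Lib.Helper4.DescGlueOpen
import Groth.Agent.Lib.Helper4.DescUnivInj

/-!
# Ind-quasi-affine fpqc descent, affine case (helper4)

`isEffective_of_isAffine_iqa`: a descent datum relative to a flat surjective morphism of affine schemes whose member `V` is an
ind-quasi-affine scheme is effective (Stacks 0APK).  Every point of `V` has a saturated open neighbourhood `W` inside a chain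
of quasi-compact (hence quasi-affine) opens `M k` with `sat (M (k+1)) ⊆ M k` (`DescSat.exists_chain`); the germ ring
`colim Γ(V, M k)` carries an honest coaction, hence is `Γ(X) ⊗ C` for its ring of invariants `C`, and `W ⟶ X ×_S Spec C` is an
open immersion of descent data.
-/

set_option autoImplicit false
set_option backward.isDefEq.respectTransparency false
set_option linter.style.haveILetI false
set_option linter.unusedSectionVars false
universe u
open CategoryTheory CategoryTheory.Limits AlgebraicGeometry TensorProduct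

namespace Groth.Agent.Lib.Helper4.DescIQA

open Desc Groth.Agent.Lib.Helper4.DescGamma Groth.Agent.Lib.Helper4.DescQAff Groth.Agent.Lib.Helper4.DescSat
  Groth.Agent.Lib.Helper4.DescAppLE Groth.Agent.Lib.Helper4.DescRestrict

section main

variable {S X : Scheme.{u}} (p : X ⟶ S) (D : SchDDFam (fun _ : PUnit.{u + 1} => p))
variable (M : ℕ → (V p D).Opens) (hM : Antitone M) (hsat : ∀ k, sat p D (M (k + 1)) ⊆ M k)
variable [IsAffine S] [IsAffine X] [Flat p] [hqa : ∀ k, (M k : Scheme.{u}).IsQuasiAffine]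

attribute [local instance] algXN algSN algSPN

/-- the ring of invariants of the germ ring -/
noncomputable abbrev CC : Subalgebra Γ(S, ⊤) (LL p D M hM) :=
  (data p D M hM hsat).invariants (ff_self p D M hM) (ff_trans p D M hM)

theorem isPushout_LL :
    IsPushout p.appTop (CommRingCat.ofHom (algebraMap Γ(S, ⊤) (CC p D M hM hsat)))
      (CommRingCat.ofHom (algebraMap (AX p) (LL p D M hM)))
      (CommRingCat.ofHom (CC p D M hM hsat).val.toRingHom) := by
  haveI : Module.Flat Γ(S, ⊤) (AX p) := Scheme.Hom.flat_appTop p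
  exact DescRingLevel.isPushout_of_bijective_lam (CC p D M hM hsat)
    ((data p D M hM hsat).bijective_lam (ff_self p D M hM) (ff_trans p D M hM))

theorem act_eq_snd (W : (V p D).Opens) (hW : ∀ k, W ≤ M k) (hWsat : sat p D W ⊆ W) (c : LL p D M hM)
    (hc : c ∈ CC p D M hM hsat) :
    ((act p D).appLE W (PN p D W) (PN_le_act p D hWsat)).hom (κ p D M hM W hW c) =
      ((sndP p D).appLE W (PN p D W) le_rfl).hom (κ p D M hM W hW c) :=
  DescRingLevel.Data.act_eq_snd_of_mem_invariants (data p D M hM hsat) (ff_self p D M hM) (ff_trans p D M hM)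
    (fun k => (resV p D (hW k)).hom) _ (fun k => (resP p D (PN_mono p D (hW k))).hom)
    ((fstP p D).appLE ⊤ (PN p D W) le_top).hom _ _
    (fun _ a => appLE_eq (Category.id_comp _) _ _ _ _ _ _ a)
    (fun _ b => appLE_comm ((Category.id_comp _).trans (Category.comp_id _).symm) _ _ _ _ _ _ _ _ b)
    (fun _ b => appLE_comm ((Category.id_comp _).trans (Category.comp_id _).symm) _ _ _ _ _ _ _ _ b) c hc

theorem stable_of_sat (W : (V p D).Opens) (hWsat : sat p D W ⊆ W) :
    Stable D (fun _ : PUnit.{u + 1} => W) := by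
  intro T i j x₀ x₁ h v t ht
  cases i
  cases j
  have h1 : (D.φ x₀ x₁ h v).1 = _ := ph_eq_lift_act p D x₀ x₁ h v.1 v.2
  rw [h1, Scheme.Hom.comp_apply]
  refine hWsat ⟨_, ?_, rfl⟩
  show (sndP p D) _ ∈ W
  rw [← Scheme.Hom.comp_apply, pullback.lift_snd]
  exact ht

include hM hsat in
/-- **Key step**: the restriction of the datum to a saturated open contained in all members of the chain is effective. -/
theorem isEffective_restrict [Surjective p] (W : (V p D).Opens) (hW : ∀ k, W ≤ M k) (hWsat : sat p D W ⊆ W)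
    (hst : Stable D (fun _ : PUnit.{u + 1} => W)) :
    (restrict D (fun _ : PUnit.{u + 1} => W) hst).IsEffective := by
  let C : CommRingCat.{u} := CommRingCat.of (CC p D M hM hsat)
  let a : Γ(S, ⊤) ⟶ C := CommRingCat.ofHom (algebraMap Γ(S, ⊤) (CC p D M hM hsat))
  let ιC : C ⟶ CommRingCat.of (LL p D M hM) := CommRingCat.ofHom (CC p D M hM hsat).val.toRingHom
  let κ₀ : Γ(X, ⊤) ⟶ CommRingCat.of (LL p D M hM) := CommRingCat.ofHom (algebraMap (AX p) (LL p D M hM))
  have hpo : IsPushout p.appTop a κ₀ ιC := isPushout_LL p D M hM hsat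
  let U₀ : Over S := Over.mk (Spec.map a ≫ S.isoSpec.inv)
  let i : (W : Scheme.{u}) ⟶ Spec (CommRingCat.of (LL p D M hM)) := iW p D M hM W hW
  haveI : IsOpenImmersion i := isOpenImmersion_iW p D M hM W hW
  let c : (W : Scheme.{u}) ⟶ Spec C := i ≫ Spec.map ιC
  have hκ₀ : κ₀ ≫ CommRingCat.ofHom (κ p D M hM W hW) = (π p D).appLE ⊤ W le_top := by
    ext x
    change κ p D M hM W hW (algebraMap (AX p) (LL p D M hM) x) = _
    rw [← DescRingLim.of_algebraMap (BB p D M) (ff p D M hM) 0 x, κ_of]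
    exact appLE_eq (Category.id_comp _) _ _ _ _ _ _ x
  have hi1 : i ≫ Spec.map κ₀ ≫ X.isoSpec.inv = W.ι ≫ π p D := by
    change (W.toSpecΓ ≫ Spec.map (CommRingCat.ofHom (κ p D M hM W hW))) ≫ Spec.map κ₀ ≫ X.isoSpec.inv = _
    rw [Category.assoc, ← Spec.map_comp_assoc, hκ₀]
    exact toSpecΓ_appLE_top (π p D) W
  have hc : (W.ι ≫ π p D) ≫ p = c ≫ U₀.hom := by
    have e1 : Spec.map ιC ≫ Spec.map a = Spec.map κ₀ ≫ Spec.map p.appTop := by
      rw [← Spec.map_comp, ← Spec.map_comp, hpo.w]
    have e2 : Spec.map p.appTop ≫ S.isoSpec.inv = X.isoSpec.inv ≫ p := Scheme.isoSpec_inv_naturality p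
    change _ = (i ≫ Spec.map ιC) ≫ Spec.map a ≫ S.isoSpec.inv
    rw [← hi1]
    simp only [Category.assoc]
    rw [reassoc_of% e1, e2]
  let j : (W : Scheme.{u}) ⟶ pullback p U₀.hom := pullback.lift (W.ι ≫ π p D) c hc
  have hpb : IsPullback (Spec.map κ₀) (Spec.map ιC) (Spec.map p.appTop) (Spec.map a) :=
    isPullback_SpecMap_of_isPushout _ _ _ _ hpo
  have hpb' : IsPullback (Spec.map κ₀ ≫ X.isoSpec.inv) (Spec.map ιC) p (Spec.map a ≫ S.isoSpec.inv) :=
    hpb.of_iso (Iso.refl _) X.isoSpec.symm (Iso.refl _) S.isoSpec.symm (by simp) (by simp)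
      (Scheme.isoSpec_inv_naturality p) (by simp)
  have hj : j = i ≫ hpb'.isoPullback.hom := by
    have e1 : hpb'.isoPullback.hom ≫ pullback.fst p U₀.hom = _ := hpb'.isoPullback_hom_fst
    have e2 : hpb'.isoPullback.hom ≫ pullback.snd p U₀.hom = _ := hpb'.isoPullback_hom_snd
    apply pullback.hom_ext
    · rw [pullback.lift_fst, Category.assoc, e1, hi1]
    · rw [pullback.lift_snd, Category.assoc, e2]
  have hjo : IsOpenImmersion j := by rw [hj]; infer_instance
  -- invariance of `c`
  let actW : (PN p D W : Scheme.{u}) ⟶ (W : Scheme.{u}) := (act p D).resLE W (PN p D W) (PN_le_act p D hWsat)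
  let sndW : (PN p D W : Scheme.{u}) ⟶ (W : Scheme.{u}) := (sndP p D).resLE W (PN p D W) le_rfl
  have hinvc : actW ≫ c = sndW ≫ c := by
    change (act p D).resLE W (PN p D W) (PN_le_act p D hWsat) ≫
        (W.toSpecΓ ≫ Spec.map (CommRingCat.ofHom (κ p D M hM W hW))) ≫ Spec.map ιC =
      (sndP p D).resLE W (PN p D W) le_rfl ≫
        (W.toSpecΓ ≫ Spec.map (CommRingCat.ofHom (κ p D M hM W hW))) ≫ Spec.map ιC
    simp only [Category.assoc]
    rw [← Scheme.Opens.toSpecΓ_SpecMap_appLE_assoc, ← Scheme.Opens.toSpecΓ_SpecMap_appLE_assoc]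
    simp only [← Spec.map_comp]
    congr 2
    ext x
    exact act_eq_snd p D M hM hsat W hW hWsat x.1 x.2
  -- the morphism of descent data
  let W' : ∀ _ : PUnit.{u + 1}, (V p D).Opens := fun _ => W
  let s : restrict D W' hst ⟶ (toDDFam (fun _ : PUnit.{u + 1} => p)).obj U₀ :=
    { hom := fun _ => Over.homMk j (pullback.lift_fst _ _ _)
      comm := fun T i k x₀ x₁ h v w hw => by
        cases i
        cases k
        have hw' : w.1 = v.1 ≫ j := hw
        have hv2 : v.1 ≫ W.ι ≫ π p D = x₀ := v.2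
        let vD : Lifts (D.obj ⟨⟩) x₀ := ⟨v.1 ≫ W.ι, by rw [Category.assoc]; exact hv2⟩
        have h0 := (restrictHom D W' hst).comm (i := PUnit.unit) (j := PUnit.unit) x₀ x₁ h v vD rfl
        replace h0 : (D.φ x₀ x₁ h vD).1 = ((restrict D W' hst).φ x₀ x₁ h v).1 ≫ W.ι := h0
        have h1 : (D.φ x₀ x₁ h vD).1 = _ := ph_eq_lift_act p D x₀ x₁ h vD.1 vD.2
        have hu2 : ((restrict D W' hst).φ x₀ x₁ h v).1 ≫ W.ι ≫ π p D = x₁ := ((restrict D W' hst).φ x₀ x₁ h v).2
        -- the point of `X ×_S W`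
        have hcond : x₁ ≫ p = (v.1 ≫ W.ι) ≫ π p D ≫ p :=
          calc x₁ ≫ p = x₀ ≫ p := h.symm
            _ = (v.1 ≫ W.ι ≫ π p D) ≫ p := congrArg (· ≫ p) hv2.symm
            _ = _ := by simp only [Category.assoc]
        have hrange : Set.range (pullback.lift x₁ (v.1 ≫ W.ι) hcond) ⊆ Set.range (PN p D W).ι := by
          rintro _ ⟨t, rfl⟩
          rw [Scheme.Opens.range_ι]
          show (sndP p D) _ ∈ W
          rw [← Scheme.Hom.comp_apply, pullback.lift_snd, Scheme.Hom.comp_apply]
          exact (v.1 t).2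
        let ℓ : T ⟶ (PN p D W : Scheme.{u}) := IsOpenImmersion.lift (PN p D W).ι _ hrange
        have hℓ : ℓ ≫ (PN p D W).ι = pullback.lift x₁ (v.1 ≫ W.ι) hcond := IsOpenImmersion.lift_fac _ _ _
        have hℓ1 : ℓ ≫ sndW = v.1 := by
          rw [← cancel_mono W.ι, Category.assoc, Scheme.Hom.resLE_comp_ι, reassoc_of% hℓ, pullback.lift_snd]
        have hℓ2 : ℓ ≫ actW = ((restrict D W' hst).φ x₀ x₁ h v).1 := by
          rw [← cancel_mono W.ι, Category.assoc, Scheme.Hom.resLE_comp_ι, reassoc_of% hℓ, ← h0, h1]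
        change pullback.lift x₁ (w.1 ≫ pullback.snd p U₀.hom) _ = ((restrict D W' hst).φ x₀ x₁ h v).1 ≫ j
        apply pullback.hom_ext
        · rw [pullback.lift_fst, Category.assoc, pullback.lift_fst]
          exact hu2.symm
        · rw [pullback.lift_snd, Category.assoc, pullback.lift_snd, hw', Category.assoc, pullback.lift_snd,
            ← hℓ2, ← hℓ1, Category.assoc, Category.assoc, hinvc] }
  have hs : ∀ i, IsOpenImmersion (s.hom i).left := fun _ => hjo
  have hf : Presieve.ofArrows (fun _ : PUnit.{u + 1} => X) (fun _ => p) ∈ Scheme.fpqcPrecoverage S := by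
    rw [Presieve.ofArrows_pUnit]
    exact Scheme.Hom.singleton_mem_fpqcPrecoverage p
  exact DescOpenSub.isEffective_of_isOpenImmersion hf (restrict D W' hst) U₀ s

end main

section affine

variable {S X : Scheme.{u}} (p : X ⟶ S) (D : SchDDFam (fun _ : PUnit.{u + 1} => p))

/-- **Ind-quasi-affine fpqc descent, affine case**: a descent datum relative to a flat surjective morphism of affine schemes
whose member is an ind-quasi-affine scheme is effective. -/
theorem isEffective_of_isAffine_iqa [IsAffine S] [IsAffine X] [Flat p] [Surjective p]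
    (hV : MoreMor.IsIndQuasiAffine (V p D)) : D.IsEffective := by
  have hf : Presieve.ofArrows (fun _ : PUnit.{u + 1} => X) (fun _ => p) ∈ Scheme.fpqcPrecoverage S := by
    rw [Presieve.ofArrows_pUnit]
    exact Scheme.Hom.singleton_mem_fpqcPrecoverage p
  refine DescGlueOpen.isEffective_of_cover hf D (fun i v => ?_)
  cases i
  obtain ⟨W, M, hvW, hWsat, hMc, hMle, hMsat, hWM⟩ := exists_chain p D v
  haveI : ∀ k, (M k : Scheme.{u}).IsQuasiAffine := fun k => hV (M k) (hMc k)
  have hM : Antitone M := antitone_nat_of_succ_le hMle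
  have hst : Stable D (fun _ : PUnit.{u + 1} => W) := stable_of_sat p D W hWsat
  obtain ⟨U, ⟨θ⟩⟩ := isEffective_restrict p D M hM hMsat W hWM hWsat hst
  refine ⟨U, θ.hom ≫ restrictHom D (fun _ : PUnit.{u + 1} => W) hst, fun k => ?_, ?_⟩
  · have := DescUnivInj.isIso_hom_left θ k
    change IsOpenImmersion ((θ.hom.hom k).left ≫ ((restrictHom D (fun _ : PUnit.{u + 1} => W) hst).hom k).left)
    infer_instance
  · have := DescUnivInj.isIso_hom_left θ PUnit.unit
    have h1 : inv (θ.hom.hom PUnit.unit).left ≫ (θ.hom.hom PUnit.unit).left ≫ W.ι = W.ι := IsIso.inv_hom_id_assoc _ _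
    have h2 := congr($(h1) ⟨v, hvW⟩)
    exact ⟨(inv (θ.hom.hom PUnit.unit).left) ⟨v, hvW⟩, h2⟩

end affine

end Groth.Agent.Lib.Helper4.DescIQA
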