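import Mathlib
import Groth.Prelude.Def_DescFam
import Groth.Prelude.Def_Mor2
import Groth.Agent.Lib.Helper4.DescQAff
import Groth.Agent.Lib.Helper4.DescFamEff
import Groth.Agent.S2339

/-!
# Effective fpqc descent for quasi-affine morphisms (helper4)

* `isQuasiAffine_of_mor2`: the source of a quasi-affine morphism to an affine scheme is a quasi-affine scheme.
* `isQuasiAffine_sigma`: a finite coproduct of quasi-affine schemes is quasi-affine.
* `isEffective_of_isQuasiAffine`: every descent datum relative to an fpqc covering family whose members are quasi-affine over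
  the members of the family is effective.
* `exists_iso_toDD`: the `Desc.SchDD` form for one flat, surjective, quasi-compact morphism.
-/

set_option autoImplicit false
set_option backward.isDefEq.respectTransparency false
set_option linter.style.haveILetI false
universe u
open CategoryTheory CategoryTheory.Limits AlgebraicGeometry

namespace Groth.Agent.Lib.Helper4.DescQAffMain

open Desc Groth.Agent.Lib.Helper4.DescGamma Groth.Agent.Lib.Helper4.DescSigma

/-- The source of a quasi-affine morphism to an affine scheme is a quasi-affine scheme. -/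
theorem isQuasiAffine_of_mor2 {X Y : Scheme.{u}} (f : X ⟶ Y) [IsAffine Y] (h : Mor2.IsQuasiAffine f) :
    X.IsQuasiAffine := by
  have h1 : Scheme.IsQuasiAffine ((⊤ : X.Opens) : Scheme.{u}) := h.2 ⊤ (isAffineOpen_top Y)
  haveI := h.1
  haveI : CompactSpace X := QuasiCompact.compactSpace_of_compactSpace f
  exact Scheme.IsQuasiAffine.of_isImmersion (Scheme.topIso X).inv

open scoped Function in
/-- A finite coproduct of quasi-affine schemes is quasi-affine. -/
theorem isQuasiAffine_sigma {m : ℕ} (T : Fin m → Scheme.{u}) [∀ k, (T k).IsQuasiAffine] :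
    (∐ T : Scheme.{u}).IsQuasiAffine := by
  let A : Fin m → Scheme.{u} := fun k => Spec Γ(T k, ⊤)
  let α : ∀ k, T k ⟶ ∐ A := fun k => (T k).toSpecΓ ≫ Sigma.ι A k
  haveI : ∀ k, IsOpenImmersion (α k) := fun k => inferInstance
  have hdisj : Pairwise (Disjoint on (Set.range <| α ·)) := by
    intro i j hij
    have h1 := disjoint_opensRange_sigmaι A i j hij
    rw [Function.onFun, Set.disjoint_iff_forall_ne]
    rintro _ ⟨x, rfl⟩ _ ⟨y, rfl⟩ e
    have hx : (α i) x ∈ (Sigma.ι A i).opensRange := ⟨(T i).toSpecΓ x, (Scheme.Hom.comp_apply _ _ _).symm⟩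
    have hy : (α j) y ∈ (Sigma.ι A j).opensRange := ⟨(T j).toSpecΓ y, (Scheme.Hom.comp_apply _ _ _).symm⟩
    rw [← e] at hy
    exact (disjoint_iff.mp h1).le ⟨hx, hy⟩
  haveI : IsOpenImmersion (Sigma.desc α) := isOpenImmersion_sigmaDesc T α hdisj
  haveI : CompactSpace (∐ T : Scheme.{u}) := by
    haveI : Finite (sigmaOpenCover T).I₀ := (inferInstance : Finite (Fin m))
    haveI : ∀ i, CompactSpace ((sigmaOpenCover T).X i) := fun i => (inferInstance : CompactSpace (T i))
    exact Scheme.OpenCover.compactSpace (sigmaOpenCover T)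
  haveI : IsAffine (∐ A : Scheme.{u}) := inferInstance
  exact Scheme.IsQuasiAffine.of_isImmersion (Sigma.desc α)

variable {ι' : Type u} {S' : Scheme.{u}} {Y : ι' → Scheme.{u}} {a : ∀ i, Y i ⟶ S'}

/-- **Effective fpqc descent for quasi-affine morphisms, for covering families.** -/
theorem isEffective_of_isQuasiAffine (ha : Presieve.ofArrows Y a ∈ Scheme.fpqcPrecoverage S') (D : SchDDFam a)
    (hD : ∀ i, Mor2.IsQuasiAffine (D.obj i).hom) : D.IsEffective := by
  refine DescFamEff.isEffective_of_sigma_affine ha D (fun B hB b m W hW g hflat hsurj α p' w => ?_)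
  have h1 : Flat (Sigma.desc g) := DescFamEff.flat_sigmaDesc W g hflat
  have h2 : Surjective (Sigma.desc g) := DescFamEff.surjective_sigmaDesc W g hsurj
  have h3 : IsAffine (∐ W) := inferInstance
  let D₁ := (pullDDFam (f := a) (f' := g) (α := α) (p := b) (p' := p') w).obj D
  have h5 : ∀ k, (D₁.obj k).left.IsQuasiAffine := fun k => by
    have hk : Mor2.IsQuasiAffine (pullback.snd (D.obj (α k)).hom (p' k)) :=
      Groth.Agent.S2339.main (D.obj (α k)).hom (hD (α k)) (p' k)
    exact isQuasiAffine_of_mor2 (pullback.snd (D.obj (α k)).hom (p' k)) hk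
  have h6 : (∐ fun k => (D₁.obj k).left : Scheme.{u}).IsQuasiAffine := isQuasiAffine_sigma _
  let DS : SchDDFam (fun _ : PUnit.{u + 1} => Sigma.desc g) := (SchDDFam.ofSchDD (Sigma.desc g)).obj (sigmaDD D₁)
  haveI : (DescQAff.V (Sigma.desc g) DS).IsQuasiAffine := h6
  obtain ⟨U', ⟨θ⟩⟩ := DescQAff.isEffective_of_isAffine (Sigma.desc g) DS
  exact ⟨U', ⟨(SchDDFam.toSchDD (Sigma.desc g)).mapIso θ⟩⟩

/-- **Effective fpqc descent for quasi-affine morphisms** (`Desc.SchDD` form). -/
theorem exists_iso_toDD {X S : Scheme.{u}} (p : X ⟶ S) [Surjective p] [Flat p] [QuasiCompact p]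
    (D : SchDD p) (hD : Mor2.IsQuasiAffine D.obj.hom) : ∃ U : Over S, Nonempty ((toDD p).obj U ≅ D) := by
  have hf : Presieve.ofArrows (fun _ : PUnit.{u + 1} => X) (fun _ => p) ∈ Scheme.fpqcPrecoverage S := by
    rw [Presieve.ofArrows_pUnit]
    exact Scheme.Hom.singleton_mem_fpqcPrecoverage p
  obtain ⟨U, ⟨θ⟩⟩ := isEffective_of_isQuasiAffine hf ((SchDDFam.ofSchDD p).obj D) (fun _ => hD)
  exact ⟨U, ⟨(SchDDFam.toSchDD p).mapIso θ⟩⟩

end Groth.Agent.Lib.Helper4.DescQAffMain
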