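import Mathlib
import Groth.Prelude.Def_DescFam
import Groth.Prelude.Def_MoreMor
import Groth.Agent.Lib.Helper4.DescIQAMain
import Groth.Agent.Lib.Helper4.DescQAffMain
import Groth.Agent.S1400

/-!
# Effective fpqc descent for ind-quasi-affine morphisms (helper4)

* `isClosedEmbedding_sigmaι`: the coprojections of a coproduct of schemes are closed embeddings.
* `isIndQuasiAffine_sigma`: a finite coproduct of ind-quasi-affine schemes is ind-quasi-affine.
* `isIndQuasiAffine_of_hom`: the source of an ind-quasi-affine morphism to an affine scheme is an ind-quasi-affine scheme.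
* `isEffective_of_isIndQuasiAffineHom`: every descent datum relative to an fpqc covering family whose members are
  ind-quasi-affine over the members of the family is effective (Stacks 0APK).
-/

set_option autoImplicit false
set_option backward.isDefEq.respectTransparency false
set_option linter.style.haveILetI false
universe u
open CategoryTheory CategoryTheory.Limits AlgebraicGeometry

namespace Groth.Agent.Lib.Helper4.DescIQAFam

open Desc Groth.Agent.Lib.Helper4.DescGamma Groth.Agent.Lib.Helper4.DescSigma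

theorem exists_sigmaι_eq {σ : Type*} [Small.{u} σ] (T : σ → Scheme.{u}) (x : (∐ T : Scheme.{u})) :
    ∃ (k : σ) (t : T k), Sigma.ι T k t = x := by
  obtain ⟨y, hy⟩ := (sigmaOpenCover T).covers x
  exact ⟨(sigmaOpenCover T).idx x, y, hy⟩

theorem isClosedEmbedding_sigmaι {σ : Type*} [Small.{u} σ] (T : σ → Scheme.{u}) (k : σ) :
    Topology.IsClosedEmbedding (Sigma.ι T k) := by
  refine ⟨(Sigma.ι T k).isOpenEmbedding.isEmbedding, ?_⟩
  have h : (Set.range (Sigma.ι T k))ᶜ = ⋃ j ∈ {j : σ | j ≠ k}, Set.range (Sigma.ι T j) := by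
    ext x
    constructor
    · intro hx
      obtain ⟨j, y, hy⟩ := exists_sigmaι_eq T x
      refine Set.mem_iUnion₂.mpr ⟨j, ?_, ⟨y, hy⟩⟩
      rintro rfl
      exact hx ⟨y, hy⟩
    · intro hx
      obtain ⟨j, hj, y, rfl⟩ := Set.mem_iUnion₂.mp hx
      rintro ⟨z, hz⟩
      exact (disjoint_iff.mp (disjoint_opensRange_sigmaι T k j (Ne.symm hj))).le ⟨⟨z, hz⟩, ⟨y, rfl⟩⟩
  rw [← isOpen_compl_iff, h]
  exact isOpen_biUnion (fun j _ => (Sigma.ι T j).isOpenEmbedding.isOpen_range)

open scoped Function in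
/-- A finite coproduct of ind-quasi-affine schemes is ind-quasi-affine. -/
theorem isIndQuasiAffine_sigma {m : ℕ} (T : Fin m → Scheme.{u}) (hT : ∀ k, MoreMor.IsIndQuasiAffine (T k)) :
    MoreMor.IsIndQuasiAffine (∐ T : Scheme.{u}) := by
  intro U hU
  let Uk : ∀ k, (T k).Opens := fun k => Sigma.ι T k ⁻¹ᵁ U
  have hUk : ∀ k, IsCompact (Uk k : Set (T k)) := fun k => (isClosedEmbedding_sigmaι T k).isCompact_preimage hU
  haveI : ∀ k, (Uk k : Scheme.{u}).IsQuasiAffine := fun k => hT k (Uk k) (hUk k)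
  haveI : (∐ fun k => (Uk k : Scheme.{u}) : Scheme.{u}).IsQuasiAffine := DescQAffMain.isQuasiAffine_sigma _
  let α : ∀ k, (Uk k : Scheme.{u}) ⟶ (∐ T : Scheme.{u}) := fun k => (Uk k).ι ≫ Sigma.ι T k
  haveI : ∀ k, IsOpenImmersion (α k) := fun k => inferInstance
  have hdisj : Pairwise (Disjoint on (Set.range <| α ·)) := by
    intro i j hij
    have h1 := disjoint_opensRange_sigmaι T i j hij
    rw [Function.onFun, Set.disjoint_iff_forall_ne]
    rintro _ ⟨x, rfl⟩ _ ⟨y, rfl⟩ e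
    have hx : (α i) x ∈ (Sigma.ι T i).opensRange := ⟨(Uk i).ι x, (Scheme.Hom.comp_apply _ _ _).symm⟩
    have hy : (α j) y ∈ (Sigma.ι T j).opensRange := ⟨(Uk j).ι y, (Scheme.Hom.comp_apply _ _ _).symm⟩
    rw [← e] at hy
    exact (disjoint_iff.mp h1).le ⟨hx, hy⟩
  let β : (∐ fun k => (Uk k : Scheme.{u}) : Scheme.{u}) ⟶ (∐ T : Scheme.{u}) := Sigma.desc α
  haveI : IsOpenImmersion β := isOpenImmersion_sigmaDesc (fun k => (Uk k : Scheme.{u})) α hdisj
  have hrange : Set.range U.ι ⊆ Set.range β := by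
    rintro _ ⟨x, rfl⟩
    obtain ⟨k, t, ht⟩ := exists_sigmaι_eq T (U.ι x)
    have htU : t ∈ Uk k := by
      show Sigma.ι T k t ∈ U
      rw [ht]
      exact x.2
    refine ⟨Sigma.ι (fun k => (Uk k : Scheme.{u})) k ⟨t, htU⟩, ?_⟩
    rw [← Scheme.Hom.comp_apply, Sigma.ι_desc, Scheme.Hom.comp_apply]
    exact ht
  let γ : (U : Scheme.{u}) ⟶ (∐ fun k => (Uk k : Scheme.{u}) : Scheme.{u}) := IsOpenImmersion.lift β U.ι hrange
  have hγ : γ ≫ β = U.ι := IsOpenImmersion.lift_fac _ _ _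
  haveI : IsOpenImmersion (γ ≫ β) := by rw [hγ]; infer_instance
  haveI : IsOpenImmersion γ := IsOpenImmersion.of_comp γ β
  haveI : CompactSpace (U : Scheme.{u}) := isCompact_iff_compactSpace.mp hU
  exact Scheme.IsQuasiAffine.of_isImmersion γ

/-- The source of an ind-quasi-affine morphism to an affine scheme is an ind-quasi-affine scheme. -/
theorem isIndQuasiAffine_of_hom {X Y : Scheme.{u}} (f : X ⟶ Y) [IsAffine Y] (h : MoreMor.IsIndQuasiAffineHom f) :
    MoreMor.IsIndQuasiAffine X := by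
  have h1 : MoreMor.IsIndQuasiAffine ((f ⁻¹ᵁ ⊤ : X.Opens) : Scheme.{u}) := h ⊤ (isAffineOpen_top Y)
  intro U hU
  have hle : U ≤ f ⁻¹ᵁ ⊤ := fun _ _ => trivial
  let e : ((f ⁻¹ᵁ ⊤).ι ⁻¹ᵁ U : Scheme.{u}) ≅ (U : Scheme.{u}) := Scheme.Opens.isoOfLE hle
  haveI : CompactSpace (U : Scheme.{u}) := isCompact_iff_compactSpace.mp hU
  have hcs : CompactSpace ((f ⁻¹ᵁ ⊤).ι ⁻¹ᵁ U : Scheme.{u}) :=
    (TopCat.homeoOfIso (Scheme.forgetToTop.mapIso e)).symm.compactSpace
  haveI : ((f ⁻¹ᵁ ⊤).ι ⁻¹ᵁ U : Scheme.{u}).IsQuasiAffine := h1 _ (isCompact_iff_compactSpace.mpr hcs)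
  exact Scheme.IsQuasiAffine.of_isImmersion e.inv

variable {ι' : Type u} {S' : Scheme.{u}} {Y : ι' → Scheme.{u}} {a : ∀ i, Y i ⟶ S'}

/-- **Effective fpqc descent for ind-quasi-affine morphisms, for covering families** (Stacks 0APK). -/
theorem isEffective_of_isIndQuasiAffineHom (ha : Presieve.ofArrows Y a ∈ Scheme.fpqcPrecoverage S') (D : SchDDFam a)
    (hD : ∀ i, MoreMor.IsIndQuasiAffineHom (D.obj i).hom) : D.IsEffective := by
  refine DescFamEff.isEffective_of_sigma_affine ha D (fun B hB b m W hW g hflat hsurj α p' w => ?_)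
  have h1 : Flat (Sigma.desc g) := DescFamEff.flat_sigmaDesc W g hflat
  have h2 : Surjective (Sigma.desc g) := DescFamEff.surjective_sigmaDesc W g hsurj
  have h3 : IsAffine (∐ W) := inferInstance
  let D₁ := (pullDDFam (f := a) (f' := g) (α := α) (p := b) (p' := p') w).obj D
  have h5 : ∀ k, MoreMor.IsIndQuasiAffine (D₁.obj k).left := fun k => by
    have hk : MoreMor.IsIndQuasiAffineHom (pullback.snd (D.obj (α k)).hom (p' k)) :=
      Groth.Agent.S1400.result (D.obj (α k)).hom (pullback.snd (D.obj (α k)).hom (p' k))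
        (pullback.fst (D.obj (α k)).hom (p' k)) (p' k) (IsPullback.of_hasPullback _ _) (hD (α k))
    exact isIndQuasiAffine_of_hom (pullback.snd (D.obj (α k)).hom (p' k)) hk
  have h6 : MoreMor.IsIndQuasiAffine (∐ fun k => (D₁.obj k).left : Scheme.{u}) := isIndQuasiAffine_sigma _ h5
  let DS : SchDDFam (fun _ : PUnit.{u + 1} => Sigma.desc g) := (SchDDFam.ofSchDD (Sigma.desc g)).obj (sigmaDD D₁)
  obtain ⟨U', ⟨θ⟩⟩ := DescIQA.isEffective_of_isAffine_iqa (Sigma.desc g) DS h6
  exact ⟨U', ⟨(SchDDFam.toSchDD (Sigma.desc g)).mapIso θ⟩⟩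

end Groth.Agent.Lib.Helper4.DescIQAFam
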