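import Mathlib
import Groth.Prelude.Def_Grpd
import Groth.Prelude.Def_Desc
import Groth.Agent.Lib.Helper4.SubGrpd3
import Groth.Agent.Lib.Helper4.DescPi
import Groth.Agent.S9726

/-!
# The quotient `R̄` of `R` and the projection `π : R ⟶ R̄` (helper4)
-/

set_option backward.isDefEq.respectTransparency false
set_option autoImplicit false
set_option linter.style.haveILetI false
set_option linter.unusedSectionVars false

universe u
open CategoryTheory CategoryTheory.Limits AlgebraicGeometry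

namespace Groth.Agent.Lib.Helper4.SubGrpd4

open Groth.Agent.Lib.Helper4.GrpdTc Groth.Agent.Lib.Helper4.SubGrpd2
  Groth.Agent.Lib.Helper4.SubGrpd3 Groth.Agent.Lib.Helper4.DescGrpd Groth.Agent.Lib.Helper4.DescPi

variable {S : Scheme.{u}} {G : Grpd.GroupoidScheme S} {P : Scheme.{u}} {ιP : P ⟶ G.R}
  (d : QData G ιP)

instance [Flat d.q] : Flat (qq d) :=
  MorphismProperty.pullbackMap (P := @Flat) inferInstance inferInstance d.q_over.symm d.q_over.symm

instance [Surjective d.q] : Surjective (qq d) :=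
  MorphismProperty.pullbackMap (P := @Surjective) inferInstance inferInstance d.q_over.symm d.q_over.symm

instance [LocallyOfFinitePresentation d.q] : LocallyOfFinitePresentation (qq d) :=
  MorphismProperty.pullbackMap (P := @LocallyOfFinitePresentation) inferInstance inferInstance d.q_over.symm d.q_over.symm

instance [IsFinite d.q] : IsFinite (qq d) :=
  MorphismProperty.pullbackMap (P := @IsFinite) inferInstance inferInstance d.q_over.symm d.q_over.symm

theorem exists_eff [Flat d.q] [Surjective d.q] [LocallyOfFinitePresentation d.q]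
    [IsSeparated G.j] [LocallyQuasiFinite G.j] [LocallyOfFiniteType G.j] :
    ∃ W : Over (pullback d.pUb d.pUb), Nonempty ((Desc.toDD (qq d)).obj W ≅ DD d) := by
  haveI : IsSeparated (DD d).obj.hom := inferInstanceAs (IsSeparated G.j)
  haveI : LocallyQuasiFinite (DD d).obj.hom := inferInstanceAs (LocallyQuasiFinite G.j)
  haveI : LocallyOfFiniteType (DD d).obj.hom := inferInstanceAs (LocallyOfFiniteType G.j)
  exact Groth.Agent.S9726.result (qq d) (DD d)

variable {d} {W : Over (pullback d.pUb d.pUb)} (θ : (Desc.toDD (qq d)).obj W ≅ DD d)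

/-- the projection `R ⟶ R̄` -/
noncomputable def π : G.R ⟶ W.left := pi (qq d) θ

instance [Flat d.q] : Flat (π θ) := inferInstanceAs (Flat (pi (qq d) θ))
instance [Surjective d.q] : Surjective (π θ) := inferInstanceAs (Surjective (pi (qq d) θ))
instance [IsFinite d.q] : IsFinite (π θ) := inferInstanceAs (IsFinite (pi (qq d) θ))
instance [LocallyOfFinitePresentation d.q] : LocallyOfFinitePresentation (π θ) :=
  inferInstanceAs (LocallyOfFinitePresentation (pi (qq d) θ))

@[reassoc]
theorem π_hom : π θ ≫ W.hom = G.j ≫ qq d := pi_hom (qq d) θ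

theorem isPullback_π : IsPullback (π θ) G.j W.hom (qq d) := isPullback_pi (qq d) θ

/-- `t̄` -/
noncomputable def tb : W.left ⟶ d.Ub := W.hom ≫ pullback.fst _ _

/-- `s̄` -/
noncomputable def sb : W.left ⟶ d.Ub := W.hom ≫ pullback.snd _ _

@[reassoc]
theorem π_tb : π θ ≫ tb (W := W) = G.t ≫ d.q := by
  unfold tb
  rw [π_hom_assoc, qq_fst, Grpd.GroupoidScheme.j, pullback.lift_fst_assoc]

@[reassoc]
theorem π_sb : π θ ≫ sb (W := W) = G.s ≫ d.q := by
  unfold sb
  rw [π_hom_assoc, qq_snd, Grpd.GroupoidScheme.j, pullback.lift_snd_assoc]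

variable {T : Scheme.{u}}

theorem pU_eq_of_q_eq {a a' : T ⟶ G.U} (h : a ≫ d.q = a' ≫ d.q) : a ≫ G.pU = a' ≫ G.pU := by
  rw [← d.q_over, reassoc_of% h]

theorem IsArr.pU {r : T ⟶ G.R} {a b : T ⟶ G.U} (hr : IsArr G r a b) : a ≫ G.pU = b ≫ G.pU := by
  rw [← hr.t, ← hr.s, Category.assoc, Category.assoc, G.t_over, G.s_over]

/-- `π` is invariant under conjugation. -/
theorem conj_π {r : T ⟶ G.R} {a₀ b₀ a b : T ⟶ G.U} (hr : IsArr G r a₀ b₀)
    (ha : a ≫ d.q = a₀ ≫ d.q) (hb : b₀ ≫ d.q = b ≫ d.q) : conj d a b r ≫ π θ = r ≫ π θ := by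
  have hab : a ≫ G.pU = b ≫ G.pU :=
    (pU_eq_of_q_eq ha).trans ((IsArr.pU hr).trans (pU_eq_of_q_eq hb))
  have h1 : (r ≫ G.j) ≫ pullback.fst G.pU G.pU = a₀ := by
    rw [Category.assoc, Grpd.GroupoidScheme.j, pullback.lift_fst, hr.t]
  have h2 : (r ≫ G.j) ≫ pullback.snd G.pU G.pU = b₀ := by
    rw [Category.assoc, Grpd.GroupoidScheme.j, pullback.lift_snd, hr.s]
  have hq : (r ≫ G.j) ≫ qq d = pullback.lift a b hab ≫ qq d := by
    apply qq_of_q
    · rw [h1, pullback.lift_fst, ha]
    · rw [h2, pullback.lift_snd, hb]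
  have := ph_pi (qq d) θ (r ≫ G.j) (pullback.lift a b hab) hq r rfl
  have e : ph (qq d) (DD d) (r ≫ G.j) (pullback.lift a b hab) hq r rfl = conj d a b r := by
    show conj d _ _ r = _
    rw [pullback.lift_fst, pullback.lift_snd]
  rw [e] at this
  exact this

/-- Two arrows with the same image under `π` are conjugate. -/
theorem eq_conj_of_π_eq {r r' : T ⟶ G.R} (h : r ≫ π θ = r' ≫ π θ) :
    (r' ≫ G.t) ≫ d.q = (r ≫ G.t) ≫ d.q ∧ (r ≫ G.s) ≫ d.q = (r' ≫ G.s) ≫ d.q ∧
      r' = conj d (r' ≫ G.t) (r' ≫ G.s) r := by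
  refine ⟨?_, ?_, ?_⟩
  · rw [Category.assoc, Category.assoc, ← π_tb θ, reassoc_of% h]
  · rw [Category.assoc, Category.assoc, ← π_sb θ, reassoc_of% h]
  · have := eq_ph_of_pi_eq (qq d) θ (d₀ := r) (d₁ := r') h
    refine this.trans ?_
    show conj d _ _ r = _
    congr 1
    · show (r' ≫ G.j) ≫ _ = _
      rw [Category.assoc, Grpd.GroupoidScheme.j, pullback.lift_fst]
    · show (r' ≫ G.j) ≫ _ = _
      rw [Category.assoc, Grpd.GroupoidScheme.j, pullback.lift_snd]

end Groth.Agent.Lib.Helper4.SubGrpd4
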