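import Mathlib
import Groth.Prelude.Def_Grpd
import Groth.Prelude.Def_Desc
import Groth.Agent.Lib.Helper4.SubGrpd4

/-!
# The structure maps `ē`, `ī`, `c̄` of the quotient groupoid and the lifting lemmas (helper4)
-/

set_option backward.isDefEq.respectTransparency false
set_option autoImplicit false
set_option linter.style.haveILetI false
set_option linter.unusedSectionVars false

universe u
open CategoryTheory CategoryTheory.Limits AlgebraicGeometry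

namespace Groth.Agent.Lib.Helper4.SubGrpd5

open Groth.Agent.Lib.Helper4.GrpdTc Groth.Agent.Lib.Helper4.SubGrpd2
  Groth.Agent.Lib.Helper4.SubGrpd3 Groth.Agent.Lib.Helper4.SubGrpd4

variable {S : Scheme.{u}} {G : Grpd.GroupoidScheme S} {P : Scheme.{u}} {ιP : P ⟶ G.R}
  {d : QData G ιP} [Flat d.q] [Surjective d.q] [IsFinite d.q] [LocallyOfFinitePresentation d.q]
  {W : Over (pullback d.pUb d.pUb)} (θ : (Desc.toDD (qq d)).obj W ≅ DD d)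

/-! ### The identity -/

theorem e_cond {Z : Scheme.{u}} (g₁ g₂ : Z ⟶ G.U) (h : g₁ ≫ d.q = g₂ ≫ d.q) :
    g₁ ≫ G.e ≫ π θ = g₂ ≫ G.e ≫ π θ := by
  have h1 := conj_π θ (isArr_e g₁) h.symm h
  rw [conj_e d h.symm] at h1
  simpa only [Category.assoc] using h1.symm

/-- `ē` -/
noncomputable def eb : d.Ub ⟶ W.left :=
  EffectiveEpi.desc d.q (G.e ≫ π θ) (fun g₁ g₂ h => e_cond θ g₁ g₂ h)

@[reassoc]
theorem q_eb : d.q ≫ eb θ = G.e ≫ π θ := EffectiveEpi.fac _ _ _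

/-! ### The inverse -/

theorem i_cond {Z : Scheme.{u}} (g₁ g₂ : Z ⟶ G.R) (h : g₁ ≫ π θ = g₂ ≫ π θ) :
    g₁ ≫ G.i ≫ π θ = g₂ ≫ G.i ≫ π θ := by
  obtain ⟨h1, h2, h3⟩ := eq_conj_of_π_eq θ h
  have h4 := conj_i d (isArr_self g₁) h1 h2
  rw [← h3] at h4
  rw [← Category.assoc g₂, h4]
  have := conj_π θ (isArr_self g₁).i h2.symm h1.symm
  simpa only [Category.assoc] using this.symm

/-- `ī` -/
noncomputable def ib : W.left ⟶ W.left :=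
  EffectiveEpi.desc (π θ) (G.i ≫ π θ) (fun g₁ g₂ h => i_cond θ g₁ g₂ h)

@[reassoc]
theorem π_ib : π θ ≫ ib θ = G.i ≫ π θ := EffectiveEpi.fac _ _ _

/-! ### The composition -/

/-- pairs `(r₁, r₂)` with `q (s r₁) = q (t r₂)` -/
noncomputable abbrev B' (_ : (Desc.toDD (qq d)).obj W ≅ DD d) : Scheme.{u} :=
  pullback (G.s ≫ d.q) (G.t ≫ d.q)

/-- `B' ⟶ R̄ ×_Ū R̄` -/
noncomputable def gB : B' θ ⟶ pullback (sb (W := W)) (tb (W := W)) :=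
  pullback.map (G.s ≫ d.q) (G.t ≫ d.q) sb tb (π θ) (π θ) (𝟙 d.Ub)
    ((Category.comp_id _).trans (π_sb θ).symm) ((Category.comp_id _).trans (π_tb θ).symm)

instance : Flat (gB θ) :=
  MorphismProperty.pullbackMap (P := @Flat) inferInstance inferInstance (π_sb θ).symm (π_tb θ).symm

instance : Surjective (gB θ) :=
  MorphismProperty.pullbackMap (P := @Surjective) inferInstance inferInstance (π_sb θ).symm
    (π_tb θ).symm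

instance : IsFinite (gB θ) :=
  MorphismProperty.pullbackMap (P := @IsFinite) inferInstance inferInstance (π_sb θ).symm
    (π_tb θ).symm

@[reassoc]
theorem gB_fst : gB θ ≫ pullback.fst _ _ = pullback.fst _ _ ≫ π θ := pullback.lift_fst _ _ _

@[reassoc]
theorem gB_snd : gB θ ≫ pullback.snd _ _ = pullback.snd _ _ ≫ π θ := pullback.lift_snd _ _ _

/-- `(r₁, r₂) ↦ π (r₁ ∘ p ∘ r₂)` -/
noncomputable def κ : B' θ ⟶ W.left :=
  mtc d (pullback.fst (G.s ≫ d.q) (G.t ≫ d.q)) (pullback.snd (G.s ≫ d.q) (G.t ≫ d.q)) ≫ π θ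

variable {T : Scheme.{u}}

theorem pre_κ (m : T ⟶ B' θ) :
    m ≫ κ θ = mtc d (m ≫ pullback.fst _ _) (m ≫ pullback.snd _ _) ≫ π θ := by
  unfold κ
  rw [← Category.assoc]
  congr 1
  refine pre_mtc d (isArr_self _) (isArr_self _) ?_ m
  simpa only [Category.assoc] using pullback.condition

theorem mtc_π_eq {r₁ r₂ r₁' r₂' : T ⟶ G.R} (hf : r₁ ≫ π θ = r₁' ≫ π θ)
    (hs : r₂ ≫ π θ = r₂' ≫ π θ) (hm : (r₁ ≫ G.s) ≫ d.q = (r₂ ≫ G.t) ≫ d.q) :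
    mtc d r₁ r₂ ≫ π θ = mtc d r₁' r₂' ≫ π θ := by
  obtain ⟨a1, a2, a3⟩ := eq_conj_of_π_eq θ hf
  obtain ⟨b1, b2, b3⟩ := eq_conj_of_π_eq θ hs
  have key := mtc_conj d (isArr_self r₁) (isArr_self r₂) hm a1 a2 b1 b2
  have e : mtc d r₁' r₂' = conj d (r₁' ≫ G.t) (r₂' ≫ G.s) (mtc d r₁ r₂) :=
    (congrArg₂ (mtc d) a3 b3).trans key
  rw [e]
  exact (conj_π θ (isArr_mtc d (isArr_self _) (isArr_self _) hm) a1 b2).symm

theorem κ_cond {Z : Scheme.{u}} (g₁ g₂ : Z ⟶ B' θ) (h : g₁ ≫ gB θ = g₂ ≫ gB θ) :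
    g₁ ≫ κ θ = g₂ ≫ κ θ := by
  rw [pre_κ, pre_κ]
  have hf : (g₁ ≫ pullback.fst _ _) ≫ π θ = (g₂ ≫ pullback.fst _ _) ≫ π θ := by
    have := congr($h ≫ pullback.fst _ _)
    simpa only [Category.assoc, gB_fst] using this
  have hs : (g₁ ≫ pullback.snd _ _) ≫ π θ = (g₂ ≫ pullback.snd _ _) ≫ π θ := by
    have := congr($h ≫ pullback.snd _ _)
    simpa only [Category.assoc, gB_snd] using this
  have hm : ((g₁ ≫ pullback.fst (G.s ≫ d.q) (G.t ≫ d.q)) ≫ G.s) ≫ d.q =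
      ((g₁ ≫ pullback.snd (G.s ≫ d.q) (G.t ≫ d.q)) ≫ G.t) ≫ d.q := by
    simp only [Category.assoc]
    rw [pullback.condition]
  exact mtc_π_eq θ hf hs hm

/-- `c̄` -/
noncomputable def cb : pullback (sb (W := W)) (tb (W := W)) ⟶ W.left :=
  EffectiveEpi.desc (gB θ) (κ θ) (fun g₁ g₂ h => κ_cond θ g₁ g₂ h)

@[reassoc]
theorem gB_cb : gB θ ≫ cb θ = κ θ := EffectiveEpi.fac _ _ _

theorem lift_cb_mtc (α β : T ⟶ G.R) (h : (α ≫ G.s) ≫ d.q = (β ≫ G.t) ≫ d.q)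
    (h' : (α ≫ π θ) ≫ sb = (β ≫ π θ) ≫ tb) :
    pullback.lift (α ≫ π θ) (β ≫ π θ) h' ≫ cb θ = mtc d α β ≫ π θ := by
  have h'' : α ≫ G.s ≫ d.q = β ≫ G.t ≫ d.q := by simpa only [Category.assoc] using h
  have e : pullback.lift (α ≫ π θ) (β ≫ π θ) h' =
      (pullback.lift α β h'' : T ⟶ B' θ) ≫ gB θ := by
    apply pullback.hom_ext
    · rw [pullback.lift_fst, Category.assoc, gB_fst, pullback.lift_fst_assoc]
    · rw [pullback.lift_snd, Category.assoc, gB_snd, pullback.lift_snd_assoc]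
  rw [e, Category.assoc, gB_cb, pre_κ, pullback.lift_fst, pullback.lift_snd]

theorem lift_cb (α β : T ⟶ G.R) (h : α ≫ G.s = β ≫ G.t)
    (h' : (α ≫ π θ) ≫ sb = (β ≫ π θ) ≫ tb) :
    pullback.lift (α ≫ π θ) (β ≫ π θ) h' ≫ cb θ = tc G α β ≫ π θ := by
  rw [lift_cb_mtc θ α β (by rw [h]) h',
    mtc_of_composable d (isArr_self α) ⟨h.symm, rfl⟩]

/-- The key computation of `c̄` on lifted points. -/
theorem key (α β : T ⟶ W.left) (h : α ≫ sb = β ≫ tb) {T' : Scheme.{u}} (g : T' ⟶ T)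
    (α' β' : T' ⟶ G.R) (hα : α' ≫ π θ = g ≫ α) (hβ : β' ≫ π θ = g ≫ β)
    (hc : α' ≫ G.s = β' ≫ G.t) :
    g ≫ pullback.lift α β h ≫ cb θ = tc G α' β' ≫ π θ := by
  have h' : (α' ≫ π θ) ≫ sb = (β' ≫ π θ) ≫ tb := by
    rw [hα, hβ, Category.assoc, Category.assoc, h]
  rw [← lift_cb θ α' β' hc h', ← Category.assoc]
  congr 1
  apply pullback.hom_ext
  · rw [Category.assoc, pullback.lift_fst, pullback.lift_fst, hα]
  · rw [Category.assoc, pullback.lift_snd, pullback.lift_snd, hβ]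

/-! ### Lifting points of `R̄` -/

theorem exists_lift (α : T ⟶ W.left) :
    ∃ (T' : Scheme.{u}) (g : T' ⟶ T) (α' : T' ⟶ G.R), Epi g ∧ α' ≫ π θ = g ≫ α := by
  refine ⟨pullback α (π θ), pullback.fst _ _, pullback.snd _ _, ?_, pullback.condition.symm⟩
  haveI : QuasiCompact (pullback.fst α (π θ)) := inferInstance
  infer_instance

theorem exists_lift_t (u : T ⟶ G.U) (γ : T ⟶ W.left) (h : u ≫ d.q = γ ≫ tb) :
    ∃ (T' : Scheme.{u}) (g : T' ⟶ T) (γ' : T' ⟶ G.R), Epi g ∧ γ' ≫ π θ = g ≫ γ ∧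
      γ' ≫ G.t = g ≫ u := by
  obtain ⟨T', g, γ₀, hg, hγ₀⟩ := exists_lift θ γ
  have h1 : (g ≫ u) ≫ d.q = (γ₀ ≫ G.t) ≫ d.q := by
    rw [Category.assoc, h, Category.assoc, ← π_tb θ, reassoc_of% hγ₀]
  have harr := isArr_conj d (isArr_self γ₀) h1 (rfl : (γ₀ ≫ G.s) ≫ d.q = _)
  refine ⟨T', g, conj d (g ≫ u) (γ₀ ≫ G.s) γ₀, hg, ?_, harr.t⟩
  rw [conj_π θ (isArr_self γ₀) h1 rfl, hγ₀]

theorem exists_lift₂ (α β : T ⟶ W.left) (h : α ≫ sb = β ≫ tb) :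
    ∃ (T' : Scheme.{u}) (g : T' ⟶ T) (α' β' : T' ⟶ G.R), Epi g ∧ α' ≫ π θ = g ≫ α ∧
      β' ≫ π θ = g ≫ β ∧ α' ≫ G.s = β' ≫ G.t := by
  obtain ⟨T₁, g₁, α₁, hg₁, hα₁⟩ := exists_lift θ α
  have h1 : (α₁ ≫ G.s) ≫ d.q = (g₁ ≫ β) ≫ tb := by
    rw [Category.assoc, ← π_sb θ, reassoc_of% hα₁, h, Category.assoc]
  obtain ⟨T₂, g₂, β₂, hg₂, hβ₂, hβt⟩ := exists_lift_t θ (α₁ ≫ G.s) (g₁ ≫ β) h1
  refine ⟨T₂, g₂ ≫ g₁, g₂ ≫ α₁, β₂, epi_comp _ _, ?_, ?_, ?_⟩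
  · rw [Category.assoc, hα₁, Category.assoc]
  · rw [hβ₂, Category.assoc]
  · rw [hβt, Category.assoc]

theorem exists_lift₃ (α β γ : T ⟶ W.left) (h₁ : α ≫ sb = β ≫ tb) (h₂ : β ≫ sb = γ ≫ tb) :
    ∃ (T' : Scheme.{u}) (g : T' ⟶ T) (α' β' γ' : T' ⟶ G.R), Epi g ∧ α' ≫ π θ = g ≫ α ∧
      β' ≫ π θ = g ≫ β ∧ γ' ≫ π θ = g ≫ γ ∧ α' ≫ G.s = β' ≫ G.t ∧ β' ≫ G.s = γ' ≫ G.t := by
  obtain ⟨T₁, g₁, α₁, β₁, hg₁, hα₁, hβ₁, hc₁⟩ := exists_lift₂ θ α β h₁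
  have h1 : (β₁ ≫ G.s) ≫ d.q = (g₁ ≫ γ) ≫ tb := by
    rw [Category.assoc, ← π_sb θ, reassoc_of% hβ₁, h₂, Category.assoc]
  obtain ⟨T₂, g₂, γ₂, hg₂, hγ₂, hγt⟩ := exists_lift_t θ (β₁ ≫ G.s) (g₁ ≫ γ) h1
  refine ⟨T₂, g₂ ≫ g₁, g₂ ≫ α₁, g₂ ≫ β₁, γ₂, epi_comp _ _, ?_, ?_, ?_, ?_, ?_⟩
  · rw [Category.assoc, hα₁, Category.assoc]
  · rw [Category.assoc, hβ₁, Category.assoc]
  · rw [hγ₂, Category.assoc]
  · rw [Category.assoc, hc₁, Category.assoc]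
  · rw [hγt, Category.assoc]

end Groth.Agent.Lib.Helper4.SubGrpd5
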