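import Mathlib
import Groth.Prelude.Def_Grpd
import Groth.Prelude.Def_Desc
import Groth.Agent.Lib.Helper4.SubGrpd5

/-!
# The quotient groupoid `(Ū, R̄)` and the morphism `(U, R) ⟶ (Ū, R̄)` (helper4)
-/

set_option backward.isDefEq.respectTransparency false
set_option autoImplicit false
set_option linter.style.haveILetI false
set_option linter.unusedSectionVars false

universe u
open CategoryTheory CategoryTheory.Limits AlgebraicGeometry

namespace Groth.Agent.Lib.Helper4.SubGrpd6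

open Groth.Agent.Lib.Helper4.GrpdTc Groth.Agent.Lib.Helper4.SubGrpd2
  Groth.Agent.Lib.Helper4.SubGrpd3 Groth.Agent.Lib.Helper4.SubGrpd4
  Groth.Agent.Lib.Helper4.SubGrpd5

variable {S : Scheme.{u}} {G : Grpd.GroupoidScheme S} {P : Scheme.{u}} {ιP : P ⟶ G.R}
  {d : QData G ιP} [Flat d.q] [Surjective d.q] [IsFinite d.q] [LocallyOfFinitePresentation d.q]
  {W : Over (pullback d.pUb d.pUb)} (θ : (Desc.toDD (qq d)).obj W ≅ DD d)

theorem epi_q : Epi d.q := inferInstance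

theorem epi_π : Epi (π θ) := inferInstance

variable {T : Scheme.{u}}

theorem comp_sb (α β : T ⟶ W.left) (h : α ≫ sb = β ≫ tb) :
    (pullback.lift α β h ≫ cb θ) ≫ sb = β ≫ sb := by
  obtain ⟨T', g, α', β', hg, hα, hβ, hc⟩ := exists_lift₂ θ α β h
  rw [← cancel_epi g, ← Category.assoc, key θ α β h g α' β' hα hβ hc, Category.assoc, π_sb,
    tc_s_assoc G _ _ hc, ← π_sb θ, reassoc_of% hβ]

theorem comp_tb (α β : T ⟶ W.left) (h : α ≫ sb = β ≫ tb) :
    (pullback.lift α β h ≫ cb θ) ≫ tb = α ≫ tb := by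
  obtain ⟨T', g, α', β', hg, hα, hβ, hc⟩ := exists_lift₂ θ α β h
  rw [← cancel_epi g, ← Category.assoc, key θ α β h g α' β' hα hβ hc, Category.assoc, π_tb,
    tc_t_assoc G _ _ hc, ← π_tb θ, reassoc_of% hα]

theorem assoc_b (α β γ : T ⟶ W.left) (h₁ : α ≫ sb = β ≫ tb) (h₂ : β ≫ sb = γ ≫ tb) :
    pullback.lift (pullback.lift α β h₁ ≫ cb θ) γ ((comp_sb θ α β h₁).trans h₂) ≫ cb θ =
      pullback.lift α (pullback.lift β γ h₂ ≫ cb θ) (h₁.trans (comp_tb θ β γ h₂).symm) ≫ cb θ := by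
  obtain ⟨T', g, α', β', γ', hg, hα, hβ, hγ, hc₁, hc₂⟩ := exists_lift₃ θ α β γ h₁ h₂
  rw [← cancel_epi g]
  have k1 := key θ α β h₁ g α' β' hα hβ hc₁
  have k2 := key θ β γ h₂ g β' γ' hβ hγ hc₂
  rw [key θ _ γ _ g (tc G α' β') γ' k1.symm hγ ((tc_s G _ _ hc₁).trans hc₂),
    key θ α _ _ g α' (tc G β' γ') hα k2.symm (hc₁.trans (tc_t G _ _ hc₂).symm),
    tc_assoc G _ _ _ hc₁ hc₂]

theorem eb_sb : eb θ ≫ sb = 𝟙 d.Ub := by
  haveI := epi_q (d := d)
  rw [← cancel_epi d.q, q_eb_assoc, π_sb, ← Category.assoc, G.e_s, Category.id_comp,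
    Category.comp_id]

theorem eb_tb : eb θ ≫ tb = 𝟙 d.Ub := by
  haveI := epi_q (d := d)
  rw [← cancel_epi d.q, q_eb_assoc, π_tb, ← Category.assoc, G.e_t, Category.id_comp,
    Category.comp_id]

theorem comp_eb (α : T ⟶ W.left) :
    pullback.lift α (α ≫ sb ≫ eb θ)
      (by rw [Category.assoc, Category.assoc, eb_tb, Category.comp_id]) ≫ cb θ = α := by
  obtain ⟨T', g, α', hg, hα⟩ := exists_lift θ α
  rw [← cancel_epi g]
  have hβ : ((α' ≫ G.s) ≫ G.e) ≫ π θ = g ≫ α ≫ sb ≫ eb θ := by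
    rw [Category.assoc, Category.assoc, ← q_eb, ← π_sb_assoc, reassoc_of% hα]
  rw [key θ α _ _ g α' ((α' ≫ G.s) ≫ G.e) hα hβ
    (by rw [Category.assoc, Category.assoc, G.e_t, Category.comp_id]), tc_e G α' _ rfl, hα]

theorem eb_comp (α : T ⟶ W.left) :
    pullback.lift (α ≫ tb ≫ eb θ) α
      (by rw [Category.assoc, Category.assoc, eb_sb, Category.comp_id]) ≫ cb θ = α := by
  obtain ⟨T', g, α', hg, hα⟩ := exists_lift θ α
  rw [← cancel_epi g]
  have hβ : ((α' ≫ G.t) ≫ G.e) ≫ π θ = g ≫ α ≫ tb ≫ eb θ := by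
    rw [Category.assoc, Category.assoc, ← q_eb, ← π_tb_assoc, reassoc_of% hα]
  rw [key θ _ α _ g ((α' ≫ G.t) ≫ G.e) α' hβ hα
    (by rw [Category.assoc, Category.assoc, G.e_s, Category.comp_id]), e_tc G α' _ rfl, hα]

theorem ib_sb : ib θ ≫ sb = tb := by
  haveI := epi_π θ
  rw [← cancel_epi (π θ), π_ib_assoc, π_sb, π_tb, ← Category.assoc, G.i_s]

theorem ib_tb : ib θ ≫ tb = sb := by
  haveI := epi_π θ
  rw [← cancel_epi (π θ), π_ib_assoc, π_sb, π_tb, ← Category.assoc, G.i_t]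

theorem comp_ib (α : T ⟶ W.left) :
    pullback.lift α (α ≫ ib θ) (by rw [Category.assoc, ib_tb]) ≫ cb θ = α ≫ tb ≫ eb θ := by
  obtain ⟨T', g, α', hg, hα⟩ := exists_lift θ α
  rw [← cancel_epi g]
  have hβ : (α' ≫ G.i) ≫ π θ = g ≫ α ≫ ib θ := by
    rw [Category.assoc, ← π_ib, reassoc_of% hα]
  rw [key θ α _ _ g α' (α' ≫ G.i) hα hβ (by rw [Category.assoc, G.i_t]), tc_i,
    Category.assoc, Category.assoc, ← q_eb, ← π_tb_assoc, reassoc_of% hα]

theorem ib_comp (α : T ⟶ W.left) :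
    pullback.lift (α ≫ ib θ) α (by rw [Category.assoc, ib_sb]) ≫ cb θ = α ≫ sb ≫ eb θ := by
  obtain ⟨T', g, α', hg, hα⟩ := exists_lift θ α
  rw [← cancel_epi g]
  have hβ : (α' ≫ G.i) ≫ π θ = g ≫ α ≫ ib θ := by
    rw [Category.assoc, ← π_ib, reassoc_of% hα]
  rw [key θ _ α _ g (α' ≫ G.i) α' hβ hα (by rw [Category.assoc, G.i_s]), i_tc,
    Category.assoc, Category.assoc, ← q_eb, ← π_sb_assoc, reassoc_of% hα]

/-- The quotient groupoid. -/
noncomputable def H : Grpd.GroupoidScheme S where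
  U := d.Ub
  R := W.left
  pU := d.pUb
  pR := sb ≫ d.pUb
  s := sb
  t := tb
  e := eb θ
  i := ib θ
  c := cb θ
  s_over := rfl
  t_over := by
    unfold tb sb
    rw [Category.assoc, Category.assoc, pullback.condition]
  comp_s := fun α β h => comp_sb θ α β h
  comp_t := fun α β h => comp_tb θ α β h
  assoc := fun α β γ h₁ h₂ => assoc_b θ α β γ h₁ h₂
  e_s := eb_sb θ
  e_t := eb_tb θ
  comp_e := fun α => comp_eb θ α
  e_comp := fun α => eb_comp θ α
  i_s := ib_sb θ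
  i_t := ib_tb θ
  comp_i := fun α => comp_ib θ α
  i_comp := fun α => ib_comp θ α

/-- The morphism to the quotient groupoid. -/
noncomputable def φH : Grpd.GroupoidScheme.Hom G (H θ) where
  fU := d.q
  fR := π θ
  fU_over := d.q_over
  comm_s := π_sb θ
  comm_t := π_tb θ
  comm_c := fun α β h => by
    show (pullback.lift α β h ≫ G.c) ≫ π θ = pullback.lift (α ≫ π θ) (β ≫ π θ) _ ≫ cb θ
    rw [lift_cb θ α β h, tc_eq' G α β h]

theorem H_j : (H θ).j = W.hom := by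
  apply pullback.hom_ext
  · rw [Grpd.GroupoidScheme.j, pullback.lift_fst]; rfl
  · rw [Grpd.GroupoidScheme.j, pullback.lift_snd]; rfl

theorem isPullback_φH :
    IsPullback (φH θ).fR G.j (H θ).j
      (pullback.map G.pU G.pU (H θ).pU (H θ).pU (φH θ).fU (φH θ).fU (𝟙 S)
        ((Category.comp_id _).trans (φH θ).fU_over.symm)
        ((Category.comp_id _).trans (φH θ).fU_over.symm)) := by
  rw [H_j]
  exact isPullback_π θ

end Groth.Agent.Lib.Helper4.SubGrpd6
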