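import Mathlib
import Groth.Prelude.Def_Grpd
import Groth.Prelude.Def_Desc
import Groth.Prelude.Def_AlgSp
import Groth.Agent.Lib.Helper4.SubGrpd1
import Groth.Agent.Lib.Helper4.SubGrpd6
import Groth.Agent.Lib.Helper4.GrpdQuotMain
import Groth.Agent.Lib.Helper14.RepSh6

/-!
# Quotient of a groupoid scheme by a finite locally free sub-groupoid (helper4)

Stacks, Bootstrap, Lemma 04S2-type statement.
-/

set_option backward.isDefEq.respectTransparency false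
set_option autoImplicit false
set_option linter.style.haveILetI false
set_option linter.unusedSectionVars false

universe u
open CategoryTheory CategoryTheory.Limits AlgebraicGeometry

namespace Groth.Agent.Lib.Helper4.SubGrpdMain

open Groth.Agent.Lib.Helper4.GrpdBC Groth.Agent.Lib.Helper4.GrpdQuotMain
  Groth.Agent.Lib.Helper14.RepSh Groth.Agent.Lib.Helper4.SubGrpd1
  Groth.Agent.Lib.Helper4.SubGrpd2 Groth.Agent.Lib.Helper4.SubGrpd3
  Groth.Agent.Lib.Helper4.SubGrpd4 Groth.Agent.Lib.Helper4.SubGrpd6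

theorem main (S : Scheme.{u}) (G : Grpd.GroupoidScheme S) [IsAffine G.U]
    [IsSeparated G.j] [LocallyQuasiFinite G.j] [LocallyOfFiniteType G.j]
    (P : Scheme.{u}) (ιP : P ⟶ G.R) [Mono ιP]
    (he : ∃ eP : G.U ⟶ P, eP ≫ ιP = G.e) (hi : ∃ iP : P ⟶ P, iP ≫ ιP = ιP ≫ G.i)
    (hc : ∃ cP : pullback (ιP ≫ G.s) (ιP ≫ G.t) ⟶ P,
      cP ≫ ιP = pullback.map (ιP ≫ G.s) (ιP ≫ G.t) G.s G.t ιP ιP (𝟙 G.U) (Category.comp_id _) (Category.comp_id _) ≫ G.c)
    [IsFinite (ιP ≫ G.s)] [Flat (ιP ≫ G.s)] [LocallyOfFinitePresentation (ιP ≫ G.s)]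
    [IsFinite (ιP ≫ G.t)] [Flat (ιP ≫ G.t)] [LocallyOfFinitePresentation (ιP ≫ G.t)] [Mono (ιP ≫ G.j)] :
    ∃ (H : Grpd.GroupoidScheme S) (φ : Grpd.GroupoidScheme.Hom G H),
      IsAffine H.U ∧
      QuotSh.IsQuotient Scheme.fppfPrecoverage
        (Over.homMk (ιP ≫ G.s) ((Category.assoc _ _ _).trans (congrArg (ιP ≫ ·) G.s_over)) :
          (Over.mk (ιP ≫ G.pR) : Over S) ⟶ Over.mk G.pU)
        (Over.homMk (ιP ≫ G.t) ((Category.assoc _ _ _).trans (congrArg (ιP ≫ ·) G.t_over)) :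
          (Over.mk (ιP ≫ G.pR) : Over S) ⟶ Over.mk G.pU)
        (Over.homMk φ.fU φ.fU_over : Over.mk G.pU ⟶ Over.mk H.pU) ∧
      IsFinite φ.fU ∧ Flat φ.fU ∧ LocallyOfFinitePresentation φ.fU ∧
      IsPullback (ιP ≫ G.t) (ιP ≫ G.s) φ.fU φ.fU ∧
      IsPullback φ.fR G.j H.j
        (pullback.map G.pU G.pU H.pU H.pU φ.fU φ.fU (𝟙 S)
          ((Category.comp_id _).trans φ.fU_over.symm) ((Category.comp_id _).trans φ.fU_over.symm)) := by
  obtain ⟨eP, heP⟩ := he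
  obtain ⟨iP, hiP⟩ := hi
  obtain ⟨cP, hcP⟩ := hc
  haveI : IsFinite (GP G ιP eP heP iP hiP cP hcP).s := inferInstanceAs (IsFinite (ιP ≫ G.s))
  haveI : Flat (GP G ιP eP heP iP hiP cP hcP).s := inferInstanceAs (Flat (ιP ≫ G.s))
  haveI : LocallyOfFinitePresentation (GP G ιP eP heP iP hiP cP hcP).s :=
    inferInstanceAs (LocallyOfFinitePresentation (ιP ≫ G.s))
  obtain ⟨Y, q, w, hdesc, -, -, -, hsurj, -, -, -, haffY, hmono⟩ :=
    exists_quotient (GP G ιP eP heP iP hiP cP hcP)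
      (fun x => ⟨⊤, isAffineOpen_top G.U, Set.subset_univ _⟩)
  obtain ⟨hfin, hflat, hlfp, hiso⟩ := hmono (jMono_GP G ιP eP heP iP hiP cP hcP)
  have w' : (ιP ≫ G.s) ≫ q = (ιP ≫ G.t) ≫ q := w
  obtain ⟨πY, hπ⟩ := hdesc S G.pU (by
    show (ιP ≫ G.s) ≫ G.pU = (ιP ≫ G.t) ≫ G.pU
    rw [Category.assoc, Category.assoc, G.s_over, G.t_over])
  haveI : IsIso (pullback.lift (ιP ≫ G.t) (ιP ≫ G.s) w'.symm) := hiso
  have hpb : IsPullback (ιP ≫ G.t) (ιP ≫ G.s) q q :=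
    IsPullback.of_iso_pullback ⟨w'.symm⟩ (asIso (pullback.lift (ιP ≫ G.t) (ιP ≫ G.s) w'.symm))
      (pullback.lift_fst _ _ _) (pullback.lift_snd _ _ _)
  let d : QData G ιP := ⟨eP, heP, iP, hiP, cP, hcP, Y, q, πY, hπ, hpb⟩
  haveI : Flat d.q := hflat
  haveI : Surjective d.q := hsurj
  haveI : IsFinite d.q := hfin
  haveI : LocallyOfFinitePresentation d.q := hlfp
  obtain ⟨W, ⟨θ⟩⟩ := exists_eff d
  refine ⟨H θ, φH θ, haffY (inferInstanceAs (IsAffine G.U)), ?_, hfin, hflat, hlfp, hpb,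
    isPullback_φH θ⟩
  show QuotSh.IsQuotient Scheme.fppfPrecoverage
        (Over.homMk (ιP ≫ G.s) ((Category.assoc _ _ _).trans (congrArg (ιP ≫ ·) G.s_over)) :
          (Over.mk (ιP ≫ G.pR) : Over S) ⟶ Over.mk G.pU)
        (Over.homMk (ιP ≫ G.t) ((Category.assoc _ _ _).trans (congrArg (ιP ≫ ·) G.t_over)) :
          (Over.mk (ιP ≫ G.pR) : Over S) ⟶ Over.mk G.pU)
        (Over.homMk q hπ : Over.mk G.pU ⟶ Over.mk πY)
  have hk : IsKernelPair (Over.homMk q hπ : Over.mk G.pU ⟶ Over.mk πY)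
      (Over.homMk (ιP ≫ G.s) ((Category.assoc _ _ _).trans (congrArg (ιP ≫ ·) G.s_over)) :
          (Over.mk (ιP ≫ G.pR) : Over S) ⟶ Over.mk G.pU)
      (Over.homMk (ιP ≫ G.t) ((Category.assoc _ _ _).trans (congrArg (ιP ≫ ·) G.t_over)) :
          (Over.mk (ιP ≫ G.pR) : Over S) ⟶ Over.mk G.pU) := by
    apply isPullback_over_of_left
    · ext
      exact hpb.w.symm
    · exact hpb.flip
  haveI : Flat (Over.homMk q hπ : Over.mk G.pU ⟶ Over.mk πY).left := hflat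
  haveI : LocallyOfFinitePresentation (Over.homMk q hπ : Over.mk G.pU ⟶ Over.mk πY).left := hlfp
  haveI : Surjective (Over.homMk q hπ : Over.mk G.pU ⟶ Over.mk πY).left := hsurj
  haveI := epi_repMap_fppf (Over.homMk q hπ : Over.mk G.pU ⟶ Over.mk πY)
  exact isQuotient_of_isKernelPair Scheme.fppfPrecoverage _ _ _ hk

end Groth.Agent.Lib.Helper4.SubGrpdMain
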