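import Mathlib

/-!
# Field-valued points and residue fields (helper4)

* `isIso_desc_of_comp`: if `ω : Spec K ⟶ X` composed with `f : X ⟶ Y` is (up to an isomorphism of
  `K`) the canonical point `Spec κ(y) ⟶ Y`, then `K` is the residue field of `ω(pt)` and the residue
  field extension of `f` at `ω(pt)` is trivial.
* `exists_factor`: if `K` is the residue field of `ω(pt)`, every field valued point at `ω(pt)`
  factors through `ω`.
* `bijective_residueFieldMap_section`, `factor_section`: sections.
-/

set_option backward.isDefEq.respectTransparency false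
set_option autoImplicit false
set_option linter.style.haveILetI false
set_option linter.unusedSectionVars false

universe u
open CategoryTheory CategoryTheory.Limits AlgebraicGeometry IsLocalRing

namespace Groth.Agent.Lib.Helper4.BasePt

variable {X Y : Scheme.{u}}

/-- the residue field datum of a field valued point -/
noncomputable abbrev dsc {K : Type u} [Field K] (ω : Spec (.of K) ⟶ X) :
    X.residueField (ω (closedPoint K)) ⟶ .of K :=
  X.descResidueField (Scheme.stalkClosedPointTo ω)

theorem dsc_spec {K : Type u} [Field K] (ω : Spec (.of K) ⟶ X) :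
    Spec.map (dsc ω) ≫ X.fromSpecResidueField (ω (closedPoint K)) = ω :=
  Scheme.descResidueField_stalkClosedPointTo_fromSpecResidueField K X ω

theorem dsc_comp {K : Type u} [Field K] (ω : Spec (.of K) ⟶ X) (f : X ⟶ Y) :
    dsc (ω ≫ f) = f.residueFieldMap (ω (closedPoint K)) ≫ dsc ω :=
  Scheme.descResidueField_stalkClosedPointTo_comp f ω

theorem bijective_of_comp_isIso {A B C : CommRingCat.{u}} (a : A ⟶ B) (b : B ⟶ C)
    (hB : IsField B) [Nontrivial C] [IsIso (a ≫ b)] : IsIso b := by
  rw [ConcreteCategory.isIso_iff_bijective]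
  constructor
  · letI := hB.toField
    exact b.hom.injective
  · intro c
    obtain ⟨x, hx⟩ := (ConcreteCategory.bijective_of_isIso (a ≫ b)).surjective c
    exact ⟨a x, hx⟩

theorem dsc_of_eq {K : Type u} [Field K] (ω : Spec (.of K) ⟶ Y) (y : Y)
    (e : Y.residueField y ⟶ .of K) (h : ω = Spec.map e ≫ Y.fromSpecResidueField y) :
    ∃ hy : ω (closedPoint K) = y, dsc ω = (Y.residueFieldCongr hy).hom ≫ e := by
  have h1 : Scheme.SpecToEquivOfField K Y ω = ⟨y, e⟩ := by
    rw [h]
    exact (Scheme.SpecToEquivOfField K Y).right_inv ⟨y, e⟩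
  exact Scheme.SpecToEquivOfField_eq_iff.mp h1

/-- **Lemma A.** -/
theorem isIso_desc_of_comp {K : Type u} [Field K] (ω : Spec (.of K) ⟶ X) (f : X ⟶ Y) (y : Y)
    (e : Y.residueField y ≅ .of K) (h : ω ≫ f = Spec.map e.hom ≫ Y.fromSpecResidueField y) :
    f (ω (closedPoint K)) = y ∧ IsIso (dsc ω) ∧
      Function.Bijective (f.residueFieldMap (ω (closedPoint K))) := by
  obtain ⟨hy, h2⟩ := dsc_of_eq (ω ≫ f) y e.hom h
  rw [dsc_comp] at h2
  have i0 : IsIso (f.residueFieldMap (ω (closedPoint K)) ≫ dsc ω) := by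
    rw [h2]; infer_instance
  have i1 : IsIso (dsc ω) :=
    bijective_of_comp_isIso (f.residueFieldMap (ω (closedPoint K))) (dsc ω)
      (Field.toIsField _)
  have i2 : IsIso (f.residueFieldMap (ω (closedPoint K))) :=
    @IsIso.of_isIso_comp_right _ _ _ _ _ _ _ i1 i0
  exact ⟨hy, i1, ConcreteCategory.bijective_of_isIso _⟩

/-- **Lemma B.** -/
theorem exists_factor {K : Type u} [Field K] (ω : Spec (.of K) ⟶ X) [IsIso (dsc ω)]
    {L : Type u} [Field L] (f : Spec (.of L) ⟶ X) (hf : f (closedPoint L) = ω (closedPoint K)) :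
    ∃ f' : Spec (.of L) ⟶ Spec (.of K), f' ≫ ω = f := by
  refine ⟨Spec.map (inv (dsc ω) ≫ (X.residueFieldCongr hf).inv ≫ dsc f), ?_⟩
  rw [Spec.map_comp, Spec.map_comp, Category.assoc, Category.assoc]
  have h1 : Spec.map (inv (dsc ω)) ≫ ω = X.fromSpecResidueField (ω (closedPoint K)) := by
    have h2 : Spec.map (inv (dsc ω)) ≫ ω =
        Spec.map (inv (dsc ω)) ≫ Spec.map (dsc ω) ≫ X.fromSpecResidueField (ω (closedPoint K)) :=
      congrArg (fun z => Spec.map (inv (dsc ω)) ≫ z) (dsc_spec ω).symm
    rw [h2, ← Spec.map_comp_assoc, IsIso.hom_inv_id, Spec.map_id, Category.id_comp]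
  rw [h1, Scheme.residueFieldCongr_inv, Scheme.residueFieldCongr_fromSpecResidueField, dsc_spec]

/-- the residue field extension of a morphism at a point in the image of a section is trivial -/
theorem section_aux (π : X ⟶ Y) (σ : Y ⟶ X) (h : σ ≫ π = 𝟙 Y) (y : Y) :
    IsIso (dsc (K := Y.residueField y) (Y.fromSpecResidueField y ≫ σ)) ∧
      Function.Bijective (π.residueFieldMap (σ y)) := by
  have h0 : (Y.fromSpecResidueField y ≫ σ) ≫ π =
      Spec.map (Iso.refl (Y.residueField y)).hom ≫ Y.fromSpecResidueField y := by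
    rw [Category.assoc, h, Category.comp_id]
    show _ = Spec.map (𝟙 _) ≫ _
    rw [Spec.map_id, Category.id_comp]
  obtain ⟨h1, h2, h3⟩ := isIso_desc_of_comp (K := Y.residueField y)
    (Y.fromSpecResidueField y ≫ σ) π y (Iso.refl _) h0
  refine ⟨h2, ?_⟩
  have e : (Y.fromSpecResidueField y ≫ σ) (closedPoint (Y.residueField y)) = σ y := by
    rw [Scheme.Hom.comp_apply, Scheme.fromSpecResidueField_apply]
  have := π.residueFieldMap_congr' e
  have i3 : IsIso (π.residueFieldMap
      ((Y.fromSpecResidueField y ≫ σ) (closedPoint (Y.residueField y)))) :=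
    (ConcreteCategory.isIso_iff_bijective _).mpr h3
  have i4 : IsIso ((Y.residueFieldCongr (congrArg π e)).hom ≫ π.residueFieldMap (σ y)) := by
    rw [← this]; infer_instance
  have i5 : IsIso (π.residueFieldMap (σ y)) := IsIso.of_isIso_comp_left
    (Y.residueFieldCongr (congrArg π e)).hom _
  exact ConcreteCategory.bijective_of_isIso _

theorem bijective_residueFieldMap_section (π : X ⟶ Y) (σ : Y ⟶ X) (h : σ ≫ π = 𝟙 Y) (y : Y) :
    Function.Bijective (π.residueFieldMap (σ y)) := (section_aux π σ h y).2

/-- a field valued point at a point in the image of a section factors through the section -/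
theorem factor_section (π : X ⟶ Y) (σ : Y ⟶ X) (h : σ ≫ π = 𝟙 Y) (y : Y)
    {L : Type u} [Field L] (α : Spec (.of L) ⟶ X) (hα : α (closedPoint L) = σ y) :
    α = (α ≫ π) ≫ σ := by
  haveI := (section_aux π σ h y).1
  have e : α (closedPoint L) =
      (Y.fromSpecResidueField y ≫ σ) (closedPoint (Y.residueField y)) := by
    rw [hα, Scheme.Hom.comp_apply, Scheme.fromSpecResidueField_apply]
  obtain ⟨f', hf'⟩ := exists_factor (K := Y.residueField y) (Y.fromSpecResidueField y ≫ σ) α e
  rw [← hf']
  simp only [Category.assoc]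
  rw [reassoc_of% h]

end Groth.Agent.Lib.Helper4.BasePt
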