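import Mathlib

/-!
# Lifting a rational point through a formally étale algebra into an Artinian-like ring (helper4)

`A₁` formally étale over `A₀`, `𝔭₁ ⊂ A₁` a prime over `𝔭₀` with trivial residue field extension,
`Λ` an `A₀`-algebra with nilpotent nilradical all of whose primes lie over `𝔭₀`.  Then there is an
`A₀`-algebra map `A₁ → Λ` under which all primes of `Λ` lie over `𝔭₁`.
-/

set_option autoImplicit false

universe u

namespace Groth.Agent.Lib.Helper4.BasePtAlg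

variable {A₀ A₁ Λ : Type u} [CommRing A₀] [CommRing A₁] [CommRing Λ] [Algebra A₀ A₁] [Algebra A₀ Λ]

theorem isUnit_of_forall_prime_notMem (x : Λ) (h : ∀ 𝔮 : Ideal Λ, 𝔮.IsPrime → x ∉ 𝔮) :
    IsUnit x := by
  by_contra hx
  obtain ⟨𝔪, h𝔪, hx𝔪⟩ := exists_max_ideal_of_mem_nonunits (mem_nonunits_iff.mpr hx)
  exact h 𝔪 h𝔪.isPrime hx𝔪

theorem exists_algHom [Algebra.FormallyEtale A₀ A₁] (𝔭₁ : Ideal A₁) [𝔭₁.IsPrime]
    (hbij : Function.Bijective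
      (Ideal.ResidueField.map (𝔭₁.comap (algebraMap A₀ A₁)) 𝔭₁ (algebraMap A₀ A₁) rfl))
    (hN : IsNilpotent (nilradical Λ))
    (hΛ : ∀ 𝔮 : Ideal Λ, 𝔮.IsPrime → 𝔮.comap (algebraMap A₀ Λ) = 𝔭₁.comap (algebraMap A₀ A₁)) :
    ∃ φ : A₁ →ₐ[A₀] Λ, ∀ 𝔮 : Ideal Λ, 𝔮.IsPrime → 𝔮.comap φ = 𝔭₁ := by
  classical
  set 𝔭₀ : Ideal A₀ := 𝔭₁.comap (algebraMap A₀ A₁) with h𝔭₀
  let N : Ideal Λ := nilradical Λ
  let θq : A₀ →+* Λ ⧸ N := (Ideal.Quotient.mk N).comp (algebraMap A₀ Λ)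
  have hf₁ : 𝔭₀ ≤ RingHom.ker θq := by
    intro a ha
    rw [RingHom.mem_ker]
    show Ideal.Quotient.mk N (algebraMap A₀ Λ a) = 0
    rw [Ideal.Quotient.eq_zero_iff_mem]
    show algebraMap A₀ Λ a ∈ nilradical Λ
    rw [nilradical_eq_sInf, Ideal.mem_sInf]
    intro 𝔮 h𝔮
    have h𝔮' : 𝔮.IsPrime := h𝔮
    have := hΛ 𝔮 h𝔮'
    have h2 : a ∈ 𝔮.comap (algebraMap A₀ Λ) := by rw [this]; exact ha
    exact h2
  have hf₂ : 𝔭₀.primeCompl ≤ (IsUnit.submonoid (Λ ⧸ N)).comap θq := by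
    intro a ha
    show IsUnit (θq a)
    have : IsUnit (algebraMap A₀ Λ a) := by
      apply isUnit_of_forall_prime_notMem
      intro 𝔮 h𝔮 hmem
      have h2 : a ∈ 𝔮.comap (algebraMap A₀ Λ) := hmem
      rw [hΛ 𝔮 h𝔮] at h2
      exact ha h2
    exact this.map (Ideal.Quotient.mk N)
  let ε : 𝔭₀.ResidueField →+* Λ ⧸ N := Ideal.ResidueField.lift 𝔭₀ θq hf₁ hf₂
  have hε : ∀ a, ε (algebraMap A₀ 𝔭₀.ResidueField a) = θq a :=
    Ideal.ResidueField.lift_algebraMap 𝔭₀ θq hf₁ hf₂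
  let β : 𝔭₀.ResidueField ≃+* 𝔭₁.ResidueField := RingEquiv.ofBijective _ hbij
  have hβ : ∀ a, β (algebraMap A₀ 𝔭₀.ResidueField a) =
      algebraMap A₁ 𝔭₁.ResidueField (algebraMap A₀ A₁ a) := by
    intro a
    exact Ideal.ResidueField.map_algebraMap _ _ _ _ a
  let φq₀ : A₁ →+* Λ ⧸ N :=
    ε.comp (β.symm.toRingHom.comp (algebraMap A₁ 𝔭₁.ResidueField))
  let φq : A₁ →ₐ[A₀] Λ ⧸ N :=
    { φq₀ with
      commutes' := by
        intro a
        show ε (β.symm (algebraMap A₁ 𝔭₁.ResidueField (algebraMap A₀ A₁ a))) = _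
        rw [← hβ a, RingEquiv.symm_apply_apply, hε]
        rfl }
  have hφq : ∀ a, φq a = ε (β.symm (algebraMap A₁ 𝔭₁.ResidueField a)) := fun a => rfl
  obtain ⟨φ, hφ⟩ := Algebra.FormallySmooth.exists_lift N hN φq
  have hφ' : ∀ a, Ideal.Quotient.mk N (φ a) = φq a := fun a => AlgHom.congr_fun hφ a
  refine ⟨φ, ?_⟩
  intro 𝔮 h𝔮
  have hN𝔮 : N ≤ 𝔮 := by
    intro x hx
    have hx' : x ∈ nilradical Λ := hx
    rw [nilradical_eq_sInf, Ideal.mem_sInf] at hx'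
    exact hx' h𝔮
  ext a
  rw [Ideal.mem_comap]
  constructor
  · intro ha
    by_contra hna
    have h1 : algebraMap A₁ 𝔭₁.ResidueField a ≠ 0 := by
      intro h0
      exact hna (Ideal.algebraMap_residueField_eq_zero.mp h0)
    have h2 : IsUnit (algebraMap A₁ 𝔭₁.ResidueField a) := isUnit_iff_ne_zero.mpr h1
    have h3 : IsUnit (φq a) := by
      rw [hφq]
      exact (h2.map β.symm).map ε
    rw [← hφ'] at h3
    obtain ⟨y, hy⟩ := h3.exists_right_inv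
    obtain ⟨y', rfl⟩ := Ideal.Quotient.mk_surjective y
    rw [← map_mul, ← map_one (Ideal.Quotient.mk N), Ideal.Quotient.eq] at hy
    have h4 : φ a * y' - 1 ∈ 𝔮 := hN𝔮 hy
    have h5 : φ a * y' ∈ 𝔮 := 𝔮.mul_mem_right _ ha
    have h6 : (1 : Λ) ∈ 𝔮 := by
      have := 𝔮.sub_mem h5 h4
      simpa using this
    exact h𝔮.ne_top ((Ideal.eq_top_iff_one 𝔮).mpr h6)
  · intro ha
    have h1 : algebraMap A₁ 𝔭₁.ResidueField a = 0 := Ideal.algebraMap_residueField_eq_zero.mpr ha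
    have h2 : φq a = 0 := by rw [hφq, h1, map_zero, map_zero]
    rw [← hφ', Ideal.Quotient.eq_zero_iff_mem] at h2
    exact hN𝔮 h2

end Groth.Agent.Lib.Helper4.BasePtAlg
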