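import Mathlib
import Groth.Agent.Lib.Helper4.BasePtAlg
import Groth.Agent.Lib.Helper13.EL1

/-!
# Lifting an infinitesimal neighbourhood of a rational point through an étale map (helper4)

`g : X ⟶ Y` étale between affine schemes, `x : X` with trivial residue field extension, `Z` an
affine scheme whose ring has nilpotent nilradical, `k : Z ⟶ Y` constant with value `g x` on points.
Then `k` lifts to `m : Z ⟶ X`, constant with value `x` on points.
-/

set_option backward.isDefEq.respectTransparency false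
set_option autoImplicit false
set_option linter.style.haveILetI false
set_option linter.unusedSectionVars false

universe u
open CategoryTheory CategoryTheory.Limits AlgebraicGeometry

namespace Groth.Agent.Lib.Helper4.BasePtLift

open Groth.Agent.Lib.helper13.EL

theorem exists_pointLift {X Y Z : Scheme.{u}} [IsAffine X] [IsAffine Y] [IsAffine Z] (g : X ⟶ Y)
    [Etale g] (x : X) (hbij : Function.Bijective (g.residueFieldMap x))
    (hN : IsNilpotent (nilradical Γ(Z, ⊤))) (k : Z ⟶ Y) (hk : ∀ z : Z, k z = g x) :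
    ∃ m : Z ⟶ X, m ≫ g = k ∧ ∀ z : Z, m z = x := by
  letI algX : Algebra Γ(Y, ⊤) Γ(X, ⊤) := g.appTop.hom.toAlgebra
  letI algZ : Algebra Γ(Y, ⊤) Γ(Z, ⊤) := k.appTop.hom.toAlgebra
  have hq : g.appTop.hom.Etale := (HasRingHomProperty.iff_of_isAffine (P := @Etale)).mp inferInstance
  have hE : Algebra.Etale Γ(Y, ⊤) Γ(X, ⊤) := hq
  have hFE : Algebra.FormallyEtale Γ(Y, ⊤) Γ(X, ⊤) := hE.formallyEtale
  -- the prime of `x`
  let px : Spec Γ(X, ⊤) := X.isoSpec.hom x
  let 𝔭₁ : Ideal Γ(X, ⊤) := px.asIdeal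
  haveI : 𝔭₁.IsPrime := px.isPrime
  have hnat : X.isoSpec.hom ≫ Spec.map g.appTop = g ≫ Y.isoSpec.hom := Scheme.isoSpec_hom_naturality g
  have hnatk : Z.isoSpec.hom ≫ Spec.map k.appTop = k ≫ Y.isoSpec.hom :=
    Scheme.isoSpec_hom_naturality k
  have hpx : Spec.map g.appTop px = Y.isoSpec.hom (g x) := by
    show (X.isoSpec.hom ≫ Spec.map g.appTop) x = _
    rw [hnat]; rfl
  -- bijectivity of the residue field map in algebraic form
  have hb1 : Function.Bijective ((Spec.map g.appTop).residueFieldMap px) := by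
    have e1 : g = X.isoSpec.hom ≫ Spec.map g.appTop ≫ Y.isoSpec.inv := by
      rw [← Category.assoc, hnat, Category.assoc, Iso.hom_inv_id, Category.comp_id]
    have e2 := Scheme.Hom.residueFieldMap_congr e1 x
    rw [Scheme.residueFieldMap_comp, Scheme.residueFieldMap_comp] at e2
    have i0 : IsIso (g.residueFieldMap x) := (ConcreteCategory.isIso_iff_bijective _).mpr hbij
    rw [e2] at i0
    have i1 := @IsIso.of_isIso_comp_left _ _ _ _ _ _ _ inferInstance i0
    have i2 := @IsIso.of_isIso_comp_right _ _ _ _ _ _ _ inferInstance i1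
    have i3 : IsIso ((Spec.map g.appTop).residueFieldMap (X.isoSpec.hom x)) :=
      @IsIso.of_isIso_comp_left _ _ _ _ _ _ _ inferInstance i2
    exact ConcreteCategory.bijective_of_isIso _
  have hb2 : Function.Bijective (Ideal.ResidueField.map (Spec.map g.appTop px).asIdeal px.asIdeal
      g.appTop.hom rfl) := by
    rw [Spec_residueFieldMap_eq] at hb1
    have i0 : IsIso ((Scheme.Spec.residueFieldIso Γ(Y, ⊤) (Spec.map g.appTop px)).hom ≫
        CommRingCat.ofHom (Ideal.ResidueField.map (Spec.map g.appTop px).asIdeal px.asIdeal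
          g.appTop.hom rfl) ≫ (Scheme.Spec.residueFieldIso Γ(X, ⊤) px).inv) :=
      (ConcreteCategory.isIso_iff_bijective _).mpr hb1
    have i1 : IsIso (CommRingCat.ofHom (Ideal.ResidueField.map (Spec.map g.appTop px).asIdeal
        px.asIdeal g.appTop.hom rfl) ≫ (Scheme.Spec.residueFieldIso Γ(X, ⊤) px).inv) :=
      @IsIso.of_isIso_comp_left _ _ _ _ _ _ _ inferInstance i0
    have i2 : IsIso (CommRingCat.ofHom (Ideal.ResidueField.map (Spec.map g.appTop px).asIdeal
        px.asIdeal g.appTop.hom rfl)) := @IsIso.of_isIso_comp_right _ _ _ _ _ _ _ inferInstance i1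
    exact ConcreteCategory.bijective_of_isIso (CommRingCat.ofHom (Ideal.ResidueField.map
      (Spec.map g.appTop px).asIdeal px.asIdeal g.appTop.hom rfl))
  have hb3 : Function.Bijective (Ideal.ResidueField.map (𝔭₁.comap (algebraMap Γ(Y, ⊤) Γ(X, ⊤))) 𝔭₁
      (algebraMap Γ(Y, ⊤) Γ(X, ⊤)) rfl) := hb2
  -- all primes of `Γ(Z)` lie over the prime of `g x`
  have hΛ : ∀ 𝔮 : Ideal Γ(Z, ⊤), 𝔮.IsPrime →
      𝔮.comap (algebraMap Γ(Y, ⊤) Γ(Z, ⊤)) = 𝔭₁.comap (algebraMap Γ(Y, ⊤) Γ(X, ⊤)) := by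
    intro 𝔮 h𝔮
    let q : Spec Γ(Z, ⊤) := ⟨𝔮, h𝔮⟩
    have h1 : Spec.map k.appTop q = Y.isoSpec.hom (g x) := by
      have h2 : q = Z.isoSpec.hom (Z.isoSpec.inv q) := by
        rw [← Scheme.Hom.comp_apply, Iso.inv_hom_id]; rfl
      rw [h2]
      show (Z.isoSpec.hom ≫ Spec.map k.appTop) (Z.isoSpec.inv q) = _
      rw [hnatk, Scheme.Hom.comp_apply, hk]
    have h3 : Spec.map k.appTop q = Spec.map g.appTop px := h1.trans hpx.symm
    exact congrArg PrimeSpectrum.asIdeal h3
  obtain ⟨φ, hφ⟩ := BasePtAlg.exists_algHom 𝔭₁ hb3 hN hΛ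
  have hφg : g.appTop ≫ CommRingCat.ofHom φ.toRingHom = k.appTop := by
    ext a
    exact φ.commutes a
  refine ⟨Z.isoSpec.hom ≫ Spec.map (CommRingCat.ofHom φ.toRingHom) ≫ X.isoSpec.inv, ?_, ?_⟩
  · rw [Category.assoc, Category.assoc, ← Scheme.isoSpec_inv_naturality g, ← Spec.map_comp_assoc,
      hφg, Scheme.isoSpec_inv_naturality k, Iso.hom_inv_id_assoc]
  · intro z
    have h1 : Spec.map (CommRingCat.ofHom φ.toRingHom) (Z.isoSpec.hom z) = px := by
      apply PrimeSpectrum.ext
      exact hφ (Z.isoSpec.hom z).asIdeal (Z.isoSpec.hom z).isPrime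
    rw [Scheme.Hom.comp_apply, Scheme.Hom.comp_apply]
    refine (congrArg X.isoSpec.inv h1).trans ?_
    show X.isoSpec.inv (X.isoSpec.hom x) = x
    rw [← Scheme.Hom.comp_apply, Iso.hom_inv_id]; rfl

end Groth.Agent.Lib.Helper4.BasePtLift
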