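import Mathlib
import Groth.Prelude.Def_Grpd
import Groth.Agent.Lib.Helper4.SubGrpd2

/-!
# Coinduction of a finite flat piece of a groupoid: the translation map (helper4)

`VData G`: an étale-local finite piece `V ⊂ R ×_{s,U} U₁` of a groupoid `G`, containing the
identity.  A family `Fam D T` is a `T`-point `x` of `U₁` with a lift `μ : V_x ⟶ U₁` of the target
map.  `CoindData D` is a scheme `W` carrying the universal family which is translation-stable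
(`Q1`, `Q2`) and normalised (`Nrm`).  We construct the translation `τ : V ×_{U₁} W ⟶ W`.
-/

set_option backward.isDefEq.respectTransparency false
set_option autoImplicit false
set_option linter.style.haveILetI false
set_option linter.unusedSectionVars false

universe u
open CategoryTheory CategoryTheory.Limits AlgebraicGeometry

namespace Groth.Agent.Lib.Helper4.Coind

open Groth.Agent.Lib.Helper4.GrpdTc Groth.Agent.Lib.Helper4.SubGrpd2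

variable {S : Scheme.{u}} {G : Grpd.GroupoidScheme S}

/-- a finite piece `V` of `R ×_{s,U} U₁` containing the identity section -/
structure VData (G : Grpd.GroupoidScheme S) where
  U₁ : Scheme.{u}
  V : Scheme.{u}
  g₁ : U₁ ⟶ G.U
  aV : V ⟶ G.R
  pV : V ⟶ U₁
  aV_s : aV ≫ G.s = pV ≫ g₁
  V_ext : ∀ {T : Scheme.{u}} (v v' : T ⟶ V), v ≫ aV = v' ≫ aV → v ≫ pV = v' ≫ pV → v = v'
  e₁ : U₁ ⟶ V
  e₁_aV : e₁ ≫ aV = g₁ ≫ G.e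
  e₁_pV : e₁ ≫ pV = 𝟙 U₁
  affV : IsAffine V
  affU₁ : IsAffine U₁

attribute [reassoc] VData.aV_s VData.e₁_aV VData.e₁_pV

variable (D : VData G)

instance : IsAffine D.V := D.affV
instance : IsAffine D.U₁ := D.affU₁

/-- a family of lifts of the target map over `T` -/
structure Fam (T : Scheme.{u}) where
  x : T ⟶ D.U₁
  μ : pullback x D.pV ⟶ D.U₁
  hμ : μ ≫ D.g₁ = pullback.snd x D.pV ≫ D.aV ≫ G.t

namespace Fam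

variable {D} {T : Scheme.{u}} (F : Fam D T)

open Classical in
/-- evaluation of the family at a point of `V_x` -/
noncomputable def ev {T' : Scheme.{u}} (h : T' ⟶ T) (v : T' ⟶ D.V) : T' ⟶ D.U₁ :=
  if hv : h ≫ F.x = v ≫ D.pV then pullback.lift h v hv ≫ F.μ else h ≫ F.x

theorem ev_eq {T' : Scheme.{u}} (h : T' ⟶ T) (v : T' ⟶ D.V) (hv : h ≫ F.x = v ≫ D.pV) :
    F.ev h v = pullback.lift h v hv ≫ F.μ := dif_pos hv

theorem ev_g₁ {T' : Scheme.{u}} (h : T' ⟶ T) (v : T' ⟶ D.V) (hv : h ≫ F.x = v ≫ D.pV) :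
    F.ev h v ≫ D.g₁ = (v ≫ D.aV) ≫ G.t := by
  rw [ev_eq F h v hv, Category.assoc, F.hμ, pullback.lift_snd_assoc, Category.assoc]

theorem pre_ev {T' T'' : Scheme.{u}} (k : T'' ⟶ T') (h : T' ⟶ T) (v : T' ⟶ D.V)
    (hv : h ≫ F.x = v ≫ D.pV) : k ≫ F.ev h v = F.ev (k ≫ h) (k ≫ v) := by
  have hv' : (k ≫ h) ≫ F.x = (k ≫ v) ≫ D.pV := by rw [Category.assoc, Category.assoc, hv]
  rw [ev_eq F h v hv, ev_eq F _ _ hv', ← Category.assoc]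
  congr 1
  apply pullback.hom_ext
  · rw [Category.assoc, pullback.lift_fst, pullback.lift_fst]
  · rw [Category.assoc, pullback.lift_snd, pullback.lift_snd]

theorem ev_congr {T' : Scheme.{u}} {h h' : T' ⟶ T} {v v' : T' ⟶ D.V} (e1 : h = h') (e2 : v = v') :
    F.ev h v = F.ev h' v' := by rw [e1, e2]

/-- the arrow `v` goes from `x` to `μ(v)` -/
theorem isArr {T' : Scheme.{u}} (h : T' ⟶ T) (v : T' ⟶ D.V) (hv : h ≫ F.x = v ≫ D.pV) :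
    IsArr G (v ≫ D.aV) (F.ev h v ≫ D.g₁) (v ≫ D.pV ≫ D.g₁) :=
  ⟨(F.ev_g₁ h v hv).symm, by rw [Category.assoc, D.aV_s]⟩

/-- stability under left translation -/
def Q1 : Prop := ∀ {T' : Scheme.{u}} (h : T' ⟶ T) (v v' : T' ⟶ D.V), h ≫ F.x = v ≫ D.pV →
  v' ≫ D.pV = F.ev h v →
    ∃ b : T' ⟶ D.V, b ≫ D.aV = tc G (v' ≫ D.aV) (v ≫ D.aV) ∧ b ≫ D.pV = v ≫ D.pV

/-- stability under division -/
def Q2 : Prop := ∀ {T' : Scheme.{u}} (h : T' ⟶ T) (v b : T' ⟶ D.V), h ≫ F.x = v ≫ D.pV →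
  b ≫ D.pV = v ≫ D.pV →
    ∃ v' : T' ⟶ D.V, v' ≫ D.aV = tc G (b ≫ D.aV) ((v ≫ D.aV) ≫ G.i) ∧ v' ≫ D.pV = F.ev h v

/-- normalisation: the identity arrow is lifted to the base point -/
def Nrm : Prop := F.ev (𝟙 T) (F.x ≫ D.e₁) = F.x

theorem nrm_pt (hN : F.Nrm) {T' : Scheme.{u}} (h : T' ⟶ T) :
    F.ev h (h ≫ F.x ≫ D.e₁) = h ≫ F.x := by
  have h1 : (𝟙 T) ≫ F.x = (F.x ≫ D.e₁) ≫ D.pV := by
    rw [Category.id_comp, Category.assoc, D.e₁_pV, Category.comp_id]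
  have := F.pre_ev h (𝟙 T) (F.x ≫ D.e₁) h1
  rw [Category.comp_id] at this
  rw [← this, hN]

end Fam

/-- a translation-stable, normalised universal family -/
structure CoindData (D : VData G) where
  W : Scheme.{u}
  FW : Fam D W
  q1 : FW.Q1
  q2 : FW.Q2
  nrm : FW.Nrm
  affW : IsAffine W
  up_exists : ∀ {T : Scheme.{u}} [IsAffine T] (F : Fam D T), F.Q1 → F.Q2 → F.Nrm →
    ∃ f : T ⟶ W, f ≫ FW.x = F.x ∧ ∀ {T' : Scheme.{u}} (h : T' ⟶ T) (v : T' ⟶ D.V),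
      h ≫ F.x = v ≫ D.pV → FW.ev (h ≫ f) v = F.ev h v
  up_ext : ∀ {T : Scheme.{u}} [IsAffine T] (f f' : T ⟶ W), f ≫ FW.x = f' ≫ FW.x →
    (∀ {T' : Scheme.{u}} (h : T' ⟶ T) (v : T' ⟶ D.V), (h ≫ f) ≫ FW.x = v ≫ D.pV →
      FW.ev (h ≫ f) v = FW.ev (h ≫ f') v) → f = f'

namespace CoindData

variable {D} (C : CoindData D)

instance : IsAffine C.W := C.affW

/-- `P = W ×_{U₁} V` -/
noncomputable abbrev P : Scheme.{u} := pullback C.FW.x D.pV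

/-- source of an arrow of `P` -/
noncomputable abbrev pw : C.P ⟶ C.W := pullback.fst C.FW.x D.pV

/-- the underlying point of `V` -/
noncomputable abbrev pv : C.P ⟶ D.V := pullback.snd C.FW.x D.pV

theorem P_cond {T : Scheme.{u}} (p : T ⟶ C.P) : (p ≫ C.pw) ≫ C.FW.x = (p ≫ C.pv) ≫ D.pV := by
  rw [Category.assoc, Category.assoc, pullback.condition]

theorem ev_P {T : Scheme.{u}} (p : T ⟶ C.P) : C.FW.ev (p ≫ C.pw) (p ≫ C.pv) = p ≫ C.FW.μ := by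
  rw [C.FW.ev_eq _ _ (C.P_cond p)]
  congr 1
  apply pullback.hom_ext
  · rw [pullback.lift_fst]
  · rw [pullback.lift_snd]

/-! ### The calculus lemmas -/

section calculus

variable {T : Scheme.{u}} {α β γ β₁ : T ⟶ G.R} {a₀ a₁ a₂ a₃ a₂' : T ⟶ G.U}

theorem calc1 (hα : IsArr G α a₁ a₀) (hβ : IsArr G β a₂ a₁) (hγ : IsArr G γ a₃ a₂) :
    tc G (tc G γ (tc G β α)) (α ≫ G.i) = tc G γ β := by
  rw [← tc_assoc' hγ hβ hα, tc_assoc' (hγ.tc hβ) hα hα.i, tc_i' hα, tc_e' (hγ.tc hβ)]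

theorem calc2 (hα : IsArr G α a₁ a₀) (hβ : IsArr G β a₂ a₁) (hβ₁ : IsArr G β₁ a₂' a₁) :
    tc G (tc G β₁ α) (tc G β α ≫ G.i) = tc G β₁ (β ≫ G.i) := by
  rw [tc_inv' hβ hα, ← tc_assoc' (hβ₁.tc hα) hα.i hβ.i, tc_assoc' hβ₁ hα hα.i, tc_i' hα,
    tc_e' hβ₁]

end calculus

/-! ### The translated family over `P` -/

/-- the universal triple `(w, v, v')` with `v' ∈ V_{λ(v)}` -/
noncomputable abbrev T₂ : Scheme.{u} := pullback C.FW.μ D.pV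

theorem T₂_cond : (pullback.snd C.FW.μ D.pV) ≫ D.pV =
    C.FW.ev (pullback.fst C.FW.μ D.pV ≫ C.pw) (pullback.fst C.FW.μ D.pV ≫ C.pv) := by
  rw [C.ev_P, pullback.condition]

/-- the composite `v' ∘ v` on the universal triple -/
noncomputable def b₂ : C.T₂ ⟶ D.V :=
  (C.q1 (pullback.fst C.FW.μ D.pV ≫ C.pw) (pullback.fst C.FW.μ D.pV ≫ C.pv)
    (pullback.snd C.FW.μ D.pV) (C.P_cond _) C.T₂_cond).choose

theorem b₂_aV : C.b₂ ≫ D.aV = tc G (pullback.snd C.FW.μ D.pV ≫ D.aV)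
    ((pullback.fst C.FW.μ D.pV ≫ C.pv) ≫ D.aV) :=
  (C.q1 (pullback.fst C.FW.μ D.pV ≫ C.pw) (pullback.fst C.FW.μ D.pV ≫ C.pv)
    (pullback.snd C.FW.μ D.pV) (C.P_cond _) C.T₂_cond).choose_spec.1

theorem b₂_pV : C.b₂ ≫ D.pV = (pullback.fst C.FW.μ D.pV ≫ C.pv) ≫ D.pV :=
  (C.q1 (pullback.fst C.FW.μ D.pV ≫ C.pw) (pullback.fst C.FW.μ D.pV ≫ C.pv)
    (pullback.snd C.FW.μ D.pV) (C.P_cond _) C.T₂_cond).choose_spec.2

theorem b₂_cond : (pullback.fst C.FW.μ D.pV ≫ C.pw) ≫ C.FW.x = C.b₂ ≫ D.pV := by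
  rw [C.b₂_pV, C.P_cond]

/-- composability of `v'` after `v` for `p = (w, v)` and `v' ∈ V_{λ(p)}` -/
theorem isArr_pv {T : Scheme.{u}} (p : T ⟶ C.P) :
    IsArr G ((p ≫ C.pv) ≫ D.aV) ((p ≫ C.FW.μ) ≫ D.g₁) ((p ≫ C.pw) ≫ C.FW.x ≫ D.g₁) := by
  have := C.FW.isArr (p ≫ C.pw) (p ≫ C.pv) (C.P_cond p)
  rw [C.ev_P] at this
  refine ⟨this.t, ?_⟩
  rw [this.s, ← Category.assoc, ← C.P_cond p, Category.assoc]

theorem isArr_over {T : Scheme.{u}} (p : T ⟶ C.P) (v' : T ⟶ D.V) (hv' : p ≫ C.FW.μ = v' ≫ D.pV) :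
    IsArr G (v' ≫ D.aV) ((v' ≫ D.aV) ≫ G.t) ((p ≫ C.FW.μ) ≫ D.g₁) :=
  ⟨rfl, by rw [Category.assoc, D.aV_s, hv', Category.assoc]⟩

/-- the translated family `(w, v) ↦ (λ(v), v' ↦ λ(v' ∘ v))` -/
noncomputable def Fτ : Fam D C.P where
  x := C.FW.μ
  μ := C.FW.ev (pullback.fst C.FW.μ D.pV ≫ C.pw) C.b₂
  hμ := by
    rw [C.FW.ev_g₁ _ _ C.b₂_cond, C.b₂_aV]
    have h1 := C.isArr_pv (pullback.fst C.FW.μ D.pV)
    have h2 := C.isArr_over (pullback.fst C.FW.μ D.pV) (pullback.snd C.FW.μ D.pV)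
      pullback.condition
    rw [(h2.tc h1).t, Category.assoc]

/-- **Evaluation of the translated family.** -/
theorem Fτ_ev {T : Scheme.{u}} (p : T ⟶ C.P) (v' b : T ⟶ D.V) (hv' : p ≫ C.FW.μ = v' ≫ D.pV)
    (hb : b ≫ D.aV = tc G (v' ≫ D.aV) ((p ≫ C.pv) ≫ D.aV)) (hb' : b ≫ D.pV = (p ≫ C.pv) ≫ D.pV) :
    C.Fτ.ev p v' = C.FW.ev (p ≫ C.pw) b := by
  have hv'' : p ≫ C.Fτ.x = v' ≫ D.pV := hv'
  rw [C.Fτ.ev_eq p v' hv'']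
  show pullback.lift p v' hv' ≫ C.FW.ev (pullback.fst C.FW.μ D.pV ≫ C.pw) C.b₂ = _
  rw [C.FW.pre_ev _ _ _ C.b₂_cond]
  apply Fam.ev_congr
  · rw [pullback.lift_fst_assoc]
  · apply D.V_ext
    · rw [Category.assoc, C.b₂_aV, hb]
      have h1 := C.isArr_pv (pullback.fst C.FW.μ D.pV)
      have h2 := C.isArr_over (pullback.fst C.FW.μ D.pV) (pullback.snd C.FW.μ D.pV)
        pullback.condition
      rw [pre_tc' h2 h1, ← Category.assoc, pullback.lift_snd, ← Category.assoc, ← Category.assoc,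
        pullback.lift_fst]
    · rw [Category.assoc, C.b₂_pV, hb', ← Category.assoc, ← Category.assoc, pullback.lift_fst]

theorem Fτ_q1 : C.Fτ.Q1 := by
  intro T' p v₁ v₂ hv₁ hv₂
  have hv₁' : p ≫ C.FW.μ = v₁ ≫ D.pV := hv₁
  have e0 : v₁ ≫ D.pV = C.FW.ev (p ≫ C.pw) (p ≫ C.pv) := by rw [C.ev_P, hv₁']
  obtain ⟨c₁, hc₁, hc₁'⟩ := C.q1 (p ≫ C.pw) (p ≫ C.pv) v₁ (C.P_cond p) e0
  rw [C.Fτ_ev p v₁ c₁ hv₁' hc₁ hc₁'] at hv₂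
  have hwc : (p ≫ C.pw) ≫ C.FW.x = c₁ ≫ D.pV := by rw [hc₁', C.P_cond]
  obtain ⟨b', hb', hb''⟩ := C.q1 (p ≫ C.pw) c₁ v₂ hwc hv₂
  obtain ⟨v'', hv'', hv'''⟩ := C.q2 (p ≫ C.pw) (p ≫ C.pv) b' (C.P_cond p) (hb''.trans hc₁')
  refine ⟨v'', ?_, by rw [hv''', ← e0]⟩
  have hα := C.isArr_pv p
  have hβ := C.isArr_over p v₁ hv₁'
  have hγ : IsArr G (v₂ ≫ D.aV) ((v₂ ≫ D.aV) ≫ G.t) ((v₁ ≫ D.aV) ≫ G.t) := by
    refine ⟨rfl, ?_⟩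
    rw [Category.assoc, D.aV_s, ← Category.assoc, hv₂, C.FW.ev_g₁ _ _ hwc, hc₁, (hβ.tc hα).t]
  rw [hv'', hb', hc₁]
  exact calc1 hα hβ hγ

theorem Fτ_q2 : C.Fτ.Q2 := by
  intro T' p v₁ b₁ hv₁ hb₁
  have hv₁' : p ≫ C.FW.μ = v₁ ≫ D.pV := hv₁
  have e0 : v₁ ≫ D.pV = C.FW.ev (p ≫ C.pw) (p ≫ C.pv) := by rw [C.ev_P, hv₁']
  obtain ⟨c₁, hc₁, hc₁'⟩ := C.q1 (p ≫ C.pw) (p ≫ C.pv) v₁ (C.P_cond p) e0
  obtain ⟨d₁, hd₁, hd₁'⟩ := C.q1 (p ≫ C.pw) (p ≫ C.pv) b₁ (C.P_cond p) (hb₁.trans e0)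
  have hwc : (p ≫ C.pw) ≫ C.FW.x = c₁ ≫ D.pV := by rw [hc₁', C.P_cond]
  obtain ⟨v', hv', hv''⟩ := C.q2 (p ≫ C.pw) c₁ d₁ hwc (hd₁'.trans hc₁'.symm)
  refine ⟨v', ?_, by rw [hv'', C.Fτ_ev p v₁ c₁ hv₁' hc₁ hc₁']⟩
  have hα := C.isArr_pv p
  have hβ := C.isArr_over p v₁ hv₁'
  have hβ₁ : IsArr G (b₁ ≫ D.aV) ((b₁ ≫ D.aV) ≫ G.t) ((p ≫ C.FW.μ) ≫ D.g₁) := by
    refine ⟨rfl, ?_⟩
    rw [Category.assoc, D.aV_s, ← Category.assoc, hb₁, ← hv₁', Category.assoc]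
  rw [hv', hd₁, hc₁]
  exact calc2 hα hβ hβ₁

theorem Fτ_nrm : C.Fτ.Nrm := by
  show C.Fτ.ev (𝟙 C.P) (C.FW.μ ≫ D.e₁) = C.FW.μ
  have h1 : (𝟙 C.P) ≫ C.FW.μ = (C.FW.μ ≫ D.e₁) ≫ D.pV := by
    rw [Category.id_comp, Category.assoc, D.e₁_pV, Category.comp_id]
  have hα := C.isArr_pv (𝟙 C.P)
  have hb : (𝟙 C.P ≫ C.pv) ≫ D.aV =
      tc G ((C.FW.μ ≫ D.e₁) ≫ D.aV) ((𝟙 C.P ≫ C.pv) ≫ D.aV) := by
    have := e_tc' hα
    rw [Category.id_comp C.FW.μ] at this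
    rw [Category.assoc C.FW.μ, D.e₁_aV, ← Category.assoc, this]
  rw [C.Fτ_ev (𝟙 C.P) (C.FW.μ ≫ D.e₁) (𝟙 C.P ≫ C.pv) h1 hb rfl, C.ev_P, Category.id_comp]

/-- **The translation map** `τ : P ⟶ W`, `(w, v) ↦ (λ(v), v' ↦ λ(v' ∘ v))`. -/
noncomputable def τ : C.P ⟶ C.W := (C.up_exists C.Fτ C.Fτ_q1 C.Fτ_q2 C.Fτ_nrm).choose

theorem τ_x : C.τ ≫ C.FW.x = C.FW.μ :=
  (C.up_exists C.Fτ C.Fτ_q1 C.Fτ_q2 C.Fτ_nrm).choose_spec.1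

theorem τ_ev {T : Scheme.{u}} (p : T ⟶ C.P) (v' b : T ⟶ D.V) (hv' : p ≫ C.FW.μ = v' ≫ D.pV)
    (hb : b ≫ D.aV = tc G (v' ≫ D.aV) ((p ≫ C.pv) ≫ D.aV)) (hb' : b ≫ D.pV = (p ≫ C.pv) ≫ D.pV) :
    C.FW.ev (p ≫ C.τ) v' = C.FW.ev (p ≫ C.pw) b := by
  have := (C.up_exists C.Fτ C.Fτ_q1 C.Fτ_q2 C.Fτ_nrm).choose_spec.2 p v' hv'
  exact this.trans (C.Fτ_ev p v' b hv' hb hb')

end CoindData

end Groth.Agent.Lib.Helper4.Coind
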