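import Mathlib
import Groth.Prelude.Def_Grpd
import Groth.Agent.Lib.Helper4.Coind1
import Groth.Agent.Lib.Helper4.GrpdRestrGen

/-!
# Coinduction of a finite flat piece of a groupoid: the subgroupoid `P ⊂ R|_W` (helper4)
-/

set_option backward.isDefEq.respectTransparency false
set_option autoImplicit false
set_option linter.style.haveILetI false
set_option linter.unusedSectionVars false

universe u
open CategoryTheory CategoryTheory.Limits AlgebraicGeometry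

namespace Groth.Agent.Lib.Helper4.Coind

open Groth.Agent.Lib.Helper4.GrpdTc Groth.Agent.Lib.Helper4.SubGrpd2
  Groth.Agent.Lib.Helper4.GrpdRestrGen Groth.Agent.S7457

variable {S : Scheme.{u}} {G : Grpd.GroupoidScheme S} {D : VData G} (C : CoindData D)

namespace CoindData

/-- the morphism `W ⟶ U` along which `G` is restricted -/
noncomputable abbrev g : C.W ⟶ G.U := C.FW.x ≫ D.g₁

/-- the restriction data -/
noncomputable abbrev d : RestrDataG G C.g := RestrDataG.ofHom G C.g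

theorem ψ_aux1 : (C.pv ≫ D.aV) ≫ G.s = C.pw ≫ C.g := by
  show _ = C.pw ≫ C.FW.x ≫ D.g₁
  rw [Category.assoc, D.aV_s, ← Category.assoc, ← pullback.condition, Category.assoc]

theorem ψ_aux2 : (C.pv ≫ D.aV) ≫ G.t = C.τ ≫ C.g := by
  show _ = C.τ ≫ C.FW.x ≫ D.g₁
  rw [← Category.assoc, C.τ_x, C.FW.hμ, Category.assoc]

/-- the inclusion of `P` into the arrows of the restriction -/
noncomputable def ψ : C.P ⟶ C.d.RW := C.d.lift (C.pv ≫ D.aV) C.pw C.τ C.ψ_aux1 C.ψ_aux2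

@[reassoc (attr := simp)]
theorem ψ_ιR : C.ψ ≫ C.d.ιR = C.pv ≫ D.aV := C.d.lift_ιR _ _ _ _ _

@[reassoc (attr := simp)]
theorem ψ_sW : C.ψ ≫ C.d.sW = C.pw := C.d.lift_sW _ _ _ _ _

@[reassoc (attr := simp)]
theorem ψ_tW : C.ψ ≫ C.d.tW = C.τ := C.d.lift_tW _ _ _ _ _

/-! ### identity -/

theorem eP_aux : (𝟙 C.W) ≫ C.FW.x = (C.FW.x ≫ D.e₁) ≫ D.pV := by
  rw [Category.id_comp, Category.assoc, D.e₁_pV, Category.comp_id]

/-- the identity section -/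
noncomputable def eP : C.W ⟶ C.P := pullback.lift (𝟙 C.W) (C.FW.x ≫ D.e₁) C.eP_aux

@[reassoc (attr := simp)]
theorem eP_pw : C.eP ≫ C.pw = 𝟙 C.W := pullback.lift_fst _ _ _

@[reassoc (attr := simp)]
theorem eP_pv : C.eP ≫ C.pv = C.FW.x ≫ D.e₁ := pullback.lift_snd _ _ _

theorem eP_μ : C.eP ≫ C.FW.μ = C.FW.x := by
  have := C.nrm
  unfold Fam.Nrm at this
  rw [C.FW.ev_eq _ _ C.eP_aux] at this
  exact this

theorem eP_τ : C.eP ≫ C.τ = 𝟙 C.W := by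
  apply C.up_ext
  · rw [Category.assoc, C.τ_x, C.eP_μ, Category.id_comp]
  · intro T' h v hv
    have hv1 : (h ≫ C.eP) ≫ C.FW.μ = v ≫ D.pV := by
      rw [← hv, ← C.τ_x]
      simp only [Category.assoc]
    have hv2 : v ≫ D.pV = h ≫ C.FW.x := by
      rw [← hv1, Category.assoc, C.eP_μ]
    have hs : (v ≫ D.aV) ≫ G.s = h ≫ C.FW.x ≫ D.g₁ := by
      rw [Category.assoc, D.aV_s, ← Category.assoc, hv2, Category.assoc]
    have hb : v ≫ D.aV = tc G (v ≫ D.aV) (((h ≫ C.eP) ≫ C.pv) ≫ D.aV) := by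
      rw [Category.assoc h, C.eP_pv, Category.assoc, Category.assoc, D.e₁_aV]
      have := tc_e G (v ≫ D.aV) (h ≫ C.FW.x ≫ D.g₁) hs
      simp only [Category.assoc] at this ⊢
      exact this.symm
    have hb' : v ≫ D.pV = ((h ≫ C.eP) ≫ C.pv) ≫ D.pV := by
      rw [Category.assoc h, C.eP_pv, hv2, Category.assoc, Category.assoc, D.e₁_pV,
        Category.comp_id]
    have := C.τ_ev (h ≫ C.eP) v v hv1 hb hb'
    rw [Category.assoc, Category.assoc h C.eP C.pw, C.eP_pw] at this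
    exact this

theorem eP_ψ : C.eP ≫ C.ψ = C.d.eW := by
  apply C.d.ext
  · rw [Category.assoc, C.ψ_ιR, C.eP_pv_assoc, D.e₁_aV, RestrDataG.eW_ιR]
    rfl
  · rw [Category.assoc, C.ψ_sW, C.eP_pw, RestrDataG.eW_sW]
  · rw [Category.assoc, C.ψ_tW, C.eP_τ, RestrDataG.eW_tW]

/-! ### inverse -/

theorem iv_aux : (C.pw ≫ C.FW.x ≫ D.e₁) ≫ D.pV = C.pv ≫ D.pV := by
  rw [Category.assoc, Category.assoc, D.e₁_pV, Category.comp_id, pullback.condition]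

/-- the inverse arrow, as a point of `V` -/
noncomputable def iv : C.P ⟶ D.V :=
  (C.q2 C.pw C.pv (C.pw ≫ C.FW.x ≫ D.e₁) pullback.condition C.iv_aux).choose

theorem iv_aV : C.iv ≫ D.aV = (C.pv ≫ D.aV) ≫ G.i := by
  have h1 := (C.q2 C.pw C.pv (C.pw ≫ C.FW.x ≫ D.e₁) pullback.condition C.iv_aux).choose_spec.1
  have hα := (C.isArr_pv (𝟙 C.P)).i
  simp only [Category.id_comp] at hα
  have h2 := e_tc' hα
  refine h1.trans ?_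
  rw [Category.assoc C.pw, Category.assoc C.FW.x, D.e₁_aV]
  simp only [Category.assoc] at h2 ⊢
  exact h2

theorem iv_pV : C.iv ≫ D.pV = C.FW.μ := by
  have h1 := (C.q2 C.pw C.pv (C.pw ≫ C.FW.x ≫ D.e₁) pullback.condition C.iv_aux).choose_spec.2
  have := C.ev_P (𝟙 C.P)
  simp only [Category.id_comp] at this
  exact h1.trans this

/-- the inverse on `P` -/
noncomputable def iP : C.P ⟶ C.P :=
  pullback.lift C.τ C.iv (by rw [C.τ_x, C.iv_pV])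

@[reassoc (attr := simp)]
theorem iP_pw : C.iP ≫ C.pw = C.τ := pullback.lift_fst _ _ _

@[reassoc (attr := simp)]
theorem iP_pv : C.iP ≫ C.pv = C.iv := pullback.lift_snd _ _ _

theorem calc3 {T : Scheme.{u}} {α γ : T ⟶ G.R} {a₀ a₁ a₃ : T ⟶ G.U} (hα : IsArr G α a₁ a₀)
    (hγ : IsArr G γ a₃ a₀) : tc G (tc G γ (α ≫ G.i)) α = γ := by
  rw [tc_assoc' hγ hα.i hα, i_tc' hα, tc_e' hγ]

theorem iP_μ : C.iP ≫ C.FW.μ = C.pw ≫ C.FW.x := by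
  have e1 := C.ev_P C.iP
  rw [C.iP_pw, C.iP_pv] at e1
  rw [← e1]
  have hα := C.isArr_pv (𝟙 C.P)
  simp only [Category.id_comp] at hα
  have hb : (C.pw ≫ C.FW.x ≫ D.e₁) ≫ D.aV = tc G (C.iv ≫ D.aV) ((𝟙 C.P ≫ C.pv) ≫ D.aV) := by
    rw [Category.id_comp, C.iv_aV, i_tc' hα]
    simp only [Category.assoc, D.e₁_aV]
  have := C.τ_ev (𝟙 C.P) C.iv (C.pw ≫ C.FW.x ≫ D.e₁) (by rw [Category.id_comp, C.iv_pV]) hb
    (by rw [Category.id_comp]; exact C.iv_aux)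
  rw [Category.id_comp, Category.id_comp] at this
  rw [this]
  exact C.FW.nrm_pt C.nrm C.pw

theorem iP_τ : C.iP ≫ C.τ = C.pw := by
  apply C.up_ext
  · rw [Category.assoc, C.τ_x, C.iP_μ]
  · intro T' h v hv
    have hv1 : (h ≫ C.iP) ≫ C.FW.μ = v ≫ D.pV := by
      rw [← hv, ← C.τ_x]
      simp only [Category.assoc]
    have hv2 : v ≫ D.pV = (h ≫ C.pv) ≫ D.pV := by
      rw [← hv1, Category.assoc, C.iP_μ, ← Category.assoc, C.P_cond]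
    obtain ⟨b, hb, hb'⟩ := C.q2 (h ≫ C.pw) (h ≫ C.pv) v (C.P_cond h) hv2
    rw [C.ev_P] at hb'
    have hα := C.isArr_pv h
    have hγ : IsArr G (v ≫ D.aV) ((v ≫ D.aV) ≫ G.t) ((h ≫ C.pw) ≫ C.FW.x ≫ D.g₁) := by
      refine ⟨rfl, ?_⟩
      rw [Category.assoc, D.aV_s, ← Category.assoc, hv2, ← C.P_cond, Category.assoc]
    have e1 : ((h ≫ C.iP) ≫ C.pv) ≫ D.aV = ((h ≫ C.pv) ≫ D.aV) ≫ G.i := by
      rw [Category.assoc h, C.iP_pv, Category.assoc, C.iv_aV]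
      simp only [Category.assoc]
    have e2 : ((h ≫ C.iP) ≫ C.pv) ≫ D.pV = h ≫ C.FW.μ := by
      rw [Category.assoc h, C.iP_pv, Category.assoc, C.iv_pV]
    have s1 := C.τ_ev (h ≫ C.iP) v b hv1 (by rw [hb, e1]) (by rw [hb', e2])
    have s2 := C.τ_ev h b v hb'.symm (by rw [hb, calc3 hα hγ]) hv2
    rw [Category.assoc h C.iP C.pw, C.iP_pw] at s1
    rw [Category.assoc] at s1
    exact s1.trans s2

theorem iP_ψ : C.iP ≫ C.ψ = C.ψ ≫ C.d.iW := by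
  apply C.d.ext
  · simp only [Category.assoc, C.ψ_ιR, C.ψ_ιR_assoc, RestrDataG.iW_ιR, C.iP_pv_assoc, C.iv_aV]
  · rw [Category.assoc, C.ψ_sW, C.iP_pw, Category.assoc, RestrDataG.iW_sW, C.ψ_tW]
  · rw [Category.assoc, C.ψ_tW, C.iP_τ, Category.assoc, RestrDataG.iW_tW, C.ψ_sW]

theorem iP_iP : C.iP ≫ C.iP = 𝟙 C.P := by
  apply pullback.hom_ext
  · rw [Category.assoc, C.iP_pw, C.iP_τ, Category.id_comp]
  · rw [Category.assoc, C.iP_pv, Category.id_comp]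
    apply D.V_ext
    · rw [Category.assoc, C.iv_aV, ← Category.assoc, ← Category.assoc, C.iP_pv, C.iv_aV,
        Category.assoc, i_i, Category.comp_id]
    · rw [Category.assoc, C.iv_pV, C.iP_μ, pullback.condition]

instance : IsIso C.iP := ⟨C.iP, C.iP_iP, C.iP_iP⟩

/-! ### composition -/

/-- composable pairs of `P` -/
noncomputable abbrev T₃ : Scheme.{u} := pullback (C.ψ ≫ C.d.restr.s) (C.ψ ≫ C.d.restr.t)

/-- the first (later) arrow -/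
noncomputable abbrev p₂ : C.T₃ ⟶ C.P := pullback.fst _ _

/-- the second (earlier) arrow -/
noncomputable abbrev p₁ : C.T₃ ⟶ C.P := pullback.snd _ _

theorem T₃_cond : C.p₂ ≫ C.pw = C.p₁ ≫ C.τ := by
  have h := pullback.condition (f := C.ψ ≫ C.d.restr.s) (g := C.ψ ≫ C.d.restr.t)
  have e1 : C.ψ ≫ C.d.restr.s = C.pw := C.ψ_sW
  have e2 : C.ψ ≫ C.d.restr.t = C.τ := C.ψ_tW
  calc C.p₂ ≫ C.pw = C.p₂ ≫ (C.ψ ≫ C.d.restr.s) := by rw [e1]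
    _ = C.p₁ ≫ (C.ψ ≫ C.d.restr.t) := h
    _ = C.p₁ ≫ C.τ := by rw [e2]

instance : IsAffine C.T₃ := by
  have : IsAffine C.d.restr.U := (inferInstance : IsAffine C.W)
  unfold T₃
  infer_instance

theorem T₃_cond' : (C.p₂ ≫ C.pv) ≫ D.pV = C.FW.ev (C.p₁ ≫ C.pw) (C.p₁ ≫ C.pv) := by
  rw [C.ev_P, ← C.P_cond, C.T₃_cond, Category.assoc, C.τ_x]

/-- the composite, as a point of `V` -/
noncomputable def b₃ : C.T₃ ⟶ D.V :=
  (C.q1 (C.p₁ ≫ C.pw) (C.p₁ ≫ C.pv) (C.p₂ ≫ C.pv) (C.P_cond _) C.T₃_cond').choose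

theorem b₃_aV : C.b₃ ≫ D.aV = tc G ((C.p₂ ≫ C.pv) ≫ D.aV) ((C.p₁ ≫ C.pv) ≫ D.aV) :=
  (C.q1 (C.p₁ ≫ C.pw) (C.p₁ ≫ C.pv) (C.p₂ ≫ C.pv) (C.P_cond _) C.T₃_cond').choose_spec.1

theorem b₃_pV : C.b₃ ≫ D.pV = (C.p₁ ≫ C.pv) ≫ D.pV :=
  (C.q1 (C.p₁ ≫ C.pw) (C.p₁ ≫ C.pv) (C.p₂ ≫ C.pv) (C.P_cond _) C.T₃_cond').choose_spec.2

/-- composition on `P` -/
noncomputable def cP : C.T₃ ⟶ C.P :=
  pullback.lift (C.p₁ ≫ C.pw) C.b₃ (by rw [C.b₃_pV, C.P_cond])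

@[reassoc (attr := simp)]
theorem cP_pw : C.cP ≫ C.pw = C.p₁ ≫ C.pw := pullback.lift_fst _ _ _

@[reassoc (attr := simp)]
theorem cP_pv : C.cP ≫ C.pv = C.b₃ := pullback.lift_snd _ _ _

theorem cP_μ : C.cP ≫ C.FW.μ = C.p₂ ≫ C.FW.μ := by
  have e1 := C.ev_P C.cP
  rw [C.cP_pw, C.cP_pv] at e1
  have e2 := C.ev_P C.p₂
  rw [C.T₃_cond] at e2
  rw [← e1, ← e2]
  have hv' : C.p₁ ≫ C.FW.μ = (C.p₂ ≫ C.pv) ≫ D.pV := by
    rw [← C.P_cond, C.T₃_cond, Category.assoc, C.τ_x]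
  exact (C.τ_ev C.p₁ (C.p₂ ≫ C.pv) C.b₃ hv' C.b₃_aV C.b₃_pV).symm

theorem cP_τ : C.cP ≫ C.τ = C.p₂ ≫ C.τ := by
  apply C.up_ext
  · rw [Category.assoc, C.τ_x, C.cP_μ, Category.assoc, C.τ_x]
  · intro T' h v hv
    have hv1 : (h ≫ C.cP) ≫ C.FW.μ = v ≫ D.pV := by
      rw [← hv, ← C.τ_x]
      simp only [Category.assoc]
    have hv2 : (h ≫ C.p₂) ≫ C.FW.μ = v ≫ D.pV := by
      rw [← hv1, Category.assoc, Category.assoc, C.cP_μ]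
    have hv3 : (h ≫ C.p₁) ≫ C.FW.μ = ((h ≫ C.p₂) ≫ C.pv) ≫ D.pV := by
      rw [← C.P_cond, Category.assoc h C.p₂ C.pw, C.T₃_cond, ← C.τ_x]
      simp only [Category.assoc]
    -- the arrows
    have hα := C.isArr_pv (h ≫ C.p₁)
    have hβ := C.isArr_over (h ≫ C.p₁) ((h ≫ C.p₂) ≫ C.pv) hv3
    have hβ' := C.isArr_pv (h ≫ C.p₂)
    have hγ := C.isArr_over (h ≫ C.p₂) v hv2
    have hβt : (((h ≫ C.p₂) ≫ C.pv) ≫ D.aV) ≫ G.t = ((h ≫ C.p₂) ≫ C.FW.μ) ≫ D.g₁ := hβ'.t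
    rw [hβt] at hβ
    -- `b₅ = v ∘ p₂`
    have e5 : v ≫ D.pV = C.FW.ev ((h ≫ C.p₂) ≫ C.pw) ((h ≫ C.p₂) ≫ C.pv) := by
      rw [C.ev_P, hv2]
    obtain ⟨b₅, hb₅, hb₅'⟩ := C.q1 ((h ≫ C.p₂) ≫ C.pw) ((h ≫ C.p₂) ≫ C.pv) v (C.P_cond _) e5
    -- `b₄ = v ∘ (p₂ ∘ p₁)`
    have e4a : ((h ≫ C.cP) ≫ C.pw) ≫ C.FW.x = ((h ≫ C.cP) ≫ C.pv) ≫ D.pV := C.P_cond _
    have e4 : v ≫ D.pV = C.FW.ev ((h ≫ C.cP) ≫ C.pw) ((h ≫ C.cP) ≫ C.pv) := by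
      rw [C.ev_P, hv1]
    obtain ⟨b₄, hb₄, hb₄'⟩ := C.q1 ((h ≫ C.cP) ≫ C.pw) ((h ≫ C.cP) ≫ C.pv) v e4a e4
    have ecP : ((h ≫ C.cP) ≫ C.pv) ≫ D.aV =
        tc G (((h ≫ C.p₂) ≫ C.pv) ≫ D.aV) (((h ≫ C.p₁) ≫ C.pv) ≫ D.aV) := by
      rw [Category.assoc h, C.cP_pv, Category.assoc, C.b₃_aV]
      have h1 := C.isArr_pv C.p₁
      have h2 := C.isArr_over C.p₁ (C.p₂ ≫ C.pv)
        (by rw [← C.P_cond, C.T₃_cond, Category.assoc, C.τ_x])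
      rw [pre_tc' h2 h1]
      simp only [Category.assoc]
    have s1 := C.τ_ev (h ≫ C.cP) v b₄ hv1 hb₄ hb₄'
    have s2 := C.τ_ev (h ≫ C.p₂) v b₅ hv2 hb₅ hb₅'
    have hb5μ : (h ≫ C.p₁) ≫ C.FW.μ = b₅ ≫ D.pV := by rw [hb₅', hv3]
    have s3 := C.τ_ev (h ≫ C.p₁) b₅ b₄ hb5μ
      (by rw [hb₄, ecP, hb₅, tc_assoc' hγ hβ hα])
      (by rw [hb₄', Category.assoc h, C.cP_pv, Category.assoc, C.b₃_pV]; simp only [Category.assoc])
    rw [Category.assoc h C.cP C.pw, C.cP_pw] at s1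
    rw [Category.assoc h C.p₂ C.pw, C.T₃_cond] at s2
    simp only [Category.assoc] at s1 s2 s3 ⊢
    rw [s1, s2, s3]

theorem cP_ψ : C.cP ≫ C.ψ = pullback.map (C.ψ ≫ C.d.restr.s) (C.ψ ≫ C.d.restr.t) C.d.restr.s
    C.d.restr.t C.ψ C.ψ (𝟙 C.d.restr.U) (Category.comp_id _) (Category.comp_id _) ≫ C.d.restr.c := by
  have hc : (C.p₂ ≫ C.ψ) ≫ C.d.sW = (C.p₁ ≫ C.ψ) ≫ C.d.tW := by
    rw [Category.assoc, Category.assoc, C.ψ_sW, C.ψ_tW, C.T₃_cond]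
  have e0 : pullback.map (C.ψ ≫ C.d.restr.s) (C.ψ ≫ C.d.restr.t) C.d.restr.s
      C.d.restr.t C.ψ C.ψ (𝟙 C.d.restr.U) (Category.comp_id _) (Category.comp_id _) ≫ C.d.restr.c =
      C.d.cmpW (C.p₂ ≫ C.ψ) (C.p₁ ≫ C.ψ) hc := by
    rw [← RestrDataG.lift_cW]
    rfl
  rw [e0]
  apply C.d.ext
  · rw [Category.assoc, C.ψ_ιR, C.cP_pv_assoc, C.b₃_aV, RestrDataG.cmpW_ιR]
    have h1 : (C.p₂ ≫ C.ψ) ≫ C.d.ιR = (C.p₂ ≫ C.pv) ≫ D.aV := by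
      rw [Category.assoc, C.ψ_ιR, Category.assoc]
    have h2 : (C.p₁ ≫ C.ψ) ≫ C.d.ιR = (C.p₁ ≫ C.pv) ≫ D.aV := by
      rw [Category.assoc, C.ψ_ιR, Category.assoc]
    rw [cmp_congr G _ h1 h2, ← tc_eq]
  · rw [Category.assoc, C.ψ_sW, C.cP_pw, RestrDataG.cmpW_sW, Category.assoc, C.ψ_sW]
  · rw [Category.assoc, C.ψ_tW, C.cP_τ, RestrDataG.cmpW_tW, Category.assoc, C.ψ_tW]

/-! ### finiteness -/

theorem finite_s [IsFinite D.pV] : IsFinite (C.ψ ≫ C.d.restr.s) := by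
  rw [RestrDataG.restr_s, C.ψ_sW]
  infer_instance

theorem finite_t [IsFinite D.pV] : IsFinite (C.ψ ≫ C.d.restr.t) := by
  rw [RestrDataG.restr_t, C.ψ_tW, ← C.iP_pw]
  infer_instance

end CoindData

end Groth.Agent.Lib.Helper4.Coind
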