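import Mathlib
import Groth.Prelude.Def_Grpd
import Groth.Agent.Lib.Helper4.Coind2

/-!
# Coinduction of a finite flat piece of a groupoid: `P ⟶ R|_W` is an open immersion (helper4)
-/

set_option backward.isDefEq.respectTransparency false
set_option autoImplicit false
set_option linter.style.haveILetI false
set_option linter.unusedSectionVars false

universe u
open CategoryTheory CategoryTheory.Limits AlgebraicGeometry

namespace Groth.Agent.Lib.Helper4.Coind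

open Groth.Agent.Lib.Helper4.GrpdTc Groth.Agent.Lib.Helper4.SubGrpd2
  Groth.Agent.Lib.Helper4.GrpdRestrGen Groth.Agent.S7457

variable {S : Scheme.{u}} {G : Grpd.GroupoidScheme S}

/-- the inclusion of `V` into `R ×_{s,U} U₁` -/
noncomputable def VData.ιV (D : VData G) : D.V ⟶ pullback G.s D.g₁ :=
  pullback.lift D.aV D.pV D.aV_s

@[reassoc (attr := simp)]
theorem VData.ιV_fst (D : VData G) : D.ιV ≫ pullback.fst G.s D.g₁ = D.aV := pullback.lift_fst _ _ _

@[reassoc (attr := simp)]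
theorem VData.ιV_snd (D : VData G) : D.ιV ≫ pullback.snd G.s D.g₁ = D.pV := pullback.lift_snd _ _ _

variable {D : VData G} (C : CoindData D)

namespace CoindData

/-- the target of an arrow of `P`, in `U` -/
noncomputable abbrev tP : C.P ⟶ G.U := C.pv ≫ D.aV ≫ G.t

/-- arrows of `R` lying in `V`, with a lift of the target to `W` -/
noncomputable abbrev R'' : Scheme.{u} := pullback C.g C.tP

theorem ψ''_aux : C.τ ≫ C.g = 𝟙 C.P ≫ C.tP := by
  rw [Category.id_comp]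
  show C.τ ≫ C.FW.x ≫ D.g₁ = _
  rw [← Category.assoc, C.τ_x, C.FW.hμ]

/-- `ψ` as a section of the étale morphism `R'' ⟶ P` -/
noncomputable def ψ'' : C.P ⟶ C.R'' := pullback.lift C.τ (𝟙 C.P) C.ψ''_aux

theorem ψ''_snd : C.ψ'' ≫ pullback.snd C.g C.tP = 𝟙 C.P := pullback.lift_snd _ _ _

theorem ψ''_fst : C.ψ'' ≫ pullback.fst C.g C.tP = C.τ := pullback.lift_fst _ _ _

theorem isOpenImmersion_ψ'' [Etale C.g] : IsOpenImmersion C.ψ'' := by
  have h1 : Etale (C.ψ'' ≫ pullback.snd C.g C.tP) := by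
    rw [C.ψ''_snd]
    infer_instance
  have h2 : Etale C.ψ'' :=
    MorphismProperty.of_postcomp (W := @Etale) (W' := @Etale) C.ψ'' (pullback.snd C.g C.tP)
      inferInstance h1
  have h3 : Mono C.ψ'' := by
    have : Mono (C.ψ'' ≫ pullback.snd C.g C.tP) := by
      rw [C.ψ''_snd]
      infer_instance
    exact mono_of_mono C.ψ'' (pullback.snd C.g C.tP)
  exact IsOpenImmersion.of_flat_of_mono C.ψ''

theorem j''_aux1 : (pullback.snd C.g C.tP ≫ C.pv ≫ D.aV) ≫ G.s =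
    (pullback.snd C.g C.tP ≫ C.pw) ≫ C.g := by
  show _ = (pullback.snd C.g C.tP ≫ C.pw) ≫ C.FW.x ≫ D.g₁
  simp only [Category.assoc, D.aV_s]
  rw [← pullback.condition_assoc]

theorem j''_aux2 : (pullback.snd C.g C.tP ≫ C.pv ≫ D.aV) ≫ G.t =
    pullback.fst C.g C.tP ≫ C.g := by
  show _ = pullback.fst C.g C.tP ≫ C.g
  rw [pullback.condition]
  simp only [Category.assoc]

/-- the inclusion `R'' ⟶ R|_W` -/
noncomputable def j'' : C.R'' ⟶ C.d.RW :=
  C.d.lift (pullback.snd C.g C.tP ≫ C.pv ≫ D.aV) (pullback.snd C.g C.tP ≫ C.pw)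
    (pullback.fst C.g C.tP) C.j''_aux1 C.j''_aux2

/-- `R|_W ⟶ R ×_{s,U} U₁` -/
noncomputable def ρ₁ : C.d.RW ⟶ pullback G.s D.g₁ :=
  pullback.lift C.d.ιR (C.d.sW ≫ C.FW.x) (by
    rw [C.d.ιR_s, Category.assoc])

@[reassoc (attr := simp)]
theorem j''_ιR : C.j'' ≫ C.d.ιR = pullback.snd C.g C.tP ≫ C.pv ≫ D.aV := C.d.lift_ιR _ _ _ _ _

@[reassoc (attr := simp)]
theorem j''_sW : C.j'' ≫ C.d.sW = pullback.snd C.g C.tP ≫ C.pw := C.d.lift_sW _ _ _ _ _

@[reassoc (attr := simp)]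
theorem j''_tW : C.j'' ≫ C.d.tW = pullback.fst C.g C.tP := C.d.lift_tW _ _ _ _ _

@[reassoc (attr := simp)]
theorem ρ₁_fst : C.ρ₁ ≫ pullback.fst G.s D.g₁ = C.d.ιR := pullback.lift_fst _ _ _

@[reassoc (attr := simp)]
theorem ρ₁_snd : C.ρ₁ ≫ pullback.snd G.s D.g₁ = C.d.sW ≫ C.FW.x := pullback.lift_snd _ _ _

theorem isPullback_j'' :
    IsPullback C.j'' (pullback.snd C.g C.tP ≫ C.pv) C.ρ₁ D.ιV := by
  have hw : C.j'' ≫ C.ρ₁ = (pullback.snd C.g C.tP ≫ C.pv) ≫ D.ιV := by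
    apply pullback.hom_ext
    · rw [Category.assoc, C.ρ₁_fst, C.j''_ιR, Category.assoc, D.ιV_fst, Category.assoc]
    · rw [Category.assoc, C.ρ₁_snd, C.j''_sW_assoc, Category.assoc, D.ιV_snd, Category.assoc,
        pullback.condition]
  have key1 : ∀ c : PullbackCone C.ρ₁ D.ιV, c.fst ≫ C.d.ιR = c.snd ≫ D.aV := by
    intro c
    have := c.condition =≫ pullback.fst _ _
    rw [Category.assoc, Category.assoc, C.ρ₁_fst, D.ιV_fst] at this
    exact this
  have key2 : ∀ c : PullbackCone C.ρ₁ D.ιV, (c.fst ≫ C.d.sW) ≫ C.FW.x = c.snd ≫ D.pV := by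
    intro c
    have := c.condition =≫ pullback.snd _ _
    rw [Category.assoc, Category.assoc, C.ρ₁_snd, D.ιV_snd] at this
    rw [Category.assoc]
    exact this
  have key3 : ∀ c : PullbackCone C.ρ₁ D.ιV, (c.fst ≫ C.d.tW) ≫ C.g =
      pullback.lift (c.fst ≫ C.d.sW) c.snd (key2 c) ≫ C.tP := by
    intro c
    calc (c.fst ≫ C.d.tW) ≫ C.g = c.fst ≫ (C.d.ιR ≫ G.t) := by rw [C.d.ιR_t, Category.assoc]
      _ = (c.snd ≫ D.aV) ≫ G.t := by rw [← Category.assoc, key1 c]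
      _ = _ := by rw [pullback.lift_snd_assoc, Category.assoc]
  refine ⟨⟨hw⟩, ⟨PullbackCone.IsLimit.mk _ (fun c => pullback.lift (c.fst ≫ C.d.tW)
    (pullback.lift (c.fst ≫ C.d.sW) c.snd (key2 c)) (key3 c)) ?_ ?_ ?_⟩⟩
  · intro c
    apply C.d.ext
    · rw [Category.assoc, C.j''_ιR, pullback.lift_snd_assoc, pullback.lift_snd_assoc, key1 c]
    · rw [Category.assoc, C.j''_sW, pullback.lift_snd_assoc, pullback.lift_fst]
    · rw [Category.assoc, C.j''_tW, pullback.lift_fst]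
  · intro c
    rw [pullback.lift_snd_assoc, pullback.lift_snd]
  · intro c m h1 h2
    apply pullback.hom_ext
    · rw [pullback.lift_fst, ← h1, Category.assoc m, C.j''_tW]
    · rw [pullback.lift_snd]
      apply pullback.hom_ext
      · rw [pullback.lift_fst, ← h1, Category.assoc m C.j'', C.j''_sW]
        simp only [Category.assoc]
      · rw [pullback.lift_snd, ← h2]
        simp only [Category.assoc]

theorem isOpenImmersion_j'' [IsOpenImmersion D.ιV] : IsOpenImmersion C.j'' :=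
  MorphismProperty.of_isPullback (P := @IsOpenImmersion) C.isPullback_j''.flip inferInstance

theorem ψ''_j'' : C.ψ'' ≫ C.j'' = C.ψ := by
  apply C.d.ext
  · rw [Category.assoc, C.j''_ιR, ← Category.assoc, C.ψ''_snd, Category.id_comp, C.ψ_ιR]
  · rw [Category.assoc, C.j''_sW, ← Category.assoc, C.ψ''_snd, Category.id_comp, C.ψ_sW]
  · rw [Category.assoc, C.j''_tW, C.ψ''_fst, C.ψ_tW]

/-- **`P` is an open subscheme of the arrows of the restriction.** -/
theorem isOpenImmersion_ψ [Etale C.g] [IsOpenImmersion D.ιV] : IsOpenImmersion C.ψ := by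
  have := C.isOpenImmersion_ψ''
  have := C.isOpenImmersion_j''
  rw [← C.ψ''_j'']
  infer_instance

/-- **The quasi-splitting.** -/
theorem main [Etale C.g] [IsOpenImmersion D.ιV] [IsFinite D.pV] :
    IsOpenImmersion C.ψ ∧
      (∃ eP : C.d.restr.U ⟶ C.P, eP ≫ C.ψ = C.d.restr.e) ∧
      (∃ iP : C.P ⟶ C.P, iP ≫ C.ψ = C.ψ ≫ C.d.restr.i) ∧
      (∃ cP : pullback (C.ψ ≫ C.d.restr.s) (C.ψ ≫ C.d.restr.t) ⟶ C.P,
        cP ≫ C.ψ = pullback.map (C.ψ ≫ C.d.restr.s) (C.ψ ≫ C.d.restr.t) C.d.restr.s C.d.restr.t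
          C.ψ C.ψ (𝟙 C.d.restr.U) (Category.comp_id _) (Category.comp_id _) ≫ C.d.restr.c) ∧
      IsFinite (C.ψ ≫ C.d.restr.s) ∧ IsFinite (C.ψ ≫ C.d.restr.t) :=
  ⟨C.isOpenImmersion_ψ, ⟨C.eP, C.eP_ψ⟩, ⟨C.iP, C.iP_ψ⟩, ⟨C.cP, C.cP_ψ⟩, C.finite_s, C.finite_t⟩

end CoindData

end Groth.Agent.Lib.Helper4.Coind
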