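import Mathlib
import Groth.Prelude.Def_Grpd
import Groth.Agent.Lib.Helper4.Coind3
import Groth.Agent.Lib.Helper4.BasePt1
import Groth.Agent.Lib.Helper4.BasePtLift
import Groth.Agent.Lib.Helper13.EL1

/-!
# The base point of the coinduction: the family over the residue field (helper4)
-/

set_option backward.isDefEq.respectTransparency false
set_option autoImplicit false
set_option linter.style.haveILetI false
set_option linter.unusedSectionVars false

universe u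
open CategoryTheory CategoryTheory.Limits AlgebraicGeometry IsLocalRing

namespace Groth.Agent.Lib.Helper4.Coind

open Groth.Agent.Lib.Helper4.GrpdTc Groth.Agent.Lib.Helper4.SubGrpd2
  Groth.Agent.Lib.Helper4.BasePt Groth.Agent.Lib.Helper4.BasePtLift Groth.Agent.Lib.helper13.EL

variable {S : Scheme.{u}} {G : Grpd.GroupoidScheme S}

theorem isNilpotent_nilradical_of_finite {K : Type u} [Field K] {Z : Scheme.{u}}
    (f : Z ⟶ Spec (.of K)) [IsFinite f] : IsNilpotent (nilradical Γ(Z, ⊤)) := by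
  have hfin : f.appTop.hom.Finite := f.finite_appTop
  letI := f.appTop.hom.toAlgebra
  have hA : IsArtinianRing Γ(Spec (.of K), ⊤) :=
    (Scheme.ΓSpecIso (.of K)).commRingCatIsoToRingEquiv.symm.isArtinianRing
  have hM : Module.Finite Γ(Spec (.of K), ⊤) Γ(Z, ⊤) := hfin
  have hB : IsArtinianRing Γ(Z, ⊤) := IsArtinianRing.of_finite Γ(Spec (.of K), ⊤) Γ(Z, ⊤)
  exact IsArtinianRing.isNilpotent_nilradical

/-- pointed data: a point `u₁` of `U₁` with trivial residue field extension over `U`, and a finite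
family of arrows `r i` describing the fibre of `V` over `u₁`. -/
structure PtData (D : VData G) where
  ι : Type
  r : ι → G.R
  u₁ : D.U₁
  hbij : Function.Bijective (D.g₁.residueFieldMap u₁)
  hV1 : ∀ v : D.V, D.pV v = u₁ → ∃ i, D.aV v = r i
  hV2 : ∀ z : ↥(pullback G.s D.g₁), pullback.snd G.s D.g₁ z = u₁ →
    (∃ i, pullback.fst G.s D.g₁ z = r i) → z ∈ Set.range D.ιV
  ht : ∀ i, G.t (r i) = D.g₁ u₁
  hi : ∀ i, ∃ j, G.i (r i) = r j
  hc : ∀ {T' : Scheme.{u}} (α β : T' ⟶ G.R), α ≫ G.s = β ≫ G.t → ∀ t' : T',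
    (∃ j, α t' = r j) → (∃ i, β t' = r i) → ∃ k, (tc G α β) t' = r k

namespace PtData

variable {D : VData G} (E : PtData D)

/-- the residue field at the base point -/
abbrev K : Type u := D.U₁.residueField E.u₁

/-- the base point as a `K`-point -/
noncomputable def x₀ : Spec (.of E.K) ⟶ D.U₁ := D.U₁.fromSpecResidueField E.u₁

theorem x₀_apply (p : Spec (.of E.K)) : E.x₀ p = E.u₁ :=
  Scheme.fromSpecResidueField_apply _ _

/-- the fibre of `V` over the base point -/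
noncomputable abbrev Vt : Scheme.{u} := pullback E.x₀ D.pV

/-- the target map on the fibre -/
noncomputable abbrev k₀ : E.Vt ⟶ G.U := pullback.snd E.x₀ D.pV ≫ D.aV ≫ G.t

theorem snd_apply (z : E.Vt) : D.pV (pullback.snd E.x₀ D.pV z) = E.u₁ := by
  rw [← Scheme.Hom.comp_apply, ← pullback.condition, Scheme.Hom.comp_apply, x₀_apply]

theorem k₀_apply (z : E.Vt) : E.k₀ z = D.g₁ E.u₁ := by
  obtain ⟨i, hi⟩ := E.hV1 _ (E.snd_apply z)
  show (pullback.snd E.x₀ D.pV ≫ D.aV ≫ G.t) z = _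
  rw [Scheme.Hom.comp_apply, Scheme.Hom.comp_apply, hi, E.ht]

variable [IsFinite D.pV] [Etale D.g₁] [IsAffine G.U]

theorem exists_μ₀ : ∃ m : E.Vt ⟶ D.U₁, m ≫ D.g₁ = E.k₀ ∧ ∀ z : E.Vt, m z = E.u₁ :=
  exists_pointLift D.g₁ E.u₁ E.hbij
    (isNilpotent_nilradical_of_finite (pullback.fst E.x₀ D.pV)) E.k₀ E.k₀_apply

/-- the lift of the target map on the fibre -/
noncomputable def μ₀ : E.Vt ⟶ D.U₁ := E.exists_μ₀.choose

theorem μ₀_g₁ : E.μ₀ ≫ D.g₁ = E.k₀ := E.exists_μ₀.choose_spec.1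

theorem μ₀_apply (z : E.Vt) : E.μ₀ z = E.u₁ := E.exists_μ₀.choose_spec.2 z

/-- the family over the base point -/
noncomputable def F₀ : Fam D (Spec (.of E.K)) where
  x := E.x₀
  μ := E.μ₀
  hμ := E.μ₀_g₁

theorem F₀_ev_apply {T' : Scheme.{u}} (h : T' ⟶ Spec (.of E.K)) (v : T' ⟶ D.V) (t' : T') :
    (E.F₀.ev h v) t' = E.u₁ := by
  by_cases hv : h ≫ E.F₀.x = v ≫ D.pV
  · rw [E.F₀.ev_eq h v hv, Scheme.Hom.comp_apply]
    exact E.μ₀_apply _
  · unfold Fam.ev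
    rw [dif_neg hv, Scheme.Hom.comp_apply]
    exact E.x₀_apply _

omit [IsFinite D.pV] [IsAffine G.U] in
/-- two lifts through `g₁` of the same map which are both constant at `u₁` agree -/
theorem eqLift {T : Scheme.{u}} (m m' : T ⟶ D.U₁) (h : m ≫ D.g₁ = m' ≫ D.g₁)
    (hm : ∀ t, m t = E.u₁) (hm' : ∀ t, m' t = E.u₁) : m = m' := by
  let l : T ⟶ pullback D.g₁ D.g₁ := pullback.lift m m' h
  have hl1 : l ≫ pullback.fst D.g₁ D.g₁ = m := pullback.lift_fst _ _ _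
  have hl2 : l ≫ pullback.snd D.g₁ D.g₁ = m' := pullback.lift_snd _ _ _
  have hrange : Set.range l ⊆ Set.range (pullback.diagonal D.g₁) := by
    rintro _ ⟨t, rfl⟩
    refine ⟨E.u₁, ?_⟩
    have e1 : pullback.fst D.g₁ D.g₁ (pullback.diagonal D.g₁ E.u₁) = E.u₁ := by
      rw [← Scheme.Hom.comp_apply, pullback.diagonal_fst]; rfl
    have e2 : pullback.snd D.g₁ D.g₁ (pullback.diagonal D.g₁ E.u₁) = E.u₁ := by
      rw [← Scheme.Hom.comp_apply, pullback.diagonal_snd]; rfl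
    have e3 : pullback.fst D.g₁ D.g₁ (l t) = E.u₁ := by
      rw [← Scheme.Hom.comp_apply, hl1, hm]
    have e4 : pullback.snd D.g₁ D.g₁ (l t) = E.u₁ := by
      rw [← Scheme.Hom.comp_apply, hl2, hm']
    apply eq_of_fst_eq_of_snd_eq
    · exact bijective_residueFieldMap_of_eq D.g₁ e2.symm E.hbij
    · rw [e1, e3]
    · rw [e2, e4]
  have hfac := IsOpenImmersion.lift_fac (pullback.diagonal D.g₁) l hrange
  rw [← hl1, ← hl2, ← hfac, Category.assoc, Category.assoc, pullback.diagonal_fst,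
    pullback.diagonal_snd]

omit [IsFinite D.pV] [Etale D.g₁] [IsAffine G.U] in
theorem pV_apply_of {T' : Scheme.{u}} (v : T' ⟶ D.V) (m : T' ⟶ D.U₁) (hv : v ≫ D.pV = m)
    (hm : ∀ t, m t = E.u₁) (t' : T') : ∃ i, (v ≫ D.aV) t' = E.r i := by
  have : D.pV (v t') = E.u₁ := by rw [← Scheme.Hom.comp_apply, hv, hm]
  obtain ⟨i, hi⟩ := E.hV1 _ this
  exact ⟨i, by rw [Scheme.Hom.comp_apply, hi]⟩

omit [IsFinite D.pV] [Etale D.g₁] [IsAffine G.U] in
/-- construct a point of `V` from an arrow pointwise in the family -/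
theorem exists_lift_V [IsOpenImmersion D.ιV] {T' : Scheme.{u}} (γ : T' ⟶ G.R) (m : T' ⟶ D.U₁)
    (h : γ ≫ G.s = m ≫ D.g₁) (hm : ∀ t, m t = E.u₁) (hγ : ∀ t, ∃ i, γ t = E.r i) :
    ∃ b : T' ⟶ D.V, b ≫ D.aV = γ ∧ b ≫ D.pV = m := by
  let z : T' ⟶ pullback G.s D.g₁ := pullback.lift γ m h
  have hz1 : z ≫ pullback.fst G.s D.g₁ = γ := pullback.lift_fst _ _ _
  have hz2 : z ≫ pullback.snd G.s D.g₁ = m := pullback.lift_snd _ _ _
  have hrange : Set.range z ⊆ Set.range D.ιV := by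
    rintro _ ⟨t, rfl⟩
    apply E.hV2
    · rw [← Scheme.Hom.comp_apply, hz2, hm]
    · obtain ⟨i, hi⟩ := hγ t
      exact ⟨i, by rw [← Scheme.Hom.comp_apply, hz1, hi]⟩
  have hfac := IsOpenImmersion.lift_fac D.ιV z hrange
  refine ⟨IsOpenImmersion.lift D.ιV z hrange, ?_, ?_⟩
  · rw [← D.ιV_fst, ← Category.assoc, hfac, hz1]
  · rw [← D.ιV_snd, ← Category.assoc, hfac, hz2]

variable [IsOpenImmersion D.ιV]

theorem F₀_q1 : E.F₀.Q1 := by
  intro T' h v v' hv hv'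
  have hcomp : (v' ≫ D.aV) ≫ G.s = (v ≫ D.aV) ≫ G.t := by
    rw [Category.assoc, D.aV_s, ← Category.assoc, hv', E.F₀.ev_g₁ h v hv]
  have hx : ∀ t, (v ≫ D.pV) t = E.u₁ := by
    intro t
    rw [← hv, Scheme.Hom.comp_apply]
    exact E.x₀_apply _
  apply E.exists_lift_V (tc G (v' ≫ D.aV) (v ≫ D.aV)) (v ≫ D.pV)
  · rw [tc_s G _ _ hcomp, Category.assoc, D.aV_s, Category.assoc]
  · exact hx
  · intro t
    apply E.hc _ _ hcomp t
    · exact E.pV_apply_of v' _ hv' (E.F₀_ev_apply h v) t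
    · exact E.pV_apply_of v _ rfl hx t

theorem F₀_q2 : E.F₀.Q2 := by
  intro T' h v b hv hb
  have hx : ∀ t, (v ≫ D.pV) t = E.u₁ := by
    intro t
    rw [← hv, Scheme.Hom.comp_apply]
    exact E.x₀_apply _
  have hcomp : (b ≫ D.aV) ≫ G.s = ((v ≫ D.aV) ≫ G.i) ≫ G.t := by
    rw [Category.assoc, D.aV_s, ← Category.assoc, hb, Category.assoc (v ≫ D.aV), G.i_t]
    simp only [Category.assoc, D.aV_s]
  apply E.exists_lift_V (tc G (b ≫ D.aV) ((v ≫ D.aV) ≫ G.i)) (E.F₀.ev h v)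
  · rw [tc_s G _ _ hcomp, Category.assoc (v ≫ D.aV), G.i_s, E.F₀.ev_g₁ h v hv]
  · exact E.F₀_ev_apply h v
  · intro t
    apply E.hc _ _ hcomp t
    · exact E.pV_apply_of b _ hb hx t
    · obtain ⟨i, hi⟩ := E.pV_apply_of v _ rfl hx t
      obtain ⟨j, hj⟩ := E.hi i
      exact ⟨j, by rw [Scheme.Hom.comp_apply, hi, hj]⟩

theorem F₀_nrm : E.F₀.Nrm := by
  show E.F₀.ev (𝟙 _) (E.F₀.x ≫ D.e₁) = E.F₀.x
  have h1 : (𝟙 _) ≫ E.F₀.x = (E.F₀.x ≫ D.e₁) ≫ D.pV := by
    rw [Category.id_comp, Category.assoc, D.e₁_pV, Category.comp_id]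
  apply E.eqLift
  · rw [E.F₀.ev_g₁ _ _ h1, Category.assoc, Category.assoc, D.e₁_aV_assoc, G.e_t, Category.comp_id]
  · exact E.F₀_ev_apply _ _
  · exact E.x₀_apply

end PtData

end Groth.Agent.Lib.Helper4.Coind
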