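import Mathlib
import Groth.Prelude.Def_Grpd
import Groth.Agent.Lib.Helper4.BasePt2

/-!
# The base point of the coinduction: the point `w₀` and the fibre of `P` over it (helper4)
-/

set_option backward.isDefEq.respectTransparency false
set_option autoImplicit false
set_option linter.style.haveILetI false
set_option linter.unusedSectionVars false

universe u
open CategoryTheory CategoryTheory.Limits AlgebraicGeometry IsLocalRing

namespace Groth.Agent.Lib.Helper4.Coind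

open Groth.Agent.Lib.Helper4.GrpdTc Groth.Agent.Lib.Helper4.SubGrpd2
  Groth.Agent.Lib.Helper4.BasePt Groth.Agent.Lib.Helper4.BasePtLift Groth.Agent.Lib.helper13.EL
  Groth.Agent.Lib.Helper4.GrpdRestrGen

variable {S : Scheme.{u}} {G : Grpd.GroupoidScheme S} {D : VData G} (E : PtData D)
  (C : CoindData D) [IsFinite D.pV] [Etale D.g₁] [IsAffine G.U] [IsOpenImmersion D.ιV]

namespace PtData

theorem exists_ω₀ : ∃ f : Spec (.of E.K) ⟶ C.W, f ≫ C.FW.x = E.F₀.x ∧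
    ∀ {T' : Scheme.{u}} (h : T' ⟶ Spec (.of E.K)) (v : T' ⟶ D.V),
      h ≫ E.F₀.x = v ≫ D.pV → C.FW.ev (h ≫ f) v = E.F₀.ev h v :=
  C.up_exists E.F₀ E.F₀_q1 E.F₀_q2 E.F₀_nrm

/-- the base point as a `K`-point of `W` -/
noncomputable def ω₀ : Spec (.of E.K) ⟶ C.W := (E.exists_ω₀ C).choose

theorem ω₀_x : E.ω₀ C ≫ C.FW.x = E.x₀ := (E.exists_ω₀ C).choose_spec.1

theorem ω₀_ev {T' : Scheme.{u}} (h : T' ⟶ Spec (.of E.K)) (v : T' ⟶ D.V)
    (hv : h ≫ E.x₀ = v ≫ D.pV) : C.FW.ev (h ≫ E.ω₀ C) v = E.F₀.ev h v :=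
  (E.exists_ω₀ C).choose_spec.2 h v hv

/-- the base point of `W` -/
noncomputable def w₀ : C.W := E.ω₀ C (closedPoint E.K)

theorem ω₀_aux : E.ω₀ C ≫ C.FW.x =
    Spec.map (Iso.refl (D.U₁.residueField E.u₁)).hom ≫ D.U₁.fromSpecResidueField E.u₁ := by
  rw [E.ω₀_x]
  show _ = Spec.map (𝟙 _) ≫ _
  rw [Spec.map_id, Category.id_comp]
  rfl

theorem x_w₀ : C.FW.x (E.w₀ C) = E.u₁ :=
  (isIso_desc_of_comp (K := E.K) (E.ω₀ C) C.FW.x E.u₁ (Iso.refl _) (E.ω₀_aux C)).1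

instance isIso_dsc_ω₀ : IsIso (dsc (K := E.K) (E.ω₀ C)) :=
  (isIso_desc_of_comp (K := E.K) (E.ω₀ C) C.FW.x E.u₁ (Iso.refl _) (E.ω₀_aux C)).2.1

theorem bijective_x_w₀ : Function.Bijective (C.FW.x.residueFieldMap (E.w₀ C)) :=
  (isIso_desc_of_comp (K := E.K) (E.ω₀ C) C.FW.x E.u₁ (Iso.refl _) (E.ω₀_aux C)).2.2

theorem g_w₀ : C.g (E.w₀ C) = D.g₁ E.u₁ := by
  show (C.FW.x ≫ D.g₁) (E.w₀ C) = _
  rw [Scheme.Hom.comp_apply, E.x_w₀]

theorem isIso_g_w₀ : IsIso (C.g.residueFieldMap (E.w₀ C)) := by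
  show IsIso ((C.FW.x ≫ D.g₁).residueFieldMap (E.w₀ C))
  rw [Scheme.residueFieldMap_comp]
  have i1 : IsIso (C.FW.x.residueFieldMap (E.w₀ C)) :=
    (ConcreteCategory.isIso_iff_bijective _).mpr (E.bijective_x_w₀ C)
  have i2 : IsIso (D.g₁.residueFieldMap (C.FW.x (E.w₀ C))) :=
    (ConcreteCategory.isIso_iff_bijective _).mpr
      (bijective_residueFieldMap_of_eq D.g₁ (E.x_w₀ C).symm E.hbij)
  infer_instance

/-- every field valued point of `W` at `w₀` factors through `ω₀` -/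
theorem exists_factor_ω₀ {L : Type u} [Field L] (f : Spec (.of L) ⟶ C.W)
    (hf : f (closedPoint L) = E.w₀ C) : ∃ f' : Spec (.of L) ⟶ Spec (.of E.K), f' ≫ E.ω₀ C = f :=
  exists_factor (K := E.K) (E.ω₀ C) f hf

/-- the values of the universal family over `ω₀` are constant at `u₁` -/
theorem ev_ω₀_apply {T' : Scheme.{u}} (h : T' ⟶ Spec (.of E.K)) (v : T' ⟶ D.V)
    (hv : (h ≫ E.ω₀ C) ≫ C.FW.x = v ≫ D.pV) (t' : T') : (C.FW.ev (h ≫ E.ω₀ C) v) t' = E.u₁ := by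
  have hv' : h ≫ E.x₀ = v ≫ D.pV := by rw [← hv, Category.assoc, E.ω₀_x]
  rw [E.ω₀_ev C h v hv']
  exact E.F₀_ev_apply h v t'

/-- **Containment**: every arrow of the restriction from `w₀` to `w₀` lying over one of the `r i`
belongs to `P`. -/
theorem mem_range_ψ (r' : C.d.RW) (hs : C.d.sW r' = E.w₀ C) (ht : C.d.tW r' = E.w₀ C)
    (hr : ∃ i, C.d.ιR r' = E.r i) : r' ∈ Set.range C.ψ := by
  let L : Type u := C.d.RW.residueField r'
  let ρ : Spec (.of L) ⟶ C.d.RW := C.d.RW.fromSpecResidueField r'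
  have hρ : ∀ p, ρ p = r' := fun p => Scheme.fromSpecResidueField_apply _ _
  -- the source and the target factor through `ω₀`
  obtain ⟨fs, hfs⟩ := E.exists_factor_ω₀ C (ρ ≫ C.d.sW) (by
    rw [Scheme.Hom.comp_apply, hρ, hs])
  obtain ⟨ft, hft⟩ := E.exists_factor_ω₀ C (ρ ≫ C.d.tW) (by
    rw [Scheme.Hom.comp_apply, hρ, ht])
  have hxs : ∀ t, ((ρ ≫ C.d.sW) ≫ C.FW.x) t = E.u₁ := by
    intro t
    rw [← hfs, Category.assoc, E.ω₀_x, Scheme.Hom.comp_apply]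
    exact E.x₀_apply _
  have hxt : ∀ t, ((ρ ≫ C.d.tW) ≫ C.FW.x) t = E.u₁ := by
    intro t
    rw [← hft, Category.assoc, E.ω₀_x, Scheme.Hom.comp_apply]
    exact E.x₀_apply _
  -- the point of `V`
  obtain ⟨v, hv1, hv2⟩ := E.exists_lift_V (ρ ≫ C.d.ιR) ((ρ ≫ C.d.sW) ≫ C.FW.x)
    (by rw [Category.assoc, C.d.ιR_s]; simp only [Category.assoc]) hxs (by
      intro t
      obtain ⟨i, hi⟩ := hr
      exact ⟨i, by rw [Scheme.Hom.comp_apply, hρ, hi]⟩)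
  let p : Spec (.of L) ⟶ C.P := pullback.lift (ρ ≫ C.d.sW) v hv2.symm
  have hp1 : p ≫ C.pw = ρ ≫ C.d.sW := pullback.lift_fst _ _ _
  have hp2 : p ≫ C.pv = v := pullback.lift_snd _ _ _
  -- the value of `μ` at `p`
  have hμp : p ≫ C.FW.μ = C.FW.ev (fs ≫ E.ω₀ C) v := by
    rw [← C.ev_P p, hp1, hp2, hfs]
  have hμ_apply : ∀ t, (p ≫ C.FW.μ) t = E.u₁ := by
    intro t
    rw [hμp]
    exact E.ev_ω₀_apply C fs v (by rw [hfs, hv2]) t
  -- (a)
  have ha : (p ≫ C.τ) ≫ C.FW.x = (ρ ≫ C.d.tW) ≫ C.FW.x := by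
    rw [Category.assoc, C.τ_x]
    apply E.eqLift _ _ _ hμ_apply hxt
    rw [Category.assoc, C.FW.hμ, ← Category.assoc, hp2, ← Category.assoc, hv1, Category.assoc ρ,
      C.d.ιR_t]
    simp only [Category.assoc]
  -- (b)
  have hb : p ≫ C.τ = ρ ≫ C.d.tW := by
    apply C.up_ext
    · exact ha
    · intro T' h v₁ hv₁
      have hv₁' : (h ≫ p) ≫ C.FW.μ = v₁ ≫ D.pV := by
        rw [← hv₁, ← C.τ_x]
        simp only [Category.assoc]
      have e0 : v₁ ≫ D.pV = C.FW.ev ((h ≫ p) ≫ C.pw) ((h ≫ p) ≫ C.pv) := by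
        rw [C.ev_P, hv₁']
      obtain ⟨b, hb1, hb2⟩ := C.q1 ((h ≫ p) ≫ C.pw) ((h ≫ p) ≫ C.pv) v₁ (C.P_cond _) e0
      have h1 := C.τ_ev (h ≫ p) v₁ b hv₁' hb1 hb2
      rw [Category.assoc] at h1
      rw [h1]
      have hwb : ((h ≫ p) ≫ C.pw) ≫ C.FW.x = b ≫ D.pV := by rw [hb2, C.P_cond]
      have hwv : (h ≫ ρ ≫ C.d.tW) ≫ C.FW.x = v₁ ≫ D.pV := by
        rw [← hv₁, Category.assoc h, Category.assoc h, ha]
      have e1 : (h ≫ p) ≫ C.pw = (h ≫ fs) ≫ E.ω₀ C := by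
        rw [Category.assoc, hp1, Category.assoc, hfs]
      have e2 : h ≫ ρ ≫ C.d.tW = (h ≫ ft) ≫ E.ω₀ C := by
        rw [Category.assoc, hft]
      apply E.eqLift
      · rw [C.FW.ev_g₁ _ _ hwb, C.FW.ev_g₁ _ _ hwv, hb1]
        have hα := C.isArr_pv (h ≫ p)
        have hβ := C.isArr_over (h ≫ p) v₁ hv₁'
        exact (hβ.tc hα).t
      · intro t
        have := E.ev_ω₀_apply C (h ≫ fs) b (by rw [← e1]; exact hwb) t
        rw [← e1] at this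
        exact this
      · intro t
        have := E.ev_ω₀_apply C (h ≫ ft) v₁ (by rw [← e2]; exact hwv) t
        rw [← e2] at this
        exact this
  have hfin : p ≫ C.ψ = ρ := by
    apply C.d.ext
    · rw [Category.assoc, C.ψ_ιR, ← Category.assoc, hp2, hv1]
    · rw [Category.assoc, C.ψ_sW, hp1]
    · rw [Category.assoc, C.ψ_tW, hb]
  refine ⟨p (closedPoint L), ?_⟩
  rw [← Scheme.Hom.comp_apply, hfin, hρ]

end PtData

end Groth.Agent.Lib.Helper4.Coind
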