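import Mathlib

/-!
# The locus of points whose whole fibre lies in a given set (helper4)

For `π : 𝒴 ⟶ 𝒯` and `N ⊆ 𝒴`, `locus π N` is the set of `t ∈ 𝒯` with `π⁻¹(t) ⊆ N`.  It is open when
`π` is closed and `N` open, closed when `π` is open and `N` closed; a morphism `f : T ⟶ 𝒯` lands in
it iff the base change `T ×_𝒯 𝒴 ⟶ 𝒴` lands in `N`.
-/

set_option autoImplicit false

universe u

open CategoryTheory CategoryTheory.Limits AlgebraicGeometry

namespace Groth.Agent.Lib.Helper4.ClopenLocus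

variable {𝒴 𝒯 : Scheme.{u}} (π : 𝒴 ⟶ 𝒯)

/-- the points of `𝒯` whose fibre lies in `N` -/
def locus (N : Set 𝒴) : Set 𝒯 := (π '' Nᶜ)ᶜ

theorem mem_locus_iff (N : Set 𝒴) (t : 𝒯) : t ∈ locus π N ↔ ∀ y : 𝒴, π y = t → y ∈ N := by
  unfold locus
  rw [Set.mem_compl_iff, Set.mem_image]
  constructor
  · intro h y hy
    by_contra hn
    exact h ⟨y, hn, hy⟩
  · rintro h ⟨y, hn, hy⟩
    exact hn (h y hy)

theorem isOpen_locus [IsFinite π] {N : Set 𝒴} (hN : IsOpen N) : IsOpen (locus π N) := by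
  unfold locus
  rw [isOpen_compl_iff]
  exact π.isClosedMap _ hN.isClosed_compl

theorem isClosed_locus [UniversallyOpen π] {N : Set 𝒴} (hN : IsClosed N) :
    IsClosed (locus π N) := by
  unfold locus
  rw [isClosed_compl_iff]
  exact π.isOpenMap _ hN.isOpen_compl

theorem range_subset_locus_iff {T : Scheme.{u}} (f : T ⟶ 𝒯) (N : Set 𝒴) :
    Set.range f ⊆ locus π N ↔ ∀ z : ↑(pullback f π), pullback.snd f π z ∈ N := by
  constructor
  · intro h z
    have h1 : f (pullback.fst f π z) ∈ locus π N := h ⟨_, rfl⟩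
    rw [mem_locus_iff] at h1
    apply h1
    rw [← Scheme.Hom.comp_apply, ← pullback.condition, Scheme.Hom.comp_apply]
  · rintro h _ ⟨t, rfl⟩
    rw [mem_locus_iff]
    intro y hy
    obtain ⟨z, hz1, hz2⟩ := Scheme.Pullback.exists_preimage_pullback t y hy.symm
    rw [← hz2]
    exact h z

end Groth.Agent.Lib.Helper4.ClopenLocus
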