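import Mathlib

/-!
# Weil restriction along a finite free algebra: the ring-level construction (helper4)

`A` a commutative ring, `C` an `A`-algebra which is free with finite basis `b : Basis ι A C`, and `D`
a `C`-algebra presented as `MvPolynomial J C / (rel k, k ∈ K)`.  We construct an `A`-algebra
`W = A[x_{j,i}] / (coordinates of rel k (∑ x_{j,i} ⊗ b i))` together with a ring map
`φu : D → W ⊗[A] C` over `C` which is universal: for every `A`-algebra `T`, composition with `φu`
identifies `A`-algebra maps `W → T` with ring maps `D → T ⊗[A] C` over `C`.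
-/

set_option autoImplicit false
set_option linter.unusedSectionVars false

universe u v

open TensorProduct

namespace Groth.Agent.Lib.Helper4.WeilResAlg

variable {A : Type u} {C : Type u} [CommRing A] [CommRing C] [Algebra A C]
variable {ι : Type} [Fintype ι] (b : Module.Basis ι A C)

section coords

variable (T : Type v) [CommRing T] [Algebra A T]

/-- the `T`-basis `1 ⊗ b i` of `T ⊗[A] C` -/
noncomputable def bT : Module.Basis ι T (T ⊗[A] C) := Algebra.TensorProduct.basis T b

@[simp]
theorem bT_apply (i : ι) : bT b T i = (1 : T) ⊗ₜ[A] b i := by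
  simp [bT, Algebra.TensorProduct.basis_apply]

/-- the element `∑ i, g i ⊗ b i` -/
noncomputable def comb {T : Type v} [CommRing T] [Algebra A T] (g : ι → T) : T ⊗[A] C :=
  ∑ i, g i ⊗ₜ[A] b i

theorem comb_eq {T : Type v} [CommRing T] [Algebra A T] (g : ι → T) :
    comb b g = ∑ i, g i • bT b T i := by
  unfold comb
  refine Finset.sum_congr rfl fun i _ => ?_
  rw [bT_apply, TensorProduct.smul_tmul', smul_eq_mul, mul_one]

theorem coord_comb {T : Type v} [CommRing T] [Algebra A T] (g : ι → T) (i : ι) :
    (bT b T).repr (comb b g) i = g i := by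
  rw [comb_eq, Module.Basis.repr_sum_self]

theorem comb_coord {T : Type v} [CommRing T] [Algebra A T] (z : T ⊗[A] C) :
    comb b (fun i => (bT b T).repr z i) = z := by
  rw [comb_eq]
  exact (bT b T).sum_repr z

theorem comb_injective {T : Type v} [CommRing T] [Algebra A T] {g g' : ι → T}
    (h : comb b g = comb b g') : g = g' := by
  funext i
  rw [← coord_comb b g i, ← coord_comb b g' i, h]

end coords

section nat

variable {T : Type v} {T' : Type v} [CommRing T] [Algebra A T] [CommRing T'] [Algebra A T']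
  (h : T →ₐ[A] T')

/-- base change of an algebra map -/
noncomputable def bc : T ⊗[A] C →ₐ[A] T' ⊗[A] C := Algebra.TensorProduct.map h (AlgHom.id A C)

@[simp]
theorem bc_tmul (t : T) (c : C) : bc h (t ⊗ₜ[A] c) = h t ⊗ₜ[A] c := by
  simp [bc]

theorem bc_comb (g : ι → T) : bc h (comb b g) = comb b (fun i => h (g i)) := by
  unfold comb
  rw [map_sum]
  refine Finset.sum_congr rfl fun i _ => ?_
  rw [bc_tmul]

theorem coord_bc (z : T ⊗[A] C) (i : ι) :
    (bT b T').repr (bc h z) i = h ((bT b T).repr z i) := by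
  conv_lhs => rw [← comb_coord b z, bc_comb, coord_comb]

theorem bc_eq_zero_iff (z : T ⊗[A] C) : bc h z = 0 ↔ ∀ i, h ((bT b T).repr z i) = 0 := by
  constructor
  · intro hz i
    rw [← coord_bc, hz]
    simp
  · intro hz
    rw [← comb_coord b (bc h z)]
    have : (fun i => (bT b T').repr (bc h z) i) = fun _ => 0 := by
      funext i
      rw [coord_bc, hz]
    rw [this]
    simp [comb]

end nat

section construction

variable {D : Type u} [CommRing D] [Algebra C D]
variable {J K : Type u} (π : MvPolynomial J C →ₐ[C] D) (hπ : Function.Surjective π)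
  (rel : K → MvPolynomial J C) (hrel : Ideal.span (Set.range rel) = RingHom.ker π)

/-- evaluation of polynomials over `C` at a tuple of elements of `T ⊗[A] C` -/
noncomputable def evC {T : Type v} [CommRing T] [Algebra A T] (y : J → T ⊗[A] C) :
    MvPolynomial J C →+* T ⊗[A] C :=
  MvPolynomial.eval₂Hom (Algebra.TensorProduct.includeRight : C →ₐ[A] T ⊗[A] C).toRingHom y

@[simp]
theorem evC_C {T : Type v} [CommRing T] [Algebra A T] (y : J → T ⊗[A] C) (c : C) :
    evC y (MvPolynomial.C c) = (1 : T) ⊗ₜ[A] c := by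
  simp [evC]

@[simp]
theorem evC_X {T : Type v} [CommRing T] [Algebra A T] (y : J → T ⊗[A] C) (j : J) :
    evC y (MvPolynomial.X j) = y j := by
  simp [evC]

theorem bc_comp_evC {T T' : Type v} [CommRing T] [Algebra A T] [CommRing T'] [Algebra A T']
    (h : T →ₐ[A] T') (y : J → T ⊗[A] C) :
    (bc h).toRingHom.comp (evC y) = evC (fun j => bc h (y j)) := by
  apply MvPolynomial.ringHom_ext
  · intro c
    simp
  · intro j
    simp

/-- the polynomial ring in the coordinates -/
abbrev M (A : Type u) [CommRing A] (ι : Type) (J : Type u) : Type u := MvPolynomial (J × ι) A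

/-- the tuple attached to a family of coordinates -/
noncomputable def yOf {T : Type v} [CommRing T] [Algebra A T] (g : J × ι → T) : J → T ⊗[A] C :=
  fun j => comb b (fun i => g (j, i))

theorem bc_yOf {T T' : Type v} [CommRing T] [Algebra A T] [CommRing T'] [Algebra A T']
    (h : T →ₐ[A] T') (g : J × ι → T) (j : J) : bc h (yOf b g j) = yOf b (fun p => h (g p)) j := by
  unfold yOf
  rw [bc_comb]

/-- the universal evaluation -/
noncomputable def ψ : MvPolynomial J C →+* M A ι J ⊗[A] C :=
  evC (yOf b (fun p => (MvPolynomial.X p : M A ι J)))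

/-- the ideal of relations -/
noncomputable def I : Ideal (M A ι J) :=
  Ideal.span {m | ∃ (k : K) (i : ι), m = (bT b (M A ι J)).repr (ψ b (rel k)) i}

/-- the Weil restriction algebra -/
abbrev W : Type u := M A ι J ⧸ I b rel

theorem aeval_bc_ψ {T : Type u} [CommRing T] [Algebra A T] (g : J × ι → T) :
    (bc (MvPolynomial.aeval g : M A ι J →ₐ[A] T)).toRingHom.comp (ψ b) = evC (yOf b g) := by
  unfold ψ
  rw [bc_comp_evC]
  congr 1
  funext j
  rw [bc_yOf]
  congr 1
  funext p
  simp

theorem aeval_mem_iff {T : Type u} [CommRing T] [Algebra A T] (g : J × ι → T) :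
    I b rel ≤ RingHom.ker (MvPolynomial.aeval g : M A ι J →ₐ[A] T) ↔
      ∀ k, evC (yOf b g) (rel k) = 0 := by
  constructor
  · intro h k
    rw [← aeval_bc_ψ b g]
    show bc _ (ψ b (rel k)) = 0
    rw [bc_eq_zero_iff b]
    intro i
    exact h (Ideal.subset_span ⟨k, i, rfl⟩)
  · intro h
    unfold I
    rw [Ideal.span_le]
    rintro _ ⟨k, i, rfl⟩
    have := h k
    rw [← aeval_bc_ψ b g] at this
    exact (bc_eq_zero_iff b _ _).mp this i

include hrel in
theorem ker_le_of_rel {T : Type v} [CommRing T] [Algebra A T] (y : J → T ⊗[A] C)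
    (hy : ∀ k, evC y (rel k) = 0) : RingHom.ker π.toRingHom ≤ RingHom.ker (evC y) := by
  have : RingHom.ker π.toRingHom = Ideal.span (Set.range rel) := hrel.symm
  rw [this, Ideal.span_le]
  rintro _ ⟨k, rfl⟩
  exact hy k

/-- the ring map `D → T ⊗ C` attached to a tuple satisfying the relations -/
noncomputable def liftD {T : Type v} [CommRing T] [Algebra A T] (y : J → T ⊗[A] C)
    (hy : ∀ k, evC y (rel k) = 0) : D →+* T ⊗[A] C :=
  RingHom.liftOfSurjective π.toRingHom hπ ⟨evC y, ker_le_of_rel π rel hrel y hy⟩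

theorem liftD_π {T : Type v} [CommRing T] [Algebra A T] (y : J → T ⊗[A] C)
    (hy : ∀ k, evC y (rel k) = 0) (p : MvPolynomial J C) :
    liftD π hπ rel hrel y hy (π p) = evC y p :=
  RingHom.liftOfRightInverse_comp_apply _ _ _ _ p

theorem liftD_algebraMap {T : Type v} [CommRing T] [Algebra A T] (y : J → T ⊗[A] C)
    (hy : ∀ k, evC y (rel k) = 0) (c : C) :
    liftD π hπ rel hrel y hy (algebraMap C D c) = (1 : T) ⊗ₜ[A] c := by
  have : algebraMap C D c = π (MvPolynomial.C c) := by
    rw [← MvPolynomial.algebraMap_eq, AlgHom.commutes]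
  rw [this, liftD_π, evC_C]

/-- the quotient map -/
noncomputable abbrev mkW : M A ι J →ₐ[A] W b rel := Ideal.Quotient.mkₐ A (I b rel)

theorem mkW_eq_aeval :
    (mkW b rel : M A ι J →ₐ[A] W b rel) =
      MvPolynomial.aeval (fun p => mkW b rel (MvPolynomial.X p)) := by
  apply MvPolynomial.algHom_ext
  intro p
  simp

theorem univ_rel (k : K) :
    evC (yOf b (fun p => mkW b rel (MvPolynomial.X p : M A ι J))) (rel k) = 0 := by
  have h := (aeval_mem_iff b rel (T := W b rel) (fun p => mkW b rel (MvPolynomial.X p))).mp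
  refine h ?_ k
  rw [← mkW_eq_aeval]
  intro x hx
  rw [RingHom.mem_ker]
  exact (Ideal.Quotient.eq_zero_iff_mem).mpr hx

/-- the universal ring map `D → W ⊗ C` -/
noncomputable def φu : D →+* W b rel ⊗[A] C :=
  liftD π hπ rel hrel (yOf b (fun p => mkW b rel (MvPolynomial.X p : M A ι J))) (univ_rel b rel)

theorem φu_algebraMap (c : C) : φu b π hπ rel hrel (algebraMap C D c) = (1 : W b rel) ⊗ₜ[A] c :=
  liftD_algebraMap π hπ rel hrel _ _ c

theorem φu_π (p : MvPolynomial J C) :
    φu b π hπ rel hrel (π p) =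
      evC (yOf b (fun p => mkW b rel (MvPolynomial.X p : M A ι J))) p :=
  liftD_π π hπ rel hrel _ _ p

section up

variable {T : Type u} [CommRing T] [Algebra A T] (φ : D →+* T ⊗[A] C)
  (hφ : ∀ c : C, φ (algebraMap C D c) = (1 : T) ⊗ₜ[A] c)

/-- the coordinates of the images of the generators -/
noncomputable def coordsOf : J × ι → T :=
  fun p => (bT b T).repr (φ (π (MvPolynomial.X p.1))) p.2

theorem yOf_coordsOf (j : J) : yOf b (coordsOf b π φ) j = φ (π (MvPolynomial.X j)) := by
  show comb b (fun i => (bT b T).repr (φ (π (MvPolynomial.X j))) i) = _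
  exact comb_coord b (φ (π (MvPolynomial.X j)))

include hφ in
theorem evC_coordsOf : evC (yOf b (coordsOf b π φ)) = φ.comp π.toRingHom := by
  apply MvPolynomial.ringHom_ext
  · intro c
    rw [evC_C]
    show _ = φ (π (MvPolynomial.C c))
    rw [← MvPolynomial.algebraMap_eq, AlgHom.commutes, hφ]
  · intro j
    rw [evC_X, yOf_coordsOf]
    rfl

include hφ hrel in
theorem ker_coordsOf :
    I b rel ≤ RingHom.ker (MvPolynomial.aeval (coordsOf b π φ) : M A ι J →ₐ[A] T) := by
  rw [aeval_mem_iff]
  intro k
  rw [evC_coordsOf b π φ hφ]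
  show φ (π (rel k)) = 0
  have : rel k ∈ RingHom.ker π := by
    rw [← hrel]
    exact Ideal.subset_span ⟨k, rfl⟩
  rw [(RingHom.mem_ker).mp this, map_zero]

/-- the algebra map attached to `φ` -/
noncomputable def homOf : W b rel →ₐ[A] T :=
  Ideal.Quotient.liftₐ (I b rel) (MvPolynomial.aeval (coordsOf b π φ))
    (fun _ hx => (RingHom.mem_ker).mp (ker_coordsOf b π rel hrel φ hφ hx))

theorem homOf_mk (p : J × ι) :
    homOf b π rel hrel φ hφ (mkW b rel (MvPolynomial.X p)) = coordsOf b π φ p := by
  have h : (homOf b π rel hrel φ hφ).comp (mkW b rel) = MvPolynomial.aeval (coordsOf b π φ) :=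
    Ideal.Quotient.liftₐ_comp _ _ _
  have h2 := congrArg (fun f => f (MvPolynomial.X p)) h
  simp only [AlgHom.comp_apply, MvPolynomial.aeval_X] at h2
  exact h2

theorem bc_φu_π (g' : W b rel →ₐ[A] T) (p : MvPolynomial J C) :
    bc g' (φu b π hπ rel hrel (π p)) =
      evC (yOf b (fun q => g' (mkW b rel (MvPolynomial.X q)))) p := by
  rw [φu_π]
  have := bc_comp_evC g' (yOf b (fun p => mkW b rel (MvPolynomial.X p : M A ι J)))
  have h2 := congrArg (fun f => f p) this
  simp only [RingHom.comp_apply] at h2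
  refine h2.trans ?_
  congr 2
  funext j
  rw [bc_yOf]

theorem bc_homOf (d : D) :
    bc (homOf b π rel hrel φ hφ) (φu b π hπ rel hrel d) = φ d := by
  obtain ⟨p, rfl⟩ := hπ d
  rw [bc_φu_π]
  have h2 : (fun q => homOf b π rel hrel φ hφ (mkW b rel (MvPolynomial.X q))) =
      coordsOf b π φ := funext (homOf_mk b π rel hrel φ hφ)
  rw [h2, evC_coordsOf b π φ hφ]
  rfl

include hφ in
/-- **Universal property of the Weil restriction algebra.** -/
theorem existsUnique_of_hom :
    ∃! g : W b rel →ₐ[A] T, ∀ d, bc g (φu b π hπ rel hrel d) = φ d := by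
  refine ⟨homOf b π rel hrel φ hφ, bc_homOf b π hπ rel hrel φ hφ, ?_⟩
  intro g' hg'
  apply Ideal.Quotient.algHom_ext
  apply MvPolynomial.algHom_ext
  intro p
  show g' (mkW b rel (MvPolynomial.X p)) = homOf b π rel hrel φ hφ (mkW b rel (MvPolynomial.X p))
  rw [homOf_mk]
  have h1 := bc_φu_π b π hπ rel hrel g' (MvPolynomial.X p.1)
  rw [hg', evC_X] at h1
  unfold coordsOf
  rw [h1]
  unfold yOf
  rw [coord_comb]

end up

end construction

end Groth.Agent.Lib.Helper4.WeilResAlg
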