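import Mathlib
import Groth.Agent.Lib.Helper4.WeilResAlg

/-!
# The Weil restriction algebra of an étale algebra is étale (helper4)
-/

set_option autoImplicit false
set_option linter.unusedSectionVars false

universe u

open TensorProduct

namespace Groth.Agent.Lib.Helper4.WeilResAlg

variable {A : Type u} {C : Type u} [CommRing A] [CommRing C] [Algebra A C]
variable {ι : Type} [Fintype ι] (b : Module.Basis ι A C)
variable {D : Type u} [CommRing D] [Algebra C D]
variable {J K : Type u} (π : MvPolynomial J C →ₐ[C] D) (hπ : Function.Surjective π)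
  (rel : K → MvPolynomial J C) (hrel : Ideal.span (Set.range rel) = RingHom.ker π)

theorem finitePresentation [Finite J] [Finite K] : Algebra.FinitePresentation A (W b rel) := by
  apply Algebra.FinitePresentation.quotient
  unfold I
  have : {m | ∃ (k : K) (i : ι), m = (bT b (M A ι J)).repr (ψ b (rel k)) i} =
      Set.range (fun p : K × ι => (bT b (M A ι J)).repr (ψ b (rel p.1)) p.2) := by
    ext m
    constructor
    · rintro ⟨k, i, rfl⟩
      exact ⟨(k, i), rfl⟩
    · rintro ⟨⟨k, i⟩, rfl⟩
      exact ⟨k, i, rfl⟩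
  rw [this]
  exact Submodule.fg_span (Set.finite_range _)

section fe

variable {B' : Type u} [CommRing B'] [Algebra A B'] (N : Ideal B') (hN : N ^ 2 = ⊥)

variable (A C) in
/-- the base change of the quotient map -/
noncomputable abbrev qN : B' ⊗[A] C →ₐ[A] (B' ⧸ N) ⊗[A] C := bc (Ideal.Quotient.mkₐ A N)

theorem qN_surjective : Function.Surjective (qN A C N) :=
  Algebra.TensorProduct.map_surjective _ _ (Ideal.Quotient.mkₐ_surjective A N)
    Function.surjective_id

include hN in
theorem ker_qN_sq : RingHom.ker (qN A C N) ^ 2 = ⊥ := by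
  have h1 : RingHom.ker (qN A C N) =
      (RingHom.ker (Ideal.Quotient.mkₐ A N)).map
        (Algebra.TensorProduct.includeLeft : B' →ₐ[A] B' ⊗[A] C) :=
    Algebra.TensorProduct.rTensor_ker (R := A) (S := A) (C := C) (Ideal.Quotient.mkₐ A N)
      (Ideal.Quotient.mkₐ_surjective A N)
  rw [h1, ← Ideal.map_pow]
  have h2 : RingHom.ker (Ideal.Quotient.mkₐ A N) = N := Ideal.Quotient.mkₐ_ker A N
  rw [h2, hN, Ideal.map_bot]

end fe

section fe2

attribute [local instance] Algebra.TensorProduct.rightAlgebra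

theorem bc_comp {T T' T'' : Type u} [CommRing T] [Algebra A T] [CommRing T'] [Algebra A T']
    [CommRing T''] [Algebra A T''] (f : T →ₐ[A] T') (g : T' →ₐ[A] T'') (x : T ⊗[A] C) :
    bc (g.comp f) x = bc g (bc f x) := by
  induction x using TensorProduct.induction_on with
  | zero => simp
  | tmul t c => simp
  | add x y hx hy => rw [map_add, map_add, map_add, hx, hy]

/-- a ring map over `C` as a `C`-algebra map -/
noncomputable def toCAlg {T : Type u} [CommRing T] [Algebra A T] (φ : D →+* T ⊗[A] C)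
    (hφ : ∀ c : C, φ (algebraMap C D c) = (1 : T) ⊗ₜ[A] c) : D →ₐ[C] T ⊗[A] C :=
  { φ with
    commutes' := fun c => by
      show φ (algebraMap C D c) = algebraMap C (T ⊗[A] C) c
      rw [hφ, Algebra.TensorProduct.right_algebraMap_apply] }

theorem toCAlg_apply {T : Type u} [CommRing T] [Algebra A T] (φ : D →+* T ⊗[A] C)
    (hφ : ∀ c : C, φ (algebraMap C D c) = (1 : T) ⊗ₜ[A] c) (d : D) : toCAlg φ hφ d = φ d := rfl

theorem commutes_right {T : Type u} [CommRing T] [Algebra A T] (φ : D →ₐ[C] T ⊗[A] C) (c : C) :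
    φ.toRingHom (algebraMap C D c) = (1 : T) ⊗ₜ[A] c := by
  show φ (algebraMap C D c) = _
  rw [AlgHom.commutes, Algebra.TensorProduct.right_algebraMap_apply]

/-- the composite `bc g ∘ φu` as a `C`-algebra map -/
noncomputable def φOf {T : Type u} [CommRing T] [Algebra A T] (g : W b rel →ₐ[A] T) :
    D →ₐ[C] T ⊗[A] C :=
  toCAlg ((bc g).toRingHom.comp (φu b π hπ rel hrel)) (fun c => by
    show bc g (φu b π hπ rel hrel (algebraMap C D c)) = _
    rw [φu_algebraMap, bc_tmul, map_one])

theorem φOf_apply {T : Type u} [CommRing T] [Algebra A T] (g : W b rel →ₐ[A] T) (d : D) :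
    φOf b π hπ rel hrel g d = bc g (φu b π hπ rel hrel d) := rfl

variable {B' : Type u} [CommRing B'] [Algebra A B'] (N : Ideal B') (hN : N ^ 2 = ⊥)

/-- `qN` as a `C`-algebra map -/
noncomputable def qNC : B' ⊗[A] C →ₐ[C] (B' ⧸ N) ⊗[A] C :=
  { (qN A C N).toRingHom with
    commutes' := fun c => by
      show qN A C N (algebraMap C (B' ⊗[A] C) c) = algebraMap C ((B' ⧸ N) ⊗[A] C) c
      rw [Algebra.TensorProduct.right_algebraMap_apply,
        Algebra.TensorProduct.right_algebraMap_apply, bc_tmul, map_one] }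

theorem qNC_apply (x : B' ⊗[A] C) : qNC (A := A) (C := C) N x = qN A C N x := rfl

include hN in
theorem isNilpotent_ker_qNC :
    IsNilpotent (RingHom.ker (qNC (A := A) (C := C) N : B' ⊗[A] C →+* (B' ⧸ N) ⊗[A] C)) := by
  refine ⟨2, ?_⟩
  have := ker_qN_sq (A := A) (C := C) N hN
  rw [Ideal.zero_eq_bot, ← this]
  rfl

theorem qNC_surjective : Function.Surjective (qNC (A := A) (C := C) N) := by
  intro x
  obtain ⟨y, hy⟩ := qN_surjective (A := A) (C := C) N x
  exact ⟨y, hy⟩

include hN in
theorem exists_lift_C [Algebra.FormallyEtale C D] (φbar : D →ₐ[C] (B' ⧸ N) ⊗[A] C) :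
    ∃ φ : D →ₐ[C] B' ⊗[A] C, ∀ d, qN A C N (φ d) = φbar d := by
  have hs := qNC_surjective (A := A) (C := C) N
  have hn := isNilpotent_ker_qNC (A := A) (C := C) N hN
  have : Algebra.FormallySmooth C D := inferInstance
  refine ⟨Algebra.FormallySmooth.liftOfSurjective φbar (qNC (A := A) (C := C) N) hs hn,
    fun d => ?_⟩
  rw [← qNC_apply]
  exact Algebra.FormallySmooth.liftOfSurjective_apply φbar (qNC (A := A) (C := C) N) hs hn d

include hN in
theorem eq_of_qN_eq [Algebra.FormallyEtale C D] (φ₁ φ₂ : D →ₐ[C] B' ⊗[A] C)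
    (h : ∀ d, qN A C N (φ₁ d) = qN A C N (φ₂ d)) : φ₁ = φ₂ := by
  have hn := isNilpotent_ker_qNC (A := A) (C := C) N hN
  have : Algebra.FormallyUnramified C D := inferInstance
  refine Algebra.FormallyUnramified.ext'
    (qNC (A := A) (C := C) N : B' ⊗[A] C →+* (B' ⧸ N) ⊗[A] C) hn φ₁ φ₂ (fun d => ?_)
  exact h d

include π hπ hrel in
theorem formallyEtale [Algebra.FormallyEtale C D] : Algebra.FormallyEtale A (W b rel) := by
  rw [Algebra.FormallyEtale.iff_comp_bijective]
  intro B' _ _ N hN
  constructor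
  · intro g₁ g₂ h
    have h' : (Ideal.Quotient.mkₐ A N).comp g₁ = (Ideal.Quotient.mkₐ A N).comp g₂ := h
    have h1 : φOf b π hπ rel hrel g₁ = φOf b π hπ rel hrel g₂ := by
      apply eq_of_qN_eq N hN
      intro d
      rw [φOf_apply, φOf_apply, ← bc_comp, ← bc_comp, h']
    obtain ⟨g, -, hu⟩ := existsUnique_of_hom b π hπ rel hrel
      (φOf b π hπ rel hrel g₁).toRingHom (commutes_right _)
    have e1 : g₁ = g := hu g₁ (fun d => (φOf_apply b π hπ rel hrel g₁ d).symm)
    have e2 : g₂ = g := hu g₂ (fun d => by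
      rw [← φOf_apply b π hπ rel hrel g₂ d, ← h1]
      rfl)
    rw [e1, e2]
  · intro gbar
    obtain ⟨φ, hφ⟩ := exists_lift_C N hN (φOf b π hπ rel hrel gbar)
    obtain ⟨g, hg, -⟩ := existsUnique_of_hom b π hπ rel hrel φ.toRingHom (commutes_right _)
    refine ⟨g, ?_⟩
    obtain ⟨g', -, hu⟩ := existsUnique_of_hom b π hπ rel hrel
      (φOf b π hπ rel hrel gbar).toRingHom (commutes_right _)
    have e1 : (Ideal.Quotient.mkₐ A N).comp g = g' := by
      apply hu
      intro d
      rw [bc_comp, hg d]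
      exact hφ d
    have e2 : gbar = g' := hu gbar (fun d => (φOf_apply b π hπ rel hrel gbar d).symm)
    show (Ideal.Quotient.mkₐ A N).comp g = gbar
    rw [e1, e2]

include π hπ hrel in
theorem etale [Finite J] [Finite K] [Algebra.FormallyEtale C D] : Algebra.Etale A (W b rel) :=
  { formallyEtale := formallyEtale b π hπ rel hrel
    finitePresentation := finitePresentation b rel }

end fe2

end Groth.Agent.Lib.Helper4.WeilResAlg
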