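import Mathlib
import Groth.Agent.Lib.Helper4.WeilResEtale

/-!
# Weil restriction along a finite free morphism of affine schemes: `Spec` level (helper4)
-/

set_option autoImplicit false
set_option linter.unusedSectionVars false
set_option linter.style.haveILetI false

universe u

open TensorProduct CategoryTheory CategoryTheory.Limits AlgebraicGeometry CommRingCat

namespace Groth.Agent.Lib.Helper4.WeilResSpec

open Groth.Agent.Lib.Helper4.WeilResAlg

variable {A : Type u} {C : Type u} [CommRing A] [CommRing C] [Algebra A C]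
variable {ι : Type} [Fintype ι] (b : Module.Basis ι A C)
variable {D : Type u} [CommRing D] [Algebra C D]
variable {J K : Type u} (π : MvPolynomial J C →ₐ[C] D) (hπ : Function.Surjective π)
  (rel : K → MvPolynomial J C) (hrel : Ideal.span (Set.range rel) = RingHom.ker π)

/-- `Spec A` -/
noncomputable abbrev sB (A : Type u) [CommRing A] : Scheme.{u} := Spec (.of A)

/-- the structure map `Spec T ⟶ Spec A` of an `A`-algebra -/
noncomputable abbrev sMap (A T : Type u) [CommRing A] [CommRing T] [Algebra A T] :
    Spec (.of T) ⟶ Spec (.of A) := Spec.map (ofHom (algebraMap A T))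

/-- the pullback `Spec T ×_{Spec A} Spec C` as the spectrum of `T ⊗ C` -/
noncomputable abbrev pIso (T : Type u) [CommRing T] [Algebra A T] :
    pullback (sMap A T) (sMap A C) ≅ Spec (.of (T ⊗[A] C)) := pullbackSpecIso A T C

theorem sMap_comp {T T' : Type u} [CommRing T] [Algebra A T] [CommRing T'] [Algebra A T']
    (g : T →ₐ[A] T') : Spec.map (ofHom g.toRingHom) ≫ sMap A T = sMap A T' := by
  unfold sMap
  rw [← Spec.map_comp]
  have : ofHom (algebraMap A T) ≫ ofHom g.toRingHom = ofHom (algebraMap A T') := by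
    ext a
    exact g.commutes a
  rw [this]

/-- the ring map `c ↦ 1 ⊗ c` -/
noncomputable abbrev incR (T : Type u) [CommRing T] [Algebra A T] : C →+* T ⊗[A] C :=
  RingHomClass.toRingHom (Algebra.TensorProduct.includeRight : C →ₐ[A] T ⊗[A] C)

/-- the ring map `t ↦ t ⊗ 1` -/
noncomputable abbrev incL (T : Type u) [CommRing T] [Algebra A T] : T →+* T ⊗[A] C :=
  Algebra.TensorProduct.includeLeftRingHom

theorem pIso_hom_snd (T : Type u) [CommRing T] [Algebra A T] :
    (pIso (A := A) (C := C) T).hom ≫ Spec.map (ofHom (incR (A := A) (C := C) T)) =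
      pullback.snd _ _ := pullbackSpecIso_hom_snd A T C

theorem pIso_hom_fst (T : Type u) [CommRing T] [Algebra A T] :
    (pIso (A := A) (C := C) T).hom ≫ Spec.map (ofHom (incL (A := A) (C := C) T)) =
      pullback.fst _ _ := pullbackSpecIso_hom_fst A T C

theorem pIso_inv_snd (T : Type u) [CommRing T] [Algebra A T] :
    (pIso (A := A) (C := C) T).inv ≫ pullback.snd _ _ =
      Spec.map (ofHom (incR (A := A) (C := C) T)) := pullbackSpecIso_inv_snd A T C

theorem pIso_inv_fst (T : Type u) [CommRing T] [Algebra A T] :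
    (pIso (A := A) (C := C) T).inv ≫ pullback.fst _ _ =
      Spec.map (ofHom (incL (A := A) (C := C) T)) := pullbackSpecIso_inv_fst A T C

/-- the universal evaluation morphism -/
noncomputable def ev : pullback (sMap A (W b rel)) (sMap A C) ⟶ Spec (.of D) :=
  (pIso (A := A) (C := C) (W b rel)).hom ≫ Spec.map (ofHom (φu b π hπ rel hrel))

theorem ev_q : ev b π hπ rel hrel ≫ sMap C D = pullback.snd _ _ := by
  unfold ev
  rw [Category.assoc, ← Spec.map_comp]
  have : ofHom (algebraMap C D) ≫ ofHom (φu b π hπ rel hrel) =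
      ofHom (incR (A := A) (C := C) (W b rel)) := by
    ext c
    exact φu_algebraMap b π hπ rel hrel c
  rw [this]
  exact pIso_hom_snd _

/-- base change of an `A`-algebra map, on spectra, is the map of pullbacks -/
theorem map_pIso {T T' : Type u} [CommRing T] [Algebra A T] [CommRing T'] [Algebra A T']
    (g : T →ₐ[A] T') :
    pullback.map (sMap A T') (sMap A C) (sMap A T) (sMap A C) (Spec.map (ofHom g.toRingHom))
      (𝟙 _) (𝟙 _) (by rw [Category.comp_id, sMap_comp]) (by simp) ≫
        (pIso (A := A) (C := C) T).hom =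
      (pIso (A := A) (C := C) T').hom ≫ Spec.map (ofHom (bc (C := C) g).toRingHom) := by
  rw [← cancel_mono (pIso (A := A) (C := C) T).inv, Category.assoc, Iso.hom_inv_id,
    Category.comp_id, Category.assoc]
  apply pullback.hom_ext
  · rw [pullback.lift_fst, Category.assoc, Category.assoc, pIso_inv_fst, ← Spec.map_comp]
    have : ofHom (incL (A := A) (C := C) T) ≫ ofHom (bc (C := C) g).toRingHom =
        ofHom g.toRingHom ≫ ofHom (incL (A := A) (C := C) T') := by
      ext t
      show bc g (t ⊗ₜ[A] (1 : C)) = g t ⊗ₜ[A] (1 : C)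
      rw [bc_tmul]
    rw [this, Spec.map_comp, ← Category.assoc, pIso_hom_fst]
  · rw [pullback.lift_snd, Category.assoc, Category.assoc, pIso_inv_snd, ← Spec.map_comp,
      Category.comp_id]
    have : ofHom (incR (A := A) (C := C) T) ≫ ofHom (bc (C := C) g).toRingHom =
        ofHom (incR (A := A) (C := C) T') := by
      ext c
      show bc g ((1 : T) ⊗ₜ[A] c) = (1 : T') ⊗ₜ[A] c
      rw [bc_tmul, map_one]
    rw [this]
    exact (pIso_hom_snd _).symm


section up

variable (T : Type u) [CommRing T] [Algebra A T]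

/-- the map of pullbacks induced by an `A`-algebra map `W → T` -/
noncomputable abbrev pMap (g : W b rel →ₐ[A] T) :
    pullback (sMap A T) (sMap A C) ⟶ pullback (sMap A (W b rel)) (sMap A C) :=
  pullback.map (sMap A T) (sMap A C) (sMap A (W b rel)) (sMap A C) (Spec.map (ofHom g.toRingHom))
    (𝟙 _) (𝟙 _) (by rw [Category.comp_id, sMap_comp]) (by simp)

theorem pMap_ev_iff (g : W b rel →ₐ[A] T) (φ : D →+* T ⊗[A] C) :
    pMap b rel T g ≫ ev b π hπ rel hrel = (pIso (A := A) (C := C) T).hom ≫ Spec.map (ofHom φ) ↔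
      ∀ d, bc (C := C) g (φu b π hπ rel hrel d) = φ d := by
  unfold ev pMap
  rw [← Category.assoc, map_pIso, Category.assoc, ← Spec.map_comp, cancel_epi]
  constructor
  · intro h d
    have h2 := Spec.map_injective h
    have h3 := congrArg (fun f => f.hom d) h2
    exact h3
  · intro h
    congr 1
    ext d
    exact h d

/-- **Universal property, `Spec` level, test object `Spec T`.** -/
theorem up_spec (σ : pullback (sMap A T) (sMap A C) ⟶ Spec (.of D))
    (hσ : σ ≫ sMap C D = pullback.snd _ _) :
    ∃! g : W b rel →ₐ[A] T, pMap b rel T g ≫ ev b π hπ rel hrel = σ := by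
  obtain ⟨φ', hφ'⟩ := Spec.map_surjective ((pIso (A := A) (C := C) T).inv ≫ σ)
  have hσ' : σ = (pIso (A := A) (C := C) T).hom ≫ Spec.map (ofHom φ'.hom) := by
    rw [show ofHom φ'.hom = φ' from rfl, hφ', Iso.hom_inv_id_assoc]
  have hφ : ∀ c, φ'.hom (algebraMap C D c) = (1 : T) ⊗ₜ[A] c := by
    intro c
    have h1 : Spec.map (ofHom (algebraMap C D) ≫ φ') =
        Spec.map (ofHom (incR (A := A) (C := C) T)) := by
      rw [Spec.map_comp, hφ', Category.assoc, hσ, pIso_inv_snd]
    have h2 := Spec.map_injective h1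
    exact congrArg (fun f => f.hom c) h2
  obtain ⟨g, hg, hu⟩ := existsUnique_of_hom b π hπ rel hrel φ'.hom hφ
  refine ⟨g, ?_, ?_⟩
  · show pMap b rel T g ≫ ev b π hπ rel hrel = σ
    rw [hσ']
    exact (pMap_ev_iff b π hπ rel hrel T g φ'.hom).mpr hg
  · intro g' hg'
    apply hu
    apply (pMap_ev_iff b π hπ rel hrel T g' φ'.hom).mp
    rw [← hσ']
    exact hg'

end up

end Groth.Agent.Lib.Helper4.WeilResSpec
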