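import Mathlib
import Groth.Agent.Lib.Helper4.WeilResSpec

/-!
# Weil restriction along a finite free morphism of affine schemes: universal property (helper4)

`WeilRes p q` packages a scheme `W ⟶ B` representing, on affine test schemes `T ⟶ B`, the sections
of `q : Y ⟶ Z` over `T ×_B Z` (for `p : Z ⟶ B`).  `ofAlg` constructs it for `B = Spec A`,
`Z = Spec C`, `Y = Spec D` with `C` finite free over `A`.
-/

set_option autoImplicit false
set_option linter.unusedSectionVars false
set_option linter.style.haveILetI false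

universe u

open TensorProduct CategoryTheory CategoryTheory.Limits AlgebraicGeometry CommRingCat

namespace Groth.Agent.Lib.Helper4.WeilResSpec

open Groth.Agent.Lib.Helper4.WeilResAlg

/-- A Weil restriction of `q : Y ⟶ Z` along `p : Z ⟶ B`, tested on affine schemes. -/
structure WeilRes {B Z Y : Scheme.{u}} (p : Z ⟶ B) (q : Y ⟶ Z) where
  /-- the representing scheme -/
  W : Scheme.{u}
  pW : W ⟶ B
  /-- the universal section -/
  ev : pullback pW p ⟶ Y
  ev_q : ev ≫ q = pullback.snd pW p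
  exists_lift : ∀ {T : Scheme.{u}} [IsAffine T] (x : T ⟶ B) (σ : pullback x p ⟶ Y),
    σ ≫ q = pullback.snd x p → ∃ f : T ⟶ W, f ≫ pW = x ∧
      ∀ {T' : Scheme.{u}} (h : T' ⟶ T) (a : T' ⟶ Z) (hha : h ≫ x = a ≫ p)
        (hfa : (h ≫ f) ≫ pW = a ≫ p),
        pullback.lift (h ≫ f) a hfa ≫ ev = pullback.lift h a hha ≫ σ
  hom_ext : ∀ {T : Scheme.{u}} [IsAffine T] (f f' : T ⟶ W), f ≫ pW = f' ≫ pW →
    (∀ {T' : Scheme.{u}} (h : T' ⟶ T) (a : T' ⟶ Z) (h1 : (h ≫ f) ≫ pW = a ≫ p)
      (h2 : (h ≫ f') ≫ pW = a ≫ p),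
      pullback.lift (h ≫ f) a h1 ≫ ev = pullback.lift (h ≫ f') a h2 ≫ ev) → f = f'

variable {A : Type u} {C : Type u} [CommRing A] [CommRing C] [Algebra A C]
variable {ι : Type} [Fintype ι] (b : Module.Basis ι A C)
variable {D : Type u} [CommRing D] [Algebra C D]
variable {J K : Type u} (π : MvPolynomial J C →ₐ[C] D) (hπ : Function.Surjective π)
  (rel : K → MvPolynomial J C) (hrel : Ideal.span (Set.range rel) = RingHom.ker π)

/-- existence, test object `Spec T₀` -/
theorem exists_lift_spec (T₀ : Type u) [CommRing T₀] (x : Spec (.of T₀) ⟶ Spec (.of A))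
    (σ : pullback x (sMap A C) ⟶ Spec (.of D)) (hσ : σ ≫ sMap C D = pullback.snd _ _) :
    ∃ (f : Spec (.of T₀) ⟶ Spec (.of (W b rel))) (hf : f ≫ sMap A (W b rel) = x),
      pullback.map x (sMap A C) (sMap A (W b rel)) (sMap A C) f (𝟙 _) (𝟙 _)
        (by rw [Category.comp_id, hf]) (by simp) ≫ ev b π hπ rel hrel = σ := by
  obtain ⟨ψ, rfl⟩ := Spec.map_surjective x
  letI : Algebra A T₀ := ψ.hom.toAlgebra
  obtain ⟨g, hg, -⟩ := up_spec b π hπ rel hrel T₀ σ hσ
  exact ⟨Spec.map (ofHom g.toRingHom), sMap_comp g, hg⟩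

/-- uniqueness, test object `Spec T₀` -/
theorem hom_ext_spec (T₀ : Type u) [CommRing T₀] (x : Spec (.of T₀) ⟶ Spec (.of A))
    (f f' : Spec (.of T₀) ⟶ Spec (.of (W b rel)))
    (hf : f ≫ sMap A (W b rel) = x) (hf' : f' ≫ sMap A (W b rel) = x)
    (h : pullback.map x (sMap A C) (sMap A (W b rel)) (sMap A C) f (𝟙 _) (𝟙 _)
        (by rw [Category.comp_id, hf]) (by simp) ≫ ev b π hπ rel hrel =
      pullback.map x (sMap A C) (sMap A (W b rel)) (sMap A C) f' (𝟙 _) (𝟙 _)
        (by rw [Category.comp_id, hf']) (by simp) ≫ ev b π hπ rel hrel) : f = f' := by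
  obtain ⟨ψ, rfl⟩ := Spec.map_surjective x
  obtain ⟨γ, rfl⟩ := Spec.map_surjective f
  obtain ⟨γ', rfl⟩ := Spec.map_surjective f'
  letI : Algebra A T₀ := ψ.hom.toAlgebra
  have hγ : ofHom (algebraMap A (W b rel)) ≫ γ = ψ := by
    apply Spec.map_injective
    rw [Spec.map_comp]
    exact hf
  have hγ' : ofHom (algebraMap A (W b rel)) ≫ γ' = ψ := by
    apply Spec.map_injective
    rw [Spec.map_comp]
    exact hf'
  let g : W b rel →ₐ[A] T₀ :=
    { γ.hom with commutes' := fun a => congrArg (fun k => k.hom a) hγ }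
  let g' : W b rel →ₐ[A] T₀ :=
    { γ'.hom with commutes' := fun a => congrArg (fun k => k.hom a) hγ' }
  have hq : (pMap b rel T₀ g ≫ ev b π hπ rel hrel) ≫ sMap C D = pullback.snd _ _ := by
    rw [Category.assoc, ev_q]
    unfold pMap
    rw [pullback.lift_snd, Category.comp_id]
  obtain ⟨g₀, -, hu⟩ := up_spec b π hπ rel hrel T₀ (pMap b rel T₀ g ≫ ev b π hπ rel hrel) hq
  have e1 : g = g₀ := hu g rfl
  have e2 : g' = g₀ := hu g' h.symm
  have e3 : g = g' := e1.trans e2.symm
  have e4 : γ.hom = γ'.hom := congrArg (fun k : W b rel →ₐ[A] T₀ => k.toRingHom) e3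
  have e5 : γ = γ' := CommRingCat.hom_ext e4
  rw [e5]


/-- **The Weil restriction of `Spec D ⟶ Spec C` along `Spec C ⟶ Spec A`**, `C` finite free over
`A`. -/
noncomputable def ofAlg : WeilRes (sMap A C) (sMap C D) where
  W := Spec (.of (W b rel))
  pW := sMap A (W b rel)
  ev := ev b π hπ rel hrel
  ev_q := ev_q b π hπ rel hrel
  exists_lift := by
    intro T _ x σ hσ
    have hx₀ : (T.isoSpec.inv ≫ x) ≫ 𝟙 _ = T.isoSpec.inv ≫ x := Category.comp_id _
    obtain ⟨f₀, hf₀, hev⟩ := exists_lift_spec b π hπ rel hrel Γ(T, ⊤) (T.isoSpec.inv ≫ x)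
      (pullback.map (T.isoSpec.inv ≫ x) (sMap A C) x (sMap A C) T.isoSpec.inv (𝟙 _) (𝟙 _)
        hx₀ (by simp) ≫ σ)
      (by rw [Category.assoc, hσ, pullback.lift_snd, Category.comp_id])
    refine ⟨T.isoSpec.hom ≫ f₀, by rw [Category.assoc, hf₀, Iso.hom_inv_id_assoc], ?_⟩
    intro T' h a hha hfa
    have e1 : pullback.lift (h ≫ T.isoSpec.hom ≫ f₀) a hfa =
        pullback.lift (h ≫ T.isoSpec.hom) a
          (by rw [Category.assoc, Iso.hom_inv_id_assoc, hha]) ≫
        pullback.map (T.isoSpec.inv ≫ x) (sMap A C) (sMap A (W b rel)) (sMap A C) f₀ (𝟙 _) (𝟙 _)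
          (by rw [Category.comp_id, hf₀]) (by simp) := by
      apply pullback.hom_ext
      · rw [pullback.lift_fst, Category.assoc, pullback.lift_fst, pullback.lift_fst_assoc,
          Category.assoc]
      · rw [pullback.lift_snd, Category.assoc, pullback.lift_snd, pullback.lift_snd_assoc,
          Category.comp_id]
    rw [e1, Category.assoc, hev, ← Category.assoc]
    congr 1
    apply pullback.hom_ext
    · rw [Category.assoc, pullback.lift_fst, pullback.lift_fst_assoc, pullback.lift_fst,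
        Category.assoc, Iso.hom_inv_id, Category.comp_id]
    · rw [Category.assoc, pullback.lift_snd, pullback.lift_snd_assoc, pullback.lift_snd,
        Category.comp_id]
  hom_ext := by
    intro T _ f f' hff' h
    rw [← cancel_epi T.isoSpec.inv]
    apply hom_ext_spec b π hπ rel hrel Γ(T, ⊤) (T.isoSpec.inv ≫ f ≫ sMap A (W b rel))
      (T.isoSpec.inv ≫ f) (T.isoSpec.inv ≫ f') (Category.assoc _ _ _)
      (by rw [Category.assoc, hff'])
    have key := h (pullback.fst (T.isoSpec.inv ≫ f ≫ sMap A (W b rel)) (sMap A C) ≫ T.isoSpec.inv)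
      (pullback.snd (T.isoSpec.inv ≫ f ≫ sMap A (W b rel)) (sMap A C))
      (by rw [Category.assoc, Category.assoc, ← pullback.condition])
      (by rw [Category.assoc, Category.assoc, ← hff', ← pullback.condition])
    refine Eq.trans ?_ (key.trans ?_)
    · congr 1
    · congr 1

instance : IsAffine (ofAlg b π hπ rel hrel).W := by
  unfold ofAlg
  infer_instance

theorem ofAlg_etale [Finite J] [Finite K] [Algebra.FormallyEtale C D] :
    Etale (ofAlg b π hπ rel hrel).pW := by
  show Etale (sMap A (W b rel))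
  unfold sMap
  rw [HasRingHomProperty.Spec_iff (P := @Etale)]
  rw [CommRingCat.hom_ofHom, RingHom.etale_algebraMap]
  exact WeilResAlg.etale b π hπ rel hrel

end Groth.Agent.Lib.Helper4.WeilResSpec
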