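import Mathlib
import Groth.Agent.Lib.Helper4.WeilResUP

/-!
# Weil restriction along a finite free morphism of affine schemes (helper4)

Transport of `WeilRes` along isomorphisms, and existence for arbitrary affine schemes.
-/

set_option autoImplicit false
set_option linter.unusedSectionVars false
set_option linter.style.haveILetI false

universe u

open TensorProduct CategoryTheory CategoryTheory.Limits AlgebraicGeometry CommRingCat

namespace Groth.Agent.Lib.Helper4.WeilResSpec

open Groth.Agent.Lib.Helper4.WeilResAlg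

section transport

variable {B Z Y B' Z' Y' : Scheme.{u}} {p : Z ⟶ B} {q : Y ⟶ Z} (R : WeilRes p q)
  (eB : B' ≅ B) (eZ : Z' ≅ Z) (eY : Y' ≅ Y) (p' : Z' ⟶ B') (q' : Y' ⟶ Z')
  (hp : eZ.hom ≫ p = p' ≫ eB.hom) (hq : eY.hom ≫ q = q' ≫ eZ.hom)

include hp in
theorem ofIso_aux1 : pullback.fst (R.pW ≫ eB.inv) p' ≫ R.pW =
    (pullback.snd (R.pW ≫ eB.inv) p' ≫ eZ.hom) ≫ p := by
  rw [Category.assoc, hp, ← Category.assoc, ← pullback.condition, Category.assoc, Category.assoc,
    Iso.inv_hom_id, Category.comp_id]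

include hp in
theorem ofIso_aux2 {T : Scheme.{u}} (x' : T ⟶ B') : pullback.fst (x' ≫ eB.hom) p ≫ x' =
    (pullback.snd (x' ≫ eB.hom) p ≫ eZ.inv) ≫ p' := by
  rw [← cancel_mono eB.hom, Category.assoc, pullback.condition, Category.assoc, Category.assoc,
    ← hp, Iso.inv_hom_id_assoc]

/-- transport of a Weil restriction along isomorphisms -/
noncomputable def WeilRes.ofIso : WeilRes p' q' where
  W := R.W
  pW := R.pW ≫ eB.inv
  ev := pullback.lift (pullback.fst _ _) (pullback.snd _ _ ≫ eZ.hom) (ofIso_aux1 R eB eZ p' hp) ≫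
    R.ev ≫ eY.inv
  ev_q := by
    have h1 : eY.inv ≫ q' = q ≫ eZ.inv := by
      rw [Iso.inv_comp_eq, ← Category.assoc, hq, Category.assoc, Iso.hom_inv_id, Category.comp_id]
    rw [Category.assoc, Category.assoc, h1, ← Category.assoc R.ev, R.ev_q, pullback.lift_snd_assoc,
      Category.assoc, Iso.hom_inv_id, Category.comp_id]
  exists_lift := by
    intro T _ x' σ' hσ'
    have h1 : eY.hom ≫ q = q' ≫ eZ.hom := hq
    obtain ⟨f, hf, hev⟩ := R.exists_lift (x' ≫ eB.hom)
      (pullback.lift (pullback.fst _ _) (pullback.snd _ _ ≫ eZ.inv) (ofIso_aux2 eB eZ p' hp x') ≫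
        σ' ≫ eY.hom)
      (by
        rw [Category.assoc, Category.assoc, h1, ← Category.assoc σ', hσ', pullback.lift_snd_assoc,
          Category.assoc, Iso.inv_hom_id, Category.comp_id])
    refine ⟨f, by rw [← Category.assoc, hf, Category.assoc, Iso.hom_inv_id, Category.comp_id], ?_⟩
    intro T' h a' hha hfa
    have hha2 : h ≫ x' ≫ eB.hom = (a' ≫ eZ.hom) ≫ p := by
      rw [Category.assoc, hp, ← Category.assoc, ← Category.assoc, hha]
    have hfa2 : (h ≫ f) ≫ R.pW = (a' ≫ eZ.hom) ≫ p := by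
      rw [Category.assoc, hf, hha2]
    have key := hev h (a' ≫ eZ.hom) hha2 hfa2
    have e1 : pullback.lift (h ≫ f) a' hfa ≫
        pullback.lift (pullback.fst _ _) (pullback.snd _ _ ≫ eZ.hom)
          (ofIso_aux1 R eB eZ p' hp) = pullback.lift (h ≫ f) (a' ≫ eZ.hom) hfa2 := by
      apply pullback.hom_ext
      · rw [Category.assoc, pullback.lift_fst, pullback.lift_fst, pullback.lift_fst]
      · rw [Category.assoc, pullback.lift_snd, pullback.lift_snd_assoc, pullback.lift_snd]
    have e2 : pullback.lift h (a' ≫ eZ.hom) hha2 ≫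
        pullback.lift (pullback.fst _ _) (pullback.snd _ _ ≫ eZ.inv)
          (ofIso_aux2 eB eZ p' hp x') = pullback.lift h a' hha := by
      apply pullback.hom_ext
      · rw [Category.assoc, pullback.lift_fst, pullback.lift_fst, pullback.lift_fst]
      · rw [Category.assoc, pullback.lift_snd, pullback.lift_snd_assoc, pullback.lift_snd,
          Category.assoc, Iso.hom_inv_id, Category.comp_id]
    rw [← Category.assoc, e1, ← Category.assoc, key, Category.assoc, Category.assoc,
      Category.assoc, Iso.hom_inv_id, Category.comp_id, ← Category.assoc, e2]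
  hom_ext := by
    intro T _ f f' hff' h
    apply R.hom_ext f f'
    · have := hff' =≫ eB.hom
      simpa only [Category.assoc, Iso.inv_hom_id, Category.comp_id] using this
    · intro T' k a h1 h2
      have h1' : (k ≫ f) ≫ R.pW ≫ eB.inv = (a ≫ eZ.inv) ≫ p' := by
        rw [← cancel_mono eB.hom]
        simp only [Category.assoc, Iso.inv_hom_id, Category.comp_id]
        rw [← hp, Iso.inv_hom_id_assoc]
        simpa only [Category.assoc] using h1
      have h2' : (k ≫ f') ≫ R.pW ≫ eB.inv = (a ≫ eZ.inv) ≫ p' := by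
        rw [← cancel_mono eB.hom]
        simp only [Category.assoc, Iso.inv_hom_id, Category.comp_id]
        rw [← hp, Iso.inv_hom_id_assoc]
        simpa only [Category.assoc] using h2
      have key := h k (a ≫ eZ.inv) h1' h2'
      have e1 : ∀ (g : T ⟶ R.W) (hg : (k ≫ g) ≫ R.pW = a ≫ p)
          (hg' : (k ≫ g) ≫ R.pW ≫ eB.inv = (a ≫ eZ.inv) ≫ p'),
          pullback.lift (k ≫ g) (a ≫ eZ.inv) hg' ≫
            pullback.lift (pullback.fst _ _) (pullback.snd _ _ ≫ eZ.hom)
              (ofIso_aux1 R eB eZ p' hp) = pullback.lift (k ≫ g) a hg := by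
        intro g hg hg'
        apply pullback.hom_ext
        · rw [Category.assoc, pullback.lift_fst, pullback.lift_fst, pullback.lift_fst]
        · rw [Category.assoc, pullback.lift_snd, pullback.lift_snd_assoc, pullback.lift_snd,
            Category.assoc, Iso.inv_hom_id, Category.comp_id]
      have key2 := key =≫ eY.hom
      simp only [Category.assoc, Iso.inv_hom_id, Category.comp_id] at key2
      rw [← Category.assoc, ← Category.assoc, e1 f h1 h1', e1 f' h2 h2'] at key2
      exact key2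

theorem WeilRes.ofIso_W : (R.ofIso eB eZ eY p' q' hp hq).W = R.W := rfl

theorem WeilRes.ofIso_pW : (R.ofIso eB eZ eY p' q' hp hq).pW = R.pW ≫ eB.inv := rfl

end transport

section exist

variable {B Z Y : Scheme.{u}} [IsAffine B] [IsAffine Z] [IsAffine Y] (p : Z ⟶ B) (q : Y ⟶ Z)

/-- **Existence of the Weil restriction** of an étale `q : Y ⟶ Z` along a finite free
`p : Z ⟶ B`, all schemes affine. -/
theorem exists_weilRes [Etale q] (n : ℕ)
    (hb : letI := p.appTop.hom.toAlgebra
      Nonempty (Module.Basis (Fin n) Γ(B, ⊤) Γ(Z, ⊤))) :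
    ∃ R : WeilRes p q, IsAffine R.W ∧ Etale R.pW := by
  letI algAC : Algebra Γ(B, ⊤) Γ(Z, ⊤) := p.appTop.hom.toAlgebra
  letI algCD : Algebra Γ(Z, ⊤) Γ(Y, ⊤) := q.appTop.hom.toAlgebra
  obtain ⟨b⟩ := hb
  have hq : q.appTop.hom.Etale := (HasRingHomProperty.iff_of_isAffine (P := @Etale)).mp inferInstance
  have hE : Algebra.Etale Γ(Z, ⊤) Γ(Y, ⊤) := by
    rw [← RingHom.etale_algebraMap]
    exact hq
  obtain ⟨m, f, hf, hker⟩ := hE.finitePresentation.out
  obtain ⟨s, hs⟩ := hker
  let eJ : MvPolynomial (ULift.{u} (Fin m)) Γ(Z, ⊤) ≃ₐ[Γ(Z, ⊤)] MvPolynomial (Fin m) Γ(Z, ⊤) :=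
    MvPolynomial.renameEquiv _ Equiv.ulift
  let π : MvPolynomial (ULift.{u} (Fin m)) Γ(Z, ⊤) →ₐ[Γ(Z, ⊤)] Γ(Y, ⊤) := f.comp eJ.toAlgHom
  have hπ : Function.Surjective π := hf.comp eJ.surjective
  let K : Type u := {x : MvPolynomial (ULift.{u} (Fin m)) Γ(Z, ⊤) // eJ x ∈ s}
  let rel : K → MvPolynomial (ULift.{u} (Fin m)) Γ(Z, ⊤) := Subtype.val
  have hK : Finite K := by
    have : K ≃ {y // y ∈ s} :=
      { toFun := fun x => ⟨eJ x.1, x.2⟩
        invFun := fun y => ⟨eJ.symm y.1, by simp⟩
        left_inv := fun x => by simp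
        right_inv := fun y => by simp }
    exact Finite.of_equiv _ this.symm
  have hrel : Ideal.span (Set.range rel) = RingHom.ker π := by
    have h1 : RingHom.ker π = (RingHom.ker f.toRingHom).comap eJ.toRingEquiv.toRingHom := by
      ext x
      simp [π, RingHom.mem_ker]
    have h2 : Set.range rel = eJ ⁻¹' (s : Set _) := by
      ext x
      simp [rel, K]
    rw [h1, h2, ← hs]
    have h3 : (eJ : _ → _) ⁻¹' (s : Set _) = eJ.symm '' (s : Set _) := by
      ext x
      constructor
      · intro hx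
        exact ⟨eJ x, hx, by simp⟩
      · rintro ⟨y, hy, rfl⟩
        simpa using hy
    rw [h3]
    have h4 : Ideal.span (eJ.symm '' (s : Set _)) =
        (Ideal.span (s : Set _)).map eJ.symm.toRingEquiv.toRingHom := by
      rw [Ideal.map_span]
      rfl
    rw [h4]
    ext x
    rw [Ideal.mem_comap]
    constructor
    · intro hx
      have := Ideal.mem_map_of_mem eJ.toRingEquiv.toRingHom hx
      rw [Ideal.map_map] at this
      have h5 : (eJ.toRingEquiv.toRingHom).comp (eJ.symm.toRingEquiv.toRingHom) = RingHom.id _ := by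
        ext y <;> simp
      rw [h5, Ideal.map_id] at this
      exact this
    · intro hx
      have := Ideal.mem_map_of_mem eJ.symm.toRingEquiv.toRingHom hx
      simpa using this
  let R₀ := ofAlg b π hπ rel hrel
  have hR₀ : Etale R₀.pW := ofAlg_etale b π hπ rel hrel
  have hp : Z.isoSpec.hom ≫ sMap Γ(B, ⊤) Γ(Z, ⊤) = p ≫ B.isoSpec.hom :=
    Scheme.isoSpec_hom_naturality p
  have hq' : Y.isoSpec.hom ≫ sMap Γ(Z, ⊤) Γ(Y, ⊤) = q ≫ Z.isoSpec.hom :=
    Scheme.isoSpec_hom_naturality q
  refine ⟨R₀.ofIso B.isoSpec Z.isoSpec Y.isoSpec p q hp hq', ?_, ?_⟩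
  · rw [WeilRes.ofIso_W]
    infer_instance
  · rw [WeilRes.ofIso_pW]
    haveI : Etale R₀.pW := hR₀
    haveI : Etale B.isoSpec.inv := inferInstance
    exact Etale.etale_comp R₀.pW B.isoSpec.inv

end exist

end Groth.Agent.Lib.Helper4.WeilResSpec
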