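import Mathlib
import Groth.Prelude.Def_Grpd
import Groth.Agent.Lib.Helper4.Coind3
import Groth.Agent.Lib.Helper4.WeilResIso

/-!
# Building the coinduction data from a Weil restriction, part 1: the universal family (helper4)
-/

set_option backward.isDefEq.respectTransparency false
set_option autoImplicit false
set_option linter.style.haveILetI false
set_option linter.unusedSectionVars false

universe u
open CategoryTheory CategoryTheory.Limits AlgebraicGeometry

namespace Groth.Agent.Lib.Helper4.Coind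

open Groth.Agent.Lib.Helper4.GrpdTc Groth.Agent.Lib.Helper4.SubGrpd2
  Groth.Agent.Lib.Helper4.WeilResSpec

variable {S : Scheme.{u}} {G : Grpd.GroupoidScheme S} {D : VData G}

namespace Fam

variable {T : Scheme.{u}} (F : Fam D T)

theorem P_cond {T' : Scheme.{u}} (p : T' ⟶ pullback F.x D.pV) :
    (p ≫ pullback.fst F.x D.pV) ≫ F.x = (p ≫ pullback.snd F.x D.pV) ≫ D.pV := by
  rw [Category.assoc, Category.assoc, pullback.condition]

theorem ev_P {T' : Scheme.{u}} (p : T' ⟶ pullback F.x D.pV) :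
    F.ev (p ≫ pullback.fst F.x D.pV) (p ≫ pullback.snd F.x D.pV) = p ≫ F.μ := by
  rw [F.ev_eq _ _ (F.P_cond p)]
  congr 1
  apply pullback.hom_ext
  · rw [pullback.lift_fst]
  · rw [pullback.lift_snd]

theorem isArr_pv {T' : Scheme.{u}} (p : T' ⟶ pullback F.x D.pV) :
    IsArr G ((p ≫ pullback.snd F.x D.pV) ≫ D.aV) ((p ≫ F.μ) ≫ D.g₁)
      ((p ≫ pullback.fst F.x D.pV) ≫ F.x ≫ D.g₁) := by
  have := F.isArr (p ≫ pullback.fst F.x D.pV) (p ≫ pullback.snd F.x D.pV) (F.P_cond p)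
  rw [F.ev_P] at this
  refine ⟨this.t, ?_⟩
  rw [this.s, ← Category.assoc, ← F.P_cond p, Category.assoc]

/-- pull back a family -/
noncomputable def pull {T₁ : Scheme.{u}} (k : T₁ ⟶ T) : Fam D T₁ where
  x := k ≫ F.x
  μ := F.ev (pullback.fst (k ≫ F.x) D.pV ≫ k) (pullback.snd (k ≫ F.x) D.pV)
  hμ := by
    rw [F.ev_g₁ _ _ (by rw [Category.assoc, pullback.condition]), Category.assoc]

@[simp] theorem pull_x {T₁ : Scheme.{u}} (k : T₁ ⟶ T) : (F.pull k).x = k ≫ F.x := rfl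

theorem pull_ev {T₁ T' : Scheme.{u}} (k : T₁ ⟶ T) (h : T' ⟶ T₁) (v : T' ⟶ D.V)
    (hv : h ≫ k ≫ F.x = v ≫ D.pV) : (F.pull k).ev h v = F.ev (h ≫ k) v := by
  have hc : (pullback.fst (k ≫ F.x) D.pV ≫ k) ≫ F.x = pullback.snd (k ≫ F.x) D.pV ≫ D.pV := by
    rw [Category.assoc, pullback.condition]
  have e1 : (F.pull k).ev h v = pullback.lift h v hv ≫
      F.ev (pullback.fst (k ≫ F.x) D.pV ≫ k) (pullback.snd (k ≫ F.x) D.pV) :=
    (F.pull k).ev_eq h v hv
  rw [e1, F.pre_ev _ _ _ hc]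
  apply Fam.ev_congr
  · exact pullback.lift_fst_assoc _ _ _ _
  · exact pullback.lift_snd _ _ _

end Fam

theorem isArr_of_pV {T : Scheme.{u}} (y : T ⟶ D.U₁) (v' : T ⟶ D.V) (hv' : v' ≫ D.pV = y) :
    IsArr G (v' ≫ D.aV) ((v' ≫ D.aV) ≫ G.t) (y ≫ D.g₁) :=
  ⟨rfl, by rw [Category.assoc, D.aV_s, ← Category.assoc, hv']⟩

variable (D)

/-- `Y = V ×_{t,U} U₁`, the scheme of lifts of the target -/
noncomputable abbrev Y : Scheme.{u} := pullback (D.aV ≫ G.t) D.g₁

/-- the projection `Y ⟶ V` -/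
noncomputable abbrev qY : Y D ⟶ D.V := pullback.fst (D.aV ≫ G.t) D.g₁

variable {D} (R : WeilRes D.pV (qY D))

/-- the universal family over the Weil restriction -/
noncomputable def FY : Fam D R.W where
  x := R.pW
  μ := R.ev ≫ pullback.snd (D.aV ≫ G.t) D.g₁
  hμ := by
    rw [Category.assoc, ← pullback.condition, ← Category.assoc, R.ev_q]

@[simp] theorem FY_x : (FY R).x = R.pW := rfl

theorem FY_ev {T : Scheme.{u}} (w : T ⟶ R.W) (v : T ⟶ D.V) (hv : w ≫ R.pW = v ≫ D.pV) :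
    (FY R).ev w v = pullback.lift w v hv ≫ R.ev ≫ pullback.snd (D.aV ≫ G.t) D.g₁ :=
  (FY R).ev_eq w v hv

/-- existence part of the universal property, for families -/
theorem FY_exists {T : Scheme.{u}} [IsAffine T] (F : Fam D T) :
    ∃ f : T ⟶ R.W, f ≫ R.pW = F.x ∧ ∀ {T' : Scheme.{u}} (h : T' ⟶ T) (v : T' ⟶ D.V),
      h ≫ F.x = v ≫ D.pV → (FY R).ev (h ≫ f) v = F.ev h v := by
  obtain ⟨f, hf, hev⟩ := R.exists_lift F.x
    (pullback.lift (pullback.snd F.x D.pV) F.μ (by rw [F.hμ]))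
    (pullback.lift_fst _ _ _)
  refine ⟨f, hf, ?_⟩
  intro T' h v hv
  have hv' : (h ≫ f) ≫ R.pW = v ≫ D.pV := by rw [Category.assoc, hf, hv]
  rw [FY_ev R _ _ hv', ← Category.assoc, hev h v hv hv', Category.assoc, pullback.lift_snd,
    F.ev_eq h v hv]

/-- uniqueness part of the universal property, for families -/
theorem FY_ext {T : Scheme.{u}} [IsAffine T] (f f' : T ⟶ R.W) (h0 : f ≫ R.pW = f' ≫ R.pW)
    (h : ∀ {T' : Scheme.{u}} (k : T' ⟶ T) (v : T' ⟶ D.V), (k ≫ f) ≫ R.pW = v ≫ D.pV →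
      (FY R).ev (k ≫ f) v = (FY R).ev (k ≫ f') v) : f = f' := by
  apply R.hom_ext f f' h0
  intro T' k a h1 h2
  apply pullback.hom_ext
  · rw [Category.assoc, Category.assoc]
    have := R.ev_q
    change R.ev ≫ pullback.fst (D.aV ≫ G.t) D.g₁ = _ at this
    rw [this, pullback.lift_snd, pullback.lift_snd]
  · have := h k a h1
    rw [FY_ev R _ _ h1, FY_ev R _ _ h2] at this
    simpa only [Category.assoc] using this

end Groth.Agent.Lib.Helper4.Coind
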