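import Mathlib
import Groth.Prelude.Def_Grpd
import Groth.Agent.Lib.Helper4.CoindBuild1
import Groth.Agent.Lib.Helper4.ClopenLocus

/-!
# Building the coinduction data from a Weil restriction, part 2: the stable locus (helper4)
-/

set_option backward.isDefEq.respectTransparency false
set_option autoImplicit false
set_option linter.style.haveILetI false
set_option linter.unusedSectionVars false

universe u
open CategoryTheory CategoryTheory.Limits AlgebraicGeometry

namespace Groth.Agent.Lib.Helper4.Coind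

open Groth.Agent.Lib.Helper4.GrpdTc Groth.Agent.Lib.Helper4.SubGrpd2
  Groth.Agent.Lib.Helper4.WeilResSpec Groth.Agent.Lib.Helper4.ClopenLocus

variable {S : Scheme.{u}} {G : Grpd.GroupoidScheme S} {D : VData G} (R : WeilRes D.pV (qY D))

/-! ### The first locus: stability under left translation -/

/-- triples `(w, v, v')` with `v' ∈ V_{λ(v)}` -/
noncomputable abbrev Y₁ : Scheme.{u} := pullback (FY R).μ D.pV

/-- `(w, v, v') ↦ w` -/
noncomputable abbrev π₁ : Y₁ R ⟶ R.W :=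
  pullback.fst (FY R).μ D.pV ≫ pullback.fst (FY R).x D.pV

theorem Y₁_arr : IsArr G ((pullback.fst (FY R).μ D.pV ≫ pullback.snd (FY R).x D.pV) ≫ D.aV)
    ((pullback.fst (FY R).μ D.pV ≫ (FY R).μ) ≫ D.g₁)
    ((pullback.fst (FY R).μ D.pV ≫ pullback.fst (FY R).x D.pV) ≫ (FY R).x ≫ D.g₁) :=
  (FY R).isArr_pv (pullback.fst (FY R).μ D.pV)

theorem Y₁_arr' : IsArr G (pullback.snd (FY R).μ D.pV ≫ D.aV)
    ((pullback.snd (FY R).μ D.pV ≫ D.aV) ≫ G.t)
    ((pullback.fst (FY R).μ D.pV ≫ (FY R).μ) ≫ D.g₁) :=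
  isArr_of_pV _ _ pullback.condition.symm

/-- `(w, v, v') ↦ (v' ∘ v, x(w))` -/
noncomputable def m₁ : Y₁ R ⟶ pullback G.s D.g₁ :=
  pullback.lift (tc G (pullback.snd (FY R).μ D.pV ≫ D.aV)
    ((pullback.fst (FY R).μ D.pV ≫ pullback.snd (FY R).x D.pV) ≫ D.aV))
    ((pullback.fst (FY R).μ D.pV ≫ pullback.snd (FY R).x D.pV) ≫ D.pV)
    (by
      rw [((Y₁_arr' R).tc (Y₁_arr R)).s, ← Category.assoc, (FY R).P_cond, Category.assoc])

/-- the first stable locus -/
noncomputable def L1 : Set R.W := locus (π₁ R) (m₁ R ⁻¹' Set.range D.ιV)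

theorem q1_of_range {T : Scheme.{u}} (f : T ⟶ R.W) [IsOpenImmersion D.ιV]
    (hf : Set.range f ⊆ L1 R) : ((FY R).pull f).Q1 := by
  intro T' h v v' hv hv'
  have hv0 : h ≫ f ≫ (FY R).x = v ≫ D.pV := hv
  have hv1 : (h ≫ f) ≫ (FY R).x = v ≫ D.pV := by rw [Category.assoc, hv0]
  rw [(FY R).pull_ev f h v hv0] at hv'
  have hp : pullback.lift (h ≫ f) v hv1 ≫ (FY R).μ = v' ≫ D.pV := by
    rw [hv', (FY R).ev_eq _ _ hv1]
  have hrange : Set.range (pullback.lift (pullback.lift (h ≫ f) v hv1) v' hp ≫ m₁ R) ⊆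
      Set.range D.ιV := by
    rintro _ ⟨t', rfl⟩
    have h1 : f (h t') ∈ L1 R := hf ⟨_, rfl⟩
    unfold L1 at h1
    rw [mem_locus_iff] at h1
    have h2 := h1 (pullback.lift (pullback.lift (h ≫ f) v hv1) v' hp t') (by
      rw [← Scheme.Hom.comp_apply, ← Scheme.Hom.comp_apply]
      congr 2
      rw [pullback.lift_fst_assoc, pullback.lift_fst])
    rw [Scheme.Hom.comp_apply]
    exact h2
  refine ⟨IsOpenImmersion.lift D.ιV _ hrange, ?_, ?_⟩
  · have := IsOpenImmersion.lift_fac D.ιV _ hrange =≫ pullback.fst _ _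
    rw [Category.assoc, D.ιV_fst] at this
    rw [this, Category.assoc]
    unfold m₁
    rw [pullback.lift_fst, pre_tc' (Y₁_arr' R) (Y₁_arr R)]
    congr 1
    · rw [pullback.lift_snd_assoc]
    · rw [← Category.assoc, ← Category.assoc, pullback.lift_fst, pullback.lift_snd]
  · have := IsOpenImmersion.lift_fac D.ιV _ hrange =≫ pullback.snd _ _
    rw [Category.assoc, D.ιV_snd] at this
    rw [this, Category.assoc]
    unfold m₁
    rw [pullback.lift_snd, ← Category.assoc, ← Category.assoc, pullback.lift_fst,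
      pullback.lift_snd]

theorem range_of_q1 {T : Scheme.{u}} (f : T ⟶ R.W) (hQ : ((FY R).pull f).Q1) :
    Set.range f ⊆ L1 R := by
  unfold L1
  rw [range_subset_locus_iff]
  intro z
  have hc : pullback.fst f (π₁ R) ≫ f = pullback.snd f (π₁ R) ≫ π₁ R := pullback.condition
  have hv : pullback.fst f (π₁ R) ≫ f ≫ (FY R).x =
      (pullback.snd f (π₁ R) ≫ pullback.fst (FY R).μ D.pV ≫ pullback.snd (FY R).x D.pV) ≫
        D.pV := by
    rw [← Category.assoc, hc]
    simp only [Category.assoc]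
    rw [pullback.condition]
  have hv' : (pullback.snd f (π₁ R) ≫ pullback.snd (FY R).μ D.pV) ≫ D.pV =
      ((FY R).pull f).ev (pullback.fst f (π₁ R))
        (pullback.snd f (π₁ R) ≫ pullback.fst (FY R).μ D.pV ≫ pullback.snd (FY R).x D.pV) := by
    rw [(FY R).pull_ev f _ _ hv]
    have e1 : pullback.fst f (π₁ R) ≫ f = (pullback.snd f (π₁ R) ≫ pullback.fst (FY R).μ D.pV) ≫
        pullback.fst (FY R).x D.pV := by
      rw [hc, Category.assoc]
    have e2 : pullback.snd f (π₁ R) ≫ pullback.fst (FY R).μ D.pV ≫ pullback.snd (FY R).x D.pV =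
        (pullback.snd f (π₁ R) ≫ pullback.fst (FY R).μ D.pV) ≫ pullback.snd (FY R).x D.pV := by
      rw [Category.assoc]
    rw [Fam.ev_congr (FY R) e1 e2, (FY R).ev_P]
    simp only [Category.assoc]
    rw [pullback.condition]
  obtain ⟨b, hb, hb'⟩ := hQ _ _ _ hv hv'
  have key : pullback.snd f (π₁ R) ≫ m₁ R = b ≫ D.ιV := by
    apply pullback.hom_ext
    · rw [Category.assoc, Category.assoc, D.ιV_fst, hb]
      unfold m₁
      rw [pullback.lift_fst, pre_tc' (Y₁_arr' R) (Y₁_arr R)]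
      simp only [Category.assoc]
    · rw [Category.assoc, Category.assoc, D.ιV_snd, hb']
      unfold m₁
      rw [pullback.lift_snd]
      simp only [Category.assoc]
  show m₁ R (pullback.snd f (π₁ R) z) ∈ Set.range D.ιV
  rw [← Scheme.Hom.comp_apply, key, Scheme.Hom.comp_apply]
  exact ⟨_, rfl⟩

/-! ### The second locus: stability under division -/

/-- triples `(w, v, b)` with `v, b ∈ V_w` -/
noncomputable abbrev Y₂ : Scheme.{u} := pullback (pullback.fst (FY R).x D.pV ≫ (FY R).x) D.pV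

/-- `(w, v, b) ↦ w` -/
noncomputable abbrev π₂ : Y₂ R ⟶ R.W :=
  pullback.fst (pullback.fst (FY R).x D.pV ≫ (FY R).x) D.pV ≫ pullback.fst (FY R).x D.pV

theorem Y₂_arr : IsArr G
    ((pullback.fst (pullback.fst (FY R).x D.pV ≫ (FY R).x) D.pV ≫ pullback.snd (FY R).x D.pV) ≫ D.aV)
    ((pullback.fst (pullback.fst (FY R).x D.pV ≫ (FY R).x) D.pV ≫ (FY R).μ) ≫ D.g₁)
    ((pullback.fst (pullback.fst (FY R).x D.pV ≫ (FY R).x) D.pV ≫ pullback.fst (FY R).x D.pV) ≫
      (FY R).x ≫ D.g₁) :=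
  (FY R).isArr_pv _

theorem Y₂_arr' : IsArr G (pullback.snd (pullback.fst (FY R).x D.pV ≫ (FY R).x) D.pV ≫ D.aV)
    ((pullback.snd (pullback.fst (FY R).x D.pV ≫ (FY R).x) D.pV ≫ D.aV) ≫ G.t)
    ((pullback.fst (pullback.fst (FY R).x D.pV ≫ (FY R).x) D.pV ≫ pullback.fst (FY R).x D.pV) ≫
      (FY R).x ≫ D.g₁) := by
  have := isArr_of_pV (D := D) _ _
    (pullback.condition (f := pullback.fst (FY R).x D.pV ≫ (FY R).x) (g := D.pV)).symm
  simpa only [Category.assoc] using this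

/-- `(w, v, b) ↦ (b ∘ v⁻¹, λ(v))` -/
noncomputable def m₂ : Y₂ R ⟶ pullback G.s D.g₁ :=
  pullback.lift (tc G (pullback.snd (pullback.fst (FY R).x D.pV ≫ (FY R).x) D.pV ≫ D.aV)
    (((pullback.fst (pullback.fst (FY R).x D.pV ≫ (FY R).x) D.pV ≫
      pullback.snd (FY R).x D.pV) ≫ D.aV) ≫ G.i))
    (pullback.fst (pullback.fst (FY R).x D.pV ≫ (FY R).x) D.pV ≫ (FY R).μ)
    (by rw [((Y₂_arr' R).tc (Y₂_arr R).i).s])

/-- the second stable locus -/
noncomputable def L2 : Set R.W := locus (π₂ R) (m₂ R ⁻¹' Set.range D.ιV)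

theorem q2_of_range {T : Scheme.{u}} (f : T ⟶ R.W) [IsOpenImmersion D.ιV]
    (hf : Set.range f ⊆ L2 R) : ((FY R).pull f).Q2 := by
  intro T' h v b hv hb
  have hv0 : h ≫ f ≫ (FY R).x = v ≫ D.pV := hv
  have hv1 : (h ≫ f) ≫ (FY R).x = v ≫ D.pV := by rw [Category.assoc, hv0]
  rw [(FY R).pull_ev f h v hv0]
  have hp : pullback.lift (h ≫ f) v hv1 ≫ pullback.fst (FY R).x D.pV ≫ (FY R).x = b ≫ D.pV := by
    rw [pullback.lift_fst_assoc, hv1, hb]
  have hrange : Set.range (pullback.lift (pullback.lift (h ≫ f) v hv1) b hp ≫ m₂ R) ⊆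
      Set.range D.ιV := by
    rintro _ ⟨t', rfl⟩
    have h1 : f (h t') ∈ L2 R := hf ⟨_, rfl⟩
    unfold L2 at h1
    rw [mem_locus_iff] at h1
    have h2 := h1 (pullback.lift (pullback.lift (h ≫ f) v hv1) b hp t') (by
      rw [← Scheme.Hom.comp_apply, ← Scheme.Hom.comp_apply]
      congr 2
      rw [pullback.lift_fst_assoc, pullback.lift_fst])
    rw [Scheme.Hom.comp_apply]
    exact h2
  refine ⟨IsOpenImmersion.lift D.ιV _ hrange, ?_, ?_⟩
  · have := IsOpenImmersion.lift_fac D.ιV _ hrange =≫ pullback.fst _ _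
    rw [Category.assoc, D.ιV_fst] at this
    rw [this, Category.assoc]
    unfold m₂
    rw [pullback.lift_fst, pre_tc' (Y₂_arr' R) (Y₂_arr R).i]
    congr 1
    · rw [pullback.lift_snd_assoc]
    · rw [← Category.assoc, ← Category.assoc, ← Category.assoc, pullback.lift_fst,
        pullback.lift_snd]
  · have := IsOpenImmersion.lift_fac D.ιV _ hrange =≫ pullback.snd _ _
    rw [Category.assoc, D.ιV_snd] at this
    rw [this, Category.assoc]
    unfold m₂
    rw [pullback.lift_snd, pullback.lift_fst_assoc, (FY R).ev_eq _ _ hv1]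

theorem range_of_q2 {T : Scheme.{u}} (f : T ⟶ R.W) (hQ : ((FY R).pull f).Q2) :
    Set.range f ⊆ L2 R := by
  unfold L2
  rw [range_subset_locus_iff]
  intro z
  have hc : pullback.fst f (π₂ R) ≫ f = pullback.snd f (π₂ R) ≫ π₂ R := pullback.condition
  have hv : pullback.fst f (π₂ R) ≫ f ≫ (FY R).x =
      (pullback.snd f (π₂ R) ≫ pullback.fst (pullback.fst (FY R).x D.pV ≫ (FY R).x) D.pV ≫
        pullback.snd (FY R).x D.pV) ≫ D.pV := by
    rw [← Category.assoc, hc]
    simp only [Category.assoc]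
    exact congrArg (fun k => pullback.snd f (π₂ R) ≫
      pullback.fst (pullback.fst (FY R).x D.pV ≫ (FY R).x) D.pV ≫ k)
      (pullback.condition (f := (FY R).x) (g := D.pV))
  have hb : (pullback.snd f (π₂ R) ≫
      pullback.snd (pullback.fst (FY R).x D.pV ≫ (FY R).x) D.pV) ≫ D.pV =
      (pullback.snd f (π₂ R) ≫ pullback.fst (pullback.fst (FY R).x D.pV ≫ (FY R).x) D.pV ≫
        pullback.snd (FY R).x D.pV) ≫ D.pV := by
    have c2 := pullback.condition (f := pullback.fst (FY R).x D.pV ≫ (FY R).x) (g := D.pV)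
    have c1 := pullback.condition (f := (FY R).x) (g := D.pV)
    simp only [Category.assoc] at c2 ⊢
    rw [← c2]
    exact congrArg (fun k => pullback.snd f (π₂ R) ≫
      pullback.fst (pullback.fst (FY R).x D.pV ≫ (FY R).x) D.pV ≫ k) c1
  obtain ⟨v', hv', hv''⟩ := hQ _ _ _ hv hb
  rw [(FY R).pull_ev f _ _ hv] at hv''
  have e1 : pullback.fst f (π₂ R) ≫ f =
      (pullback.snd f (π₂ R) ≫ pullback.fst (pullback.fst (FY R).x D.pV ≫ (FY R).x) D.pV) ≫
        pullback.fst (FY R).x D.pV := by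
    rw [hc, Category.assoc]
  have e2 : pullback.snd f (π₂ R) ≫ pullback.fst (pullback.fst (FY R).x D.pV ≫ (FY R).x) D.pV ≫
      pullback.snd (FY R).x D.pV =
      (pullback.snd f (π₂ R) ≫ pullback.fst (pullback.fst (FY R).x D.pV ≫ (FY R).x) D.pV) ≫
        pullback.snd (FY R).x D.pV := by
    rw [Category.assoc]
  rw [Fam.ev_congr (FY R) e1 e2, (FY R).ev_P] at hv''
  have key : pullback.snd f (π₂ R) ≫ m₂ R = v' ≫ D.ιV := by
    apply pullback.hom_ext
    · rw [Category.assoc, Category.assoc, D.ιV_fst, hv']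
      unfold m₂
      rw [pullback.lift_fst, pre_tc' (Y₂_arr' R) (Y₂_arr R).i]
      simp only [Category.assoc]
    · rw [Category.assoc, Category.assoc, D.ιV_snd, hv'']
      unfold m₂
      rw [pullback.lift_snd]
      simp only [Category.assoc]
  show m₂ R (pullback.snd f (π₂ R) z) ∈ Set.range D.ιV
  rw [← Scheme.Hom.comp_apply, key, Scheme.Hom.comp_apply]
  exact ⟨_, rfl⟩

/-! ### The third locus: normalisation -/

theorem n_aux : (𝟙 R.W) ≫ (FY R).x = ((FY R).x ≫ D.e₁) ≫ D.pV := by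
  rw [Category.id_comp, Category.assoc, D.e₁_pV, Category.comp_id]

/-- `w ↦ λ_w(e)` -/
noncomputable def n₁ : R.W ⟶ D.U₁ := (FY R).ev (𝟙 R.W) ((FY R).x ≫ D.e₁)

theorem n₁_g₁ : n₁ R ≫ D.g₁ = (FY R).x ≫ D.g₁ := by
  unfold n₁
  rw [(FY R).ev_g₁ _ _ (n_aux R), Category.assoc, Category.assoc, D.e₁_aV_assoc, G.e_t,
    Category.comp_id]

/-- `w ↦ (λ_w(e), x(w))` -/
noncomputable def nn : R.W ⟶ pullback D.g₁ D.g₁ := pullback.lift (n₁ R) (FY R).x (n₁_g₁ R)

/-- the normalised locus -/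
noncomputable def L3 : Set R.W := nn R ⁻¹' Set.range (pullback.diagonal D.g₁)

theorem nrm_iff {T : Scheme.{u}} (f : T ⟶ R.W) :
    ((FY R).pull f).Nrm ↔ f ≫ n₁ R = f ≫ (FY R).x := by
  unfold Fam.Nrm n₁
  rw [(FY R).pull_ev f (𝟙 T) _ (by
    rw [Category.id_comp, Fam.pull_x, Category.assoc, Category.assoc, D.e₁_pV, Category.comp_id]),
    (FY R).pre_ev f _ _ (n_aux R)]
  simp only [Category.id_comp, Category.comp_id, Fam.pull_x, Category.assoc]

theorem nrm_of_range {T : Scheme.{u}} (f : T ⟶ R.W) [IsOpenImmersion (pullback.diagonal D.g₁)]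
    (hf : Set.range f ⊆ L3 R) : ((FY R).pull f).Nrm := by
  rw [nrm_iff]
  have hrange : Set.range (f ≫ nn R) ⊆ Set.range (pullback.diagonal D.g₁) := by
    rintro _ ⟨t, rfl⟩
    rw [Scheme.Hom.comp_apply]
    exact hf ⟨t, rfl⟩
  have h1 := IsOpenImmersion.lift_fac (pullback.diagonal D.g₁) _ hrange
  have h2 := h1 =≫ pullback.fst _ _
  have h3 := h1 =≫ pullback.snd _ _
  unfold nn at h2 h3
  rw [Category.assoc, pullback.diagonal_fst, Category.comp_id, Category.assoc,
    pullback.lift_fst] at h2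
  rw [Category.assoc, pullback.diagonal_snd, Category.comp_id, Category.assoc,
    pullback.lift_snd] at h3
  rw [← h2, h3]

theorem range_of_nrm {T : Scheme.{u}} (f : T ⟶ R.W) (hN : ((FY R).pull f).Nrm) :
    Set.range f ⊆ L3 R := by
  rw [nrm_iff] at hN
  rintro _ ⟨t, rfl⟩
  show nn R (f t) ∈ Set.range (pullback.diagonal D.g₁)
  have : f ≫ nn R = (f ≫ (FY R).x) ≫ pullback.diagonal D.g₁ := by
    apply pullback.hom_ext
    · unfold nn
      rw [Category.assoc, pullback.lift_fst, Category.assoc, pullback.diagonal_fst,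
        Category.comp_id, hN]
    · unfold nn
      rw [Category.assoc, pullback.lift_snd, Category.assoc, pullback.diagonal_snd,
        Category.comp_id]
  rw [← Scheme.Hom.comp_apply, this, Scheme.Hom.comp_apply]
  exact ⟨_, rfl⟩

end Groth.Agent.Lib.Helper4.Coind
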