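import Mathlib
import Groth.Prelude.Def_Grpd
import Groth.Agent.Lib.Helper4.CoindBuild2

/-!
# Building the coinduction data from a Weil restriction, part 3: the data (helper4)
-/

set_option backward.isDefEq.respectTransparency false
set_option autoImplicit false
set_option linter.style.haveILetI false
set_option linter.unusedSectionVars false

universe u
open CategoryTheory CategoryTheory.Limits AlgebraicGeometry

namespace Groth.Agent.Lib.Helper4.Coind

open Groth.Agent.Lib.Helper4.GrpdTc Groth.Agent.Lib.Helper4.SubGrpd2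
  Groth.Agent.Lib.Helper4.WeilResSpec Groth.Agent.Lib.Helper4.ClopenLocus

variable {S : Scheme.{u}} {G : Grpd.GroupoidScheme S} {D : VData G} (R : WeilRes D.pV (qY D))

section clopen

variable [IsFinite D.pV] [Flat D.pV] [LocallyOfFinitePresentation D.pV] [IsOpenImmersion D.ιV]
  (hcl : IsClosed (Set.range D.ιV))

theorem isOpen_L1 : IsOpen (L1 R) := by
  unfold L1
  apply isOpen_locus
  exact D.ιV.isOpenEmbedding.isOpen_range.preimage (m₁ R).continuous

include hcl in
theorem isClosed_L1 : IsClosed (L1 R) := by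
  unfold L1
  apply isClosed_locus
  exact hcl.preimage (m₁ R).continuous

theorem isOpen_L2 : IsOpen (L2 R) := by
  unfold L2
  apply isOpen_locus
  exact D.ιV.isOpenEmbedding.isOpen_range.preimage (m₂ R).continuous

include hcl in
theorem isClosed_L2 : IsClosed (L2 R) := by
  unfold L2
  apply isClosed_locus
  exact hcl.preimage (m₂ R).continuous

theorem isOpen_L3 [IsOpenImmersion (pullback.diagonal D.g₁)] : IsOpen (L3 R) := by
  unfold L3
  exact (pullback.diagonal D.g₁).isOpenEmbedding.isOpen_range.preimage (nn R).continuous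

theorem isClosed_L3 [IsSeparated D.g₁] : IsClosed (L3 R) := by
  unfold L3
  exact (pullback.diagonal D.g₁).isClosedEmbedding.isClosed_range.preimage (nn R).continuous

end clopen

section data

variable [IsAffine G.U] [Etale D.g₁] [IsFinite D.pV] [Flat D.pV] [LocallyOfFinitePresentation D.pV]
  [IsOpenImmersion D.ιV] (hcl : IsClosed (Set.range D.ιV)) [IsAffine R.W]

/-- the stable normalised locus, as an open subscheme -/
noncomputable def W₀ : R.W.Opens :=
  ⟨L1 R ∩ L2 R ∩ L3 R, ((isOpen_L1 R).inter (isOpen_L2 R)).inter (isOpen_L3 R)⟩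

include hcl in
theorem isClosed_W₀ : IsClosed ((W₀ R : R.W.Opens) : Set R.W) :=
  ((isClosed_L1 R hcl).inter (isClosed_L2 R hcl)).inter (isClosed_L3 R)

include hcl in
theorem isAffine_W₀ : IsAffine ↑(W₀ R) := by
  have h1 : IsClosedImmersion (W₀ R).ι := by
    apply IsClosedImmersion.of_isPreimmersion
    rw [Scheme.Opens.range_ι]
    exact isClosed_W₀ R hcl
  exact isAffine_of_isAffineHom (W₀ R).ι

theorem range_ι_W₀ : Set.range (W₀ R).ι = L1 R ∩ L2 R ∩ L3 R := by
  rw [Scheme.Opens.range_ι]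
  rfl

/-- **The coinduction data.** -/
noncomputable def coindData : CoindData D where
  W := ↑(W₀ R)
  FW := (FY R).pull (W₀ R).ι
  q1 := q1_of_range R _ (by rw [range_ι_W₀]; exact fun _ h => h.1.1)
  q2 := q2_of_range R _ (by rw [range_ι_W₀]; exact fun _ h => h.1.2)
  nrm := nrm_of_range R _ (by rw [range_ι_W₀]; exact fun _ h => h.2)
  affW := isAffine_W₀ R hcl
  up_exists := by
    intro T _ F hQ1 hQ2 hN
    obtain ⟨f₀, hx, hev⟩ := FY_exists R F
    have hx' : f₀ ≫ (FY R).x = F.x := hx
    have e : ∀ {T' : Scheme.{u}} (h : T' ⟶ T) (v : T' ⟶ D.V), h ≫ ((FY R).pull f₀).x = v ≫ D.pV →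
        ((FY R).pull f₀).ev h v = F.ev h v := by
      intro T' h v hv
      have hv0 : h ≫ f₀ ≫ (FY R).x = v ≫ D.pV := hv
      rw [(FY R).pull_ev f₀ h v hv0]
      exact hev h v (by rw [← hx', hv0])
    have hx'' : ((FY R).pull f₀).x = F.x := hx'
    have q1' : ((FY R).pull f₀).Q1 := by
      intro T' h v v' hv hv'
      exact hQ1 h v v' (by rw [← hx'']; exact hv) (by rw [hv', e h v hv])
    have q2' : ((FY R).pull f₀).Q2 := by
      intro T' h v b hv hb
      obtain ⟨v', h1, h2⟩ := hQ2 h v b (by rw [← hx'']; exact hv) hb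
      exact ⟨v', h1, by rw [h2, e h v hv]⟩
    have n' : ((FY R).pull f₀).Nrm := by
      unfold Fam.Nrm at hN ⊢
      rw [e _ _ (by
        rw [Category.id_comp, Category.assoc, D.e₁_pV, Category.comp_id]), hx'']
      exact hN
    have hrange : Set.range f₀ ⊆ Set.range (W₀ R).ι := by
      rw [range_ι_W₀]
      intro w hw
      exact ⟨⟨range_of_q1 R f₀ q1' hw, range_of_q2 R f₀ q2' hw⟩, range_of_nrm R f₀ n' hw⟩
    have hfac := IsOpenImmersion.lift_fac (W₀ R).ι f₀ hrange
    refine ⟨IsOpenImmersion.lift (W₀ R).ι f₀ hrange, ?_, ?_⟩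
    · show IsOpenImmersion.lift (W₀ R).ι f₀ hrange ≫ (W₀ R).ι ≫ (FY R).x = F.x
      rw [← Category.assoc, hfac, hx']
    · intro T' h v hv
      have hv0 : (h ≫ IsOpenImmersion.lift (W₀ R).ι f₀ hrange) ≫ (W₀ R).ι ≫ (FY R).x =
          v ≫ D.pV := by
        rw [Category.assoc, ← Category.assoc _ (W₀ R).ι, hfac, hx', hv]
      rw [(FY R).pull_ev (W₀ R).ι _ v hv0, Category.assoc, hfac]
      exact hev h v hv
  up_ext := by
    intro T _ f f' h0 h
    rw [← cancel_mono (W₀ R).ι]
    apply FY_ext R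
    · have : f ≫ (W₀ R).ι ≫ (FY R).x = f' ≫ (W₀ R).ι ≫ (FY R).x := h0
      simpa only [Category.assoc, FY_x] using this
    · intro T' k v hv
      have hv0 : (k ≫ f) ≫ (W₀ R).ι ≫ (FY R).x = v ≫ D.pV := by
        simpa only [Category.assoc, FY_x] using hv
      have hv1 : (k ≫ f') ≫ (W₀ R).ι ≫ (FY R).x = v ≫ D.pV := by
        have : f ≫ (W₀ R).ι ≫ (FY R).x = f' ≫ (W₀ R).ι ≫ (FY R).x := h0
        rw [Category.assoc, ← this, ← Category.assoc]
        exact hv0
      have := h k v hv0
      rw [(FY R).pull_ev (W₀ R).ι _ v hv0, (FY R).pull_ev (W₀ R).ι _ v hv1] at this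
      simpa only [Category.assoc] using this

theorem coindData_x : (coindData R hcl).FW.x = (W₀ R).ι ≫ R.pW := rfl

end data

/-- **Existence of the coinduction data.** -/
theorem exists_coindData (D : VData G) [IsAffine G.U] [Etale D.g₁] [IsFinite D.pV] [Flat D.pV]
    [LocallyOfFinitePresentation D.pV] [IsOpenImmersion D.ιV]
    (hcl : IsClosed (Set.range D.ιV)) (n : ℕ)
    (hb : letI := D.pV.appTop.hom.toAlgebra
      Nonempty (Module.Basis (Fin n) Γ(D.U₁, ⊤) Γ(D.V, ⊤))) :
    ∃ C : CoindData D, Etale C.FW.x := by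
  obtain ⟨R, hR1, hR2⟩ := exists_weilRes D.pV (qY D) n hb
  refine ⟨coindData R hcl, ?_⟩
  rw [coindData_x]
  infer_instance

end Groth.Agent.Lib.Helper4.Coind
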