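import Mathlib

/-!
# Local freeness of finite flat finitely presented algebras (helper4)

* `exists_free_away`: a finite flat finitely presented module becomes free of finite rank after
  inverting some `r ∉ 𝔭`.
* `basis_of_isPushout`: transport of such a basis to any pushout along a localization away from `r`.
-/

set_option autoImplicit false
set_option linter.style.haveILetI false
set_option linter.unusedSectionVars false

universe u

namespace Groth.Agent.Lib.Helper4.FreeLoc

open Module

theorem exists_free_away {A B : Type u} [CommRing A] [AddCommGroup B] [Module A B]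
    [Module.Finite A B] [Module.Flat A B] [Module.FinitePresentation A B] (𝔭 : Ideal A)
    [𝔭.IsPrime] :
    ∃ r : A, r ∉ 𝔭 ∧ ∃ n : ℕ,
      Nonempty (Basis (Fin n) (Localization.Away r) (LocalizedModule.Away r B)) := by
  have hfree : Module.Free (Localization.AtPrime 𝔭) (LocalizedModule 𝔭.primeCompl B) :=
    Module.free_of_flat_of_isLocalRing
  obtain ⟨r, hr, hr', _⟩ := Module.FinitePresentation.exists_free_localizedModule_powers
    𝔭.primeCompl (LocalizedModule.mkLinearMap 𝔭.primeCompl B) (Localization.AtPrime 𝔭)
  have : Nontrivial (Localization.Away r) :=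
    (show Localization (.powers r) →+* Localization.AtPrime 𝔭 from
      IsLocalization.map (M := .powers r) (T := 𝔭.primeCompl) _ (RingHom.id _)
        (Submonoid.powers_le.mpr hr)).domain_nontrivial
  refine ⟨r, hr, _, ⟨Module.finBasis (Localization.Away r) (LocalizedModule.Away r B)⟩⟩

theorem basis_of_isPushout {A A' B B' : Type u} [CommRing A] [CommRing A'] [CommRing B]
    [CommRing B'] [Algebra A A'] [Algebra A B] [Algebra A' B'] [Algebra B B'] [Algebra A B']
    [IsScalarTower A A' B'] [IsScalarTower A B B'] [Algebra.IsPushout A A' B B'] (r : A)
    [IsLocalization.Away r A'] {n : ℕ}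
    (b : Basis (Fin n) (Localization.Away r) (LocalizedModule.Away r B)) :
    Nonempty (Basis (Fin n) A' B') := by
  let f : B →ₗ[A] B' := (IsScalarTower.toAlgHom A B B').toLinearMap
  have hbc : IsBaseChange A' f := Algebra.IsPushout.out
  have hloc : IsLocalizedModule (Submonoid.powers r) f :=
    (isLocalizedModule_iff_isBaseChange (Submonoid.powers r) A' f).mpr hbc
  let e : Localization.Away r ≃ₐ[A] A' :=
    IsLocalization.algEquiv (Submonoid.powers r) (Localization.Away r) A'
  letI modL : Module (Localization.Away r) B' := Module.compHom B' (e : Localization.Away r →+* A')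
  haveI : IsScalarTower A (Localization.Away r) B' := by
    constructor
    intro a l x
    show e (a • l) • x = a • (e l • x)
    rw [map_smul, smul_assoc]
  let i0 : LocalizedModule (Submonoid.powers r) B ≃ₗ[A] B' :=
    IsLocalizedModule.iso (Submonoid.powers r) f
  let i1 : LocalizedModule (Submonoid.powers r) B ≃ₗ[Localization.Away r] B' :=
    i0.extendScalarsOfIsLocalization (Submonoid.powers r) (Localization.Away r)
  let b1 : Basis (Fin n) (Localization.Away r) B' := b.map i1
  exact ⟨b1.mapCoeffs e.toRingEquiv (fun c x => rfl)⟩

end Groth.Agent.Lib.Helper4.FreeLoc
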