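import Mathlib
import Groth.Agent.Lib.Helper4.FreeLoc

/-!
# A finite flat finitely presented morphism is free over an affine neighbourhood (helper4)
-/

set_option backward.isDefEq.respectTransparency false
set_option autoImplicit false
set_option linter.style.haveILetI false
set_option linter.unusedSectionVars false

universe u
open CategoryTheory CategoryTheory.Limits AlgebraicGeometry

namespace Groth.Agent.Lib.Helper4.FreeNbhd

open Groth.Agent.Lib.Helper4.FreeLoc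

theorem isoSpec_inv_appTop (X : Scheme.{u}) [IsAffine X] :
    X.isoSpec.inv.appTop = (Scheme.ΓSpecIso Γ(X, ⊤)).inv := by
  have h1 : X.isoSpec.inv.appTop ≫ X.isoSpec.hom.appTop = 𝟙 _ := by
    rw [← Scheme.Hom.comp_appTop, Iso.hom_inv_id]
    rfl
  have h2 : X.isoSpec.hom.appTop = (Scheme.ΓSpecIso Γ(X, ⊤)).hom := Scheme.toSpecΓ_appTop X
  rw [h2] at h1
  exact (Iso.comp_hom_eq_id _).mp h1

theorem exists_free_nbhd {U₁ V : Scheme.{u}} [IsAffine U₁] (pV : V ⟶ U₁) [IsFinite pV] [Flat pV]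
    [LocallyOfFinitePresentation pV] (u₁ : U₁) :
    ∃ (U' : Scheme.{u}) (j : U' ⟶ U₁) (u' : U'), IsAffine U' ∧ IsOpenImmersion j ∧ j u' = u₁ ∧
      ∀ (V' : Scheme.{u}) (top : V' ⟶ V) (pV' : V' ⟶ U'), IsPullback top pV' pV j →
        ∃ n : ℕ, letI := pV'.appTop.hom.toAlgebra
          Nonempty (Module.Basis (Fin n) Γ(U', ⊤) Γ(V', ⊤)) := by
  haveI : IsAffine V := isAffine_of_isAffineHom pV
  letI algAB : Algebra Γ(U₁, ⊤) Γ(V, ⊤) := pV.appTop.hom.toAlgebra
  haveI hfin : Module.Finite Γ(U₁, ⊤) Γ(V, ⊤) := pV.finite_appTop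
  haveI hflat : Module.Flat Γ(U₁, ⊤) Γ(V, ⊤) := pV.flat_appTop
  haveI hfp : Algebra.FinitePresentation Γ(U₁, ⊤) Γ(V, ⊤) :=
    (HasRingHomProperty.iff_of_isAffine (P := @LocallyOfFinitePresentation)).mp inferInstance
  haveI hmfp : Module.FinitePresentation Γ(U₁, ⊤) Γ(V, ⊤) :=
    Module.FinitePresentation.of_finite_of_finitePresentation _ _
  let pu : Spec Γ(U₁, ⊤) := U₁.isoSpec.hom u₁
  haveI : pu.asIdeal.IsPrime := pu.isPrime
  obtain ⟨r, hr, n, ⟨b⟩⟩ := exists_free_away (A := Γ(U₁, ⊤)) (B := Γ(V, ⊤)) pu.asIdeal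
  let L : Type u := Localization.Away r
  let φ : Γ(U₁, ⊤) ⟶ CommRingCat.of L := CommRingCat.ofHom (algebraMap Γ(U₁, ⊤) L)
  let j : Spec (.of L) ⟶ U₁ := Spec.map φ ≫ U₁.isoSpec.inv
  have hj : j.appTop = φ ≫ (Scheme.ΓSpecIso (.of L)).inv := by
    show (Spec.map φ ≫ U₁.isoSpec.inv).appTop = _
    rw [Scheme.Hom.comp_appTop, isoSpec_inv_appTop, ← Scheme.ΓSpecIso_inv_naturality]
  -- the point
  have hpu : pu ∈ Set.range (Spec.map φ) := by
    have := PrimeSpectrum.localization_away_comap_range L r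
    show pu ∈ Set.range (PrimeSpectrum.comap (algebraMap Γ(U₁, ⊤) L))
    rw [this]
    exact hr
  obtain ⟨u', hu'⟩ := hpu
  refine ⟨Spec (.of L), j, u', inferInstance, inferInstance, ?_, ?_⟩
  · show (Spec.map φ ≫ U₁.isoSpec.inv) u' = u₁
    rw [Scheme.Hom.comp_apply, hu']
    show U₁.isoSpec.inv (U₁.isoSpec.hom u₁) = u₁
    rw [← Scheme.Hom.comp_apply, Iso.hom_inv_id]; rfl
  · intro V' top pV' hpb
    haveI : IsAffine V' := IsAffine.of_isPullback hpb.flip
    have hpo : IsPushout pV.appTop j.appTop top.appTop pV'.appTop :=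
      isPushout_appTop_of_isPullback hpb
    letI algAL : Algebra Γ(U₁, ⊤) Γ(Spec (.of L), ⊤) := j.appTop.hom.toAlgebra
    letI algLB' : Algebra Γ(Spec (.of L), ⊤) Γ(V', ⊤) := pV'.appTop.hom.toAlgebra
    letI algBB' : Algebra Γ(V, ⊤) Γ(V', ⊤) := top.appTop.hom.toAlgebra
    letI algAB' : Algebra Γ(U₁, ⊤) Γ(V', ⊤) := (pV.appTop ≫ top.appTop).hom.toAlgebra
    haveI : IsScalarTower Γ(U₁, ⊤) Γ(V, ⊤) Γ(V', ⊤) := IsScalarTower.of_algebraMap_eq' rfl
    haveI : IsScalarTower Γ(U₁, ⊤) Γ(Spec (.of L), ⊤) Γ(V', ⊤) := by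
      apply IsScalarTower.of_algebraMap_eq'
      show (pV.appTop ≫ top.appTop).hom = (j.appTop ≫ pV'.appTop).hom
      rw [hpo.w]
    haveI hP : Algebra.IsPushout Γ(U₁, ⊤) Γ(Spec (.of L), ⊤) Γ(V, ⊤) Γ(V', ⊤) :=
      CommRingCat.isPushout_iff_isPushout.mp hpo.flip
    -- `Γ(Spec L)` is a localization away from `r`
    let e : L ≃ₐ[Γ(U₁, ⊤)] Γ(Spec (.of L), ⊤) :=
      { (Scheme.ΓSpecIso (.of L)).symm.commRingCatIsoToRingEquiv with
        commutes' := by
          intro a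
          show (Scheme.ΓSpecIso (.of L)).inv (algebraMap Γ(U₁, ⊤) L a) = j.appTop a
          rw [hj]
          rfl }
    haveI : IsLocalization.Away r Γ(Spec (.of L), ⊤) :=
      IsLocalization.isLocalization_of_algEquiv (Submonoid.powers r) e
    exact ⟨n, basis_of_isPushout r b⟩

end Groth.Agent.Lib.Helper4.FreeNbhd
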