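import Mathlib

/-!
# Finite unions of opens finite over the base (helper4)

If `f : X ⟶ Y` is separated and locally of finite type and `V₁ V₂` are opens of `X` finite over
`Y`, then so is `V₁ ⊔ V₂`; the same for finite suprema.
-/

set_option backward.isDefEq.respectTransparency false
set_option autoImplicit false
set_option linter.style.haveILetI false
set_option linter.unusedSectionVars false

universe u
open CategoryTheory CategoryTheory.Limits AlgebraicGeometry

namespace Groth.Agent.Lib.Helper4.FinSup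

variable {X Y : Scheme.{u}}

theorem quasiCompact_of_comp_surjective {X Y Z : Scheme.{u}} (c : X ⟶ Y) (h : Y ⟶ Z)
    [QuasiCompact (c ≫ h)] [Surjective c] : QuasiCompact h := by
  constructor
  intro U hU hU'
  have h1 : IsCompact ((c ≫ h) ⁻¹' U) := QuasiCompact.isCompact_preimage U hU hU'
  have h2 : h ⁻¹' U = c '' ((c ≫ h) ⁻¹' U) := by
    ext y
    constructor
    · intro hy
      obtain ⟨x, rfl⟩ := c.surjective y
      exact ⟨x, by simpa using hy, rfl⟩
    · rintro ⟨x, hx, rfl⟩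
      simpa using hx
  rw [h2]
  exact h1.image c.continuous

theorem isFinite_sup (f : X ⟶ Y) [LocallyOfFiniteType f] [IsSeparated f] (V₁ V₂ : X.Opens)
    (h₁ : IsFinite (V₁.ι ≫ f)) (h₂ : IsFinite (V₂.ι ≫ f)) : IsFinite ((V₁ ⊔ V₂).ι ≫ f) := by
  let j₁ : (V₁ : Scheme.{u}) ⟶ ↑(V₁ ⊔ V₂) := X.homOfLE le_sup_left
  let j₂ : (V₂ : Scheme.{u}) ⟶ ↑(V₁ ⊔ V₂) := X.homOfLE le_sup_right
  let c : (V₁ : Scheme.{u}) ⨿ (V₂ : Scheme.{u}) ⟶ ↑(V₁ ⊔ V₂) := coprod.desc j₁ j₂
  have hc : c ≫ (V₁ ⊔ V₂).ι ≫ f = coprod.desc (V₁.ι ≫ f) (V₂.ι ≫ f) := by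
    apply coprod.hom_ext
    · rw [coprod.inl_desc, coprod.inl_desc_assoc, Scheme.homOfLE_ι_assoc]
    · rw [coprod.inr_desc, coprod.inr_desc_assoc, Scheme.homOfLE_ι_assoc]
  have hfin : IsFinite (c ≫ (V₁ ⊔ V₂).ι ≫ f) := by rw [hc]; infer_instance
  have hsurj : Surjective c := by
    constructor
    intro x
    have hx : x.1 ∈ V₁ ⊔ V₂ := x.2
    rcases hx with hx | hx
    · refine ⟨(coprod.inl : (V₁ : Scheme.{u}) ⟶ _) ⟨x.1, hx⟩, ?_⟩
      rw [← Scheme.Hom.comp_apply, coprod.inl_desc]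
      exact Scheme.homOfLE_apply' _ _ _
    · refine ⟨(coprod.inr : (V₂ : Scheme.{u}) ⟶ _) ⟨x.1, hx⟩, ?_⟩
      rw [← Scheme.Hom.comp_apply, coprod.inr_desc]
      exact Scheme.homOfLE_apply' _ _ _
  have hUC : UniversallyClosed ((V₁ ⊔ V₂).ι ≫ f) := UniversallyClosed.of_comp_surjective c _
  have hQC : QuasiCompact ((V₁ ⊔ V₂).ι ≫ f) := quasiCompact_of_comp_surjective c _
  have hP : IsProper ((V₁ ⊔ V₂).ι ≫ f) := { }
  have hLQ : LocallyQuasiFinite ((V₁ ⊔ V₂).ι ≫ f) := by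
    rw [← Scheme.Hom.quasiFiniteLocus_eq_top_iff]
    ext x
    simp only [TopologicalSpace.Opens.coe_top, Set.mem_univ, iff_true]
    show ((V₁ ⊔ V₂).ι ≫ f).QuasiFiniteAt x
    rw [Scheme.Hom.quasiFiniteAt_comp_iff_of_isOpenImmersion]
    have hx : x.1 ∈ V₁ ⊔ V₂ := x.2
    rcases hx with hx | hx
    · have := (V₁.ι ≫ f).quasiFiniteAt ⟨x.1, hx⟩
      rw [Scheme.Hom.quasiFiniteAt_comp_iff_of_isOpenImmersion] at this
      exact this
    · have := (V₂.ι ≫ f).quasiFiniteAt ⟨x.1, hx⟩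
      rw [Scheme.Hom.quasiFiniteAt_comp_iff_of_isOpenImmersion] at this
      exact this
  exact IsFinite.of_isProper_of_locallyQuasiFinite _

theorem isFinite_bot (f : X ⟶ Y) : IsFinite ((⊥ : X.Opens).ι ≫ f) := by
  have : IsEmpty ((⊥ : X.Opens) : Scheme.{u}) := by
    constructor
    intro x
    exact x.2
  have : IsClosedImmersion ((⊥ : X.Opens).ι ≫ f) := inferInstance
  infer_instance

theorem isFinite_finset_sup (f : X ⟶ Y) [LocallyOfFiniteType f] [IsSeparated f] {ι : Type}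
    (V : ι → X.Opens) (h : ∀ i, IsFinite ((V i).ι ≫ f)) (s : Finset ι) :
    IsFinite ((s.sup V).ι ≫ f) := by
  classical
  induction s using Finset.induction_on with
  | empty => rw [Finset.sup_empty]; exact isFinite_bot f
  | insert a s _ ih => rw [Finset.sup_insert]; exact isFinite_sup f _ _ (h a) ih

theorem isFinite_iSup (f : X ⟶ Y) [LocallyOfFiniteType f] [IsSeparated f] {ι : Type} [Finite ι]
    (V : ι → X.Opens) (h : ∀ i, IsFinite ((V i).ι ≫ f)) : IsFinite ((⨆ i, V i).ι ≫ f) := by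
  classical
  haveI := Fintype.ofFinite ι
  rw [← Finset.sup_univ_eq_iSup]
  exact isFinite_finset_sup f V h _

end Groth.Agent.Lib.Helper4.FinSup
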