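import Mathlib
import Groth.Prelude.Def_Grpd
import Groth.Agent.Lib.Helper4.FinSup
import Groth.Agent.Lib.Helper13.EL3

/-!
# Quasi-splitting: the étale local finite piece (helper4)

`PreSetup G r`: an étale neighbourhood `(U₁, u₁) ⟶ (U, u)` with trivial residue field extension and
a clopen `V ⊂ R ×_{s,U} U₁`, finite over `U₁`, whose fibre over `u₁` consists exactly of the points
over the `r i`.
-/

set_option backward.isDefEq.respectTransparency false
set_option autoImplicit false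
set_option linter.style.haveILetI false
set_option linter.unusedSectionVars false

universe u
open CategoryTheory CategoryTheory.Limits AlgebraicGeometry

namespace Groth.Agent.Lib.Helper4.Coind

open Groth.Agent.Lib.helper13.EL Groth.Agent.Lib.Helper4.FinSup

variable {S : Scheme.{u}} {G : Grpd.GroupoidScheme S}

structure PreSetup (G : Grpd.GroupoidScheme S) {ι : Type} (r : ι → G.R) where
  U₁ : Scheme.{u}
  g₁ : U₁ ⟶ G.U
  u₁ : U₁
  etale : Etale g₁
  hbij : Function.Bijective (g₁.residueFieldMap u₁)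
  V : (pullback G.s g₁).Opens
  hfin : IsFinite (V.ι ≫ pullback.snd G.s g₁)
  hclosed : IsClosed (V : Set ↑(pullback G.s g₁))
  hpts : ∀ z : ↑(pullback G.s g₁), pullback.snd G.s g₁ z = u₁ →
    (z ∈ V ↔ ∃ i, pullback.fst G.s g₁ z = r i)

theorem exists_preSetup [IsSeparated G.s] [LocallyOfFinitePresentation G.s] (u : G.U) {ι : Type}
    [Finite ι] (r : ι → G.R) (hs : ∀ i, G.s (r i) = u) (hqf : ∀ i, G.s.QuasiFiniteAt (r i)) :
    ∃ P : PreSetup G r, P.g₁ P.u₁ = u := by
  obtain ⟨U₁, g, u₁, hE, hgu, hbij, V, v, hV⟩ :=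
    exists_etale_nbhd_of_quasiFiniteAt_finite G.s u r hs hqf
  refine ⟨{
    U₁ := U₁
    g₁ := g
    u₁ := u₁
    etale := hE
    hbij := hbij
    V := ⨆ i, V i
    hfin := isFinite_iSup (pullback.snd G.s g) V (fun i => (hV i).finite)
    hclosed := by
      rw [TopologicalSpace.Opens.coe_iSup]
      exact isClosed_iUnion_of_finite (fun i => (hV i).closed inferInstance)
    hpts := by
      intro z hz
      rw [TopologicalSpace.Opens.mem_iSup]
      constructor
      · rintro ⟨i, hi⟩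
        refine ⟨i, ?_⟩
        rw [(hV i).uniq z hi hz, (hV i).fst_eq]
      · rintro ⟨i, hi⟩
        refine ⟨i, ?_⟩
        have : z = v i := by
          apply eq_of_fst_eq_of_snd_eq
          · exact bijective_residueFieldMap_of_eq g hz.symm hbij
          · rw [hi, (hV i).fst_eq]
          · rw [hz, (hV i).snd_eq]
        rw [this]
        exact (hV i).mem }, hgu⟩

namespace PreSetup

variable {ι : Type} {r : ι → G.R} (P : PreSetup G r)

/-- refinement along an open immersion -/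
noncomputable def refine {U' : Scheme.{u}} (h : U' ⟶ P.U₁) [IsOpenImmersion h] (u' : U')
    (hu' : h u' = P.u₁) : PreSetup G r where
  U₁ := U'
  g₁ := h ≫ P.g₁
  u₁ := u'
  etale := by
    haveI := P.etale
    infer_instance
  hbij := by
    rw [Scheme.residueFieldMap_comp]
    have i1 : IsIso (P.g₁.residueFieldMap (h u')) :=
      (ConcreteCategory.isIso_iff_bijective _).mpr
        (bijective_residueFieldMap_of_eq P.g₁ hu'.symm P.hbij)
    exact ConcreteCategory.bijective_of_isIso _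
  V := (refineMap G.s P.g₁ h (h ≫ P.g₁) rfl) ⁻¹ᵁ P.V
  hfin := isFinite_refine G.s P.g₁ h (h ≫ P.g₁) rfl P.V P.hfin
  hclosed := P.hclosed.preimage (refineMap G.s P.g₁ h (h ≫ P.g₁) rfl).continuous
  hpts := by
    intro z hz
    have h1 : pullback.snd G.s P.g₁ (refineMap G.s P.g₁ h (h ≫ P.g₁) rfl z) = P.u₁ := by
      rw [refineMap_snd_apply, hz, hu']
    have h2 := P.hpts _ h1
    rw [refineMap_fst_apply] at h2
    exact h2

@[simp] theorem refine_U₁ {U' : Scheme.{u}} (h : U' ⟶ P.U₁) [IsOpenImmersion h] (u' : U')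
    (hu' : h u' = P.u₁) : (P.refine h u' hu').U₁ = U' := rfl

@[simp] theorem refine_g₁ {U' : Scheme.{u}} (h : U' ⟶ P.U₁) [IsOpenImmersion h] (u' : U')
    (hu' : h u' = P.u₁) : (P.refine h u' hu').g₁ = h ≫ P.g₁ := rfl

@[simp] theorem refine_u₁ {U' : Scheme.{u}} (h : U' ⟶ P.U₁) [IsOpenImmersion h] (u' : U')
    (hu' : h u' = P.u₁) : (P.refine h u' hu').u₁ = u' := rfl

theorem refine_V {U' : Scheme.{u}} (h : U' ⟶ P.U₁) [IsOpenImmersion h] (u' : U')
    (hu' : h u' = P.u₁) :
    (P.refine h u' hu').V = (refineMap G.s P.g₁ h (h ≫ P.g₁) rfl) ⁻¹ᵁ P.V := rfl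

/-- the identity section -/
noncomputable def ε : P.U₁ ⟶ pullback G.s P.g₁ :=
  pullback.lift (P.g₁ ≫ G.e) (𝟙 _) (by rw [Category.assoc, G.e_s, Category.comp_id, Category.id_comp])

@[reassoc (attr := simp)]
theorem ε_fst : P.ε ≫ pullback.fst G.s P.g₁ = P.g₁ ≫ G.e := pullback.lift_fst _ _ _

@[reassoc (attr := simp)]
theorem ε_snd : P.ε ≫ pullback.snd G.s P.g₁ = 𝟙 _ := pullback.lift_snd _ _ _

/-- the identity section lies in `V` -/
def HasId : Prop := ∀ x : P.U₁, P.ε x ∈ P.V

theorem ε_u₁_mem (he : ∃ i, r i = G.e (P.g₁ P.u₁)) : P.ε P.u₁ ∈ P.V := by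
  rw [P.hpts]
  · obtain ⟨i, hi⟩ := he
    exact ⟨i, by rw [← Scheme.Hom.comp_apply, ε_fst, Scheme.Hom.comp_apply, hi]⟩
  · rw [← Scheme.Hom.comp_apply, ε_snd]; rfl

theorem refine_ε {U' : Scheme.{u}} (h : U' ⟶ P.U₁) [IsOpenImmersion h] (u' : U')
    (hu' : h u' = P.u₁) :
    (P.refine h u' hu').ε ≫ refineMap G.s P.g₁ h (h ≫ P.g₁) rfl = h ≫ P.ε := by
  apply pullback.hom_ext
  · rw [Category.assoc, refineMap_fst, Category.assoc, ε_fst]
    exact (ε_fst _).trans (Category.assoc _ _ _)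
  · rw [Category.assoc, refineMap_snd, Category.assoc, ε_snd, Category.comp_id]
    have e : (P.refine h u' hu').ε ≫ pullback.snd G.s (h ≫ P.g₁) = 𝟙 U' :=
      (P.refine h u' hu').ε_snd
    rw [reassoc_of% e]
    exact Category.id_comp h

theorem refine_hasId {U' : Scheme.{u}} (h : U' ⟶ P.U₁) [IsOpenImmersion h] (u' : U')
    (hu' : h u' = P.u₁) (hr : ∀ x : U', P.ε (h x) ∈ P.V) : (P.refine h u' hu').HasId := by
  intro x
  have h1 : (refineMap G.s P.g₁ h (h ≫ P.g₁) rfl) ((P.refine h u' hu').ε x) = P.ε (h x) := by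
    have h2 := congrArg (fun f : U' ⟶ pullback G.s P.g₁ => f x) (P.refine_ε h u' hu')
    exact h2
  show refineMap G.s P.g₁ h (h ≫ P.g₁) rfl ((P.refine h u' hu').ε x) ∈ P.V
  rw [h1]
  exact hr x

theorem refine_hasId_of_hasId {U' : Scheme.{u}} (h : U' ⟶ P.U₁) [IsOpenImmersion h] (u' : U')
    (hu' : h u' = P.u₁) (hid : P.HasId) : (P.refine h u' hu').HasId :=
  P.refine_hasId h u' hu' (fun x => hid (h x))

/-- the cartesian square relating the refined piece to the original one -/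
theorem refine_isPullback {U' : Scheme.{u}} (h : U' ⟶ P.U₁) [IsOpenImmersion h] (u' : U')
    (hu' : h u' = P.u₁) :
    IsPullback ((refineMap G.s P.g₁ h (h ≫ P.g₁) rfl) ∣_ P.V)
      ((P.refine h u' hu').V.ι ≫ pullback.snd G.s (P.refine h u' hu').g₁)
      (P.V.ι ≫ pullback.snd G.s P.g₁) h := by
  have h1 := isPullback_morphismRestrict (refineMap G.s P.g₁ h (h ≫ P.g₁) rfl) P.V
  have h2 := isPullback_refineMap G.s P.g₁ h (h ≫ P.g₁) rfl
  exact h1.paste_vert h2

end PreSetup

end Groth.Agent.Lib.Helper4.Coind
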