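import Mathlib
import Groth.Prelude.Def_Grpd
import Groth.Agent.Lib.Helper4.QSplitSetup1
import Groth.Agent.Lib.Helper4.BasePt3
import Groth.Agent.Lib.Helper4.CoindBuild3
import Groth.Agent.Lib.Helper4.FreeNbhd

/-!
# Quasi-splitting: from the étale local finite piece to the coinduction data (helper4)
-/

set_option backward.isDefEq.respectTransparency false
set_option autoImplicit false
set_option linter.style.haveILetI false
set_option linter.unusedSectionVars false

universe u
open CategoryTheory CategoryTheory.Limits AlgebraicGeometry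

namespace Groth.Agent.Lib.Helper4.Coind

open Groth.Agent.Lib.helper13.EL Groth.Agent.Lib.Helper4.FinSup Groth.Agent.Lib.Helper4.GrpdTc
  Groth.Agent.Lib.Helper4.FreeNbhd

variable {S : Scheme.{u}} {G : Grpd.GroupoidScheme S}

namespace PreSetup

variable {ι : Type} {r : ι → G.R} (P : PreSetup G r)

theorem range_ε_subset (hid : P.HasId) : Set.range P.ε ⊆ Set.range P.V.ι := by
  rintro _ ⟨x, rfl⟩
  rw [Scheme.Opens.range_ι]
  exact hid x

/-- the `VData` of a pre-setup over an affine base containing the identity section -/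
noncomputable def toVData (hA : IsAffine P.U₁) (hid : P.HasId) : VData G where
  U₁ := P.U₁
  V := ↑P.V
  g₁ := P.g₁
  aV := P.V.ι ≫ pullback.fst G.s P.g₁
  pV := P.V.ι ≫ pullback.snd G.s P.g₁
  aV_s := by rw [Category.assoc, pullback.condition, Category.assoc]
  V_ext := by
    intro T v v' h1 h2
    rw [← cancel_mono P.V.ι]
    apply pullback.hom_ext
    · simpa only [Category.assoc] using h1
    · simpa only [Category.assoc] using h2
  e₁ := IsOpenImmersion.lift P.V.ι P.ε (P.range_ε_subset hid)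
  e₁_aV := by
    rw [← Category.assoc, IsOpenImmersion.lift_fac, ε_fst]
  e₁_pV := by
    rw [← Category.assoc, IsOpenImmersion.lift_fac, ε_snd]
  affV := by
    haveI := P.hfin
    exact isAffine_of_isAffineHom (P.V.ι ≫ pullback.snd G.s P.g₁)
  affU₁ := hA

theorem toVData_ιV (hA : IsAffine P.U₁) (hid : P.HasId) : (P.toVData hA hid).ιV = P.V.ι := by
  apply pullback.hom_ext
  · rw [VData.ιV_fst]; rfl
  · rw [VData.ιV_snd]; rfl

theorem toVData_pV (hA : IsAffine P.U₁) (hid : P.HasId) :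
    (P.toVData hA hid).pV = P.V.ι ≫ pullback.snd G.s P.g₁ := rfl

instance (hA : IsAffine P.U₁) (hid : P.HasId) : Etale (P.toVData hA hid).g₁ := P.etale

instance (hA : IsAffine P.U₁) (hid : P.HasId) : IsFinite (P.toVData hA hid).pV := P.hfin

instance (hA : IsAffine P.U₁) (hid : P.HasId) [Flat G.s] : Flat (P.toVData hA hid).pV := by
  rw [toVData_pV]; infer_instance

instance (hA : IsAffine P.U₁) (hid : P.HasId) [LocallyOfFinitePresentation G.s] :
    LocallyOfFinitePresentation (P.toVData hA hid).pV := by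
  rw [toVData_pV]; infer_instance

instance (hA : IsAffine P.U₁) (hid : P.HasId) : IsOpenImmersion (P.toVData hA hid).ιV := by
  rw [toVData_ιV]; infer_instance

theorem isClosed_range_ιV (hA : IsAffine P.U₁) (hid : P.HasId) :
    IsClosed (Set.range (P.toVData hA hid).ιV) := by
  rw [toVData_ιV]
  have h := P.hclosed
  rw [← Scheme.Opens.range_ι P.V] at h
  exact h

/-- the pointed data of a pre-setup -/
noncomputable def toPtData (hA : IsAffine P.U₁) (hid : P.HasId) (ht : ∀ i, G.t (r i) = P.g₁ P.u₁)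
    (hi : ∀ i, ∃ j, G.i (r i) = r j)
    (hc : ∀ {T' : Scheme.{u}} (α β : T' ⟶ G.R), α ≫ G.s = β ≫ G.t → ∀ t' : T',
      (∃ j, α t' = r j) → (∃ i, β t' = r i) → ∃ k, (tc G α β) t' = r k) :
    PtData (P.toVData hA hid) where
  ι := ι
  r := r
  u₁ := P.u₁
  hbij := P.hbij
  hV1 := by
    intro v hv
    have h1 : pullback.snd G.s P.g₁ (P.V.ι v) = P.u₁ := hv
    have hmem : P.V.ι v ∈ Set.range P.V.ι := ⟨v, rfl⟩
    rw [Scheme.Opens.range_ι P.V] at hmem
    exact (P.hpts _ h1).mp hmem
  hV2 := by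
    intro z hz hi
    rw [toVData_ιV]
    have := (P.hpts z hz).mpr hi
    exact (Set.ext_iff.mp (Scheme.Opens.range_ι P.V) z).mpr this
  ht := ht
  hi := hi
  hc := hc

/-- shrinking to an affine neighbourhood on which the identity section lies in `V` -/
theorem exists_affine_hasId (he : ∃ i, r i = G.e (P.g₁ P.u₁)) :
    ∃ P' : PreSetup G r, P'.g₁ P'.u₁ = P.g₁ P.u₁ ∧ IsAffine P'.U₁ ∧ P'.HasId := by
  have hmem : P.u₁ ∈ P.ε ⁻¹ᵁ P.V := P.ε_u₁_mem he
  obtain ⟨_, ⟨W, hW, rfl⟩, hxW, hWV⟩ :=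
    P.U₁.isBasis_affineOpens.exists_subset_of_mem_open hmem (P.ε ⁻¹ᵁ P.V).2
  let W' : P.U₁.Opens := W
  let u' : ↥(W' : Scheme.{u}) := ⟨P.u₁, hxW⟩
  have hu' : W'.ι u' = P.u₁ := rfl
  refine ⟨P.refine W'.ι u' hu', rfl, hW, ?_⟩
  apply P.refine_hasId
  intro x
  exact hWV x.2

/-- shrinking to an affine neighbourhood over which `V` is free -/
theorem exists_free [Flat G.s] [LocallyOfFinitePresentation G.s] (hA : IsAffine P.U₁)
    (hid : P.HasId) :
    ∃ (P' : PreSetup G r) (hA' : IsAffine P'.U₁) (hid' : P'.HasId) (n : ℕ),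
      P'.g₁ P'.u₁ = P.g₁ P.u₁ ∧
      (letI := (P'.toVData hA' hid').pV.appTop.hom.toAlgebra;
        Nonempty (Module.Basis (Fin n) Γ(VData.U₁ (P'.toVData hA' hid'), ⊤)
          Γ(VData.V (P'.toVData hA' hid'), ⊤))) := by
  haveI := hA
  haveI := P.hfin
  obtain ⟨U', j, u', hU', hj, hju', hbasis⟩ :=
    exists_free_nbhd (P.V.ι ≫ pullback.snd G.s P.g₁) P.u₁
  obtain ⟨n, hn⟩ := hbasis _ _ _ (P.refine_isPullback j u' hju')
  refine ⟨P.refine j u' hju', hU', P.refine_hasId_of_hasId j u' hju' hid, n, ?_, hn⟩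
  show (j ≫ P.g₁) u' = _
  rw [Scheme.Hom.comp_apply, hju']

end PreSetup

end Groth.Agent.Lib.Helper4.Coind
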