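import Mathlib
import Groth.Prelude.Def_Grpd
import Groth.Agent.Lib.Helper4.QSplitSetup2

/-!
# Quasi-splitting of groupoid schemes: the general theorem (helper4)

Let `G` be a groupoid scheme with `U` affine and `s` separated, flat and locally of finite
presentation, `u ∈ U` and `r i` a finite family of arrows from `u` to `u` at which `s` is
quasi-finite, containing `e(u)` and stable under inverse and composition.  Then there is an
elementary étale neighbourhood `(U', u') ⟶ (U, u)` with `U'` affine such that the restriction of `G`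
to `U'` contains an open subgroupoid `P` with `s|_P`, `t|_P` finite containing all arrows from `u'`
to `u'` over the `r i`.
-/

set_option backward.isDefEq.respectTransparency false
set_option autoImplicit false
set_option linter.style.haveILetI false
set_option linter.unusedSectionVars false

universe u
open CategoryTheory CategoryTheory.Limits AlgebraicGeometry IsLocalRing

namespace Groth.Agent.Lib.Helper4.Coind

open Groth.Agent.Lib.helper13.EL Groth.Agent.Lib.Helper4.GrpdTc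
  Groth.Agent.Lib.Helper4.GrpdRestrGen

variable {S : Scheme.{u}}

theorem exists_split (G : Grpd.GroupoidScheme S) [IsAffine G.U] [IsSeparated G.s] [Flat G.s]
    [LocallyOfFinitePresentation G.s] (u : G.U) {ι : Type} [Finite ι] (r : ι → G.R)
    (hs : ∀ i, G.s (r i) = u) (ht : ∀ i, G.t (r i) = u) (hqf : ∀ i, G.s.QuasiFiniteAt (r i))
    (he : ∃ i, r i = G.e u) (hi : ∀ i, ∃ j, G.i (r i) = r j)
    (hc : ∀ {T' : Scheme.{u}} (α β : T' ⟶ G.R), α ≫ G.s = β ≫ G.t → ∀ t' : T',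
      (∃ j, α t' = r j) → (∃ i, β t' = r i) → ∃ k, (tc G α β) t' = r k) :
    ∃ (G' : Grpd.GroupoidScheme S) (φ : Grpd.GroupoidScheme.Hom G' G) (u' : ↥G'.U),
      IsAffine G'.U ∧ Etale φ.fU ∧ φ.fU u' = u ∧ IsIso (φ.fU.residueFieldMap u') ∧
      IsPullback φ.fR G'.j G.j
        (pullback.map G'.pU G'.pU G.pU G.pU φ.fU φ.fU (𝟙 S)
          ((Category.comp_id _).trans φ.fU_over.symm) ((Category.comp_id _).trans φ.fU_over.symm)) ∧
      ∃ (P : Scheme.{u}) (ιP : P ⟶ G'.R), IsOpenImmersion ιP ∧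
        (∃ eP : G'.U ⟶ P, eP ≫ ιP = G'.e) ∧ (∃ iP : P ⟶ P, iP ≫ ιP = ιP ≫ G'.i) ∧
        (∃ cP : pullback (ιP ≫ G'.s) (ιP ≫ G'.t) ⟶ P,
          cP ≫ ιP = pullback.map (ιP ≫ G'.s) (ιP ≫ G'.t) G'.s G'.t ιP ιP (𝟙 G'.U)
            (Category.comp_id _) (Category.comp_id _) ≫ G'.c) ∧
        IsFinite (ιP ≫ G'.s) ∧ IsFinite (ιP ≫ G'.t) ∧
        ∀ r' : ↥G'.R, G'.s r' = u' → G'.t r' = u' → (∃ i, φ.fR r' = r i) →
          ∃ p : ↥P, ιP p = r' := by
  obtain ⟨P₀, hP₀⟩ := exists_preSetup u r hs hqf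
  obtain ⟨P₁, h1, hA₁, hid₁⟩ := P₀.exists_affine_hasId (by rw [hP₀]; exact he)
  obtain ⟨P₂, hA₂, hid₂, n, h2, hb⟩ := P₁.exists_free hA₁ hid₁
  have hu : P₂.g₁ P₂.u₁ = u := h2.trans (h1.trans hP₀)
  let E : PtData (P₂.toVData hA₂ hid₂) :=
    P₂.toPtData hA₂ hid₂ (by intro i; rw [hu, ht]) hi hc
  obtain ⟨C, hC⟩ := exists_coindData (P₂.toVData hA₂ hid₂) (P₂.isClosed_range_ιV hA₂ hid₂) n hb
  haveI : Etale C.FW.x := hC
  haveI : Etale C.g := inferInstance
  obtain ⟨m1, m2, m3, m4, m5, m6⟩ := C.main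
  refine ⟨C.d.restr, C.d.hom, E.w₀ C, C.affW, (inferInstance : Etale C.g), ?_, E.isIso_g_w₀ C,
    C.d.isPullback, C.P, C.ψ, m1, m2, m3, m4, m5, m6, ?_⟩
  · exact (E.g_w₀ C).trans hu
  · intro r' hs' ht' hr'
    exact E.mem_range_ψ C r' hs' ht' hr'

end Groth.Agent.Lib.Helper4.Coind
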