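import Mathlib
import Groth.Prelude.Def_Grpd
import Groth.Prelude.Def_Dual3
import Groth.Agent.Lib.Helper4.QSplitMain

/-!
# Quasi-splitting of groupoid schemes: the version for finite sets of arrows (helper4)
-/

set_option backward.isDefEq.respectTransparency false
set_option autoImplicit false
set_option linter.style.haveILetI false
set_option linter.unusedSectionVars false

universe u
open CategoryTheory CategoryTheory.Limits AlgebraicGeometry IsLocalRing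

namespace Groth.Agent.Lib.Helper4.Coind

open Groth.Agent.Lib.helper13.EL Groth.Agent.Lib.Helper4.GrpdTc
  Groth.Agent.Lib.Helper4.GrpdRestrGen

variable {S : Scheme.{u}}

theorem quasiFiniteAt_of_dual3 {X Y : Scheme.{u}} (g : X ⟶ Y) [LocallyOfFiniteType g] (x : X)
    (h : Dual3.QuasiFiniteAt g x) : g.QuasiFiniteAt x :=
  Scheme.Hom.quasiFiniteAt_iff_isOpen_singleton_asFiber.mpr h

theorem exists_split_set (G : Grpd.GroupoidScheme S) [IsAffine G.U] [IsSeparated G.s] [Flat G.s]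
    [LocallyOfFinitePresentation G.s] (u : G.U) (Z₀ : Set G.R) (hZ₀ : Z₀.Finite)
    (hs : ∀ r ∈ Z₀, G.s r = u) (ht : ∀ r ∈ Z₀, G.t r = u)
    (hqf : ∀ r ∈ Z₀, Dual3.QuasiFiniteAt G.s r)
    (he : G.e u ∈ Z₀) (hi : ∀ r ∈ Z₀, G.i r ∈ Z₀)
    (hc : ∀ (L : Type u) [Field L] (α β : Spec (.of L) ⟶ G.R), α ≫ G.s = β ≫ G.t →
      α (closedPoint L) ∈ Z₀ → β (closedPoint L) ∈ Z₀ → (tc G α β) (closedPoint L) ∈ Z₀) :
    ∃ (G' : Grpd.GroupoidScheme S) (φ : Grpd.GroupoidScheme.Hom G' G) (u' : ↥G'.U),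
      IsAffine G'.U ∧ Etale φ.fU ∧ φ.fU u' = u ∧ IsIso (φ.fU.residueFieldMap u') ∧
      IsPullback φ.fR G'.j G.j
        (pullback.map G'.pU G'.pU G.pU G.pU φ.fU φ.fU (𝟙 S)
          ((Category.comp_id _).trans φ.fU_over.symm) ((Category.comp_id _).trans φ.fU_over.symm)) ∧
      ∃ (P : Scheme.{u}) (ιP : P ⟶ G'.R), IsOpenImmersion ιP ∧
        (∃ eP : G'.U ⟶ P, eP ≫ ιP = G'.e) ∧ (∃ iP : P ⟶ P, iP ≫ ιP = ιP ≫ G'.i) ∧
        (∃ cP : pullback (ιP ≫ G'.s) (ιP ≫ G'.t) ⟶ P,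
          cP ≫ ιP = pullback.map (ιP ≫ G'.s) (ιP ≫ G'.t) G'.s G'.t ιP ιP (𝟙 G'.U)
            (Category.comp_id _) (Category.comp_id _) ≫ G'.c) ∧
        IsFinite (ιP ≫ G'.s) ∧ IsFinite (ιP ≫ G'.t) ∧
        ∀ r' : ↥G'.R, G'.s r' = u' → G'.t r' = u' → φ.fR r' ∈ Z₀ → ∃ p : ↥P, ιP p = r' := by
  haveI : Finite ↥Z₀ := hZ₀.to_subtype
  obtain ⟨n, ⟨eq⟩⟩ := Finite.exists_equiv_fin ↥Z₀
  let r : Fin n → G.R := fun k => (eq.symm k).1
  have hr : ∀ k, r k ∈ Z₀ := fun k => (eq.symm k).2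
  have hr' : ∀ x ∈ Z₀, ∃ k, x = r k := by
    intro x hx
    refine ⟨eq ⟨x, hx⟩, ?_⟩
    show x = (eq.symm (eq ⟨x, hx⟩)).1
    rw [Equiv.symm_apply_apply]
  obtain ⟨G', φ, u', h1, h2, h3, h4, h5, P, ιP, h6, h7, h8, h9, h10, h11, h12⟩ :=
    exists_split G u r (fun k => hs _ (hr k)) (fun k => ht _ (hr k))
      (fun k => quasiFiniteAt_of_dual3 G.s _ (hqf _ (hr k)))
      (by obtain ⟨k, hk⟩ := hr' _ he; exact ⟨k, hk.symm⟩)
      (by
        intro k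
        obtain ⟨j, hj⟩ := hr' _ (hi _ (hr k))
        exact ⟨j, hj⟩)
      (by
        intro T' α β hαβ t' ⟨j, hj⟩ ⟨i, hi'⟩
        let κ : Type u := T'.residueField t'
        let k : Spec (.of κ) ⟶ T' := T'.fromSpecResidueField t'
        have hk : ∀ p, k p = t' := fun p => Scheme.fromSpecResidueField_apply _ _
        have h1 : (k ≫ α) ≫ G.s = (k ≫ β) ≫ G.t := by
          rw [Category.assoc, Category.assoc, hαβ]
        have h2 := hc κ (k ≫ α) (k ≫ β) h1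
          (by rw [Scheme.Hom.comp_apply, hk, hj]; exact hr j)
          (by rw [Scheme.Hom.comp_apply, hk, hi']; exact hr i)
        rw [← pre_tc G k α β hαβ, Scheme.Hom.comp_apply, hk] at h2
        obtain ⟨m, hm⟩ := hr' _ h2
        exact ⟨m, hm⟩)
  refine ⟨G', φ, u', h1, h2, h3, h4, h5, P, ιP, h6, h7, h8, h9, h10, h11, ?_⟩
  intro r' hs' ht' hmem
  obtain ⟨k, hk⟩ := hr' _ hmem
  exact h12 r' hs' ht' ⟨k, hk⟩

end Groth.Agent.Lib.Helper4.Coind
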