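import Mathlib
import Groth.Prelude.Def_Grpd
import Groth.Prelude.Def_Dual3
import Groth.Agent.Lib.Helper4.QSplitSet

/-!
# Quasi-split, strongly split and split étale neighbourhoods of groupoid schemes (helper4)
-/

set_option backward.isDefEq.respectTransparency false
set_option autoImplicit false
set_option linter.style.haveILetI false
set_option linter.unusedSectionVars false

universe u
open CategoryTheory CategoryTheory.Limits AlgebraicGeometry IsLocalRing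
open Grpd

namespace Groth.Agent.Lib.Helper4.Coind

open Groth.Agent.Lib.helper13.EL Groth.Agent.Lib.Helper4.GrpdTc
  Groth.Agent.Lib.Helper4.GrpdRestrGen Groth.Agent.Lib.Helper4.BasePt

variable {S : Scheme.{u}}

theorem stronglySplit (S : Scheme.{u}) (G : Grpd.GroupoidScheme S) [IsAffine G.U]
    [IsSeparated G.s] [IsSeparated G.t] [Flat G.s] [Flat G.t]
    [LocallyOfFinitePresentation G.s] [LocallyOfFinitePresentation G.t]
    (u : ↥G.U) (hfin : Set.Finite {r : ↥G.R | G.s r = u ∧ G.t r = u})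
    (hqf : ∀ r : ↥G.R, G.s r = u → G.t r = u → Dual3.QuasiFiniteAt G.s r) :
    ∃ (G' : Grpd.GroupoidScheme S) (φ : Grpd.GroupoidScheme.Hom G' G) (u' : ↥G'.U),
      IsAffine G'.U ∧ Etale φ.fU ∧ φ.fU u' = u ∧ IsIso (φ.fU.residueFieldMap u') ∧
      IsPullback φ.fR G'.j G.j
        (pullback.map G'.pU G'.pU G.pU G.pU φ.fU φ.fU (𝟙 S)
          ((Category.comp_id _).trans φ.fU_over.symm) ((Category.comp_id _).trans φ.fU_over.symm)) ∧
      ∃ (P : Scheme.{u}) (ιP : P ⟶ G'.R), IsOpenImmersion ιP ∧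
        (∃ eP : G'.U ⟶ P, eP ≫ ιP = G'.e) ∧ (∃ iP : P ⟶ P, iP ≫ ιP = ιP ≫ G'.i) ∧
        (∃ cP : pullback (ιP ≫ G'.s) (ιP ≫ G'.t) ⟶ P,
          cP ≫ ιP = pullback.map (ιP ≫ G'.s) (ιP ≫ G'.t) G'.s G'.t ιP ιP (𝟙 G'.U)
            (Category.comp_id _) (Category.comp_id _) ≫ G'.c) ∧
        IsFinite (ιP ≫ G'.s) ∧ IsFinite (ιP ≫ G'.t) ∧
        ∀ r' : ↥G'.R, G'.s r' = u' → G'.t r' = u' → ∃ p : ↥P, ιP p = r' := by
  obtain ⟨G', φ, u', h1, h2, h3, h4, h5, P, ιP, h6, h7, h8, h9, h10, h11, h12⟩ :=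
    exists_split_set G u {r | G.s r = u ∧ G.t r = u} hfin (fun r h => h.1) (fun r h => h.2)
      (fun r h => hqf r h.1 h.2)
      ⟨by rw [← Scheme.Hom.comp_apply, G.e_s]; rfl, by rw [← Scheme.Hom.comp_apply, G.e_t]; rfl⟩
      (fun r h => ⟨by rw [← Scheme.Hom.comp_apply, G.i_s]; exact h.2,
        by rw [← Scheme.Hom.comp_apply, G.i_t]; exact h.1⟩)
      (by
        intro L _ α β hαβ hα hβ
        refine ⟨?_, ?_⟩
        · rw [← Scheme.Hom.comp_apply, tc_s G α β hαβ, Scheme.Hom.comp_apply]; exact hβ.1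
        · rw [← Scheme.Hom.comp_apply, tc_t G α β hαβ, Scheme.Hom.comp_apply]; exact hα.2)
  refine ⟨G', φ, u', h1, h2, h3, h4, h5, P, ιP, h6, h7, h8, h9, h10, h11, ?_⟩
  intro r' hs' ht'
  apply h12 r' hs' ht'
  refine ⟨?_, ?_⟩
  · rw [← Scheme.Hom.comp_apply, φ.comm_s, Scheme.Hom.comp_apply, hs', h3]
  · rw [← Scheme.Hom.comp_apply, φ.comm_t, Scheme.Hom.comp_apply, ht', h3]

theorem quasiSplit (S : Scheme.{u}) (G : Grpd.GroupoidScheme S) [IsAffine G.U]
    [IsSeparated G.s] [IsSeparated G.t] [Flat G.s] [Flat G.t]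
    [LocallyOfFinitePresentation G.s] [LocallyOfFinitePresentation G.t]
    (u : ↥G.U) (hqf : Dual3.QuasiFiniteAt G.s (G.e u)) :
    ∃ (G' : Grpd.GroupoidScheme S) (φ : Grpd.GroupoidScheme.Hom G' G) (u' : ↥G'.U),
      IsAffine G'.U ∧ Etale φ.fU ∧ φ.fU u' = u ∧ IsIso (φ.fU.residueFieldMap u') ∧
      IsPullback φ.fR G'.j G.j
        (pullback.map G'.pU G'.pU G.pU G.pU φ.fU φ.fU (𝟙 S)
          ((Category.comp_id _).trans φ.fU_over.symm) ((Category.comp_id _).trans φ.fU_over.symm)) ∧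
      ∃ (P : Scheme.{u}) (ιP : P ⟶ G'.R), IsOpenImmersion ιP ∧
        (∃ eP : G'.U ⟶ P, eP ≫ ιP = G'.e) ∧ (∃ iP : P ⟶ P, iP ≫ ιP = ιP ≫ G'.i) ∧
        (∃ cP : pullback (ιP ≫ G'.s) (ιP ≫ G'.t) ⟶ P,
          cP ≫ ιP = pullback.map (ιP ≫ G'.s) (ιP ≫ G'.t) G'.s G'.t ιP ιP (𝟙 G'.U)
            (Category.comp_id _) (Category.comp_id _) ≫ G'.c) ∧
        IsFinite (ιP ≫ G'.s) ∧ IsFinite (ιP ≫ G'.t) := by
  have hes : G.s (G.e u) = u := by rw [← Scheme.Hom.comp_apply, G.e_s]; rfl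
  have het : G.t (G.e u) = u := by rw [← Scheme.Hom.comp_apply, G.e_t]; rfl
  obtain ⟨G', φ, u', h1, h2, h3, h4, h5, P, ιP, h6, h7, h8, h9, h10, h11, h12⟩ :=
    exists_split_set G u {G.e u} (Set.finite_singleton _)
      (fun r h => by rw [Set.mem_singleton_iff.mp h]; exact hes)
      (fun r h => by rw [Set.mem_singleton_iff.mp h]; exact het)
      (fun r h => by rw [Set.mem_singleton_iff.mp h]; exact hqf)
      (Set.mem_singleton _)
      (fun r h => by
        rw [Set.mem_singleton_iff.mp h, Set.mem_singleton_iff, ← Scheme.Hom.comp_apply, e_i])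
      (by
        intro L _ α β hαβ hα hβ
        have hα' : α = (α ≫ G.s) ≫ G.e :=
          factor_section G.s G.e G.e_s u α (Set.mem_singleton_iff.mp hα)
        have hβ' : β = (β ≫ G.s) ≫ G.e :=
          factor_section G.s G.e G.e_s u β (Set.mem_singleton_iff.mp hβ)
        have hβt : β ≫ G.t = β ≫ G.s := by
          conv_lhs => rw [hβ']
          rw [Category.assoc, G.e_t, Category.comp_id]
        have hβ'' : β = (α ≫ G.s) ≫ G.e := by rw [hαβ, hβt]; exact hβ'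
        have e1 : tc G α β = α := by
          rw [hβ'']
          exact tc_e G α (α ≫ G.s) rfl
        rw [e1]
        exact hα)
  exact ⟨G', φ, u', h1, h2, h3, h4, h5, P, ιP, h6, h7, h8, h9, h10, h11⟩

end Groth.Agent.Lib.Helper4.Coind
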