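import Mathlib

/-!
# Factoring valuative squares through the residue field of the generic point
-/

set_option backward.isDefEq.respectTransparency false
set_option backward.isDefEq.respectTransparency.types false
set_option autoImplicit false
universe u
open CategoryTheory AlgebraicGeometry

namespace Groth.Agent.Lib.helper4.ValFactor

/-- A morphism from the spectrum of a local ring whose closed point lands in an affine open
factors through that affine open. -/
theorem exists_factor_fromSpec {X : Scheme.{u}} {R : CommRingCat.{u}} [IsLocalRing R]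
    (φ : Spec R ⟶ X) {W : X.Opens} (hW : IsAffineOpen W)
    (hx : φ (IsLocalRing.closedPoint R) ∈ W) :
    ∃ α : Γ(X, W) ⟶ R, Spec.map α ≫ hW.fromSpec = φ := by
  have hle : (⊤ : (Spec R).Opens) ≤ φ ⁻¹ᵁ W :=
    (Scheme.preimage_eq_top_of_closedPoint_mem φ hx).ge
  have := IsAffineOpen.SpecMap_appLE_fromSpec φ hW (isAffineOpen_top _) hle
  rw [IsAffineOpen.fromSpec_top, Iso.eq_inv_comp, Scheme.isoSpec_Spec_hom] at this
  refine ⟨φ.appLE W ⊤ hle ≫ (Scheme.ΓSpecIso R).hom, ?_⟩
  rw [Spec.map_comp, Category.assoc]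
  exact this

/-- Uniqueness of the factorization through an affine open. -/
theorem factor_fromSpec_unique {X : Scheme.{u}} {R : CommRingCat.{u}}
    {W : X.Opens} (hW : IsAffineOpen W) (α β : Γ(X, W) ⟶ R)
    (h : Spec.map α ≫ hW.fromSpec = Spec.map β ≫ hW.fromSpec) : α = β := by
  have : Mono hW.fromSpec := inferInstance
  exact Spec.map_injective ((cancel_mono hW.fromSpec).mp h)


/-- The restriction of a field embedding to the induced valuation rings is a local
homomorphism. -/
theorem isLocalHom_of_comap {k K : Type u} [Field k] [Field K] (R : ValuationSubring K)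
    (g : k →+* K) (ρ : ↥(R.comap g) →+* ↥R)
    (hρ : ∀ x : ↥(R.comap g), ((ρ x : ↥R) : K) = g (x : k)) : IsLocalHom ρ := by
  constructor
  intro x hx
  obtain ⟨r, hr⟩ := hx.exists_right_inv
  have h1 : g (x : k) * (r : K) = 1 := by
    rw [← hρ]
    exact_mod_cast congrArg Subtype.val hr
  have hx0 : (x : k) ≠ 0 := by
    intro h0
    rw [h0, map_zero, zero_mul] at h1
    exact zero_ne_one h1
  have h2 : g ((x : k)⁻¹) = (r : K) := by
    rw [map_inv₀]
    exact inv_eq_of_mul_eq_one_right h1
  have h3 : (x : k)⁻¹ ∈ R.comap g := by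
    rw [ValuationSubring.mem_comap, h2]
    exact r.2
  refine IsUnit.of_mul_eq_one (⟨(x : k)⁻¹, h3⟩ : ↥(R.comap g)) ?_
  apply Subtype.ext
  show (x : k) * (x : k)⁻¹ = 1
  exact mul_inv_cancel₀ hx0

theorem injective_of_comap {k K : Type u} [Field k] [Field K] (R : ValuationSubring K)
    (g : k →+* K) (ρ : ↥(R.comap g) →+* ↥R)
    (hρ : ∀ x : ↥(R.comap g), ((ρ x : ↥R) : K) = g (x : k)) : Function.Injective ρ := by
  intro x x' h
  apply Subtype.ext
  apply g.injective
  rw [← hρ, ← hρ, h]

/-- Let `f : Y ⟶ X`, `R` a valuation ring of a field `K`, and a commutative square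
`i : Spec K ⟶ Y`, `φ : Spec R ⟶ X`. If `i` factors through the residue field of `y` via
`g : κ(y) → K`, then `φ` factors uniquely through `Spec (g⁻¹ R)`. -/
theorem existsUnique_factor {X Y : Scheme.{u}} (f : Y ⟶ X)
    (K : Type u) [Field K] (R : ValuationSubring K)
    (i : Spec (CommRingCat.of K) ⟶ Y) (φ : Spec (CommRingCat.of ↥R) ⟶ X)
    (w : Spec.map (CommRingCat.ofHom R.subtype) ≫ φ = i ≫ f)
    (y : Y) (g : Y.residueField y ⟶ CommRingCat.of K)
    (hg : Spec.map g ≫ Y.fromSpecResidueField y = i)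
    (ρ : ↥(R.comap g.hom) →+* ↥R)
    (hρ : ∀ x : ↥(R.comap g.hom), ((ρ x : ↥R) : K) = g.hom (x : ↑(Y.residueField y))) :
    ∃! φ' : Spec (CommRingCat.of ↥(R.comap g.hom)) ⟶ X,
      Spec.map (CommRingCat.ofHom ρ) ≫ φ' = φ ∧
      Spec.map (CommRingCat.ofHom (R.comap g.hom).subtype) ≫ φ' =
        Y.fromSpecResidueField y ≫ f := by
  have hρloc : IsLocalHom ρ := isLocalHom_of_comap R g.hom ρ hρ
  have hρinj : Function.Injective ρ := injective_of_comap R g.hom ρ hρ
  -- an affine open around the image of the closed point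
  obtain ⟨W, hW, hxW⟩ : ∃ W : X.Opens, IsAffineOpen W ∧
      φ (IsLocalRing.closedPoint ↥R) ∈ W := by
    obtain ⟨_, ⟨W, hW, rfl⟩, hxW, -⟩ := X.isBasis_affineOpens.exists_subset_of_mem_open
      (Set.mem_univ (φ (IsLocalRing.closedPoint ↥R))) isOpen_univ
    exact ⟨W, hW, hxW⟩
  obtain ⟨α, hα⟩ := exists_factor_fromSpec (R := CommRingCat.of ↥R) φ hW hxW
  -- the residue field point lands in `W`
  have hψW : (Y.fromSpecResidueField y ≫ f)
      (IsLocalRing.closedPoint (Y.residueField y)) ∈ W := by
    have h1 : Spec.map g (IsLocalRing.closedPoint (CommRingCat.of K)) =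
        IsLocalRing.closedPoint (Y.residueField y) := Subsingleton.elim _ _
    rw [← h1, ← Scheme.Hom.comp_apply, ← Category.assoc, hg, ← w, ← hα]
    have h2 : ∀ z, (hW.fromSpec) z ∈ W := fun z => by
      have : (hW.fromSpec) z ∈ Set.range hW.fromSpec := ⟨z, rfl⟩
      rw [hW.range_fromSpec] at this
      exact this
    simp only [Scheme.Hom.comp_apply]
    exact h2 _
  obtain ⟨β, hβ⟩ := exists_factor_fromSpec (R := Y.residueField y)
    (Y.fromSpecResidueField y ≫ f) hW hψW
  have hβα : β ≫ g = α ≫ CommRingCat.ofHom R.subtype := by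
    apply factor_fromSpec_unique hW
    rw [Spec.map_comp, Category.assoc, hβ, ← Category.assoc, hg, ← w, ← hα, Spec.map_comp,
      Category.assoc]
  have hmem : ∀ d, β.hom d ∈ R.comap g.hom := by
    intro d
    rw [ValuationSubring.mem_comap]
    have := congrArg (fun θ => θ.hom d) hβα
    simp only [CommRingCat.hom_comp, RingHom.coe_comp, Function.comp_apply] at this
    rw [this]
    exact (α.hom d).2
  let β' : Γ(X, W) →+* ↥(R.comap g.hom) := β.hom.codRestrict _ hmem
  have h1 : CommRingCat.ofHom β' ≫ CommRingCat.ofHom ρ = α := by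
    refine CommRingCat.hom_ext (RingHom.ext fun d => ?_)
    apply Subtype.ext
    have := congrArg (fun θ => θ.hom d) hβα
    simp only [CommRingCat.hom_comp, RingHom.coe_comp, Function.comp_apply] at this
    show ((ρ (β' d) : ↥R) : K) = _
    rw [hρ]
    exact this
  have h2 : CommRingCat.ofHom β' ≫ CommRingCat.ofHom (R.comap g.hom).subtype = β := by
    ext d
    rfl
  refine ⟨Spec.map (CommRingCat.ofHom β') ≫ hW.fromSpec, ⟨?_, ?_⟩, ?_⟩
  · rw [← Category.assoc, ← Spec.map_comp, h1, hα]
  · rw [← Category.assoc, ← Spec.map_comp, h2, hβ]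
  · rintro φ'' ⟨hφ1, -⟩
    have hcl : φ'' (IsLocalRing.closedPoint ↥(R.comap g.hom)) ∈ W := by
      have h3 : Spec.map (CommRingCat.ofHom ρ) (IsLocalRing.closedPoint ↥R) =
          IsLocalRing.closedPoint ↥(R.comap g.hom) :=
        IsLocalRing.comap_closedPoint ρ
      rw [← h3, ← Scheme.Hom.comp_apply, hφ1]
      exact hxW
    obtain ⟨β'', hβ''⟩ := exists_factor_fromSpec
      (R := CommRingCat.of ↥(R.comap g.hom)) φ'' hW hcl
    have h4 : β'' ≫ CommRingCat.ofHom ρ = α := by
      apply factor_fromSpec_unique hW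
      rw [Spec.map_comp, Category.assoc, hβ'', hφ1, hα]
    have h5 : β'' = CommRingCat.ofHom β' := by
      refine CommRingCat.hom_ext (RingHom.ext fun d => ?_)
      apply hρinj
      have e1 := congrArg (fun θ => θ.hom d) h4
      have e2 := congrArg (fun θ => θ.hom d) h1
      simp only [CommRingCat.hom_comp, RingHom.coe_comp, Function.comp_apply] at e1 e2
      exact e1.trans e2.symm
    rw [← hβ'', h5]

end Groth.Agent.Lib.helper4.ValFactor
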