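import Mathlib

set_option backward.isDefEq.respectTransparency false
set_option backward.isDefEq.respectTransparency.types false
set_option autoImplicit false

/-!
# Extending a morphism into a proper scheme across a point whose local ring is a valuation ring

(EGA II 7.3.5–7.3.7 style.)  Parts adapted from helper13's `RatExt1` (without Noetherian hypotheses)
and helper9's `exists_glue_family`.
-/

universe u
open CategoryTheory CategoryTheory.Limits AlgebraicGeometry TopologicalSpace

namespace Groth.Agent.Lib.Helper4.ExtValPoint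

/-- A compatible family of morphisms defined on opens glues to a morphism on their union. -/
theorem exists_glue_family {X Y : Scheme.{u}} {ι : Type u} (W : ι → X.Opens)
    (g : ∀ i, ((W i : X.Opens) : Scheme.{u}) ⟶ Y)
    (compat : ∀ i j, X.homOfLE (inf_le_left : W i ⊓ W j ≤ W i) ≫ g i =
      X.homOfLE (inf_le_right : W i ⊓ W j ≤ W j) ≫ g j) :
    ∃ g' : ((⨆ i, W i : X.Opens) : Scheme.{u}) ⟶ Y,
      (∀ i, X.homOfLE (le_iSup W i) ≫ g' = g i) ∧
      ∀ (Z : Scheme.{u}) (a b : ((⨆ i, W i : X.Opens) : Scheme.{u}) ⟶ Z),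
        (∀ i, X.homOfLE (le_iSup W i) ≫ a = X.homOfLE (le_iSup W i) ≫ b) → a = b := by
  let 𝒰 := Scheme.Opens.iSupOpenCover W
  have compat' : ∀ i j : ι, pullback.fst (𝒰.f i) (𝒰.f j) ≫ g i =
      pullback.snd (𝒰.f i) (𝒰.f j) ≫ g j := by
    intro i j
    refine (cancel_epi (isPullback_opens_inf_le (le_iSup W i) (le_iSup W j)).isoPullback.hom).mp ?_
    simp only [𝒰, Scheme.Opens.iSupOpenCover, IsPullback.isoPullback_hom_fst_assoc,
      IsPullback.isoPullback_hom_snd_assoc]
    exact compat i j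
  refine ⟨𝒰.glueMorphisms g compat', fun i => 𝒰.ι_glueMorphisms g compat' i, ?_⟩
  intro Z a b hab
  exact 𝒰.hom_ext a b hab

/-- Gluing two morphisms on two opens agreeing on the intersection. -/
theorem exists_glue_two {X Y : Scheme.{u}} (U V : X.Opens) (f : (U : Scheme.{u}) ⟶ Y)
    (g : (V : Scheme.{u}) ⟶ Y)
    (compat : X.homOfLE (inf_le_left : U ⊓ V ≤ U) ≫ f = X.homOfLE (inf_le_right : U ⊓ V ≤ V) ≫ g) :
    ∃ (U' : X.Opens) (hU : U ≤ U') (hV : V ≤ U') (h : (U' : Scheme.{u}) ⟶ Y),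
      X.homOfLE hU ≫ h = f ∧ X.homOfLE hV ≫ h = g ∧
      ∀ (Z : Scheme.{u}) (a b : (U' : Scheme.{u}) ⟶ Z),
        X.homOfLE hU ≫ a = X.homOfLE hU ≫ b → X.homOfLE hV ≫ a = X.homOfLE hV ≫ b → a = b := by
  let W : ULift.{u} Bool → X.Opens := fun b => bif b.down then U else V
  let G : ∀ i, ((W i : X.Opens) : Scheme.{u}) ⟶ Y := fun b =>
    match b with
    | ⟨true⟩ => f
    | ⟨false⟩ => g
  have hmono : ∀ (A B : X.Opens) (h₁ h₂ : A ≤ B), X.homOfLE h₁ = X.homOfLE h₂ := fun _ _ _ _ => rfl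
  have compat' : ∀ i j, X.homOfLE (inf_le_left : W i ⊓ W j ≤ W i) ≫ G i =
      X.homOfLE (inf_le_right : W i ⊓ W j ≤ W j) ≫ G j := by
    rintro ⟨_ | _⟩ ⟨_ | _⟩
    · have : X.homOfLE (inf_le_left : V ⊓ V ≤ V) = X.homOfLE (inf_le_right : V ⊓ V ≤ V) := rfl
      exact congrArg (· ≫ g) this
    · change X.homOfLE (inf_le_left : V ⊓ U ≤ V) ≫ g = X.homOfLE (inf_le_right : V ⊓ U ≤ U) ≫ f
      have e : V ⊓ U = U ⊓ V := inf_comm _ _
      rw [← cancel_epi (X.isoOfEq e).inv]
      simp only [Scheme.isoOfEq_inv, Scheme.homOfLE_homOfLE_assoc]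
      exact compat.symm
    · exact compat
    · have : X.homOfLE (inf_le_left : U ⊓ U ≤ U) = X.homOfLE (inf_le_right : U ⊓ U ≤ U) := rfl
      exact congrArg (· ≫ f) this
  obtain ⟨h, h1, h2⟩ := exists_glue_family W G compat'
  refine ⟨⨆ i, W i, le_iSup W ⟨true⟩, le_iSup W ⟨false⟩, h, h1 ⟨true⟩, h1 ⟨false⟩, ?_⟩
  intro Z a b ha hb
  refine h2 Z a b ?_
  rintro ⟨_ | _⟩
  · exact hb
  · exact ha

/-- **Extension over a valuation point.** Let `Y` be an integral locally Noetherian `S`-scheme, `X`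
proper over `S`, `g` an `S`-morphism to `X` from a nonempty open subscheme `jV : V' ⟶ Y` and `y` a
point of `Y` whose local ring is a valuation ring. Then there are an open neighbourhood `U` of `y`
and an `S`-morphism `f : U ⟶ X` agreeing with `g` on `U ∩ V'`. -/
theorem exists_extension_of_valuationRing {S X Y V' : Scheme.{u}} [IsIntegral Y]
    (p : X ⟶ S) [IsProper p] (q : Y ⟶ S) (jV : V' ⟶ Y)
    [IsOpenImmersion jV] [Nonempty V'] (g : V' ⟶ X) (hg : g ≫ p = jV ≫ q) (y : Y)
    [ValuationRing (Y.presheaf.stalk y)] :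
    ∃ (U : Y.Opens) (f : (U : Scheme.{u}) ⟶ X), y ∈ U ∧ f ≫ p = U.ι ≫ q ∧
      pullback.fst U.ι jV ≫ f = pullback.snd U.ι jV ≫ g := by
  classical
  obtain ⟨η, hη⟩ : ∃ η : Y, η = genericPoint Y := ⟨_, rfl⟩
  have hopen : IsOpen (Set.range jV) := jV.isOpenEmbedding.isOpen_range
  have hηV : genericPoint Y ∈ Set.range jV :=
    ((genericPoint_spec Y).mem_open_set_iff hopen).mpr
      ⟨jV (Classical.arbitrary V'), trivial, ⟨_, rfl⟩⟩
  have hrange : Set.range (Y.fromSpecStalk (genericPoint Y)) ⊆ Set.range jV := by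
    rw [Scheme.range_fromSpecStalk]
    intro z hz
    exact hz.mem_open hopen hηV
  let cV : Spec (Y.presheaf.stalk (genericPoint Y)) ⟶ V' :=
    IsOpenImmersion.lift jV (Y.fromSpecStalk (genericPoint Y)) hrange
  have hcV : cV ≫ jV = Y.fromSpecStalk (genericPoint Y) := IsOpenImmersion.lift_fac _ _ _
  have halg : CommRingCat.ofHom (algebraMap (Y.presheaf.stalk y) Y.functionField) =
      Y.presheaf.stalkSpecializes (genericPoint_specializes y) := rfl
  have hsq : CommSq (cV ≫ g : Spec (CommRingCat.of Y.functionField) ⟶ X)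
      (Spec.map (CommRingCat.ofHom (algebraMap (Y.presheaf.stalk y) Y.functionField))) p
      (Y.fromSpecStalk y ≫ q) := by
    refine ⟨?_⟩
    rw [Category.assoc, hg, ← Category.assoc, hcV, ← Category.assoc]
    congr 1
    rw [halg, Scheme.SpecMap_stalkSpecializes_fromSpecStalk]
  have hdom : IsDomain (Y.presheaf.stalk y) := inferInstance
  let Sq : ValuativeCommSq p :=
    { R := Y.presheaf.stalk y
      K := Y.functionField
      domain := hdom
      i₁ := cV ≫ g
      i₂ := Y.fromSpecStalk y ≫ q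
      commSq := hsq }
  have hex : ValuativeCriterion.Existence p := by
    have h1 : UniversallyClosed p := inferInstance
    rw [UniversallyClosed.eq_valuativeCriterion] at h1
    exact h1.1
  obtain ⟨l, hl1, hl2⟩ := (hex Sq).exists_lift
  change Spec.map (CommRingCat.ofHom (algebraMap (Y.presheaf.stalk y) Y.functionField)) ≫ l =
    cV ≫ g at hl1
  change l ≫ p = Y.fromSpecStalk y ≫ q at hl2
  obtain ⟨U, hyU, f, hlf, hfp⟩ := spread_out_of_isGermInjective' q p l hl2
  refine ⟨U, f, hyU, hfp, ?_⟩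
  have hηU : genericPoint Y ∈ U :=
    ((genericPoint_spec Y).mem_open_set_iff U.2).mpr ⟨y, trivial, hyU⟩
  let cK : Spec (Y.presheaf.stalk (genericPoint Y)) ⟶ pullback U.ι jV :=
    pullback.lift (U.fromSpecStalkOfMem (genericPoint Y) hηU) cV
      (by rw [Scheme.Opens.fromSpecStalkOfMem_ι, hcV])
  haveI : Nonempty ↥(pullback U.ι jV) := ⟨cK (IsLocalRing.closedPoint _)⟩
  let π : pullback U.ι jV ⟶ Y := pullback.fst U.ι jV ≫ U.ι
  haveI : IsIntegral (pullback U.ι jV) := isIntegral_of_isOpenImmersion π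
  -- equality after `cK`
  have h1 : cK ≫ pullback.fst U.ι jV ≫ f = cK ≫ pullback.snd U.ι jV ≫ g := by
    rw [pullback.lift_fst_assoc, pullback.lift_snd_assoc, ← hl1, hlf, ← Category.assoc]
    congr 1
    rw [← cancel_mono U.ι, Category.assoc, Scheme.Opens.fromSpecStalkOfMem_ι,
      Scheme.Opens.fromSpecStalkOfMem_ι, halg, Scheme.SpecMap_stalkSpecializes_fromSpecStalk]
  -- the generic point of the pullback
  have hπη : π (genericPoint ↥(pullback U.ι jV)) = genericPoint Y :=
    genericPoint_eq_of_isOpenImmersion π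
  have h2 : (pullback U.ι jV).fromSpecStalk (genericPoint ↥(pullback U.ι jV)) =
      Spec.map (Y.presheaf.stalkSpecializes (specializes_of_eq hπη) ≫
        π.stalkMap (genericPoint ↥(pullback U.ι jV))) ≫ cK := by
    rw [← cancel_mono π, ← Scheme.SpecMap_stalkMap_fromSpecStalk, Category.assoc]
    have h3 : cK ≫ π = Y.fromSpecStalk (genericPoint Y) := by
      simp only [cK, π, pullback.lift_fst_assoc, Scheme.Opens.fromSpecStalkOfMem_ι]
    rw [h3, Spec.map_comp, Category.assoc, Scheme.SpecMap_stalkSpecializes_fromSpecStalk]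
  have h4 : (pullback U.ι jV).fromSpecStalk (genericPoint ↥(pullback U.ι jV)) ≫
      pullback.fst U.ι jV ≫ f =
      (pullback U.ι jV).fromSpecStalk (genericPoint ↥(pullback U.ι jV)) ≫
        pullback.snd U.ι jV ≫ g := by
    rw [h2, Category.assoc, Category.assoc, h1]
  obtain ⟨N, hN, hNeq⟩ := spread_out_unique_of_isGermInjective' _ _ h4
  haveI : IsDominant N.ι := by
    refine ⟨?_⟩
    rw [DenseRange, Scheme.Opens.range_ι]
    exact N.2.dense ⟨_, hN⟩
  refine ext_of_isDominant_of_isSeparated p ?_ N.ι hNeq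
  rw [Category.assoc, Category.assoc, hfp, hg, pullback.condition_assoc]


/-- Valuation rings are stable under ring isomorphisms. -/
theorem valuationRing_of_ringEquiv {A B : Type*} [CommRing A] [IsDomain A] [ValuationRing A]
    [CommRing B] [IsDomain B] (e : A ≃+* B) : ValuationRing B := by
  have hpre : PreValuationRing B := by
    refine ⟨fun a b => ?_⟩
    obtain ⟨c, hc⟩ := ValuationRing.cond (e.symm a) (e.symm b)
    refine ⟨e c, ?_⟩
    rcases hc with hc | hc
    · left
      have := congrArg e hc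
      rwa [map_mul, e.apply_symm_apply, e.apply_symm_apply] at this
    · right
      have := congrArg e hc
      rwa [map_mul, e.apply_symm_apply, e.apply_symm_apply] at this
  exact { toPreValuationRing := hpre }


/-- If `X` has finitely many irreducible components and the local ring at `x` is a domain, then `x`
has an irreducible open neighbourhood. -/
theorem exists_irreducible_open_nbhd (X : Scheme.{u}) (hfin : (irreducibleComponents X).Finite)
    (x : X) [IsDomain (X.presheaf.stalk x)] :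
    ∃ W : X.Opens, x ∈ W ∧ IrreducibleSpace W := by
  let η : X := X.fromSpecStalk x (genericPoint (Spec (X.presheaf.stalk x)))
  have hη : ∀ y : X, y ⤳ x → η ⤳ y := by
    intro y hy
    have : y ∈ Set.range (X.fromSpecStalk x) := by rw [Scheme.range_fromSpecStalk]; exact hy
    obtain ⟨z, rfl⟩ := this
    exact (genericPoint_specializes z).map (X.fromSpecStalk x).continuous
  let Z : Set X := closure {η}
  have hZirr : IsIrreducible Z := isIrreducible_singleton.closure
  have hZ : ∀ Z' ∈ irreducibleComponents X, x ∈ Z' → Z' = Z := by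
    intro Z' hZ' hxZ'
    have hcl : IsClosed Z' := isClosed_of_mem_irreducibleComponents _ hZ'
    obtain ⟨η', hη'⟩ := QuasiSober.sober hZ'.1 hcl
    have h1 : η' ⤳ x := by
      rw [specializes_iff_mem_closure, hη'.def]; exact hxZ'
    have h2 : η' ∈ Z := (specializes_iff_mem_closure.mp (hη η' h1))
    have h3 : Z' ⊆ Z := by
      rw [← hη'.def]
      exact closure_minimal (Set.singleton_subset_iff.mpr h2) isClosed_closure
    exact subset_antisymm h3 (hZ'.2 hZirr h3)
  have hZmem : Z ∈ irreducibleComponents X := by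
    have := irreducibleComponent_mem_irreducibleComponents x
    rwa [hZ _ this mem_irreducibleComponent] at this
  have hopen : IsOpen (⋃₀ (irreducibleComponents X \ {Z}))ᶜ := by
    rw [Set.sUnion_eq_biUnion, isOpen_compl_iff]
    exact hfin.sdiff.isClosed_biUnion fun W hW ↦ isClosed_of_mem_irreducibleComponents W hW.1
  let W : X.Opens := ⟨_, hopen⟩
  have hxW : x ∈ W := by
    rintro ⟨Z', ⟨hZ'1, hZ'2⟩, hxZ'⟩
    exact hZ'2 (hZ Z' hZ'1 hxZ')
  have hWZ : (W : Set X) ⊆ Z := by
    intro w hw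
    by_contra hwZ
    apply hw
    refine ⟨irreducibleComponent w, ⟨irreducibleComponent_mem_irreducibleComponents w, ?_⟩,
      mem_irreducibleComponent⟩
    intro h
    rw [Set.mem_singleton_iff] at h
    exact hwZ (h ▸ mem_irreducibleComponent)
  have hWirr : IsIrreducible (W : Set X) :=
    ⟨⟨x, hxW⟩, hZirr.isPreirreducible.open_subset W.2 hWZ⟩
  exact ⟨W, hxW, Subtype.irreducibleSpace hWirr⟩

/-- An integral open neighbourhood of a point whose local ring is a domain, for `X` Noetherian or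
reduced with finitely many irreducible components. -/
theorem exists_integral_open_nbhd (X : Scheme.{u})
    (hX : (IsReduced X ∧ (irreducibleComponents X).Finite) ∨ IsNoetherian X) (x : X)
    (hdom : IsDomain (X.presheaf.stalk x)) :
    ∃ W : X.Opens, x ∈ W ∧ IsIntegral W := by
  rcases hX with ⟨hred, hfin⟩ | hN
  · obtain ⟨W, hxW, hW⟩ := exists_irreducible_open_nbhd X hfin x
    exact ⟨W, hxW, isIntegral_of_irreducibleSpace_of_isReduced W⟩
  · obtain ⟨W, hxW, hW, hinj⟩ := X.exists_germ_injective x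
    have : IsDomain Γ(X, W) := hinj.isDomain (X.presheaf.germ W x hxW).hom
    have : IsAffine W.toScheme := hW
    have : Nonempty W.toScheme := ⟨⟨x, hxW⟩⟩
    have : IsDomain Γ(W.toScheme, ⊤) :=
      (W.topIso.commRingCatIsoToRingEquiv.toMulEquiv).isDomain _
    exact ⟨W, hxW, isIntegral_of_isAffine_of_isDomain _⟩

/-- **Extension across a valuation point** (EGA II 7.3.7-style): a morphism `f : U ⟶ Y` over `S`
into a proper `S`-scheme extends across a point `x` in the closure of `U` whose local ring is a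
valuation ring, if `X` is Noetherian or reduced with finitely many irreducible components. -/
theorem exists_extension {X Y S : Scheme.{u}} (p : X ⟶ S) (q : Y ⟶ S)
    [IsProper q] (x : X) (U : X.Opens) (f : (U : Scheme.{u}) ⟶ Y) (hf : f ≫ q = U.ι ≫ p)
    (hx : x ∈ closure (U : Set X))
    (hX : (IsReduced X ∧ (irreducibleComponents X).Finite) ∨ IsNoetherian X)
    (hdom : IsDomain (X.presheaf.stalk x)) (hval : @ValuationRing (X.presheaf.stalk x) _ hdom) :
    ∃ (U' : X.Opens) (hUU' : U ≤ U'), x ∈ U' ∧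
      ∃ f' : (U' : Scheme.{u}) ⟶ Y, f' ≫ q = U'.ι ≫ p ∧ X.homOfLE hUU' ≫ f' = f := by
  obtain ⟨W, hxW, hW⟩ := exists_integral_open_nbhd X hX x hdom
  obtain ⟨v, hvW, hvU⟩ : ((W : Set X) ∩ U).Nonempty := mem_closure_iff.mp hx W W.2 hxW
  have : Nonempty ((W ⊓ U : X.Opens) : Scheme.{u}) := ⟨⟨v, hvW, hvU⟩⟩
  let jV : (W ⊓ U).toScheme ⟶ W.toScheme := X.homOfLE inf_le_left
  let g : (W ⊓ U).toScheme ⟶ Y := X.homOfLE inf_le_right ≫ f
  have hg : g ≫ q = jV ≫ W.ι ≫ p := by
    simp only [g, jV, Category.assoc, hf, Scheme.homOfLE_ι_assoc]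
  let xW : W.toScheme := ⟨x, hxW⟩
  have : ValuationRing (W.toScheme.presheaf.stalk xW) :=
    valuationRing_of_ringEquiv (W.stalkIso xW).symm.commRingCatIsoToRingEquiv
  obtain ⟨U₁, f₁, hxU₁, hf₁q, hf₁g⟩ :=
    exists_extension_of_valuationRing q (W.ι ≫ p) jV g hg xW
  let V : X.Opens := W.ι ''ᵁ U₁
  let fV : V.toScheme ⟶ Y := (W.ι.isoImage U₁).inv ≫ f₁
  have hxV : x ∈ V := ⟨xW, hxU₁, rfl⟩
  have hVW : V ≤ W := W.ι_image_le U₁
  have compat : X.homOfLE (inf_le_left : U ⊓ V ≤ U) ≫ f =
      X.homOfLE (inf_le_right : U ⊓ V ≤ V) ≫ fV := by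
    let c₁ : (U ⊓ V).toScheme ⟶ U₁.toScheme := X.homOfLE inf_le_right ≫ (W.ι.isoImage U₁).inv
    let c₂ : (U ⊓ V).toScheme ⟶ (W ⊓ U).toScheme :=
      X.homOfLE (le_inf (inf_le_right.trans hVW) inf_le_left)
    have hc : c₁ ≫ U₁.ι = c₂ ≫ jV := by
      rw [← cancel_mono W.ι]
      simp only [c₁, c₂, jV, Category.assoc, Scheme.Hom.isoImage_inv_ι, Scheme.homOfLE_ι]
      exact X.homOfLE_ι _
    let c := pullback.lift c₁ c₂ hc
    calc X.homOfLE _ ≫ f = c₂ ≫ g := by simp only [c₂, g, Scheme.homOfLE_homOfLE_assoc]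
      _ = c ≫ pullback.snd U₁.ι jV ≫ g := by rw [pullback.lift_snd_assoc]
      _ = c ≫ pullback.fst U₁.ι jV ≫ f₁ := by rw [hf₁g]
      _ = c₁ ≫ f₁ := by rw [pullback.lift_fst_assoc]
      _ = _ := by simp only [c₁, fV, Category.assoc]
  obtain ⟨U', hU, hV, h, h1, h2, hext⟩ := exists_glue_two U V f fV compat
  refine ⟨U', hU, hV hxV, h, ?_, h1⟩
  apply hext
  · rw [reassoc_of% h1, hf, Scheme.homOfLE_ι_assoc]
  · rw [reassoc_of% h2, Scheme.homOfLE_ι_assoc]
    simp only [fV, Category.assoc, hf₁q, Scheme.Hom.isoImage_inv_ι_assoc]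
    rfl

end Groth.Agent.Lib.Helper4.ExtValPoint
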