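import Mathlib

set_option backward.isDefEq.respectTransparency false
set_option backward.isDefEq.respectTransparency.types false
set_option autoImplicit false

/-!
# Spreading out morphisms into a scheme locally of finite presentation

This removes the germ-injectivity hypothesis from `spread_out_of_isGermInjective'` at the cost of
asking the target to be locally of finite presentation (Mathlib TODO in `SpreadingOut.lean`).
-/

universe u
open CategoryTheory AlgebraicGeometry TopologicalSpace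

namespace Groth.Agent.Lib.Helper4.SpreadLfp

variable {X Y S : Scheme.{u}}

/-- Lifting a map out of a finitely presented algebra from the stalk to a neighbourhood. -/
lemma exists_lift_of_finitePresentation {R A : CommRingCat.{u}} {U : X.Opens} {x : X} (hxU : x ∈ U)
    (φ : A ⟶ X.presheaf.stalk x) (φRA : R ⟶ A) (φRX : R ⟶ Γ(X, U))
    (hφRA : RingHom.FinitePresentation φRA.hom)
    (e : φRA ≫ φ = φRX ≫ X.presheaf.germ U x hxU) :
    ∃ (V : X.Opens) (hxV : x ∈ V) (φ' : A ⟶ Γ(X, V)) (i : V ≤ U),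
      φ = φ' ≫ X.presheaf.germ V x hxV ∧ φRX ≫ X.presheaf.map i.hom.op = φRA ≫ φ' := by
  let := φRA.hom.toAlgebra
  obtain ⟨n, f, hf, s, hs⟩ := hφRA.out
  have hfC : ∀ r : R, f (MvPolynomial.C r) = φRA r := fun r ↦ f.commutes r
  choose W hxW a ha using fun i : Fin n ↦
    X.presheaf.exists_germ_eq (φ (f (MvPolynomial.X i)))
  -- first neighbourhood
  let V₀ : X.Opens := Finset.univ.inf W ⊓ U
  have hxV₀ : x ∈ V₀ := by
    rw [← SetLike.mem_coe, TopologicalSpace.Opens.coe_inf, TopologicalSpace.Opens.coe_finset_inf]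
    exact ⟨by simpa using fun i ↦ hxW i, hxU⟩
  have hV₀U : V₀ ≤ U := inf_le_right
  have hV₀W : ∀ i, V₀ ≤ W i := fun i ↦ inf_le_left.trans (Finset.inf_le (Finset.mem_univ i))
  let ρ₀ : R →+* Γ(X, V₀) := (φRX ≫ X.presheaf.map (homOfLE hV₀U).op).hom
  let g₀ : MvPolynomial (Fin n) R →+* Γ(X, V₀) :=
    MvPolynomial.eval₂Hom ρ₀ (fun i ↦ X.presheaf.map (homOfLE (hV₀W i)).op (a i))
  have hg₀ : (X.presheaf.germ V₀ x hxV₀).hom.comp g₀ = φ.hom.comp f.toRingHom := by
    apply MvPolynomial.ringHom_ext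
    · intro r
      simp only [RingHom.comp_apply, g₀, MvPolynomial.eval₂Hom_C, ρ₀]
      change X.presheaf.germ V₀ x hxV₀ (X.presheaf.map (homOfLE hV₀U).op (φRX r)) = φ (f (MvPolynomial.C r))
      rw [TopCat.Presheaf.germ_res_apply, hfC]
      exact (congr($e r)).symm
    · intro i
      simp only [RingHom.comp_apply, g₀, MvPolynomial.eval₂Hom_X']
      change X.presheaf.germ V₀ x hxV₀ (X.presheaf.map (homOfLE (hV₀W i)).op (a i)) = φ (f (MvPolynomial.X i))
      rw [TopCat.Presheaf.germ_res_apply, ha]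
  -- kill the relations
  have hrel : ∀ p : MvPolynomial (Fin n) R, p ∈ RingHom.ker f.toRingHom →
      ∃ (W' : X.Opens) (_ : x ∈ W') (h : W' ≤ V₀), X.presheaf.map (homOfLE h).op (g₀ p) = 0 := by
    intro p hp
    have h0 : X.presheaf.germ V₀ x hxV₀ (g₀ p) = X.presheaf.germ V₀ x hxV₀ 0 := by
      have := congr($hg₀ p)
      simp only [RingHom.comp_apply] at this
      rw [map_zero]
      refine this.trans ?_
      rw [RingHom.mem_ker] at hp
      change φ (f.toRingHom p) = 0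
      rw [hp, map_zero]
    obtain ⟨W', hxW', i₁, i₂, h⟩ := X.presheaf.germ_eq x hxV₀ hxV₀ _ _ h0
    exact ⟨W', hxW', i₁.le, by rw [map_zero] at h; exact h⟩
  choose! W' hxW' hW'V₀ hW'0 using hrel
  let V : X.Opens := s.inf W' ⊓ V₀
  have hs' : ∀ p ∈ s, p ∈ RingHom.ker f.toRingHom := fun p hp ↦ hs ▸ Ideal.subset_span hp
  have hxV : x ∈ V := by
    rw [← SetLike.mem_coe, TopologicalSpace.Opens.coe_inf, TopologicalSpace.Opens.coe_finset_inf]
    exact ⟨by simpa using fun p hp ↦ hxW' p (hs' p hp), hxV₀⟩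
  have hVV₀ : V ≤ V₀ := inf_le_right
  let g : MvPolynomial (Fin n) R →+* Γ(X, V) := (X.presheaf.map (homOfLE hVV₀).op).hom.comp g₀
  have hker : RingHom.ker f.toRingHom ≤ RingHom.ker g := by
    rw [← hs, Ideal.span_le]
    intro p hp
    have hVW' : V ≤ W' p := inf_le_left.trans (Finset.inf_le hp)
    rw [SetLike.mem_coe, RingHom.mem_ker]
    change X.presheaf.map (homOfLE hVV₀).op (g₀ p) = 0
    have : X.presheaf.map (homOfLE hVV₀).op (g₀ p) =
        X.presheaf.map (homOfLE hVW').op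
          (X.presheaf.map (homOfLE (hW'V₀ p (hs' p hp))).op (g₀ p)) := by
      rw [← ConcreteCategory.comp_apply, ← X.presheaf.map_comp]
      rfl
    rw [this, hW'0 p (hs' p hp), map_zero]
  let φ' : A →+* Γ(X, V) := f.toRingHom.liftOfSurjective hf ⟨g, hker⟩
  have hφ' : ∀ p, φ' (f p) = g p := fun p ↦
    RingHom.liftOfRightInverse_comp_apply f.toRingHom _ _ ⟨g, hker⟩ p
  refine ⟨V, hxV, CommRingCat.ofHom φ', hVV₀.trans hV₀U, ?_, ?_⟩
  · ext b
    obtain ⟨p, rfl⟩ := hf b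
    change φ (f p) = X.presheaf.germ V x hxV (φ' (f p))
    rw [hφ']
    change _ = X.presheaf.germ V x hxV (X.presheaf.map (homOfLE hVV₀).op (g₀ p))
    rw [TopCat.Presheaf.germ_res_apply]
    exact (congr($hg₀ p)).symm
  · ext r
    change X.presheaf.map _ (φRX r) = φ' (φRA r)
    rw [← hfC, hφ']
    change _ = X.presheaf.map (homOfLE hVV₀).op (g₀ (MvPolynomial.C r))
    simp only [g₀, MvPolynomial.eval₂Hom_C, ρ₀]
    change X.presheaf.map _ (φRX r) =
      X.presheaf.map (homOfLE hVV₀).op (X.presheaf.map (homOfLE hV₀U).op (φRX r))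
    rw [← ConcreteCategory.comp_apply (X.presheaf.map (homOfLE hV₀U).op), ← X.presheaf.map_comp]
    rfl

variable (sX : X ⟶ S) (sY : Y ⟶ S)

/-- Spreading out a local homomorphism of stalks, when the target is locally of finite
presentation over the base.  No hypothesis on the source. -/
lemma spread_out_of_lfp [LocallyOfFinitePresentation sY] {x : X} {y : Y}
    (e : sX x = sY y) (φ : Y.presheaf.stalk y ⟶ X.presheaf.stalk x)
    (h : sY.stalkMap y ≫ φ =
      S.presheaf.stalkSpecializes (Inseparable.of_eq e).specializes ≫ sX.stalkMap x) :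
    ∃ (U : X.Opens) (hxU : x ∈ U) (f : U.toScheme ⟶ Y),
      Spec.map φ ≫ Y.fromSpecStalk y = U.fromSpecStalkOfMem x hxU ≫ f ∧
      f ≫ sY = U.ι ≫ sX := by
  obtain ⟨_, ⟨U, hU, rfl⟩, hxU, -⟩ :=
    S.isBasis_affineOpens.exists_subset_of_mem_open (Set.mem_univ (sX x)) isOpen_univ
  have hyU : sY y ∈ U := e ▸ hxU
  obtain ⟨_, ⟨V : Y.Opens, hV, rfl⟩, hyV, iVU⟩ :=
    Y.isBasis_affineOpens.exists_subset_of_mem_open hyU (sY ⁻¹ᵁ U).2
  have : sY.appLE U V iVU ≫ Y.presheaf.germ V y hyV ≫ φ =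
      sX.app U ≫ X.presheaf.germ (sX ⁻¹ᵁ U) x hxU := by
    rw [Scheme.Hom.appLE, Category.assoc, Y.presheaf.germ_res_assoc,
      ← Scheme.Hom.germ_stalkMap_assoc, h]
    simp
  obtain ⟨W₀, hxW₀, φ₀, i₀, h₁, h₂⟩ :=
    exists_lift_of_finitePresentation (R := Γ(S, U)) (A := Γ(Y, V)) (U := sX ⁻¹ᵁ U) (x := x) hxU
    (Y.presheaf.germ _ y hyV ≫ φ) (sY.appLE U V iVU) (sX.app U)
    (sY.finitePresentation_appLE hU hV _) this
  obtain ⟨_, ⟨W : X.Opens, hW, rfl⟩, hxW, iWW₀⟩ :=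
    X.isBasis_affineOpens.exists_subset_of_mem_open hxW₀ W₀.2
  have iWW₀' : W ≤ W₀ := iWW₀
  let φ' : Γ(Y, V) ⟶ Γ(X, W) := φ₀ ≫ X.presheaf.map (homOfLE iWW₀').op
  have h₁' : Y.presheaf.germ _ y hyV ≫ φ = φ' ≫ X.presheaf.germ W x hxW := by
    rw [h₁, Category.assoc, X.presheaf.germ_res]
  have i : W ≤ sX ⁻¹ᵁ U := iWW₀'.trans i₀
  have h₂' : sX.app U ≫ X.presheaf.map (homOfLE i).op = sY.appLE U V iVU ≫ φ' := by
    rw [← reassoc_of% h₂, ← X.presheaf.map_comp]
    rfl
  refine ⟨W, hxW, W.toSpecΓ ≫ Spec.map φ' ≫ hV.fromSpec, ?_, ?_⟩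
  · rw [W.fromSpecStalkOfMem_toSpecΓ_assoc x hxW, ← Spec.map_comp_assoc, ← h₁',
      Spec.map_comp, Category.assoc, ← IsAffineOpen.fromSpecStalk,
      IsAffineOpen.fromSpecStalk_eq_fromSpecStalk]
  · simp only [Category.assoc]
    rw [← IsAffineOpen.SpecMap_appLE_fromSpec sY hU hV iVU, ← Spec.map_comp_assoc, ← h₂',
      ← Scheme.Hom.appLE, ← hW.isoSpec_hom, IsAffineOpen.SpecMap_appLE_fromSpec sX hU hW i,
      ← Iso.eq_inv_comp, IsAffineOpen.isoSpec_inv_ι_assoc]

/-- Spreading out a morphism from the spectrum of a local ring of `X` into `Y`, when `Y` is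
locally of finite presentation over the base.  No hypothesis on `X`. -/
lemma spread_out_of_lfp' [LocallyOfFinitePresentation sY] {x : X}
    (φ : Spec (X.presheaf.stalk x) ⟶ Y)
    (h : φ ≫ sY = X.fromSpecStalk x ≫ sX) :
    ∃ (U : X.Opens) (hxU : x ∈ U) (f : U.toScheme ⟶ Y),
      φ = U.fromSpecStalkOfMem x hxU ≫ f ∧ f ≫ sY = U.ι ≫ sX := by
  have := spread_out_of_lfp sX sY ?_ (Scheme.stalkClosedPointTo φ) ?_
  · simpa only [Scheme.Spec_stalkClosedPointTo_fromSpecStalk] using this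
  · rw [← Scheme.Hom.comp_apply, h, Scheme.Hom.comp_apply, Scheme.fromSpecStalk_closedPoint]
  · apply Spec.map_injective
    rw [← cancel_mono (S.fromSpecStalk _)]
    simpa only [Spec.map_comp, Category.assoc, Scheme.SpecMap_stalkMap_fromSpecStalk,
      Scheme.Spec_stalkClosedPointTo_fromSpecStalk_assoc,
      Scheme.SpecMap_stalkSpecializes_fromSpecStalk]

/-- Rational-map packaging: for `X` irreducible and `Y` locally of finite presentation over `S`,
every `S`-morphism `Spec 𝒪_{X,η} ⟶ Y` is induced by an `S`-rational map. -/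
theorem exists_rationalMap_of_lfp (S X Y : Scheme.{u}) [X.Over S] [Y.Over S] [IrreducibleSpace X]
    [LocallyOfFinitePresentation (Y ↘ S)]
    (φ : Spec (X.presheaf.stalk (genericPoint X)) ⟶ Y)
    (hφ : φ ≫ (Y ↘ S) = X.fromSpecStalk (genericPoint X) ≫ (X ↘ S)) :
    ∃ f : X ⤏ Y, f.IsOver S ∧ f.fromFunctionField = φ := by
  obtain ⟨U, hxU, f, h₁, h₂⟩ := spread_out_of_lfp' (X ↘ S) (Y ↘ S) φ hφ
  let pm : X.PartialMap Y := ⟨U, U.2.dense ⟨_, hxU⟩, f⟩
  refine ⟨pm.toRationalMap, ⟨⟨pm, ⟨h₂⟩, rfl⟩⟩, ?_⟩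
  rw [Scheme.RationalMap.fromFunctionField_toRationalMap]
  exact h₁.symm

end Groth.Agent.Lib.Helper4.SpreadLfp
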