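import Mathlib

set_option backward.isDefEq.respectTransparency false
set_option backward.isDefEq.respectTransparency.types false
set_option autoImplicit false

/-!
# Birational equivalence from an isomorphism at generic points (generic machinery)

`X`, `Y` irreducible `S`-schemes, with an isomorphism of local rings at points `x`, `y` over `S`.
Given existence and local uniqueness of spreading out, we get `BirationalOver`.
-/

universe u
open CategoryTheory CategoryTheory.Limits AlgebraicGeometry TopologicalSpace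

namespace Groth.Agent.Lib.Helper4.BiratGeneric

variable {X Y S : Scheme.{u}}

/-- The categorical core: two "partial maps" which are mutually inverse on smaller opens
give `BirationalOver`. -/
lemma birationalOver_of_data [IrreducibleSpace X] [IrreducibleSpace Y]
    (sX : X ⟶ S) (sY : Y ⟶ S)
    {U V U' V' : Scheme.{u}} (a : U ⟶ X) (b : V ⟶ Y) [IsOpenImmersion a] [IsOpenImmersion b]
    (f : U ⟶ Y) (g : V ⟶ X) (hf : f ≫ sY = a ≫ sX)
    (a' : U' ⟶ U) (b' : V' ⟶ V) [IsOpenImmersion a'] [IsOpenImmersion b']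
    (f' : U' ⟶ V) (g' : V' ⟶ U)
    (h1 : f' ≫ b = a' ≫ f) (h2 : f' ≫ g = a' ≫ a)
    (h3 : g' ≫ a = b' ≫ g) (h4 : g' ≫ f = b' ≫ b)
    (hne : Nonempty ↥(pullback f' b')) :
    Scheme.BirationalOver sX sY := by
  have c1 : pullback.snd f' b' ≫ g' = pullback.fst f' b' ≫ a' := by
    rw [← cancel_mono a, Category.assoc, Category.assoc, h3, ← h2, ← pullback.condition_assoc]
  have c2 : pullback.snd g' a' ≫ f' = pullback.fst g' a' ≫ b' := by
    rw [← cancel_mono b, Category.assoc, Category.assoc, h1, ← h4, ← pullback.condition_assoc]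
  let α : pullback f' b' ⟶ pullback g' a' := pullback.lift _ _ c1
  let β : pullback g' a' ⟶ pullback f' b' := pullback.lift _ _ c2
  let e : pullback f' b' ≅ pullback g' a' :=
    ⟨α, β, by apply pullback.hom_ext <;> simp [α, β], by apply pullback.hom_ext <;> simp [α, β]⟩
  let i : pullback f' b' ⟶ X := pullback.fst f' b' ≫ a' ≫ a
  let j : pullback g' a' ⟶ Y := pullback.fst g' a' ≫ b' ≫ b
  have hij : e.hom ≫ j ≫ sY = i ≫ sX := by
    simp only [e, α, j, i, Category.assoc, pullback.lift_fst_assoc]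
    rw [← pullback.condition_assoc, reassoc_of% h1, hf]
  have : Nonempty ↥(pullback g' a') := hne.map e.hom
  have hdi : IsDominant i := ⟨i.isOpenEmbedding.isOpen_range.dense (Set.range_nonempty _)⟩
  have hdj : IsDominant j := ⟨j.isOpenEmbedding.isOpen_range.dense (Set.range_nonempty _)⟩
  have b1 : Scheme.BirationalOver (i ≫ sX) sX := Scheme.Hom.birationalOver i sX _ rfl
  have b2 : Scheme.BirationalOver (j ≫ sY) sY := Scheme.Hom.birationalOver j sY _ rfl
  have b3 : Scheme.BirationalOver (i ≫ sX) (j ≫ sY) :=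
    ⟨Scheme.PartialIso.ofIso e, by
      change ((Scheme.topIso _).hom ≫ e.hom ≫ (Scheme.topIso _).inv) ≫
        (⊤ : Scheme.Opens _).ι ≫ j ≫ sY = (⊤ : Scheme.Opens _).ι ≫ i ≫ sX
      simp only [Category.assoc, Scheme.toIso_inv_ι_assoc, hij]
      rfl⟩
  exact b1.symm.trans (b3.trans b2)

/-- Local uniqueness of spreading out at `x`, relative to `sX`: an `S`-morphism from an open
neighbourhood of `x` to `X` that restricts to the canonical map on `Spec 𝒪_{X,x}` is the
inclusion on a smaller neighbourhood. -/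
def LocUniq (sX : X ⟶ S) (x : X) : Prop :=
  ∀ (W : X.Opens) (hxW : x ∈ W) (h : W.toScheme ⟶ X), h ≫ sX = W.ι ≫ sX →
    W.fromSpecStalkOfMem x hxW ≫ h = X.fromSpecStalk x →
    ∃ (W' : X.Opens) (hW' : W' ≤ W), x ∈ W' ∧ X.homOfLE hW' ≫ h = W'.ι

lemma locUniq_of_isGermInjectiveAt (sX : X ⟶ S) (x : X) [X.IsGermInjectiveAt x] :
    LocUniq sX x := by
  intro W hxW h _ hh
  have := (isGermInjectiveAt_iff_of_isOpenImmersion (f := W.ι) (x := ⟨x, hxW⟩)).mp ‹_›
  have h' : W.fromSpecStalkOfMem x hxW ≫ h = W.fromSpecStalkOfMem x hxW ≫ W.ι := by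
    rw [hh, Scheme.Opens.fromSpecStalkOfMem_ι]
  have h'' : W.toScheme.fromSpecStalk ⟨x, hxW⟩ ≫ h = W.toScheme.fromSpecStalk ⟨x, hxW⟩ ≫ W.ι := by
    simpa only [Scheme.Opens.fromSpecStalkOfMem, Spec.map_inv, Category.assoc, IsIso.inv_comp_eq,
      IsIso.hom_inv_id_assoc] using h'
  obtain ⟨U', hxU', e⟩ := spread_out_unique_of_isGermInjective' (X := W.toScheme) h W.ι
    (x := ⟨x, hxW⟩) h''
  refine ⟨W.ι ''ᵁ U', W.ι_image_le U', ⟨_, hxU', rfl⟩, ?_⟩
  rw [← Scheme.Opens.isoImage_ι_inv_ι, Category.assoc, e, ← Category.assoc,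
    Scheme.Opens.isoImage_ι_inv_ι, Scheme.homOfLE_ι]

lemma fromSpecStalkOfMem_homOfLE {W U : X.Opens} (hWU : W ≤ U) (x : X) (hxW : x ∈ W) :
    W.fromSpecStalkOfMem x hxW ≫ X.homOfLE hWU = U.fromSpecStalkOfMem x (hWU hxW) := by
  rw [← cancel_mono U.ι, Category.assoc, Scheme.homOfLE_ι, Scheme.Opens.fromSpecStalkOfMem_ι,
    Scheme.Opens.fromSpecStalkOfMem_ι]

lemma fromSpecStalkOfMem_closedPoint (U : X.Opens) (x : X) (hxU : x ∈ U) :
    (U.fromSpecStalkOfMem x hxU) (IsLocalRing.closedPoint _) = ⟨x, hxU⟩ := by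
  apply U.ι.injective
  rw [← Scheme.Hom.comp_apply, Scheme.Opens.fromSpecStalkOfMem_ι, Scheme.fromSpecStalk_closedPoint]
  rfl

/-- Half of the construction: shrink `U` so that `f` lands in `V` and `g ∘ f` is the
inclusion. -/
lemma half (sX : X ⟶ S) (sY : Y ⟶ S) {x : X} {y : Y} (huniq : LocUniq sX x)
    (U : X.Opens) (hxU : x ∈ U) (f : U.toScheme ⟶ Y) (hf : f ≫ sY = U.ι ≫ sX)
    (V : Y.Opens) (hyV : y ∈ V) (g : V.toScheme ⟶ X) (hg : g ≫ sX = V.ι ≫ sY)
    (ε : Spec (X.presheaf.stalk x) ⟶ Spec (Y.presheaf.stalk y))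
    (h1 : U.fromSpecStalkOfMem x hxU ≫ f = ε ≫ Y.fromSpecStalk y)
    (h2 : ε ≫ V.fromSpecStalkOfMem y hyV ≫ g = X.fromSpecStalk x) :
    ∃ (W : X.Opens) (hxW : x ∈ W) (hWU : W ≤ U) (f' : W.toScheme ⟶ V.toScheme),
      f' ≫ V.ι = X.homOfLE hWU ≫ f ∧ f' ≫ g = W.ι ∧
      W.fromSpecStalkOfMem x hxW ≫ f' = ε ≫ V.fromSpecStalkOfMem y hyV := by
  have h1' : U.fromSpecStalkOfMem x hxU ≫ f = (ε ≫ V.fromSpecStalkOfMem y hyV) ≫ V.ι := by
    rw [h1, Category.assoc, Scheme.Opens.fromSpecStalkOfMem_ι]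
  have hfx : f ⟨x, hxU⟩ ∈ V := by
    rw [← fromSpecStalkOfMem_closedPoint U x hxU, ← Scheme.Hom.comp_apply, h1',
      Scheme.Hom.comp_apply]
    exact ((ε ≫ V.fromSpecStalkOfMem y hyV) _).2
  let U₁ : X.Opens := U.ι ''ᵁ (f ⁻¹ᵁ V)
  have hU₁U : U₁ ≤ U := U.ι_image_le _
  have hx₁ : x ∈ U₁ := ⟨⟨x, hxU⟩, hfx, rfl⟩
  let f₁ : U₁.toScheme ⟶ V.toScheme := (U.ι.isoImage (f ⁻¹ᵁ V)).inv ≫ f ∣_ V
  have hf₁ : f₁ ≫ V.ι = X.homOfLE hU₁U ≫ f := by
    simp only [f₁, Category.assoc, morphismRestrict_ι, Scheme.Opens.isoImage_ι_inv_ι_assoc]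
  have hk₁ : U₁.fromSpecStalkOfMem x hx₁ ≫ f₁ = ε ≫ V.fromSpecStalkOfMem y hyV := by
    rw [← cancel_mono V.ι, Category.assoc, hf₁, ← Category.assoc, fromSpecStalkOfMem_homOfLE,
      h1']
  obtain ⟨W, hWU₁, hxW, hW⟩ := huniq U₁ hx₁ (f₁ ≫ g)
    (by rw [Category.assoc, hg, reassoc_of% hf₁, hf, ← Category.assoc, Scheme.homOfLE_ι])
    (by rw [← Category.assoc, hk₁, Category.assoc, h2])
  refine ⟨W, hxW, hWU₁.trans hU₁U, X.homOfLE hWU₁ ≫ f₁, ?_, ?_, ?_⟩
  · rw [Category.assoc, hf₁, ← Category.assoc, Scheme.homOfLE_homOfLE]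
  · rw [Category.assoc, hW]
  · rw [← Category.assoc, fromSpecStalkOfMem_homOfLE, hk₁]

/-- Existence of spreading out at `x` (into `Y` over `S`). -/
def SpreadEx (sX : X ⟶ S) (sY : Y ⟶ S) (x : X) : Prop :=
  ∀ φ : Spec (X.presheaf.stalk x) ⟶ Y, φ ≫ sY = X.fromSpecStalk x ≫ sX →
    ∃ (U : X.Opens) (hxU : x ∈ U) (f : U.toScheme ⟶ Y),
      φ = U.fromSpecStalkOfMem x hxU ≫ f ∧ f ≫ sY = U.ι ≫ sX

/-- Main assembly: an `S`-isomorphism of local rings at `x`, `y` gives `BirationalOver`, given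
existence and local uniqueness of spreading out on both sides. -/
theorem birationalOver_of_stalkIso [IrreducibleSpace X] [IrreducibleSpace Y]
    (sX : X ⟶ S) (sY : Y ⟶ S) {x : X} {y : Y}
    (e : X.presheaf.stalk x ≅ Y.presheaf.stalk y)
    (he : Spec.map e.inv ≫ Y.fromSpecStalk y ≫ sY = X.fromSpecStalk x ≫ sX)
    (hUX : LocUniq sX x) (hUY : LocUniq sY y)
    (hEX : SpreadEx sX sY x) (hEY : SpreadEx sY sX y) :
    Scheme.BirationalOver sX sY := by
  set ε := Spec.map e.inv with hε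
  set ε' := Spec.map e.hom with hε'
  have hεε' : ε ≫ ε' = 𝟙 _ := by rw [hε, hε', ← Spec.map_comp, e.hom_inv_id, Spec.map_id]
  have hε'ε : ε' ≫ ε = 𝟙 _ := by rw [hε, hε', ← Spec.map_comp, e.inv_hom_id, Spec.map_id]
  have he' : (ε' ≫ X.fromSpecStalk x) ≫ sX = Y.fromSpecStalk y ≫ sY := by
    rw [Category.assoc, ← he, ← Category.assoc, hε'ε, Category.id_comp]
  obtain ⟨U, hxU, f, h1, hf⟩ := hEX (ε ≫ Y.fromSpecStalk y) (by rw [Category.assoc, he])
  obtain ⟨V, hyV, g, h1', hg⟩ := hEY (ε' ≫ X.fromSpecStalk x) he'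
  obtain ⟨WX, hxW, hWU, f', hf'1, hf'2, hf'3⟩ := half sX sY hUX U hxU f hf V hyV g hg ε h1.symm
    (by rw [← h1', ← Category.assoc, hεε', Category.id_comp])
  obtain ⟨WY, hyW, hWV, g', hg'1, hg'2, hg'3⟩ := half sY sX hUY V hyV g hg U hxU f hf ε' h1'.symm
    (by rw [← h1, ← Category.assoc, hε'ε, Category.id_comp])
  refine birationalOver_of_data sX sY U.ι V.ι f g hf (X.homOfLE hWU) (Y.homOfLE hWV) f' g' hf'1
    (by rw [hf'2, Scheme.homOfLE_ι]) hg'1 (by rw [hg'2, Scheme.homOfLE_ι]) ?_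
  exact ⟨(pullback.lift (WX.fromSpecStalkOfMem x hxW) (ε ≫ WY.fromSpecStalkOfMem y hyW)
    (by rw [hf'3, Category.assoc, fromSpecStalkOfMem_homOfLE])) (IsLocalRing.closedPoint _)⟩

/-! ### The forward direction -/

/-- A partial isomorphism matches the generic points. -/
lemma exists_point_of_partialIso [IrreducibleSpace X] [IrreducibleSpace Y] (p : X.PartialIso Y) :
    ∃ u : p.source, p.source.ι u = genericPoint X ∧
      (p.iso.hom ≫ p.target.ι) u = genericPoint Y := by
  have hX : genericPoint X ∈ p.source :=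
    (genericPoint_specializes _).mem_open p.source.2 p.dense_source.nonempty.choose_spec
  have hY : genericPoint Y ∈ p.target :=
    (genericPoint_specializes _).mem_open p.target.2 p.dense_target.nonempty.choose_spec
  refine ⟨⟨genericPoint X, hX⟩, rfl, ?_⟩
  set g := p.iso.hom ≫ p.target.ι with hg
  let u' : p.source := p.iso.inv ⟨genericPoint Y, hY⟩
  have hgu' : g u' = genericPoint Y := by
    simp only [hg, u', Scheme.Hom.comp_apply]
    rw [← Scheme.Hom.comp_apply p.iso.inv p.iso.hom, p.iso.inv_hom_id]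
    rfl
  have h1 : (⟨genericPoint X, hX⟩ : p.source) ⤳ u' := by
    rw [← p.source.ι.isOpenEmbedding.isInducing.specializes_iff]
    exact genericPoint_specializes _
  have h2 : g ⟨genericPoint X, hX⟩ ⤳ genericPoint Y := hgu' ▸ h1.map g.continuous
  exact (h2.antisymm (genericPoint_specializes _)).eq

lemma eqToHom_stalk_eq {s s' : S} (h : s = s') :
    eqToHom (congrArg S.presheaf.stalk h) = (S.presheaf.stalkCongr (.of_eq h)).hom := by
  subst h
  simp [TopCat.Presheaf.stalkCongr]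

/-- Two open immersions from `U` compatible over `S` identify the local rings. -/
lemma stalkIso_of_openImmersions {U : Scheme.{u}} (a : U ⟶ X) (g : U ⟶ Y) [IsOpenImmersion a]
    [IsOpenImmersion g] (sX : X ⟶ S) (sY : Y ⟶ S) (h : g ≫ sY = a ≫ sX) (u : U) (x : X) (y : Y)
    (hx : a u = x) (hy : g u = y) :
    ∃ (hs : sX x = sY y) (e : X.presheaf.stalk x ≅ Y.presheaf.stalk y),
      sX.stalkMap x ≫ e.hom = eqToHom (congrArg S.presheaf.stalk hs) ≫ sY.stalkMap y := by
  subst hx hy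
  have hs : sX (a u) = sY (g u) := by
    rw [← Scheme.Hom.comp_apply, ← Scheme.Hom.comp_apply, h]
  refine ⟨hs, asIso (a.stalkMap u) ≪≫ (asIso (g.stalkMap u)).symm, ?_⟩
  simp only [Iso.trans_hom, asIso_hom, Iso.symm_hom, asIso_inv]
  rw [← Category.assoc, IsIso.comp_inv_eq, Category.assoc, ← Scheme.Hom.stalkMap_comp,
    ← Scheme.Hom.stalkMap_comp, Scheme.Hom.stalkMap_congr_hom _ _ h.symm, eqToHom_stalk_eq hs]

lemma eqToHom_residueField_eq {s s' : S} (h : s = s') :
    eqToHom (congrArg S.residueField h) = (S.residueFieldCongr h).hom := by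
  subst h
  simp

/-- Two open immersions from `U` compatible over `S` identify the residue fields. -/
lemma residueIso_of_openImmersions {U : Scheme.{u}} (a : U ⟶ X) (g : U ⟶ Y) [IsOpenImmersion a]
    [IsOpenImmersion g] (sX : X ⟶ S) (sY : Y ⟶ S) (h : g ≫ sY = a ≫ sX) (u : U) (x : X) (y : Y)
    (hx : a u = x) (hy : g u = y) :
    ∃ (hs : sX x = sY y) (e : X.residueField x ≅ Y.residueField y),
      sX.residueFieldMap x ≫ e.hom =
        eqToHom (congrArg S.residueField hs) ≫ sY.residueFieldMap y := by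
  subst hx hy
  have hs : sX (a u) = sY (g u) := by
    rw [← Scheme.Hom.comp_apply, ← Scheme.Hom.comp_apply, h]
  refine ⟨hs, asIso (a.residueFieldMap u) ≪≫ (asIso (g.residueFieldMap u)).symm, ?_⟩
  simp only [Iso.trans_hom, asIso_hom, Iso.symm_hom, asIso_inv]
  rw [← Category.assoc, IsIso.comp_inv_eq, Category.assoc, ← Scheme.residueFieldMap_comp,
    ← Scheme.residueFieldMap_comp, Scheme.Hom.residueFieldMap_congr h.symm,
    eqToHom_residueField_eq hs]

/-! ### Translating the compatibility hypotheses -/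

lemma SpecMap_eqToHom_fromSpecStalk {s s' : S} (h : s' = s) :
    Spec.map (eqToHom (congrArg S.presheaf.stalk h)) ≫ S.fromSpecStalk s' = S.fromSpecStalk s := by
  subst h
  simp

lemma he_of_stalk_compat (sX : X ⟶ S) (sY : Y ⟶ S) {x : X} {y : Y} (hs : sX x = sY y)
    (e : X.presheaf.stalk x ≅ Y.presheaf.stalk y)
    (h : sX.stalkMap x ≫ e.hom = eqToHom (congrArg S.presheaf.stalk hs) ≫ sY.stalkMap y) :
    Spec.map e.inv ≫ Y.fromSpecStalk y ≫ sY = X.fromSpecStalk x ≫ sX := by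
  have h' : sY.stalkMap y ≫ e.inv = eqToHom (congrArg S.presheaf.stalk hs.symm) ≫ sX.stalkMap x := by
    rw [Iso.comp_inv_eq, Category.assoc, h, ← Category.assoc, eqToHom_trans, eqToHom_refl,
      Category.id_comp]
  rw [← Scheme.SpecMap_stalkMap_fromSpecStalk (f := sY),
    ← Scheme.SpecMap_stalkMap_fromSpecStalk (f := sX), ← Spec.map_comp_assoc, h', Spec.map_comp,
    Category.assoc, SpecMap_eqToHom_fromSpecStalk hs.symm]

lemma residue_eqToHom {s s' : S} (h : s = s') :
    S.residue s ≫ eqToHom (congrArg S.residueField h) =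
      eqToHom (congrArg S.presheaf.stalk h) ≫ S.residue s' := by
  subst h
  simp

lemma stalk_compat_of_residue_compat (sX : X ⟶ S) (sY : Y ⟶ S) {x : X} {y : Y} (hs : sX x = sY y)
    (eκ : X.residueField x ≅ Y.residueField y) [IsIso (X.residue x)] [IsIso (Y.residue y)]
    (h : sX.residueFieldMap x ≫ eκ.hom =
      eqToHom (congrArg S.residueField hs) ≫ sY.residueFieldMap y) :
    sX.stalkMap x ≫ (asIso (X.residue x) ≪≫ eκ ≪≫ (asIso (Y.residue y)).symm).hom =
      eqToHom (congrArg S.presheaf.stalk hs) ≫ sY.stalkMap y := by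
  simp only [Iso.trans_hom, asIso_hom, Iso.symm_hom, asIso_inv]
  rw [← Category.assoc, ← Category.assoc, IsIso.comp_inv_eq, Category.assoc (eqToHom _),
    ← Scheme.residue_residueFieldMap, ← Scheme.residue_residueFieldMap, Category.assoc, h,
    ← Category.assoc, residue_eqToHom hs, Category.assoc]

/-- At the generic point of an integral scheme the residue map is an isomorphism. -/
instance isIso_residue_genericPoint [IsIntegral X] : IsIso (X.residue (genericPoint X)) := by
  rw [ConcreteCategory.isIso_iff_bijective]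
  refine ⟨?_, X.residue_surjective _⟩
  exact (X.residue (genericPoint X)).hom.injective

/-- Integral schemes locally of finite type over `S`: residue field criterion for being
`S`-birational (Stacks 0BAE). -/
theorem birationalOver_iff_residueField [IsIntegral X] [IsIntegral Y] (sX : X ⟶ S) (sY : Y ⟶ S)
    [LocallyOfFiniteType sX] [LocallyOfFiniteType sY] :
    Scheme.BirationalOver sX sY ↔
      ∃ (hs : sX (genericPoint X) = sY (genericPoint Y))
        (e : X.residueField (genericPoint X) ≅ Y.residueField (genericPoint Y)),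
        sX.residueFieldMap (genericPoint X) ≫ e.hom =
          eqToHom (congrArg S.residueField hs) ≫ sY.residueFieldMap (genericPoint Y) := by
  constructor
  · rintro ⟨p, hp⟩
    obtain ⟨u, hu1, hu2⟩ := exists_point_of_partialIso p
    exact residueIso_of_openImmersions p.source.ι (p.iso.hom ≫ p.target.ι) sX sY
      (by rw [Category.assoc]; exact hp) u _ _ hu1 hu2
  · rintro ⟨hs, eκ, h⟩
    refine birationalOver_of_stalkIso sX sY
      (asIso (X.residue _) ≪≫ eκ ≪≫ (asIso (Y.residue _)).symm)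
      (he_of_stalk_compat sX sY hs _ (stalk_compat_of_residue_compat sX sY hs eκ h))
      (locUniq_of_isGermInjectiveAt sX _) (locUniq_of_isGermInjectiveAt sY _)
      (fun φ hφ ↦ spread_out_of_isGermInjective' sX sY φ hφ)
      (fun φ hφ ↦ spread_out_of_isGermInjective' sY sX φ hφ)

end Groth.Agent.Lib.Helper4.BiratGeneric
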