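import Mathlib
import Groth.Agent.Lib.Helper4.BiratGeneric
import Groth.Agent.Lib.Helper4.SpreadLfp

set_option backward.isDefEq.respectTransparency false
set_option backward.isDefEq.respectTransparency.types false
set_option autoImplicit false

/-!
# Local uniqueness of spreading out for targets locally of finite type

Mathlib TODO in `SpreadingOut.lean`: the germ-injectivity condition in
`spread_out_unique_of_isGermInjective` is unnecessary when the target is locally of finite type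
(over a base, and the two morphisms are morphisms over that base).
-/

universe u
open CategoryTheory CategoryTheory.Limits AlgebraicGeometry TopologicalSpace

namespace Groth.Agent.Lib.Helper4.SpreadUniqLft

variable {X Y S : Scheme.{u}}

lemma exists_finset_ringHom_ext {R A : Type u} [CommRing R] [CommRing A] (ρ : R →+* A)
    (hρ : ρ.FiniteType) :
    ∃ s : Finset A, ∀ (B : Type u) [CommRing B] (φ₁ φ₂ : A →+* B),
      φ₁.comp ρ = φ₂.comp ρ → (∀ t ∈ s, φ₁ t = φ₂ t) → φ₁ = φ₂ := by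
  let := ρ.toAlgebra
  obtain ⟨s, hs⟩ := hρ.out
  refine ⟨s, fun B _ φ₁ φ₂ h hst ↦ ?_⟩
  let := (φ₁.comp ρ).toAlgebra
  let ψ₁ : A →ₐ[R] B := { φ₁ with commutes' := fun r ↦ rfl }
  let ψ₂ : A →ₐ[R] B := { φ₂ with commutes' := fun r ↦ (congr($h r)).symm }
  have : ψ₁ = ψ₂ := AlgHom.ext_of_adjoin_eq_top hs (fun t ht ↦ hst t ht)
  exact RingHom.ext fun a ↦ congr($this a)

/-- Two `S`-morphisms into a scheme locally of finite type over `S` which agree on the stalk at
`w` agree on a neighbourhood of `w`. -/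
lemma spread_out_unique_of_lft (sX : X ⟶ S) [LocallyOfFiniteType sX] {W : Scheme.{u}} {w : W}
    (f g : W ⟶ X) (hfg : f ≫ sX = g ≫ sX) (e : f w = g w)
    (H : f.stalkMap w =
      X.presheaf.stalkSpecializes (Inseparable.of_eq e.symm).specializes ≫ g.stalkMap w) :
    ∃ (U : W.Opens), w ∈ U ∧ U.ι ≫ f = U.ι ≫ g := by
  obtain ⟨_, ⟨S₀, hS₀, rfl⟩, hpS₀, -⟩ :=
    S.isBasis_affineOpens.exists_subset_of_mem_open (Set.mem_univ (sX (f w))) isOpen_univ
  obtain ⟨_, ⟨V : X.Opens, hV, rfl⟩, hxV, hVS₀⟩ :=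
    X.isBasis_affineOpens.exists_subset_of_mem_open hpS₀ (sX ⁻¹ᵁ S₀).2
  have hxV' : g w ∈ V := e ▸ hxV
  let W₀ : W.Opens := f ⁻¹ᵁ V ⊓ g ⁻¹ᵁ V
  have hwW₀ : w ∈ W₀ := ⟨hxV, hxV'⟩
  obtain ⟨s, hs⟩ := exists_finset_ringHom_ext (sX.appLE S₀ V hVS₀).hom
    (sX.finiteType_appLE hS₀ hV _)
  have hgerm : ∀ t : Γ(X, V), W.presheaf.germ W₀ w hwW₀ (f.appLE V W₀ inf_le_left t) =
      W.presheaf.germ W₀ w hwW₀ (g.appLE V W₀ inf_le_right t) := by
    intro t
    have : f.appLE V W₀ inf_le_left ≫ W.presheaf.germ W₀ w hwW₀ =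
        g.appLE V W₀ inf_le_right ≫ W.presheaf.germ W₀ w hwW₀ := by
      simp only [Scheme.Hom.appLE, Category.assoc, W.presheaf.germ_res',
        ← Scheme.Hom.germ_stalkMap, H]
      simp only [TopCat.Presheaf.germ_stalkSpecializes_assoc, Scheme.Hom.germ_stalkMap]
    exact congr($this t)
  choose W' hwW' i₁ i₂ hW' using fun t ↦ W.presheaf.germ_eq w hwW₀ hwW₀ _ _ (hgerm t)
  let U : W.Opens := s.inf W' ⊓ W₀
  have hwU : w ∈ U := by
    rw [← SetLike.mem_coe, TopologicalSpace.Opens.coe_inf, TopologicalSpace.Opens.coe_finset_inf]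
    exact ⟨by simpa using fun t _ ↦ hwW' t, hwW₀⟩
  have hUW₀ : U ≤ W₀ := inf_le_right
  refine ⟨U, hwU, ?_⟩
  have key : f.appLE V U (hUW₀.trans inf_le_left) = g.appLE V U (hUW₀.trans inf_le_right) := by
    ext1
    apply hs
    · change (sX.appLE S₀ V hVS₀ ≫ f.appLE V U _).hom = (sX.appLE S₀ V hVS₀ ≫ g.appLE V U _).hom
      rw [Scheme.Hom.appLE_comp_appLE, Scheme.Hom.appLE_comp_appLE]
      congr 2
    · intro t ht
      have hUW' : U ≤ W' t := inf_le_left.trans (Finset.inf_le ht)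
      have h1 : f.appLE V U (hUW₀.trans inf_le_left) =
          f.appLE V W₀ inf_le_left ≫ W.presheaf.map (i₁ t).op ≫
            W.presheaf.map (homOfLE hUW').op := by
        rw [← W.presheaf.map_comp, Scheme.Hom.appLE_map]
      have h2 : g.appLE V U (hUW₀.trans inf_le_right) =
          g.appLE V W₀ inf_le_right ≫ W.presheaf.map (i₂ t).op ≫
            W.presheaf.map (homOfLE hUW').op := by
        rw [← W.presheaf.map_comp, Scheme.Hom.appLE_map]
      rw [h1, h2]
      exact congrArg (W.presheaf.map (homOfLE hUW').op) (hW' t)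
  rw [← Scheme.Hom.resLE_comp_ι _ (hUW₀.trans inf_le_left),
    ← Scheme.Hom.resLE_comp_ι _ (hUW₀.trans inf_le_right)]
  congr 1
  have : IsAffine V := hV
  suffices ∀ (U₀ V₀) (eU : U = U₀) (eV : V = V₀),
      f.appLE V₀ U₀ (eU ▸ eV ▸ hUW₀.trans inf_le_left) =
        g.appLE V₀ U₀ (eU ▸ eV ▸ hUW₀.trans inf_le_right) by
    rw [← cancel_mono V.toScheme.isoSpec.hom]
    simp only [Scheme.isoSpec, asIso_hom, Scheme.toSpecΓ_naturality,
      Scheme.Hom.app_eq_appLE, Scheme.Hom.resLE_appLE]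
    congr 2
    apply this <;> simp
  rintro U V rfl rfl
  exact key

/-- Variant with the hypothesis an equality of scheme morphisms. -/
lemma spread_out_unique_of_lft' (sX : X ⟶ S) [LocallyOfFiniteType sX] {W : Scheme.{u}} {w : W}
    (f g : W ⟶ X) (hfg : f ≫ sX = g ≫ sX)
    (e : W.fromSpecStalk w ≫ f = W.fromSpecStalk w ≫ g) :
    ∃ (U : W.Opens), w ∈ U ∧ U.ι ≫ f = U.ι ≫ g := by
  fapply spread_out_unique_of_lft sX f g hfg
  · simpa using congr($e (IsLocalRing.closedPoint _))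
  · apply Spec.map_injective
    rw [← cancel_mono (X.fromSpecStalk _)]
    simpa [Scheme.SpecMap_stalkSpecializes_fromSpecStalk]

open Groth.Agent.Lib.Helper4.BiratGeneric in
lemma locUniq_of_lft (sX : X ⟶ S) [LocallyOfFiniteType sX] (x : X) : LocUniq sX x := by
  intro W hxW h hS hh
  have h' : W.fromSpecStalkOfMem x hxW ≫ h = W.fromSpecStalkOfMem x hxW ≫ W.ι := by
    rw [hh, Scheme.Opens.fromSpecStalkOfMem_ι]
  have h'' : W.toScheme.fromSpecStalk ⟨x, hxW⟩ ≫ h = W.toScheme.fromSpecStalk ⟨x, hxW⟩ ≫ W.ι := by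
    simpa only [Scheme.Opens.fromSpecStalkOfMem, Spec.map_inv, Category.assoc, IsIso.inv_comp_eq,
      IsIso.hom_inv_id_assoc] using h'
  obtain ⟨U', hxU', e⟩ := spread_out_unique_of_lft' sX (W := W.toScheme) h W.ι hS
    (w := ⟨x, hxW⟩) h''
  refine ⟨W.ι ''ᵁ U', W.ι_image_le U', ⟨_, hxU', rfl⟩, ?_⟩
  rw [← Scheme.Opens.isoImage_ι_inv_ι, Category.assoc, e, ← Category.assoc,
    Scheme.Opens.isoImage_ι_inv_ι, Scheme.homOfLE_ι]

open Groth.Agent.Lib.Helper4.BiratGeneric in
/-- Irreducible schemes locally of finite presentation over `S`: local ring criterion for being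
`S`-birational (Stacks 0BAD). -/
theorem birationalOver_iff_stalk [IrreducibleSpace X] [IrreducibleSpace Y] (sX : X ⟶ S) (sY : Y ⟶ S)
    [LocallyOfFinitePresentation sX] [LocallyOfFinitePresentation sY] :
    Scheme.BirationalOver sX sY ↔
      ∃ (hs : sX (genericPoint X) = sY (genericPoint Y))
        (e : X.presheaf.stalk (genericPoint X) ≅ Y.presheaf.stalk (genericPoint Y)),
        sX.stalkMap (genericPoint X) ≫ e.hom =
          eqToHom (congrArg S.presheaf.stalk hs) ≫ sY.stalkMap (genericPoint Y) := by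
  constructor
  · rintro ⟨p, hp⟩
    obtain ⟨u, hu1, hu2⟩ := exists_point_of_partialIso p
    exact stalkIso_of_openImmersions p.source.ι (p.iso.hom ≫ p.target.ι) sX sY
      (by rw [Category.assoc]; exact hp) u _ _ hu1 hu2
  · rintro ⟨hs, e, h⟩
    exact birationalOver_of_stalkIso sX sY e (he_of_stalk_compat sX sY hs e h)
      (locUniq_of_lft sX _) (locUniq_of_lft sY _)
      (fun φ hφ ↦ SpreadLfp.spread_out_of_lfp' sX sY φ hφ)
      (fun φ hφ ↦ SpreadLfp.spread_out_of_lfp' sY sX φ hφ)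

end Groth.Agent.Lib.Helper4.SpreadUniqLft
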