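import Mathlib
import Groth.Agent.Lib.Helper4.SpreadLfp
import Groth.Agent.Lib.Helper4.SpreadUniqLft
import Groth.Agent.Lib.Helper4.ExtValPoint

set_option backward.isDefEq.respectTransparency false
set_option backward.isDefEq.respectTransparency.types false
set_option autoImplicit false

/-!
# Glueing morphisms near a closed point (Stacks 0BX? "glueing in a point")
-/

universe u
open CategoryTheory CategoryTheory.Limits AlgebraicGeometry TopologicalSpace

namespace Groth.Agent.Lib.Helper4.GlueClosedPoint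

/-- Affine case: a point in the closure of the image of `Spec R ⟶ Spec A` is a specialization of
a point of the image. -/
lemma exists_specializes_of_mem_closure_range_Spec {R A : CommRingCat.{u}} (φ : A ⟶ R)
    (w : Spec A) (hw : w ∈ closure (Set.range (Spec.map φ))) :
    ∃ z : Spec R, Spec.map φ z ⤳ w := by
  have hw' : w ∈ closure (Set.range (PrimeSpectrum.comap φ.hom)) := hw
  rw [PrimeSpectrum.closure_range_comap] at hw'
  have hle : RingHom.ker φ.hom ≤ w.asIdeal := hw'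
  obtain ⟨q, hq₁, hq₂⟩ := Ideal.exists_minimalPrimes_le hle
  rw [RingHom.ker_eq_comap_bot] at hq₁
  obtain ⟨p', hp', -, hpq⟩ := Ideal.exists_comap_eq_of_mem_minimalPrimes φ.hom q hq₁
  refine ⟨⟨p', hp'⟩, ?_⟩
  have : (PrimeSpectrum.comap φ.hom ⟨p', hp'⟩) ⤳ w := by
    rw [← PrimeSpectrum.le_iff_specializes]
    show p'.comap φ.hom ≤ w.asIdeal
    rw [hpq]; exact hq₂
  exact this

/-- For a quasi-compact morphism, a point in the closure of the image is a specialization of a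
point of the image. -/
theorem exists_specializes_of_mem_closure_range {Z W : Scheme.{u}} (g : Z ⟶ W) [QuasiCompact g]
    (w : W) (hw : w ∈ closure (Set.range g)) : ∃ z : Z, g z ⤳ w := by
  obtain ⟨_, ⟨W₀ : W.Opens, hW₀, rfl⟩, hwW₀, -⟩ :=
    W.isBasis_affineOpens.exists_subset_of_mem_open (Set.mem_univ w) isOpen_univ
  have hc : IsCompact ((g ⁻¹ᵁ W₀ : Z.Opens) : Set Z) := g.isCompact_preimage hW₀.isCompact
  obtain ⟨R, h, hh⟩ := isCompact_iff_exists.mp hc
  have hrange : Set.range (h ≫ g) ⊆ Set.range W₀.ι := by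
    rintro _ ⟨r, rfl⟩
    rw [Scheme.Opens.range_ι]
    have : h r ∈ (g ⁻¹ᵁ W₀ : Z.Opens) := by
      have : h r ∈ Set.range h := ⟨r, rfl⟩
      rw [hh] at this; exact this
    exact this
  let k' : Spec R ⟶ W₀.toScheme := IsOpenImmersion.lift W₀.ι (h ≫ g) hrange
  have hk' : k' ≫ W₀.ι = h ≫ g := IsOpenImmersion.lift_fac _ _ _
  let k'' : Spec R ⟶ Spec Γ(W, W₀) := k' ≫ hW₀.isoSpec.hom
  have hk'' : k'' ≫ hW₀.fromSpec = h ≫ g := by
    simp only [k'', IsAffineOpen.fromSpec, Category.assoc, Iso.hom_inv_id_assoc, hk']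
  obtain ⟨φ, hφ⟩ : ∃ φ, Spec.map φ = k'' := ⟨Spec.preimage k'', Spec.map_preimage _⟩
  -- the point of `Spec Γ(W, W₀)` corresponding to `w`
  let w' : Spec Γ(W, W₀) := hW₀.primeIdealOf ⟨w, hwW₀⟩
  have hw' : hW₀.fromSpec w' = w := hW₀.fromSpec_primeIdealOf ⟨w, hwW₀⟩
  have hind : Topology.IsInducing hW₀.fromSpec :=
    hW₀.fromSpec.isOpenEmbedding.isInducing
  have hcl : w' ∈ closure (Set.range k'') := by
    rw [hind.closure_eq_preimage_closure_image, Set.mem_preimage, hw', ← Set.range_comp]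
    have e1 : (⇑hW₀.fromSpec ∘ ⇑k'') = ⇑(h ≫ g) := by
      rw [← hk'']; rfl
    rw [e1]
    have e2 : Set.range (h ≫ g) = (W₀ : Set W) ∩ Set.range g := by
      ext v
      constructor
      · rintro ⟨r, rfl⟩
        refine ⟨?_, ⟨h r, rfl⟩⟩
        have : h r ∈ Set.range h := ⟨r, rfl⟩
        rw [hh] at this; exact this
      · rintro ⟨hv, ⟨z, rfl⟩⟩
        have : z ∈ Set.range h := by rw [hh]; exact hv
        obtain ⟨r, rfl⟩ := this
        exact ⟨r, rfl⟩
    rw [e2]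
    exact W₀.2.inter_closure ⟨hwW₀, hw⟩
  rw [← hφ] at hcl
  obtain ⟨z', hz'⟩ := exists_specializes_of_mem_closure_range_Spec φ w' hcl
  refine ⟨h z', ?_⟩
  have := hz'.map hW₀.fromSpec.continuous
  rw [hw', hφ] at this
  have e3 : hW₀.fromSpec (k'' z') = g (h z') := by
    rw [← Scheme.Hom.comp_apply, hk'']; rfl
  rw [e3] at this
  exact this

/-- Two morphisms agreeing on two opens covering the source are equal. -/
lemma hom_ext_of_sup_eq_top {X Z : Scheme.{u}} (U V : X.Opens) (h : U ⊔ V = ⊤) (a b : X ⟶ Z)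
    (hU : U.ι ≫ a = U.ι ≫ b) (hV : V.ι ≫ a = V.ι ≫ b) : a = b := by
  let W : Bool → X.Opens := fun i => bif i then U else V
  have hW : TopologicalSpace.IsOpenCover W := by
    apply TopologicalSpace.IsOpenCover.mk
    rw [eq_top_iff, ← h]
    exact sup_le (le_iSup W true) (le_iSup W false)
  refine (X.openCoverOfIsOpenCover W hW).hom_ext a b ?_
  rintro (_ | _)
  · exact hV
  · exact hU

/-- Two morphisms into an affine scheme which agree on an open `O` and on the spectrum of the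
local ring at `x`, where `O ∪ {x}` is everything, are equal. -/
lemma hom_ext_of_isAffine_of_stalk {W' Y' : Scheme.{u}} [IsAffine Y'] (k₁ k₂ : W' ⟶ Y')
    (O : W'.Opens) (x : W') (hO : ∀ w : W', w = x ∨ w ∈ O)
    (h1 : O.ι ≫ k₁ = O.ι ≫ k₂) (h2 : W'.fromSpecStalk x ≫ k₁ = W'.fromSpecStalk x ≫ k₂) :
    k₁ = k₂ := by
  apply ext_of_isAffine
  apply CommRingCat.hom_ext
  apply RingHom.ext
  intro s
  apply TopCat.Presheaf.section_ext W'.sheaf ⊤
  intro w hw
  rcases hO w with rfl | hwO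
  · have e := congrArg (fun f => f.appTop) h2
    simp only [Scheme.Hom.comp_appTop, Scheme.fromSpecStalk_appTop] at e
    have hiso : IsIso (homOfLE (le_top : (W'.fromSpecStalk w) ⁻¹ᵁ ⊤ ≤ ⊤)) :=
      ⟨⟨homOfLE (fun _ _ => trivial), Subsingleton.elim _ _, Subsingleton.elim _ _⟩⟩
    have hiso2 : IsIso ((Scheme.ΓSpecIso (W'.presheaf.stalk w)).inv ≫
        (Spec (W'.presheaf.stalk w)).presheaf.map (homOfLE (le_top :
          (W'.fromSpecStalk w) ⁻¹ᵁ ⊤ ≤ ⊤)).op) := inferInstance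
    have e' : (k₁.appTop ≫ W'.presheaf.germ ⊤ w trivial) ≫
        ((Scheme.ΓSpecIso (W'.presheaf.stalk w)).inv ≫
        (Spec (W'.presheaf.stalk w)).presheaf.map (homOfLE (le_top :
          (W'.fromSpecStalk w) ⁻¹ᵁ ⊤ ≤ ⊤)).op) =
        (k₂.appTop ≫ W'.presheaf.germ ⊤ w trivial) ≫
        ((Scheme.ΓSpecIso (W'.presheaf.stalk w)).inv ≫
        (Spec (W'.presheaf.stalk w)).presheaf.map (homOfLE (le_top :
          (W'.fromSpecStalk w) ⁻¹ᵁ ⊤ ≤ ⊤)).op) := by
      simpa only [Category.assoc] using e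
    have e'' := (cancel_mono _).mp e'
    exact congrArg (fun f => f.hom s) e''
  · have e := congrArg (fun f => f.appTop) h1
    simp only [Scheme.Hom.comp_appTop, Scheme.Opens.ι_appTop] at e
    have e' := congrArg (fun f => f.hom s) e
    have hwO' : w ∈ O.ι ''ᵁ ⊤ := by
      rw [Scheme.Opens.ι_image_top]; exact hwO
    have e'' := congrArg (fun t => W'.presheaf.germ (O.ι ''ᵁ ⊤) w hwO' t) e'
    simp only [CommRingCat.comp_apply] at e''
    erw [TopCat.Presheaf.germ_res_apply, TopCat.Presheaf.germ_res_apply] at e''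
    exact e''

/-- **Uniqueness.** Two morphisms `X ⟶ Y` agreeing on `U = X ∖ {x}` and on `Spec 𝒪_{X,x}` are
equal. -/
theorem hom_ext_of_compl_singleton {X Y : Scheme.{u}} (x : X) (U : X.Opens)
    (hU : (U : Set X) = {x}ᶜ) (g₁ g₂ : X ⟶ Y) (h1 : U.ι ≫ g₁ = U.ι ≫ g₂)
    (h2 : X.fromSpecStalk x ≫ g₁ = X.fromSpecStalk x ≫ g₂) : g₁ = g₂ := by
  have hx : g₁ x = g₂ x := by
    have := congr($h2 (IsLocalRing.closedPoint _))
    simpa using this
  obtain ⟨_, ⟨Y' : Y.Opens, hY', rfl⟩, hxY', -⟩ :=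
    Y.isBasis_affineOpens.exists_subset_of_mem_open (Set.mem_univ (g₁ x)) isOpen_univ
  let W : X.Opens := g₁ ⁻¹ᵁ Y' ⊓ g₂ ⁻¹ᵁ Y'
  have hxW : x ∈ W := ⟨hxY', by show g₂ x ∈ Y'; rw [← hx]; exact hxY'⟩
  have hUW : U ⊔ W = ⊤ := by
    rw [eq_top_iff]
    intro v _
    by_cases hv : v = x
    · exact Or.inr (hv ▸ hxW)
    · refine Or.inl ?_
      show v ∈ (U : Set X)
      rw [hU]; exact hv
  apply hom_ext_of_sup_eq_top U W hUW _ _ h1
  let k₁ : W.toScheme ⟶ Y'.toScheme := g₁.resLE Y' W inf_le_left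
  let k₂ : W.toScheme ⟶ Y'.toScheme := g₂.resLE Y' W inf_le_right
  have hk₁ : k₁ ≫ Y'.ι = W.ι ≫ g₁ := Scheme.Hom.resLE_comp_ι _ _
  have hk₂ : k₂ ≫ Y'.ι = W.ι ≫ g₂ := Scheme.Hom.resLE_comp_ι _ _
  rw [← hk₁, ← hk₂]
  congr 1
  have : IsAffine Y'.toScheme := hY'
  let xW : W.toScheme := ⟨x, hxW⟩
  refine hom_ext_of_isAffine_of_stalk k₁ k₂ (W.ι ⁻¹ᵁ U) xW ?_ ?_ ?_
  · intro w
    by_cases hw : w.1 = x
    · exact Or.inl (Subtype.ext hw)
    · refine Or.inr ?_
      show w.1 ∈ (U : Set X)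
      rw [hU]; exact hw
  · rw [← cancel_mono Y'.ι, Category.assoc, Category.assoc, hk₁, hk₂]
    have e : (W.ι ⁻¹ᵁ U).ι ≫ W.ι = (W.ι ∣_ U) ≫ U.ι := (morphismRestrict_ι _ _).symm
    rw [reassoc_of% e, reassoc_of% e, h1]
  · rw [← cancel_epi (Spec.map (inv (W.ι.stalkMap xW))), ← cancel_mono Y'.ι]
    simp only [Category.assoc, hk₁, hk₂]
    have e : Spec.map (inv (W.ι.stalkMap xW)) ≫ W.toScheme.fromSpecStalk xW ≫ W.ι =
        X.fromSpecStalk x := by
      rw [← Category.assoc]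
      exact W.fromSpecStalkOfMem_ι x hxW
    rw [reassoc_of% e, reassoc_of% e, h2]

/-- Closed-subset version of `exists_specializes_of_mem_closure_range`. -/
theorem exists_specializes_of_mem_closure_image {Z W : Scheme.{u}} (g : Z ⟶ W) [QuasiCompact g]
    (C : Set Z) (hC : IsClosed C) (w : W) (hw : w ∈ closure (g '' C)) : ∃ c ∈ C, g c ⤳ w := by
  let I := Scheme.IdealSheafData.vanishingIdeal ⟨C, hC⟩
  have hr : Set.range (I.subschemeι ≫ g) = g '' C := by
    rw [Scheme.Hom.comp_base, TopCat.coe_comp, Set.range_comp,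
      Scheme.IdealSheafData.range_subschemeι, Scheme.IdealSheafData.coe_support_vanishingIdeal]
    rfl
  rw [← hr] at hw
  obtain ⟨z, hz⟩ := exists_specializes_of_mem_closure_range (I.subschemeι ≫ g) w hw
  refine ⟨I.subschemeι z, ?_, hz⟩
  have : I.subschemeι z ∈ Set.range I.subschemeι := ⟨z, rfl⟩
  rw [Scheme.IdealSheafData.range_subschemeι,
    Scheme.IdealSheafData.coe_support_vanishingIdeal] at this
  exact this

/-- Two morphisms which agree locally on the source are equal. -/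
lemma hom_ext_of_locally_eq {T Y : Scheme.{u}} (f₁ f₂ : T ⟶ Y)
    (h : ∀ z : T, ∃ O : T.Opens, z ∈ O ∧ O.ι ≫ f₁ = O.ι ≫ f₂) : f₁ = f₂ := by
  choose O hzO hO using h
  have hcov : TopologicalSpace.IsOpenCover O := by
    apply TopologicalSpace.IsOpenCover.mk
    rw [eq_top_iff]
    intro z _
    exact TopologicalSpace.Opens.mem_iSup.mpr ⟨z, hzO z⟩
  exact (T.openCoverOfIsOpenCover O hcov).hom_ext f₁ f₂ hO

open Groth.Agent.Lib.Helper4 in
/-- **Existence.** Let `Y` be locally of finite presentation over `S`, `x` a point of `X` with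
`U = X ∖ {x}` open and `U ⟶ X` quasi-compact. A compatible pair of `S`-morphisms `a : U ⟶ Y`,
`b : Spec 𝒪_{X,x} ⟶ Y` glues to an `S`-morphism `X ⟶ Y`. -/
theorem exists_glue_of_compl_singleton {X Y S : Scheme.{u}} (p : X ⟶ S) (q : Y ⟶ S)
    [LocallyOfFinitePresentation q] (x : X) (U : X.Opens) (hU : (U : Set X) = {x}ᶜ)
    [QuasiCompact U.ι] (a : (U : Scheme.{u}) ⟶ Y) (b : Spec (X.presheaf.stalk x) ⟶ Y)
    (ha : a ≫ q = U.ι ≫ p) (hb : b ≫ q = X.fromSpecStalk x ≫ p)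
    (hab : ((X.fromSpecStalk x) ⁻¹ᵁ U).ι ≫ b = ((X.fromSpecStalk x) ∣_ U) ≫ a) :
    ∃ g : X ⟶ Y, g ≫ q = p ∧ U.ι ≫ g = a ∧ X.fromSpecStalk x ≫ g = b := by
  obtain ⟨W, hxW, b', hb'1, hb'2⟩ := SpreadLfp.spread_out_of_lfp' p q b hb
  let T : X.Opens := U ⊓ W
  let α : T.toScheme ⟶ Y := X.homOfLE (inf_le_left : T ≤ U) ≫ a
  let β : T.toScheme ⟶ Y := X.homOfLE (inf_le_right : T ≤ W) ≫ b'
  have hαβ : α ≫ q = β ≫ q := by
    simp only [α, β, Category.assoc, ha, hb'2, Scheme.homOfLE_ι_assoc]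
  -- the agreement locus
  let N' : T.toScheme.Opens := ⟨{z | ∃ O : T.toScheme.Opens, z ∈ O ∧ O.ι ≫ α = O.ι ≫ β}, by
    rw [isOpen_iff_forall_mem_open]
    rintro z ⟨O, hzO, hO⟩
    exact ⟨O, fun z' hz' => ⟨O, hz', hO⟩, O.2, hzO⟩⟩
  have hN' : N'.ι ≫ α = N'.ι ≫ β := by
    apply hom_ext_of_locally_eq
    intro z
    obtain ⟨O, hzO, hO⟩ := z.2
    refine ⟨N'.ι ⁻¹ᵁ O, hzO, ?_⟩
    have e : (N'.ι ⁻¹ᵁ O).ι ≫ N'.ι = (N'.ι ∣_ O) ≫ O.ι := (morphismRestrict_ι _ _).symm
    rw [reassoc_of% e, reassoc_of% e, hO]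
  -- generalizations of `x` lying in `T` are in the agreement locus
  have hgen : ∀ z : T.toScheme, z.1 ⤳ x → z ∈ N' := by
    rintro ⟨z, hzT⟩ hzx
    have hzx' : z ⤳ x := hzx
    have hzU : z ∈ U := hzT.1
    have hzW : z ∈ W := hzT.2
    have key : U.fromSpecStalkOfMem z hzU ≫ a = W.fromSpecStalkOfMem z hzW ≫ b' := by
      let σ : Spec (X.presheaf.stalk z) ⟶ Spec (X.presheaf.stalk x) :=
        Spec.map (X.presheaf.stalkSpecializes hzx')
      have hσ : σ ≫ X.fromSpecStalk x = X.fromSpecStalk z :=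
        Scheme.SpecMap_stalkSpecializes_fromSpecStalk hzx'
      have hR : W.fromSpecStalkOfMem z hzW = σ ≫ W.fromSpecStalkOfMem x hxW := by
        rw [← cancel_mono W.ι, Category.assoc, Scheme.Opens.fromSpecStalkOfMem_ι,
          Scheme.Opens.fromSpecStalkOfMem_ι, hσ]
      let V' : (Spec (X.presheaf.stalk x)).Opens := (X.fromSpecStalk x) ⁻¹ᵁ U
      have hrange : Set.range σ ⊆ Set.range V'.ι := by
        rintro _ ⟨t, rfl⟩
        rw [Scheme.Opens.range_ι]
        show X.fromSpecStalk x (σ t) ∈ U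
        rw [← Scheme.Hom.comp_apply, hσ]
        have : X.fromSpecStalk z t ∈ Set.range (X.fromSpecStalk z) := ⟨t, rfl⟩
        rw [Scheme.range_fromSpecStalk] at this
        exact this.mem_open U.2 hzU
      let σ' := IsOpenImmersion.lift V'.ι σ hrange
      have hσ' : σ' ≫ V'.ι = σ := IsOpenImmersion.lift_fac _ _ _
      have hL : σ' ≫ ((X.fromSpecStalk x) ∣_ U) = U.fromSpecStalkOfMem z hzU := by
        rw [← cancel_mono U.ι, Category.assoc, morphismRestrict_ι, reassoc_of% hσ', hσ,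
          Scheme.Opens.fromSpecStalkOfMem_ι]
      rw [hR, Category.assoc, ← hb'1, ← hL, Category.assoc, ← hab, reassoc_of% hσ']
    have e : T.toScheme.fromSpecStalk ⟨z, hzT⟩ ≫ α = T.toScheme.fromSpecStalk ⟨z, hzT⟩ ≫ β := by
      have e0 : T.toScheme.fromSpecStalk ⟨z, hzT⟩ =
          Spec.map (T.ι.stalkMap ⟨z, hzT⟩) ≫ T.fromSpecStalkOfMem z hzT := by
        rw [Scheme.Opens.fromSpecStalkOfMem, ← Spec.map_comp_assoc, IsIso.inv_hom_id, Spec.map_id,
          Category.id_comp]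
      have e1 := BiratGeneric.fromSpecStalkOfMem_homOfLE (inf_le_left : T ≤ U) z hzT
      have e2 := BiratGeneric.fromSpecStalkOfMem_homOfLE (inf_le_right : T ≤ W) z hzT
      rw [e0]
      simp only [α, β, Category.assoc]
      rw [reassoc_of% e1, reassoc_of% e2, key]
    obtain ⟨O, hzO, hO⟩ := SpreadUniqLft.spread_out_unique_of_lft' q α β hαβ e
    exact ⟨O, hzO, hO⟩
  -- the topological step
  let N : X.Opens := T.ι ''ᵁ N'
  have hNT : N ≤ T := T.ι_image_le N'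
  let C : Set U.toScheme := {v | v.1 ∉ N}
  have hC : IsClosed C := by
    have : C = ((U.ι ⁻¹ᵁ N : U.toScheme.Opens) : Set U.toScheme)ᶜ := rfl
    rw [this]
    exact (U.ι ⁻¹ᵁ N).2.isClosed_compl
  have hxC : x ∉ closure (U.ι '' C) := by
    intro hx
    obtain ⟨c, hcC, hcx⟩ := exists_specializes_of_mem_closure_image U.ι C hC x hx
    have hcx' : c.1 ⤳ x := hcx
    have hcW : c.1 ∈ W := hcx'.mem_open W.2 hxW
    have h1 : (⟨c.1, c.2, hcW⟩ : T.toScheme) ∈ N' := hgen ⟨c.1, c.2, hcW⟩ hcx'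
    exact hcC ⟨⟨c.1, c.2, hcW⟩, h1, rfl⟩
  let W' : X.Opens := W ⊓ ⟨(closure (U.ι '' C))ᶜ, isClosed_closure.isOpen_compl⟩
  have hxW' : x ∈ W' := ⟨hxW, hxC⟩
  have hUW'N : U ⊓ W' ≤ N := by
    rintro v ⟨hvU, hvW, hvC⟩
    by_contra hvN
    exact hvC (subset_closure ⟨⟨v, hvU⟩, hvN, rfl⟩)
  have hW'W : W' ≤ W := inf_le_left
  let b'' : W'.toScheme ⟶ Y := X.homOfLE hW'W ≫ b'
  have compat : X.homOfLE (inf_le_left : U ⊓ W' ≤ U) ≫ a =
      X.homOfLE (inf_le_right : U ⊓ W' ≤ W') ≫ b'' := by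
    let e := T.ι.isoImage N'
    have he : e.hom ≫ N.ι = N'.ι ≫ T.ι := T.ι.isoImage_hom_ι N'
    have hNα : X.homOfLE (hNT.trans inf_le_left : N ≤ U) ≫ a =
        X.homOfLE (hNT.trans inf_le_right : N ≤ W) ≫ b' := by
      rw [← cancel_epi e.hom]
      have e1 : e.hom ≫ X.homOfLE (hNT.trans inf_le_left : N ≤ U) =
          N'.ι ≫ X.homOfLE (inf_le_left : T ≤ U) := by
        rw [← cancel_mono U.ι]
        simp only [Category.assoc, Scheme.homOfLE_ι]
        exact he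
      have e2 : e.hom ≫ X.homOfLE (hNT.trans inf_le_right : N ≤ W) =
          N'.ι ≫ X.homOfLE (inf_le_right : T ≤ W) := by
        rw [← cancel_mono W.ι]
        simp only [Category.assoc, Scheme.homOfLE_ι]
        exact he
      rw [reassoc_of% e1, reassoc_of% e2]
      exact hN'
    have f1 : X.homOfLE (inf_le_left : U ⊓ W' ≤ U) =
        X.homOfLE hUW'N ≫ X.homOfLE (hNT.trans inf_le_left : N ≤ U) :=
      (Scheme.homOfLE_homOfLE _ _ _).symm
    have f2 : X.homOfLE (inf_le_right : U ⊓ W' ≤ W') ≫ X.homOfLE hW'W =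
        X.homOfLE hUW'N ≫ X.homOfLE (hNT.trans inf_le_right : N ≤ W) := by
      simp only [Scheme.homOfLE_homOfLE]
    simp only [b'']
    rw [f1, Category.assoc, hNα, reassoc_of% f2]
  obtain ⟨U', hUU', hW'U', g', hg'1, hg'2, -⟩ := ExtValPoint.exists_glue_two U W' a b'' compat
  have hUW' : U ⊔ W' = ⊤ := by
    rw [eq_top_iff]
    intro v _
    by_cases hv : v = x
    · exact Or.inr (hv ▸ hxW')
    · exact Or.inl (show v ∈ (U : Set X) by rw [hU]; exact hv)
  have hU'top : U' = ⊤ := by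
    rw [eq_top_iff, ← hUW']
    exact sup_le hUU' hW'U'
  subst hU'top
  have hUι : U.ι ≫ X.topIso.inv = X.homOfLE hUU' := by
    rw [← cancel_mono (⊤ : X.Opens).ι, Category.assoc, Scheme.toIso_inv_ι, Category.comp_id,
      Scheme.homOfLE_ι]
  have hWι : W'.ι ≫ X.topIso.inv = X.homOfLE hW'U' := by
    rw [← cancel_mono (⊤ : X.Opens).ι, Category.assoc, Scheme.toIso_inv_ι, Category.comp_id,
      Scheme.homOfLE_ι]
  refine ⟨X.topIso.inv ≫ g', ?_, ?_, ?_⟩
  · apply hom_ext_of_sup_eq_top U W' hUW'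
    · rw [Category.assoc, reassoc_of% hUι, reassoc_of% hg'1, ha]
    · rw [Category.assoc, reassoc_of% hWι, reassoc_of% hg'2]
      simp only [b'', Category.assoc, hb'2, Scheme.homOfLE_ι_assoc]
  · rw [reassoc_of% hUι, hg'1]
  · rw [← W'.fromSpecStalkOfMem_ι x hxW', Category.assoc, reassoc_of% hWι, hg'2]
    simp only [b'']
    rw [reassoc_of% (BiratGeneric.fromSpecStalkOfMem_homOfLE hW'W x hxW'), ← hb'1]

end Groth.Agent.Lib.Helper4.GlueClosedPoint
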