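import Mathlib
import Groth.Agent.Lib.Helper4.GlueClosedPoint

set_option backward.isDefEq.respectTransparency false
set_option backward.isDefEq.respectTransparency.types false
set_option autoImplicit false

/-!
# Generically finite dominant morphisms of integral schemes (Stacks 02NX-ish)
-/

universe u
open CategoryTheory CategoryTheory.Limits AlgebraicGeometry TopologicalSpace

namespace Groth.Agent.Lib.Helper4.GenFinite

variable {X Y : Scheme.{u}}

/-- A dominant morphism of irreducible schemes maps the generic point to the generic point. -/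
lemma isGenericPoint_map_genericPoint [IrreducibleSpace X] (f : X ⟶ Y) [IsDominant f] :
    IsGenericPoint (f (genericPoint X)) (Set.univ : Set Y) := by
  have h := (genericPoint_spec X).image f.continuous
  rw [Set.image_univ] at h
  have hd : DenseRange f := (inferInstance : IsDominant f).1
  rwa [hd.closure_range] at h

/-- Quasi-finiteness at the generic point forces the generic fibre to be a single point. -/
lemma eq_genericPoint_of_quasiFiniteAt [IrreducibleSpace X] (f : X ⟶ Y) [LocallyOfFiniteType f]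
    (hQ : f.QuasiFiniteAt (genericPoint X)) (x : X) (hx : f x = f (genericPoint X)) :
    x = genericPoint X := by
  set ξ := genericPoint X with hξ
  have ho : IsOpen {f.asFiber ξ} := Scheme.Hom.quasiFiniteAt_iff_isOpen_singleton_asFiber.mp hQ
  have hc : IsClosed {f.asFiber ξ} :=
    isClosed_singleton_of_isLocallyClosed_singleton ho.isLocallyClosed
  let x' : f.fiber (f ξ) := (f.fiberHomeo (f ξ)).symm ⟨x, hx⟩
  have hx' : f.fiberι (f ξ) x' = x := f.fiberι_fiberHomeo_symm _ _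
  have hsp : f.asFiber ξ ⤳ x' := by
    rw [← (f.fiberι (f ξ)).isEmbedding.isInducing.specializes_iff, hx', f.fiberι_asFiber]
    exact genericPoint_specializes x
  have hmem : x' ∈ ({f.asFiber ξ} : Set _) := hsp.mem_closed hc (Set.mem_singleton _)
  rw [Set.mem_singleton_iff] at hmem
  rw [← hx', hmem, f.fiberι_asFiber]

/-- If the generic fibre is a single point then `f` is quasi-finite at the generic point. -/
lemma quasiFiniteAt_of_fibre_subsingleton [IrreducibleSpace X] (f : X ⟶ Y) [LocallyOfFiniteType f]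
    (hC : ∀ x : X, f x = f (genericPoint X) → x = genericPoint X) :
    f.QuasiFiniteAt (genericPoint X) := by
  rw [Scheme.Hom.quasiFiniteAt_iff_isOpen_singleton_asFiber]
  have : Subsingleton (f ⁻¹' {f (genericPoint X)}) :=
    ⟨fun a b => Subtype.ext ((hC a.1 a.2).trans (hC b.1 b.2).symm)⟩
  have : Subsingleton (f.fiber (f (genericPoint X))) :=
    (f.fiberHomeo (f (genericPoint X))).injective.subsingleton
  exact isOpen_discrete _

lemma isIso_residue_of_isField (x : X) (h : IsField (X.presheaf.stalk x)) :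
    IsIso (X.residue x) := by
  let _ := h.toField
  rw [ConcreteCategory.isIso_iff_bijective]
  exact ⟨(X.residue x).hom.injective, X.residue_surjective x⟩

lemma isField_stalk_of_isGenericPoint [IsIntegral Y] (y : Y)
    (hy : IsGenericPoint y (Set.univ : Set Y)) : IsField (Y.presheaf.stalk y) := by
  apply isField_stalk_of_closure_mem_irreducibleComponents Y y
  rw [hy.def, irreducibleComponents_eq_singleton]
  exact Set.mem_singleton _

/-- Finiteness of the residue field extension at the generic point is quasi-finiteness there. -/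
lemma finite_residueFieldMap_iff_quasiFiniteAt [IsIntegral X] [IsIntegral Y] (f : X ⟶ Y)
    [IsDominant f] :
    (f.residueFieldMap (genericPoint X)).hom.Finite ↔ f.QuasiFiniteAt (genericPoint X) := by
  set ξ := genericPoint X with hξ
  have hK : IsField (X.presheaf.stalk ξ) :=
    isField_stalk_of_isGenericPoint ξ (genericPoint_spec X)
  have hk : IsField (Y.presheaf.stalk (f ξ)) :=
    isField_stalk_of_isGenericPoint (f ξ) (isGenericPoint_map_genericPoint f)
  have i1 := isIso_residue_of_isField ξ hK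
  have i2 := isIso_residue_of_isField (f ξ) hk
  have e := Scheme.residue_residueFieldMap f ξ
  have h1 : (Y.residue (f ξ) ≫ f.residueFieldMap ξ).hom.Finite ↔
      (f.residueFieldMap ξ).hom.Finite :=
    RingHom.finite_respectsIso.cancel_left_isIso _ _
  have h2 : (f.stalkMap ξ ≫ X.residue ξ).hom.Finite ↔ (f.stalkMap ξ).hom.Finite :=
    RingHom.finite_respectsIso.cancel_right_isIso _ _
  rw [← h1, e, h2]
  unfold Scheme.Hom.QuasiFiniteAt RingHom.QuasiFinite RingHom.Finite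
  letI := hk.toField
  letI := (f.stalkMap ξ).hom.toAlgebra
  exact Algebra.QuasiFinite.iff_of_isArtinianRing.symm

lemma genericPoint_mem_of_nonempty [IrreducibleSpace X] (U : X.Opens) (hne : Nonempty U) :
    genericPoint X ∈ U := by
  obtain ⟨x⟩ := hne
  exact ((genericPoint_spec X).mem_open_set_iff U.isOpen).mpr ⟨x.1, trivial, x.2⟩

/-- If some nonempty `U ⟶ V` is finite then `f` is quasi-finite at the generic point. -/
lemma quasiFiniteAt_of_isFinite_resLE [IrreducibleSpace X] (f : X ⟶ Y) (U : X.Opens)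
    (V : Y.Opens) (hUV : U ≤ f ⁻¹ᵁ V) (hne : Nonempty U) (hfin : IsFinite (f.resLE V U hUV)) :
    f.QuasiFiniteAt (genericPoint X) := by
  have hξU : genericPoint X ∈ U := genericPoint_mem_of_nonempty U hne
  let ξ' : U.toScheme := ⟨genericPoint X, hξU⟩
  have h1 : (f.resLE V U hUV).QuasiFiniteAt ξ' := Scheme.Hom.quasiFiniteAt _ ξ'
  have h2 : (f.resLE V U hUV ≫ V.ι).QuasiFiniteAt ξ' := Scheme.Hom.quasiFiniteAt_comp_iff.mpr h1
  have e : f.resLE V U hUV ≫ V.ι = U.ι ≫ f := Scheme.Hom.resLE_comp_ι _ _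
  rw [e] at h2
  have h3 := (Scheme.Hom.quasiFiniteAt_comp_iff_of_isOpenImmersion (f := U.ι) (g := f)
    (x := ξ')).mp h2
  exact h3

open Polynomial in
/-- If `f` is quasi-finite at the generic point, every section of `X` over an affine open is
algebraic over the sections of `Y`. -/
lemma exists_polynomial_of_quasiFiniteAt [IsIntegral X] [IsIntegral Y] (f : X ⟶ Y) [IsDominant f]
    (hQ : f.QuasiFiniteAt (genericPoint X)) (V₀ : Y.Opens) (hV₀ : IsAffineOpen V₀) (U₀ : X.Opens)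
    (h : U₀ ≤ f ⁻¹ᵁ V₀) (hξ : genericPoint X ∈ U₀) (t : Γ(X, U₀)) :
    ∃ q : Γ(Y, V₀)[X], q ≠ 0 ∧ q.eval₂ (f.appLE V₀ U₀ h).hom t = 0 := by
  set ξ := genericPoint X with hξdef
  have hy₀ : f ξ ∈ V₀ := h hξ
  have hk : IsField (Y.presheaf.stalk (f ξ)) :=
    isField_stalk_of_isGenericPoint (f ξ) (isGenericPoint_map_genericPoint f)
  have hfin : (f.stalkMap ξ).hom.Finite := by
    have hQ' := hQ
    unfold Scheme.Hom.QuasiFiniteAt RingHom.QuasiFinite at hQ'
    unfold RingHom.Finite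
    let _ := hk.toField
    let _ := (f.stalkMap ξ).hom.toAlgebra
    exact Algebra.QuasiFinite.iff_of_isArtinianRing.mp hQ'
  have hint : (f.stalkMap ξ).hom.IsIntegral := hfin.to_isIntegral
  obtain ⟨p, hpm, hp⟩ := hint (X.presheaf.germ U₀ ξ hξ t)
  let _ := Y.presheaf.algebra_section_stalk (⟨f ξ, hy₀⟩ : V₀)
  have hloc := hV₀.isLocalization_stalk ⟨f ξ, hy₀⟩
  let M := (hV₀.primeIdealOf ⟨f ξ, hy₀⟩).asIdeal.primeCompl
  let q := IsLocalization.integerNormalization M p
  have h0 : eval₂ ((f.stalkMap ξ).hom.comp (algebraMap Γ(Y, V₀) (Y.presheaf.stalk (f ξ))))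
      (X.presheaf.germ U₀ ξ hξ t) q = 0 :=
    IsLocalization.integerNormalization_eval₂_eq_zero M (f.stalkMap ξ).hom p hp
  have hcomp : (f.stalkMap ξ).hom.comp (algebraMap Γ(Y, V₀) (Y.presheaf.stalk (f ξ))) =
      (X.presheaf.germ U₀ ξ hξ).hom.comp (f.appLE V₀ U₀ h).hom := by
    have e1 : Y.presheaf.germ V₀ (f ξ) hy₀ ≫ f.stalkMap ξ =
        f.appLE V₀ U₀ h ≫ X.presheaf.germ U₀ ξ hξ := by
      rw [Scheme.Hom.germ_stalkMap, Scheme.Hom.appLE, Category.assoc, X.presheaf.germ_res]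
    exact congrArg CommRingCat.Hom.hom e1
  rw [hcomp, ← Polynomial.hom_eval₂] at h0
  refine ⟨q, ?_, ?_⟩
  · intro hq0
    obtain ⟨b, hbM, hb⟩ := IsLocalization.integerNormalization_spec M p
    have hq0' : IsLocalization.integerNormalization M p = 0 := hq0
    rw [hq0', Polynomial.map_zero] at hb
    have hc := congrArg (fun r => r.coeff p.natDegree) hb
    simp only [Polynomial.coeff_zero, Polynomial.coeff_smul] at hc
    have hlc : p.coeff p.natDegree = 1 := hpm
    rw [hlc, Algebra.smul_def, mul_one] at hc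
    have hu : IsUnit (algebraMap Γ(Y, V₀) (Y.presheaf.stalk (f ξ)) b) :=
      IsLocalization.map_units _ (⟨b, hbM⟩ : M)
    rw [← hc] at hu
    let _ := hk.toField
    exact not_isUnit_zero hu
  · have hinj : Function.Injective (X.presheaf.germ U₀ ξ hξ) :=
      germ_injective_of_isIntegral X ξ hξ
    apply hinj
    rw [map_zero]
    exact h0

open Polynomial in
/-- Ring-level integrality criterion for a localised map. -/
lemma isIntegral_of_localization_data {R P R' P' : Type*} [CommRing R] [CommRing P] [CommRing R']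
    [CommRing P'] (φ : R →+* P) (ρ : R →+* R') (π : P →+* P') (ψ : R' →+* P')
    (hcomm : ψ.comp ρ = π.comp φ) (g : R) (hg : IsUnit (ρ g))
    (hsurj : ∀ x : P', ∃ (s : P) (n : ℕ), x * π (φ g) ^ n = π s)
    (T : Set P) (hT : Subring.closure (Set.range φ ∪ T) = ⊤)
    (hq : ∀ t ∈ T, ∃ q : R[X], eval₂ φ t q = 0 ∧ IsUnit (ρ q.leadingCoeff)) :
    ψ.IsIntegral := by
  letI := ψ.toAlgebra
  let IC : Subring P' := (integralClosure R' P').toSubring
  have hmem : ∀ x, x ∈ IC ↔ ψ.IsIntegralElem x := fun x => Iff.rfl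
  have h1 : ∀ r : R, π (φ r) ∈ IC := by
    intro r
    rw [hmem, ← RingHom.comp_apply, ← hcomm]
    exact ψ.isIntegralElem_map
  have h2 : ∀ t ∈ T, π t ∈ IC := by
    intro t ht
    obtain ⟨q, hq0, hqu⟩ := hq t ht
    obtain ⟨v, hv⟩ := hqu.exists_left_inv
    refine ⟨C v * q.map ρ, ?_, ?_⟩
    · rcases subsingleton_or_nontrivial R' with hs | hn
      · exact Subsingleton.elim _ _
      · apply monic_C_mul_of_mul_leadingCoeff_eq_one
        rw [leadingCoeff_map_of_leadingCoeff_ne_zero ρ hqu.ne_zero, hv]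
    · show eval₂ ψ (π t) (C v * q.map ρ) = 0
      rw [eval₂_mul, eval₂_C, eval₂_map, hcomm, ← hom_eval₂, hq0, map_zero, mul_zero]
  have h3 : ∀ s : P, π s ∈ IC := by
    intro s
    have hs : s ∈ Subring.closure (Set.range φ ∪ T) := hT ▸ Subring.mem_top s
    induction hs using Subring.closure_induction with
    | mem x hx =>
      rcases hx with ⟨r, rfl⟩ | hx
      · exact h1 r
      · exact h2 x hx
    | zero => rw [map_zero]; exact IC.zero_mem
    | one => rw [map_one]; exact IC.one_mem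
    | add x y _ _ hx hy => rw [map_add]; exact IC.add_mem hx hy
    | neg x _ hx => rw [map_neg]; exact IC.neg_mem hx
    | mul x y _ _ hx hy => rw [map_mul]; exact IC.mul_mem hx hy
  intro x
  obtain ⟨s, n, hx⟩ := hsurj x
  obtain ⟨w, hw⟩ := hg.exists_right_inv
  have hψw : ψ w ∈ IC := (hmem _).mpr ψ.isIntegralElem_map
  have e1 : π (φ g) * ψ w = 1 := by
    have : π (φ g) = ψ (ρ g) := by
      rw [← RingHom.comp_apply, ← RingHom.comp_apply, hcomm]
    rw [this, ← map_mul, hw, map_one]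
  have e2 : x = π s * ψ w ^ n := by
    rw [← hx, mul_assoc, ← mul_pow, e1, one_pow, mul_one]
  rw [← hmem, e2]
  exact IC.mul_mem (h3 s) (IC.pow_mem hψw n)

open Polynomial in
/-- **Generic finiteness.** If `f` is quasi-finite at the generic point, then for affine opens
`U₀ ⊆ f⁻¹ V₀` containing the generic point there is a nonzero `g ∈ Γ(Y, V₀)` with
`D(f^♯ g) ⟶ D(g)` finite. -/
theorem exists_basicOpen_isFinite [IsIntegral X] [IsIntegral Y] (f : X ⟶ Y) [IsDominant f]
    [LocallyOfFiniteType f] (hQ : f.QuasiFiniteAt (genericPoint X))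
    (V₀ : Y.Opens) (hV₀ : IsAffineOpen V₀) (U₀ : X.Opens) (hU₀ : IsAffineOpen U₀)
    (h : U₀ ≤ f ⁻¹ᵁ V₀) (hξ : genericPoint X ∈ U₀) :
    ∃ (g : Γ(Y, V₀)) (hUV : X.basicOpen ((f.appLE V₀ U₀ h).hom g) ≤ f ⁻¹ᵁ (Y.basicOpen g)),
      g ≠ 0 ∧ IsFinite (f.resLE (Y.basicOpen g) (X.basicOpen ((f.appLE V₀ U₀ h).hom g)) hUV) := by
  have : Nonempty V₀ := ⟨⟨f (genericPoint X), h hξ⟩⟩
  have hft : (f.appLE V₀ U₀ h).hom.FiniteType := f.finiteType_appLE hV₀ hU₀ h
  obtain ⟨T, hT⟩ : ∃ T : Finset Γ(X, U₀),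
      Subring.closure (Set.range (f.appLE V₀ U₀ h).hom ∪ (T : Set Γ(X, U₀))) = ⊤ := by
    unfold RingHom.FiniteType at hft
    letI := (f.appLE V₀ U₀ h).hom.toAlgebra
    obtain ⟨T, hT⟩ := hft.out
    refine ⟨T, ?_⟩
    have := Algebra.adjoin_eq_ring_closure (R := Γ(Y, V₀)) (T : Set Γ(X, U₀))
    rw [hT] at this
    exact this.symm
  have hpoly := fun t : Γ(X, U₀) => exists_polynomial_of_quasiFiniteAt f hQ V₀ hV₀ U₀ h hξ t
  choose q hq0 hq using hpoly
  let g : Γ(Y, V₀) := ∏ t ∈ T, (q t).leadingCoeff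
  have hg0 : g ≠ 0 := by
    rw [Finset.prod_ne_zero_iff]
    intro t _
    exact Polynomial.leadingCoeff_ne_zero.mpr (hq0 t)
  have hUV : X.basicOpen ((f.appLE V₀ U₀ h).hom g) ≤ f ⁻¹ᵁ (Y.basicOpen g) := by
    rw [Scheme.basicOpen_appLE]
    exact inf_le_right
  refine ⟨g, hUV, hg0, ?_⟩
  have hV : IsAffineOpen (Y.basicOpen g) := hV₀.basicOpen g
  have hU : IsAffineOpen (X.basicOpen ((f.appLE V₀ U₀ h).hom g)) := hU₀.basicOpen _
  have : IsAffine (Y.basicOpen g).toScheme := hV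
  have : IsAffine (X.basicOpen ((f.appLE V₀ U₀ h).hom g)).toScheme := hU
  rw [HasAffineProperty.iff_of_isAffine (P := @IsFinite)]
  refine ⟨inferInstance, ?_⟩
  have e1 : (f.resLE (Y.basicOpen g) (X.basicOpen ((f.appLE V₀ U₀ h).hom g)) hUV).appTop =
      (Y.basicOpen g).topIso.hom ≫ f.appLE (Y.basicOpen g)
        (X.basicOpen ((f.appLE V₀ U₀ h).hom g)) hUV ≫
        (X.basicOpen ((f.appLE V₀ U₀ h).hom g)).topIso.inv := Scheme.Hom.resLE_app_top f hUV
  rw [e1]
  have h3 : (f.appLE (Y.basicOpen g) (X.basicOpen ((f.appLE V₀ U₀ h).hom g)) hUV).hom.Finite := by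
    rw [RingHom.finite_iff_isIntegral_and_finiteType]
    refine ⟨?_, f.finiteType_appLE hV hU hUV⟩
    have hcomm : (f.appLE (Y.basicOpen g) (X.basicOpen ((f.appLE V₀ U₀ h).hom g)) hUV).hom.comp
        (Y.presheaf.map (homOfLE (Y.basicOpen_le g)).op).hom =
        (X.presheaf.map (homOfLE (X.basicOpen_le ((f.appLE V₀ U₀ h).hom g))).op).hom.comp
          (f.appLE V₀ U₀ h).hom := by
      have e2 : Y.presheaf.map (homOfLE (Y.basicOpen_le g)).op ≫
          f.appLE (Y.basicOpen g) (X.basicOpen ((f.appLE V₀ U₀ h).hom g)) hUV =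
          f.appLE V₀ U₀ h ≫
            X.presheaf.map (homOfLE (X.basicOpen_le ((f.appLE V₀ U₀ h).hom g))).op := by
        rw [Scheme.Hom.map_appLE, Scheme.Hom.appLE_map]
      exact congrArg CommRingCat.Hom.hom e2
    refine isIntegral_of_localization_data (f.appLE V₀ U₀ h).hom
      (Y.presheaf.map (homOfLE (Y.basicOpen_le g)).op).hom
      (X.presheaf.map (homOfLE (X.basicOpen_le ((f.appLE V₀ U₀ h).hom g))).op).hom _ hcomm g
      (RingedSpace.isUnit_res_basicOpen _ g) ?_ (T : Set Γ(X, U₀)) hT ?_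
    · intro x
      have hloc := hU₀.isLocalization_basicOpen ((f.appLE V₀ U₀ h).hom g)
      obtain ⟨⟨s, ⟨_, n, rfl⟩⟩, hs⟩ := IsLocalization.surj
        (Submonoid.powers ((f.appLE V₀ U₀ h).hom g)) x
      refine ⟨s, n, ?_⟩
      rw [← map_pow]
      exact hs
    · intro t ht
      refine ⟨q t, hq t, ?_⟩
      have hdvd : (q t).leadingCoeff ∣ g := Finset.dvd_prod_of_mem _ ht
      exact isUnit_of_dvd_unit (map_dvd _ hdvd) (RingedSpace.isUnit_res_basicOpen _ g)
  exact (RingHom.finite_respectsIso.cancel_left_isIso _ _).mpr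
    ((RingHom.finite_respectsIso.cancel_right_isIso _ _).mpr h3)

/-- If `U ⟶ V` is finite, `V'' ≤ V` and `f⁻¹ V'' ≤ U`, then `f⁻¹ V'' ⟶ V''` is finite. -/
lemma isFinite_morphismRestrict_of_le (f : X ⟶ Y) (U : X.Opens) (V V'' : Y.Opens)
    (hUV : U ≤ f ⁻¹ᵁ V) (hfin : IsFinite (f.resLE V U hUV)) (hV'' : V'' ≤ V)
    (hpre : f ⁻¹ᵁ V'' ≤ U) : IsFinite (f ∣_ V'') := by
  have H : X.homOfLE hpre ≫ f.resLE V U hUV = (f ∣_ V'') ≫ Y.homOfLE hV'' := by
    rw [← Scheme.Hom.resLE_eq_morphismRestrict, Scheme.Hom.map_resLE, Scheme.Hom.resLE_map]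
  have H' : (f.resLE V U hUV) ⁻¹ᵁ (Y.homOfLE hV'').opensRange = (X.homOfLE hpre).opensRange := by
    ext x
    constructor
    · rintro ⟨v, hv⟩
      have h1 : f x.1 ∈ V'' := by
        have h2 := congrArg (fun z => V.ι z) hv
        simp only [← Scheme.Hom.comp_apply, Scheme.homOfLE_ι, Scheme.Hom.resLE_comp_ι] at h2
        have h3 : f x.1 = v.1 := h2.symm
        rw [h3]; exact v.2
      refine ⟨⟨x.1, h1⟩, ?_⟩
      apply U.ι.injective
      rw [← Scheme.Hom.comp_apply, Scheme.homOfLE_ι]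
      rfl
    · rintro ⟨w, rfl⟩
      refine ⟨⟨f w.1, w.2⟩, ?_⟩
      apply V.ι.injective
      rw [← Scheme.Hom.comp_apply, Scheme.homOfLE_ι, ← Scheme.Hom.comp_apply,
        ← Scheme.Hom.comp_apply, Scheme.Hom.resLE_comp_ι, ← Category.assoc, Scheme.homOfLE_ι]
      rfl
  have sq := IsOpenImmersion.isPullback (f ∣_ V'') (X.homOfLE hpre) (Y.homOfLE hV'')
    (f.resLE V U hUV) H H'
  exact MorphismProperty.of_isPullback sq.flip hfin

/-- For `g ≠ 0`, the generic points lie in the basic opens of `g` and of its pullback. -/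
lemma genericPoint_mem_basicOpen_appLE [IsIntegral X] [IsIntegral Y] (f : X ⟶ Y) [IsDominant f]
    (V₀ : Y.Opens) (hV₀ : IsAffineOpen V₀) (U₀ : X.Opens) (h : U₀ ≤ f ⁻¹ᵁ V₀)
    (hξU₀ : genericPoint X ∈ U₀) (g : Γ(Y, V₀)) (hg0 : g ≠ 0) :
    f (genericPoint X) ∈ Y.basicOpen g ∧
      genericPoint X ∈ X.basicOpen ((f.appLE V₀ U₀ h).hom g) := by
  set ξ := genericPoint X with hξdef
  have hyV₀ : f ξ ∈ V₀ := h hξU₀
  have hgen : IsGenericPoint (f ξ) (Set.univ : Set Y) := isGenericPoint_map_genericPoint f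
  have hVne : ((Y.basicOpen g : Y.Opens) : Set Y).Nonempty := by
    by_contra hempty
    rw [Set.not_nonempty_iff_eq_empty] at hempty
    have : Y.basicOpen g = ⊥ := by ext1; exact hempty
    have hnil : IsNilpotent g := (Scheme.isNilpotent_iff_basicOpen_eq_bot_of_isCompact
      (U := V₀) hV₀.isCompact g).mpr this
    have : Nonempty V₀ := ⟨⟨f ξ, hyV₀⟩⟩
    exact hg0 (hnil.eq_zero)
  have hyV : f ξ ∈ Y.basicOpen g :=
    (hgen.mem_open_set_iff (Y.basicOpen g).2).mpr (by simpa using hVne)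
  refine ⟨hyV, ?_⟩
  rw [Scheme.basicOpen_appLE]
  exact ⟨hξU₀, hyV⟩

/-- Under separatedness or quasi-compactness, quasi-finiteness at the generic point gives a nonempty
affine open of the target over which `f` is finite. -/
theorem exists_isFinite_morphismRestrict [IsIntegral X] [IsIntegral Y] (f : X ⟶ Y) [IsDominant f]
    [LocallyOfFiniteType f] (hsq : IsSeparated f ∨ QuasiCompact f)
    (hQ : f.QuasiFiniteAt (genericPoint X)) :
    ∃ V : Y.Opens, IsAffineOpen V ∧ Nonempty ↥V ∧ IsFinite (f ∣_ V) := by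
  set ξ := genericPoint X with hξdef
  obtain ⟨_, ⟨V₀ : Y.Opens, hV₀, rfl⟩, hyV₀, -⟩ :=
    Y.isBasis_affineOpens.exists_subset_of_mem_open (Set.mem_univ (f ξ)) isOpen_univ
  obtain ⟨_, ⟨U₀ : X.Opens, hU₀, rfl⟩, hξU₀, hU₀V₀⟩ :=
    X.isBasis_affineOpens.exists_subset_of_mem_open (show ξ ∈ f ⁻¹ᵁ V₀ from hyV₀) (f ⁻¹ᵁ V₀).2
  have h : U₀ ≤ f ⁻¹ᵁ V₀ := hU₀V₀
  obtain ⟨g, hUV, hg0, hfin⟩ := exists_basicOpen_isFinite f hQ V₀ hV₀ U₀ hU₀ h hξU₀
  set V := Y.basicOpen g with hVdef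
  set U := X.basicOpen ((f.appLE V₀ U₀ h).hom g) with hUdef
  have hV : IsAffineOpen V := hV₀.basicOpen g
  have hgen : IsGenericPoint (f ξ) (Set.univ : Set Y) := isGenericPoint_map_genericPoint f
  have hVne : (V : Set Y).Nonempty := by
    by_contra hempty
    rw [Set.not_nonempty_iff_eq_empty] at hempty
    have : V = ⊥ := by ext1; exact hempty
    have hnil : IsNilpotent g := (Scheme.isNilpotent_iff_basicOpen_eq_bot_of_isCompact
      (U := V₀) hV₀.isCompact g).mpr this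
    have : Nonempty V₀ := ⟨⟨f ξ, hyV₀⟩⟩
    exact hg0 (hnil.eq_zero)
  have hyV : f ξ ∈ V := (hgen.mem_open_set_iff V.2).mpr (by simpa using hVne)
  have hξU : ξ ∈ U := by
    rw [hUdef, Scheme.basicOpen_appLE]
    exact ⟨hξU₀, hyV⟩
  have hC : ∀ x : X, f x = f ξ → x = ξ := eq_genericPoint_of_quasiFiniteAt f hQ
  rcases hsq with hsep | hqc
  · -- separated case: `f⁻¹ V = U`
    refine ⟨V, hV, ⟨⟨f ξ, hyV⟩⟩, ?_⟩
    refine isFinite_morphismRestrict_of_le f U V V hUV hfin le_rfl ?_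
    let W : X.Opens := f ⁻¹ᵁ V
    have : Nonempty W := ⟨⟨ξ, hyV⟩⟩
    let j : U.toScheme ⟶ W.toScheme := X.homOfLE hUV
    have hj : j ≫ (f ∣_ V) = f.resLE V U hUV := by
      rw [← Scheme.Hom.resLE_eq_morphismRestrict, Scheme.Hom.map_resLE]
    have : IsProper (j ≫ (f ∣_ V)) := by rw [hj]; infer_instance
    have : IsProper j := MorphismProperty.of_postcomp (W := @IsProper) (W' := @IsSeparated) j
      (f ∣_ V) inferInstance inferInstance
    have hcl : IsClosed (Set.range j) := j.isClosedMap.isClosed_range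
    have hop : IsOpen (Set.range j) := j.isOpenEmbedding.isOpen_range
    have hne : (Set.range j).Nonempty := ⟨j ⟨ξ, hξU⟩, ⟨_, rfl⟩⟩
    have huniv : Set.range j = Set.univ := IsClopen.eq_univ ⟨hcl, hop⟩ hne
    intro x hx
    have : (⟨x, hx⟩ : W.toScheme) ∈ Set.range j := by rw [huniv]; trivial
    obtain ⟨u, hu⟩ := this
    have h1 := congrArg (fun z => W.ι z) hu
    simp only [j, ← Scheme.Hom.comp_apply, Scheme.homOfLE_ι] at h1
    have h2 : u.1 = x := h1
    rw [← h2]; exact u.2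
  · -- quasi-compact case
    have hxC : f ξ ∉ closure (f '' ((U : Set X)ᶜ)) := by
      intro hx
      obtain ⟨c, hcC, hcx⟩ := GlueClosedPoint.exists_specializes_of_mem_closure_image f
        ((U : Set X)ᶜ) U.2.isClosed_compl (f ξ) hx
      have hsp : f ξ ⤳ f c := hgen.specializes (Set.mem_univ _)
      have heq : f c = f ξ := (hcx.antisymm hsp).eq
      exact hcC (hC c heq ▸ hξU)
    let V' : Y.Opens := V ⊓ ⟨(closure (f '' ((U : Set X)ᶜ)))ᶜ, isClosed_closure.isOpen_compl⟩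
    have hyV' : f ξ ∈ V' := ⟨hyV, hxC⟩
    obtain ⟨_, ⟨V'' : Y.Opens, hV'', rfl⟩, hyV'', hV''V'⟩ :=
      Y.isBasis_affineOpens.exists_subset_of_mem_open hyV' V'.2
    refine ⟨V'', hV'', ⟨⟨f ξ, hyV''⟩⟩, ?_⟩
    refine isFinite_morphismRestrict_of_le f U V V'' hUV hfin
      (fun v hv => (hV''V' hv).1) ?_
    intro x hx
    by_contra hxU
    exact (hV''V' hx).2 (subset_closure ⟨x, hxU, rfl⟩)

/-- **Stacks 02NX-style equivalences** for a dominant morphism locally of finite type between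
integral schemes. -/
theorem finite_functionField_tfae [IsIntegral X] [IsIntegral Y] (f : X ⟶ Y) [IsDominant f]
    [LocallyOfFiniteType f] :
    ((f.residueFieldMap (genericPoint X)).hom.Finite ↔
      ∃ (U : X.Opens) (V : Y.Opens) (hUV : U ≤ f ⁻¹ᵁ V), IsAffineOpen U ∧ IsAffineOpen V ∧
        Nonempty ↥U ∧ IsFinite (f.resLE V U hUV)) ∧
    ((f.residueFieldMap (genericPoint X)).hom.Finite ↔
      ∀ x : X, f x = genericPoint Y → x = genericPoint X) ∧
    (IsSeparated f ∨ QuasiCompact f →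
      ((f.residueFieldMap (genericPoint X)).hom.Finite ↔
        ∃ V : Y.Opens, IsAffineOpen V ∧ Nonempty ↥V ∧ IsFinite (f ∣_ V))) := by
  set ξ := genericPoint X with hξdef
  have hAQ := finite_residueFieldMap_iff_quasiFiniteAt f
  have hgen : IsGenericPoint (f ξ) (Set.univ : Set Y) := isGenericPoint_map_genericPoint f
  have hfξ : f ξ = genericPoint Y := by
    have h2 : IsGenericPoint (genericPoint Y) (Set.univ : Set Y) := genericPoint_spec Y
    exact hgen.eq h2
  have hBQ : (∃ (U : X.Opens) (V : Y.Opens) (hUV : U ≤ f ⁻¹ᵁ V), IsAffineOpen U ∧ IsAffineOpen V ∧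
        Nonempty ↥U ∧ IsFinite (f.resLE V U hUV)) → f.QuasiFiniteAt ξ := by
    rintro ⟨U, V, hUV, -, -, hne, hfin⟩
    exact quasiFiniteAt_of_isFinite_resLE f U V hUV hne hfin
  have hDB : (∃ V : Y.Opens, IsAffineOpen V ∧ Nonempty ↥V ∧ IsFinite (f ∣_ V)) →
      (∃ (U : X.Opens) (V : Y.Opens) (hUV : U ≤ f ⁻¹ᵁ V), IsAffineOpen U ∧ IsAffineOpen V ∧
        Nonempty ↥U ∧ IsFinite (f.resLE V U hUV)) := by
    rintro ⟨V, hV, ⟨v⟩, hfin⟩
    refine ⟨f ⁻¹ᵁ V, V, le_rfl, ?_, hV, ?_, ?_⟩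
    · have : IsAffine V.toScheme := hV
      exact isAffine_of_isAffineHom (f ∣_ V)
    · have hd : DenseRange f := (inferInstance : IsDominant f).1
      obtain ⟨x, hx⟩ := hd.exists_mem_open V.2 ⟨v.1, v.2⟩
      exact ⟨⟨x, hx⟩⟩
    · rw [Scheme.Hom.resLE_eq_morphismRestrict]
      exact hfin
  have hQB : f.QuasiFiniteAt ξ → (∃ (U : X.Opens) (V : Y.Opens) (hUV : U ≤ f ⁻¹ᵁ V),
      IsAffineOpen U ∧ IsAffineOpen V ∧ Nonempty ↥U ∧ IsFinite (f.resLE V U hUV)) := by
    intro hQ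
    obtain ⟨_, ⟨V₀ : Y.Opens, hV₀, rfl⟩, hyV₀, -⟩ :=
      Y.isBasis_affineOpens.exists_subset_of_mem_open (Set.mem_univ (f ξ)) isOpen_univ
    obtain ⟨_, ⟨U₀ : X.Opens, hU₀, rfl⟩, hξU₀, hU₀V₀⟩ :=
      X.isBasis_affineOpens.exists_subset_of_mem_open (show ξ ∈ f ⁻¹ᵁ V₀ from hyV₀) (f ⁻¹ᵁ V₀).2
    have h : U₀ ≤ f ⁻¹ᵁ V₀ := hU₀V₀
    obtain ⟨g, hUV, hg0, hfin⟩ := exists_basicOpen_isFinite f hQ V₀ hV₀ U₀ hU₀ h hξU₀
    exact ⟨_, _, hUV, hU₀.basicOpen _, hV₀.basicOpen g,
      ⟨⟨ξ, (genericPoint_mem_basicOpen_appLE f V₀ hV₀ U₀ h hξU₀ g hg0).2⟩⟩, hfin⟩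
  refine ⟨⟨fun hA => hQB (hAQ.mp hA), fun hB => hAQ.mpr (hBQ hB)⟩, ⟨fun hA x hx => ?_, fun hC => ?_⟩,
    fun hsq => ⟨fun hA => exists_isFinite_morphismRestrict f hsq (hAQ.mp hA),
      fun hD => hAQ.mpr (hBQ (hDB hD))⟩⟩
  · exact eq_genericPoint_of_quasiFiniteAt f (hAQ.mp hA) x (hx.trans hfξ.symm)
  · exact hAQ.mpr (quasiFiniteAt_of_fibre_subsingleton f (fun x hx => hC x (hx.trans hfξ)))

end Groth.Agent.Lib.Helper4.GenFinite
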