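import Mathlib

/-!
# Generic finiteness without integrality hypotheses: the ring-theoretic core

* `isIntegral_of_krullDimLE_zero`: a finite type algebra with finite spectrum over a
  zero-dimensional local ring is integral.
-/

set_option backward.isDefEq.respectTransparency false
set_option backward.isDefEq.respectTransparency.types false
set_option autoImplicit false
universe u
open CategoryTheory AlgebraicGeometry

namespace Groth.Agent.Lib.helper4.GenFinite2

open Polynomial in
/-- A finite type algebra with finite prime spectrum over a zero-dimensional local ring is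
integral. -/
theorem isIntegral_of_krullDimLE_zero {A B : Type*} [CommRing A] [CommRing B] [Algebra A B]
    [IsLocalRing A] [Ring.KrullDimLE 0 A] [Algebra.FiniteType A B] [Finite (PrimeSpectrum B)] :
    Algebra.IsIntegral A B := by
  set 𝔪 := IsLocalRing.maximalIdeal A with h𝔪
  set J := 𝔪.map (algebraMap A B) with hJ
  -- the fibre ring is finite over the residue field
  have hft : Algebra.FiniteType (A ⧸ 𝔪) (B ⧸ J) := by
    have h1 : Algebra.FiniteType A (B ⧸ J) :=
      Algebra.FiniteType.of_surjective (Ideal.Quotient.mkₐ A J) Ideal.Quotient.mk_surjective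
    exact Algebra.FiniteType.of_restrictScalars_finiteType A (A ⧸ 𝔪) (B ⧸ J)
  have hfin : Finite (PrimeSpectrum (B ⧸ J)) :=
    Finite.of_injective _ (PrimeSpectrum.comap_injective_of_surjective (Ideal.Quotient.mk J)
      Ideal.Quotient.mk_surjective)
  have hqf : Algebra.QuasiFinite (A ⧸ 𝔪) (B ⧸ J) := by
    rw [Algebra.QuasiFinite.iff_finite_comap_preimage_singleton]
    intro x
    exact Set.toFinite _
  let _ : Field (A ⧸ 𝔪) := Ideal.Quotient.field 𝔪
  have hart : IsArtinianRing (A ⧸ 𝔪) := inferInstance
  have hmf : Module.Finite (A ⧸ 𝔪) (B ⧸ J) := Module.Finite.of_quasiFinite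
  have hint1 : Algebra.IsIntegral (A ⧸ 𝔪) (B ⧸ J) := inferInstance
  have hint2 : Algebra.IsIntegral A (A ⧸ 𝔪) :=
    Algebra.isIntegral_of_surjective Ideal.Quotient.mk_surjective
  have hint3 : Algebra.IsIntegral A (B ⧸ J) := Algebra.IsIntegral.trans (A ⧸ 𝔪)
  -- the extended maximal ideal is nil
  have hnil : J ≤ nilradical B := by
    rw [hJ, Ideal.map_le_iff_le_comap]
    intro a ha
    have h1 : IsNilpotent a := Ring.KrullDimLE.isNilpotent_iff_mem_maximalIdeal.mpr ha
    exact (mem_nilradical).mpr (h1.map (algebraMap A B))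
  refine ⟨fun b => ?_⟩
  obtain ⟨Q, hQm, hQ⟩ := hint3.isIntegral (Ideal.Quotient.mk J b)
  have h1 : Ideal.Quotient.mk J (eval₂ (algebraMap A B) b Q) = 0 := by
    rw [← hQ, Polynomial.hom_eval₂]
    rfl
  have h2 : eval₂ (algebraMap A B) b Q ∈ J := Ideal.Quotient.eq_zero_iff_mem.mp h1
  obtain ⟨N, hN⟩ := mem_nilradical.mp (hnil h2)
  refine ⟨Q ^ N, hQm.pow N, ?_⟩
  rw [eval₂_pow, hN]


/-- Let `p` be a prime of `R` containing no smaller prime and `S` a finite type `R`-algebra with
finitely many primes over `p`. Then every element of `S` becomes integral over `R` after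
multiplication by some element outside `p`. -/
theorem exists_notMem_isIntegral_smul {R S : Type u} [CommRing R] [CommRing S] [Algebra R S]
    [Algebra.FiniteType R S] (p : Ideal R) [p.IsPrime]
    (hmin : ∀ q : Ideal R, q.IsPrime → q ≤ p → q = p)
    (hfib : {P : PrimeSpectrum S | P.asIdeal.comap (algebraMap R S) = p}.Finite) (t : S) :
    ∃ m : R, m ∉ p ∧ IsIntegral R (m • t) := by
  set M := p.primeCompl with hM
  let A := Localization.AtPrime p
  let B := Localization (Algebra.algebraMapSubmonoid S M)
  -- `A` has a unique prime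
  have hcomap : ∀ I : Ideal A, I.IsPrime → I.comap (algebraMap R A) = p := by
    intro I hI
    have h1 : (I.comap (algebraMap R A)).IsPrime := Ideal.comap_isPrime _ _
    refine hmin _ h1 ?_
    intro x hx
    by_contra hxp
    have h2 : IsUnit (algebraMap R A x) := IsLocalization.map_units A (⟨x, hxp⟩ : M)
    exact hI.ne_top (Ideal.eq_top_of_isUnit_mem _ hx h2)
  have huniq : ∃! I : Ideal A, I.IsPrime := by
    refine ⟨IsLocalRing.maximalIdeal A, inferInstance, ?_⟩
    intro I hI
    have e1 : Ideal.under R I = p := hcomap I hI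
    have e2 : Ideal.under R (IsLocalRing.maximalIdeal A) = p := hcomap _ inferInstance
    rw [← IsLocalization.map_under M A I, ← IsLocalization.map_under M A (IsLocalRing.maximalIdeal A),
      e1, e2]
  have hdim : Ring.KrullDimLE 0 A :=
    (((Ring.krullDimLE_zero_and_isLocalRing_tfae A).out 0 1 rfl rfl).mpr huniq).1
  -- `B` is of finite type over `A`
  have hft : Algebra.FiniteType A B := by
    have h1 : (algebraMap R S).FiniteType := RingHom.finiteType_algebraMap.mpr inferInstance
    have hloc : IsLocalization (Submonoid.map (algebraMap R S) M) B :=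
      inferInstanceAs (IsLocalization (Algebra.algebraMapSubmonoid S M) B)
    have h2 := RingHom.finiteType_localizationPreserves (algebraMap R S) M A B h1
    exact RingHom.finiteType_algebraMap.mp h2
  -- `B` has finitely many primes
  have hfinB : Finite (PrimeSpectrum B) := by
    have hinj : Function.Injective (PrimeSpectrum.comap (algebraMap S B)) :=
      PrimeSpectrum.localization_comap_injective B (Algebra.algebraMapSubmonoid S M)
    have hmaps : ∀ P' : PrimeSpectrum B, PrimeSpectrum.comap (algebraMap S B) P' ∈
        {P : PrimeSpectrum S | P.asIdeal.comap (algebraMap R S) = p} := by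
      intro P'
      show ((P'.asIdeal.comap (algebraMap S B)).comap (algebraMap R S)) = p
      rw [Ideal.comap_comap, ← IsScalarTower.algebraMap_eq, IsScalarTower.algebraMap_eq R A B,
        ← Ideal.comap_comap]
      exact hcomap _ (Ideal.comap_isPrime _ _)
    have : Finite {P : PrimeSpectrum S | P.asIdeal.comap (algebraMap R S) = p} := hfib
    exact Finite.of_injective (fun P' => (⟨_, hmaps P'⟩ :
      {P : PrimeSpectrum S | P.asIdeal.comap (algebraMap R S) = p}))
      (fun a b hab => hinj (congrArg Subtype.val hab))
  have hint : Algebra.IsIntegral A B := isIntegral_of_krullDimLE_zero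
  obtain ⟨⟨m₂, hm₂⟩, hm₂s⟩ := IsIntegral.exists_multiple_integral_of_isLocalization M
    (Rₘ := A) (algebraMap S B t) (hint.isIntegral _)
  obtain ⟨m₃, hm₃, hm₃s⟩ := IsLocalization.exists_isIntegral_smul_of_isIntegral_map (Sₘ := B)
    M (x := m₂ • t) (by
      have : algebraMap S B (m₂ • t) = (⟨m₂, hm₂⟩ : M) • algebraMap S B t := by
        rw [Submonoid.smul_def, Algebra.smul_def, Algebra.smul_def, map_mul,
          ← IsScalarTower.algebraMap_apply]
      rw [this]
      exact hm₂s)
  refine ⟨m₃ * m₂, ?_, ?_⟩
  · exact M.mul_mem hm₃ hm₂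
  · rw [mul_smul]
    exact hm₃s

end Groth.Agent.Lib.helper4.GenFinite2
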