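import Mathlib
import Groth.Agent.Lib.Helper4.GenFinite
import Groth.Agent.Lib.Helper4.GenFinite2

/-!
# Generic finiteness without integrality hypotheses: affine pieces
-/

set_option backward.isDefEq.respectTransparency false
set_option backward.isDefEq.respectTransparency.types false
set_option autoImplicit false
universe u
open CategoryTheory AlgebraicGeometry

namespace Groth.Agent.Lib.helper4.GenFinite3

/-- Ring-level integrality criterion for a localised map (variant with integrality of the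
images of the generators as hypothesis). -/
lemma isIntegral_of_localization_data' {R P R' P' : Type*} [CommRing R] [CommRing P]
    [CommRing R'] [CommRing P'] (φ : R →+* P) (ρ : R →+* R') (π : P →+* P') (ψ : R' →+* P')
    (hcomm : ψ.comp ρ = π.comp φ) (g : R) (hg : IsUnit (ρ g))
    (hsurj : ∀ x : P', ∃ (s : P) (n : ℕ), x * π (φ g) ^ n = π s)
    (T : Set P) (hT : Subring.closure (Set.range φ ∪ T) = ⊤)
    (hq : ∀ t ∈ T, ψ.IsIntegralElem (π t)) :
    ψ.IsIntegral := by
  let _ := ψ.toAlgebra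
  let IC : Subring P' := (integralClosure R' P').toSubring
  have hmem : ∀ x, x ∈ IC ↔ ψ.IsIntegralElem x := fun x => Iff.rfl
  have h1 : ∀ r : R, π (φ r) ∈ IC := by
    intro r
    rw [hmem, ← RingHom.comp_apply, ← hcomm]
    exact ψ.isIntegralElem_map
  have h2 : ∀ t ∈ T, π t ∈ IC := fun t ht => (hmem _).mpr (hq t ht)
  have h3 : ∀ s : P, π s ∈ IC := by
    intro s
    have hs : s ∈ Subring.closure (Set.range φ ∪ T) := hT ▸ Subring.mem_top s
    induction hs using Subring.closure_induction with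
    | mem x hx =>
      rcases hx with ⟨r, rfl⟩ | hx
      · exact h1 r
      · exact h2 x hx
    | zero => rw [map_zero]; exact IC.zero_mem
    | one => rw [map_one]; exact IC.one_mem
    | add x y _ _ hx hy => rw [map_add]; exact IC.add_mem hx hy
    | neg x _ hx => rw [map_neg]; exact IC.neg_mem hx
    | mul x y _ _ hx hy => rw [map_mul]; exact IC.mul_mem hx hy
  intro x
  obtain ⟨s, n, hx⟩ := hsurj x
  obtain ⟨w, hw⟩ := hg.exists_right_inv
  have hψw : ψ w ∈ IC := (hmem _).mpr ψ.isIntegralElem_map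
  have e1 : π (φ g) * ψ w = 1 := by
    have : π (φ g) = ψ (ρ g) := by
      rw [← RingHom.comp_apply, ← RingHom.comp_apply, hcomm]
    rw [this, ← map_mul, hw, map_one]
  have e2 : x = π s * ψ w ^ n := by
    rw [← hx, mul_assoc, ← mul_pow, e1, one_pow, mul_one]
  rw [← hmem, e2]
  exact IC.mul_mem (h3 s) (IC.pow_mem hψw n)

/-- If `φ m * t` is integral over `R` and `ρ m` is a unit, then the image of `t` is integral
over `R'`. -/
lemma isIntegralElem_of_smul {R P R' P' : Type*} [CommRing R] [CommRing P]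
    [CommRing R'] [CommRing P'] (φ : R →+* P) (ρ : R →+* R') (π : P →+* P') (ψ : R' →+* P')
    (hcomm : ψ.comp ρ = π.comp φ) (m : R) (hm : IsUnit (ρ m)) (t : P)
    (ht : φ.IsIntegralElem (φ m * t)) : ψ.IsIntegralElem (π t) := by
  obtain ⟨Q, hQm, hQ⟩ := ht
  have h1 : ψ.IsIntegralElem (π (φ m * t)) := by
    refine ⟨Q.map ρ, hQm.map ρ, ?_⟩
    rw [Polynomial.eval₂_map, hcomm, ← Polynomial.hom_eval₂, hQ, map_zero]
  obtain ⟨w, hw⟩ := hm.exists_left_inv
  have h2 : π t = ψ w * π (φ m * t) := by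
    have : π (φ m) = ψ (ρ m) := by
      rw [← RingHom.comp_apply, ← RingHom.comp_apply, hcomm]
    rw [map_mul, this, ← mul_assoc, ← map_mul, hw, map_one, one_mul]
  rw [h2]
  exact RingHom.IsIntegralElem.mul ψ ψ.isIntegralElem_map h1


variable {X Y : Scheme.{u}}

/-- A point is *maximal* if it has no proper generization. -/
def IsMaxPt (η : Y) : Prop := ∀ y : Y, y ⤳ η → y = η

lemma isMaxPt_of_closure_mem_irreducibleComponents (η : Y)
    (hη : closure {η} ∈ irreducibleComponents (Y : Type u)) : IsMaxPt η := by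
  intro y hy
  have h1 : closure {η} ⊆ closure {y} := specializes_iff_closure_subset.mp hy
  have h2 : IsIrreducible (closure ({y} : Set Y)) := isIrreducible_singleton.closure
  have h3 : closure {y} ⊆ closure {η} := hη.2 h2 h1
  have h4 : η ⤳ y := specializes_iff_closure_subset.mpr h3
  exact (hy.antisymm h4).eq

/-- **Generic finiteness, affine piece.** -/
theorem exists_basicOpen_isFinite' (f : X ⟶ Y) [LocallyOfFiniteType f] (η : Y) (hmax : IsMaxPt η)
    (hfin : (f ⁻¹' {η}).Finite) (V₀ : Y.Opens) (hV₀ : IsAffineOpen V₀) (hη : η ∈ V₀)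
    (U₀ : X.Opens) (hU₀ : IsAffineOpen U₀) (h : U₀ ≤ f ⁻¹ᵁ V₀) :
    ∃ g₀ : Γ(Y, V₀), η ∈ Y.basicOpen g₀ ∧ ∀ g : Γ(Y, V₀), g₀ ∣ g →
      ∀ hUV : X.basicOpen ((f.appLE V₀ U₀ h).hom g) ≤ f ⁻¹ᵁ (Y.basicOpen g),
      IsFinite (f.resLE (Y.basicOpen g) (X.basicOpen ((f.appLE V₀ U₀ h).hom g)) hUV) := by
  set φ := (f.appLE V₀ U₀ h).hom with hφ
  have hft : φ.FiniteType := f.finiteType_appLE hV₀ hU₀ h
  let _ := φ.toAlgebra
  have hftA : Algebra.FiniteType Γ(Y, V₀) Γ(X, U₀) := hft
  set p := (hV₀.primeIdealOf ⟨η, hη⟩).asIdeal with hp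
  have hpη : hV₀.fromSpec (hV₀.primeIdealOf ⟨η, hη⟩) = η := hV₀.fromSpec_primeIdealOf ⟨η, hη⟩
  have hinjV : Function.Injective hV₀.fromSpec := hV₀.fromSpec.isOpenEmbedding.injective
  have hinjU : Function.Injective hU₀.fromSpec := hU₀.fromSpec.isOpenEmbedding.injective
  -- `p` contains no smaller prime
  have hmin : ∀ q : Ideal Γ(Y, V₀), q.IsPrime → q ≤ p → q = p := by
    intro q hq hle
    have h1 : (⟨q, hq⟩ : PrimeSpectrum Γ(Y, V₀)) ⤳ hV₀.primeIdealOf ⟨η, hη⟩ :=
      (PrimeSpectrum.le_iff_specializes _ _).mp hle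
    have h2 := h1.map hV₀.fromSpec.continuous
    rw [hpη] at h2
    have h3 := hmax _ h2
    rw [← hpη] at h3
    exact congrArg PrimeSpectrum.asIdeal (hinjV h3)
  -- finitely many primes over `p`
  have hcomp : Spec.map (f.appLE V₀ U₀ h) ≫ hV₀.fromSpec = hU₀.fromSpec ≫ f :=
    IsAffineOpen.SpecMap_appLE_fromSpec f hV₀ hU₀ h
  have hfib : {P : PrimeSpectrum Γ(X, U₀) |
      P.asIdeal.comap (algebraMap Γ(Y, V₀) Γ(X, U₀)) = p}.Finite := by
    refine Set.Finite.of_finite_image (f := fun P => hU₀.fromSpec P) (hfin.subset ?_)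
      (hinjU.injOn)
    rintro _ ⟨P, hP, rfl⟩
    show f (hU₀.fromSpec P) = η
    have h1 := congrArg (fun ψ => ψ.base P) hcomp
    simp only [Scheme.Hom.comp_base, TopCat.coe_comp, Function.comp_apply] at h1
    rw [← h1, ← hpη]
    congr 1
    exact PrimeSpectrum.ext hP
  -- generators
  obtain ⟨T, hT⟩ : ∃ T : Finset Γ(X, U₀),
      Subring.closure (Set.range φ ∪ (T : Set Γ(X, U₀))) = ⊤ := by
    obtain ⟨T, hT⟩ := hftA.out
    refine ⟨T, ?_⟩
    have := Algebra.adjoin_eq_ring_closure (R := Γ(Y, V₀)) (T : Set Γ(X, U₀))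
    rw [hT] at this
    exact this.symm
  have hm := fun t : Γ(X, U₀) =>
    GenFinite2.exists_notMem_isIntegral_smul p hmin hfib t
  choose m hmp hmint using hm
  let g₀ : Γ(Y, V₀) := ∏ t ∈ T, m t
  have hgp : g₀ ∉ p := by
    intro hg
    obtain ⟨t, -, ht⟩ := (Ideal.IsPrime.prod_mem_iff (hp := (hV₀.primeIdealOf ⟨η, hη⟩).2)).mp hg
    exact hmp t ht
  have hηg : η ∈ Y.basicOpen g₀ := by
    have h1 : hV₀.primeIdealOf ⟨η, hη⟩ ∈ PrimeSpectrum.basicOpen g₀ := hgp
    rw [← hV₀.fromSpec_preimage_basicOpen] at h1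
    have h2 : hV₀.fromSpec (hV₀.primeIdealOf ⟨η, hη⟩) ∈ Y.basicOpen g₀ := h1
    rwa [hpη] at h2
  refine ⟨g₀, hηg, ?_⟩
  intro g hg₀g hUV
  have hV : IsAffineOpen (Y.basicOpen g) := hV₀.basicOpen g
  have hU : IsAffineOpen (X.basicOpen ((f.appLE V₀ U₀ h).hom g)) := hU₀.basicOpen _
  have : IsAffine (Y.basicOpen g).toScheme := hV
  have : IsAffine (X.basicOpen ((f.appLE V₀ U₀ h).hom g)).toScheme := hU
  rw [HasAffineProperty.iff_of_isAffine (P := @IsFinite)]
  refine ⟨inferInstance, ?_⟩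
  have e1 : (f.resLE (Y.basicOpen g) (X.basicOpen ((f.appLE V₀ U₀ h).hom g)) hUV).appTop =
      (Y.basicOpen g).topIso.hom ≫ f.appLE (Y.basicOpen g)
        (X.basicOpen ((f.appLE V₀ U₀ h).hom g)) hUV ≫
        (X.basicOpen ((f.appLE V₀ U₀ h).hom g)).topIso.inv := Scheme.Hom.resLE_app_top f hUV
  rw [e1]
  have h3 : (f.appLE (Y.basicOpen g) (X.basicOpen ((f.appLE V₀ U₀ h).hom g)) hUV).hom.Finite := by
    rw [RingHom.finite_iff_isIntegral_and_finiteType]
    refine ⟨?_, f.finiteType_appLE hV hU hUV⟩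
    have hcomm : (f.appLE (Y.basicOpen g) (X.basicOpen ((f.appLE V₀ U₀ h).hom g)) hUV).hom.comp
        (Y.presheaf.map (homOfLE (Y.basicOpen_le g)).op).hom =
        (X.presheaf.map (homOfLE (X.basicOpen_le ((f.appLE V₀ U₀ h).hom g))).op).hom.comp
          (f.appLE V₀ U₀ h).hom := by
      have e2 : Y.presheaf.map (homOfLE (Y.basicOpen_le g)).op ≫
          f.appLE (Y.basicOpen g) (X.basicOpen ((f.appLE V₀ U₀ h).hom g)) hUV =
          f.appLE V₀ U₀ h ≫
            X.presheaf.map (homOfLE (X.basicOpen_le ((f.appLE V₀ U₀ h).hom g))).op := by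
        rw [Scheme.Hom.map_appLE, Scheme.Hom.appLE_map]
      exact congrArg CommRingCat.Hom.hom e2
    refine isIntegral_of_localization_data' (f.appLE V₀ U₀ h).hom
      (Y.presheaf.map (homOfLE (Y.basicOpen_le g)).op).hom
      (X.presheaf.map (homOfLE (X.basicOpen_le ((f.appLE V₀ U₀ h).hom g))).op).hom _ hcomm g
      (RingedSpace.isUnit_res_basicOpen _ g) ?_ (T : Set Γ(X, U₀)) hT ?_
    · intro x
      have hloc := hU₀.isLocalization_basicOpen ((f.appLE V₀ U₀ h).hom g)
      obtain ⟨⟨s, ⟨_, n, rfl⟩⟩, hs⟩ := IsLocalization.surj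
        (Submonoid.powers ((f.appLE V₀ U₀ h).hom g)) x
      refine ⟨s, n, ?_⟩
      rw [← map_pow]
      exact hs
    · intro t ht
      refine isIntegralElem_of_smul (f.appLE V₀ U₀ h).hom _ _ _ hcomm (m t) ?_ t ?_
      · have hdvd : m t ∣ g := (Finset.dvd_prod_of_mem _ ht).trans hg₀g
        exact isUnit_of_dvd_unit (map_dvd _ hdvd) (RingedSpace.isUnit_res_basicOpen _ g)
      · have := hmint t
        rw [Algebra.smul_def] at this
        exact this
  exact (RingHom.finite_respectsIso.cancel_left_isIso _ _).mpr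
    ((RingHom.finite_respectsIso.cancel_right_isIso _ _).mpr h3)

end Groth.Agent.Lib.helper4.GenFinite3
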