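import Mathlib
import Groth.Agent.S4450
import Groth.Agent.Lib.Helper4.GenFinite3
import Groth.Agent.Lib.Helper4.GlueClosedPoint

/-!
# Valuative criteria with discrete valuation rings through a dense family: core
-/

set_option backward.isDefEq.respectTransparency false
set_option backward.isDefEq.respectTransparency.types false
set_option autoImplicit false
universe u
open CategoryTheory CategoryTheory.Limits AlgebraicGeometry

namespace Groth.Agent.Lib.helper4.DvrDense

open Groth.Agent.Lib.helper4.GenFinite3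

/-- Every point of a scheme has a maximal generization. -/
lemma exists_isMaxPt_specializes (X : Scheme.{u}) (x : X) : ∃ x' : X, IsMaxPt x' ∧ x' ⤳ x := by
  obtain ⟨_, ⟨W : X.Opens, hW, rfl⟩, hxW, -⟩ :=
    X.isBasis_affineOpens.exists_subset_of_mem_open (Set.mem_univ x) isOpen_univ
  have hxW' : x ∈ W := hxW
  set p := hW.primeIdealOf ⟨x, hxW'⟩ with hp
  have hpx : hW.fromSpec p = x := hW.fromSpec_primeIdealOf ⟨x, hxW'⟩
  obtain ⟨q, hqmin, hqle⟩ := Ideal.exists_minimalPrimes_le (show (⊥ : Ideal Γ(X, W)) ≤ p.asIdeal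
    from bot_le)
  let q' : PrimeSpectrum Γ(X, W) := ⟨q, hqmin.1.1⟩
  have hsp : q' ⤳ p := (PrimeSpectrum.le_iff_specializes _ _).mp hqle
  refine ⟨hW.fromSpec q', ?_, ?_⟩
  · intro y hy
    have hq'W : hW.fromSpec q' ∈ W := by
      have : hW.fromSpec q' ∈ Set.range hW.fromSpec := ⟨q', rfl⟩
      rw [hW.range_fromSpec] at this
      exact this
    have hyW : y ∈ W := hy.mem_open W.2 hq'W
    set py := hW.primeIdealOf ⟨y, hyW⟩ with hpy
    have hpyy : hW.fromSpec py = y := hW.fromSpec_primeIdealOf ⟨y, hyW⟩
    rw [← hpyy] at hy ⊢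
    rw [hW.fromSpec.isOpenEmbedding.isInducing.specializes_iff] at hy
    have hle : py.asIdeal ≤ q := (PrimeSpectrum.le_iff_specializes _ _).mpr hy
    have hge : q ≤ py.asIdeal := hqmin.2 ⟨py.2, bot_le⟩ hle
    congr 1
    exact PrimeSpectrum.ext (le_antisymm hle hge)
  · rw [← hpx]
    exact hsp.map hW.fromSpec.continuous

/-- The generic point of the spectrum of a valuation subring is dense. -/
lemma isDominant_SpecMap_subtype {K : Type u} [Field K] (A : ValuationSubring K) :
    IsDominant (Spec.map (CommRingCat.ofHom A.subtype)) := by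
  constructor
  show DenseRange (PrimeSpectrum.comap A.subtype)
  rw [PrimeSpectrum.denseRange_comap_iff_ker_le_nilRadical,
    (RingHom.injective_iff_ker_eq_bot _).1 Subtype.val_injective]
  exact bot_le

/-- **Core.** An immersion `j : X' ⟶ P` into a locally Noetherian scheme `P`, separated over `S`,
is a closed immersion as soon as discrete valuation rings of residue fields of maximal points of
a dense family `p : U' ⟶ X'` of finite type, mapping to `P`, lift to `X'` over `S`. -/
theorem isClosedImmersion_of_dvr {X' P S U' : Scheme.{u}} [IsLocallyNoetherian P] (j : X' ⟶ P)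
    [IsImmersion j] (b : P ⟶ S) [IsSeparated b] (p : U' ⟶ X') [LocallyOfFiniteType p]
    [QuasiCompact (p ≫ j)] (hd : DenseRange p)
    (H : ∀ (u : U'), IsMaxPt u → ∀ (A : ValuationSubring (U'.residueField u)),
      IsDiscreteValuationRing A → ∀ (m : Spec (CommRingCat.of A) ⟶ P),
      Spec.map (CommRingCat.ofHom A.subtype) ≫ m = U'.fromSpecResidueField u ≫ p ≫ j →
      ∃ l : Spec (CommRingCat.of A) ⟶ X', l ≫ j ≫ b = m ≫ b ∧
        Spec.map (CommRingCat.ofHom A.subtype) ≫ l = U'.fromSpecResidueField u ≫ p) :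
    IsClosedImmersion j := by
  refine IsClosedImmersion.of_isPreimmersion j ?_
  rw [← closure_subset_iff_isClosed]
  intro x' hx
  have h1 : x' ∈ closure (Set.range (p ≫ j)) := by
    have : Set.range j ⊆ closure (Set.range (p ≫ j)) := by
      rw [Scheme.Hom.comp_base, TopCat.coe_comp, Set.range_comp, ← Set.image_univ,
        ← hd.closure_range]
      exact image_closure_subset_closure_image j.continuous
    exact closure_minimal this isClosed_closure hx
  obtain ⟨u₀, hu₀⟩ :=
    Groth.Agent.Lib.Helper4.GlueClosedPoint.exists_specializes_of_mem_closure_range (p ≫ j) x' h1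
  obtain ⟨u, humax, huu₀⟩ := exists_isMaxPt_specializes U' u₀
  have hu : (p ≫ j) u ⤳ x' := (huu₀.map (p ≫ j).continuous).trans hu₀
  by_cases hne : x' = (p ≫ j) u
  · exact ⟨p u, hne.symm⟩
  obtain ⟨A, m, hA, hcl, hgen⟩ := Groth.Agent.S4450.result (p ≫ j) u x' hu hne
  obtain ⟨l, hl1, hl2⟩ := H u humax A hA m hgen
  have hdom := isDominant_SpecMap_subtype A
  have hlm : l ≫ j = m := by
    refine ext_of_isDominant_of_isSeparated b (by rw [Category.assoc]; exact hl1)
      (Spec.map (CommRingCat.ofHom A.subtype)) ?_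
    rw [← Category.assoc, hl2, Category.assoc, hgen]
  refine ⟨l (IsLocalRing.closedPoint A), ?_⟩
  rw [← hcl, ← hlm]
  rfl

end Groth.Agent.Lib.helper4.DvrDense
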