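import Mathlib
import Groth.Agent.Lib.Helper12.Chow6

/-!
# Chow's lemma with the extra information that the preimage of the dense open is dense

(re-assembly of helper12's `Chow6.chow_finite_components`, recording two more facts that are
visible in the construction.)
-/

set_option autoImplicit false
universe u

open CategoryTheory CategoryTheory.Limits AlgebraicGeometry Opposite TopologicalSpace

namespace Groth.Agent.Lib.helper4.DvrDense2

open Groth.Agent.Lib.helper12

/-- **Chow's lemma**, finitely many irreducible components, with a dense *affine* open `U` over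
which `π` is an isomorphism and whose preimage is dense. -/
theorem chow_finite_components_dense {X S : Scheme.{u}} (f : X ⟶ S) [IsSeparated f]
    [LocallyOfFiniteType f] [QuasiCompact f] [CompactSpace S] [QuasiSeparatedSpace S]
    (hfin : (irreducibleComponents X).Finite) :
    ∃ (n : ℕ) (X'' : Scheme.{u}) (π : X'' ⟶ X) (j : X'' ⟶ CohB1.ProjSpaceOver n S),
      IsImmersion j ∧ j ≫ CohB1.ProjSpaceOver.toBase n S = π ≫ f ∧ IsProper π ∧ Surjective π ∧
      ∃ U : X.Opens, IsAffineOpen U ∧ Dense (U : Set X) ∧ IsIso (π ∣_ U) ∧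
        Dense ((π ⁻¹ᵁ U : X''.Opens) : Set X'') := by
  classical
  by_cases hemp : IsEmpty X
  · refine ⟨0, X, 𝟙 X, isInitialOfIsEmpty.to _, inferInstance, isInitialOfIsEmpty.hom_ext _ _,
      inferInstance, inferInstance, ⊤, ?_, ?_, inferInstance, ?_⟩
    · have : IsAffine X := isAffine_of_isEmpty
      exact isAffineOpen_top X
    · intro x
      exact (hemp.false x).elim
    · intro x
      exact (hemp.false x).elim
  rw [not_isEmpty_iff] at hemp
  have : CompactSpace X := QuasiCompact.compactSpace_of_compactSpace f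
  have : QuasiSeparatedSpace X := quasiSeparatedSpace_of_quasiSeparated f
  have hnb : ∀ x : X, ∃ V : X.Opens, IsAffineOpen V ∧ x ∈ V := fun x => by
    obtain ⟨V, hV, hxV, -⟩ := exists_isAffineOpen_mem_and_subset
      (show x ∈ (⊤ : X.Opens) from trivial)
    exact ⟨V, hV, hxV⟩
  choose V hV hxV using hnb
  obtain ⟨s, hs⟩ := isCompact_univ.elim_finite_subcover (fun x => (V x : Set X))
    (fun x => (V x).isOpen) (fun x _ => Set.mem_iUnion.mpr ⟨x, hxV x⟩)
  have hsne : s.Nonempty := by
    obtain ⟨x0⟩ := hemp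
    have h1 := hs (Set.mem_univ x0)
    simp only [Set.mem_iUnion] at h1
    obtain ⟨x, hx, -⟩ := h1
    exact ⟨x, hx⟩
  obtain ⟨m, hm⟩ : ∃ m, s.card = m + 1 :=
    Nat.exists_eq_succ_of_ne_zero (Finset.card_ne_zero.mpr hsne)
  let e : Fin (m + 1) ≃ s := (Finset.equivFinOfCardEq hm).symm
  obtain ⟨U, Ui, hUaff, hUdense, hUi, hU, hVUi⟩ :=
    Chow6.exists_good_opens hfin (fun i : Fin (m + 1) => V (e i)) (fun i => hV _)
  have hcov : ⨆ i, Ui i = ⊤ := by
    rw [eq_top_iff]
    intro x _
    have h1 := hs (Set.mem_univ x)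
    simp only [Set.mem_iUnion] at h1
    obtain ⟨y, hy, hxy⟩ := h1
    refine Opens.mem_iSup.mpr ⟨e.symm ⟨y, hy⟩, hVUi _ ?_⟩
    change x ∈ V (e (e.symm ⟨y, hy⟩))
    rw [Equiv.apply_symm_apply]
    exact hxy
  have himm := fun i => Chow5.exists_immersion_of_isAffineOpen f (Ui i) (hUi i)
  choose n φ hφimm hφ using himm
  obtain ⟨P, q, p, N, c, hc, hcq, hp, huniv⟩ := Chow4.exists_weak_product S m n
  have : IsProper q := by rw [← hcq]; infer_instance
  have : CompactSpace (U : Scheme.{u}) := isCompact_iff_compactSpace.mp hUaff.isCompact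
  have : QuasiCompact U.ι := inferInstance
  obtain ⟨g, hgq, hgp⟩ := huniv U (U.ι ≫ f) (fun i => X.homOfLE (hU i) ≫ φ i) (fun i => by
    rw [Category.assoc, hφ i, X.homOfLE_ι_assoc])
  have hg : U.ι ≫ f = g ≫ q := hgq.symm
  have hρ : IsImmersion (Chow2.ρ f q U g hg) :=
    Chow3.isImmersion_ρ f q U g hg Ui hU hcov (fun i => CohB1.ProjSpaceOver (n i) S)
      (fun i => CohB1.ProjSpaceOver.toBase (n i) S) p hp φ hφ hgp
  refine ⟨N, Chow2.X' f q U g hg, Chow2.π f q U g hg, Chow2.ρ f q U g hg ≫ c, inferInstance, ?_,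
    inferInstance, Chow2.surjective_π f q U g hg hUdense,
    ⟨U, hUaff, hUdense, Chow2.isIso_π_restrict f q U g hg, ?_⟩⟩
  · rw [Category.assoc, hcq, Chow2.π_f]
  · rw [Chow2.preimage_eq_opensRange f q U g hg]
    exact (Chow2.j₀ f q U g hg).denseRange

end Groth.Agent.Lib.helper4.DvrDense2
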