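import Mathlib
import Groth.Agent.Lib.Helper4.DvrDense
import Groth.Agent.Lib.Helper4.DvrDense2
import Groth.Agent.Lib.Helper19.ProjSpaceProper

/-!
# Properness from DVR-lifting through a dense family of finite type (Noetherian base)
-/

set_option backward.isDefEq.respectTransparency false
set_option backward.isDefEq.respectTransparency.types false
set_option autoImplicit false
universe u
open CategoryTheory CategoryTheory.Limits AlgebraicGeometry

namespace Groth.Agent.Lib.helper4.DvrDense3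

open Groth.Agent.Lib.helper4.GenFinite3 Groth.Agent.Lib.helper4.DvrDense
open Groth.Agent.Lib.helper19.ProjSpaceProper

/-- Lifting a valuation-ring point through a proper morphism. -/
lemma exists_lift_of_isProper {X'' X : Scheme.{u}} (π : X'' ⟶ X) [IsProper π] {K : Type u}
    [Field K] (A : ValuationSubring K) (i₁ : Spec (CommRingCat.of K) ⟶ X'')
    (l₀ : Spec (CommRingCat.of A) ⟶ X)
    (w : i₁ ≫ π = Spec.map (CommRingCat.ofHom A.subtype) ≫ l₀) :
    ∃ l : Spec (CommRingCat.of A) ⟶ X'',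
      Spec.map (CommRingCat.ofHom A.subtype) ≫ l = i₁ ∧ l ≫ π = l₀ := by
  have hex : ValuativeCriterion.Existence π := by
    have h : UniversallyClosed π := inferInstance
    have := UniversallyClosed.eq_valuativeCriterion ▸ h
    exact this.1
  let Sq : ValuativeCommSq π :=
    { R := A
      K := K
      i₁ := i₁
      i₂ := l₀
      commSq := ⟨w⟩ }
  obtain ⟨⟨l⟩⟩ := hex Sq
  exact ⟨l.l, l.fac_left, l.fac_right⟩

variable {X S U : Scheme.{u}}

/-- DVR-lifting through `h`, in the form "field with a valuation subring". -/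
def DvrThrough (f : X ⟶ S) (h : U ⟶ X) : Prop :=
  ∀ (K : Type u) [Field K] (A : ValuationSubring K), IsDiscreteValuationRing A →
    ∀ (u : Spec (CommRingCat.of K) ⟶ U) (y : Spec (CommRingCat.of A) ⟶ S),
      u ≫ h ≫ f = Spec.map (CommRingCat.ofHom A.subtype) ≫ y →
      ∃ l : Spec (CommRingCat.of A) ⟶ X, l ≫ f = y ∧
        Spec.map (CommRingCat.ofHom A.subtype) ≫ l = u ≫ h

/-- **Stacks 0CM5 over a Noetherian base.** -/
theorem isProper_of_dvrThrough [CompactSpace S] [QuasiSeparatedSpace S] [IsLocallyNoetherian S]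
    (f : X ⟶ S) [IsSeparated f] [LocallyOfFiniteType f] [QuasiCompact f] (h : U ⟶ X)
    [LocallyOfFiniteType h] [QuasiCompact h] (hd : DenseRange h) (H : DvrThrough f h) :
    IsProper f := by
  have : IsLocallyNoetherian X := LocallyOfFiniteType.isLocallyNoetherian f
  have : CompactSpace X := QuasiCompact.compactSpace_of_compactSpace f
  have : IsNoetherian X := {}
  have hfin : (irreducibleComponents X).Finite :=
    TopologicalSpace.NoetherianSpace.finite_irreducibleComponents
  obtain ⟨n, X'', π, j, hj, hjf, hπ, hsurj, V, hVaff, hVd, hViso, hpreV⟩ :=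
    DvrDense2.chow_finite_components_dense f hfin
  let b := CohB1.ProjSpaceOver.toBase n S
  have : IsLocallyNoetherian (CohB1.ProjSpaceOver n S) :=
    LocallyOfFiniteType.isLocallyNoetherian b
  have : QuasiSeparatedSpace (CohB1.ProjSpaceOver n S) := quasiSeparatedSpace_of_quasiSeparated b
  have : CompactSpace X'' := QuasiCompact.compactSpace_of_compactSpace π
  have : QuasiCompact j := inferInstance
  -- the test family
  let p₁ : pullback h π ⟶ X'' := pullback.snd h π
  let q : pullback h π ⟶ U := pullback.fst h π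
  have hp₁d : DenseRange p₁ := by
    have hr : Set.range p₁ = π ⁻¹' Set.range h := Scheme.Pullback.range_snd h π
    rw [DenseRange, hr]
    -- `π⁻¹(range h ∩ V)` is dense in `π⁻¹ V`, which is dense
    have hhomeo : IsHomeomorph (π ∣_ V) := (π ∣_ V).homeomorph.isHomeomorph
    intro x
    rw [mem_closure_iff]
    intro O hO hxO
    -- `O ∩ π⁻¹ V` is a nonempty open
    obtain ⟨x₁, hx₁O, hx₁V⟩ := hpreV.inter_open_nonempty O hO ⟨x, hxO⟩
    -- transport to `V`
    let O' : Set (π ⁻¹ᵁ V).toScheme := (π ⁻¹ᵁ V).ι ⁻¹' O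
    have hO' : IsOpen O' := hO.preimage (π ⁻¹ᵁ V).ι.continuous
    have hO'V : IsOpen ((π ∣_ V) '' O') := hhomeo.isOpenMap _ hO'
    have hO'X : IsOpen (V.ι '' ((π ∣_ V) '' O')) := V.ι.isOpenEmbedding.isOpenMap _ hO'V
    have hne : (V.ι '' ((π ∣_ V) '' O')).Nonempty :=
      ⟨_, ⟨_, ⟨⟨x₁, hx₁V⟩, hx₁O, rfl⟩, rfl⟩⟩
    obtain ⟨y, hyO, u, rfl⟩ := hd.inter_open_nonempty _ hO'X hne
    obtain ⟨v, ⟨z, hzO, rfl⟩, hv⟩ := hyO
    refine ⟨(π ⁻¹ᵁ V).ι z, hzO, ?_⟩
    show π ((π ⁻¹ᵁ V).ι z) ∈ Set.range h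
    refine ⟨u, ?_⟩
    rw [← hv, ← Scheme.Hom.comp_apply, ← Scheme.Hom.comp_apply, morphismRestrict_ι]
  have hcl : IsClosedImmersion j := by
    refine isClosedImmersion_of_dvr j b p₁ hp₁d ?_
    intro u₁ _ A hA m hm
    have hcond : q ≫ h = p₁ ≫ π := pullback.condition
    obtain ⟨l₀, hl₀1, hl₀2⟩ := H _ A hA ((pullback h π).fromSpecResidueField u₁ ≫ q) (m ≫ b) (by
      rw [Category.assoc, ← Category.assoc q, hcond, Category.assoc, ← hjf]
      rw [← Category.assoc (Spec.map (CommRingCat.ofHom A.subtype)) m b, hm]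
      simp only [Category.assoc]
      rfl)
    obtain ⟨l, hl1, hl2⟩ := exists_lift_of_isProper π A
      ((pullback h π).fromSpecResidueField u₁ ≫ p₁) l₀ (by
        rw [hl₀2, Category.assoc, Category.assoc, hcond])
    refine ⟨l, ?_, hl1⟩
    show l ≫ j ≫ b = m ≫ b
    rw [hjf, ← Category.assoc, hl2, hl₀1]
  have h1 : IsProper (j ≫ b) := inferInstance
  have h2 : IsProper (π ≫ f) := by rw [← hjf]; exact h1
  have h3 : UniversallyClosed f := UniversallyClosed.of_comp_surjective π f
  exact { }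

end Groth.Agent.Lib.helper4.DvrDense3
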