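import Mathlib
import Groth.Agent.Lib.Helper4.DvrDense3

/-!
# Properness from DVR-lifting through a dense family of finite type (locally Noetherian base)
-/

set_option backward.isDefEq.respectTransparency false
set_option backward.isDefEq.respectTransparency.types false
set_option autoImplicit false
universe u
open CategoryTheory CategoryTheory.Limits AlgebraicGeometry

namespace Groth.Agent.Lib.helper4.DvrDense4

open Groth.Agent.Lib.helper4.DvrDense3

/-- The spectrum of the fraction ring of a valuation subring is the spectrum of the field. -/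
lemma exists_iso_fractionRing {K : Type u} [Field K] (A : ValuationSubring K) :
    ∃ e : Spec (CommRingCat.of (FractionRing A)) ⟶ Spec (CommRingCat.of K), IsIso e ∧
      Spec.map (CommRingCat.ofHom (algebraMap A (FractionRing A))) =
        e ≫ Spec.map (CommRingCat.ofHom A.subtype) := by
  let e : K ≃ₐ[A] FractionRing A := (FractionRing.algEquiv A K).symm
  refine ⟨Spec.map (CommRingCat.ofHom (e : K →+* FractionRing A)), ?_, ?_⟩
  · have : IsIso (CommRingCat.ofHom (e : K →+* FractionRing A)) :=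
      (e.toRingEquiv.toCommRingCatIso).isIso_hom
    infer_instance
  · rw [← Spec.map_comp, ← CommRingCat.ofHom_comp]
    congr 2
    ext a
    exact (e.commutes a).symm

variable {X S U : Scheme.{u}}

/-- From the "fraction ring" form of the DVR-lifting hypothesis to the "valuation subring" form. -/
lemma dvrThrough_of_fractionRing (f : X ⟶ S) (h : U ⟶ X)
    (H : ∀ (A : Type u) [CommRing A] [IsDomain A] [IsDiscreteValuationRing A]
      (u : Spec (CommRingCat.of (FractionRing A)) ⟶ U) (y : Spec (CommRingCat.of A) ⟶ S),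
      u ≫ h ≫ f = Spec.map (CommRingCat.ofHom (algebraMap A (FractionRing A))) ≫ y →
        ∃ l : Spec (CommRingCat.of A) ⟶ X, l ≫ f = y ∧
          Spec.map (CommRingCat.ofHom (algebraMap A (FractionRing A))) ≫ l = u ≫ h) :
    DvrThrough f h := by
  intro K _ A hA u y hy
  obtain ⟨e, he, hee⟩ := exists_iso_fractionRing A
  obtain ⟨l, hl1, hl2⟩ := H A (e ≫ u) y (by rw [Category.assoc, hy, hee, Category.assoc])
  refine ⟨l, hl1, ?_⟩
  rw [hee, Category.assoc, Category.assoc] at hl2
  exact (cancel_epi e).mp hl2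

/-- The hypothesis restricts to opens of the base. -/
lemma dvrThrough_restrict (f : X ⟶ S) (h : U ⟶ X) (H : DvrThrough f h) (V : S.Opens) :
    DvrThrough (f ∣_ V) (h ∣_ (f ⁻¹ᵁ V)) := by
  intro K _ A hA u y hy
  obtain ⟨l, hl1, hl2⟩ := H K A hA (u ≫ (h ⁻¹ᵁ (f ⁻¹ᵁ V)).ι) (y ≫ V.ι) (by
    rw [Category.assoc, ← Category.assoc _ h f, ← morphismRestrict_ι h, Category.assoc,
      ← morphismRestrict_ι f, ← Category.assoc, ← Category.assoc, ← Category.assoc,
      Category.assoc u, hy, Category.assoc])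
  have hr : Set.range l ⊆ Set.range (f ⁻¹ᵁ V).ι := by
    rintro _ ⟨a, rfl⟩
    rw [Scheme.Opens.range_ι]
    show f (l a) ∈ V
    rw [← Scheme.Hom.comp_apply, hl1, Scheme.Hom.comp_apply]
    exact (y a).2
  refine ⟨IsOpenImmersion.lift (f ⁻¹ᵁ V).ι l hr, ?_, ?_⟩
  · rw [← cancel_mono V.ι, Category.assoc, morphismRestrict_ι, ← Category.assoc,
      IsOpenImmersion.lift_fac, hl1]
  · rw [← cancel_mono (f ⁻¹ᵁ V).ι, Category.assoc, IsOpenImmersion.lift_fac, hl2,
      Category.assoc, Category.assoc, morphismRestrict_ι]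

/-- Density restricts to opens. -/
lemma denseRange_restrict (h : U ⟶ X) (hd : DenseRange h) (W : X.Opens) :
    DenseRange (h ∣_ W) := by
  intro x
  rw [mem_closure_iff]
  intro O hO hxO
  have hO' : IsOpen (W.ι '' O) := W.ι.isOpenEmbedding.isOpenMap _ hO
  obtain ⟨y, ⟨z, hzO, rfl⟩, u, hu⟩ := hd.inter_open_nonempty _ hO' ⟨_, x, hxO, rfl⟩
  have huW : u ∈ h ⁻¹ᵁ W := by
    show h u ∈ W
    rw [hu]
    exact z.2
  refine ⟨z, hzO, ⟨u, huW⟩, ?_⟩
  apply W.ι.injective
  rw [← Scheme.Hom.comp_apply, morphismRestrict_ι, Scheme.Hom.comp_apply]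
  exact hu

/-- **Stacks 0CM5.** -/
theorem isProper_of_dvrThrough [IsLocallyNoetherian S] (f : X ⟶ S) [IsSeparated f]
    [LocallyOfFiniteType f] [QuasiCompact f] (h : U ⟶ X) [LocallyOfFiniteType h] [QuasiCompact h]
    (hd : DenseRange h) (H : DvrThrough f h) : IsProper f := by
  refine IsZariskiLocalAtTarget.of_forall_exists_morphismRestrict (P := @IsProper) fun s => ?_
  obtain ⟨_, ⟨V : S.Opens, hV, rfl⟩, hsV, -⟩ :=
    S.isBasis_affineOpens.exists_subset_of_mem_open (Set.mem_univ s) isOpen_univ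
  refine ⟨V, hsV, ?_⟩
  have : IsAffine V.toScheme := hV
  exact DvrDense3.isProper_of_dvrThrough (f ∣_ V) (h ∣_ (f ⁻¹ᵁ V))
    (denseRange_restrict h hd _) (dvrThrough_restrict f h H V)

end Groth.Agent.Lib.helper4.DvrDense4
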