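import Mathlib
import Groth.Agent.Lib.Helper4.DvrDense4

/-!
# Properness from DVR-lifting at the generic points (locally Noetherian base)
-/

set_option backward.isDefEq.respectTransparency false
set_option backward.isDefEq.respectTransparency.types false
set_option autoImplicit false
universe u
open CategoryTheory CategoryTheory.Limits AlgebraicGeometry

namespace Groth.Agent.Lib.helper4.DvrDense5

open Groth.Agent.Lib.helper4.GenFinite3 Groth.Agent.Lib.helper4.DvrDense
open Groth.Agent.Lib.helper4.DvrDense3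
open Groth.Agent.Lib.helper19.ProjSpaceProper

variable {X S : Scheme.{u}}

/-- The closure of a maximal point of a scheme is an irreducible component. -/
lemma closure_mem_irreducibleComponents_of_isMaxPt (η : X) (h : IsMaxPt η) :
    closure {η} ∈ irreducibleComponents (X : Type u) := by
  refine ⟨isIrreducible_singleton.closure, ?_⟩
  intro Z hZ hle
  have hZc : IsIrreducible (closure Z) := hZ.closure
  obtain ⟨ζ, hζ⟩ := QuasiSober.sober hZc isClosed_closure
  have hζZ : closure {ζ} = closure Z := hζ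
  have hηZ : η ∈ closure Z := subset_closure (hle (subset_closure rfl))
  have hsp : ζ ⤳ η := by
    rw [specializes_iff_mem_closure, hζZ]
    exact hηZ
  have := h ζ hsp
  subst this
  intro z hz
  rw [hζZ]
  exact subset_closure hz

/-- Maximal points map to maximal points under open immersions. -/
lemma isMaxPt_of_isOpenImmersion {W : Scheme.{u}} (t : W ⟶ X) [IsOpenImmersion t] (ξ : W)
    (hξ : IsMaxPt ξ) : IsMaxPt (t ξ) := by
  intro y hy
  have hyr : y ∈ Set.range t := hy.mem_open t.isOpenEmbedding.isOpen_range ⟨ξ, rfl⟩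
  obtain ⟨ξ', rfl⟩ := hyr
  rw [t.isOpenEmbedding.isInducing.specializes_iff] at hy
  rw [hξ ξ' hy]

/-- DVR-lifting at maximal points. -/
def DvrGeneric (f : X ⟶ S) : Prop :=
  ∀ (η : X), IsMaxPt η → ∀ (A : ValuationSubring (X.residueField η)),
    IsDiscreteValuationRing A → ∀ y : Spec (CommRingCat.of A) ⟶ S,
    Spec.map (CommRingCat.ofHom A.subtype) ≫ y = X.fromSpecResidueField η ≫ f →
    ∃ l : Spec (CommRingCat.of A) ⟶ X, l ≫ f = y ∧
      Spec.map (CommRingCat.ofHom A.subtype) ≫ l = X.fromSpecResidueField η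

/-- Transport of the hypothesis along an open immersion. -/
lemma dvrGeneric_openImmersion (f : X ⟶ S) (H : DvrGeneric f) {W : Scheme.{u}} (t : W ⟶ X)
    [IsOpenImmersion t] (ξ : W) (hξ : IsMaxPt ξ) (A : ValuationSubring (W.residueField ξ))
    (hA : IsDiscreteValuationRing A) (y : Spec (CommRingCat.of A) ⟶ S)
    (hy : Spec.map (CommRingCat.ofHom A.subtype) ≫ y = W.fromSpecResidueField ξ ≫ t ≫ f) :
    ∃ l : Spec (CommRingCat.of A) ⟶ X, l ≫ f = y ∧
      Spec.map (CommRingCat.ofHom A.subtype) ≫ l = W.fromSpecResidueField ξ ≫ t := by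
  have hη := isMaxPt_of_isOpenImmersion t ξ hξ
  let ρ : X.residueField (t ξ) ⟶ W.residueField ξ := t.residueFieldMap ξ
  have hρiso : IsIso ρ := inferInstance
  have hρbij : Function.Bijective ρ.hom := (ConcreteCategory.isIso_iff_bijective ρ).mp hρiso
  let A' : ValuationSubring (X.residueField (t ξ)) := A.comap ρ.hom
  let ρ' : ↥A' →+* ↥A := (ρ.hom.comp A'.subtype).codRestrict A.toSubring (fun x => x.2)
  have hρ'bij : Function.Bijective ρ' := by
    constructor
    · intro a b hab
      apply Subtype.ext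
      apply hρbij.1
      exact congrArg Subtype.val hab
    · intro a
      obtain ⟨c, hc⟩ := hρbij.2 a.1
      have hcA' : c ∈ A' := by
        show ρ.hom c ∈ A
        rw [hc]
        exact a.2
      exact ⟨⟨c, hcA'⟩, Subtype.ext hc⟩
  let eA : ↥A' ≃+* ↥A := RingEquiv.ofBijective ρ' hρ'bij
  have hA' : IsDiscreteValuationRing ↥A' := by
    have := hA
    exact IsDiscreteValuationRing.RingEquivClass.isDiscreteValuationRing eA.symm
  let σ : Spec (CommRingCat.of ↥A) ⟶ Spec (CommRingCat.of ↥A') :=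
    Spec.map (CommRingCat.ofHom ρ')
  have hσ : IsIso σ := by
    have : IsIso (CommRingCat.ofHom ρ') := (eA.toCommRingCatIso).isIso_hom
    infer_instance
  have hsq : Spec.map ρ ≫ Spec.map (CommRingCat.ofHom A'.subtype) =
      Spec.map (CommRingCat.ofHom A.subtype) ≫ σ := by
    rw [← Spec.map_comp, ← Spec.map_comp]
    congr 1
  have htri : W.fromSpecResidueField ξ ≫ t = Spec.map ρ ≫ X.fromSpecResidueField (t ξ) :=
    (Scheme.Hom.SpecMap_residueFieldMap_fromSpecResidueField t ξ).symm
  have hρepi : Epi (Spec.map ρ) := inferInstance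
  obtain ⟨l', hl'1, hl'2⟩ := H (t ξ) hη A' hA' (inv σ ≫ y) (by
    rw [← cancel_epi (Spec.map ρ), ← Category.assoc, hsq, Category.assoc,
      IsIso.hom_inv_id_assoc, hy, ← Category.assoc, htri, Category.assoc])
  refine ⟨σ ≫ l', ?_, ?_⟩
  · rw [Category.assoc, hl'1, IsIso.hom_inv_id_assoc]
  · rw [← Category.assoc, ← hsq, Category.assoc, hl'2, htri]

/-- **Noetherian base.** -/
theorem isProper_of_dvrGeneric_of_noetherian [CompactSpace S] [QuasiSeparatedSpace S]
    [IsLocallyNoetherian S] (f : X ⟶ S) [IsSeparated f] [LocallyOfFiniteType f] [QuasiCompact f]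
    (H : DvrGeneric f) : IsProper f := by
  have : IsLocallyNoetherian X := LocallyOfFiniteType.isLocallyNoetherian f
  have : CompactSpace X := QuasiCompact.compactSpace_of_compactSpace f
  have : IsNoetherian X := {}
  have hfin : (irreducibleComponents X).Finite :=
    TopologicalSpace.NoetherianSpace.finite_irreducibleComponents
  obtain ⟨n, X'', π, j, hj, hjf, hπ, hsurj, V, hVaff, hVd, hViso, hpreV⟩ :=
    DvrDense2.chow_finite_components_dense f hfin
  let b := CohB1.ProjSpaceOver.toBase n S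
  have : IsLocallyNoetherian (CohB1.ProjSpaceOver n S) :=
    LocallyOfFiniteType.isLocallyNoetherian b
  have : QuasiSeparatedSpace (CohB1.ProjSpaceOver n S) := quasiSeparatedSpace_of_quasiSeparated b
  let p : (π ⁻¹ᵁ V).toScheme ⟶ X'' := (π ⁻¹ᵁ V).ι
  have hcpt : CompactSpace (π ⁻¹ᵁ V).toScheme :=
    isCompact_iff_compactSpace.mp (π.isCompact_preimage hVaff.isCompact)
  have : QuasiCompact (p ≫ j) := inferInstance
  have hpd : DenseRange p := by
    rw [DenseRange, Scheme.Opens.range_ι]
    exact hpreV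
  have hpπ : p ≫ π = (π ∣_ V) ≫ V.ι := (morphismRestrict_ι π V).symm
  have ht : IsOpenImmersion (p ≫ π) := by rw [hpπ]; infer_instance
  have hcl : IsClosedImmersion j := by
    refine isClosedImmersion_of_dvr j b p hpd ?_
    intro ξ hξ A hA m hm
    obtain ⟨l₀, hl₀1, hl₀2⟩ := dvrGeneric_openImmersion f H (p ≫ π) ξ hξ A hA (m ≫ b) (by
      rw [← Category.assoc, hm, Category.assoc, Category.assoc, Category.assoc]
      show _ ≫ p ≫ j ≫ CohB1.ProjSpaceOver.toBase n S = _
      rw [hjf])
    obtain ⟨l, hl1, hl2⟩ := exists_lift_of_isProper π A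
      ((π ⁻¹ᵁ V).toScheme.fromSpecResidueField ξ ≫ p) l₀ (by
        rw [hl₀2, Category.assoc])
    refine ⟨l, ?_, hl1⟩
    show l ≫ j ≫ b = m ≫ b
    rw [hjf, ← Category.assoc, hl2, hl₀1]
  have h1 : IsProper (j ≫ b) := inferInstance
  have h2 : IsProper (π ≫ f) := by rw [← hjf]; exact h1
  have h3 : UniversallyClosed f := UniversallyClosed.of_comp_surjective π f
  exact { }

/-- The hypothesis restricts to opens of the base. -/
lemma dvrGeneric_restrict (f : X ⟶ S) (H : DvrGeneric f) (V : S.Opens) :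
    DvrGeneric (f ∣_ V) := by
  intro η hη A hA y hy
  obtain ⟨l, hl1, hl2⟩ := dvrGeneric_openImmersion f H (f ⁻¹ᵁ V).ι η hη A hA (y ≫ V.ι) (by
    rw [← Category.assoc, hy, Category.assoc, morphismRestrict_ι])
  have hr : Set.range l ⊆ Set.range (f ⁻¹ᵁ V).ι := by
    rintro _ ⟨a, rfl⟩
    rw [Scheme.Opens.range_ι]
    show f (l a) ∈ V
    rw [← Scheme.Hom.comp_apply, hl1, Scheme.Hom.comp_apply]
    exact (y a).2
  refine ⟨IsOpenImmersion.lift (f ⁻¹ᵁ V).ι l hr, ?_, ?_⟩
  · rw [← cancel_mono V.ι, Category.assoc, morphismRestrict_ι, ← Category.assoc,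
      IsOpenImmersion.lift_fac, hl1]
  · rw [← cancel_mono (f ⁻¹ᵁ V).ι, Category.assoc, IsOpenImmersion.lift_fac, hl2]

/-- **Properness from DVR-lifting at the generic points**, locally Noetherian base. -/
theorem isProper_of_dvrGeneric [IsLocallyNoetherian S] (f : X ⟶ S) [IsSeparated f]
    [LocallyOfFiniteType f] [QuasiCompact f] (H : DvrGeneric f) : IsProper f := by
  refine IsZariskiLocalAtTarget.of_forall_exists_morphismRestrict (P := @IsProper) fun s => ?_
  obtain ⟨_, ⟨V : S.Opens, hV, rfl⟩, hsV, -⟩ :=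
    S.isBasis_affineOpens.exists_subset_of_mem_open (Set.mem_univ s) isOpen_univ
  refine ⟨V, hsV, ?_⟩
  have : IsAffine V.toScheme := hV
  exact isProper_of_dvrGeneric_of_noetherian (f ∣_ V) (dvrGeneric_restrict f H V)

/-- For a proper morphism, valuation rings of residue fields lift uniquely. -/
lemma existsUnique_lift_of_isProper (f : X ⟶ S) [IsProper f] (η : X)
    (A : ValuationSubring (X.residueField η)) (y : Spec (CommRingCat.of A) ⟶ S)
    (hy : Spec.map (CommRingCat.ofHom A.subtype) ≫ y = X.fromSpecResidueField η ≫ f) :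
    ∃! l : Spec (CommRingCat.of A) ⟶ X,
      l ≫ f = y ∧ Spec.map (CommRingCat.ofHom A.subtype) ≫ l = X.fromSpecResidueField η := by
  obtain ⟨l, hl1, hl2⟩ := exists_lift_of_isProper f A (X.fromSpecResidueField η) y hy.symm
  refine ⟨l, ⟨hl2, hl1⟩, ?_⟩
  rintro l' ⟨h1, h2⟩
  have hdom := isDominant_SpecMap_subtype A
  exact ext_of_isDominant_of_isSeparated f (h1.trans hl2.symm)
    (Spec.map (CommRingCat.ofHom A.subtype)) (h2.trans hl1.symm)

end Groth.Agent.Lib.helper4.DvrDense5
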