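import Mathlib
import Groth.Agent.Lib.Helper4.DvrDense5

/-!
# Properness over a neighbourhood of a point from DVR-lifting over that point

Local versions of the results of `DvrDense`–`DvrDense5`.
-/

set_option backward.isDefEq.respectTransparency false
set_option backward.isDefEq.respectTransparency.types false
set_option autoImplicit false
set_option linter.style.haveILetI false
universe u
open CategoryTheory CategoryTheory.Limits AlgebraicGeometry

namespace Groth.Agent.Lib.helper4.DvrLocal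

open Groth.Agent.Lib.helper4.GenFinite3 Groth.Agent.Lib.helper4.DvrDense
open Groth.Agent.Lib.helper4.DvrDense3 Groth.Agent.Lib.helper4.DvrDense5
open Groth.Agent.Lib.helper19.ProjSpaceProper

/-- **Local core.** Points of the closure of the range of an immersion `j : X' ⟶ P` lying over
`s` are in the range, as soon as discrete valuation rings of residue fields of maximal points of a
dense family, whose closed point goes to `s`, lift. -/
theorem mem_range_of_dvr {X' P S U' : Scheme.{u}} [IsLocallyNoetherian P] (j : X' ⟶ P)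
    [IsImmersion j] (b : P ⟶ S) [IsSeparated b] (p : U' ⟶ X') [LocallyOfFiniteType p]
    [QuasiCompact (p ≫ j)] (hd : DenseRange p) (s : S)
    (H : ∀ (u : U'), IsMaxPt u → ∀ (A : ValuationSubring (U'.residueField u)),
      IsDiscreteValuationRing A → ∀ (m : Spec (CommRingCat.of A) ⟶ P),
      Spec.map (CommRingCat.ofHom A.subtype) ≫ m = U'.fromSpecResidueField u ≫ p ≫ j →
      (m ≫ b) (IsLocalRing.closedPoint A) = s →
      ∃ l : Spec (CommRingCat.of A) ⟶ X', l ≫ j ≫ b = m ≫ b ∧
        Spec.map (CommRingCat.ofHom A.subtype) ≫ l = U'.fromSpecResidueField u ≫ p)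
    (x' : P) (hx : x' ∈ closure (Set.range j)) (hxs : b x' = s) : x' ∈ Set.range j := by
  have h1 : x' ∈ closure (Set.range (p ≫ j)) := by
    have : Set.range j ⊆ closure (Set.range (p ≫ j)) := by
      rw [Scheme.Hom.comp_base, TopCat.coe_comp, Set.range_comp, ← Set.image_univ,
        ← hd.closure_range]
      exact image_closure_subset_closure_image j.continuous
    exact closure_minimal this isClosed_closure hx
  obtain ⟨u₀, hu₀⟩ :=
    Groth.Agent.Lib.Helper4.GlueClosedPoint.exists_specializes_of_mem_closure_range (p ≫ j) x' h1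
  obtain ⟨u, humax, huu₀⟩ := exists_isMaxPt_specializes U' u₀
  have hu : (p ≫ j) u ⤳ x' := (huu₀.map (p ≫ j).continuous).trans hu₀
  by_cases hne : x' = (p ≫ j) u
  · exact ⟨p u, hne.symm⟩
  obtain ⟨A, m, hA, hcl, hgen⟩ := Groth.Agent.S4450.result (p ≫ j) u x' hu hne
  obtain ⟨l, hl1, hl2⟩ := H u humax A hA m hgen (by
    rw [Scheme.Hom.comp_apply]
    exact (congrArg b hcl).trans hxs)
  have hdom := isDominant_SpecMap_subtype A
  have hlm : l ≫ j = m := by
    refine ext_of_isDominant_of_isSeparated b (by rw [Category.assoc]; exact hl1)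
      (Spec.map (CommRingCat.ofHom A.subtype)) ?_
    rw [← Category.assoc, hl2, Category.assoc, hgen]
  refine ⟨l (IsLocalRing.closedPoint A), ?_⟩
  rw [← hcl, ← hlm]
  rfl

/-- If the points of the closure of the range of an immersion `j` over `s` are in the range and
`b` is closed, then `j` is a closed immersion over a neighbourhood of `s`. -/
theorem exists_open_isClosedImmersion_restrict {X' P S : Scheme.{u}} (j : X' ⟶ P)
    [IsImmersion j] (b : P ⟶ S) (hb : IsClosedMap b) (s : S)
    (h : ∀ z ∈ closure (Set.range j), b z = s → z ∈ Set.range j) :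
    ∃ U : S.Opens, s ∈ U ∧ IsClosedImmersion (j ∣_ (b ⁻¹ᵁ U)) := by
  obtain ⟨O, C, hO, hC, hOC⟩ := j.isLocallyClosed_range
  have hsubC : closure (Set.range j) ⊆ C := by
    refine closure_minimal ?_ hC
    rw [hOC]; exact Set.inter_subset_right
  have hbd : IsClosed (closure (Set.range j) ∩ Oᶜ) := isClosed_closure.inter hO.isClosed_compl
  let U : S.Opens := ⟨(b '' (closure (Set.range j) ∩ Oᶜ))ᶜ, (hb _ hbd).isOpen_compl⟩
  have hsU : s ∈ U := by
    rintro ⟨z, ⟨hz1, hz2⟩, hzs⟩
    have := h z hz1 hzs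
    rw [hOC] at this
    exact hz2 this.1
  refine ⟨U, hsU, ?_⟩
  refine IsClosedImmersion.of_isPreimmersion _ ?_
  have hcl : IsClosed ((b ⁻¹ᵁ U).ι ⁻¹' closure (Set.range j)) :=
    isClosed_closure.preimage (b ⁻¹ᵁ U).ι.continuous
  convert hcl using 1
  ext z
  simp only [Set.mem_range, Set.mem_preimage]
  constructor
  · rintro ⟨x, rfl⟩
    apply subset_closure
    exact ⟨x.1, (morphismRestrict_base_coe j (b ⁻¹ᵁ U) x).symm⟩
  · intro hzc
    have hzr : (b ⁻¹ᵁ U).ι z ∈ Set.range j := by
      by_contra hzr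
      have hzO : (b ⁻¹ᵁ U).ι z ∈ Oᶜ := by
        intro hzO
        apply hzr
        rw [hOC]
        exact ⟨hzO, hsubC hzc⟩
      exact z.2 ⟨_, ⟨hzc, hzO⟩, rfl⟩
    obtain ⟨x₀, hx₀⟩ := hzr
    have hx₀W : x₀ ∈ j ⁻¹ᵁ (b ⁻¹ᵁ U) := by
      show j x₀ ∈ b ⁻¹ᵁ U
      rw [hx₀]
      exact z.2
    refine ⟨⟨x₀, hx₀W⟩, ?_⟩
    apply Subtype.ext
    rw [morphismRestrict_base_coe]
    exact hx₀

variable {X S : Scheme.{u}}

/-- DVR-lifting at maximal points, for discrete valuation rings whose closed point goes to `s`. -/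
def DvrGenericAt (f : X ⟶ S) (s : S) : Prop :=
  ∀ (η : X), IsMaxPt η → ∀ (A : ValuationSubring (X.residueField η)),
    IsDiscreteValuationRing A → ∀ y : Spec (CommRingCat.of A) ⟶ S,
    Spec.map (CommRingCat.ofHom A.subtype) ≫ y = X.fromSpecResidueField η ≫ f →
    y (IsLocalRing.closedPoint A) = s →
    ∃ l : Spec (CommRingCat.of A) ⟶ X, l ≫ f = y ∧
      Spec.map (CommRingCat.ofHom A.subtype) ≫ l = X.fromSpecResidueField η

/-- Transport of the hypothesis along an open immersion. -/
lemma dvrGenericAt_openImmersion (f : X ⟶ S) (s : S) (H : DvrGenericAt f s) {W : Scheme.{u}}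
    (t : W ⟶ X) [IsOpenImmersion t] (ξ : W) (hξ : IsMaxPt ξ)
    (A : ValuationSubring (W.residueField ξ))
    (hA : IsDiscreteValuationRing A) (y : Spec (CommRingCat.of A) ⟶ S)
    (hy : Spec.map (CommRingCat.ofHom A.subtype) ≫ y = W.fromSpecResidueField ξ ≫ t ≫ f)
    (hys : y (IsLocalRing.closedPoint A) = s) :
    ∃ l : Spec (CommRingCat.of A) ⟶ X, l ≫ f = y ∧
      Spec.map (CommRingCat.ofHom A.subtype) ≫ l = W.fromSpecResidueField ξ ≫ t := by
  have hη := isMaxPt_of_isOpenImmersion t ξ hξ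
  let ρ : X.residueField (t ξ) ⟶ W.residueField ξ := t.residueFieldMap ξ
  have hρiso : IsIso ρ := inferInstance
  have hρbij : Function.Bijective ρ.hom := (ConcreteCategory.isIso_iff_bijective ρ).mp hρiso
  let A' : ValuationSubring (X.residueField (t ξ)) := A.comap ρ.hom
  let ρ' : ↥A' →+* ↥A := (ρ.hom.comp A'.subtype).codRestrict A.toSubring (fun x => x.2)
  have hρ'bij : Function.Bijective ρ' := by
    constructor
    · intro a b hab
      apply Subtype.ext
      apply hρbij.1
      exact congrArg Subtype.val hab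
    · intro a
      obtain ⟨c, hc⟩ := hρbij.2 a.1
      have hcA' : c ∈ A' := by
        show ρ.hom c ∈ A
        rw [hc]
        exact a.2
      exact ⟨⟨c, hcA'⟩, Subtype.ext hc⟩
  let eA : ↥A' ≃+* ↥A := RingEquiv.ofBijective ρ' hρ'bij
  have hA' : IsDiscreteValuationRing ↥A' := by
    have := hA
    exact IsDiscreteValuationRing.RingEquivClass.isDiscreteValuationRing eA.symm
  let σ : Spec (CommRingCat.of ↥A) ⟶ Spec (CommRingCat.of ↥A') :=
    Spec.map (CommRingCat.ofHom ρ')
  have hσ : IsIso σ := by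
    have : IsIso (CommRingCat.ofHom ρ') := (eA.toCommRingCatIso).isIso_hom
    infer_instance
  have hsq : Spec.map ρ ≫ Spec.map (CommRingCat.ofHom A'.subtype) =
      Spec.map (CommRingCat.ofHom A.subtype) ≫ σ := by
    rw [← Spec.map_comp, ← Spec.map_comp]
    congr 1
  have htri : W.fromSpecResidueField ξ ≫ t = Spec.map ρ ≫ X.fromSpecResidueField (t ξ) :=
    (Scheme.Hom.SpecMap_residueFieldMap_fromSpecResidueField t ξ).symm
  have hρepi : Epi (Spec.map ρ) := inferInstance
  have hσcl : σ (IsLocalRing.closedPoint A) = IsLocalRing.closedPoint A' := by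
    haveI : IsLocalHom ρ' := by
      constructor
      intro a ha
      have h1 : IsUnit (eA a) := ha
      exact (isUnit_map_iff eA a).mp h1
    exact IsLocalRing.comap_closedPoint ρ'
  have hinvcl : (inv σ) (IsLocalRing.closedPoint A') = IsLocalRing.closedPoint A := by
    rw [← hσcl, ← Scheme.Hom.comp_apply, IsIso.hom_inv_id]
    rfl
  obtain ⟨l', hl'1, hl'2⟩ := H (t ξ) hη A' hA' (inv σ ≫ y) (by
    rw [← cancel_epi (Spec.map ρ), ← Category.assoc, hsq, Category.assoc,
      IsIso.hom_inv_id_assoc, hy, ← Category.assoc, htri, Category.assoc]) (by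
    rw [Scheme.Hom.comp_apply, hinvcl, hys])
  refine ⟨σ ≫ l', ?_, ?_⟩
  · rw [Category.assoc, hl'1, IsIso.hom_inv_id_assoc]
  · rw [← Category.assoc, ← hsq, Category.assoc, hl'2, htri]

/-- **Noetherian base.** -/
theorem exists_isProper_restrict_of_noetherian [CompactSpace S] [QuasiSeparatedSpace S]
    [IsLocallyNoetherian S] (f : X ⟶ S) [IsSeparated f] [LocallyOfFiniteType f] [QuasiCompact f]
    (s : S) (H : DvrGenericAt f s) : ∃ U : S.Opens, s ∈ U ∧ IsProper (f ∣_ U) := by
  have : IsLocallyNoetherian X := LocallyOfFiniteType.isLocallyNoetherian f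
  have : CompactSpace X := QuasiCompact.compactSpace_of_compactSpace f
  have : IsNoetherian X := {}
  have hfin : (irreducibleComponents X).Finite :=
    TopologicalSpace.NoetherianSpace.finite_irreducibleComponents
  obtain ⟨n, X'', π, j, hj, hjf, hπ, hsurj, V, hVaff, hVd, hViso, hpreV⟩ :=
    DvrDense2.chow_finite_components_dense f hfin
  let b := CohB1.ProjSpaceOver.toBase n S
  have : IsLocallyNoetherian (CohB1.ProjSpaceOver n S) :=
    LocallyOfFiniteType.isLocallyNoetherian b
  have : QuasiSeparatedSpace (CohB1.ProjSpaceOver n S) := quasiSeparatedSpace_of_quasiSeparated b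
  let p : (π ⁻¹ᵁ V).toScheme ⟶ X'' := (π ⁻¹ᵁ V).ι
  have hcpt : CompactSpace (π ⁻¹ᵁ V).toScheme :=
    isCompact_iff_compactSpace.mp (π.isCompact_preimage hVaff.isCompact)
  have : QuasiCompact (p ≫ j) := inferInstance
  have hpd : DenseRange p := by
    rw [DenseRange, Scheme.Opens.range_ι]
    exact hpreV
  have hpπ : p ≫ π = (π ∣_ V) ≫ V.ι := (morphismRestrict_ι π V).symm
  have ht : IsOpenImmersion (p ≫ π) := by rw [hpπ]; infer_instance
  have hmem : ∀ z ∈ closure (Set.range j), b z = s → z ∈ Set.range j := by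
    intro z hz hzs
    refine mem_range_of_dvr j b p hpd s ?_ z hz hzs
    intro ξ hξ A hA m hm hms
    obtain ⟨l₀, hl₀1, hl₀2⟩ := dvrGenericAt_openImmersion f s H (p ≫ π) ξ hξ A hA (m ≫ b) (by
      rw [← Category.assoc, hm, Category.assoc, Category.assoc, Category.assoc]
      show _ ≫ p ≫ j ≫ CohB1.ProjSpaceOver.toBase n S = _
      rw [hjf]) hms
    obtain ⟨l, hl1, hl2⟩ := exists_lift_of_isProper π A
      ((π ⁻¹ᵁ V).toScheme.fromSpecResidueField ξ ≫ p) l₀ (by
        rw [hl₀2, Category.assoc])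
    refine ⟨l, ?_, hl1⟩
    show l ≫ j ≫ b = m ≫ b
    rw [hjf, ← Category.assoc, hl2, hl₀1]
  have hbproper : IsProper b := inferInstance
  obtain ⟨U, hsU, hclU⟩ := exists_open_isClosedImmersion_restrict j b b.isClosedMap s hmem
  refine ⟨U, hsU, ?_⟩
  have h1 : IsProper ((j ≫ b) ∣_ U) := by
    rw [morphismRestrict_comp]
    infer_instance
  have h2 : IsProper ((π ≫ f) ∣_ U) := hjf ▸ h1
  rw [morphismRestrict_comp] at h2
  have hsurj' : Surjective (π ∣_ (f ⁻¹ᵁ U)) := IsZariskiLocalAtTarget.restrict hsurj _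
  have h3 : UniversallyClosed (f ∣_ U) := UniversallyClosed.of_comp_surjective (π ∣_ _) (f ∣_ U)
  exact { }

/-- The hypothesis restricts to opens of the base. -/
lemma dvrGenericAt_restrict (f : X ⟶ S) (s : S) (H : DvrGenericAt f s) (V : S.Opens)
    (hs : s ∈ V) : DvrGenericAt (f ∣_ V) ⟨s, hs⟩ := by
  intro η hη A hA y hy hys
  obtain ⟨l, hl1, hl2⟩ := dvrGenericAt_openImmersion f s H (f ⁻¹ᵁ V).ι η hη A hA (y ≫ V.ι) (by
    rw [← Category.assoc, hy, Category.assoc, morphismRestrict_ι]) (by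
    rw [Scheme.Hom.comp_apply, hys]
    rfl)
  have hr : Set.range l ⊆ Set.range (f ⁻¹ᵁ V).ι := by
    rintro _ ⟨a, rfl⟩
    rw [Scheme.Opens.range_ι]
    show f (l a) ∈ V
    rw [← Scheme.Hom.comp_apply, hl1, Scheme.Hom.comp_apply]
    exact (y a).2
  refine ⟨IsOpenImmersion.lift (f ⁻¹ᵁ V).ι l hr, ?_, ?_⟩
  · rw [← cancel_mono V.ι, Category.assoc, morphismRestrict_ι, ← Category.assoc,
      IsOpenImmersion.lift_fac, hl1]
  · rw [← cancel_mono (f ⁻¹ᵁ V).ι, Category.assoc, IsOpenImmersion.lift_fac, hl2]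

/-- **Properness over a neighbourhood of `s` from DVR-lifting over `s`**, locally Noetherian
base. -/
theorem exists_isProper_restrict [IsLocallyNoetherian S] (f : X ⟶ S) [IsSeparated f]
    [LocallyOfFiniteType f] [QuasiCompact f] (s : S) (H : DvrGenericAt f s) :
    ∃ U : S.Opens, s ∈ U ∧ IsProper (f ∣_ U) := by
  obtain ⟨_, ⟨V : S.Opens, hV, rfl⟩, hsV, -⟩ :=
    S.isBasis_affineOpens.exists_subset_of_mem_open (Set.mem_univ s) isOpen_univ
  have : IsAffine V.toScheme := hV
  obtain ⟨U', hsU', hU'⟩ := exists_isProper_restrict_of_noetherian (f ∣_ V) ⟨s, hsV⟩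
    (dvrGenericAt_restrict f s H V hsV)
  refine ⟨V.ι ''ᵁ U', ⟨⟨s, hsV⟩, hsU', rfl⟩, ?_⟩
  exact (MorphismProperty.arrow_mk_iso_iff @IsProper (morphismRestrictRestrict f V U')).mp hU'

end Groth.Agent.Lib.helper4.DvrLocal
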