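import Mathlib
import Groth.Agent.Lib.Helper4.DvrDense5

/-!
# Properness via valuation rings of the function field

Translation between valuation subrings of the function field of an integral scheme dominating
local rings, and morphisms from spectra of valuation subrings of the residue field of the generic
point.
-/

set_option backward.isDefEq.respectTransparency false
set_option backward.isDefEq.respectTransparency.types false
set_option autoImplicit false
set_option linter.style.haveILetI false
universe u
open CategoryTheory CategoryTheory.Limits AlgebraicGeometry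

namespace Groth.Agent.Lib.helper4.FunFieldProper

open Groth.Agent.Lib.helper4.GenFinite3 Groth.Agent.Lib.helper4.DvrDense
open Groth.Agent.Lib.helper4.DvrDense5

/-- `v x < 1` iff `x = 0` or `x⁻¹ ∉ B`. -/
lemma valuation_lt_one_iff' {F : Type*} [Field F] (B : ValuationSubring F) (x : F) :
    B.valuation x < 1 ↔ (x = 0 ∨ x⁻¹ ∉ B) := by
  by_cases hx : x = 0
  · simp [hx]
  · simp only [hx, false_or]
    rw [← B.valuation_le_one_iff, map_inv₀, not_le]
    have hv : B.valuation x ≠ 0 := (Valuation.ne_zero_iff _).mpr hx
    rw [one_lt_inv₀ (zero_lt_iff.mpr hv)]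

/-- Valuations and `comap`. -/
lemma valuation_comap_lt_one_iff {K L : Type*} [Field K] [Field L] (A : ValuationSubring L)
    (ρ : K →+* L) (x : K) : (A.comap ρ).valuation x < 1 ↔ A.valuation (ρ x) < 1 := by
  rw [valuation_lt_one_iff', valuation_lt_one_iff', ValuationSubring.mem_comap, map_inv₀,
    map_eq_zero]


variable {X Y : Scheme.{u}}

/-- **Translation, downstairs.** A morphism from the spectrum of a valuation subring `A` of the
residue field of the generic point, compatible with `f`, makes the pulled back valuation subring
of the function field dominate the local ring at the image of the closed point. -/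
theorem exists_dominated_of_hom [IsIntegral X] (f : X ⟶ Y)
    (A : ValuationSubring (X.residueField (genericPoint X)))
    (y : Spec (CommRingCat.of A) ⟶ Y)
    (hy : Spec.map (CommRingCat.ofHom A.subtype) ≫ y =
      X.fromSpecResidueField (genericPoint X) ≫ f) :
    ∃ (y₀ : Y) (hy₀ : f.base (genericPoint X) ⤳ y₀),
      (∀ a : Y.presheaf.stalk y₀,
        (Y.presheaf.stalkSpecializes hy₀ ≫ f.stalkMap (genericPoint X)).hom a ∈
          A.comap (X.residue (genericPoint X)).hom) ∧
      ∀ a ∈ IsLocalRing.maximalIdeal (Y.presheaf.stalk y₀),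
        (A.comap (X.residue (genericPoint X)).hom).valuation
          ((Y.presheaf.stalkSpecializes hy₀ ≫ f.stalkMap (genericPoint X)).hom a) < 1 := by
  let y₀ : Y := y (IsLocalRing.closedPoint A)
  let ψ : Y.presheaf.stalk y₀ ⟶ CommRingCat.of A := Scheme.stalkClosedPointTo y
  have hψ : Spec.map ψ ≫ Y.fromSpecStalk y₀ = y := Scheme.Spec_stalkClosedPointTo_fromSpecStalk y
  have hy₀ : f.base (genericPoint X) ⤳ y₀ := by
    let pt : Spec (X.residueField (genericPoint X)) :=
      IsLocalRing.closedPoint (X.residueField (genericPoint X))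
    have h1 : (Spec.map (CommRingCat.ofHom A.subtype) ≫ y) pt = f (genericPoint X) := by
      rw [hy, Scheme.Hom.comp_apply]
      exact congrArg _ (Scheme.fromSpecResidueField_apply _ pt)
    have h2 : Spec.map (CommRingCat.ofHom A.subtype) pt ⤳ IsLocalRing.closedPoint A :=
      IsLocalRing.specializes_closedPoint _
    have h3 := h2.map y.continuous
    rw [Scheme.Hom.comp_apply] at h1
    rw [h1] at h3
    exact h3
  have key : ψ ≫ CommRingCat.ofHom A.subtype =
      Y.presheaf.stalkSpecializes hy₀ ≫ f.stalkMap (genericPoint X) ≫
        X.residue (genericPoint X) := by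
    apply Spec.map_injective
    rw [← cancel_mono (Y.fromSpecStalk y₀)]
    rw [Spec.map_comp, Category.assoc, hψ, hy, Spec.map_comp, Spec.map_comp, Category.assoc,
      Category.assoc, Scheme.SpecMap_stalkSpecializes_fromSpecStalk,
      Scheme.SpecMap_stalkMap_fromSpecStalk, ← Category.assoc]
    rfl
  have key' : ∀ a : Y.presheaf.stalk y₀,
      (X.residue (genericPoint X)).hom
        ((Y.presheaf.stalkSpecializes hy₀ ≫ f.stalkMap (genericPoint X)).hom a) =
        ((ψ.hom a : A) : X.residueField (genericPoint X)) := by
    intro a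
    have := congrArg (fun φ => φ.hom a) key
    exact this.symm
  refine ⟨y₀, hy₀, ?_, ?_⟩
  · intro a
    rw [ValuationSubring.mem_comap, key' a]
    exact Subtype.property _
  · intro a ha
    rw [valuation_comap_lt_one_iff, key' a, ← ValuationSubring.valuation_lt_one_iff]
    have hloc : IsLocalHom ψ.hom := Scheme.isLocalHom_stalkClosedPointTo' y
    rw [IsLocalRing.mem_maximalIdeal, mem_nonunits_iff] at ha ⊢
    exact fun hu => ha (hloc.map_nonunit a hu)

/-- **Translation, upstairs.** If the pulled back valuation subring of the function field contains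
the local ring at a point `x`, then the given morphism lifts. -/
theorem exists_lift_of_stalk_le [IsIntegral X] [Y.IsSeparated] (f : X ⟶ Y)
    (A : ValuationSubring (X.residueField (genericPoint X)))
    (y : Spec (CommRingCat.of A) ⟶ Y)
    (hy : Spec.map (CommRingCat.ofHom A.subtype) ≫ y =
      X.fromSpecResidueField (genericPoint X) ≫ f) (x : X)
    (hx : ∀ a : X.presheaf.stalk x, algebraMap (X.presheaf.stalk x) X.functionField a ∈
      A.comap (X.residue (genericPoint X)).hom) :
    ∃ l : Spec (CommRingCat.of A) ⟶ X, l ≫ f = y ∧
      Spec.map (CommRingCat.ofHom A.subtype) ≫ l = X.fromSpecResidueField (genericPoint X) := by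
  have hsp : genericPoint X ⤳ x := (genericPoint_spec X).specializes trivial
  let θ : X.presheaf.stalk x ⟶ CommRingCat.of A := CommRingCat.ofHom
    (((X.residue (genericPoint X)).hom.comp
      (algebraMap (X.presheaf.stalk x) X.functionField)).codRestrict A.toSubring
        (fun a => hx a))
  have hθ : θ ≫ CommRingCat.ofHom A.subtype =
      X.presheaf.stalkSpecializes hsp ≫ X.residue (genericPoint X) := by
    ext a
    rfl
  let l : Spec (CommRingCat.of A) ⟶ X := Spec.map θ ≫ X.fromSpecStalk x
  have hl : Spec.map (CommRingCat.ofHom A.subtype) ≫ l =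
      X.fromSpecResidueField (genericPoint X) := by
    show Spec.map (CommRingCat.ofHom A.subtype) ≫ Spec.map θ ≫ X.fromSpecStalk x = _
    rw [← Category.assoc, ← Spec.map_comp, hθ, Spec.map_comp, Category.assoc,
      Scheme.SpecMap_stalkSpecializes_fromSpecStalk]
    rfl
  refine ⟨l, ?_, hl⟩
  haveI := isDominant_SpecMap_subtype A
  refine ext_of_isDominant (Spec.map (CommRingCat.ofHom A.subtype)) ?_
  rw [← Category.assoc, hl, hy]

/-- The pullback of a valuation subring along a surjective field homomorphism is isomorphic to
it. -/
noncomputable def comapEquiv {K L : Type*} [Field K] [Field L] (A : ValuationSubring L)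
    (ρ : K →+* L) (hρ : Function.Surjective ρ) : ↥(A.comap ρ) ≃+* ↥A :=
  RingEquiv.ofBijective (ρ.restrict (A.comap ρ).toSubring A.toSubring (fun _ hx => hx))
    ⟨fun a b hab => Subtype.ext (ρ.injective (congrArg Subtype.val hab)), fun a => by
      obtain ⟨x, hx⟩ := hρ a.1
      exact ⟨⟨x, by rw [ValuationSubring.mem_comap, hx]; exact a.2⟩, Subtype.ext hx⟩⟩

lemma isDiscreteValuationRing_comap {K L : Type*} [Field K] [Field L] (A : ValuationSubring L)
    (ρ : K →+* L) (hρ : Function.Surjective ρ) (hA : IsDiscreteValuationRing A) :
    IsDiscreteValuationRing ↥(A.comap ρ) :=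
  IsDiscreteValuationRing.RingEquivClass.isDiscreteValuationRing (comapEquiv A ρ hρ).symm

lemma comap_ne_top {K L : Type*} [Field K] [Field L] (A : ValuationSubring L)
    (ρ : K →+* L) (hρ : Function.Surjective ρ) (hA : A ≠ ⊤) : A.comap ρ ≠ ⊤ := by
  intro h
  apply hA
  rw [eq_top_iff]
  intro a _
  obtain ⟨x, rfl⟩ := hρ a
  have : x ∈ A.comap ρ := by rw [h]; trivial
  exact this

/-- The hypothesis of the criterion for discrete valuation rings of the function field gives
DVR-lifting at the generic point. -/
theorem dvrGeneric_of_functionField [IsIntegral X] [Y.IsSeparated] (f : X ⟶ Y)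
    (h : ∀ (R : ValuationSubring X.functionField), IsDiscreteValuationRing R →
      ∀ (y : Y) (hy : f.base (genericPoint X) ⤳ y),
        ((∀ a : (Y.presheaf.stalk y),
          (Y.presheaf.stalkSpecializes hy ≫ f.stalkMap (genericPoint X)).hom a ∈ R) ∧
          ∀ a ∈ IsLocalRing.maximalIdeal (Y.presheaf.stalk y), R.valuation
            ((Y.presheaf.stalkSpecializes hy ≫ f.stalkMap (genericPoint X)).hom a) < 1) →
        ∃ x : X, ((∀ a : (X.presheaf.stalk x),
          algebraMap (X.presheaf.stalk x) X.functionField a ∈ R) ∧
          ∀ a ∈ IsLocalRing.maximalIdeal (X.presheaf.stalk x),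
            R.valuation (algebraMap (X.presheaf.stalk x) X.functionField a) < 1)) :
    DvrGeneric f := by
  intro η hη A hA y hy
  obtain rfl : genericPoint X = η := hη _ ((genericPoint_spec X).specializes trivial)
  obtain ⟨y₀, hy₀, h1, h2⟩ := exists_dominated_of_hom f A y hy
  obtain ⟨x, hx, -⟩ := h _ (isDiscreteValuationRing_comap A _
    (X.residue_surjective (genericPoint X)) hA) y₀ hy₀ ⟨h1, h2⟩
  exact exists_lift_of_stalk_le f A y hy x hx

/-- **Properness via discrete valuation rings of the function field** (locally Noetherian
target). -/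
theorem isProper_of_dvrs_of_functionField [IsIntegral X] [X.IsSeparated] [Y.IsSeparated]
    [IsLocallyNoetherian Y] (f : X ⟶ Y) [LocallyOfFiniteType f] [QuasiCompact f]
    (h : ∀ (R : ValuationSubring X.functionField), IsDiscreteValuationRing R →
      ∀ (y : Y) (hy : f.base (genericPoint X) ⤳ y),
        ((∀ a : (Y.presheaf.stalk y),
          (Y.presheaf.stalkSpecializes hy ≫ f.stalkMap (genericPoint X)).hom a ∈ R) ∧
          ∀ a ∈ IsLocalRing.maximalIdeal (Y.presheaf.stalk y), R.valuation
            ((Y.presheaf.stalkSpecializes hy ≫ f.stalkMap (genericPoint X)).hom a) < 1) →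
        ∃ x : X, ((∀ a : (X.presheaf.stalk x),
          algebraMap (X.presheaf.stalk x) X.functionField a ∈ R) ∧
          ∀ a ∈ IsLocalRing.maximalIdeal (X.presheaf.stalk x),
            R.valuation (algebraMap (X.presheaf.stalk x) X.functionField a) < 1)) :
    IsProper f :=
  isProper_of_dvrGeneric f (dvrGeneric_of_functionField f h)

end Groth.Agent.Lib.helper4.FunFieldProper
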