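import Mathlib
import Groth.Agent.Lib.Helper4.ValFactor

/-!
# Gluing morphisms along a composite of valuation rings

If `R ≤ R'` are valuation rings of `K` and `Rt` is the image of `R` in the residue field of
`R'`, then `Spec R` is the pushout of `Spec R'` and `Spec Rt` along the spectrum of the residue
field of `R'`, as far as morphisms to schemes are concerned.
-/

set_option backward.isDefEq.respectTransparency false
set_option backward.isDefEq.respectTransparency.types false
set_option autoImplicit false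
universe u
open CategoryTheory AlgebraicGeometry

namespace Groth.Agent.Lib.helper4.ValGlue

open Groth.Agent.Lib.helper4.ValFactor

/-- Two morphisms from the spectrum of a local ring which agree at the closed point and after
restriction along an injective ring map are equal. -/
theorem hom_ext_of_closedPoint {Z : Scheme.{u}} {R R' : CommRingCat.{u}} [IsLocalRing R]
    (a b : Spec R ⟶ Z)
    (hcl : a (IsLocalRing.closedPoint R) = b (IsLocalRing.closedPoint R))
    (ι : R ⟶ R') (hinj : Function.Injective ι.hom)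
    (h : Spec.map ι ≫ a = Spec.map ι ≫ b) : a = b := by
  obtain ⟨W, hW, hxW⟩ : ∃ W : Z.Opens, IsAffineOpen W ∧
      a (IsLocalRing.closedPoint R) ∈ W := by
    obtain ⟨_, ⟨W, hW, rfl⟩, hxW, -⟩ := Z.isBasis_affineOpens.exists_subset_of_mem_open
      (Set.mem_univ (a (IsLocalRing.closedPoint R))) isOpen_univ
    exact ⟨W, hW, hxW⟩
  obtain ⟨α, hα⟩ := exists_factor_fromSpec a hW hxW
  obtain ⟨β, hβ⟩ := exists_factor_fromSpec b hW (hcl ▸ hxW)
  have h1 : α ≫ ι = β ≫ ι := by
    apply factor_fromSpec_unique hW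
    rw [Spec.map_comp, Category.assoc, hα, Spec.map_comp, Category.assoc, hβ, h]
  have h2 : α = β := by
    refine CommRingCat.hom_ext (RingHom.ext fun d => ?_)
    apply hinj
    exact congrArg (fun θ => θ.hom d) h1
  rw [← hα, ← hβ, h2]

/-- The maximal ideal of a larger valuation ring is contained in the smaller one. -/
theorem mem_of_mem_maximalIdeal {K : Type u} [Field K] (R R' : ValuationSubring K)
    (hRR' : R ≤ R') (x : ↥R') (hx : x ∈ IsLocalRing.maximalIdeal ↥R') : (x : K) ∈ R := by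
  by_cases h0 : (x : K) = 0
  · rw [h0]; exact R.zero_mem
  · rcases R.mem_or_inv_mem (x : K) with h | h
    · exact h
    · exfalso
      have h1 : (x : K)⁻¹ ∈ R' := hRR' h
      have h2 : IsUnit x := by
        refine IsUnit.of_mul_eq_one (⟨(x : K)⁻¹, h1⟩ : ↥R') ?_
        apply Subtype.ext
        show (x : K) * (x : K)⁻¹ = 1
        exact mul_inv_cancel₀ h0
      exact (IsLocalRing.mem_maximalIdeal x).mp hx h2


/-- **Gluing along a composite valuation ring.** -/
theorem existsUnique_glue {Y : Scheme.{u}} (K : Type u) [Field K] (R R' : ValuationSubring K)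
    (hRR' : R ≤ R') (ι : ↥R →+* ↥R') (hι : ∀ x : ↥R, ((ι x : ↥R') : K) = (x : K))
    (Rt : ValuationSubring (IsLocalRing.ResidueField ↥R')) (σ : ↥R →+* ↥Rt)
    (hσs : Function.Surjective σ)
    (hσ : ∀ x : ↥R, ((σ x : ↥Rt) : IsLocalRing.ResidueField ↥R') =
      IsLocalRing.residue ↥R' (ι x))
    (g : Spec (CommRingCat.of ↥R') ⟶ Y) (ht : Spec (CommRingCat.of ↥Rt) ⟶ Y)
    (hht₁ : Spec.map (CommRingCat.ofHom Rt.subtype) ≫ ht =
      Spec.map (CommRingCat.ofHom (IsLocalRing.residue ↥R')) ≫ g) :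
    ∃! h : Spec (CommRingCat.of ↥R) ⟶ Y,
      Spec.map (CommRingCat.ofHom ι) ≫ h = g ∧ Spec.map (CommRingCat.ofHom σ) ≫ h = ht := by
  have hσloc : IsLocalHom σ := IsLocalHom.of_surjective σ hσs
  have hιinj : Function.Injective ι := by
    intro x x' h
    apply Subtype.ext
    rw [← hι, ← hι, h]
  have hclσ : Spec.map (CommRingCat.ofHom σ) (IsLocalRing.closedPoint ↥Rt) =
      IsLocalRing.closedPoint ↥R := IsLocalRing.comap_closedPoint σ
  obtain ⟨W, hW, hxW⟩ : ∃ W : Y.Opens, IsAffineOpen W ∧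
      ht (IsLocalRing.closedPoint ↥Rt) ∈ W := by
    obtain ⟨_, ⟨W, hW, rfl⟩, hxW, -⟩ := Y.isBasis_affineOpens.exists_subset_of_mem_open
      (Set.mem_univ (ht (IsLocalRing.closedPoint ↥Rt))) isOpen_univ
    exact ⟨W, hW, hxW⟩
  obtain ⟨γ, hγ⟩ := exists_factor_fromSpec (R := CommRingCat.of ↥Rt) ht hW hxW
  have hfromW : ∀ z, (hW.fromSpec) z ∈ W := fun z => by
    have : (hW.fromSpec) z ∈ Set.range hW.fromSpec := ⟨z, rfl⟩
    rw [hW.range_fromSpec] at this
    exact this
  have hgW : g (IsLocalRing.closedPoint ↥R') ∈ W := by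
    have h1 : Spec.map (CommRingCat.ofHom (IsLocalRing.residue ↥R'))
        (IsLocalRing.closedPoint (IsLocalRing.ResidueField ↥R')) =
        IsLocalRing.closedPoint ↥R' :=
      IsLocalRing.comap_closedPoint (IsLocalRing.residue ↥R')
    rw [← h1, ← Scheme.Hom.comp_apply, ← hht₁, ← hγ]
    simp only [Scheme.Hom.comp_apply]
    exact hfromW _
  obtain ⟨δ, hδ⟩ := exists_factor_fromSpec (R := CommRingCat.of ↥R') g hW hgW
  have hγδ : γ ≫ CommRingCat.ofHom Rt.subtype =
      δ ≫ CommRingCat.ofHom (IsLocalRing.residue ↥R') := by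
    apply factor_fromSpec_unique hW
    rw [Spec.map_comp, Category.assoc, hγ, Spec.map_comp, Category.assoc, hδ, hht₁]
  have hγδ' : ∀ d, ((γ.hom d : ↥Rt) : IsLocalRing.ResidueField ↥R') =
      IsLocalRing.residue ↥R' (δ.hom d) := fun d => congrArg (fun θ => θ.hom d) hγδ
  have hmem : ∀ d, ((δ.hom d : ↥R') : K) ∈ R := by
    intro d
    obtain ⟨r, hr⟩ := hσs (γ.hom d)
    have h1 : IsLocalRing.residue ↥R' (δ.hom d - ι r) = 0 := by
      rw [map_sub, ← hγδ', ← hσ, hr, sub_self]
    have h2 : δ.hom d - ι r ∈ IsLocalRing.maximalIdeal ↥R' :=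
      (IsLocalRing.residue_eq_zero_iff _).mp h1
    have h3 := mem_of_mem_maximalIdeal R R' hRR' _ h2
    have h4 : ((δ.hom d : ↥R') : K) = ((δ.hom d - ι r : ↥R') : K) + (r : K) := by
      rw [← hι r]
      push_cast
      ring
    rw [h4]
    exact R.add_mem _ _ h3 r.2
  let ε : Γ(Y, W) →+* ↥R := (R'.subtype.comp δ.hom).codRestrict R hmem
  have hει : CommRingCat.ofHom ε ≫ CommRingCat.ofHom ι = δ := by
    refine CommRingCat.hom_ext (RingHom.ext fun d => ?_)
    apply Subtype.ext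
    show ((ι (ε d) : ↥R') : K) = _
    rw [hι]
    rfl
  have hεσ : CommRingCat.ofHom ε ≫ CommRingCat.ofHom σ = γ := by
    refine CommRingCat.hom_ext (RingHom.ext fun d => ?_)
    apply Subtype.ext
    show ((σ (ε d) : ↥Rt) : IsLocalRing.ResidueField ↥R') = _
    rw [hσ, hγδ']
    congr 1
    exact congrArg (fun θ => θ.hom d) hει
  refine ⟨Spec.map (CommRingCat.ofHom ε) ≫ hW.fromSpec, ⟨?_, ?_⟩, ?_⟩
  · rw [← Category.assoc, ← Spec.map_comp, hει, hδ]
  · rw [← Category.assoc, ← Spec.map_comp, hεσ, hγ]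
  · rintro h' ⟨h1, h2⟩
    have hcl : h' (IsLocalRing.closedPoint ↥R) ∈ W := by
      rw [← hclσ, ← Scheme.Hom.comp_apply, h2]
      exact hxW
    obtain ⟨ε', hε'⟩ := exists_factor_fromSpec (R := CommRingCat.of ↥R) h' hW hcl
    have h3 : ε' ≫ CommRingCat.ofHom ι = δ := by
      apply factor_fromSpec_unique hW
      rw [Spec.map_comp, Category.assoc, hε', h1, hδ]
    have h4 : ε' = CommRingCat.ofHom ε := by
      refine CommRingCat.hom_ext (RingHom.ext fun d => ?_)
      apply hιinj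
      have e1 := congrArg (fun θ => θ.hom d) h3
      have e2 := congrArg (fun θ => θ.hom d) hει
      simp only [CommRingCat.hom_comp, RingHom.coe_comp, Function.comp_apply] at e1 e2
      exact e1.trans e2.symm
    rw [← hε', h4]


/-- Lifts along a composite valuation ring are determined by (and can be glued from) the lifts
on the two pieces. -/
theorem existsUnique_lift {X Y : Scheme.{u}} (f : Y ⟶ X)
    (K : Type u) [Field K] (R R' : ValuationSubring K) (hRR' : R ≤ R')
    (ι : ↥R →+* ↥R') (hι : ∀ x : ↥R, ((ι x : ↥R') : K) = (x : K))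
    (i : Spec (CommRingCat.of K) ⟶ Y) (φ : Spec (CommRingCat.of ↥R) ⟶ X)
    (g : Spec (CommRingCat.of ↥R') ⟶ Y)
    (hg₁ : Spec.map (CommRingCat.ofHom R'.subtype) ≫ g = i)
    (hg₂ : g ≫ f = Spec.map (CommRingCat.ofHom ι) ≫ φ)
    (Rt : ValuationSubring (IsLocalRing.ResidueField ↥R')) (σ : ↥R →+* ↥Rt)
    (hσs : Function.Surjective σ)
    (hσ : ∀ x : ↥R, ((σ x : ↥Rt) : IsLocalRing.ResidueField ↥R') =
      IsLocalRing.residue ↥R' (ι x))
    (ht : Spec (CommRingCat.of ↥Rt) ⟶ Y)
    (hht₁ : Spec.map (CommRingCat.ofHom Rt.subtype) ≫ ht =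
      Spec.map (CommRingCat.ofHom (IsLocalRing.residue ↥R')) ≫ g)
    (hht₂ : ht ≫ f = Spec.map (CommRingCat.ofHom σ) ≫ φ) :
    ∃! h : Spec (CommRingCat.of ↥R) ⟶ Y,
      Spec.map (CommRingCat.ofHom R.subtype) ≫ h = i ∧ h ≫ f = φ ∧
      Spec.map (CommRingCat.ofHom ι) ≫ h = g ∧ Spec.map (CommRingCat.ofHom σ) ≫ h = ht := by
  obtain ⟨h, ⟨h1, h2⟩, huniq⟩ :=
    existsUnique_glue K R R' hRR' ι hι Rt σ hσs hσ g ht hht₁
  have hσloc : IsLocalHom σ := IsLocalHom.of_surjective σ hσs
  have hιinj : Function.Injective ι := by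
    intro x x' h
    apply Subtype.ext
    rw [← hι, ← hι, h]
  have hclσ : Spec.map (CommRingCat.ofHom σ) (IsLocalRing.closedPoint ↥Rt) =
      IsLocalRing.closedPoint ↥R := IsLocalRing.comap_closedPoint σ
  have hsub : CommRingCat.ofHom R.subtype =
      CommRingCat.ofHom ι ≫ CommRingCat.ofHom R'.subtype := by
    refine CommRingCat.hom_ext (RingHom.ext fun d => ?_)
    exact (hι d).symm
  refine ⟨h, ⟨?_, ?_, h1, h2⟩, ?_⟩
  · rw [hsub, Spec.map_comp, Category.assoc, h1, hg₁]
  · refine hom_ext_of_closedPoint (R := CommRingCat.of ↥R) (h ≫ f) φ ?_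
      (CommRingCat.ofHom ι) hιinj ?_
    · rw [← hclσ, ← Scheme.Hom.comp_apply, ← Scheme.Hom.comp_apply, ← Category.assoc, h2, hht₂]
    · rw [← Category.assoc, h1, hg₂]
  · rintro h' ⟨-, -, h3, h4⟩
    exact huniq h' ⟨h3, h4⟩

end Groth.Agent.Lib.helper4.ValGlue
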