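import Mathlib
import Groth.Agent.Lib.Helper4.DvrLocal
import Groth.Agent.Lib.Helper4.FunFieldProper
import Groth.Agent.Lib.Helper4.ValGlue

/-!
# Properness near a point via discrete valuation rings of the function field
-/

set_option backward.isDefEq.respectTransparency false
set_option backward.isDefEq.respectTransparency.types false
set_option autoImplicit false
set_option linter.style.haveILetI false
universe u
open CategoryTheory CategoryTheory.Limits AlgebraicGeometry

namespace Groth.Agent.Lib.helper4.FunFieldProperLocal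

open Groth.Agent.Lib.helper4.GenFinite3 Groth.Agent.Lib.helper4.DvrDense
open Groth.Agent.Lib.helper4.DvrDense5 Groth.Agent.Lib.helper4.DvrLocal
open Groth.Agent.Lib.helper4.FunFieldProper

variable {X Y : Scheme.{u}}

/-- **Translation, downstairs**, with the point made explicit. -/
theorem dominated_of_hom [IsIntegral X] (f : X ⟶ Y)
    (A : ValuationSubring (X.residueField (genericPoint X)))
    (y : Spec (CommRingCat.of A) ⟶ Y)
    (hy : Spec.map (CommRingCat.ofHom A.subtype) ≫ y =
      X.fromSpecResidueField (genericPoint X) ≫ f)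
    (hy₀ : f.base (genericPoint X) ⤳ y (IsLocalRing.closedPoint A)) :
      (∀ a : Y.presheaf.stalk (y (IsLocalRing.closedPoint A)),
        (Y.presheaf.stalkSpecializes hy₀ ≫ f.stalkMap (genericPoint X)).hom a ∈
          A.comap (X.residue (genericPoint X)).hom) ∧
      ∀ a ∈ IsLocalRing.maximalIdeal (Y.presheaf.stalk (y (IsLocalRing.closedPoint A))),
        (A.comap (X.residue (genericPoint X)).hom).valuation
          ((Y.presheaf.stalkSpecializes hy₀ ≫ f.stalkMap (genericPoint X)).hom a) < 1 := by
  let y₀ : Y := y (IsLocalRing.closedPoint A)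
  let ψ : Y.presheaf.stalk y₀ ⟶ CommRingCat.of A := Scheme.stalkClosedPointTo y
  have hψ : Spec.map ψ ≫ Y.fromSpecStalk y₀ = y := Scheme.Spec_stalkClosedPointTo_fromSpecStalk y
  have key : ψ ≫ CommRingCat.ofHom A.subtype =
      Y.presheaf.stalkSpecializes hy₀ ≫ f.stalkMap (genericPoint X) ≫
        X.residue (genericPoint X) := by
    apply Spec.map_injective
    rw [← cancel_mono (Y.fromSpecStalk y₀)]
    rw [Spec.map_comp, Category.assoc, hψ, hy, Spec.map_comp, Spec.map_comp, Category.assoc,
      Category.assoc, Scheme.SpecMap_stalkSpecializes_fromSpecStalk,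
      Scheme.SpecMap_stalkMap_fromSpecStalk, ← Category.assoc]
    rfl
  have key' : ∀ a : Y.presheaf.stalk y₀,
      (X.residue (genericPoint X)).hom
        ((Y.presheaf.stalkSpecializes hy₀ ≫ f.stalkMap (genericPoint X)).hom a) =
        ((ψ.hom a : A) : X.residueField (genericPoint X)) := by
    intro a
    have := congrArg (fun φ => φ.hom a) key
    exact this.symm
  refine ⟨?_, ?_⟩
  · intro a
    rw [ValuationSubring.mem_comap, key' a]
    exact Subtype.property _
  · intro a ha
    rw [valuation_comap_lt_one_iff, key' a, ← ValuationSubring.valuation_lt_one_iff]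
    have hloc : IsLocalHom ψ.hom := Scheme.isLocalHom_stalkClosedPointTo' y
    rw [IsLocalRing.mem_maximalIdeal, mem_nonunits_iff] at ha ⊢
    exact fun hu => ha (hloc.map_nonunit a hu)

/-- **Translation, upstairs**, without separatedness of the target: if the pulled back valuation
subring dominates the local ring at a point `x` over the image of the closed point, the morphism
lifts. -/
theorem exists_lift_of_dominated [IsIntegral X] (f : X ⟶ Y)
    (A : ValuationSubring (X.residueField (genericPoint X)))
    (y : Spec (CommRingCat.of A) ⟶ Y)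
    (hy : Spec.map (CommRingCat.ofHom A.subtype) ≫ y =
      X.fromSpecResidueField (genericPoint X) ≫ f) (x : X)
    (hfx : f x = y (IsLocalRing.closedPoint A))
    (hx : ∀ a : X.presheaf.stalk x, algebraMap (X.presheaf.stalk x) X.functionField a ∈
      A.comap (X.residue (genericPoint X)).hom)
    (hx' : ∀ a ∈ IsLocalRing.maximalIdeal (X.presheaf.stalk x),
      (A.comap (X.residue (genericPoint X)).hom).valuation
        (algebraMap (X.presheaf.stalk x) X.functionField a) < 1) :
    ∃ l : Spec (CommRingCat.of A) ⟶ X, l ≫ f = y ∧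
      Spec.map (CommRingCat.ofHom A.subtype) ≫ l = X.fromSpecResidueField (genericPoint X) := by
  have hsp : genericPoint X ⤳ x := (genericPoint_spec X).specializes trivial
  let θ' : X.presheaf.stalk x →+* A :=
    ((X.residue (genericPoint X)).hom.comp
      (algebraMap (X.presheaf.stalk x) X.functionField)).codRestrict A.toSubring
        (fun a => hx a)
  let θ : X.presheaf.stalk x ⟶ CommRingCat.of A := CommRingCat.ofHom θ'
  have hθ : θ ≫ CommRingCat.ofHom A.subtype =
      X.presheaf.stalkSpecializes hsp ≫ X.residue (genericPoint X) := by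
    ext a
    rfl
  have hθloc : IsLocalHom θ' := by
    constructor
    intro a ha
    by_contra hna
    have hmem : a ∈ IsLocalRing.maximalIdeal (X.presheaf.stalk x) :=
      (IsLocalRing.mem_maximalIdeal a).mpr hna
    have h1 := hx' a hmem
    rw [valuation_comap_lt_one_iff] at h1
    have h2 : A.valuation ((θ' a : A) : X.residueField (genericPoint X)) < 1 := h1
    rw [← ValuationSubring.valuation_lt_one_iff] at h2
    exact (IsLocalRing.mem_maximalIdeal _).mp h2 ha
  let l : Spec (CommRingCat.of A) ⟶ X := Spec.map θ ≫ X.fromSpecStalk x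
  have hl : Spec.map (CommRingCat.ofHom A.subtype) ≫ l =
      X.fromSpecResidueField (genericPoint X) := by
    show Spec.map (CommRingCat.ofHom A.subtype) ≫ Spec.map θ ≫ X.fromSpecStalk x = _
    rw [← Category.assoc, ← Spec.map_comp, hθ, Spec.map_comp, Category.assoc,
      Scheme.SpecMap_stalkSpecializes_fromSpecStalk]
    rfl
  have hlcl : l (IsLocalRing.closedPoint A) = x := by
    show (Spec.map θ ≫ X.fromSpecStalk x) (IsLocalRing.closedPoint A) = x
    rw [Scheme.Hom.comp_apply]
    have : Spec.map θ (IsLocalRing.closedPoint A) =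
        IsLocalRing.closedPoint (X.presheaf.stalk x) := IsLocalRing.comap_closedPoint θ'
    rw [this]
    exact Scheme.fromSpecStalk_closedPoint
  refine ⟨l, ?_, hl⟩
  refine Groth.Agent.Lib.helper4.ValGlue.hom_ext_of_closedPoint (l ≫ f) y ?_
    (CommRingCat.ofHom A.subtype) Subtype.val_injective ?_
  · rw [Scheme.Hom.comp_apply, hlcl, hfx]
  · rw [← Category.assoc, hl, hy]

/-- The hypothesis on discrete valuation rings of the function field dominating the local ring at
`y` gives DVR-lifting over `y`. -/
theorem dvrGenericAt_of_functionField [IsIntegral X] (f : X ⟶ Y) (y : Y)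
    (hξ : f.base (genericPoint X) ⤳ y)
    (h : ∀ A : ValuationSubring X.functionField, IsDiscreteValuationRing A →
        (∀ r : Y.presheaf.stalk y, A.valuation
          ((Y.presheaf.stalkSpecializes hξ ≫ f.stalkMap (genericPoint X)) r) ≤ 1) →
        (∀ r ∈ IsLocalRing.maximalIdeal (Y.presheaf.stalk y),
            A.valuation ((Y.presheaf.stalkSpecializes hξ ≫ f.stalkMap (genericPoint X)) r) < 1) →
        ∃ x : X, f.base x = y ∧
          (∀ r : X.presheaf.stalk x, A.valuation
            (X.presheaf.stalkSpecializes (genericPoint_specializes x) r) ≤ 1) ∧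
          (∀ r ∈ IsLocalRing.maximalIdeal (X.presheaf.stalk x),
            A.valuation (X.presheaf.stalkSpecializes (genericPoint_specializes x) r) < 1)) :
    DvrGenericAt f y := by
  intro η hη A hA y' hy' hys
  obtain rfl : genericPoint X = η := hη _ ((genericPoint_spec X).specializes trivial)
  subst hys
  obtain ⟨h1, h2⟩ := dominated_of_hom f A y' hy' hξ
  obtain ⟨x, hfx, hx1, hx2⟩ := h _ (isDiscreteValuationRing_comap A _
    (X.residue_surjective (genericPoint X)) hA)
    (fun r => (ValuationSubring.valuation_le_one_iff _ _).mpr (h1 r)) (fun r hr => h2 r hr)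
  exact exists_lift_of_dominated f A y' hy' x hfx
    (fun a => (ValuationSubring.valuation_le_one_iff _ _).mp (hx1 a)) (fun a ha => hx2 a ha)

/-- If `f` is proper over a neighbourhood of `y`, valuation subrings of the function field
dominating the local ring at `y` dominate the local ring of a point over `y`. -/
theorem exists_dominated_of_isProper_restrict [IsIntegral X] (f : X ⟶ Y) (y : Y)
    (hξ : f.base (genericPoint X) ⤳ y) (U : Y.Opens) (hyU : y ∈ U) [IsProper (f ∣_ U)]
    (A : ValuationSubring X.functionField)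
    (h1 : ∀ r : Y.presheaf.stalk y, A.valuation
      ((Y.presheaf.stalkSpecializes hξ ≫ f.stalkMap (genericPoint X)) r) ≤ 1)
    (h2 : ∀ r ∈ IsLocalRing.maximalIdeal (Y.presheaf.stalk y),
      A.valuation ((Y.presheaf.stalkSpecializes hξ ≫ f.stalkMap (genericPoint X)) r) < 1) :
    ∃ x : X, f.base x = y ∧
      (∀ r : X.presheaf.stalk x, A.valuation
        (X.presheaf.stalkSpecializes (genericPoint_specializes x) r) ≤ 1) ∧
      (∀ r ∈ IsLocalRing.maximalIdeal (X.presheaf.stalk x),
        A.valuation (X.presheaf.stalkSpecializes (genericPoint_specializes x) r) < 1) := by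
  let ψ' : Y.presheaf.stalk y →+* A :=
    ((Y.presheaf.stalkSpecializes hξ ≫ f.stalkMap (genericPoint X)).hom).codRestrict A.toSubring
      (fun r => (ValuationSubring.valuation_le_one_iff _ _).mp (h1 r))
  let ψ : Y.presheaf.stalk y ⟶ CommRingCat.of A := CommRingCat.ofHom ψ'
  have hψ : ψ ≫ CommRingCat.ofHom A.subtype =
      Y.presheaf.stalkSpecializes hξ ≫ f.stalkMap (genericPoint X) := by
    ext a
    rfl
  have hψloc : IsLocalHom ψ' := by
    constructor
    intro a ha
    by_contra hna
    have hmem : a ∈ IsLocalRing.maximalIdeal (Y.presheaf.stalk y) :=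
      (IsLocalRing.mem_maximalIdeal a).mpr hna
    have h3 : A.valuation ((ψ' a : A) : X.functionField) < 1 := h2 a hmem
    rw [← ValuationSubring.valuation_lt_one_iff] at h3
    exact (IsLocalRing.mem_maximalIdeal _).mp h3 ha
  let m : Spec (CommRingCat.of A) ⟶ Y := Spec.map ψ ≫ Y.fromSpecStalk y
  have hmcl : m (IsLocalRing.closedPoint A) = y := by
    show (Spec.map ψ ≫ Y.fromSpecStalk y) (IsLocalRing.closedPoint A) = y
    rw [Scheme.Hom.comp_apply]
    have : Spec.map ψ (IsLocalRing.closedPoint A) =
        IsLocalRing.closedPoint (Y.presheaf.stalk y) := IsLocalRing.comap_closedPoint ψ'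
    rw [this]
    exact Scheme.fromSpecStalk_closedPoint
  let i₁ : Spec (CommRingCat.of X.functionField) ⟶ X := X.fromSpecStalk (genericPoint X)
  have hcomm : i₁ ≫ f = Spec.map (CommRingCat.ofHom A.subtype) ≫ m := by
    show _ = Spec.map (CommRingCat.ofHom A.subtype) ≫ Spec.map ψ ≫ Y.fromSpecStalk y
    rw [← Category.assoc, ← Spec.map_comp, hψ, Spec.map_comp, Category.assoc,
      Scheme.SpecMap_stalkSpecializes_fromSpecStalk, Scheme.SpecMap_stalkMap_fromSpecStalk]
  have hmU : Set.range m ⊆ Set.range U.ι := by
    rintro _ ⟨a, rfl⟩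
    rw [Scheme.Opens.range_ι]
    have hsp : a ⤳ IsLocalRing.closedPoint A := IsLocalRing.specializes_closedPoint a
    have h3 := hsp.map m.continuous
    rw [hmcl] at h3
    exact h3.mem_open U.2 hyU
  let m' : Spec (CommRingCat.of A) ⟶ U.toScheme := IsOpenImmersion.lift U.ι m hmU
  have hm' : m' ≫ U.ι = m := IsOpenImmersion.lift_fac _ _ _
  have hi₁U : Set.range i₁ ⊆ Set.range (f ⁻¹ᵁ U).ι := by
    rintro _ ⟨a, rfl⟩
    rw [Scheme.Opens.range_ι]
    show f (i₁ a) ∈ U
    rw [← Scheme.Hom.comp_apply, hcomm, Scheme.Hom.comp_apply]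
    have := hmU (Set.mem_range_self (Spec.map (CommRingCat.ofHom A.subtype) a))
    rw [Scheme.Opens.range_ι] at this
    exact this
  let i₁' : Spec (CommRingCat.of X.functionField) ⟶ (f ⁻¹ᵁ U).toScheme :=
    IsOpenImmersion.lift (f ⁻¹ᵁ U).ι i₁ hi₁U
  have hi₁' : i₁' ≫ (f ⁻¹ᵁ U).ι = i₁ := IsOpenImmersion.lift_fac _ _ _
  have hcomm' : i₁' ≫ (f ∣_ U) = Spec.map (CommRingCat.ofHom A.subtype) ≫ m' := by
    rw [← cancel_mono U.ι, Category.assoc, morphismRestrict_ι, ← Category.assoc, hi₁',
      Category.assoc, hm', hcomm]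
  obtain ⟨l', hl'1, hl'2⟩ := DvrDense3.exists_lift_of_isProper (f ∣_ U) A i₁' m' hcomm'
  let l : Spec (CommRingCat.of A) ⟶ X := l' ≫ (f ⁻¹ᵁ U).ι
  have hlf : l ≫ f = m := by
    show (l' ≫ (f ⁻¹ᵁ U).ι) ≫ f = m
    rw [Category.assoc, ← morphismRestrict_ι, ← Category.assoc, hl'2, hm']
  have hlgen : Spec.map (CommRingCat.ofHom A.subtype) ≫ l = i₁ := by
    show _ ≫ l' ≫ (f ⁻¹ᵁ U).ι = i₁
    rw [← Category.assoc, hl'1, hi₁']
  refine ⟨l (IsLocalRing.closedPoint A), ?_, ?_⟩
  · show f (l (IsLocalRing.closedPoint A)) = y
    rw [← Scheme.Hom.comp_apply, hlf, hmcl]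
  · set x := l (IsLocalRing.closedPoint A) with hx
    let φ : X.presheaf.stalk x ⟶ CommRingCat.of A := Scheme.stalkClosedPointTo l
    have hφ : Spec.map φ ≫ X.fromSpecStalk x = l := Scheme.Spec_stalkClosedPointTo_fromSpecStalk l
    have hφloc : IsLocalHom φ.hom := Scheme.isLocalHom_stalkClosedPointTo' l
    have key : φ ≫ CommRingCat.ofHom A.subtype =
        X.presheaf.stalkSpecializes (genericPoint_specializes x) := by
      apply Spec.map_injective
      rw [← cancel_mono (X.fromSpecStalk x)]
      rw [Spec.map_comp, Category.assoc, hφ, hlgen,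
        Scheme.SpecMap_stalkSpecializes_fromSpecStalk]
    have key' : ∀ r : X.presheaf.stalk x,
        X.presheaf.stalkSpecializes (genericPoint_specializes x) r =
          ((φ.hom r : A) : X.functionField) := by
      intro r
      have := congrArg (fun θ => θ.hom r) key
      exact this.symm
    refine ⟨?_, ?_⟩
    · intro r
      rw [key' r, ValuationSubring.valuation_le_one_iff]
      exact Subtype.property _
    · intro r hr
      rw [key' r, ← ValuationSubring.valuation_lt_one_iff]
      rw [IsLocalRing.mem_maximalIdeal, mem_nonunits_iff] at hr ⊢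
      exact fun hu => hr (hφloc.map_nonunit r hu)

/-- **Properness near a point via discrete valuation rings of the function field.** -/
theorem exists_isProper_restrict_iff [IsIntegral X] [IsLocallyNoetherian Y]
    (f : X ⟶ Y) [IsSeparated f] [LocallyOfFiniteType f] [QuasiCompact f] (y : Y)
    (hξ : f.base (genericPoint X) ⤳ y) :
    (∃ U : Y.Opens, y ∈ U ∧ IsProper (f ∣_ U)) ↔
      ∀ A : ValuationSubring X.functionField, IsDiscreteValuationRing A →
        (∀ r : Y.presheaf.stalk y, A.valuation
          ((Y.presheaf.stalkSpecializes hξ ≫ f.stalkMap (genericPoint X)) r) ≤ 1) →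
        (∀ r ∈ IsLocalRing.maximalIdeal (Y.presheaf.stalk y),
            A.valuation ((Y.presheaf.stalkSpecializes hξ ≫ f.stalkMap (genericPoint X)) r) < 1) →
        ∃ x : X, f.base x = y ∧
          (∀ r : X.presheaf.stalk x, A.valuation
            (X.presheaf.stalkSpecializes (genericPoint_specializes x) r) ≤ 1) ∧
          (∀ r ∈ IsLocalRing.maximalIdeal (X.presheaf.stalk x),
            A.valuation (X.presheaf.stalkSpecializes (genericPoint_specializes x) r) < 1) := by
  constructor
  · rintro ⟨U, hyU, hU⟩ A _ h1 h2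
    exact exists_dominated_of_isProper_restrict f y hξ U hyU A h1 h2
  · intro h
    exact exists_isProper_restrict f y (dvrGenericAt_of_functionField f y hξ h)

end Groth.Agent.Lib.helper4.FunFieldProperLocal
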