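import Mathlib

/-!
# Local representability over a base scheme, part 1: the total presheaf (helper4)

For `F : (Over S)ᵒᵖ ⥤ Type u` we define the presheaf `tot F` on `Scheme` with
`tot F (T) = Σ x : T ⟶ S, F (T, x)`, and show that a representation of `tot F` gives a
representation of `F`.
-/

set_option backward.isDefEq.respectTransparency false
set_option autoImplicit false
set_option linter.unusedSectionVars false
set_option linter.style.haveILetI false

universe u

open CategoryTheory CategoryTheory.Limits AlgebraicGeometry Opposite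

namespace Groth.Agent.Lib.Helper4.LocRep

variable {S : Scheme.{u}} (F : (Over S)ᵒᵖ ⥤ Type u)

/-- the morphism of `Over S` induced by a morphism of schemes -/
abbrev ovHom {T T' : Scheme.{u}} (k : T' ⟶ T) {x : T ⟶ S} {x' : T' ⟶ S} (h : k ≫ x = x') :
    Over.mk x' ⟶ Over.mk x := Over.homMk k h

theorem ovHom_id {T : Scheme.{u}} {x : T ⟶ S} (h : 𝟙 T ≫ x = x) :
    ovHom (𝟙 T) h = 𝟙 (Over.mk x) := rfl

theorem map_map' {A B C : Over S} (k : A ⟶ B) (k' : B ⟶ C) (ξ : F.obj (op C)) :
    F.map k.op (F.map k'.op ξ) = F.map (k ≫ k').op ξ := by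
  rw [op_comp, Functor.map_comp_apply]

theorem map_congr' {A B : Over S} {k k' : A ⟶ B} (h : k.left = k'.left) (ξ : F.obj (op B)) :
    F.map k.op ξ = F.map k'.op ξ := by
  have : k = k' := Over.OverMorphism.ext h
  rw [this]

theorem map_id' {A : Over S} (k : A ⟶ A) (h : k.left = 𝟙 A.left) (ξ : F.obj (op A)) :
    F.map k.op ξ = ξ := by
  have : k = 𝟙 A := Over.OverMorphism.ext h
  rw [this]
  simp

/-- sections of the total presheaf -/
structure Tot (T : Scheme.{u}) where
  /-- the structure morphism -/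
  x : T ⟶ S
  /-- the section -/
  ξ : F.obj (op (Over.mk x))

variable {F}

theorem Tot.ext' {T : Scheme.{u}} {a b : Tot F T} (h : a.x = b.x)
    (h2 : F.map (ovHom (𝟙 T) (by rw [Category.id_comp, h]) : Over.mk a.x ⟶ Over.mk b.x).op b.ξ
      = a.ξ) : a = b := by
  obtain ⟨x, ξ⟩ := a
  obtain ⟨x', ξ'⟩ := b
  dsimp only at h
  subst h
  have : F.map (ovHom (𝟙 T) (Category.id_comp x)).op ξ' = ξ' := map_id' F _ rfl _
  dsimp only at h2
  rw [this] at h2
  rw [h2]

theorem Tot.ext_iff' {T : Scheme.{u}} {a b : Tot F T} :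
    a = b ↔ ∃ h : a.x = b.x,
      F.map (ovHom (𝟙 T) (by rw [Category.id_comp, h]) : Over.mk a.x ⟶ Over.mk b.x).op b.ξ
        = a.ξ := by
  constructor
  · rintro rfl
    exact ⟨rfl, map_id' F _ rfl _⟩
  · rintro ⟨h, h2⟩
    exact Tot.ext' h h2

theorem Tot.mk_inj_right {T : Scheme.{u}} {x : T ⟶ S} {ξ ξ' : F.obj (op (Over.mk x))}
    (h : (⟨x, ξ⟩ : Tot F T) = ⟨x, ξ'⟩) : ξ = ξ' := by
  cases h
  rfl

variable (F)

/-- pullback of sections of the total presheaf -/
abbrev totMap {T T' : Scheme.{u}} (k : T' ⟶ T) (a : Tot F T) : Tot F T' :=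
  ⟨k ≫ a.x, F.map (ovHom k rfl).op a.ξ⟩

theorem totMap_id {T : Scheme.{u}} (a : Tot F T) : totMap F (𝟙 T) a = a := by
  apply Tot.ext' (Category.id_comp _)
  rfl

theorem totMap_comp {T T' T'' : Scheme.{u}} (k : T' ⟶ T) (k' : T'' ⟶ T') (a : Tot F T) :
    totMap F (k' ≫ k) a = totMap F k' (totMap F k a) := by
  apply Tot.ext' (Category.assoc _ _ _)
  show F.map _ (F.map _ (F.map _ a.ξ)) = F.map _ a.ξ
  rw [map_map', map_map']
  apply map_congr'
  simp

/-- the total presheaf on `Scheme` of a presheaf on `Over S` -/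
def tot : Scheme.{u}ᵒᵖ ⥤ Type u where
  obj T := Tot F T.unop
  map k := ↾(totMap F k.unop)
  map_id T := by
    ext a
    exact totMap_id F a
  map_comp k k' := by
    ext a
    exact totMap_comp F k.unop k'.unop a

theorem tot_map_apply {T T' : Scheme.{u}} (k : T' ⟶ T) (a : Tot F T) :
    (tot F).map k.op a = totMap F k a := rfl

/-- sections over an object of `Over S` as sections of the total presheaf -/
abbrev toTot {T : Over S} (η : F.obj (op T)) : Tot F T.left := ⟨T.hom, η⟩

theorem totMap_left {T T' : Over S} (φ : T' ⟶ T) (η : F.obj (op T)) :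
    totMap F φ.left (toTot F η) = toTot F (F.map φ.op η) := by
  apply Tot.ext' (Over.w φ)
  show F.map _ (F.map φ.op η) = F.map _ η
  erw [map_map']
  apply map_congr'
  simp

/-- a representation of the total presheaf gives a representation of `F` -/
theorem exists_repr_of_tot {W₀ : Scheme.{u}} (e : (tot F).RepresentableBy W₀) :
    ∃ w : W₀ ⟶ S, Nonempty (F.RepresentableBy (Over.mk w)) := by
  -- the universal element
  let u : Tot F W₀ := e.homEquiv (𝟙 W₀)
  have hu : ∀ {T : Scheme.{u}} (k : T ⟶ W₀), e.homEquiv k = totMap F k u := by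
    intro T k
    have := e.homEquiv_comp k (𝟙 W₀)
    rw [Category.comp_id] at this
    rw [this]
    rfl
  refine ⟨u.x, ⟨?_⟩⟩
  have hu' : u = toTot F (T := Over.mk u.x) u.ξ := rfl
  have hbij : ∀ T : Over S, Function.Bijective
      (fun φ : T ⟶ Over.mk u.x => F.map φ.op u.ξ) := by
    intro T
    constructor
    · intro φ φ' h
      dsimp only at h
      apply Over.OverMorphism.ext
      apply e.homEquiv.injective
      rw [hu, hu]
      have h1 := totMap_left F φ u.ξ
      have h2 := totMap_left F φ' u.ξ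
      rw [h] at h1
      exact h1.trans h2.symm
    · intro η
      let k : T.left ⟶ W₀ := e.homEquiv.symm (toTot F η)
      have hk : totMap F k u = toTot F η := by
        rw [← hu]
        exact e.homEquiv.apply_symm_apply _
      have hkx : k ≫ u.x = T.hom := congrArg Tot.x hk
      refine ⟨Over.homMk k hkx, ?_⟩
      have h2 := totMap_left F (Over.homMk k hkx : T ⟶ Over.mk u.x) u.ξ
      rw [← hu'] at h2
      have h3 : totMap F k u = toTot F (F.map (Over.homMk k hkx : T ⟶ Over.mk u.x).op u.ξ) := h2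
      rw [hk] at h3
      exact (Tot.mk_inj_right h3).symm
  exact
    { homEquiv := fun {T} => Equiv.ofBijective _ (hbij T)
      homEquiv_comp := fun {T T'} k φ => by
        show F.map (k ≫ φ).op u.ξ = F.map k.op (F.map φ.op u.ξ)
        rw [map_map'] }

end Groth.Agent.Lib.Helper4.LocRep
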