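import Mathlib
import Groth.Agent.Lib.Helper4.LocRep1

/-!
# Local representability over a base scheme, part 2: the total presheaf is a Zariski sheaf (helper4)
-/

set_option backward.isDefEq.respectTransparency false
set_option autoImplicit false
set_option linter.unusedSectionVars false
set_option linter.style.haveILetI false

universe u

open CategoryTheory CategoryTheory.Limits AlgebraicGeometry Opposite

namespace Groth.Agent.Lib.Helper4.LocRep

variable {S : Scheme.{u}} (F : (Over S)ᵒᵖ ⥤ Type u)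

theorem tot_eq_imp {T₁ : Scheme.{u}} {a b : Tot F T₁} (h : a = b) (Z : Over S)
    (p : Z ⟶ Over.mk a.x) (q : Z ⟶ Over.mk b.x) (hpq : p.left = q.left) :
    F.map p.op a.ξ = F.map q.op b.ξ := by
  cases h
  exact map_congr' F hpq _

theorem tot_isSheaf (hF : Presieve.IsSheaf (Scheme.zariskiTopology.over S) F) :
    Presieve.IsSheaf Scheme.zariskiTopology (tot F) := by
  intro T₀ R₀ hR₀ fam hfam
  have hS : Presieve.IsSheaf Scheme.zariskiTopology (yoneda.obj S) :=
    GrothendieckTopology.Subcanonical.isSheaf_of_isRepresentable _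
  let xfam : Presieve.FamilyOfElements (yoneda.obj S) R₀.arrows := fun Y k hk => (fam k hk).x
  have hxfam : xfam.Compatible := by
    intro Y₁ Y₂ Z g₁ g₂ f₁ f₂ h₁ h₂ hc
    have := hfam g₁ g₂ h₁ h₂ hc
    exact congrArg Tot.x this
  obtain ⟨x, hx, hxu⟩ := hS R₀ hR₀ xfam hxfam
  have hx' : ∀ {T' : Scheme.{u}} (k : T' ⟶ T₀) (hk : R₀ k), k ≫ x = (fam k hk).x :=
    fun k hk => hx k hk
  let T : Over S := Over.mk x
  let R : Sieve T := (Sieve.overEquiv T).symm R₀
  have hR : R ∈ (Scheme.zariskiTopology.over S) T :=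
    GrothendieckTopology.overEquiv_symm_mem_over _ T R₀ hR₀
  have hkx : ∀ {T' : Over S} (k : T' ⟶ T) (hk : R₀ k.left), (fam k.left hk).x = T'.hom :=
    fun k hk => (hx' k.left hk).symm.trans (Over.w k)
  let fam' : Presieve.FamilyOfElements F R.arrows := fun T' k hk =>
    F.map (Over.homMk (𝟙 T'.left) (by rw [Category.id_comp]; exact hkx k hk) :
      T' ⟶ Over.mk (fam k.left hk).x).op (fam k.left hk).ξ
  have hfam' : fam'.Compatible := by
    intro Y₁ Y₂ Z g₁ g₂ f₁ f₂ h₁ h₂ hc
    have h0 := hfam g₁.left g₂.left h₁ h₂ (congrArg (fun m => m.left) hc)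
    have h0' : totMap F g₁.left (fam f₁.left h₁) = totMap F g₂.left (fam f₂.left h₂) := h0
    have h1 := tot_eq_imp F h0' Z
      (Over.homMk (𝟙 Z.left) (by
        show 𝟙 Z.left ≫ g₁.left ≫ (fam f₁.left h₁).x = Z.hom
        rw [Category.id_comp, hkx f₁ h₁, Over.w g₁]))
      (Over.homMk (𝟙 Z.left) (by
        show 𝟙 Z.left ≫ g₂.left ≫ (fam f₂.left h₂).x = Z.hom
        rw [Category.id_comp, hkx f₂ h₂, Over.w g₂])) rfl
    show F.map g₁.op (F.map _ (fam f₁.left h₁).ξ) = F.map g₂.op (F.map _ (fam f₂.left h₂).ξ)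
    erw [map_map', map_map'] at h1
    erw [map_map', map_map']
    refine (map_congr' F ?_ _).trans (h1.trans (map_congr' F ?_ _))
    · simp
    · simp
  obtain ⟨ξ, hξ, hξu⟩ := hF R hR fam' hfam'
  refine ⟨⟨x, ξ⟩, ?_, ?_⟩
  · intro T' k hk
    show totMap F k ⟨x, ξ⟩ = fam k hk
    have h1 := hξ (ovHom k rfl : Over.mk (k ≫ x) ⟶ T) hk
    apply Tot.ext' (hx' k hk)
    show F.map _ (fam k hk).ξ = F.map (ovHom k rfl).op ξ
    rw [h1]
    rfl
  · intro b hb
    have hbx : b.x = x := hxu b.x (fun T' k hk => congrArg Tot.x (hb k hk))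
    obtain ⟨bx, bξ⟩ := b
    dsimp only at hbx
    subst hbx
    have : bξ = ξ := by
      apply hξu
      intro T' k hk
      have h0 : totMap F k.left ⟨bx, bξ⟩ = fam k.left hk := hb k.left hk
      have h1 := tot_eq_imp F h0 T'
        (Over.homMk (𝟙 T'.left) (by
          show 𝟙 T'.left ≫ k.left ≫ bx = T'.hom
          rw [Category.id_comp]; exact Over.w k))
        (Over.homMk (𝟙 T'.left) (by rw [Category.id_comp]; exact hkx k hk)) rfl
      show F.map k.op bξ = F.map _ (fam k.left hk).ξ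
      refine Eq.trans ?_ h1
      erw [map_map']
      apply map_congr'
      simp
    rw [this]

end Groth.Agent.Lib.Helper4.LocRep
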