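import Mathlib
import Groth.Agent.Lib.Helper4.LocRep2

/-!
# Local representability over a base scheme, part 3: the main theorem (helper4)

`exists_repr`: a Zariski sheaf `F` on `Over S` which is covered by open subfunctors represented
by schemes `W i` over `S` is representable.
-/

set_option backward.isDefEq.respectTransparency false
set_option autoImplicit false
set_option linter.unusedSectionVars false
set_option linter.style.haveILetI false

universe u

open CategoryTheory CategoryTheory.Limits AlgebraicGeometry Opposite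

namespace Groth.Agent.Lib.Helper4.LocRep

variable {S : Scheme.{u}} (F : (Over S)ᵒᵖ ⥤ Type u)
  {ι : Type u} (W : ι → Over S) (ξ : ∀ i, F.obj (op (W i)))

/-- the chart maps -/
noncomputable def chartMap (i : ι) : yoneda.obj (W i).left ⟶ tot F :=
  yonedaEquiv.symm (toTot F (ξ i))

theorem chartMap_app (i : ι) {T : Scheme.{u}} (m : T ⟶ (W i).left) :
    (chartMap F W ξ i).app (op T) m = totMap F m (toTot F (ξ i)) := rfl

theorem yonedaEquiv_symm_app {T T' : Scheme.{u}} (η : Tot F T) (k : T' ⟶ T) :
    (yonedaEquiv.symm η : yoneda.obj T ⟶ tot F).app (op T') k = totMap F k η := rfl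

/-- the key equation: a local factorization through a chart, on total sections -/
theorem totMap_chart {i : ι} {T : Over S} (η : F.obj (op T)) (U : T.left.Opens)
    (a : Over.mk (U.ι ≫ T.hom) ⟶ W i)
    (ha : F.map a.op (ξ i) = F.map (Over.homMk U.ι rfl : Over.mk (U.ι ≫ T.hom) ⟶ T).op η) :
    totMap F a.left (toTot F (ξ i)) = totMap F U.ι (toTot F η) := by
  rw [totMap_left F a (ξ i), ha]
  exact (totMap_left F (Over.homMk U.ι rfl : Over.mk (U.ι ≫ T.hom) ⟶ T) η).symm

variable
  (hmono : ∀ i (T : Over S) (m m' : T ⟶ W i), F.map m.op (ξ i) = F.map m'.op (ξ i) → m = m')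
  (hopen : ∀ i (T : Over S) (η : F.obj (op T)), ∃ U : T.left.Opens,
    (∃ a : Over.mk (U.ι ≫ T.hom) ⟶ W i,
      F.map a.op (ξ i) = F.map (Over.homMk U.ι rfl : Over.mk (U.ι ≫ T.hom) ⟶ T).op η) ∧
    ∀ (T' : Over S) (k : T' ⟶ T) (m : T' ⟶ W i),
      F.map m.op (ξ i) = F.map k.op η → Set.range k.left ⊆ (U : Set T.left))
  (hcov : ∀ (T : Over S) (η : F.obj (op T)) (t : T.left), ∃ (i : ι) (U : T.left.Opens), t ∈ U ∧
    ∃ a : Over.mk (U.ι ≫ T.hom) ⟶ W i,
      F.map a.op (ξ i) = F.map (Over.homMk U.ι rfl : Over.mk (U.ι ≫ T.hom) ⟶ T).op η)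

include hmono hopen in
theorem chartMap_isOpenImmersion (i : ι) : IsOpenImmersion.presheaf (chartMap F W ξ i) := by
  apply MorphismProperty.relative.of_exists
  intro T₀ g
  obtain ⟨η', rfl⟩ := yonedaEquiv.symm.surjective g
  let T : Over S := Over.mk η'.x
  let η : F.obj (op T) := η'.ξ
  have hη' : η' = toTot F η := rfl
  obtain ⟨U, ⟨a, ha⟩, huniv⟩ := hopen i T η
  refine ⟨U, yoneda.map a.left, U.ι, ?_, inferInstance⟩
  apply IsPullback.of_forall_isPullback_app
  intro X
  rw [Types.isPullback_iff]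
  have key := totMap_chart F W ξ η U a ha
  refine ⟨?_, ?_, ?_⟩
  · ext l
    show totMap F (l ≫ a.left) (toTot F (ξ i)) = totMap F (l ≫ U.ι) η'
    rw [totMap_comp, totMap_comp, key]
    rfl
  · intro l l' h
    have h2 : l ≫ U.ι = l' ≫ U.ι := h.2
    exact (cancel_mono U.ι).mp h2
  · intro m k hmk
    have hmk' : totMap F m (toTot F (ξ i)) = totMap F k η' := hmk
    have hx : m ≫ (W i).hom = k ≫ η'.x := congrArg Tot.x hmk'
    let T' : Over S := Over.mk (k ≫ η'.x)
    let k' : T' ⟶ T := ovHom k rfl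
    let m' : T' ⟶ W i := Over.homMk m hx
    have h1 : F.map m'.op (ξ i) = F.map k'.op η := by
      have h0 := tot_eq_imp F hmk' T' (Over.homMk (𝟙 _) (by
          show 𝟙 _ ≫ m ≫ (W i).hom = k ≫ η'.x
          rw [Category.id_comp, hx]))
        (Over.homMk (𝟙 _) (by
          show 𝟙 _ ≫ k ≫ η'.x = k ≫ η'.x
          rw [Category.id_comp])) rfl
      erw [map_map', map_map'] at h0
      refine (map_congr' F ?_ _).trans (h0.trans (map_congr' F ?_ _))
      · simp [m']
      · simp [k']
    have hrange := huniv T' k' m' h1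
    have hrange' : Set.range k'.left ⊆ Set.range U.ι := by
      rw [Scheme.Opens.range_ι]
      exact hrange
    let l : X.unop ⟶ U := IsOpenImmersion.lift U.ι k hrange'
    have hl : l ≫ U.ι = k := IsOpenImmersion.lift_fac _ _ _
    refine ⟨l, ?_, hl⟩
    show l ≫ a.left = m
    let l' : T' ⟶ Over.mk (U.ι ≫ T.hom) := Over.homMk l (by
      show l ≫ U.ι ≫ η'.x = k ≫ η'.x
      rw [← Category.assoc, hl])
    have h3 : l' ≫ a = m' := by
      apply hmono i T'
      rw [h1, ← map_map', ha, map_map']
      apply map_congr'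
      exact hl
    exact congrArg (fun φ => φ.left) h3

include hcov in
theorem chartMap_isLocallySurjective :
    Presheaf.IsLocallySurjective Scheme.zariskiTopology (Sigma.desc (chartMap F W ξ)) := by
  constructor
  intro T₀ s
  let T : Over S := Over.mk s.x
  let η : F.obj (op T) := s.ξ
  have hs : s = toTot F η := rfl
  choose i U htU a ha using hcov T η
  rw [Scheme.mem_grothendieckTopology_iff]
  have hU : TopologicalSpace.IsOpenCover U := by
    rw [TopologicalSpace.IsOpenCover, eq_top_iff]
    intro t _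
    exact TopologicalSpace.Opens.mem_iSup.mpr ⟨t, htU t⟩
  refine ⟨T₀.openCoverOfIsOpenCover U hU, ?_⟩
  rintro Y g ⟨t⟩
  refine ⟨(Sigma.ι (fun i => yoneda.obj (W i).left) (i t)).app _ (a t).left, ?_⟩
  have h1 : (Sigma.desc (chartMap F W ξ)).app (op (U t).toScheme)
      ((Sigma.ι (fun i => yoneda.obj (W i).left) (i t)).app _ (a t).left) =
      (chartMap F W ξ (i t)).app _ (a t).left := by
    rw [← NatTrans.comp_app_apply, Sigma.ι_desc]
  refine h1.trans ?_
  exact totMap_chart F W ξ η (U t) (a t) (ha t)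

include hmono hopen hcov in
/-- **Local representability over a base.** -/
theorem exists_repr (hF : Presieve.IsSheaf (Scheme.zariskiTopology.over S) F) :
    ∃ W₀ : Over S, Nonempty (F.RepresentableBy W₀) := by
  let G : Sheaf Scheme.zariskiTopology (Type u) :=
    ⟨tot F, (isSheaf_iff_isSheaf_of_type _ _).mpr (tot_isSheaf F hF)⟩
  have hf : ∀ i, IsOpenImmersion.presheaf (chartMap F W ξ i) :=
    chartMap_isOpenImmersion F W ξ hmono hopen
  haveI : Presheaf.IsLocallySurjective Scheme.zariskiTopology (Sigma.desc (chartMap F W ξ)) :=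
    chartMap_isLocallySurjective F W ξ hcov
  have e : (tot F).RepresentableBy _ :=
    Scheme.LocalRepresentability.representableBy (F := G) (f := chartMap F W ξ) hf
  obtain ⟨w, ⟨e'⟩⟩ := exists_repr_of_tot F e
  exact ⟨Over.mk w, ⟨e'⟩⟩

end Groth.Agent.Lib.Helper4.LocRep
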