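import Mathlib
set_option backward.isDefEq.respectTransparency false
set_option backward.isDefEq.respectTransparency.types false
set_option autoImplicit false
set_option linter.style.haveILetI false


open AlgebraicGeometry CategoryTheory

universe u

namespace Groth.Agent.Lib.helper4.JacobsonCompl

/-- In a Noetherian local domain of dimension at least two, for every nonzero `h` there is a nonzero
prime not containing `h`. -/
theorem exists_prime_ne_bot_not_mem {D : Type*} [CommRing D] [IsDomain D] [IsNoetherianRing D]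
    [IsLocalRing D] (P₁ : Ideal D) [P₁.IsPrime] (hP₁ : P₁ ≠ ⊥)
    (hP₁m : P₁ ≠ IsLocalRing.maximalIdeal D) (h : D) (hh : h ≠ 0) :
    ∃ Q : Ideal D, Q.IsPrime ∧ Q ≠ ⊥ ∧ h ∉ Q := by
  classical
  by_contra hcon
  push Not at hcon
  -- every nonzero prime contains h
  have hall : ∀ Q : Ideal D, Q.IsPrime → Q ≠ ⊥ → h ∈ Q := hcon
  set m := IsLocalRing.maximalIdeal D with hm
  have hbotlt : (⊥ : Ideal D) < P₁ := bot_lt_iff_ne_bot.mpr hP₁
  have hP₁lt : P₁ < m := lt_of_le_of_ne (IsLocalRing.le_maximalIdeal (Ideal.IsPrime.ne_top inferInstance)) hP₁m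
  haveI : (⊥ : Ideal D).IsPrime := Ideal.isPrime_bot
  have hht : (2 : ℕ∞) ≤ m.height := by
    have h1 := Ideal.height_add_one_le_of_lt_of_isPrime hbotlt
    have h2 := Ideal.height_add_one_le_of_lt_of_isPrime hP₁lt
    have h0 : (1 : ℕ∞) ≤ P₁.height := le_trans (by simp) h1
    calc (2 : ℕ∞) = 1 + 1 := by norm_num
      _ ≤ P₁.height + 1 := by gcongr
      _ ≤ m.height := h2
  have hfin : ((Ideal.span {h} : Ideal D).minimalPrimes).Finite :=
    Ideal.finite_minimalPrimes_of_isNoetherianRing D _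
  -- prime avoidance
  have hnot : ¬ ((m : Set D) ⊆ ⋃ p ∈ (hfin.toFinset : Set (Ideal D)), (p : Set D)) := by
    intro hsub
    rw [Ideal.subset_union_prime (⊥ : Ideal D) ⊥ (fun p hp _ _ => by
      rw [Set.Finite.mem_toFinset] at hp; exact hp.1.1)] at hsub
    obtain ⟨p, hp, hmp⟩ := hsub
    rw [Set.Finite.mem_toFinset] at hp
    have h1 : p.height ≤ 1 :=
      Ideal.height_le_one_of_isPrincipal_of_mem_minimalPrimes (Ideal.span {h}) p hp
    have h2 : m.height ≤ p.height := Ideal.height_mono hmp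
    have : (2 : ℕ∞) ≤ 1 := hht.trans (h2.trans h1)
    norm_num at this
  obtain ⟨a, ham, ha⟩ := Set.not_subset.mp hnot
  simp only [Set.mem_iUnion, not_exists] at ha
  have ha0 : a ≠ 0 := by
    rintro rfl
    -- 0 ∈ every ideal; need a minimal prime to exist
    have hhm : h ∈ m := hall m inferInstance (by
      intro h0; rw [h0] at hP₁lt; exact not_lt_bot hP₁lt)
    obtain ⟨p, hp, -⟩ := Ideal.exists_minimalPrimes_le (I := Ideal.span {h}) (J := m)
      ((Ideal.span_singleton_le_iff_mem m).mpr hhm)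
    exact ha p ((Set.Finite.mem_toFinset hfin).mpr hp) p.zero_mem
  obtain ⟨Q, hQ, -⟩ := Ideal.exists_minimalPrimes_le (I := Ideal.span {a}) (J := m)
    ((Ideal.span_singleton_le_iff_mem m).mpr ham)
  haveI hQp : Q.IsPrime := hQ.1.1
  have haQ : a ∈ Q := hQ.1.2 (Ideal.mem_span_singleton_self a)
  have hQ0 : Q ≠ ⊥ := by
    intro h0; rw [h0] at haQ; exact ha0 ((Ideal.mem_bot).mp haQ)
  have hQht : Q.height ≤ 1 :=
    Ideal.height_le_one_of_isPrincipal_of_mem_minimalPrimes (Ideal.span {a}) Q hQ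
  have hhQ : h ∈ Q := hall Q hQp hQ0
  obtain ⟨p, hp, hpQ⟩ := Ideal.exists_minimalPrimes_le (I := Ideal.span {h}) (J := Q)
    ((Ideal.span_singleton_le_iff_mem Q).mpr hhQ)
  haveI hpp : p.IsPrime := hp.1.1
  have hp0 : p ≠ ⊥ := by
    intro h0
    have : h ∈ p := hp.1.2 (Ideal.mem_span_singleton_self h)
    rw [h0] at this
    exact hh ((Ideal.mem_bot).mp this)
  have hpQeq : p = Q := by
    by_contra hne
    have hlt : p < Q := lt_of_le_of_ne hpQ hne
    have h1 := Ideal.height_add_one_le_of_lt_of_isPrime hlt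
    have h2 := Ideal.height_add_one_le_of_lt_of_isPrime (bot_lt_iff_ne_bot.mpr hp0)
    have h0 : (1 : ℕ∞) ≤ p.height := le_trans (by simp) h2
    have : (2 : ℕ∞) ≤ 1 := calc (2 : ℕ∞) = 1 + 1 := by norm_num
      _ ≤ p.height + 1 := by gcongr
      _ ≤ Q.height := h1
      _ ≤ 1 := hQht
    norm_num at this
  exact ha p ((Set.Finite.mem_toFinset hfin).mpr hp) (hpQeq ▸ haQ)

theorem exists_prime_gt_not_mem {R : Type*} [CommRing R] [IsNoetherianRing R] [IsLocalRing R]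
    (P P₁ : Ideal R) [P.IsPrime] [P₁.IsPrime] (hPP₁ : P < P₁)
    (hP₁m : P₁ ≠ IsLocalRing.maximalIdeal R) (h : R) (hh : h ∉ P) :
    ∃ Q : Ideal R, Q.IsPrime ∧ P < Q ∧ h ∉ Q := by
  let D := R ⧸ P
  have hsurj : Function.Surjective (Ideal.Quotient.mk P) := Ideal.Quotient.mk_surjective
  haveI : IsLocalRing D := IsLocalRing.of_surjective' (Ideal.Quotient.mk P) hsurj
  have hker : RingHom.ker (Ideal.Quotient.mk P) ≤ P₁ := by rw [Ideal.mk_ker]; exact hPP₁.le
  haveI hP₁' : (P₁.map (Ideal.Quotient.mk P)).IsPrime := Ideal.map_isPrime_of_surjective hsurj hker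
  have hcomap : (P₁.map (Ideal.Quotient.mk P)).comap (Ideal.Quotient.mk P) = P₁ := by
    rw [Ideal.comap_map_of_surjective _ hsurj, ← RingHom.ker_eq_comap_bot, Ideal.mk_ker]
    exact sup_eq_left.mpr hPP₁.le
  have h1 : P₁.map (Ideal.Quotient.mk P) ≠ ⊥ := by
    intro h0
    rw [h0, ← RingHom.ker_eq_comap_bot, Ideal.mk_ker] at hcomap
    exact hPP₁.ne hcomap
  have h2 : P₁.map (Ideal.Quotient.mk P) ≠ IsLocalRing.maximalIdeal D := by
    intro h0
    apply hP₁m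
    rw [← hcomap, h0]
    -- comap of the maximal ideal is the maximal ideal
    haveI : ((IsLocalRing.maximalIdeal D).comap (Ideal.Quotient.mk P)).IsMaximal :=
      Ideal.comap_isMaximal_of_surjective _ hsurj
    exact IsLocalRing.eq_maximalIdeal this
  obtain ⟨Q', hQ'p, hQ'0, hQ'h⟩ := exists_prime_ne_bot_not_mem (P₁.map (Ideal.Quotient.mk P)) h1 h2
    (Ideal.Quotient.mk P h) (by rwa [Ne, Ideal.Quotient.eq_zero_iff_mem])
  refine ⟨Q'.comap (Ideal.Quotient.mk P), Ideal.comap_isPrime _ _, ?_, hQ'h⟩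
  have hle : P ≤ Q'.comap (Ideal.Quotient.mk P) := by
    intro x hx
    show Ideal.Quotient.mk P x ∈ Q'
    rw [Ideal.Quotient.eq_zero_iff_mem.mpr hx]
    exact Q'.zero_mem
  refine lt_of_le_of_ne hle ?_
  intro heq
  apply hQ'0
  rw [eq_bot_iff]
  intro y hy
  obtain ⟨x, rfl⟩ := hsurj y
  have : x ∈ Q'.comap (Ideal.Quotient.mk P) := hy
  rw [← heq] at this
  rw [Ideal.mem_bot, Ideal.Quotient.eq_zero_iff_mem]
  exact this


theorem exists_specialization_in_open (X : Scheme.{u}) [IsLocallyNoetherian X] (Y : Set X)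
    (hmeet : ∀ Z : Set X, IsClosed Z → Z.Nonempty → (Z ∩ Y).Nonempty)
    (x x₁ : X) (hx₁ : x₁ ∉ Y) (hxx₁ : x ⤳ x₁) (hne : x₁ ≠ x) (W : Set X) (hW : IsOpen W)
    (hxW : x ∈ W) :
    ∃ x₂ ∈ W, x ⤳ x₂ ∧ x₂ ≠ x := by
  obtain ⟨y, hy1, hyY⟩ := hmeet (closure {x₁}) isClosed_closure ⟨x₁, subset_closure rfl⟩
  have hx₁y : x₁ ⤳ y := specializes_iff_mem_closure.mpr hy1
  have hxy : x ⤳ y := hxx₁.trans hx₁y
  have hspec : ∀ a b : Spec (X.presheaf.stalk y),
      X.fromSpecStalk y a ⤳ X.fromSpecStalk y b ↔ a.asIdeal ≤ b.asIdeal := by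
    intro a b
    rw [(X.fromSpecStalk y).isEmbedding.isInducing.specializes_iff]
    exact (PrimeSpectrum.le_iff_specializes a b).symm
  obtain ⟨P, hP⟩ : x ∈ Set.range (X.fromSpecStalk y) := by
    rw [Scheme.range_fromSpecStalk]; exact hxy
  obtain ⟨P₁, hP₁⟩ : x₁ ∈ Set.range (X.fromSpecStalk y) := by
    rw [Scheme.range_fromSpecStalk]; exact hx₁y
  have hle : P.asIdeal ≤ P₁.asIdeal := by
    rw [← hspec, hP, hP₁]; exact hxx₁
  have hlt : P.asIdeal < P₁.asIdeal := by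
    refine lt_of_le_of_ne hle ?_
    intro heq
    apply hne
    rw [← hP, ← hP₁, PrimeSpectrum.ext heq]
  have hP₁m : P₁.asIdeal ≠ IsLocalRing.maximalIdeal (X.presheaf.stalk y) := by
    intro heq
    apply hx₁
    have : P₁ = IsLocalRing.closedPoint (X.presheaf.stalk y) := PrimeSpectrum.ext heq
    rw [← hP₁, this, Scheme.fromSpecStalk_closedPoint]
    exact hyY
  have hopen : IsOpen ((X.fromSpecStalk y) ⁻¹' W) := hW.preimage (X.fromSpecStalk y).continuous
  have hPmem : P ∈ (X.fromSpecStalk y) ⁻¹' W := by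
    show X.fromSpecStalk y P ∈ W
    rw [hP]; exact hxW
  obtain ⟨_, ⟨h, rfl⟩, hPh, hsub⟩ :=
    (PrimeSpectrum.isTopologicalBasis_basic_opens).exists_subset_of_mem_open hPmem hopen
  haveI := P.isPrime
  haveI := P₁.isPrime
  obtain ⟨Q, hQp, hPQ, hQh⟩ := exists_prime_gt_not_mem P.asIdeal P₁.asIdeal hlt hP₁m h hPh
  refine ⟨X.fromSpecStalk y ⟨Q, hQp⟩, hsub hQh, ?_, ?_⟩
  · rw [← hP, hspec]; exact hPQ.le
  · intro heq
    rw [← hP] at heq
    have := (X.fromSpecStalk y).isEmbedding.injective heq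
    rw [← this] at hPQ
    exact lt_irrefl _ hPQ

theorem jacobsonSpace_compl (X : Scheme.{u}) [IsLocallyNoetherian X] (Y : Set X)
    (hY : IsClosed Y) (hmeet : ∀ Z : Set X, IsClosed Z → Z.Nonempty → (Z ∩ Y).Nonempty) :
    JacobsonSpace ↥(Yᶜ) := by
  rw [jacobsonSpace_iff_locallyClosed]
  rintro Z ⟨z, hz⟩ ⟨O, C, hO, hC, rfl⟩
  obtain ⟨O', hO', rfl⟩ := isOpen_induced_iff.mp hO
  obtain ⟨C', hC', rfl⟩ := isClosed_induced_iff.mp hC
  -- affine open around z inside O' ∩ Yᶜ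
  have hzmem : (z : X) ∈ O' ∩ Yᶜ := ⟨hz.1, z.2⟩
  obtain ⟨_, ⟨W₀, hW₀aff, rfl⟩, hzW₀, hW₀sub⟩ :=
    (X.isBasis_affineOpens).exists_subset_of_mem_open hzmem (hO'.inter hY.isOpen_compl)
  haveI : CompactSpace ↥(W₀ : Set X) := isCompact_iff_compactSpace.mp hW₀aff.isCompact
  obtain ⟨x', hx'cl, hx'⟩ := IsClosed.exists_closed_singleton
    (isClosed_closure (s := ({⟨z, hzW₀⟩} : Set ↥(W₀ : Set X)))) ⟨_, subset_closure rfl⟩
  have hzx : (z : X) ⤳ (x' : X) := by
    have h1 : (⟨z, hzW₀⟩ : ↥(W₀ : Set X)) ⤳ x' := specializes_iff_mem_closure.mpr hx'cl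
    exact h1.map continuous_subtype_val
  have hx'U : (x' : X) ∈ Yᶜ := (hW₀sub x'.2).2
  have hclosedW : ∀ x₂ : X, x₂ ∈ (W₀ : Set X) → (x' : X) ⤳ x₂ → x₂ = x' := by
    intro x₂ hx₂ hsp
    have h1 : x' ⤳ (⟨x₂, hx₂⟩ : ↥(W₀ : Set X)) := (subtype_specializes_iff _ _).mpr hsp
    have h2 : (⟨x₂, hx₂⟩ : ↥(W₀ : Set X)) ∈ closure {x'} := specializes_iff_mem_closure.mp h1
    rw [hx'.closure_eq] at h2
    exact congrArg Subtype.val h2
  refine ⟨⟨x', hx'U⟩, ⟨(hW₀sub x'.2).1, ?_⟩, ?_⟩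
  · show (x' : X) ∈ C'
    exact hzx.mem_closed hC' hz.2
  · rw [mem_closedPoints_iff]
    apply isClosed_of_closure_subset
    intro x₁ hx₁
    by_contra hne
    have hsp : (x' : X) ⤳ (x₁ : X) :=
      (specializes_iff_mem_closure.mpr hx₁).map continuous_subtype_val
    have hne' : (x₁ : X) ≠ x' := fun h => hne (Subtype.ext h)
    obtain ⟨x₂, hx₂W, hx₂sp, hx₂ne⟩ := exists_specialization_in_open X Y hmeet x' x₁ x₁.2 hsp hne'
      W₀ W₀.2 x'.2
    exact hx₂ne (hclosedW x₂ hx₂W hx₂sp)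

end Groth.Agent.Lib.helper4.JacobsonCompl
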