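import Mathlib
import Groth.Agent.Lib.Helper4.JacobsonCompl
set_option backward.isDefEq.respectTransparency false
set_option backward.isDefEq.respectTransparency.types false
set_option autoImplicit false
set_option linter.style.haveILetI false

open AlgebraicGeometry CategoryTheory

universe u

namespace Groth.Agent.Lib.helper4.JacobsonCompl

theorem jacobsonSpace_compl_zeroLocus (R : Type u) [CommRing R] [IsNoetherianRing R]
    (I : Ideal R) (hI : I ≤ (⊥ : Ideal R).jacobson) :
    JacobsonSpace ↥((PrimeSpectrum.zeroLocus (I : Set R))ᶜ) := by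
  haveI : IsNoetherianRing (CommRingCat.of R) := ‹_›
  refine jacobsonSpace_compl (Spec (CommRingCat.of R)) (PrimeSpectrum.zeroLocus (I : Set R))
    (PrimeSpectrum.isClosed_zeroLocus _) ?_
  intro Z hZ hne
  obtain ⟨J, rfl⟩ := (PrimeSpectrum.isClosed_iff_zeroLocus_ideal Z).mp hZ
  obtain ⟨p, hp⟩ := hne
  have hJ : J ≠ ⊤ := by
    rintro rfl
    have h1 : (1 : R) ∈ p.asIdeal := hp (by simp)
    exact p.isPrime.ne_top ((Ideal.eq_top_iff_one _).mpr h1)
  obtain ⟨m, hm, hJm⟩ := Ideal.exists_le_maximal J hJ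
  refine ⟨⟨m, hm.isPrime⟩, ?_, ?_⟩
  · exact fun x hx => hJm hx
  · intro x hx
    have h1 : x ∈ (⊥ : Ideal R).jacobson := hI hx
    rw [Ideal.jacobson, Ideal.mem_sInf] at h1
    exact h1 ⟨bot_le, hm⟩


/-- Non-local version: in a Noetherian domain with a chain of primes `⊥ < P₁ < P₂`, every nonzero
element is avoided by some nonzero prime. -/
theorem exists_prime_ne_bot_not_mem' {D : Type*} [CommRing D] [IsDomain D] [IsNoetherianRing D]
    (P₁ P₂ : Ideal D) [P₁.IsPrime] [P₂.IsPrime] (h1 : P₁ ≠ ⊥) (h12 : P₁ < P₂) (h : D)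
    (hh : h ≠ 0) :
    ∃ Q : Ideal D, Q.IsPrime ∧ Q ≠ ⊥ ∧ h ∉ Q := by
  let L := Localization.AtPrime P₂
  have hinj : Function.Injective (algebraMap D L) :=
    IsLocalization.injective L (M := P₂.primeCompl) (by
      intro x hx
      exact mem_nonZeroDivisors_of_ne_zero (fun h0 => hx (h0 ▸ P₂.zero_mem)))
  have hdisj : Disjoint (P₂.primeCompl : Set D) (P₁ : Set D) := by
    rw [Set.disjoint_left]
    intro x hx hx1
    exact hx (h12.le hx1)
  haveI hP₁L : (P₁.map (algebraMap D L)).IsPrime :=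
    IsLocalization.isPrime_of_isPrime_disjoint P₂.primeCompl L P₁ inferInstance hdisj
  have hcomap : (P₁.map (algebraMap D L)).comap (algebraMap D L) = P₁ :=
    IsLocalization.comap_map_of_isPrime_disjoint P₂.primeCompl L inferInstance hdisj
  have hne0 : P₁.map (algebraMap D L) ≠ ⊥ := by
    intro h0
    rw [h0] at hcomap
    apply h1
    rw [← hcomap, eq_bot_iff]
    intro x hx
    have : algebraMap D L x = 0 := hx
    rw [Ideal.mem_bot]
    exact hinj (by rw [this, map_zero])
  have hnem : P₁.map (algebraMap D L) ≠ IsLocalRing.maximalIdeal L := by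
    intro h0
    have h2 : (IsLocalRing.maximalIdeal L).comap (algebraMap D L) = P₂ :=
      IsLocalization.AtPrime.comap_maximalIdeal L P₂
    rw [← h0, hcomap] at h2
    exact h12.ne h2
  obtain ⟨Q', hQ'p, hQ'0, hQ'h⟩ := exists_prime_ne_bot_not_mem (P₁.map (algebraMap D L)) hne0 hnem
    (algebraMap D L h) (by
      intro h0
      exact hh (hinj (by rw [h0, map_zero])))
  refine ⟨Q'.comap (algebraMap D L), Ideal.comap_isPrime _ _, ?_, hQ'h⟩
  intro h0
  apply hQ'0
  have h3 : Ideal.map (algebraMap D L) (Ideal.comap (algebraMap D L) Q') = Q' :=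
    IsLocalization.map_comap P₂.primeCompl L Q'
  rw [h0, Ideal.map_bot] at h3
  exact h3.symm

/-- In a Noetherian domain in which every nonzero prime contains a fixed nonzero element `f`,
every nonzero prime is maximal and is a minimal prime over `(f)`. -/
theorem isMaximal_and_mem_minimalPrimes_of_forall_mem {D : Type*} [CommRing D] [IsDomain D]
    [IsNoetherianRing D] (f : D) (hf : f ≠ 0)
    (hall : ∀ Q : Ideal D, Q.IsPrime → Q ≠ ⊥ → f ∈ Q) (Q : Ideal D) [hQ : Q.IsPrime]
    (hQ0 : Q ≠ ⊥) : Q.IsMaximal ∧ Q ∈ (Ideal.span {f}).minimalPrimes := by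
  have key : ∀ P₁ P₂ : Ideal D, P₁.IsPrime → P₂.IsPrime → P₁ ≠ ⊥ → P₁ ≤ P₂ → P₁ = P₂ := by
    intro P₁ P₂ hP₁ hP₂ h1 h12
    by_contra hne
    obtain ⟨Q', hQ'p, hQ'0, hQ'f⟩ :=
      exists_prime_ne_bot_not_mem' P₁ P₂ h1 (lt_of_le_of_ne h12 hne) f hf
    exact hQ'f (hall Q' hQ'p hQ'0)
  constructor
  · obtain ⟨m, hm, hQm⟩ := Ideal.exists_le_maximal Q hQ.ne_top
    have := key Q m hQ hm.isPrime hQ0 hQm
    rw [this]; exact hm
  · obtain ⟨p, hp, hpQ⟩ := Ideal.exists_minimalPrimes_le (I := Ideal.span {f}) (J := Q)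
      ((Ideal.span_singleton_le_iff_mem Q).mpr (hall Q hQ hQ0))
    have hp0 : p ≠ ⊥ := by
      intro h0
      have : f ∈ p := hp.1.2 (Ideal.mem_span_singleton_self f)
      rw [h0] at this
      exact hf ((Ideal.mem_bot).mp this)
    have := key p Q hp.1.1 hQ hp0 hpQ
    rw [← this]; exact hp

theorem finite_maximalSpectrum_of_forall_mem {D : Type*} [CommRing D] [IsDomain D]
    [IsNoetherianRing D] (f : D) (hf : f ≠ 0)
    (hall : ∀ Q : Ideal D, Q.IsPrime → Q ≠ ⊥ → f ∈ Q) : Finite (MaximalSpectrum D) := by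
  have hfin : (insert ⊥ (Ideal.span {f}).minimalPrimes : Set (Ideal D)).Finite :=
    (Ideal.finite_minimalPrimes_of_isNoetherianRing D _).insert _
  haveI := hfin.to_subtype
  let g : MaximalSpectrum D → (insert ⊥ (Ideal.span {f}).minimalPrimes : Set (Ideal D)) :=
    fun m => ⟨m.asIdeal, by
      by_cases h0 : m.asIdeal = ⊥
      · exact Set.mem_insert_iff.mpr (Or.inl h0)
      · haveI := m.isMaximal.isPrime
        exact Set.mem_insert_iff.mpr (Or.inr
          (isMaximal_and_mem_minimalPrimes_of_forall_mem f hf hall m.asIdeal h0).2)⟩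
  refine Finite.of_injective g ?_
  intro a b hab
  have : a.asIdeal = b.asIdeal := congrArg Subtype.val hab
  exact MaximalSpectrum.ext this

theorem ringKrullDim_eq_one_iff_of_isDomain {D : Type*} [CommRing D] [IsDomain D] :
    ringKrullDim D = 1 ↔ ¬ IsField D ∧ ∀ I : Ideal D, I ≠ ⊥ → I.IsPrime → I.IsMaximal := by
  haveI : (⊥ : Ideal D).IsPrime := Ideal.isPrime_bot
  constructor
  · intro h
    constructor
    · intro hfield
      have := ringKrullDim_eq_zero_of_isField hfield
      rw [h] at this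
      norm_num at this
    · have : Ring.KrullDimLE 1 D := Ring.krullDimLE_iff.mpr (by rw [h]; rfl)
      exact Ring.krullDimLE_one_iff_of_isPrime_bot.mp this
  · rintro ⟨hnf, H⟩
    refine eq_of_le_of_not_lt (Ring.krullDimLE_iff (n := 1).mp ?_) fun h ↦ ?_
    · exact Ring.krullDimLE_one_iff_of_isPrime_bot.mpr H
    · have : Ring.KrullDimLE 0 D := Ring.krullDimLE_iff.mpr (ENat.WithBot.lt_add_one_iff.mp h)
      exact hnf Ring.KrullDimLE.isField_of_isDomain


theorem ringKrullDim_quotient_eq_one_iff {A : Type*} [CommRing A] (P : Ideal A) [P.IsPrime] :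
    ringKrullDim (A ⧸ P) = 1 ↔
      ¬ P.IsMaximal ∧ ∀ Q : Ideal A, Q.IsPrime → P < Q → Q.IsMaximal := by
  have hsurj : Function.Surjective (Ideal.Quotient.mk P) := Ideal.Quotient.mk_surjective
  rw [ringKrullDim_eq_one_iff_of_isDomain, Ideal.Quotient.maximal_ideal_iff_isField_quotient]
  refine and_congr Iff.rfl ⟨fun H Q hQ hPQ => ?_, fun H I hI0 hI => ?_⟩
  · have hker : RingHom.ker (Ideal.Quotient.mk P) ≤ Q := by rw [Ideal.mk_ker]; exact hPQ.le
    have hcomap : (Q.map (Ideal.Quotient.mk P)).comap (Ideal.Quotient.mk P) = Q := by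
      rw [Ideal.comap_map_of_surjective _ hsurj, ← RingHom.ker_eq_comap_bot, Ideal.mk_ker]
      exact sup_eq_left.mpr hPQ.le
    have h1 : Q.map (Ideal.Quotient.mk P) ≠ ⊥ := by
      intro h0
      rw [h0, ← RingHom.ker_eq_comap_bot, Ideal.mk_ker] at hcomap
      exact hPQ.ne hcomap
    haveI := H _ h1 (Ideal.map_isPrime_of_surjective hsurj hker)
    rw [← hcomap]
    exact Ideal.comap_isMaximal_of_surjective _ hsurj
  · have hle : P ≤ I.comap (Ideal.Quotient.mk P) := by
      intro x hx
      show Ideal.Quotient.mk P x ∈ I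
      rw [Ideal.Quotient.eq_zero_iff_mem.mpr hx]
      exact I.zero_mem
    have hne : P ≠ I.comap (Ideal.Quotient.mk P) := by
      intro heq
      apply hI0
      rw [eq_bot_iff]
      intro y hy
      obtain ⟨x, rfl⟩ := hsurj y
      have : x ∈ I.comap (Ideal.Quotient.mk P) := hy
      rw [← heq] at this
      rw [Ideal.mem_bot, Ideal.Quotient.eq_zero_iff_mem]
      exact this
    have hmax := H _ (Ideal.comap_isPrime _ _) (lt_of_le_of_ne hle hne)
    have := Ideal.map_eq_top_or_isMaximal_of_surjective (Ideal.Quotient.mk P) hsurj hmax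
    rw [Ideal.map_comap_of_surjective _ hsurj] at this
    exact this.resolve_left hI.ne_top

/-- A Jacobson domain with finitely many maximal ideals is a field. -/
theorem isField_of_isJacobsonRing_of_finite {D : Type*} [CommRing D] [IsDomain D]
    [IsJacobsonRing D] [Finite (MaximalSpectrum D)] : IsField D := by
  classical
  haveI hbp : (⊥ : Ideal D).IsPrime := Ideal.isPrime_bot
  have h1 : (⊥ : Ideal D).jacobson = ⊥ :=
    (isJacobsonRing_iff_prime_eq.mp ‹_›) ⊥ hbp
  haveI : Fintype (MaximalSpectrum D) := Fintype.ofFinite _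
  have h2 : (Finset.univ : Finset (MaximalSpectrum D)).inf (fun m => m.asIdeal) ≤ ⊥ := by
    rw [← h1, Ideal.jacobson]
    refine le_sInf ?_
    rintro J ⟨-, hJ⟩
    exact Finset.inf_le (f := fun m : MaximalSpectrum D => m.asIdeal)
      (Finset.mem_univ (⟨J, hJ⟩ : MaximalSpectrum D))
  obtain ⟨m, -, hm⟩ := (Ideal.IsPrime.inf_le' hbp).mp h2
  have : m.asIdeal = ⊥ := le_bot_iff.mp hm
  have hmax : (⊥ : Ideal D).IsMaximal := this ▸ m.isMaximal
  exact Ring.isField_iff_maximal_bot.mpr hmax


/-- A Noetherian non-Jacobson ring has a prime `P` with `A ⧸ P` semi-local of dimension one. -/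
theorem exists_prime_semilocal_of_not_isJacobsonRing (A : Type*) [CommRing A] [IsNoetherianRing A]
    (hA : ¬ IsJacobsonRing A) :
    ∃ P : Ideal A, P.IsPrime ∧ Finite (MaximalSpectrum (A ⧸ P)) ∧ ringKrullDim (A ⧸ P) = 1 := by
  rw [isJacobsonRing_iff_prime_eq] at hA
  push Not at hA
  obtain ⟨P₀, hP₀, hP₀j⟩ := hA
  -- choose a maximal bad prime
  let S : Set (Ideal A) := {P | P.IsPrime ∧ P.jacobson ≠ P}
  obtain ⟨P, ⟨hP, hPj⟩, hmaxP⟩ := (wellFounded_gt (α := Ideal A)).has_min S ⟨P₀, hP₀, hP₀j⟩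
  haveI := hP
  have hgood : ∀ Q : Ideal A, Q.IsPrime → P < Q → Q.jacobson = Q := by
    intro Q hQ hPQ
    by_contra hne
    exact hmaxP Q ⟨hQ, hne⟩ hPQ
  obtain ⟨f, hfj, hfP⟩ : ∃ f, f ∈ P.jacobson ∧ f ∉ P := by
    by_contra hcon
    push Not at hcon
    exact hPj (le_antisymm hcon Ideal.le_jacobson)
  have hfQ : ∀ Q : Ideal A, Q.IsPrime → P < Q → f ∈ Q := by
    intro Q hQ hPQ
    rw [← hgood Q hQ hPQ, Ideal.jacobson, Ideal.mem_sInf]
    rintro M ⟨hQM, hM⟩
    rw [Ideal.jacobson, Ideal.mem_sInf] at hfj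
    exact hfj ⟨hPQ.le.trans hQM, hM⟩
  have hsurj : Function.Surjective (Ideal.Quotient.mk P) := Ideal.Quotient.mk_surjective
  have hf0 : Ideal.Quotient.mk P f ≠ 0 := by rwa [Ne, Ideal.Quotient.eq_zero_iff_mem]
  have hall : ∀ I : Ideal (A ⧸ P), I.IsPrime → I ≠ ⊥ → Ideal.Quotient.mk P f ∈ I := by
    intro I hI hI0
    have hle : P ≤ I.comap (Ideal.Quotient.mk P) := by
      intro x hx
      show Ideal.Quotient.mk P x ∈ I
      rw [Ideal.Quotient.eq_zero_iff_mem.mpr hx]
      exact I.zero_mem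
    have hne : P ≠ I.comap (Ideal.Quotient.mk P) := by
      intro heq
      apply hI0
      rw [eq_bot_iff]
      intro y hy
      obtain ⟨x, rfl⟩ := hsurj y
      have : x ∈ I.comap (Ideal.Quotient.mk P) := hy
      rw [← heq] at this
      rw [Ideal.mem_bot, Ideal.Quotient.eq_zero_iff_mem]
      exact this
    exact hfQ _ (Ideal.comap_isPrime _ _) (lt_of_le_of_ne hle hne)
  refine ⟨P, hP, finite_maximalSpectrum_of_forall_mem _ hf0 hall, ?_⟩
  rw [ringKrullDim_eq_one_iff_of_isDomain]
  constructor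
  · rw [← Ideal.Quotient.maximal_ideal_iff_isField_quotient]
    intro hmax
    exact hPj (Ideal.jacobson_eq_self_of_isMaximal)
  · intro I hI0 hI
    exact (isMaximal_and_mem_minimalPrimes_of_forall_mem _ hf0 hall I hI0).1

theorem isJacobsonRing_iff_no_semilocal (A : Type u) [CommRing A] [IsNoetherianRing A] :
    IsJacobsonRing A ↔
      ∀ (p : Ideal A) [p.IsPrime],
        ¬ (Finite (MaximalSpectrum (A ⧸ p)) ∧ ringKrullDim (A ⧸ p) = 1) := by
  constructor
  · intro hJ p hp
    rintro ⟨hfin, hdim⟩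
    have hfield : IsField (A ⧸ p) := isField_of_isJacobsonRing_of_finite
    have := ringKrullDim_eq_zero_of_isField hfield
    rw [hdim] at this
    norm_num at this
  · intro H
    by_contra hA
    obtain ⟨P, hP, hfin, hdim⟩ := exists_prime_semilocal_of_not_isJacobsonRing A hA
    exact H P ⟨hfin, hdim⟩


theorem jacobsonSpace_punctured (A : Type u) [CommRing A] [IsNoetherianRing A] [IsLocalRing A] :
    JacobsonSpace ↥({IsLocalRing.closedPoint A}ᶜ : Set (PrimeSpectrum A)) ∧
      ∀ p : ↥({IsLocalRing.closedPoint A}ᶜ : Set (PrimeSpectrum A)),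
        IsClosed ({p} : Set ↥({IsLocalRing.closedPoint A}ᶜ : Set (PrimeSpectrum A))) ↔
          ringKrullDim (A ⧸ p.1.asIdeal) = 1 := by
  constructor
  · haveI : IsNoetherianRing (CommRingCat.of A) := ‹_›
    refine jacobsonSpace_compl (Spec (CommRingCat.of A)) ({IsLocalRing.closedPoint A})
      (IsLocalRing.isClosed_singleton_closedPoint A) ?_
    intro Z hZ hne
    obtain ⟨q, hq⟩ := hne
    refine ⟨IsLocalRing.closedPoint A, ?_, rfl⟩
    exact (IsLocalRing.specializes_closedPoint q).mem_closed hZ hq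
  · intro p
    haveI := p.1.isPrime
    have hpm : p.1.asIdeal ≠ IsLocalRing.maximalIdeal A := by
      intro h
      apply p.2
      show p.1 = IsLocalRing.closedPoint A
      exact PrimeSpectrum.ext h
    rw [ringKrullDim_quotient_eq_one_iff]
    constructor
    · intro hcl
      refine ⟨fun hmax => hpm (IsLocalRing.eq_maximalIdeal hmax), fun Q hQ hPQ => ?_⟩
      by_contra hQm
      have hQne : (⟨Q, hQ⟩ : PrimeSpectrum A) ∉ ({IsLocalRing.closedPoint A} : Set _) := by
        intro h
        apply hQm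
        have : Q = IsLocalRing.maximalIdeal A := congrArg PrimeSpectrum.asIdeal h
        rw [this]
        infer_instance
      let q : ↥({IsLocalRing.closedPoint A}ᶜ : Set (PrimeSpectrum A)) := ⟨⟨Q, hQ⟩, hQne⟩
      have hsp : p ⤳ q := by
        rw [subtype_specializes_iff, ← PrimeSpectrum.le_iff_specializes]
        exact hPQ.le
      have hmem : q ∈ closure ({p} : Set _) := specializes_iff_mem_closure.mp hsp
      rw [hcl.closure_eq] at hmem
      have hqp : q = p := hmem
      have : Q = p.1.asIdeal := congrArg (fun z => z.1.asIdeal) hqp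
      exact hPQ.ne this.symm
    · rintro ⟨-, H⟩
      apply isClosed_of_closure_subset
      intro q hq
      have hsp : p ⤳ q := specializes_iff_mem_closure.mpr hq
      rw [subtype_specializes_iff, ← PrimeSpectrum.le_iff_specializes] at hsp
      by_contra hne
      have hne' : p.1.asIdeal ≠ q.1.asIdeal := by
        intro h
        apply hne
        exact Subtype.ext (PrimeSpectrum.ext h.symm)
      have hmax := H q.1.asIdeal q.1.isPrime (lt_of_le_of_ne hsp hne')
      apply q.2
      show q.1 = IsLocalRing.closedPoint A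
      exact PrimeSpectrum.ext (IsLocalRing.eq_maximalIdeal hmax)


theorem jacobsonSpace_iff_no_immersion (X : Scheme.{u}) [IsLocallyNoetherian X] :
    JacobsonSpace X ↔
      ∀ (R : CommRingCat.{u}) [IsDomain R] (i : Spec R ⟶ X) [IsImmersion i],
        ¬ (Finite (MaximalSpectrum R) ∧ ringKrullDim R = 1) := by
  constructor
  · intro hJ R _ i _
    rintro ⟨hfin, hdim⟩
    haveI h1 : JacobsonSpace i.coborderRange.toScheme :=
      JacobsonSpace.of_isOpenEmbedding (f := i.coborderRange.ι) (Scheme.Hom.isOpenEmbedding _)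
    haveI h2 : JacobsonSpace (Spec R) :=
      JacobsonSpace.of_isClosedEmbedding (f := i.liftCoborder) (i.liftCoborder.isClosedEmbedding)
    haveI h3 : IsJacobsonRing R := PrimeSpectrum.isJacobsonRing_iff_jacobsonSpace.mpr h2
    have hfield : IsField R := isField_of_isJacobsonRing_of_finite
    have := ringKrullDim_eq_zero_of_isField hfield
    rw [hdim] at this
    norm_num at this
  · intro H
    have hcov : TopologicalSpace.IsOpenCover (fun U : X.affineOpens => (U : X.Opens)) :=
      iSup_affineOpens_eq_top X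
    rw [hcov.jacobsonSpace_iff]
    intro U
    haveI : IsNoetherianRing Γ(X, U.1) := IsLocallyNoetherian.component_noetherian U
    have hJR : IsJacobsonRing Γ(X, U.1) := by
      rw [isJacobsonRing_iff_no_semilocal]
      intro p hp
      haveI : IsDomain (CommRingCat.of (Γ(X, U.1) ⧸ p)) :=
        inferInstanceAs (IsDomain (Γ(X, U.1) ⧸ p))
      haveI : IsClosedImmersion (Spec.map (CommRingCat.ofHom (Ideal.Quotient.mk p))) :=
        IsClosedImmersion.spec_of_surjective _ Ideal.Quotient.mk_surjective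
      exact H (CommRingCat.of (Γ(X, U.1) ⧸ p))
        (Spec.map (CommRingCat.ofHom (Ideal.Quotient.mk p)) ≫ U.2.fromSpec)
    haveI : JacobsonSpace (Spec Γ(X, U.1)) := PrimeSpectrum.isJacobsonRing_iff_jacobsonSpace.mp hJR
    exact JacobsonSpace.of_isOpenEmbedding (f := U.2.isoSpec.hom) (Scheme.Hom.isOpenEmbedding _)

end Groth.Agent.Lib.helper4.JacobsonCompl
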