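import Mathlib
import Groth.Agent.Lib.Helper4.JacobsonCompl2
set_option backward.isDefEq.respectTransparency false
set_option backward.isDefEq.respectTransparency.types false
set_option autoImplicit false
set_option linter.style.haveILetI false

universe u v

namespace Groth.Agent.Lib.helper4.RigClosed

open TensorProduct Polynomial

/-- A finite module over a complete Noetherian ring is complete. -/
theorem isAdicComplete_of_finite {S : Type v} [CommRing S] [IsNoetherianRing S] (J : Ideal S)
    [IsAdicComplete J S]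
    (M : Type v) [AddCommGroup M] [Module S M] [Module.Finite S M] : IsAdicComplete J M := by
  rw [← AdicCompletion.of_bijective_iff]
  have h1 := AdicCompletion.ofTensorProduct_bijective_of_finite_of_isNoetherian J M
  have h2 : Function.Bijective (LinearMap.rTensor M (AdicCompletion.of J S)) := by
    have hb : Function.Bijective (AdicCompletion.of J S) := AdicCompletion.of_bijective J S
    exact (LinearEquiv.rTensor M (LinearEquiv.ofBijective (AdicCompletion.of J S) hb)).bijective
  have hone : (AdicCompletion.of J S) 1 = 1 := rfl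
  have h3 : ⇑(AdicCompletion.of J M) = (AdicCompletion.ofTensorProduct J M) ∘
      (LinearMap.rTensor M (AdicCompletion.of J S)) ∘ (TensorProduct.lid S M).symm := by
    funext x
    simp [AdicCompletion.ofTensorProduct_tmul, hone]
  rw [h3]
  exact h1.comp (h2.comp (TensorProduct.lid S M).symm.bijective)

/-- Completeness only depends on the topology: if `I ≤ J` and `J ^ n ≤ I` then `I`-adic
completeness implies `J`-adic completeness. -/
theorem isAdicComplete_of_pow_le {R : Type*} [CommRing R] (I J : Ideal R) (n : ℕ)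
    (h1 : I ≤ J) (h2 : J ^ (n + 1) ≤ I) [IsAdicComplete I R] : IsAdicComplete J R := by
  have hpow : ∀ k, J ^ ((n + 1) * k) ≤ I ^ k := by
    intro k
    rw [pow_mul]
    exact Ideal.pow_right_mono h2 k
  refine { haus' := ?_, prec' := ?_ }
  · intro x hx
    apply IsHausdorff.haus (inferInstance : IsHausdorff I R) x
    intro k
    have := hx ((n + 1) * k)
    rw [SModEq.zero] at this ⊢
    rw [smul_eq_mul, Ideal.mul_top] at this ⊢
    exact hpow k this
  · intro f hf
    have hg : ∀ {k l : ℕ}, k ≤ l →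
        f ((n + 1) * k) ≡ f ((n + 1) * l) [SMOD (I ^ k • ⊤ : Submodule R R)] := by
      intro k l hkl
      have := hf (Nat.mul_le_mul_left (n + 1) hkl)
      rw [SModEq.sub_mem] at this ⊢
      rw [smul_eq_mul, Ideal.mul_top] at this ⊢
      exact hpow k this
    obtain ⟨L, hL⟩ := IsPrecomplete.prec (inferInstance : IsPrecomplete I R) hg
    refine ⟨L, fun k => ?_⟩
    have hk : k ≤ (n + 1) * k := Nat.le_mul_of_pos_left k (Nat.succ_pos n)
    have e1 := hf hk
    have e2 := hL k
    rw [SModEq.sub_mem] at e1 e2 ⊢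
    rw [smul_eq_mul, Ideal.mul_top] at e1 e2 ⊢
    have e3 : f ((n + 1) * k) - L ∈ J ^ k := Ideal.pow_right_mono h1 k e2
    have : f k - L = (f k - f ((n + 1) * k)) + (f ((n + 1) * k) - L) := by ring
    rw [this]
    exact Ideal.add_mem _ e1 e3

/-- Lifting idempotents along a Henselian pair. -/
theorem exists_idempotent_of_henselian {R : Type*} [CommRing R] (J : Ideal R) [HenselianRing R J]
    (a₀ : R) (ha₀ : a₀ * (a₀ - 1) ∈ J) : ∃ a : R, a * a = a ∧ a - a₀ ∈ J := by
  have hmonic : (X ^ 2 - X : R[X]).Monic := by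
    apply Polynomial.monic_X_pow_sub
    exact lt_of_le_of_lt Polynomial.degree_X_le (by norm_num)
  have heval : (X ^ 2 - X : R[X]).eval a₀ ∈ J := by
    have : (X ^ 2 - X : R[X]).eval a₀ = a₀ * (a₀ - 1) := by simp; ring
    rw [this]; exact ha₀
  have hder : IsUnit (Ideal.Quotient.mk J ((X ^ 2 - X : R[X]).derivative.eval a₀)) := by
    have h1 : (X ^ 2 - X : R[X]).derivative.eval a₀ = 2 * a₀ - 1 := by simp; ring
    rw [h1]
    refine IsUnit.of_mul_eq_one (Ideal.Quotient.mk J (2 * a₀ - 1)) ?_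
    rw [← map_mul, ← map_one (Ideal.Quotient.mk J), Ideal.Quotient.eq]
    have : (2 * a₀ - 1) * (2 * a₀ - 1) - 1 = 4 * (a₀ * (a₀ - 1)) := by ring
    rw [this]
    exact J.mul_mem_left _ ha₀
  obtain ⟨a, ha, haa⟩ := HenselianRing.is_henselian (X ^ 2 - X : R[X]) hmonic a₀ heval hder
  refine ⟨a, ?_, haa⟩
  have : (X ^ 2 - X : R[X]).eval a = 0 := ha
  simp at this
  have h2 : a * a - a = 0 := by rw [← this]; ring
  exact sub_eq_zero.mp h2


open Groth.Agent.Lib.helper4.JacobsonCompl

/-- Translating "every prime strictly above `P` contains `f`" to the quotient `A ⧸ P`. -/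
theorem quotient_forall_mem {A : Type*} [CommRing A] (P : Ideal A) (f : A)
    (h : ∀ Q : Ideal A, Q.IsPrime → P < Q → f ∈ Q) :
    ∀ J : Ideal (A ⧸ P), J.IsPrime → J ≠ ⊥ → Ideal.Quotient.mk P f ∈ J := by
  intro J hJ hJ0
  have hsurj : Function.Surjective (Ideal.Quotient.mk P) := Ideal.Quotient.mk_surjective
  have hle : P ≤ J.comap (Ideal.Quotient.mk P) := by
    intro x hx
    show Ideal.Quotient.mk P x ∈ J
    rw [Ideal.Quotient.eq_zero_iff_mem.mpr hx]
    exact J.zero_mem
  have hne : P ≠ J.comap (Ideal.Quotient.mk P) := by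
    intro heq
    apply hJ0
    rw [eq_bot_iff]
    intro y hy
    obtain ⟨x, rfl⟩ := hsurj y
    have : x ∈ J.comap (Ideal.Quotient.mk P) := hy
    rw [← heq] at this
    rw [Ideal.mem_bot, Ideal.Quotient.eq_zero_iff_mem]
    exact this
  exact h _ (Ideal.comap_isPrime _ _) (lt_of_le_of_ne hle hne)

/-- A Noetherian domain of dimension one, complete for a nonzero ideal contained in all maximal
ideals, is local: all maximal ideals coincide with the radical of that ideal, for which the ring
is complete too. -/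
theorem local_of_complete_dim_one {D : Type*} [CommRing D] [IsDomain D] [IsNoetherianRing D]
    (K : Ideal D) [IsAdicComplete K D] (hK0 : K ≠ ⊥)
    (hmaxall : ∀ J : Ideal D, J ≠ ⊥ → J.IsPrime → J.IsMaximal) :
    (∀ m : Ideal D, m.IsMaximal → m = K.radical) ∧ IsAdicComplete K.radical D := by
  have hKjac : K ≤ (⊥ : Ideal D).jacobson := IsAdicComplete.le_jacobson_bot K
  have hKmax : ∀ m : Ideal D, m.IsMaximal → K ≤ m := by
    intro m hm x hx
    have := hKjac hx
    rw [Ideal.jacobson, Ideal.mem_sInf] at this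
    exact this ⟨bot_le, hm⟩
  -- radical of K is the Jacobson radical
  have hrad : K.radical = (⊥ : Ideal D).jacobson := by
    rw [Ideal.radical_eq_sInf, Ideal.jacobson]
    congr 1
    ext J
    constructor
    · rintro ⟨hKJ, hJ⟩
      refine ⟨bot_le, hmaxall J ?_ hJ⟩
      rintro rfl
      exact hK0 (le_bot_iff.mp hKJ)
    · rintro ⟨-, hJ⟩
      exact ⟨hKmax J hJ, hJ.isPrime⟩
  obtain ⟨n, hn⟩ := Ideal.exists_radical_pow_le_of_fg K (IsNoetherian.noetherian _)
  haveI hcomp : IsAdicComplete K.radical D :=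
    isAdicComplete_of_pow_le K K.radical n Ideal.le_radical
      ((Ideal.pow_le_pow_right (Nat.le_succ n)).trans hn)
  refine ⟨?_, hcomp⟩
  -- finitely many maximal ideals
  obtain ⟨f, hfK, hf0⟩ : ∃ f ∈ K, f ≠ 0 := by
    by_contra hcon
    push Not at hcon
    exact hK0 (eq_bot_iff.mpr fun x hx => (Ideal.mem_bot).mpr (hcon x hx))
  have hall : ∀ Q : Ideal D, Q.IsPrime → Q ≠ ⊥ → f ∈ Q := fun Q hQ hQ0 =>
    hKmax Q (hmaxall Q hQ0 hQ) hfK
  haveI hfin : Finite (MaximalSpectrum D) := finite_maximalSpectrum_of_forall_mem f hf0 hall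
  -- any two maximal ideals coincide
  have huniq : ∀ m₁ m₂ : MaximalSpectrum D, m₁ = m₂ := by
    intro m₁ m₂
    by_contra hne
    classical
    have hcop : Pairwise (Function.onFun IsCoprime fun m : MaximalSpectrum D => m.asIdeal) := by
      intro a b hab
      apply Ideal.isCoprime_of_isMaximal
      intro h
      exact hab (MaximalSpectrum.ext h)
    obtain ⟨a₀, ha₀⟩ := Ideal.exists_forall_sub_mem_ideal hcop
      (fun m => if m = m₁ then (0 : D) else 1)
    have h1 : a₀ ∈ m₁.asIdeal := by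
      have := ha₀ m₁
      simpa using this
    have h2 : ∀ m : MaximalSpectrum D, m ≠ m₁ → a₀ - 1 ∈ m.asIdeal := by
      intro m hm
      have := ha₀ m
      simpa [hm] using this
    have hJ : a₀ * (a₀ - 1) ∈ K.radical := by
      rw [hrad, Ideal.jacobson, Ideal.mem_sInf]
      rintro M ⟨-, hM⟩
      by_cases hMm : (⟨M, hM⟩ : MaximalSpectrum D) = m₁
      · have : M = m₁.asIdeal := congrArg MaximalSpectrum.asIdeal hMm
        rw [this]
        exact Ideal.mul_mem_right _ _ h1
      · exact Ideal.mul_mem_left _ _ (h2 ⟨M, hM⟩ hMm)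
    obtain ⟨a, haa, haJ⟩ := exists_idempotent_of_henselian K.radical a₀ hJ
    have hJle : ∀ m : MaximalSpectrum D, K.radical ≤ m.asIdeal := by
      intro m
      rw [hrad, Ideal.jacobson]
      exact sInf_le ⟨bot_le, m.isMaximal⟩
    have ha01 : a = 0 ∨ a = 1 := by
      have : a * (a - 1) = 0 := by rw [mul_sub, haa, mul_one, sub_self]
      rcases mul_eq_zero.mp this with h | h
      · exact Or.inl h
      · exact Or.inr (sub_eq_zero.mp h)
    rcases ha01 with rfl | rfl
    · -- a₀ ∈ J ≤ m₂ and a₀ - 1 ∈ m₂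
      have h3 : a₀ ∈ m₂.asIdeal := by
        have := hJle m₂ haJ
        rw [zero_sub] at this
        exact (Ideal.neg_mem_iff _).mp this
      have h4 := h2 m₂ (fun h => hne h.symm)
      have : (1 : D) ∈ m₂.asIdeal := by
        have := Ideal.sub_mem _ h3 h4
        simpa using this
      exact m₂.isMaximal.ne_top ((Ideal.eq_top_iff_one _).mpr this)
    · have h3 : 1 - a₀ ∈ m₁.asIdeal := hJle m₁ haJ
      have : (1 : D) ∈ m₁.asIdeal := by
        have := Ideal.add_mem _ h3 h1
        simpa using this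
      exact m₁.isMaximal.ne_top ((Ideal.eq_top_iff_one _).mpr this)
  intro m hm
  rw [hrad, Ideal.jacobson]
  apply le_antisymm
  · refine le_sInf ?_
    rintro M ⟨-, hM⟩
    have := huniq ⟨m, hm⟩ ⟨M, hM⟩
    exact (congrArg MaximalSpectrum.asIdeal this).le
  · exact sInf_le ⟨bot_le, hm⟩


theorem tfae_rig_closed (A : Type u) [CommRing A] [IsNoetherianRing A] (I : Ideal A)
    [IsAdicComplete I A] (q : PrimeSpectrum A) :
    List.TFAE [¬ I ≤ q.asIdeal ∧ ∀ q' : PrimeSpectrum A, q ≤ q' → ¬ I ≤ q'.asIdeal → q' = q,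
      ringKrullDim (A ⧸ q.asIdeal) = 1 ∧ ¬ I ≤ q.asIdeal,
      ringKrullDim (A ⧸ q.asIdeal) = 1 ∧
        (∀ m : Ideal (A ⧸ q.asIdeal), m.IsMaximal →
          m = (I.map (Ideal.Quotient.mk q.asIdeal)).radical) ∧
        IsAdicComplete (I.map (Ideal.Quotient.mk q.asIdeal)).radical (A ⧸ q.asIdeal)] := by
  haveI := q.isPrime
  have hsurj : Function.Surjective (Ideal.Quotient.mk q.asIdeal) := Ideal.Quotient.mk_surjective
  have hIjac : I ≤ (⊥ : Ideal A).jacobson := IsAdicComplete.le_jacobson_bot I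
  have hImax : ∀ m : Ideal A, m.IsMaximal → I ≤ m := by
    intro m hm x hx
    have := hIjac hx
    rw [Ideal.jacobson, Ideal.mem_sInf] at this
    exact this ⟨bot_le, hm⟩
  have hmap0 : ¬ I ≤ q.asIdeal → I.map (Ideal.Quotient.mk q.asIdeal) ≠ ⊥ := by
    intro hI h0
    apply hI
    intro x hx
    have : Ideal.Quotient.mk q.asIdeal x ∈ I.map (Ideal.Quotient.mk q.asIdeal) :=
      Ideal.mem_map_of_mem _ hx
    rw [h0, Ideal.mem_bot, Ideal.Quotient.eq_zero_iff_mem] at this
    exact this
  tfae_have 1 → 2 := by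
    rintro ⟨hI, hmax⟩
    refine ⟨?_, hI⟩
    obtain ⟨f, hfI, hfq⟩ : ∃ f ∈ I, f ∉ q.asIdeal := by
      by_contra hcon
      push Not at hcon
      exact hI hcon
    have hf0 : Ideal.Quotient.mk q.asIdeal f ≠ 0 := by
      rwa [Ne, Ideal.Quotient.eq_zero_iff_mem]
    have hall := quotient_forall_mem q.asIdeal f (fun Q hQ hPQ => by
      by_contra hfQ
      have : (⟨Q, hQ⟩ : PrimeSpectrum A) = q :=
        hmax ⟨Q, hQ⟩ hPQ.le (fun hIQ => hfQ (hIQ hfI))
      have h2 : Q = q.asIdeal := congrArg PrimeSpectrum.asIdeal this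
      exact hPQ.ne h2.symm)
    rw [ringKrullDim_eq_one_iff_of_isDomain]
    constructor
    · rw [← Ideal.Quotient.maximal_ideal_iff_isField_quotient]
      intro hqmax
      exact hI (hImax _ hqmax)
    · intro J hJ0 hJ
      exact (isMaximal_and_mem_minimalPrimes_of_forall_mem _ hf0 hall J hJ0).1
  tfae_have 2 → 1 := by
    rintro ⟨hdim, hI⟩
    refine ⟨hI, fun q' hqq' hIq' => ?_⟩
    by_contra hne
    rw [ringKrullDim_quotient_eq_one_iff] at hdim
    have hlt : q.asIdeal < q'.asIdeal := by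
      refine lt_of_le_of_ne hqq' ?_
      intro h
      exact hne (PrimeSpectrum.ext h.symm)
    exact hIq' (hImax _ (hdim.2 q'.asIdeal q'.isPrime hlt))
  tfae_have 3 → 2 := by
    rintro ⟨hdim, hmax, -⟩
    refine ⟨hdim, fun hI => ?_⟩
    have h0 : I.map (Ideal.Quotient.mk q.asIdeal) = ⊥ := by
      rw [eq_bot_iff, Ideal.map_le_iff_le_comap]
      intro x hx
      show Ideal.Quotient.mk q.asIdeal x ∈ (⊥ : Ideal _)
      rw [Ideal.mem_bot, Ideal.Quotient.eq_zero_iff_mem]
      exact hI hx
    obtain ⟨m, hm⟩ := Ideal.exists_maximal (A ⧸ q.asIdeal)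
    have hm0 : m = ⊥ := by
      rw [hmax m hm, h0]
      exact Ideal.radical_bot_of_noZeroDivisors
    rw [hm0] at hm
    have hfield : IsField (A ⧸ q.asIdeal) := Ring.isField_iff_maximal_bot.mpr hm
    have := ringKrullDim_eq_zero_of_isField hfield
    rw [hdim] at this
    norm_num at this
  tfae_have 2 → 3 := by
    rintro ⟨hdim, hI⟩
    refine ⟨hdim, ?_⟩
    haveI h1 : IsAdicComplete I (A ⧸ q.asIdeal) := isAdicComplete_of_finite I (A ⧸ q.asIdeal)
    haveI h2 : IsAdicComplete (I.map (Ideal.Quotient.mk q.asIdeal)) (A ⧸ q.asIdeal) :=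
      (IsAdicComplete.map_algebraMap_iff (S := A ⧸ q.asIdeal) I (A ⧸ q.asIdeal)).mpr h1
    rw [ringKrullDim_eq_one_iff_of_isDomain] at hdim
    exact local_of_complete_dim_one (I.map (Ideal.Quotient.mk q.asIdeal)) (hmap0 hI) hdim.2
  tfae_finish

end Groth.Agent.Lib.helper4.RigClosed
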