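import Mathlib
import Groth.Agent.Lib.Helper4.ValFactor
import Groth.Agent.Lib.Helper4.ValGlue
import Groth.Agent.Lib.Helper4.GlueClosedPoint

/-!
# The refined valuative criterion (existence part)

Let `h : Z ⟶ Y` be quasi-compact and dominant and `f : Y ⟶ X` quasi-compact. If valuative
squares whose generic point is the residue field of a point of `Z` have unique lifts, then `f`
is universally closed (Stacks 0CM1).
-/

set_option backward.isDefEq.respectTransparency false
set_option backward.isDefEq.respectTransparency.types false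
set_option autoImplicit false
universe u
open CategoryTheory AlgebraicGeometry

namespace Groth.Agent.Lib.helper4.ValRefined

open Groth.Agent.Lib.helper4.ValFactor Groth.Agent.Lib.helper4.ValGlue

section Comp

variable {K : Type u} [Field K] (B : ValuationSubring K)
  (R₁ : ValuationSubring (IsLocalRing.ResidueField ↥B))

theorem mem_map_comap_iff (x : K) :
    x ∈ (R₁.toSubring.comap (IsLocalRing.residue ↥B)).map B.subtype ↔
      ∃ hx : x ∈ B, IsLocalRing.residue ↥B ⟨x, hx⟩ ∈ R₁ := by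
  constructor
  · rintro ⟨b, hb, rfl⟩
    exact ⟨b.2, hb⟩
  · rintro ⟨hx, h⟩
    exact ⟨⟨x, hx⟩, h, rfl⟩

theorem mem_or_inv_mem_aux (x : K) (hx : x ∈ B) :
    x ∈ (R₁.toSubring.comap (IsLocalRing.residue ↥B)).map B.subtype ∨
      x⁻¹ ∈ (R₁.toSubring.comap (IsLocalRing.residue ↥B)).map B.subtype := by
  rcases R₁.mem_or_inv_mem (IsLocalRing.residue ↥B ⟨x, hx⟩) with h | h
  · left
    exact (mem_map_comap_iff B R₁ x).mpr ⟨hx, h⟩
  · by_cases hu : IsUnit (⟨x, hx⟩ : ↥B)
    · right
      obtain ⟨u, hu'⟩ := hu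
      have h1 : ((u⁻¹ : (↥B)ˣ) : ↥B) * ⟨x, hx⟩ = 1 := by rw [← hu']; exact u.inv_mul
      have h2 : ((((u⁻¹ : (↥B)ˣ) : ↥B) : K)) * x = 1 := congrArg Subtype.val h1
      have h3 : x⁻¹ = ((((u⁻¹ : (↥B)ˣ) : ↥B) : K)) := (eq_inv_of_mul_eq_one_left h2).symm
      refine (mem_map_comap_iff B R₁ x⁻¹).mpr ⟨h3 ▸ ((u⁻¹ : (↥B)ˣ) : ↥B).2, ?_⟩
      have h4 : (⟨x⁻¹, h3 ▸ ((u⁻¹ : (↥B)ˣ) : ↥B).2⟩ : ↥B) = ((u⁻¹ : (↥B)ˣ) : ↥B) :=
        Subtype.ext h3
      rw [h4]
      have h5 : IsLocalRing.residue ↥B ((u⁻¹ : (↥B)ˣ) : ↥B) *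
          IsLocalRing.residue ↥B ⟨x, hx⟩ = 1 := by rw [← map_mul, h1, map_one]
      rw [eq_inv_of_mul_eq_one_left h5]
      exact h
    · left
      refine (mem_map_comap_iff B R₁ x).mpr ⟨hx, ?_⟩
      have : IsLocalRing.residue ↥B ⟨x, hx⟩ = 0 :=
        (IsLocalRing.residue_eq_zero_iff _).mpr ((IsLocalRing.mem_maximalIdeal _).mpr hu)
      rw [this]
      exact R₁.zero_mem

/-- The composite of a valuation ring `B` of `K` with a valuation ring of its residue field. -/
def comp : ValuationSubring K where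
  toSubring := (R₁.toSubring.comap (IsLocalRing.residue ↥B)).map B.subtype
  mem_or_inv_mem' := by
    intro x
    rcases B.mem_or_inv_mem x with hx | hx
    · exact mem_or_inv_mem_aux B R₁ x hx
    · have := mem_or_inv_mem_aux B R₁ x⁻¹ hx
      rw [inv_inv] at this
      exact this.symm

theorem mem_comp_iff (x : K) :
    x ∈ comp B R₁ ↔ ∃ hx : x ∈ B, IsLocalRing.residue ↥B ⟨x, hx⟩ ∈ R₁ :=
  mem_map_comap_iff B R₁ x

theorem comp_le : comp B R₁ ≤ B := fun x hx => ((mem_comp_iff B R₁ x).mp hx).1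

/-- The inclusion of the composite into `B`. -/
def compι : ↥(comp B R₁) →+* ↥B := Subring.inclusion (comp_le B R₁)

theorem compι_coe (x : ↥(comp B R₁)) : ((compι B R₁ x : ↥B) : K) = (x : K) := rfl

/-- The projection of the composite onto the valuation ring of the residue field. -/
noncomputable def compσ : ↥(comp B R₁) →+* ↥R₁ :=
  ((IsLocalRing.residue ↥B).comp (compι B R₁)).codRestrict R₁ (fun x => by
    obtain ⟨hx, h⟩ := (mem_comp_iff B R₁ (x : K)).mp x.2
    exact h)

theorem compσ_coe (x : ↥(comp B R₁)) :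
    ((compσ B R₁ x : ↥R₁) : IsLocalRing.ResidueField ↥B) =
      IsLocalRing.residue ↥B (compι B R₁ x) := rfl

theorem compσ_surjective : Function.Surjective (compσ B R₁) := by
  intro r
  obtain ⟨b, hb⟩ := IsLocalRing.residue_surjective (r : IsLocalRing.ResidueField ↥B)
  have hmem : (b : K) ∈ comp B R₁ := (mem_comp_iff B R₁ _).mpr ⟨b.2, by
    have : (⟨(b : K), b.2⟩ : ↥B) = b := rfl
    rw [this, hb]; exact r.2⟩
  refine ⟨⟨(b : K), hmem⟩, ?_⟩
  apply Subtype.ext
  rw [compσ_coe]
  exact hb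

end Comp


open IsLocalRing

/-- A morphism from the spectrum of a field factors through the residue field of its image. -/
theorem exists_residueField_factor {Y : Scheme.{u}} (K : Type u) [Field K]
    (i : Spec (CommRingCat.of K) ⟶ Y) (y : Y) (hy : i (closedPoint K) = y) :
    ∃ g : Y.residueField y ⟶ CommRingCat.of K, Spec.map g ≫ Y.fromSpecResidueField y = i := by
  subst hy
  exact ⟨_, Scheme.descResidueField_stalkClosedPointTo_fromSpecResidueField K Y i⟩

/-- A specialization of the image of a point is realized by a valuation ring of the residue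
field of the point (after helper16, `Groth.Agent.S19891`). -/
theorem exists_valuationSubring_of_specializes {Z P : Scheme.{u}} (g : Z ⟶ P) (z : Z) (w' : P)
    (hsp : g.base z ⤳ w') :
    ∃ (R : ValuationSubring (Z.residueField z)) (m : Spec (.of R) ⟶ P),
      m.base (closedPoint R) = w' ∧
        Spec.map (CommRingCat.ofHom R.subtype) ≫ m = Z.fromSpecResidueField z ≫ g := by
  let ψ : P.presheaf.stalk w' ⟶ Z.residueField z :=
    P.presheaf.stalkSpecializes hsp ≫ g.stalkMap z ≫ Z.residue z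
  obtain ⟨R, hR, hR_local⟩ := IsLocalRing.exists_factor_valuationRing ψ.hom
  let ψR : P.presheaf.stalk w' ⟶ .of R := CommRingCat.ofHom (ψ.hom.codRestrict _ hR)
  refine ⟨R, Spec.map ψR ≫ P.fromSpecStalk w', ?_, ?_⟩
  · simp only [Scheme.Hom.comp_base, TopCat.coe_comp, Function.comp_apply]
    have : (Spec.map ψR).base (closedPoint R) = closedPoint (P.presheaf.stalk w') :=
      comap_closedPoint (S := R) (ψ.hom.codRestrict R.toSubring hR)
    rw [this, P.fromSpecStalk_closedPoint]
  · have e1 : ψR ≫ CommRingCat.ofHom R.subtype = ψ := by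
      ext x
      rfl
    rw [← Category.assoc, ← Spec.map_comp, e1]
    simp only [ψ, Spec.map_comp, Category.assoc]
    rw [Scheme.SpecMap_stalkSpecializes_fromSpecStalk hsp, Scheme.SpecMap_stalkMap_fromSpecStalk]
    rfl

section Main

variable {X Y Z : Scheme.{u}} (h : Z ⟶ Y) (f : Y ⟶ X)

/-- The refined valuative criterion: unique lifts for valuation rings of residue fields of
points of `Z`. -/
def Refined : Prop :=
  ∀ (z : ↥Z) (R : ValuationSubring ↑(Z.residueField z)) (φ : Spec (CommRingCat.of ↥R) ⟶ X),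
    Spec.map (CommRingCat.ofHom R.subtype) ≫ φ = Z.fromSpecResidueField z ≫ h ≫ f →
    ∃! φ' : Spec (CommRingCat.of ↥R) ⟶ Y,
      Spec.map (CommRingCat.ofHom R.subtype) ≫ φ' = Z.fromSpecResidueField z ≫ h ∧ φ' ≫ f = φ

/-- Existence of lifts for valuation rings of residue fields of points of `Y`. -/
theorem exists_lift_residueField [QuasiCompact h] (hd : DenseRange h.base)
    (H : Refined h f) (y : Y) (R : ValuationSubring (Y.residueField y))
    (φ : Spec (CommRingCat.of ↥R) ⟶ X)
    (w : Spec.map (CommRingCat.ofHom R.subtype) ≫ φ = Y.fromSpecResidueField y ≫ f) :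
    ∃ l : Spec (CommRingCat.of ↥R) ⟶ Y,
      Spec.map (CommRingCat.ofHom R.subtype) ≫ l = Y.fromSpecResidueField y ∧ l ≫ f = φ := by
  -- a point of `Z` specializing to `y`
  obtain ⟨z, hz⟩ := Groth.Agent.Lib.Helper4.GlueClosedPoint.exists_specializes_of_mem_closure_range
    h y (by rw [hd.closure_range]; trivial)
  obtain ⟨B, m, hm1, hm2⟩ := exists_valuationSubring_of_specializes h z y hz
  have hcl : (Spec.map (CommRingCat.ofHom (residue ↥B)) ≫ m) (closedPoint (ResidueField ↥B)) = y := by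
    rw [Scheme.Hom.comp_apply]
    have : Spec.map (CommRingCat.ofHom (residue ↥B)) (closedPoint (ResidueField ↥B)) =
        closedPoint ↥B := IsLocalRing.comap_closedPoint (residue ↥B)
    rw [this]
    exact hm1
  obtain ⟨g, hg⟩ := exists_residueField_factor (ResidueField ↥B)
    (Spec.map (CommRingCat.ofHom (residue ↥B)) ≫ m) y hcl
  -- a valuation ring of the residue field of `B` dominating `R`
  obtain ⟨R₁, hR₁, hloc⟩ := IsLocalRing.exists_factor_valuationRing (g.hom.comp R.subtype)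
  let τ : ↥R →+* ↥R₁ := (g.hom.comp R.subtype).codRestrict R₁ hR₁
  have hτloc : IsLocalHom τ := hloc
  have hτinj : Function.Injective τ := by
    intro a b hab
    apply Subtype.ext
    apply g.hom.injective
    exact congrArg Subtype.val hab
  have hτsub : CommRingCat.ofHom τ ≫ CommRingCat.ofHom R₁.subtype =
      CommRingCat.ofHom R.subtype ≫ g := by
    ext a
    rfl
  -- gluing in `X`
  have hcompatX : Spec.map (CommRingCat.ofHom R₁.subtype) ≫ (Spec.map (CommRingCat.ofHom τ) ≫ φ) =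
      Spec.map (CommRingCat.ofHom (residue ↥B)) ≫ (m ≫ f) := by
    rw [← Category.assoc, ← Spec.map_comp, hτsub, Spec.map_comp, Category.assoc, w,
      ← Category.assoc, hg, Category.assoc]
  obtain ⟨φC, ⟨hφC1, hφC2⟩, -⟩ := existsUnique_glue (Y := X) (Z.residueField z) (comp B R₁) B
    (comp_le B R₁) (compι B R₁) (compι_coe B R₁) R₁ (compσ B R₁) (compσ_surjective B R₁)
    (compσ_coe B R₁) (m ≫ f) (Spec.map (CommRingCat.ofHom τ) ≫ φ) hcompatX
  have hsubC : CommRingCat.ofHom (comp B R₁).subtype =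
      CommRingCat.ofHom (compι B R₁) ≫ CommRingCat.ofHom B.subtype := by
    ext a
    rfl
  have hgenC : Spec.map (CommRingCat.ofHom (comp B R₁).subtype) ≫ φC =
      Z.fromSpecResidueField z ≫ h ≫ f := by
    rw [hsubC, Spec.map_comp, Category.assoc, hφC1, ← Category.assoc, hm2, Category.assoc]
  obtain ⟨ψ, ⟨hψ1, hψ2⟩, -⟩ := H z (comp B R₁) φC hgenC
  -- restriction of `ψ` to `Spec B` is `m`
  have hBgen : Spec.map (CommRingCat.ofHom B.subtype) ≫ (m ≫ f) =
      Z.fromSpecResidueField z ≫ h ≫ f := by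
    rw [← Category.assoc, hm2, Category.assoc]
  obtain ⟨m', -, hm'uniq⟩ := H z B (m ≫ f) hBgen
  have hιψ : Spec.map (CommRingCat.ofHom (compι B R₁)) ≫ ψ = m := by
    have e1 := hm'uniq (Spec.map (CommRingCat.ofHom (compι B R₁)) ≫ ψ)
      ⟨by rw [← Category.assoc, ← Spec.map_comp, ← hsubC, hψ1],
        by rw [Category.assoc, hψ2, hφC1]⟩
    have e2 := hm'uniq m ⟨hm2, rfl⟩
    rw [e1, e2]
  -- the restriction to `Spec R₁`
  have hht_f : (Spec.map (CommRingCat.ofHom (compσ B R₁)) ≫ ψ) ≫ f =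
      Spec.map (CommRingCat.ofHom τ) ≫ φ := by
    rw [Category.assoc, hψ2, hφC2]
  have hσres : CommRingCat.ofHom (compσ B R₁) ≫ CommRingCat.ofHom R₁.subtype =
      CommRingCat.ofHom (compι B R₁) ≫ CommRingCat.ofHom (residue ↥B) := by
    ext a
    rfl
  have hht_gen : Spec.map (CommRingCat.ofHom R₁.subtype) ≫
      (Spec.map (CommRingCat.ofHom (compσ B R₁)) ≫ ψ) =
      Spec.map g ≫ Y.fromSpecResidueField y := by
    rw [← Category.assoc, ← Spec.map_comp, hσres, Spec.map_comp, Category.assoc, hιψ, hg]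
  -- descend to `Spec R`
  let ρ : ↥(R₁.comap g.hom) →+* ↥R₁ :=
    (g.hom.comp (R₁.comap g.hom).subtype).codRestrict R₁ (fun x => x.2)
  obtain ⟨φ', ⟨hφ'1, hφ'2⟩, -⟩ := existsUnique_factor (𝟙 Y) (ResidueField ↥B) R₁
    (Spec.map g ≫ Y.fromSpecResidueField y) (Spec.map (CommRingCat.ofHom (compσ B R₁)) ≫ ψ)
    (by rw [Category.comp_id]; exact hht_gen) y g rfl ρ (fun x => rfl)
  have hle : ∀ x : ↥(R₁.comap g.hom), (x : Y.residueField y) ∈ R := by
    intro x
    by_contra hx
    have hx0 : (x : Y.residueField y) ≠ 0 := by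
      intro h0
      exact hx (h0 ▸ R.zero_mem)
    have hx' : (x : Y.residueField y)⁻¹ ∈ R := (R.mem_or_inv_mem _).resolve_left hx
    have hnu : ¬ IsUnit (⟨_, hx'⟩ : ↥R) := by
      rintro ⟨u, hu⟩
      apply hx
      have h1 : (((u⁻¹ : (↥R)ˣ) : ↥R) : Y.residueField y) * (x : Y.residueField y)⁻¹ = 1 := by
        have : ((u⁻¹ : (↥R)ˣ) : ↥R) * (⟨_, hx'⟩ : ↥R) = 1 := by rw [← hu]; exact u.inv_mul
        exact congrArg Subtype.val this
      have h2 : (((u⁻¹ : (↥R)ˣ) : ↥R) : Y.residueField y) = (x : Y.residueField y) := by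
        have := eq_inv_of_mul_eq_one_left h1
        rwa [inv_inv] at this
      rw [← h2]
      exact ((u⁻¹ : (↥R)ˣ) : ↥R).2
    have h1 : ¬ IsUnit (τ ⟨_, hx'⟩) := fun hu => hnu ((isUnit_map_iff τ _).mp hu)
    apply h1
    refine IsUnit.of_mul_eq_one (⟨g.hom x, x.2⟩ : ↥R₁) ?_
    apply Subtype.ext
    show g.hom ((x : Y.residueField y)⁻¹) * g.hom x = 1
    rw [← map_mul, inv_mul_cancel₀ hx0, map_one]
  let j' : ↥(R₁.comap g.hom) →+* ↥R := ((R₁.comap g.hom).subtype).codRestrict R hle
  have hj'sub : CommRingCat.ofHom j' ≫ CommRingCat.ofHom R.subtype =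
      CommRingCat.ofHom (R₁.comap g.hom).subtype := by
    ext a
    rfl
  have hjτ : CommRingCat.ofHom j' ≫ CommRingCat.ofHom τ = CommRingCat.ofHom ρ := by
    refine CommRingCat.hom_ext (RingHom.ext fun a => ?_)
    apply Subtype.ext
    rfl
  refine ⟨Spec.map (CommRingCat.ofHom j') ≫ φ', ?_, ?_⟩
  · rw [← Category.assoc, ← Spec.map_comp, hj'sub, hφ'2, Category.comp_id]
  · have heq : Spec.map (CommRingCat.ofHom τ) ≫ ((Spec.map (CommRingCat.ofHom j') ≫ φ') ≫ f) =
        Spec.map (CommRingCat.ofHom τ) ≫ φ := by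
      rw [← Category.assoc, ← Category.assoc, ← Spec.map_comp, hjτ, hφ'1, hht_f]
    have hclτ : Spec.map (CommRingCat.ofHom τ) (closedPoint ↥R₁) = closedPoint ↥R :=
      IsLocalRing.comap_closedPoint τ
    refine hom_ext_of_closedPoint (R := CommRingCat.of ↥R) (R' := CommRingCat.of ↥R₁) _ _ ?_
      (CommRingCat.ofHom τ) hτinj heq
    rw [← hclτ, ← Scheme.Hom.comp_apply, ← Scheme.Hom.comp_apply, heq]

/-- Existence of lifts for arbitrary valuation subrings of arbitrary fields. -/
theorem exists_lift_valuationSubring [QuasiCompact h] (hd : DenseRange h.base)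
    (H : Refined h f) (K : Type u) [Field K] (R : ValuationSubring K)
    (i : Spec (CommRingCat.of K) ⟶ Y) (φ : Spec (CommRingCat.of ↥R) ⟶ X)
    (w : Spec.map (CommRingCat.ofHom R.subtype) ≫ φ = i ≫ f) :
    ∃ l : Spec (CommRingCat.of ↥R) ⟶ Y,
      Spec.map (CommRingCat.ofHom R.subtype) ≫ l = i ∧ l ≫ f = φ := by
  obtain ⟨g, hg⟩ := exists_residueField_factor K i (i (closedPoint K)) rfl
  let ρ : ↥(R.comap g.hom) →+* ↥R :=
    (g.hom.comp (R.comap g.hom).subtype).codRestrict R (fun x => x.2)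
  obtain ⟨φ', ⟨hφ'1, hφ'2⟩, -⟩ := existsUnique_factor f K R i φ w _ g hg ρ (fun x => rfl)
  obtain ⟨l', hl'1, hl'2⟩ := exists_lift_residueField h f hd H _ (R.comap g.hom) φ' hφ'2
  have e : CommRingCat.ofHom ρ ≫ CommRingCat.ofHom R.subtype =
      CommRingCat.ofHom (R.comap g.hom).subtype ≫ g := by
    ext a
    rfl
  refine ⟨Spec.map (CommRingCat.ofHom ρ) ≫ l', ?_, ?_⟩
  · rw [← Category.assoc, ← Spec.map_comp, e, Spec.map_comp, Category.assoc, hl'1, hg]
  · rw [Category.assoc, hl'2, hφ'1]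

/-- The refined valuative criterion implies the existence part of the valuative criterion. -/
theorem existence_of_refined [QuasiCompact h] (hd : DenseRange h.base) (H : Refined h f) :
    ValuativeCriterion.Existence f := by
  rintro ⟨A, K, i₁, i₂, ⟨w⟩⟩
  let 𝒪 : ValuationSubring K := (ValuationRing.valuation A K).valuationSubring
  let e : A ≃+* ↥𝒪 := ValuationRing.equivInteger A K
  have he1 : CommRingCat.ofHom e.toRingHom ≫ CommRingCat.ofHom 𝒪.subtype =
      CommRingCat.ofHom (algebraMap A K) := by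
    ext a
    rfl
  have he2 : CommRingCat.ofHom e.symm.toRingHom ≫ CommRingCat.ofHom (algebraMap A K) =
      CommRingCat.ofHom 𝒪.subtype := by
    rw [← he1, ← Category.assoc]
    have : CommRingCat.ofHom e.symm.toRingHom ≫ CommRingCat.ofHom e.toRingHom = 𝟙 _ := by
      refine CommRingCat.hom_ext (RingHom.ext fun a => ?_)
      exact e.apply_symm_apply a
    rw [this, Category.id_comp]
  have he3 : CommRingCat.ofHom e.toRingHom ≫ CommRingCat.ofHom e.symm.toRingHom = 𝟙 _ := by
    ext a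
    exact e.symm_apply_apply a
  obtain ⟨l', hl'1, hl'2⟩ := exists_lift_valuationSubring h f hd H K 𝒪 i₁
    (Spec.map (CommRingCat.ofHom e.toRingHom) ≫ i₂) (by
      rw [← Category.assoc, ← Spec.map_comp, he1]
      exact w.symm)
  refine ⟨⟨⟨Spec.map (CommRingCat.ofHom e.symm.toRingHom) ≫ l', ?_, ?_⟩⟩⟩
  · rw [← Category.assoc, ← Spec.map_comp, he2, hl'1]
  · rw [Category.assoc, hl'2, ← Category.assoc, ← Spec.map_comp, he3, Spec.map_id,
      Category.id_comp]

/-- The refined valuative criterion implies universal closedness (Stacks 0CM1). -/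
theorem universallyClosed_of_refined [QuasiCompact h] [QuasiCompact f]
    (hd : DenseRange h.base) (H : Refined h f) : UniversallyClosed f :=
  UniversallyClosed.of_valuativeCriterion f (existence_of_refined h f hd H)

end Main

end Groth.Agent.Lib.helper4.ValRefined
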