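import Mathlib
import Groth.Agent.Lib.Helper4.DvrLocal
import Groth.Agent.Lib.Helper4.ValRefined

/-!
# Properness of the closure of a subset near a point via sections over discrete valuation rings
-/

set_option backward.isDefEq.respectTransparency false
set_option backward.isDefEq.respectTransparency.types false
set_option autoImplicit false
set_option linter.style.haveILetI false
universe u
open CategoryTheory CategoryTheory.Limits AlgebraicGeometry TopologicalSpace

namespace Groth.Agent.Lib.helper4.ClosureProper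

open Groth.Agent.Lib.helper4.DvrLocal

variable {X Y : Scheme.{u}}

theorem ker_eq_vanishingIdeal_range {Z : Scheme.{u}} [IsReduced Z] (i : Z ⟶ X) :
    i.ker = Scheme.IdealSheafData.vanishingIdeal (.closure (Set.range i)) := by
  rw [← Scheme.IdealSheafData.map_bot, ← Scheme.nilradical_eq_bot,
    ← Scheme.IdealSheafData.vanishingIdeal_top, Scheme.IdealSheafData.map_vanishingIdeal]
  congr 2
  simp

theorem vanishingIdeal_le_ker_of_range_subset {Z : Scheme.{u}} [IsReduced Z] (i : Z ⟶ X)
    (T : Closeds X) (h : Set.range i ⊆ (T : Set X)) :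
    Scheme.IdealSheafData.vanishingIdeal T ≤ i.ker := by
  rw [ker_eq_vanishingIdeal_range]
  apply Scheme.IdealSheafData.vanishingIdeal_antimono
  rw [Closeds.closure_le]
  exact h

/-- A morphism from a reduced scheme with range in a closed subset factors through the reduced
induced closed subscheme. -/
theorem exists_lift_subscheme {T : Scheme.{u}} [IsReduced T] (l : T ⟶ X) (C : Closeds X)
    (h : Set.range l ⊆ (C : Set X)) :
    ∃ l' : T ⟶ (Scheme.IdealSheafData.vanishingIdeal C).subscheme,
      l' ≫ (Scheme.IdealSheafData.vanishingIdeal C).subschemeι = l := by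
  have H : (Scheme.IdealSheafData.vanishingIdeal C).subschemeι.ker ≤ l.ker := by
    rw [Scheme.IdealSheafData.ker_subschemeι]
    exact vanishingIdeal_le_ker_of_range_subset l C h
  exact ⟨IsClosedImmersion.lift _ l H, IsClosedImmersion.lift_fac _ l H⟩

/-- Two field-valued points with the same image point `x'` which agree after composing with `q`
are equal, when the residue field extension of `q` at `x'` is surjective. -/
theorem hom_ext_of_point {X' S : Scheme.{u}} (q : X' ⟶ S) {K : Type u} [Field K]
    (a b : Spec (CommRingCat.of K) ⟶ X') (x' : X')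
    (ha : a (IsLocalRing.closedPoint K) = x') (hb : b (IsLocalRing.closedPoint K) = x')
    (hq : Function.Surjective (q.residueFieldMap x').hom) (h : a ≫ q = b ≫ q) : a = b := by
  obtain ⟨α, hα⟩ := Groth.Agent.Lib.helper4.ValRefined.exists_residueField_factor K a x' ha
  obtain ⟨β, hβ⟩ := Groth.Agent.Lib.helper4.ValRefined.exists_residueField_factor K b x' hb
  have h1 : Spec.map (q.residueFieldMap x' ≫ α) ≫ S.fromSpecResidueField (q x') =
      Spec.map (q.residueFieldMap x' ≫ β) ≫ S.fromSpecResidueField (q x') := by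
    rw [Spec.map_comp, Spec.map_comp, Category.assoc, Category.assoc,
      Scheme.Hom.SpecMap_residueFieldMap_fromSpecResidueField, ← Category.assoc, hα,
      ← Category.assoc, hβ]
    exact h
  have h2 : q.residueFieldMap x' ≫ α = q.residueFieldMap x' ≫ β :=
    Spec.map_injective ((cancel_mono _).mp h1)
  have h3 : α = β := by
    ext z
    obtain ⟨w, rfl⟩ := hq z
    exact congrArg (fun φ => φ.hom w) h2
  rw [← hα, ← hβ, h3]

/-- A field-valued point `t` of `X'` over `Spec A`, `A` a valuation subring of the field, lying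
over the inclusion `A ⊆ K`, is a rational point of the generic fibre. -/
theorem bijective_residueFieldMap {X' : Scheme.{u}} {K : Type u} [Field K]
    (A : ValuationSubring K) (q : X' ⟶ Spec (CommRingCat.of A))
    (t : Spec (CommRingCat.of K) ⟶ X')
    (htq : t ≫ q = Spec.map (CommRingCat.ofHom A.subtype)) :
    Function.Bijective (q.residueFieldMap (t (IsLocalRing.closedPoint K))).hom := by
  set x' := t (IsLocalRing.closedPoint K) with hx'
  refine ⟨(q.residueFieldMap x').hom.injective, ?_⟩
  obtain ⟨α, hα⟩ := Groth.Agent.Lib.helper4.ValRefined.exists_residueField_factor K t x' rfl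
  let ψ : CommRingCat.of A ⟶ (Spec (CommRingCat.of A)).residueField (q x') :=
    StructureSheaf.toStalk (CommRingCat.of A) _ ≫ (Spec (CommRingCat.of A)).residue (q x')
  have h1 : Spec.map (ψ ≫ q.residueFieldMap x' ≫ α) =
      Spec.map (CommRingCat.ofHom A.subtype) := by
    symm
    calc Spec.map (CommRingCat.ofHom A.subtype) = t ≫ q := htq.symm
      _ = Spec.map α ≫ X'.fromSpecResidueField x' ≫ q := by rw [← hα, Category.assoc]
      _ = Spec.map α ≫ Spec.map (q.residueFieldMap x') ≫
          (Spec (CommRingCat.of A)).fromSpecResidueField (q x') := by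
        rw [Scheme.Hom.SpecMap_residueFieldMap_fromSpecResidueField]
      _ = Spec.map α ≫ Spec.map (q.residueFieldMap x') ≫
          Spec.map ((Spec (CommRingCat.of A)).residue (q x')) ≫
          Spec.map (StructureSheaf.toStalk (CommRingCat.of A) _) := by
        rw [Scheme.fromSpecResidueField, Spec.fromSpecStalk_eq']
      _ = _ := by
        rw [← Spec.map_comp, ← Spec.map_comp, ← Spec.map_comp]
        simp only [ψ, Category.assoc]
  have h2 : ψ ≫ q.residueFieldMap x' ≫ α = CommRingCat.ofHom A.subtype := Spec.map_injective h1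
  have h2' : ∀ a : A, α.hom ((q.residueFieldMap x').hom (ψ.hom a)) = (a : K) := fun a =>
    congrArg (fun φ => φ.hom a) h2
  have h3 : Function.Surjective (q.residueFieldMap x' ≫ α).hom := by
    intro k
    rcases A.mem_or_inv_mem k with hk | hk
    · exact ⟨ψ.hom ⟨k, hk⟩, h2' ⟨k, hk⟩⟩
    · refine ⟨(ψ.hom ⟨k⁻¹, hk⟩)⁻¹, ?_⟩
      rw [map_inv₀]
      have := h2' ⟨k⁻¹, hk⟩
      rw [show (q.residueFieldMap x' ≫ α).hom (ψ.hom ⟨k⁻¹, hk⟩) = k⁻¹ from this, inv_inv]
  intro z
  obtain ⟨w, hw⟩ := h3 (α.hom z)
  exact ⟨w, α.hom.injective hw⟩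

/-- The point of the spectrum of a field goes to the generic point of the spectrum of a
domain mapping injectively to the field. -/
theorem specMap_closedPoint_of_injective {R K : Type u} [CommRing R] [IsDomain R] [Field K]
    (φ : R →+* K) (hφ : Function.Injective φ) :
    Spec.map (CommRingCat.ofHom φ) (IsLocalRing.closedPoint K) =
      genericPoint (Spec (CommRingCat.of R)) := by
  rw [genericPoint_eq_bot_of_affine]
  apply PrimeSpectrum.ext
  have h0 : (IsLocalRing.closedPoint K).asIdeal = ⊥ := by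
    show IsLocalRing.maximalIdeal K = ⊥
    exact IsLocalRing.maximalIdeal_eq_bot
  show Ideal.comap φ (IsLocalRing.closedPoint K).asIdeal = ⊥
  rw [h0]
  exact (RingHom.injective_iff_ker_eq_bot _).mp hφ

/-- **Sections from properness.** -/
theorem exists_section_of_isProper (f : X ⟶ Y) (Z : Set X) (y : Y) (U : Y.Opens) (hyU : y ∈ U)
    (hC : IsClosed ((f ⁻¹ᵁ U).ι.base ⁻¹' closure Z))
    (hP : IsProper ((Scheme.IdealSheafData.vanishingIdeal
        (⟨(f ⁻¹ᵁ U).ι.base ⁻¹' closure Z, hC⟩ : Closeds ↥(f ⁻¹ᵁ U))).subschemeι ≫ (f ∣_ U)))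
    (A' : Type u) [CommRing A'] [IsDomain A'] [IsDiscreteValuationRing A']
    (g : Spec (CommRingCat.of A') ⟶ Y) (hg : g.base (IsLocalRing.closedPoint A') = y)
    (x' : ↥(pullback f g)) (hx'Z : (pullback.fst f g).base x' ∈ Z)
    (hx'η : (pullback.snd f g).base x' = genericPoint (Spec (CommRingCat.of A')))
    (hbij : Function.Bijective ((pullback.snd f g).residueFieldMap x').hom) :
    ∃ s : Spec (CommRingCat.of A') ⟶ pullback f g,
      s ≫ pullback.snd f g = 𝟙 _ ∧ x' ∈ Set.range s.base := by
  set I' : (f ⁻¹ᵁ U).toScheme.IdealSheafData := Scheme.IdealSheafData.vanishingIdeal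
    (⟨(f ⁻¹ᵁ U).ι.base ⁻¹' closure Z, hC⟩ : Closeds ↥(f ⁻¹ᵁ U)) with hI'
  -- `g` factors through `U`
  have hgU : ∀ a, g a ∈ U := by
    intro a
    have hsp : a ⤳ IsLocalRing.closedPoint A' := IsLocalRing.specializes_closedPoint a
    have h3 := hsp.map g.continuous
    rw [hg] at h3
    exact h3.mem_open U.2 hyU
  have hgU' : Set.range g ⊆ Set.range U.ι := by
    rintro _ ⟨a, rfl⟩
    rw [Scheme.Opens.range_ι]
    exact hgU a
  let g' : Spec (CommRingCat.of A') ⟶ U.toScheme := IsOpenImmersion.lift U.ι g hgU'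
  have hg' : g' ≫ U.ι = g := IsOpenImmersion.lift_fac _ _ _
  -- the rational point as a morphism from the fraction field
  let K := FractionRing A'
  have hgen : Spec.map (CommRingCat.ofHom (algebraMap A' K)) (IsLocalRing.closedPoint K) =
      (pullback.snd f g) x' := by
    rw [hx'η]
    exact specMap_closedPoint_of_injective _ (IsFractionRing.injective A' K)
  obtain ⟨c, hc⟩ := Groth.Agent.Lib.helper4.ValRefined.exists_residueField_factor K
    (Spec.map (CommRingCat.ofHom (algebraMap A' K))) _ hgen
  let e := RingEquiv.ofBijective _ hbij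
  let rinv : (pullback f g).residueField x' ⟶
      (Spec (CommRingCat.of A')).residueField ((pullback.snd f g) x') :=
    CommRingCat.ofHom e.symm.toRingHom
  have hrinv : (pullback.snd f g).residueFieldMap x' ≫ rinv = 𝟙 _ := by
    ext z
    exact e.symm_apply_apply z
  let i₁ : Spec (CommRingCat.of K) ⟶ pullback f g :=
    Spec.map (rinv ≫ c) ≫ (pullback f g).fromSpecResidueField x'
  have hi₁snd : i₁ ≫ pullback.snd f g = Spec.map (CommRingCat.ofHom (algebraMap A' K)) := by
    show (Spec.map (rinv ≫ c) ≫ (pullback f g).fromSpecResidueField x') ≫ pullback.snd f g = _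
    rw [Category.assoc, ← Scheme.Hom.SpecMap_residueFieldMap_fromSpecResidueField,
      ← Category.assoc, ← Spec.map_comp, ← Category.assoc, hrinv, Category.id_comp, hc]
  have hi₁pt : ∀ a, i₁ a = x' := by
    intro a
    show (Spec.map (rinv ≫ c) ≫ (pullback f g).fromSpecResidueField x') a = x'
    rw [Scheme.Hom.comp_apply]
    exact Scheme.fromSpecResidueField_apply _ _
  have hffst : f ((pullback.fst f g) x') = g ((pullback.snd f g) x') := by
    rw [← Scheme.Hom.comp_apply, ← Scheme.Hom.comp_apply, pullback.condition]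
  have hi₁U : Set.range (i₁ ≫ pullback.fst f g) ⊆ Set.range (f ⁻¹ᵁ U).ι := by
    rintro _ ⟨a, rfl⟩
    rw [Scheme.Opens.range_ι, Scheme.Hom.comp_apply, hi₁pt]
    show f ((pullback.fst f g) x') ∈ U
    rw [hffst]
    exact hgU _
  let i₁' : Spec (CommRingCat.of K) ⟶ (f ⁻¹ᵁ U).toScheme :=
    IsOpenImmersion.lift (f ⁻¹ᵁ U).ι (i₁ ≫ pullback.fst f g) hi₁U
  have hi₁' : i₁' ≫ (f ⁻¹ᵁ U).ι = i₁ ≫ pullback.fst f g := IsOpenImmersion.lift_fac _ _ _
  have hi₁'C : Set.range i₁' ⊆
      ((⟨(f ⁻¹ᵁ U).ι.base ⁻¹' closure Z, hC⟩ : Closeds ↥(f ⁻¹ᵁ U)) : Set ↥(f ⁻¹ᵁ U)) := by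
    rintro _ ⟨a, rfl⟩
    show (f ⁻¹ᵁ U).ι (i₁' a) ∈ closure Z
    rw [← Scheme.Hom.comp_apply, hi₁', Scheme.Hom.comp_apply, hi₁pt]
    exact subset_closure hx'Z
  obtain ⟨i₁'', hi₁''⟩ := exists_lift_subscheme i₁' _ hi₁'C
  -- the valuative criterion
  have hex : ValuativeCriterion.Existence (I'.subschemeι ≫ (f ∣_ U)) := by
    have h : UniversallyClosed (I'.subschemeι ≫ (f ∣_ U)) := inferInstance
    have := UniversallyClosed.eq_valuativeCriterion ▸ h
    exact this.1
  have hsq : i₁'' ≫ I'.subschemeι ≫ (f ∣_ U) =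
      Spec.map (CommRingCat.ofHom (algebraMap A' K)) ≫ g' := by
    rw [← Category.assoc, hi₁'', ← cancel_mono U.ι, Category.assoc, morphismRestrict_ι,
      ← Category.assoc, hi₁', Category.assoc, pullback.condition, ← Category.assoc, hi₁snd,
      Category.assoc, hg']
  let Sq : ValuativeCommSq (I'.subschemeι ≫ (f ∣_ U)) :=
    { R := A'
      K := K
      i₁ := i₁''
      i₂ := g'
      commSq := ⟨hsq⟩ }
  obtain ⟨⟨l⟩⟩ := hex Sq
  have hl1 : Spec.map (CommRingCat.ofHom (algebraMap A' K)) ≫ l.l = i₁'' := l.fac_left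
  have hl2 : l.l ≫ I'.subschemeι ≫ (f ∣_ U) = g' := l.fac_right
  have hlf : (l.l ≫ I'.subschemeι ≫ (f ⁻¹ᵁ U).ι) ≫ f = 𝟙 _ ≫ g := by
    rw [Category.id_comp, Category.assoc, Category.assoc, ← morphismRestrict_ι,
      ← Category.assoc I'.subschemeι, ← Category.assoc, hl2, hg']
  refine ⟨pullback.lift (l.l ≫ I'.subschemeι ≫ (f ⁻¹ᵁ U).ι) (𝟙 _) hlf,
    pullback.lift_snd _ _ _, ?_⟩
  have hs : Spec.map (CommRingCat.ofHom (algebraMap A' K)) ≫
      pullback.lift (l.l ≫ I'.subschemeι ≫ (f ⁻¹ᵁ U).ι) (𝟙 _) hlf = i₁ := by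
    apply pullback.hom_ext
    · rw [Category.assoc, pullback.lift_fst, ← Category.assoc, hl1, ← Category.assoc, hi₁'',
        hi₁']
    · rw [Category.assoc, pullback.lift_snd, Category.comp_id, hi₁snd]
  refine ⟨Spec.map (CommRingCat.ofHom (algebraMap A' K)) (IsLocalRing.closedPoint K), ?_⟩
  rw [← hi₁pt (IsLocalRing.closedPoint K), ← hs]
  rfl

/-- The closed subscheme cut out by the vanishing ideal of a closed set is reduced
(after `Groth.Agent.S2285`). -/
theorem isReduced_subscheme_vanishingIdeal (C : Closeds X) :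
    IsReduced (Scheme.IdealSheafData.vanishingIdeal C).subscheme := by
  have : ∀ i, IsReduced ((Scheme.IdealSheafData.vanishingIdeal C).subschemeCover.openCover.X i) := by
    intro (U : X.affineOpens)
    have hrad : ((Scheme.IdealSheafData.vanishingIdeal C).ideal U).IsRadical := by
      rw [Scheme.IdealSheafData.vanishingIdeal_ideal]
      exact PrimeSpectrum.isRadical_vanishingIdeal _
    have : _root_.IsReduced (Γ(X, U) ⧸ (Scheme.IdealSheafData.vanishingIdeal C).ideal U) :=
      (Ideal.isRadical_iff_quotient_reduced _).mp hrad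
    change IsReduced (Spec (.of (Γ(X, U) ⧸ (Scheme.IdealSheafData.vanishingIdeal C).ideal U)))
    infer_instance
  exact IsReduced.of_openCover _ (Scheme.IdealSheafData.vanishingIdeal C).subschemeCover.openCover

theorem range_subschemeι_vanishingIdeal (C : Closeds X) :
    Set.range (Scheme.IdealSheafData.vanishingIdeal C).subschemeι = (C : Set X) := by
  rw [Scheme.IdealSheafData.range_subschemeι, Scheme.IdealSheafData.coe_support_vanishingIdeal]

open Groth.Agent.Lib.helper4.GenFinite3 in
/-- Maximal points of the reduced induced subscheme on `closure Z` map into `Z`. -/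
theorem subschemeι_mem_of_isMaxPt (Z : Set X)
    (hZ : ∀ z ∈ closure Z, (∀ z' ∈ closure Z, z ∈ closure {z'} → z' = z) → z ∈ Z)
    (C : Closeds X) (hC : (C : Set X) = closure Z)
    (η : (Scheme.IdealSheafData.vanishingIdeal C).subscheme) (hη : IsMaxPt η) :
    (Scheme.IdealSheafData.vanishingIdeal C).subschemeι η ∈ Z := by
  have hr := range_subschemeι_vanishingIdeal C
  have hemb := (Scheme.IdealSheafData.vanishingIdeal C).subschemeι.isEmbedding
  refine hZ _ ?_ ?_
  · rw [← hC, ← hr]
    exact Set.mem_range_self η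
  · intro z' hz' hsp
    have hz'r : z' ∈ Set.range (Scheme.IdealSheafData.vanishingIdeal C).subschemeι := by
      rw [hr, hC]
      exact hz'
    obtain ⟨w', rfl⟩ := hz'r
    rw [← specializes_iff_mem_closure, hemb.isInducing.specializes_iff] at hsp
    rw [hη w' hsp]

open Groth.Agent.Lib.helper4.GenFinite3 in
/-- **DVR-lifting from sections.** -/
theorem dvrGenericAt_of_sections (f : X ⟶ Y) (Z : Set X)
    (hZ : ∀ z ∈ closure Z, (∀ z' ∈ closure Z, z ∈ closure {z'} → z' = z) → z ∈ Z) (y : Y)
    (C : Closeds X) (hC : (C : Set X) = closure Z)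
    (H : ∀ (A' : Type u) [CommRing A'] [IsDomain A'] [IsDiscreteValuationRing A']
      (g : Spec (CommRingCat.of A') ⟶ Y),
        g.base (IsLocalRing.closedPoint A') = y →
        ∀ x' : ↥(pullback f g), (pullback.fst f g).base x' ∈ Z →
          (pullback.snd f g).base x' = genericPoint (Spec (CommRingCat.of A')) →
          Function.Bijective ((pullback.snd f g).residueFieldMap x').hom →
          ∃ s : Spec (CommRingCat.of A') ⟶ pullback f g,
            s ≫ pullback.snd f g = 𝟙 _ ∧ x' ∈ Set.range s.base) :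
    DvrGenericAt ((Scheme.IdealSheafData.vanishingIdeal C).subschemeι ≫ f) y := by
  intro η hη A hA y' hy' hys
  haveI := hA
  have hηZ := subschemeι_mem_of_isMaxPt Z hZ C hC η hη
  let t₀ := (Scheme.IdealSheafData.vanishingIdeal C).subscheme.fromSpecResidueField η ≫
    (Scheme.IdealSheafData.vanishingIdeal C).subschemeι
  have hcond : t₀ ≫ f = Spec.map (CommRingCat.ofHom A.subtype) ≫ y' := by
    rw [Category.assoc]
    exact hy'.symm
  let t := pullback.lift t₀ (Spec.map (CommRingCat.ofHom A.subtype)) hcond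
  have htfst : t ≫ pullback.fst f y' = t₀ := pullback.lift_fst _ _ _
  have htsnd : t ≫ pullback.snd f y' = Spec.map (CommRingCat.ofHom A.subtype) :=
    pullback.lift_snd _ _ _
  set x' := t (IsLocalRing.closedPoint _) with hx'
  have hfstx' : (pullback.fst f y') x' =
      (Scheme.IdealSheafData.vanishingIdeal C).subschemeι η := by
    rw [hx', ← Scheme.Hom.comp_apply, htfst, Scheme.Hom.comp_apply,
      Scheme.fromSpecResidueField_apply]
  have hgenpt : Spec.map (CommRingCat.ofHom A.subtype) (IsLocalRing.closedPoint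
      ((Scheme.IdealSheafData.vanishingIdeal C).subscheme.residueField η)) =
      genericPoint (Spec (CommRingCat.of A)) :=
    specMap_closedPoint_of_injective A.subtype Subtype.val_injective
  have hsndx' : (pullback.snd f y') x' = genericPoint (Spec (CommRingCat.of A)) := by
    rw [hx', ← Scheme.Hom.comp_apply, htsnd]
    exact hgenpt
  have hbij := bijective_residueFieldMap A (pullback.snd f y') t htsnd
  obtain ⟨s, hs1, a, ha⟩ := H ↥A y' hys x' (hfstx' ▸ hηZ) hsndx' hbij
  have ha' : a = genericPoint (Spec (CommRingCat.of A)) := by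
    rw [← hsndx', ← ha, ← Scheme.Hom.comp_apply, hs1]
    rfl
  have hst : Spec.map (CommRingCat.ofHom A.subtype) ≫ s = t := by
    refine hom_ext_of_point (pullback.snd f y') _ _ x' ?_ rfl hbij.surjective ?_
    · rw [Scheme.Hom.comp_apply]
      refine (congrArg s (hgenpt.trans ha'.symm)).trans ha
    · rw [Category.assoc, hs1, Category.comp_id, htsnd]
  have hrange : Set.range (s ≫ pullback.fst f y') ⊆ (C : Set X) := by
    rintro _ ⟨b, rfl⟩
    have hsp : genericPoint (Spec (CommRingCat.of A)) ⤳ b := genericPoint_specializes b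
    have h1 := hsp.map (s ≫ pullback.fst f y').continuous
    refine h1.mem_closed C.isClosed ?_
    rw [Scheme.Hom.comp_apply, ← ha', ha, hfstx', hC]
    exact subset_closure hηZ
  obtain ⟨l, hl⟩ := exists_lift_subscheme (s ≫ pullback.fst f y') C hrange
  refine ⟨l, ?_, ?_⟩
  · rw [← Category.assoc, hl, Category.assoc, pullback.condition, ← Category.assoc, hs1,
      Category.id_comp]
  · rw [← cancel_mono (Scheme.IdealSheafData.vanishingIdeal C).subschemeι, Category.assoc, hl,
      ← Category.assoc, hst, htfst]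

/-- From properness of the restriction of the reduced induced structure on `closure Z` to
properness of the reduced induced structure on the trace of `closure Z`. -/
theorem isProper_trace (f : X ⟶ Y) [IsSeparated f] [LocallyOfFiniteType f] (Z : Set X)
    (C : Closeds X) (hC : (C : Set X) = closure Z) (U : Y.Opens)
    (hP : IsProper (((Scheme.IdealSheafData.vanishingIdeal C).subschemeι ≫ f) ∣_ U)) :
    ∃ hC' : IsClosed ((f ⁻¹ᵁ U).ι.base ⁻¹' closure Z),
      IsProper ((Scheme.IdealSheafData.vanishingIdeal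
        (⟨(f ⁻¹ᵁ U).ι.base ⁻¹' closure Z, hC'⟩ : Closeds ↥(f ⁻¹ᵁ U))).subschemeι ≫ (f ∣_ U)) := by
  have hC' : IsClosed ((f ⁻¹ᵁ U).ι.base ⁻¹' closure Z) :=
    isClosed_closure.preimage (f ⁻¹ᵁ U).ι.continuous
  refine ⟨hC', ?_⟩
  haveI := isReduced_subscheme_vanishingIdeal C
  set I' : (f ⁻¹ᵁ U).toScheme.IdealSheafData := Scheme.IdealSheafData.vanishingIdeal
    (⟨(f ⁻¹ᵁ U).ι.base ⁻¹' closure Z, hC'⟩ : Closeds ↥(f ⁻¹ᵁ U)) with hI'
  let k := (Scheme.IdealSheafData.vanishingIdeal C).subschemeι ∣_ (f ⁻¹ᵁ U)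
  have hrk : Set.range k = (f ⁻¹ᵁ U).ι.base ⁻¹' closure Z := by
    show Set.range ⇑((Scheme.IdealSheafData.vanishingIdeal C).subschemeι ∣_ (f ⁻¹ᵁ U)) = _
    rw [morphismRestrict_base, Set.range_restrictPreimage, range_subschemeι_vanishingIdeal, hC]
    rfl
  have H : I'.subschemeι.ker ≤ k.ker := by
    rw [Scheme.IdealSheafData.ker_subschemeι]
    exact vanishingIdeal_le_ker_of_range_subset k _ hrk.le
  let k' := IsClosedImmersion.lift I'.subschemeι k H
  have hk' : k' ≫ I'.subschemeι = k := IsClosedImmersion.lift_fac _ _ _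
  have hsurj : Surjective k' := by
    constructor
    intro w
    have hw : I'.subschemeι w ∈ Set.range k := by
      rw [hrk]
      have := Set.mem_range_self (f := I'.subschemeι) w
      rw [range_subschemeι_vanishingIdeal] at this
      exact this
    obtain ⟨v, hv⟩ := hw
    refine ⟨v, I'.subschemeι.isEmbedding.injective ?_⟩
    rw [← hv, ← hk']
    rfl
  have h2 : IsProper (k ≫ f ∣_ U) := by
    have := hP
    rw [morphismRestrict_comp] at this
    exact this
  rw [← hk', Category.assoc] at h2
  have h3 : UniversallyClosed (I'.subschemeι ≫ f ∣_ U) :=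
    UniversallyClosed.of_comp_surjective k' _
  exact { }

/-- **EGA IV 15.7.?-type criterion**: the closure of `Z` is proper over `Y` at `y` iff rational
points of generic fibres over discrete valuation rings centred at `y`, projecting into `Z`,
extend to sections. -/
theorem closure_proper_at_iff [IsNoetherian Y] (f : X ⟶ Y) [IsSeparated f]
    [LocallyOfFiniteType f] [QuasiCompact f] (Z : Set X)
    (hZ : ∀ z ∈ closure Z, (∀ z' ∈ closure Z, z ∈ closure {z'} → z' = z) → z ∈ Z) (y : Y) :
    (∃ U : Y.Opens, y ∈ U ∧ ∃ hC : IsClosed ((f ⁻¹ᵁ U).ι.base ⁻¹' closure Z),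
      IsProper ((Scheme.IdealSheafData.vanishingIdeal
        (⟨(f ⁻¹ᵁ U).ι.base ⁻¹' closure Z, hC⟩ : Closeds ↥(f ⁻¹ᵁ U))).subschemeι ≫ (f ∣_ U))) ↔
      ∀ (A' : Type u) [CommRing A'] [IsDomain A'] [IsDiscreteValuationRing A']
        (g : Spec (CommRingCat.of A') ⟶ Y),
        g.base (IsLocalRing.closedPoint A') = y →
        ∀ x' : ↥(pullback f g), (pullback.fst f g).base x' ∈ Z →
          (pullback.snd f g).base x' = genericPoint (Spec (CommRingCat.of A')) →
          Function.Bijective ((pullback.snd f g).residueFieldMap x').hom →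
          ∃ s : Spec (CommRingCat.of A') ⟶ pullback f g,
            s ≫ pullback.snd f g = 𝟙 _ ∧ x' ∈ Set.range s.base := by
  constructor
  · rintro ⟨U, hyU, hC, hP⟩ A' _ _ _ g hg x' h1 h2 h3
    exact exists_section_of_isProper f Z y U hyU hC hP A' g hg x' h1 h2 h3
  · intro H
    let C : Closeds X := ⟨closure Z, isClosed_closure⟩
    have hD := dvrGenericAt_of_sections f Z hZ y C rfl H
    obtain ⟨U, hyU, hU⟩ := exists_isProper_restrict
      ((Scheme.IdealSheafData.vanishingIdeal C).subschemeι ≫ f) y hD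
    obtain ⟨hC', hP⟩ := isProper_trace f Z C rfl U hU
    exact ⟨U, hyU, hC', hP⟩

end Groth.Agent.Lib.helper4.ClosureProper
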