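import Mathlib.FieldTheory.Galois.Basic
import Mathlib.FieldTheory.Fixed
import Mathlib.RingTheory.TensorProduct.Free
import Mathlib.LinearAlgebra.Dual.Lemmas
import Mathlib.LinearAlgebra.TensorProduct.Tower
import Mathlib.RingTheory.Flat.Basic

/-!
# Galois descent for vector spaces (helper library of seat helper4)

`K / k` a finite Galois extension with group `Γ = K ≃ₐ[k] K`.

* `dedekind_module`: if `d : Γ → N` (`N` a `K`-vector space) satisfies `∑ σ, σ c • d σ = 0` for all `c : K`
  then `d = 0` (Dedekind independence of characters, module version).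
* `fixed_tensor_iff`: the vectors of `K ⊗[k] W` fixed by `Γ` (acting through the left factor) are exactly
  the `1 ⊗ w`.
* `descent_bijective`: for a semilinear action `ρ` of `Γ` on a `K`-vector space `M` and an injective
  `k`-linear map `ι : W → M` whose range is the set of `ρ`-fixed vectors, the `K`-linear map
  `K ⊗[k] W → M`, `c ⊗ w ↦ c • ι w` is bijective.
-/

set_option autoImplicit false

open scoped TensorProduct

namespace Groth.Agent.Lib.helper4

section Dedekind

variable {k : Type*} {K : Type*} [Field k] [Field K] [Algebra k K] [FiniteDimensional k K]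

/-- Dedekind's independence of characters for the `k`-automorphisms of `K`, scalar version. -/
theorem dedekind_scalar (d : (K ≃ₐ[k] K) → K) (h : ∀ c : K, ∑ σ : K ≃ₐ[k] K, d σ * σ c = 0) :
    ∀ σ, d σ = 0 := by
  have li := linearIndependent_toLinearMap k K K
  have li' : LinearIndependent K
      (fun σ : K ≃ₐ[k] K => ((σ : K →ₐ[k] K).toLinearMap : K →ₗ[k] K)) :=
    li.comp (fun σ : K ≃ₐ[k] K => (σ : K →ₐ[k] K)) (fun σ τ hστ => by
      apply AlgEquiv.ext; intro x; exact DFunLike.congr_fun hστ x)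
  refine Fintype.linearIndependent_iff.mp li' d ?_
  apply LinearMap.ext
  intro c
  simpa [LinearMap.sum_apply] using h c

/-- Dedekind's independence of characters, with coefficients in a `K`-vector space. -/
theorem dedekind_module {N : Type*} [AddCommGroup N] [Module K N] (d : (K ≃ₐ[k] K) → N)
    (h : ∀ c : K, ∑ σ : K ≃ₐ[k] K, σ c • d σ = 0) : ∀ σ, d σ = 0 := by
  intro σ
  rw [← Module.forall_dual_apply_eq_zero_iff K (d σ)]
  intro φ
  refine dedekind_scalar (fun τ => φ (d τ)) (fun c => ?_) σ
  have := congrArg φ (h c)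
  simpa [map_sum, mul_comm] using this

end Dedekind

section FixedTensor

variable {k : Type*} {K : Type*} [Field k] [Field K] [Algebra k K]
variable {W : Type*} [AddCommGroup W] [Module k W]

theorem basis_repr_smul {I : Type*} (b : Module.Basis I k W) (σ : K ≃ₐ[k] K) (x : K ⊗[k] W) (i : I) :
    (Algebra.TensorProduct.basis K b).repr (σ • x) i =
      σ ((Algebra.TensorProduct.basis K b).repr x i) := by
  induction x using TensorProduct.induction_on with
  | zero => simp
  | tmul c w =>
    rw [TensorProduct.smul_tmul', Algebra.TensorProduct.basis_repr_tmul,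
      Algebra.TensorProduct.basis_repr_tmul]
    simp
  | add x y hx hy => simp only [smul_add, map_add, Finsupp.add_apply, hx, hy]

theorem smul_smul_tensor (σ : K ≃ₐ[k] K) (d : K) (z : K ⊗[k] W) :
    σ • (d • z) = σ d • (σ • z) := by
  induction z using TensorProduct.induction_on with
  | zero => simp
  | tmul c w =>
    simp only [TensorProduct.smul_tmul', smul_eq_mul, AlgEquiv.smul_def, map_mul]
  | add x y hx hy => simp only [smul_add, hx, hy]

variable [FiniteDimensional k K] [IsGalois k K]

/-- The vectors of `K ⊗[k] W` fixed by the Galois group acting through the left factor are the `1 ⊗ w`. -/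
theorem fixed_tensor_iff (x : K ⊗[k] W) :
    (∀ σ : K ≃ₐ[k] K, σ • x = x) ↔ ∃ w : W, (1 : K) ⊗ₜ[k] w = x := by
  constructor
  · intro hx
    classical
    let b := Module.Free.chooseBasis k W
    let B := Algebra.TensorProduct.basis K b
    have hfix : ∀ i, B.repr x i ∈ Set.range (algebraMap k K) := by
      intro i
      rw [IsGalois.mem_range_algebraMap_iff_fixed]
      intro σ
      rw [← basis_repr_smul b σ x i, hx σ]
    choose r hr using hfix
    refine ⟨∑ i ∈ (B.repr x).support, r i • b i, ?_⟩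
    rw [TensorProduct.tmul_sum]
    conv_rhs => rw [← B.linearCombination_repr x, Finsupp.linearCombination_apply, Finsupp.sum]
    refine Finset.sum_congr rfl fun i _ => ?_
    rw [TensorProduct.tmul_smul, ← hr i, algebraMap_smul, Algebra.TensorProduct.basis_apply]
  · rintro ⟨w, rfl⟩ σ
    rw [TensorProduct.smul_tmul']
    simp

omit [FiniteDimensional k K] [IsGalois k K] in
theorem one_tmul_injective : Function.Injective (fun w : W => (1 : K) ⊗ₜ[k] w) :=
  Module.Flat.tensorProduct_mk_injective k W K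

variable {W' : Type*} [AddCommGroup W'] [Module k W']

/-- A `K`-linear isomorphism `K ⊗ W ≃ K ⊗ W'` commuting with the Galois action descends to `W ≃ W'`. -/
theorem exists_linearEquiv_of_equivariant (H : K ⊗[k] W ≃ₗ[K] K ⊗[k] W')
    (hH : ∀ (σ : K ≃ₐ[k] K) (y : K ⊗[k] W), H (σ • y) = σ • H y) :
    ∃ e : W ≃ₗ[k] W', ∀ w, (1 : K) ⊗ₜ[k] e w = H (1 ⊗ₜ[k] w) := by
  have hH' : ∀ (σ : K ≃ₐ[k] K) (y : K ⊗[k] W'), H.symm (σ • y) = σ • H.symm y := by
    intro σ y
    apply H.injective
    rw [hH, H.apply_symm_apply, H.apply_symm_apply]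
  have h1 : ∀ w : W, ∃ w' : W', (1 : K) ⊗ₜ[k] w' = H (1 ⊗ₜ[k] w) := fun w =>
    (fixed_tensor_iff _).mp fun σ => by
      rw [← hH, TensorProduct.smul_tmul']; simp
  have h2 : ∀ w' : W', ∃ w : W, (1 : K) ⊗ₜ[k] w = H.symm (1 ⊗ₜ[k] w') := fun w' =>
    (fixed_tensor_iff _).mp fun σ => by
      rw [← hH', TensorProduct.smul_tmul']; simp
  choose f hf using h1
  choose f' hf' using h2
  refine ⟨{ toFun := f, invFun := f', map_add' := ?_, map_smul' := ?_, left_inv := ?_, right_inv := ?_ },
    hf⟩
  · intro x y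
    apply one_tmul_injective (k := k) (K := K)
    simp only [hf, TensorProduct.tmul_add, map_add]
  · intro r x
    apply one_tmul_injective (k := k) (K := K)
    simp only [hf, TensorProduct.tmul_smul, RingHom.id_apply]
    rw [← algebraMap_smul K r ((1 : K) ⊗ₜ[k] x), map_smul, algebraMap_smul]
  · intro x
    apply one_tmul_injective (k := k) (K := K)
    simp only [hf', hf, H.symm_apply_apply]
  · intro x
    apply one_tmul_injective (k := k) (K := K)
    simp only [hf', hf, H.apply_symm_apply]

end FixedTensor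

section FixedTensorAlg

variable {k : Type*} {K : Type*} [Field k] [Field K] [Algebra k K] [FiniteDimensional k K] [IsGalois k K]
variable {A : Type*} [Ring A] [Algebra k A] {A' : Type*} [Ring A'] [Algebra k A']

/-- A `K`-algebra isomorphism `K ⊗ A ≃ K ⊗ A'` commuting with the Galois action descends to `A ≃ A'`. -/
theorem exists_algEquiv_of_equivariant (H : K ⊗[k] A ≃ₐ[K] K ⊗[k] A')
    (hH : ∀ (σ : K ≃ₐ[k] K) (y : K ⊗[k] A), H (σ • y) = σ • H y) :
    ∃ e : A ≃ₐ[k] A', ∀ a, (1 : K) ⊗ₜ[k] e a = H (1 ⊗ₜ[k] a) := by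
  obtain ⟨e, he⟩ := exists_linearEquiv_of_equivariant H.toLinearEquiv hH
  have he' : ∀ a, (1 : K) ⊗ₜ[k] e a = H (1 ⊗ₜ[k] a) := he
  refine ⟨AlgEquiv.ofLinearEquiv e ?_ ?_, he'⟩
  · apply one_tmul_injective (k := k) (K := K)
    simp only [he']
    exact map_one H
  · intro x y
    apply one_tmul_injective (k := k) (K := K)
    simp only [he']
    rw [← one_mul (1 : K), ← Algebra.TensorProduct.tmul_mul_tmul, map_mul, ← he', ← he',
      Algebra.TensorProduct.tmul_mul_tmul]

end FixedTensorAlg

section Descent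

variable {k : Type*} {K : Type*} [Field k] [Field K] [Algebra k K] [FiniteDimensional k K] [IsGalois k K]
variable {M : Type*} [AddCommGroup M] [Module K M] [Module k M] [IsScalarTower k K M]
variable {W : Type*} [AddCommGroup W] [Module k W]

omit [IsGalois k K] [Module K M] [Module k M] [IsScalarTower k K M] in
/-- The averaged vector `∑ σ, ρ σ y` is fixed by the action. -/
theorem rho_sum_fixed (ρ : (K ≃ₐ[k] K) → M →+ M)
    (hmul : ∀ σ τ x, ρ (σ * τ) x = ρ σ (ρ τ x)) (y : M) (τ : K ≃ₐ[k] K) :
    ρ τ (∑ σ : K ≃ₐ[k] K, ρ σ y) = ∑ σ : K ≃ₐ[k] K, ρ σ y := by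
  rw [map_sum]
  simp_rw [← hmul]
  exact Fintype.sum_equiv (Equiv.mulLeft τ) _ _ (fun σ => rfl)

omit [FiniteDimensional k K] [IsGalois k K] in
/-- The map `K ⊗[k] W → M`, `c ⊗ w ↦ c • ι w` intertwines the action through the left factor with a
semilinear action `ρ` fixing the image of `ι`. -/
theorem liftBaseChange_equivariant (ρ : (K ≃ₐ[k] K) → M →+ M)
    (hsemi : ∀ σ (c : K) x, ρ σ (c • x) = σ c • ρ σ x)
    (ι : W →ₗ[k] M) (hfixι : ∀ σ w, ρ σ (ι w) = ι w) (σ : K ≃ₐ[k] K) (z : K ⊗[k] W) :
    ι.liftBaseChange K (σ • z) = ρ σ (ι.liftBaseChange K z) := by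
  induction z using TensorProduct.induction_on with
  | zero => simp
  | tmul c w =>
    rw [TensorProduct.smul_tmul', LinearMap.liftBaseChange_tmul, LinearMap.liftBaseChange_tmul,
      hsemi, hfixι]
    rfl
  | add x y hx hy => simp only [smul_add, map_add, hx, hy]

/-- **Galois descent**: for a semilinear action `ρ` of `Γ = K ≃ₐ[k] K` on the `K`-vector space `M`, and an
injective `k`-linear `ι : W → M` with range the `ρ`-fixed vectors, `K ⊗[k] W → M` is bijective. -/
theorem descent_bijective (ρ : (K ≃ₐ[k] K) → M →+ M)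
    (hone : ∀ x, ρ 1 x = x)
    (hmul : ∀ σ τ x, ρ (σ * τ) x = ρ σ (ρ τ x))
    (hsemi : ∀ σ (c : K) x, ρ σ (c • x) = σ c • ρ σ x)
    (ι : W →ₗ[k] M) (hι : Function.Injective ι)
    (hrange : ∀ x, x ∈ LinearMap.range ι ↔ ∀ σ, ρ σ x = x) :
    Function.Bijective (ι.liftBaseChange K) := by
  have hfixι : ∀ σ w, ρ σ (ι w) = ι w := fun σ w => (hrange (ι w)).mp ⟨w, rfl⟩ σ
  -- equivariance of `μ`
  have hequiv : ∀ (σ : K ≃ₐ[k] K) (z : K ⊗[k] W),
      ι.liftBaseChange K (σ • z) = ρ σ (ι.liftBaseChange K z) :=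
    liftBaseChange_equivariant ρ hsemi ι hfixι
  constructor
  · -- injectivity
    rw [injective_iff_map_eq_zero]
    intro z hz
    -- the averages `T d = ∑ σ, σ • (d • z)` all vanish
    have hT : ∀ d : K, ∑ σ : K ≃ₐ[k] K, σ • (d • z) = 0 := by
      intro d
      have hfix : ∀ τ : K ≃ₐ[k] K, τ • (∑ σ : K ≃ₐ[k] K, σ • (d • z)) = ∑ σ : K ≃ₐ[k] K, σ • (d • z) := by
        intro τ
        rw [Finset.smul_sum]
        simp_rw [← mul_smul]
        exact Fintype.sum_equiv (Equiv.mulLeft τ) _ _ (fun σ => rfl)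
      obtain ⟨w, hw⟩ := (fixed_tensor_iff _).mp hfix
      have h0 : ι.liftBaseChange K (∑ σ : K ≃ₐ[k] K, σ • (d • z)) = 0 := by
        rw [map_sum]
        refine Finset.sum_eq_zero fun σ _ => ?_
        rw [hequiv, map_smul, hz, smul_zero, map_zero]
      rw [← hw, LinearMap.liftBaseChange_tmul, one_smul] at h0
      have : w = 0 := hι (by rw [h0, map_zero])
      rw [← hw, this, TensorProduct.tmul_zero]
    have hT' : ∀ d : K, ∑ σ : K ≃ₐ[k] K, σ d • (σ • z) = 0 := by
      intro d
      rw [← hT d]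
      refine Finset.sum_congr rfl fun σ _ => ?_
      rw [smul_smul_tensor σ d z]
    have := dedekind_module (fun σ : K ≃ₐ[k] K => σ • z) hT' 1
    simpa using this
  · -- surjectivity
    intro x
    let N : Submodule K M := LinearMap.range (ι.liftBaseChange K)
    change x ∈ N
    rw [← Submodule.Quotient.mk_eq_zero]
    have hd : ∀ c : K, ∑ σ : K ≃ₐ[k] K, σ c • (N.mkQ (ρ σ x)) = 0 := by
      intro c
      have hmem : (∑ σ : K ≃ₐ[k] K, ρ σ (c • x)) ∈ N := by
        have hfix := rho_sum_fixed ρ hmul (c • x)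
        obtain ⟨w, hw⟩ := (hrange _).mpr hfix
        exact ⟨1 ⊗ₜ w, by rw [LinearMap.liftBaseChange_tmul, one_smul, hw]⟩
      have := (Submodule.Quotient.mk_eq_zero N).mpr hmem
      rw [← this]
      change _ = N.mkQ _
      rw [map_sum]
      refine Finset.sum_congr rfl fun σ _ => ?_
      rw [hsemi, map_smul]
    have := dedekind_module (fun σ : K ≃ₐ[k] K => N.mkQ (ρ σ x)) hd 1
    simpa [hone] using this

end Descent

end Groth.Agent.Lib.helper4
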