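import Mathlib
set_option backward.isDefEq.respectTransparency false
set_option backward.isDefEq.respectTransparency.types false
set_option autoImplicit false
set_option linter.style.haveILetI false

open AlgebraicGeometry CategoryTheory

universe u

namespace Groth.Agent.Lib.helper4.LocImm

/-- Spreading out surjectivity on local rings for a ring map of finite type (elementwise form). -/
theorem exists_spread_surjective {A B : Type*} [CommRing A] [CommRing B] (φ : A →+* B)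
    (hφ : φ.FiniteType) (q : Ideal B) [q.IsPrime]
    (H : ∀ b : B, ∃ a t : A, ∃ u : B, φ t ∉ q ∧ u ∉ q ∧ u * (φ t * b - φ a) = 0) :
    ∃ (t₀ : A) (u₀ : B), φ t₀ ∉ q ∧ u₀ ∉ q ∧
      (∀ b : B, ∃ (a : A) (n m : ℕ), (φ t₀ * u₀) ^ m * (φ t₀ ^ n * b - φ a) = 0) ∧
      ∃ (a : A) (n m : ℕ), (φ t₀ * u₀) ^ m * (φ t₀ ^ n - φ a * u₀) = 0 := by
  classical
  letI := φ.toAlgebra
  obtain ⟨s, hs⟩ := (hφ : Algebra.FiniteType A B).out
  choose a t u ht hu hH using H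
  let t₁ : A := ∏ b ∈ s, t b
  let u₁ : B := ∏ b ∈ s, u b
  have ht₁ : φ t₁ ∉ q := by
    rw [map_prod]
    intro h
    obtain ⟨b, -, hb⟩ := (Ideal.IsPrime.prod_mem_iff.mp h)
    exact ht b hb
  have hu₁ : u₁ ∉ q := by
    intro h
    obtain ⟨b, -, hb⟩ := (Ideal.IsPrime.prod_mem_iff.mp h)
    exact hu b hb
  let g₁ : B := φ t₁ * u₁
  -- the predicate
  let C : B → Prop := fun b => ∃ (a : A) (n m : ℕ), g₁ ^ m * (φ t₁ ^ n * b - φ a) = 0
  have hCgen : ∀ b ∈ s, C b := by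
    intro b hb
    refine ⟨a b * ∏ b' ∈ s.erase b, t b', 1, 1, ?_⟩
    have h1 : t₁ = t b * ∏ b' ∈ s.erase b, t b' := (Finset.mul_prod_erase s t hb).symm
    have h2 : u₁ = u b * ∏ b' ∈ s.erase b, u b' := (Finset.mul_prod_erase s u hb).symm
    have h3 := hH b
    have : g₁ ^ 1 * (φ t₁ ^ 1 * b - φ (a b * ∏ b' ∈ s.erase b, t b')) =
        φ t₁ * (∏ b' ∈ s.erase b, u b') * φ (∏ b' ∈ s.erase b, t b') *
          (u b * (φ (t b) * b - φ (a b))) := by
      simp only [g₁, pow_one, map_mul]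
      rw [h2]
      conv_lhs => rw [show φ t₁ = φ t₁ from rfl]
      have h4 : φ t₁ * b = φ (t b) * φ (∏ b' ∈ s.erase b, t b') * b := by
        rw [h1, map_mul]
      rw [h4]
      ring
    rw [this, h3, mul_zero]
  have hCall : ∀ b : B, C b := by
    intro b
    have hb : b ∈ Algebra.adjoin A (s : Set B) := by rw [hs]; trivial
    induction hb using Algebra.adjoin_induction with
    | mem x hx => exact hCgen x hx
    | algebraMap r =>
      refine ⟨r, 0, 0, ?_⟩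
      show g₁ ^ 0 * (φ t₁ ^ 0 * φ r - φ r) = 0
      simp
    | add x y _ _ hx hy =>
      obtain ⟨ax, nx, mx, hx⟩ := hx
      obtain ⟨ay, ny, my, hy⟩ := hy
      refine ⟨t₁ ^ ny * ax + t₁ ^ nx * ay, nx + ny, mx + my, ?_⟩
      have : g₁ ^ (mx + my) * (φ t₁ ^ (nx + ny) * (x + y) - φ (t₁ ^ ny * ax + t₁ ^ nx * ay)) =
          g₁ ^ my * φ t₁ ^ ny * (g₁ ^ mx * (φ t₁ ^ nx * x - φ ax)) +
          g₁ ^ mx * φ t₁ ^ nx * (g₁ ^ my * (φ t₁ ^ ny * y - φ ay)) := by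
        simp only [map_add, map_mul, map_pow]
        ring
      rw [this, hx, hy]
      simp
    | mul x y _ _ hx hy =>
      obtain ⟨ax, nx, mx, hx⟩ := hx
      obtain ⟨ay, ny, my, hy⟩ := hy
      refine ⟨ax * ay, nx + ny, mx + my, ?_⟩
      have : g₁ ^ (mx + my) * (φ t₁ ^ (nx + ny) * (x * y) - φ (ax * ay)) =
          g₁ ^ my * φ t₁ ^ ny * y * (g₁ ^ mx * (φ t₁ ^ nx * x - φ ax)) +
          g₁ ^ mx * φ ax * (g₁ ^ my * (φ t₁ ^ ny * y - φ ay)) := by
        simp only [map_mul]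
        ring
      rw [this, hx, hy]
      simp
  obtain ⟨α, n, m, hα⟩ := hCall u₁
  have hαq : φ α ∉ q := by
    intro h
    have h1 : g₁ ^ m * (φ t₁ ^ n * u₁) ∈ q := by
      have : g₁ ^ m * (φ t₁ ^ n * u₁) = g₁ ^ m * (φ t₁ ^ n * u₁ - φ α) + g₁ ^ m * φ α := by ring
      rw [this, hα, zero_add]
      exact q.mul_mem_left _ h
    have hg₁ : g₁ ∉ q := fun h => (Ideal.IsPrime.mem_or_mem ‹_› h).elim ht₁ hu₁
    rcases Ideal.IsPrime.mem_or_mem ‹_› h1 with h2 | h2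
    · exact hg₁ (Ideal.IsPrime.mem_of_pow_mem ‹_› _ h2)
    · rcases Ideal.IsPrime.mem_or_mem ‹_› h2 with h3 | h3
      · exact ht₁ (Ideal.IsPrime.mem_of_pow_mem ‹_› _ h3)
      · exact hu₁ h3
  refine ⟨t₁ * α, u₁, ?_, hu₁, ?_, ?_⟩
  · rw [map_mul]
    intro h
    exact (Ideal.IsPrime.mem_or_mem ‹_› h).elim ht₁ hαq
  · intro b
    obtain ⟨ab, nb, mb, hb⟩ := hCall b
    refine ⟨α ^ nb * ab, nb, mb, ?_⟩
    have : (φ (t₁ * α) * u₁) ^ mb * (φ (t₁ * α) ^ nb * b - φ (α ^ nb * ab)) =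
        φ α ^ mb * φ α ^ nb * (g₁ ^ mb * (φ t₁ ^ nb * b - φ ab)) := by
      simp only [map_mul, map_pow, g₁]
      ring
    rw [this, hb, mul_zero]
  · refine ⟨t₁ ^ (n + 1), 1, m, ?_⟩
    have : (φ (t₁ * α) * u₁) ^ m * (φ (t₁ * α) ^ 1 - φ (t₁ ^ (n + 1)) * u₁) =
        - (φ α ^ m * φ t₁ * (g₁ ^ m * (φ t₁ ^ n * u₁ - φ α))) := by
      simp only [map_mul, map_pow, g₁]
      ring
    rw [this, hα, mul_zero, neg_zero]


/-- The elementwise conditions of `exists_spread_surjective` give surjectivity of the induced map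
on localizations. -/
theorem surjective_of_spread {A B A' B' : Type*} [CommRing A] [CommRing B] [CommRing A']
    [CommRing B'] (φ : A →+* B) (t₀ : A) (u₀ : B) [Algebra A A'] [Algebra B B']
    [IsLocalization.Away t₀ A'] [IsLocalization.Away (φ t₀ * u₀) B'] (ψ : A' →+* B')
    (hψ : ψ.comp (algebraMap A A') = (algebraMap B B').comp φ)
    (h1 : ∀ b : B, ∃ (a : A) (n m : ℕ), (φ t₀ * u₀) ^ m * (φ t₀ ^ n * b - φ a) = 0)
    (h2 : ∃ (a : A) (n m : ℕ), (φ t₀ * u₀) ^ m * (φ t₀ ^ n - φ a * u₀) = 0) :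
    Function.Surjective ψ := by
  have hψ' : ∀ a : A, ψ (algebraMap A A' a) = algebraMap B B' (φ a) := fun a =>
    congrArg (fun f : A →+* B' => f a) hψ
  have hgunit : IsUnit (algebraMap B B' (φ t₀ * u₀)) :=
    IsLocalization.Away.algebraMap_isUnit (φ t₀ * u₀)
  have htunit : IsUnit (algebraMap A A' t₀) := IsLocalization.Away.algebraMap_isUnit t₀
  obtain ⟨τ, hτ⟩ := htunit.exists_right_inv
  -- images of elements of `B`
  have hB : ∀ b : B, algebraMap B B' b ∈ ψ.range := by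
    intro b
    obtain ⟨a, n, m, h⟩ := h1 b
    have h3 := congrArg (algebraMap B B') h
    rw [map_mul, map_pow, map_zero] at h3
    have h4 : algebraMap B B' (φ t₀ ^ n * b - φ a) = 0 :=
      (hgunit.pow m).mul_right_eq_zero.mp h3
    rw [map_sub, map_mul, map_pow, sub_eq_zero, ← hψ', ← hψ'] at h4
    refine ⟨τ ^ n * algebraMap A A' a, ?_⟩
    rw [map_mul, map_pow, ← h4, ← mul_assoc, ← map_pow, ← map_pow, ← map_mul, ← mul_pow,
      mul_comm τ, hτ, one_pow, map_one, one_mul]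
  -- the inverse of `u₀`
  have hu : ∃ w : A', ψ w * algebraMap B B' u₀ = 1 := by
    obtain ⟨a, n, m, h⟩ := h2
    have h3 := congrArg (algebraMap B B') h
    rw [map_mul, map_pow, map_zero] at h3
    have h4 : algebraMap B B' (φ t₀ ^ n - φ a * u₀) = 0 :=
      (hgunit.pow m).mul_right_eq_zero.mp h3
    rw [map_sub, map_mul, map_pow, sub_eq_zero, ← hψ', ← hψ'] at h4
    refine ⟨τ ^ n * algebraMap A A' a, ?_⟩
    rw [map_mul, mul_assoc, ← h4, ← map_pow, ← map_mul, ← mul_pow, mul_comm τ, hτ, one_pow,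
      map_one]
  obtain ⟨w, hw⟩ := hu
  intro z
  obtain ⟨b, ⟨_, k, rfl⟩, rfl⟩ := IsLocalization.exists_mk'_eq (Submonoid.powers (φ t₀ * u₀)) z
  obtain ⟨c, hc⟩ := hB b
  refine ⟨c * (τ * w) ^ k, ?_⟩
  rw [IsLocalization.eq_mk'_iff_mul_eq, map_mul, map_pow, map_mul, hc]
  simp only [map_pow, map_mul]
  have h5 : ψ τ * algebraMap B B' (φ t₀) = 1 := by
    rw [← hψ', ← map_mul, mul_comm, hτ, map_one]
  calc algebraMap B B' b * (ψ τ * ψ w) ^ k * (algebraMap B B' (φ t₀) * algebraMap B B' u₀) ^ k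
      = algebraMap B B' b * ((ψ τ * algebraMap B B' (φ t₀)) * (ψ w * algebraMap B B' u₀)) ^ k := by
        ring
    _ = algebraMap B B' b := by rw [h5, hw, one_mul, one_pow, mul_one]


theorem stalkMap_germ_appLE {X Y : Scheme.{u}} (f : X ⟶ Y) (W : Y.Opens) (U₀ : X.Opens)
    (e : U₀ ≤ f ⁻¹ᵁ W) (x : X) (hx : x ∈ U₀) (c : Γ(Y, W)) :
    f.stalkMap x (Y.presheaf.germ W (f x) (e hx) c) =
      X.presheaf.germ U₀ x hx (f.appLE W U₀ e c) := by
  rw [Scheme.Hom.germ_stalkMap_apply]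
  simp only [Scheme.Hom.appLE, CommRingCat.comp_apply]
  rw [TopCat.Presheaf.germ_res_apply]

theorem mem_primeIdealOf_iff {Y : Scheme.{u}} {U : Y.Opens} (hU : IsAffineOpen U) (y : Y)
    (hy : y ∈ U) (a : Γ(Y, U)) :
    a ∈ (hU.primeIdealOf ⟨y, hy⟩).asIdeal ↔ y ∉ Y.basicOpen a := by
  haveI := hU.isLocalization_stalk ⟨y, hy⟩
  letI := TopCat.Presheaf.algebra_section_stalk Y.presheaf (⟨y, hy⟩ : U)
  rw [← Y.evaluation_eq_zero_iff_notMem_basicOpen y hy]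
  have h1 : Y.evaluation U y hy a =
      IsLocalRing.residue (Y.presheaf.stalk y) (algebraMap Γ(Y, U) (Y.presheaf.stalk y) a) := rfl
  rw [h1, IsLocalRing.residue_eq_zero_iff,
    IsLocalization.AtPrime.to_map_mem_maximal_iff (Y.presheaf.stalk y)
      (hU.primeIdealOf ⟨y, hy⟩).asIdeal]

/-- The elementwise hypothesis of `exists_spread_surjective` from surjectivity of the stalk map. -/
theorem hyp_of_stalkMap_surjective {X Y : Scheme.{u}} (f : X ⟶ Y) {W : Y.Opens}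
    (hW : IsAffineOpen W) {U₀ : X.Opens} (hU₀ : IsAffineOpen U₀) (e : U₀ ≤ f ⁻¹ᵁ W) (x : X)
    (hx : x ∈ U₀) (hsurj : Function.Surjective (f.stalkMap x)) (b : Γ(X, U₀)) :
    ∃ (a t : Γ(Y, W)) (u : Γ(X, U₀)),
      (f.appLE W U₀ e).hom t ∉ (hU₀.primeIdealOf ⟨x, hx⟩).asIdeal ∧
      u ∉ (hU₀.primeIdealOf ⟨x, hx⟩).asIdeal ∧
      u * ((f.appLE W U₀ e).hom t * b - (f.appLE W U₀ e).hom a) = 0 := by
  haveI hlocY := hW.isLocalization_stalk ⟨f x, e hx⟩
  letI := TopCat.Presheaf.algebra_section_stalk Y.presheaf (⟨f x, e hx⟩ : W)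
  haveI hlocX := hU₀.isLocalization_stalk ⟨x, hx⟩
  letI := TopCat.Presheaf.algebra_section_stalk X.presheaf (⟨x, hx⟩ : U₀)
  obtain ⟨σ, hσ⟩ := hsurj (X.presheaf.germ U₀ x hx b)
  obtain ⟨⟨a, t⟩, hat⟩ := IsLocalization.surj (hW.primeIdealOf ⟨f x, e hx⟩).asIdeal.primeCompl σ
  have hat' : σ * Y.presheaf.germ W (f x) (e hx) t.1 = Y.presheaf.germ W (f x) (e hx) a := hat
  have htunit : IsUnit (Y.presheaf.germ W (f x) (e hx) t.1) :=
    IsLocalization.map_units (M := (hW.primeIdealOf ⟨f x, e hx⟩).asIdeal.primeCompl)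
      (Y.presheaf.stalk (f x)) t
  have h1 := congrArg (f.stalkMap x) hat'
  rw [map_mul, hσ, stalkMap_germ_appLE f W U₀ e x hx, stalkMap_germ_appLE f W U₀ e x hx,
    ← map_mul] at h1
  have h2 : X.presheaf.germ U₀ x hx (b * (f.appLE W U₀ e) t.1 - (f.appLE W U₀ e) a) = 0 := by
    rw [map_sub, h1, sub_self]
  have h3 : algebraMap Γ(X, U₀) (X.presheaf.stalk x)
      (b * (f.appLE W U₀ e) t.1 - (f.appLE W U₀ e) a) = 0 := h2
  obtain ⟨u, hu⟩ := (IsLocalization.map_eq_zero_iff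
    (hU₀.primeIdealOf ⟨x, hx⟩).asIdeal.primeCompl (X.presheaf.stalk x) _).mp h3
  refine ⟨a, t.1, u.1, ?_, u.2, ?_⟩
  · -- image of a unit is a unit
    have h4 : IsUnit (X.presheaf.germ U₀ x hx ((f.appLE W U₀ e) t.1)) := by
      rw [← stalkMap_germ_appLE f W U₀ e x hx]
      exact htunit.map (f.stalkMap x).hom
    have h5 : IsUnit (algebraMap Γ(X, U₀) (X.presheaf.stalk x) ((f.appLE W U₀ e) t.1)) := h4
    exact (IsLocalization.AtPrime.isUnit_to_map_iff (X.presheaf.stalk x)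
      (hU₀.primeIdealOf ⟨x, hx⟩).asIdeal _).mp h5
  · have : (f.appLE W U₀ e).hom t.1 * b - (f.appLE W U₀ e).hom a =
        b * (f.appLE W U₀ e) t.1 - (f.appLE W U₀ e) a := by
      rw [mul_comm]
    rw [this]
    exact hu


theorem exists_closedImmersion_nhd {X Y : Scheme.{u}} (f : X ⟶ Y) [LocallyOfFiniteType f] (x : X)
    (hsurj : Function.Surjective (f.stalkMap x)) :
    ∃ (U : X.Opens) (V : Y.Opens) (h : U ≤ f ⁻¹ᵁ V), x ∈ U ∧ IsAffineOpen U ∧ IsAffineOpen V ∧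
      IsClosedImmersion (f.resLE V U h) := by
  obtain ⟨_, ⟨W, hW, rfl⟩, hfxW, -⟩ :=
    (Y.isBasis_affineOpens).exists_subset_of_mem_open (Set.mem_univ (f x)) isOpen_univ
  obtain ⟨_, ⟨U₀, hU₀, rfl⟩, hxU₀, hU₀W⟩ :=
    (X.isBasis_affineOpens).exists_subset_of_mem_open (show x ∈ ((f ⁻¹ᵁ W : X.Opens) : Set X)
      from hfxW) (f ⁻¹ᵁ W).2
  have e : U₀ ≤ f ⁻¹ᵁ W := hU₀W
  let φ := (f.appLE W U₀ e).hom
  have hφ : φ.FiniteType := LocallyOfFiniteType.finiteType_appLE f hW hU₀ e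
  haveI := (hU₀.primeIdealOf ⟨x, hxU₀⟩).isPrime
  obtain ⟨t₀, u₀, ht₀, hu₀, hC1, hC2⟩ := exists_spread_surjective φ hφ
    (hU₀.primeIdealOf ⟨x, hxU₀⟩).asIdeal
    (fun b => hyp_of_stalkMap_surjective f hW hU₀ e x hxU₀ hsurj b)
  have hg : φ t₀ * u₀ ∉ (hU₀.primeIdealOf ⟨x, hxU₀⟩).asIdeal := fun h =>
    (Ideal.IsPrime.mem_or_mem ‹_› h).elim ht₀ hu₀
  have hxU : x ∈ X.basicOpen (φ t₀ * u₀) := by
    by_contra hcon
    exact hg ((mem_primeIdealOf_iff hU₀ x hxU₀ _).mpr hcon)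
  have hUV : X.basicOpen (φ t₀ * u₀) ≤ f ⁻¹ᵁ (Y.basicOpen t₀) := by
    rw [Scheme.basicOpen_mul]
    refine inf_le_left.trans ?_
    have : X.basicOpen (φ t₀) = U₀ ⊓ X.basicOpen (f.app W t₀) := by
      show X.basicOpen ((f.appLE W U₀ e) t₀) = _
      simp only [Scheme.Hom.appLE, CommRingCat.comp_apply]
      rw [Scheme.basicOpen_res]
    rw [this, Scheme.preimage_basicOpen]
    exact inf_le_right
  refine ⟨X.basicOpen (φ t₀ * u₀), Y.basicOpen t₀, hUV, hxU, hU₀.basicOpen _, hW.basicOpen _, ?_⟩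
  haveI : IsAffine (X.basicOpen (φ t₀ * u₀)).toScheme := hU₀.basicOpen _
  haveI : IsAffine (Y.basicOpen t₀).toScheme := hW.basicOpen _
  apply IsClosedImmersion.of_surjective_of_isAffine
  rw [Scheme.Hom.appTop, Scheme.Hom.resLE_app_top]
  haveI := hW.isLocalization_basicOpen t₀
  haveI := hU₀.isLocalization_basicOpen (φ t₀ * u₀)
  have hsurj' : Function.Surjective
      (f.appLE (Y.basicOpen t₀) (X.basicOpen (φ t₀ * u₀)) hUV).hom := by
    refine surjective_of_spread φ t₀ u₀ _ ?_ hC1 hC2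
    rw [RingHom.algebraMap_toAlgebra, RingHom.algebraMap_toAlgebra, ← CommRingCat.hom_comp,
      ← CommRingCat.hom_comp, Scheme.Hom.map_appLE, Scheme.Hom.appLE_map]
  intro z
  obtain ⟨w, hw⟩ := hsurj' ((X.basicOpen (φ t₀ * u₀)).topIso.hom z)
  refine ⟨(Y.basicOpen t₀).topIso.inv w, ?_⟩
  simp only [CommRingCat.comp_apply]
  have h1 : (Y.basicOpen t₀).topIso.hom ((Y.basicOpen t₀).topIso.inv w) = w := by
    rw [← CommRingCat.comp_apply, Iso.inv_hom_id, CommRingCat.id_apply]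
  rw [h1]
  have h2 : (f.appLE (Y.basicOpen t₀) (X.basicOpen (φ t₀ * u₀)) hUV) w =
      (X.basicOpen (φ t₀ * u₀)).topIso.hom z := hw
  rw [h2, ← CommRingCat.comp_apply, Iso.hom_inv_id, CommRingCat.id_apply]


theorem isLocalImmersionAt_iff {X Y : Scheme.{u}} (f : X ⟶ Y) [LocallyOfFiniteType f] (x : X) :
    (∃ (U : X.Opens) (V : Y.Opens) (h : U ≤ f ⁻¹ᵁ V), x ∈ U ∧
      IsClosedImmersion (f.resLE V U h)) ↔ Function.Surjective (f.stalkMap x) := by
  constructor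
  · rintro ⟨U, V, h, hxU, hcl⟩
    have h1 : Function.Surjective ((f.resLE V U h).stalkMap ⟨x, hxU⟩) :=
      (f.resLE V U h).stalkMap_surjective ⟨x, hxU⟩
    let e := Scheme.Hom.resLEStalkMap f h ⟨x, hxU⟩
    have hw : (f.resLE V U h).stalkMap ⟨x, hxU⟩ ≫ e.hom.right = e.hom.left ≫ f.stalkMap x :=
      (Arrow.w e.hom).symm
    have h2 : f.stalkMap x = e.inv.left ≫ (f.resLE V U h).stalkMap ⟨x, hxU⟩ ≫ e.hom.right := by
      rw [hw, ← Category.assoc, ← Arrow.comp_left, e.inv_hom_id]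
      simp
    rw [h2]
    have h3 : Function.Surjective e.hom.right :=
      (ConcreteCategory.bijective_of_isIso e.hom.right).2
    have h4 : Function.Surjective e.inv.left :=
      (ConcreteCategory.bijective_of_isIso e.inv.left).2
    simp only [CommRingCat.hom_comp, RingHom.coe_comp]
    exact (h3.comp h1).comp h4
  · intro hsurj
    obtain ⟨U, V, h, hxU, -, -, hcl⟩ := exists_closedImmersion_nhd f x hsurj
    exact ⟨U, V, h, hxU, hcl⟩

end Groth.Agent.Lib.helper4.LocImm
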