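import Mathlib
import Groth.Agent.Lib.Helper4.SheafGlue
import Groth.Prelude.Def_NonAbH2

/-!
# Functions on the base of an fpqc torsor are the invariant functions on the torsor (helper4)
-/

set_option autoImplicit false
set_option linter.style.haveILetI false
set_option backward.isDefEq.respectTransparency false
universe u
open CategoryTheory MonoidalCategory CartesianMonoidalCategory MonObj GrpObj AlgebraicGeometry
open CategoryTheory.Limits

namespace Groth.Agent.Lib.Helper4.TorsorFpqc4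

/-- The affine line over `ℤ`, as the target of functions. -/
noncomputable abbrev A1 : Scheme.{u} :=
  Spec (CommRingCat.of (MvPolynomial PUnit.{u + 1} (ULift.{u} ℤ)))

/-- The morphism to the affine line classifying a global function. -/
noncomputable def toA1 {Y : Scheme.{u}} (s : Γ(Y, ⊤)) : Y ⟶ A1.{u} :=
  (AffineSpace.toSpecMvPolyIntEquiv PUnit.{u + 1}).symm (fun _ => s)

theorem comp_toA1 {W Y : Scheme.{u}} (g : W ⟶ Y) (s : Γ(Y, ⊤)) :
    g ≫ toA1 s = toA1 (g.appTop.hom s) := by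
  apply (AffineSpace.toSpecMvPolyIntEquiv PUnit.{u + 1}).injective
  funext i
  rw [AffineSpace.toSpecMvPolyIntEquiv_comp]
  simp [toA1]

theorem toA1_injective {Y : Scheme.{u}} {s s' : Γ(Y, ⊤)} (h : toA1 s = toA1 s') : s = s' :=
  congrFun ((AffineSpace.toSpecMvPolyIntEquiv PUnit.{u + 1}).symm.injective h) PUnit.unit

theorem toA1_surjective {Y : Scheme.{u}} (z : Y ⟶ A1.{u}) : ∃ c : Γ(Y, ⊤), toA1 c = z := by
  refine ⟨AffineSpace.toSpecMvPolyIntEquiv PUnit.{u + 1} z PUnit.unit, ?_⟩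
  have : (fun _ : PUnit.{u + 1} => AffineSpace.toSpecMvPolyIntEquiv PUnit.{u + 1} z PUnit.unit) =
      AffineSpace.toSpecMvPolyIntEquiv PUnit.{u + 1} z := by
    funext i
    rfl
  rw [toA1, this, Equiv.symm_apply_apply]

theorem invariants {S : Scheme.{u}} {G X : Over S}
    [GrpObj G] (a : AlgGrp.Action G X) (ha : NonAbH1.IsTorsorFor Scheme.fpqcPrecoverage a) :
    Function.Injective X.hom.appTop.hom ∧
      ∀ s : Γ(X.left, ⊤), s ∈ Set.range X.hom.appTop.hom ↔
        a.act.left.appTop.hom s = (CartesianMonoidalCategory.snd G X).left.appTop.hom s := by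
  obtain ⟨hps, R, hR, hsec⟩ := ha
  haveI : IsIso (lift a.act (snd G X)) := hps
  obtain ⟨𝒰, rfl⟩ := R.exists_eq_preZeroHypercover
  choose σ hσ using fun i => hsec (𝒰.f i) (Presieve.ofArrows.mk i)
  have hdesc : ∀ (m : X.left ⟶ A1.{u}),
      (∀ (W : Scheme.{u}) (x₁ x₂ : W ⟶ X.left), x₁ ≫ X.hom = x₂ ≫ X.hom → x₁ ≫ m = x₂ ≫ m) →
      ∃! z : S ⟶ A1.{u}, X.hom ≫ z = m :=
    fun m hm => SheafGlue.existsUnique_desc_of_sections X.hom 𝒰.X 𝒰.f hR σ hσ m hm
  refine ⟨fun c c' hcc => ?_, fun s => ⟨?_, fun hs => ?_⟩⟩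
  · obtain ⟨z, _, huniq⟩ := hdesc (X.hom ≫ toA1 c) (fun W x₁ x₂ hx => by
      rw [← Category.assoc, hx, Category.assoc])
    have e1 : toA1 c = z := huniq _ rfl
    have e2 : toA1 c' = z := huniq _ (by
      show X.hom ≫ toA1 c' = X.hom ≫ toA1 c
      rw [comp_toA1, comp_toA1, hcc])
    exact toA1_injective (e1.trans e2.symm)
  · rintro ⟨c, rfl⟩
    have h1 : X.hom.appTop ≫ a.act.left.appTop = X.hom.appTop ≫ (snd G X).left.appTop := by
      rw [← Scheme.Hom.comp_appTop, ← Scheme.Hom.comp_appTop, Over.w, Over.w]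
    exact ConcreteCategory.congr_hom h1 c
  · have hm : ∀ (W : Scheme.{u}) (x₁ x₂ : W ⟶ X.left), x₁ ≫ X.hom = x₂ ≫ X.hom →
        x₁ ≫ toA1 s = x₂ ≫ toA1 s := by
      intro W x₁ x₂ hx
      let W' : Over S := Over.mk (x₁ ≫ X.hom)
      let y₁ : W' ⟶ X := Over.homMk x₁ rfl
      let y₂ : W' ⟶ X := Over.homMk x₂ hx.symm
      obtain ⟨g, hg, -⟩ := ExactH1.existsUnique_act a.act y₁ y₂
      have e1 : x₁ = (lift g y₂).left ≫ a.act.left := by
        have := congrArg Over.Hom.left hg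
        simpa [y₁] using this.symm
      have e2 : (lift g y₂).left ≫ (snd G X).left = x₂ := by
        simp [y₂]
      rw [e1, Category.assoc, comp_toA1, hs, ← comp_toA1, ← Category.assoc, e2]
    obtain ⟨z, hz, -⟩ := hdesc (toA1 s) hm
    obtain ⟨c, hc⟩ := toA1_surjective z
    refine ⟨c, toA1_injective ?_⟩
    rw [← comp_toA1, hc, hz]

end Groth.Agent.Lib.Helper4.TorsorFpqc4
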