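import Mathlib
import Groth.Prelude.Def_NonAbH2
import Groth.Prelude.Def_W4bk4git07Quot
import Groth.Agent.Lib.Helper4.SheafGlue
import Groth.Agent.Lib.Helper4.TorsorFpqc4
import Groth.Agent.Lib.Helper4.FpqcCoverDescent

/-!
# A torsor over `Y` is a geometric quotient (helper4)

`φ : X ⟶ Y` over `S`, `G` acting on `X`, the square `(act, snd; φ, φ)` cartesian and `φ` with sections fpqc-locally on `Y`.

* `isLocallyTrivialFor_of_isPullback`: having sections `K`-locally is stable under base change.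
* `prop_of_torsor`: a property of `G ⟶ S` which is stable under base change and descends along fpqc coverings holds for `φ`.
* `invariants_of_sections`: functions on the base are the functions on the total space equalised by the two projections.
* `isGeomQuot_of_torsor`: `φ` is a geometric quotient when `G ⟶ S` is universally open.
-/

set_option autoImplicit false
set_option linter.style.haveILetI false
set_option backward.isDefEq.respectTransparency false
universe u
open CategoryTheory MonoidalCategory CartesianMonoidalCategory MonObj AlgebraicGeometry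
open CategoryTheory.Limits

namespace Groth.Agent.Lib.Helper4.TorsorGeomQuot

open Groth.Agent.Lib.Helper4.TorsorFpqc4

/-- Having sections `K`-locally is stable under base change. -/
theorem isLocallyTrivialFor_of_isPullback (K : Precoverage Scheme.{u}) [K.IsStableUnderBaseChange]
    {X Y X' Y' : Scheme.{u}} {φ : X ⟶ Y} {φ' : X' ⟶ Y'} {g' : X' ⟶ X} {g : Y' ⟶ Y}
    (sq : IsPullback φ' g' g φ)
    (hloc : NonAbH1.IsLocallyTrivialFor K (Over.mk φ : Over Y)) :
    NonAbH1.IsLocallyTrivialFor K (Over.mk φ' : Over Y') := by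
  obtain ⟨R, hR, hsec⟩ := hloc
  obtain ⟨𝒰, rfl⟩ := R.exists_eq_preZeroHypercover
  choose s hs using fun i => hsec (𝒰.f i) (Presieve.ofArrows.mk i)
  have hs' : ∀ i, s i ≫ φ = 𝒰.f i := hs
  have hmem : Presieve.ofArrows (fun i => pullback g (𝒰.f i)) (fun i => pullback.fst g (𝒰.f i)) ∈ K Y' :=
    Precoverage.mem_coverings_of_isPullback 𝒰.f hR g _ (fun i => pullback.snd g (𝒰.f i))
      (fun i => IsPullback.of_hasPullback g (𝒰.f i))
  refine ⟨_, hmem, ?_⟩
  rintro T f ⟨i⟩
  refine ⟨sq.lift (pullback.fst g (𝒰.f i)) (pullback.snd g (𝒰.f i) ≫ s i) ?_, ?_⟩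
  · rw [Category.assoc, hs', pullback.condition]
  · exact sq.lift_fst _ _ _

section Torsor

variable {S : Scheme.{u}} {G X Y : Over S} [GrpObj G] (a : AlgGrp.Action G X) (φ : X ⟶ Y)

/-- The cartesian square of the underlying schemes. -/
theorem isPullback_left (hcart : IsPullback a.act (snd G X) φ φ) :
    IsPullback a.act.left (snd G X).left φ.left φ.left :=
  hcart.map (Over.forget S)

/-- Over a member of the covering with a section, `φ` is a base change of `G ×_S X ⟶ X`. -/
theorem prop_pullback_snd_of_section (P : MorphismProperty Scheme.{u}) [P.IsStableUnderBaseChange]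
    (hcart : IsPullback a.act (snd G X) φ φ) (hG : P G.hom)
    {T : Scheme.{u}} (f : T ⟶ Y.left) (s : T ⟶ X.left) (hs : s ≫ φ.left = f) :
    P (pullback.snd φ.left f) := by
  have hcart' := isPullback_left a φ hcart
  have hsnd : P (snd G X).left := by
    rw [Over.snd_left]
    exact P.pullback_snd _ _ hG
  subst hs
  have hbig : IsPullback (pullback.fst φ.left (s ≫ φ.left)) (pullback.snd φ.left (s ≫ φ.left))
      φ.left (s ≫ φ.left) := IsPullback.of_hasPullback _ _
  have hcond : pullback.fst φ.left (s ≫ φ.left) ≫ φ.left =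
      (pullback.snd φ.left (s ≫ φ.left) ≫ s) ≫ φ.left := by
    rw [Category.assoc, pullback.condition]
  let l : pullback φ.left (s ≫ φ.left) ⟶ (G ⊗ X).left :=
    hcart'.lift (pullback.fst φ.left (s ≫ φ.left)) (pullback.snd φ.left (s ≫ φ.left) ≫ s) hcond
  have hl1 : l ≫ a.act.left = pullback.fst φ.left (s ≫ φ.left) := hcart'.lift_fst _ _ _
  have hl2 : l ≫ (snd G X).left = pullback.snd φ.left (s ≫ φ.left) ≫ s := hcart'.lift_snd _ _ _
  have hbig' : IsPullback (l ≫ a.act.left) (pullback.snd φ.left (s ≫ φ.left)) φ.left (s ≫ φ.left) := by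
    rw [hl1]; exact hbig
  have sq := IsPullback.of_right hbig' hl2 hcart'
  exact P.of_isPullback sq hsnd

theorem prop_of_torsor (P : MorphismProperty Scheme.{u}) [IsZariskiLocalAtTarget P]
    [P.IsStableUnderBaseChange] [P.DescendsAlong (@Surjective ⊓ @Flat ⊓ @QuasiCompact)]
    (hcart : IsPullback a.act (snd G X) φ φ)
    (hloc : NonAbH1.IsLocallyTrivialFor Scheme.fpqcPrecoverage (Over.mk φ.left : Over Y.left))
    (hG : P G.hom) : P φ.left := by
  obtain ⟨R, hR, hsec⟩ := hloc
  refine FpqcCoverDescent.of_fpqc_presieve P φ.left R hR (fun T f hf => ?_)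
  obtain ⟨s, hs⟩ := hsec f hf
  exact prop_pullback_snd_of_section a φ P hcart hG f s hs

end Torsor

/-- A morphism with sections fpqc-locally on the target is surjective. -/
theorem surjective_of_isLocallyTrivialFor {X Y : Scheme.{u}} (φ : X ⟶ Y)
    (hloc : NonAbH1.IsLocallyTrivialFor Scheme.fpqcPrecoverage (Over.mk φ : Over Y)) :
    Function.Surjective φ.base := by
  obtain ⟨R, hR, hsec⟩ := hloc
  have hR' : R ∈ Scheme.propQCPrecoverage (@Flat : MorphismProperty Scheme.{u}) Y := hR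
  obtain ⟨𝒰, hqc, rfl⟩ := Scheme.mem_propQCPrecoverage_iff_exists_quasiCompactCover.mp hR'
  intro y
  obtain ⟨i, t, ht⟩ := 𝒰.exists_eq y
  obtain ⟨s, hs⟩ := hsec (𝒰.f i) (Presieve.ofArrows.mk i)
  have hs' : s ≫ φ = 𝒰.f i := hs
  refine ⟨s.base t, ?_⟩
  rw [← ht, ← hs']
  rfl

/-- Functions on the base are the functions on the total space equalised by the two projections. -/
theorem invariants_of_sections {P B E : Scheme.{u}} (π : P ⟶ B) (p₁ p₂ : E ⟶ P)
    (hp : p₁ ≫ π = p₂ ≫ π)
    (hfac : ∀ (W : Scheme.{u}) (x₁ x₂ : W ⟶ P), x₁ ≫ π = x₂ ≫ π →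
      ∃ w : W ⟶ E, w ≫ p₁ = x₁ ∧ w ≫ p₂ = x₂)
    (hloc : NonAbH1.IsLocallyTrivialFor Scheme.fpqcPrecoverage (Over.mk π : Over B)) :
    Function.Injective π.appTop.hom ∧
      ∀ s : Γ(P, ⊤), s ∈ Set.range π.appTop.hom ↔ p₁.appTop.hom s = p₂.appTop.hom s := by
  obtain ⟨R, hR, hsec⟩ := hloc
  obtain ⟨𝒰, rfl⟩ := R.exists_eq_preZeroHypercover
  choose σ hσ using fun i => hsec (𝒰.f i) (Presieve.ofArrows.mk i)
  have hσ' : ∀ i, σ i ≫ π = 𝒰.f i := hσ
  have hdesc : ∀ (m : P ⟶ A1.{u}),
      (∀ (W : Scheme.{u}) (x₁ x₂ : W ⟶ P), x₁ ≫ π = x₂ ≫ π → x₁ ≫ m = x₂ ≫ m) →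
      ∃! z : B ⟶ A1.{u}, π ≫ z = m :=
    fun m hm => SheafGlue.existsUnique_desc_of_sections π 𝒰.X 𝒰.f hR σ hσ' m hm
  refine ⟨fun c c' hcc => ?_, fun s => ⟨?_, fun hs => ?_⟩⟩
  · obtain ⟨z, _, huniq⟩ := hdesc (π ≫ toA1 c) (fun W x₁ x₂ hx => by
      rw [← Category.assoc, hx, Category.assoc])
    have e1 : toA1 c = z := huniq _ rfl
    have e2 : toA1 c' = z := huniq _ (by
      show π ≫ toA1 c' = π ≫ toA1 c
      rw [comp_toA1, comp_toA1, hcc])
    exact toA1_injective (e1.trans e2.symm)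
  · rintro ⟨c, rfl⟩
    have h1 : π.appTop ≫ p₁.appTop = π.appTop ≫ p₂.appTop := by
      rw [← Scheme.Hom.comp_appTop, ← Scheme.Hom.comp_appTop, hp]
    exact ConcreteCategory.congr_hom h1 c
  · have hm : ∀ (W : Scheme.{u}) (x₁ x₂ : W ⟶ P), x₁ ≫ π = x₂ ≫ π →
        x₁ ≫ toA1 s = x₂ ≫ toA1 s := by
      intro W x₁ x₂ hx
      obtain ⟨w, hw1, hw2⟩ := hfac W x₁ x₂ hx
      rw [← hw1, ← hw2, Category.assoc, Category.assoc, comp_toA1, comp_toA1 p₂, hs]
    obtain ⟨z, hz, -⟩ := hdesc (toA1 s) hm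
    obtain ⟨c, hc⟩ := toA1_surjective z
    refine ⟨c, toA1_injective ?_⟩
    rw [← comp_toA1, hc, hz]

section GeomQuot

variable {S : Scheme.{u}} {G X Y : Over S} [GrpObj G] (a : AlgGrp.Action G X) (φ : X ⟶ Y)

/-- The sections clause of a geometric quotient, for a torsor. -/
theorem sections_of_torsor (hcart : IsPullback a.act (snd G X) φ φ)
    (hloc : NonAbH1.IsLocallyTrivialFor Scheme.fpqcPrecoverage (Over.mk φ.left : Over Y.left))
    (U : Y.left.Opens) :
    Function.Injective (φ.left.app U) ∧ Set.range (φ.left.app U) = {f | GIT.IsInvSection a φ U f} := by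
  have hcart' := isPullback_left a φ hcart
  set V : X.left.Opens := φ.left ⁻¹ᵁ U with hV
  set W₀ : (G ⊗ X).left.Opens := a.act.left ⁻¹ᵁ V ⊓ (snd G X).left ⁻¹ᵁ V with hW₀
  set π : V.toScheme ⟶ U.toScheme := φ.left.resLE U V le_rfl with hπ
  set p₁ : W₀.toScheme ⟶ V.toScheme := a.act.left.resLE V W₀ inf_le_left with hp₁
  set p₂ : W₀.toScheme ⟶ V.toScheme := (snd G X).left.resLE V W₀ inf_le_right with hp₂
  have hπι : π ≫ U.ι = V.ι ≫ φ.left := Scheme.Hom.resLE_comp_ι _ _
  have hp₁ι : p₁ ≫ V.ι = W₀.ι ≫ a.act.left := Scheme.Hom.resLE_comp_ι _ _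
  have hp₂ι : p₂ ≫ V.ι = W₀.ι ≫ (snd G X).left := Scheme.Hom.resLE_comp_ι _ _
  have hp : p₁ ≫ π = p₂ ≫ π := by
    rw [← cancel_mono U.ι, Category.assoc, Category.assoc, hπι, ← Category.assoc, ← Category.assoc,
      hp₁ι, hp₂ι, Category.assoc, Category.assoc, hcart'.w]
  have hfac : ∀ (W : Scheme.{u}) (x₁ x₂ : W ⟶ V.toScheme), x₁ ≫ π = x₂ ≫ π →
      ∃ w : W ⟶ W₀.toScheme, w ≫ p₁ = x₁ ∧ w ≫ p₂ = x₂ := by
    intro W x₁ x₂ hx
    have hx' : (x₁ ≫ V.ι) ≫ φ.left = (x₂ ≫ V.ι) ≫ φ.left := by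
      rw [Category.assoc, Category.assoc, ← hπι, ← Category.assoc, ← Category.assoc, hx]
    let w₀ : W ⟶ (G ⊗ X).left := hcart'.lift (x₁ ≫ V.ι) (x₂ ≫ V.ι) hx'
    have hw₀1 : w₀ ≫ a.act.left = x₁ ≫ V.ι := hcart'.lift_fst _ _ _
    have hw₀2 : w₀ ≫ (snd G X).left = x₂ ≫ V.ι := hcart'.lift_snd _ _ _
    have hrange : Set.range w₀.base ⊆ Set.range W₀.ι.base := by
      rintro _ ⟨t, rfl⟩
      rw [Scheme.Opens.range_ι]
      refine ⟨?_, ?_⟩
      · show (a.act.left.base (w₀.base t)) ∈ V
        have : a.act.left.base (w₀.base t) = (x₁ ≫ V.ι).base t := by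
          rw [← hw₀1]; rfl
        rw [this]
        exact (x₁.base t).2
      · show ((snd G X).left.base (w₀.base t)) ∈ V
        have : (snd G X).left.base (w₀.base t) = (x₂ ≫ V.ι).base t := by
          rw [← hw₀2]; rfl
        rw [this]
        exact (x₂.base t).2
    refine ⟨IsOpenImmersion.lift W₀.ι w₀ hrange, ?_, ?_⟩
    · rw [← cancel_mono V.ι, Category.assoc, hp₁ι, ← Category.assoc, IsOpenImmersion.lift_fac, hw₀1]
    · rw [← cancel_mono V.ι, Category.assoc, hp₂ι, ← Category.assoc, IsOpenImmersion.lift_fac, hw₀2]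
  have hlocπ : NonAbH1.IsLocallyTrivialFor Scheme.fpqcPrecoverage (Over.mk π : Over U.toScheme) := by
    have sq : IsPullback π V.ι U.ι φ.left := by
      rw [hπ, Scheme.Hom.resLE_eq_morphismRestrict]
      exact isPullback_morphismRestrict φ.left U
    exact isLocallyTrivialFor_of_isPullback Scheme.fpqcPrecoverage sq hloc
  obtain ⟨hinj, hrange⟩ := invariants_of_sections π p₁ p₂ hp hfac hlocπ
  -- translation between sections over opens and global sections of the open subschemes
  have eπ : U.topIso.inv ≫ π.appTop = φ.left.app U ≫ V.topIso.inv := by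
    rw [Scheme.Hom.appTop, hπ, Scheme.Hom.resLE_app_top, Iso.inv_hom_id_assoc, ← Scheme.Hom.app_eq_appLE]
  have ep₁ : V.topIso.inv ≫ p₁.appTop = a.act.left.appLE V W₀ inf_le_left ≫ W₀.topIso.inv := by
    rw [Scheme.Hom.appTop, hp₁, Scheme.Hom.resLE_app_top, Iso.inv_hom_id_assoc]
  have ep₂ : V.topIso.inv ≫ p₂.appTop = (snd G X).left.appLE V W₀ inf_le_right ≫ W₀.topIso.inv := by
    rw [Scheme.Hom.appTop, hp₂, Scheme.Hom.resLE_app_top, Iso.inv_hom_id_assoc]
  have kπ : ∀ c : Γ(Y.left, U), π.appTop.hom (U.topIso.inv.hom c) = V.topIso.inv.hom ((φ.left.app U).hom c) :=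
    fun c => ConcreteCategory.congr_hom eπ c
  have k₁ : ∀ f : Γ(X.left, V), p₁.appTop.hom (V.topIso.inv.hom f) =
      W₀.topIso.inv.hom ((a.act.left.appLE V W₀ inf_le_left).hom f) :=
    fun f => ConcreteCategory.congr_hom ep₁ f
  have k₂ : ∀ f : Γ(X.left, V), p₂.appTop.hom (V.topIso.inv.hom f) =
      W₀.topIso.inv.hom (((snd G X).left.appLE V W₀ inf_le_right).hom f) :=
    fun f => ConcreteCategory.congr_hom ep₂ f
  have injU : Function.Injective U.topIso.inv.hom :=
    (ConcreteCategory.bijective_of_isIso U.topIso.inv).1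
  have injV : Function.Injective V.topIso.inv.hom :=
    (ConcreteCategory.bijective_of_isIso V.topIso.inv).1
  have injW : Function.Injective W₀.topIso.inv.hom :=
    (ConcreteCategory.bijective_of_isIso W₀.topIso.inv).1
  have surjU : Function.Surjective U.topIso.inv.hom :=
    (ConcreteCategory.bijective_of_isIso U.topIso.inv).2
  refine ⟨fun c c' hcc => ?_, ?_⟩
  · apply injU
    apply hinj
    show π.appTop.hom (U.topIso.inv.hom c) = π.appTop.hom (U.topIso.inv.hom c')
    rw [kπ, kπ]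
    exact congrArg _ hcc
  · ext f
    constructor
    · rintro ⟨c, rfl⟩
      show (a.act.left.appLE V W₀ inf_le_left).hom ((φ.left.app U).hom c) =
        ((snd G X).left.appLE V W₀ inf_le_right).hom ((φ.left.app U).hom c)
      apply injW
      rw [← k₁, ← k₂]
      exact (hrange _).1 ⟨U.topIso.inv.hom c, kπ c⟩
    · intro hf
      have hf' : (a.act.left.appLE V W₀ inf_le_left).hom f =
        ((snd G X).left.appLE V W₀ inf_le_right).hom f := hf
      have h1 : p₁.appTop.hom (V.topIso.inv.hom f) = p₂.appTop.hom (V.topIso.inv.hom f) := by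
        rw [k₁, k₂, hf']
      obtain ⟨c₀, hc₀⟩ := (hrange _).2 h1
      obtain ⟨c, rfl⟩ := surjU c₀
      refine ⟨c, ?_⟩
      apply injV
      rw [← kπ]
      exact hc₀

/-- A torsor over `Y` under a universally open group scheme is a geometric quotient. -/
theorem isGeomQuot_of_torsor (hcart : IsPullback a.act (snd G X) φ φ)
    (hloc : NonAbH1.IsLocallyTrivialFor Scheme.fpqcPrecoverage (Over.mk φ.left : Over Y.left))
    (hG : UniversallyOpen G.hom) : GIT.IsGeomQuot a φ := by
  have hcart' := isPullback_left a φ hcart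
  have hinv : GIT.IsInvariant a φ := hcart.w
  have hsurj : Function.Surjective φ.left.base := surjective_of_isLocallyTrivialFor φ.left hloc
  have hUO : UniversallyOpen φ.left := prop_of_torsor a φ @UniversallyOpen hcart hloc hG
  refine ⟨hinv, hsurj, ?_, ?_, sections_of_torsor a φ hcart hloc⟩
  · have : GIT.PsiY a φ hinv = hcart'.isoPullback.hom := by
      apply pullback.hom_ext <;> simp [GIT.PsiY]
    rw [this]
    exact (inferInstance : Surjective hcart'.isoPullback.hom).surj
  · intro X' Y' i₁ i₂ f' sq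
    haveI : UniversallyOpen f' := MorphismProperty.of_isPullback sq.flip hUO
    haveI : Surjective φ.left := ⟨hsurj⟩
    haveI : Surjective f' :=
      MorphismProperty.of_isPullback (P := @Surjective) sq.flip inferInstance
    exact f'.isOpenMap.isQuotientMap f'.continuous f'.surjective

end GeomQuot

end Groth.Agent.Lib.Helper4.TorsorGeomQuot
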