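import Mathlib
import Groth.Agent.Lib.Helper4.TorsorGeomQuot

/-!
# Global functions on the base of a principal bundle are the invariant functions (helper4)
-/

set_option autoImplicit false
set_option linter.style.haveILetI false
set_option backward.isDefEq.respectTransparency false
universe u
open CategoryTheory MonoidalCategory CartesianMonoidalCategory MonObj AlgebraicGeometry
open CategoryTheory.Limits

namespace Groth.Agent.Lib.Helper4.PrincipalBundleInv

/-- A flat, surjective, quasi-compact morphism has sections fpqc-locally (over itself). -/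
theorem isLocallyTrivialFor_self {X Y : Scheme.{u}} (f : X ⟶ Y) [Flat f] [Surjective f] [QuasiCompact f] :
    NonAbH1.IsLocallyTrivialFor Scheme.fpqcPrecoverage (Over.mk f : Over Y) := by
  refine ⟨Presieve.singleton f, f.singleton_mem_fpqcPrecoverage, ?_⟩
  rintro S' g ⟨⟩
  exact ⟨𝟙 _, Category.id_comp _⟩

theorem invariants {E X Y : Scheme.{u}} (p₁ p₂ : E ⟶ X) (f : X ⟶ Y) [Flat f] [Surjective f] [QuasiCompact f]
    (hsq : IsPullback p₁ p₂ f f) :
    Function.Injective (f.appTop) ∧
      Set.range (f.appTop) = {s : Γ(X, ⊤) | p₁.appTop s = p₂.appTop s} := by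
  obtain ⟨hinj, hrange⟩ := TorsorGeomQuot.invariants_of_sections f p₁ p₂ hsq.w
    (fun W x₁ x₂ hx => ⟨hsq.lift x₁ x₂ hx, hsq.lift_fst _ _ _, hsq.lift_snd _ _ _⟩)
    (isLocallyTrivialFor_self f)
  refine ⟨hinj, ?_⟩
  ext s
  exact hrange s

end Groth.Agent.Lib.Helper4.PrincipalBundleInv
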