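import Mathlib
import Groth.Prelude.Def_NonAbH2
import Groth.Prelude.Def_AlgSt5
import Groth.Agent.Lib.Helper4.SheafGlue
import Groth.Agent.Lib.Helper4.PrincipalBundleInv

/-!
# Homomorphisms trivial on the kernel factor through a faithfully flat quotient map (helper4)

* `existsUnique_desc_of_isLocallyTrivialFor`: a morphism of schemes with sections fpqc-locally on the target is an effective
  epimorphism (elementary form), from local triviality.
* `epi_whiskerLeft`, `epi_whiskerRight`, `epi_tensorHom`: products with flat surjective morphisms are epimorphisms in `Over S`.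
* `desc_of_kernel`: `q : G ⟶ Q` flat, surjective, quasi-compact with kernel `N`; a homomorphism `φ : G ⟶ H` trivial on `N`
  factors uniquely through `q`, by a homomorphism.
-/

set_option autoImplicit false
set_option linter.style.haveILetI false
set_option backward.isDefEq.respectTransparency false
universe u
open CategoryTheory MonoidalCategory CartesianMonoidalCategory MonObj GrpObj AlgebraicGeometry
open CategoryTheory.Limits

namespace Groth.Agent.Lib.Helper4.GrpQuotDesc

theorem existsUnique_desc_of_isLocallyTrivialFor {X B Z : Scheme.{u}} (π : X ⟶ B)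
    (hloc : NonAbH1.IsLocallyTrivialFor Scheme.fpqcPrecoverage (Over.mk π : Over B))
    (m : X ⟶ Z)
    (hm : ∀ (W : Scheme.{u}) (x₁ x₂ : W ⟶ X), x₁ ≫ π = x₂ ≫ π → x₁ ≫ m = x₂ ≫ m) :
    ∃! z : B ⟶ Z, π ≫ z = m := by
  obtain ⟨R, hR, hsec⟩ := hloc
  obtain ⟨𝒰, rfl⟩ := R.exists_eq_preZeroHypercover
  choose σ hσ using fun i => hsec (𝒰.f i) (Presieve.ofArrows.mk i)
  have hσ' : ∀ i, σ i ≫ π = 𝒰.f i := hσ
  exact SheafGlue.existsUnique_desc_of_sections π 𝒰.X 𝒰.f hR σ hσ' m hm

section Epi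

variable {S : Scheme.{u}} (A : Over S) {T' T : Over S} (f : T' ⟶ T) [Flat f.left] [Surjective f.left]

theorem epi_whiskerLeft : Epi (A ◁ f) := by
  have sq := (AlgSt.isPullback_whiskerLeft (G := A) f).map (Over.forget S)
  have sq' : IsPullback (snd A T').left (A ◁ f).left f.left (snd A T).left := sq.flip
  haveI : Flat (A ◁ f).left := MorphismProperty.of_isPullback (P := @Flat) sq' inferInstance
  haveI : Surjective (A ◁ f).left := MorphismProperty.of_isPullback (P := @Surjective) sq' inferInstance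
  haveI : Epi (A ◁ f).left := Flat.epi_of_flat_of_surjective _
  exact Over.epi_of_epi_left _

theorem epi_whiskerRight : Epi (f ▷ A) := by
  have h : f ▷ A = (β_ T' A).hom ≫ (A ◁ f) ≫ (β_ A T).hom := by
    rw [← BraidedCategory.braiding_naturality_left_assoc, SymmetricCategory.symmetry, Category.comp_id]
  rw [h]
  haveI := epi_whiskerLeft A f
  infer_instance

end Epi

theorem epi_tensorHom {S : Scheme.{u}} {A A' B B' : Over S} (f : A ⟶ A') (g : B ⟶ B')
    [Flat f.left] [Surjective f.left] [Flat g.left] [Surjective g.left] : Epi (f ⊗ₘ g) := by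
  rw [MonoidalCategory.tensorHom_def]
  haveI := epi_whiskerRight B f
  haveI := epi_whiskerLeft A' g
  infer_instance

theorem desc_of_kernel {S : Scheme.{u}} {G N Q H : Over S} [GrpObj G] [GrpObj Q] [GrpObj H]
    (q : G ⟶ Q) [IsMonHom q] [Flat q.left] [Surjective q.left] [QuasiCompact q.left]
    (i : N ⟶ G) (hK : AlgGrp.IsKernel i q)
    (φ : G ⟶ H) [IsMonHom φ] (hφ : i ≫ φ = toUnit N ≫ η[H]) :
    ∃ φ' : Q ⟶ H, IsMonHom φ' ∧ q ≫ φ' = φ ∧ ∀ φ'' : Q ⟶ H, q ≫ φ'' = φ → φ'' = φ' := by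
  have hm : ∀ (W : Scheme.{u}) (x₁ x₂ : W ⟶ G.left), x₁ ≫ q.left = x₂ ≫ q.left →
      x₁ ≫ φ.left = x₂ ≫ φ.left := by
    intro W x₁ x₂ hx
    let W' : Over S := Over.mk (x₁ ≫ G.hom)
    let g₁ : W' ⟶ G := Over.homMk x₁ rfl
    let g₂ : W' ⟶ G := Over.homMk x₂ (by
      show x₂ ≫ G.hom = x₁ ≫ G.hom
      rw [← Over.w q, ← Category.assoc, ← hx, Category.assoc])
    have hq : g₁ ≫ q = g₂ ≫ q := by
      ext
      exact hx
    have h1 : (g₁ * g₂⁻¹) ≫ q = toUnit W' ≫ η[Q] := by
      rw [MonObj.mul_comp, GrpObj.inv_comp, hq, mul_inv_cancel, Hom.one_def]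
    have h2 : hK.lift (g₁ * g₂⁻¹) (toUnit W') h1 ≫ i = g₁ * g₂⁻¹ := hK.lift_fst _ _ _
    have h3 : (g₁ * g₂⁻¹) ≫ φ = 1 := by
      rw [← h2, Category.assoc, hφ, ← Category.assoc, Hom.one_def]
      congr 1
      exact toUnit_unique _ _
    have h4 : g₁ ≫ φ = g₂ ≫ φ := by
      rw [MonObj.mul_comp, GrpObj.inv_comp] at h3
      exact mul_inv_eq_one.mp h3
    exact congrArg Over.Hom.left h4
  obtain ⟨z, hz, hzuniq⟩ := existsUnique_desc_of_isLocallyTrivialFor q.left
    (PrincipalBundleInv.isLocallyTrivialFor_self q.left) φ.left hm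
  haveI : Epi q.left := Flat.epi_of_flat_of_surjective _
  have hzH : z ≫ H.hom = Q.hom := by
    rw [← cancel_epi q.left, ← Category.assoc, hz, Over.w φ, Over.w q]
  let φ' : Q ⟶ H := Over.homMk z hzH
  have hqφ' : q ≫ φ' = φ := by
    ext
    exact hz
  haveI : Epi q := Over.epi_of_epi_left _
  refine ⟨φ', ⟨?_, ?_⟩, hqφ', fun φ'' h'' => ?_⟩
  · rw [← IsMonHom.one_hom q, Category.assoc, hqφ', IsMonHom.one_hom]
  · haveI := epi_tensorHom q q
    rw [← cancel_epi (q ⊗ₘ q), ← Category.assoc, ← IsMonHom.mul_hom, Category.assoc, hqφ',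
      IsMonHom.mul_hom, ← Category.assoc, MonoidalCategory.tensorHom_comp_tensorHom, hqφ']
  · ext
    exact hzuniq φ''.left (congrArg Over.Hom.left h'')

end Groth.Agent.Lib.Helper4.GrpQuotDesc
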