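import Mathlib
import Groth.Prelude.Def_W4c2submetdescSubtr
import Groth.Agent.Lib.Helper4.LocImm
import Groth.Agent.Lib.Helper9.LimBaseChange

/-!
# Limits of S-subtrusive morphisms
-/

set_option backward.isDefEq.respectTransparency false
set_option backward.isDefEq.respectTransparency.types false
set_option autoImplicit false
set_option linter.style.haveILetI false
universe u v w

open CategoryTheory CategoryTheory.Limits AlgebraicGeometry

namespace Groth.Agent.Lib.helper4.SubtrLim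

/-- A prime below `Q` lying over `p`, given that the primes over `p` are dense near `Q`. -/
theorem exists_prime_le_comap_eq {A B : Type*} [CommRing A] [CommRing B] (φ : A →+* B)
    (p : Ideal A) [p.IsPrime] (Q : Ideal B) [Q.IsPrime]
    (H : ∀ b ∉ Q, ∃ Qz : Ideal B, Qz.IsPrime ∧ b ∉ Qz ∧ Qz.comap φ = p) :
    ∃ Q' : Ideal B, Q'.IsPrime ∧ Q' ≤ Q ∧ Q'.comap φ = p := by
  let T : Submonoid B := Q.primeCompl ⊔ p.primeCompl.map φ
  have hdisj : Disjoint ((p.map φ : Ideal B) : Set B) (T : Set B) := by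
    rw [Set.disjoint_left]
    intro x hI hT
    obtain ⟨b, hb, _, ⟨s, hs, rfl⟩, rfl⟩ := Submonoid.mem_sup.mp hT
    obtain ⟨Qz, hQz, hbz, hcomap⟩ := H b hb
    have h1 : p.map φ ≤ Qz := by rw [Ideal.map_le_iff_le_comap, hcomap]
    have h2 := h1 hI
    rcases hQz.mem_or_mem h2 with h | h
    · exact hbz h
    · exact hs (by rw [← hcomap]; exact h)
  obtain ⟨Q', hQ'prime, hle, hdis⟩ := Ideal.exists_le_prime_disjoint _ _ hdisj
  refine ⟨Q', hQ'prime, ?_, ?_⟩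
  · intro b hb
    by_contra hbQ
    exact Set.disjoint_left.mp hdis hb (Submonoid.mem_sup_left hbQ)
  · apply le_antisymm
    · intro a ha
      by_contra hap
      exact Set.disjoint_left.mp hdis ha (Submonoid.mem_sup_right ⟨a, hap, rfl⟩)
    · rw [← Ideal.map_le_iff_le_comap]; exact hle

/-- A point in the closure of a fibre is a specialization of a point of the fibre. -/
theorem exists_generization_of_mem_closure_fibre {X Y : Scheme.{u}} (f : X ⟶ Y) (y' : Y) (x : X)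
    (hx : x ∈ closure (f ⁻¹' {y'})) : ∃ x' : X, x' ⤳ x ∧ f x' = y' := by
  have hsp : y' ⤳ f x := by
    rw [specializes_iff_mem_closure]
    exact map_mem_closure f.continuous hx (fun z hz => hz)
  obtain ⟨_, ⟨W, hW, rfl⟩, hyW, -⟩ :=
    Y.isBasis_affineOpens.exists_subset_of_mem_open (Set.mem_univ (f x)) isOpen_univ
  have hy'W : y' ∈ W := hsp.mem_open W.2 hyW
  have hxpre : x ∈ f ⁻¹ᵁ W := hyW
  obtain ⟨_, ⟨U, hU, rfl⟩, hxU, hle⟩ :=
    X.isBasis_affineOpens.exists_subset_of_mem_open hxpre (f ⁻¹ᵁ W).isOpen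
  set φ := (f.appLE W U hle).hom with hφ
  have hcomm : hU.fromSpec ≫ f = Spec.map (f.appLE W U hle) ≫ hW.fromSpec :=
    (IsAffineOpen.SpecMap_appLE_fromSpec f hW hU hle).symm
  have hfP : ∀ P : Spec Γ(X, U), f (hU.fromSpec P) = hW.fromSpec (PrimeSpectrum.comap φ P) := by
    intro P
    rw [← Scheme.Hom.comp_apply, hcomm]
    rfl
  set p' := hW.primeIdealOf ⟨y', hy'W⟩ with hp'
  have hp'y : hW.fromSpec p' = y' := hW.fromSpec_primeIdealOf ⟨y', hy'W⟩
  set Q := hU.primeIdealOf ⟨x, hxU⟩ with hQ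
  have hQx : hU.fromSpec Q = x := hU.fromSpec_primeIdealOf ⟨x, hxU⟩
  have hinj : Function.Injective hW.fromSpec := hW.fromSpec.isOpenEmbedding.injective
  have H : ∀ b ∉ Q.asIdeal, ∃ Qz : Ideal Γ(X, U), Qz.IsPrime ∧ b ∉ Qz ∧ Qz.comap φ = p'.asIdeal := by
    intro b hbQ
    have hxD : x ∈ (X.basicOpen b : Set X) := by
      by_contra hcon
      exact hbQ ((Groth.Agent.Lib.helper4.LocImm.mem_primeIdealOf_iff hU x hxU b).mpr hcon)
    obtain ⟨z, hzD, hzF⟩ := mem_closure_iff.mp hx _ (X.basicOpen b).2 hxD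
    have hzU : z ∈ U := X.basicOpen_le b hzD
    refine ⟨(hU.primeIdealOf ⟨z, hzU⟩).asIdeal, (hU.primeIdealOf ⟨z, hzU⟩).isPrime, ?_, ?_⟩
    · intro h
      exact ((Groth.Agent.Lib.helper4.LocImm.mem_primeIdealOf_iff hU z hzU b).mp h) hzD
    · have h1 : f (hU.fromSpec (hU.primeIdealOf ⟨z, hzU⟩)) = y' := by
        rw [hU.fromSpec_primeIdealOf]; exact hzF
      rw [hfP, ← hp'y] at h1
      have h2 := hinj h1
      exact congrArg PrimeSpectrum.asIdeal h2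
  obtain ⟨Q', hQ'prime, hQ'le, hQ'comap⟩ := exists_prime_le_comap_eq φ p'.asIdeal Q.asIdeal H
  refine ⟨hU.fromSpec ⟨Q', hQ'prime⟩, ?_, ?_⟩
  · rw [← hQx, hU.fromSpec.isOpenEmbedding.isInducing.specializes_iff]
    exact (PrimeSpectrum.le_iff_specializes (⟨Q', hQ'prime⟩ : PrimeSpectrum Γ(X, U)) Q).mp hQ'le
  · rw [hfP, ← hp'y]
    congr 1
    exact PrimeSpectrum.ext hQ'comap

/-- Points of a pullback square of schemes. -/
theorem exists_point_of_isPullback {P X Y Z : Scheme.{u}} {fst : P ⟶ X} {snd : P ⟶ Y}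
    {f : X ⟶ Z} {g : Y ⟶ Z} (h : IsPullback fst snd f g) (x : X) (y : Y) (hxy : f x = g y) :
    ∃ w : P, fst w = x ∧ snd w = y := by
  obtain ⟨z, hz1, hz2⟩ := Scheme.Pullback.exists_preimage_pullback (f := f) (g := g) x y hxy
  refine ⟨h.isoPullback.inv z, ?_, ?_⟩
  · rw [← Scheme.Hom.comp_apply, h.isoPullback_inv_fst]; exact hz1
  · rw [← Scheme.Hom.comp_apply, h.isoPullback_inv_snd]; exact hz2

/-- The lifting property for ordered pairs in terms of closures of fibres. -/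
theorem isSSubtrusive_iff_closure {X Y : Scheme.{u}} (f : X ⟶ Y) :
    Subtr.IsSSubtrusive f ↔
      ∀ ⦃y y' : Y⦄, y' ⤳ y → ∃ x : X, f x = y ∧ x ∈ closure (f ⁻¹' {y'}) := by
  constructor
  · intro h y y' hyy'
    obtain ⟨x, x', hsp, h1, h2⟩ := h hyy'
    exact ⟨x, h1, hsp.mem_closed isClosed_closure (subset_closure h2)⟩
  · intro h y y' hyy'
    obtain ⟨x, h1, h2⟩ := h hyy'
    obtain ⟨x', hsp, h3⟩ := exists_generization_of_mem_closure_fibre f y' x h2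
    exact ⟨x, x', hsp, h1, h3⟩

/-- The lifting property for ordered pairs passes to base changes along preimmersions. -/
theorem isSSubtrusive_of_isPullback_of_isPreimmersion {X' Z T X'' : Scheme.{u}} {f' : X' ⟶ Z}
    {j : T ⟶ Z} {f'' : X'' ⟶ T} {j' : X'' ⟶ X'} (sq : IsPullback j' f'' f' j) [IsPreimmersion j]
    (h : Subtr.IsSSubtrusive f') : Subtr.IsSSubtrusive f'' := by
  intro t t' htt'
  obtain ⟨x, x', hsp, h1, h2⟩ := h (htt'.map j.continuous)
  obtain ⟨w, hw1, hw2⟩ := exists_point_of_isPullback sq x t h1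
  obtain ⟨w', hw'1, hw'2⟩ := exists_point_of_isPullback sq x' t' h2
  haveI : IsPreimmersion j' := MorphismProperty.of_isPullback sq.flip inferInstance
  refine ⟨w, w', ?_, hw2, hw'2⟩
  rw [← j'.isEmbedding.isInducing.specializes_iff, hw1, hw'1]
  exact hsp

/-- **Abstract limit lemma.**  Suppose `f : X ⟶ Y` is quasi-compact and is, compatibly, the base
change of morphisms `fs j : Xs j ⟶ Ys j` indexed by a cofiltered category, such that the open
subsets of `X` pulled back from the `Xs j` form a basis.  If all `fs j` have the lifting property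
for ordered pairs, then so does `f`. -/
theorem isSSubtrusive_of_system {X Y : Scheme.{u}} (f : X ⟶ Y) [QuasiCompact f]
    {J : Type v} [Category.{w} J] [IsCofiltered J]
    (Xs Ys : J → Scheme.{u}) (fs : ∀ j, Xs j ⟶ Ys j) (q : ∀ j, X ⟶ Xs j) (p : ∀ j, Y ⟶ Ys j)
    (hpb : ∀ j, IsPullback (q j) f (fs j) (p j))
    (tX : ∀ {j k : J}, (j ⟶ k) → (Xs j ⟶ Xs k)) (tY : ∀ {j k : J}, (j ⟶ k) → (Ys j ⟶ Ys k))
    (hq : ∀ {j k : J} (a : j ⟶ k), q j ≫ tX a = q k)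
    (hp : ∀ {j k : J} (a : j ⟶ k), p j ≫ tY a = p k)
    (hf : ∀ {j k : J} (a : j ⟶ k), fs j ≫ tY a = tX a ≫ fs k)
    (hbasis : ∀ (x : X) (U : Set X), IsOpen U → x ∈ U →
      ∃ (j : J) (V : Set (Xs j)), IsOpen V ∧ q j x ∈ V ∧ q j ⁻¹' V ⊆ U)
    (hs : ∀ j, Subtr.IsSSubtrusive (fs j)) : Subtr.IsSSubtrusive f := by
  classical
  rw [isSSubtrusive_iff_closure]
  intro y y' hyy'
  have hK : IsCompact (f ⁻¹' {y}) := f.isCompact_preimage_singleton y
  let Z : ∀ j, Set (Xs j) := fun j => closure (fs j ⁻¹' {p j y'})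
  let t : J → Set X := fun j => q j ⁻¹' Z j
  have htc : ∀ j, IsClosed (t j) := fun j => isClosed_closure.preimage (q j).continuous
  have hmono : ∀ {j k : J} (a : j ⟶ k), t j ⊆ t k := by
    intro j k a x hx
    show q k x ∈ Z k
    rw [← hq a, Scheme.Hom.comp_apply]
    have h1 : tX a (q j x) ∈ closure (tX a '' (fs j ⁻¹' {p j y'})) :=
      image_closure_subset_closure_image (tX a).continuous ⟨_, hx, rfl⟩
    refine closure_mono ?_ h1
    rintro _ ⟨z, hz, rfl⟩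
    have hz' : fs j z = p j y' := hz
    show fs k (tX a z) = p k y'
    rw [← Scheme.Hom.comp_apply, ← hf a, Scheme.Hom.comp_apply, hz', ← Scheme.Hom.comp_apply, hp a]
  have hne : ∀ j, (f ⁻¹' {y} ∩ t j).Nonempty := by
    intro j
    obtain ⟨xj, xj', hsp, h1, h2⟩ := hs j (hyy'.map (p j).continuous)
    obtain ⟨x, hx1, hx2⟩ := exists_point_of_isPullback (hpb j) xj y h1
    refine ⟨x, hx2, ?_⟩
    show q j x ∈ Z j
    rw [hx1]
    exact hsp.mem_closed isClosed_closure (subset_closure h2)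
  obtain ⟨x, hxK, hxt⟩ := hK.inter_iInter_nonempty t htc (fun u => by
    obtain ⟨l, hl⟩ := IsCofiltered.inf_objs_exists u
    obtain ⟨x, hxK, hxl⟩ := hne l
    refine ⟨x, hxK, ?_⟩
    simp only [Set.mem_iInter]
    intro j hj
    obtain ⟨a⟩ := hl hj
    exact hmono a hxl)
  refine ⟨x, hxK, ?_⟩
  rw [mem_closure_iff]
  intro U hU hxU
  obtain ⟨j, V, hV, hxV, hVU⟩ := hbasis x U hU hxU
  have hxj : q j x ∈ Z j := Set.mem_iInter.mp hxt j
  obtain ⟨zj, hzV, hzF⟩ := mem_closure_iff.mp hxj V hV hxV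
  obtain ⟨z, hz1, hz2⟩ := exists_point_of_isPullback (hpb j) zj y' hzF
  exact ⟨z, hVU (show q j z ∈ V by rw [hz1]; exact hzV), hz2⟩

section Limit

open Groth.Agent.Lib.helper9

variable {I : Type u} [SmallCategory I] [IsCofiltered I]
    (D : I ⥤ Scheme.{u}) (c : Limits.Cone D)
    (i₀ : I) {X₀ Y₀ : Scheme.{u}} (f₀ : X₀ ⟶ Y₀) (g₀ : Y₀ ⟶ D.obj i₀) {i₁ : I} (ψ : i₁ ⟶ i₀)

/-- `Y ⟶ Y_b` -/
noncomputable def pMap (b : Over i₁) :
    pullback g₀ (c.π.app i₀) ⟶ pullback g₀ (D.map (b.hom ≫ ψ)) :=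
  pullback.map g₀ (c.π.app i₀) g₀ (D.map (b.hom ≫ ψ)) (𝟙 _) (c.π.app b.left) (𝟙 _)
    (by simp) (by rw [Category.comp_id, c.w])

/-- `X ⟶ X_b` -/
noncomputable def qMap (b : Over i₁) :
    pullback f₀ (pullback.fst g₀ (c.π.app i₀)) ⟶
      pullback f₀ (pullback.fst g₀ (D.map (b.hom ≫ ψ))) :=
  pullback.map f₀ (pullback.fst g₀ (c.π.app i₀)) f₀ (pullback.fst g₀ (D.map (b.hom ≫ ψ)))
    (𝟙 _) (pMap D c i₀ g₀ ψ b) (𝟙 _) (by simp) (by simp [pMap])

/-- `Y_b ⟶ Y_b'` -/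
noncomputable def tYMap {b b' : Over i₁} (a : b ⟶ b') :
    pullback g₀ (D.map (b.hom ≫ ψ)) ⟶ pullback g₀ (D.map (b'.hom ≫ ψ)) :=
  pullback.map g₀ (D.map (b.hom ≫ ψ)) g₀ (D.map (b'.hom ≫ ψ)) (𝟙 _) (D.map a.left) (𝟙 _)
    (by simp) (by rw [Category.comp_id, ← D.map_comp, ← Category.assoc, Over.w a])

/-- `X_b ⟶ X_b'` -/
noncomputable def tXMap {b b' : Over i₁} (a : b ⟶ b') :
    pullback f₀ (pullback.fst g₀ (D.map (b.hom ≫ ψ))) ⟶
      pullback f₀ (pullback.fst g₀ (D.map (b'.hom ≫ ψ))) :=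
  pullback.map f₀ (pullback.fst g₀ (D.map (b.hom ≫ ψ))) f₀ (pullback.fst g₀ (D.map (b'.hom ≫ ψ)))
    (𝟙 _) (tYMap D i₀ g₀ ψ a) (𝟙 _) (by simp) (by simp [tYMap])

theorem isPullback_qMap (b : Over i₁) :
    IsPullback (qMap D c i₀ f₀ g₀ ψ b) (pullback.snd f₀ (pullback.fst g₀ (c.π.app i₀)))
      (pullback.snd f₀ (pullback.fst g₀ (D.map (b.hom ≫ ψ)))) (pMap D c i₀ g₀ ψ b) := by
  have houter : IsPullback
      (qMap D c i₀ f₀ g₀ ψ b ≫ pullback.fst f₀ (pullback.fst g₀ (D.map (b.hom ≫ ψ))))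
      (pullback.snd f₀ (pullback.fst g₀ (c.π.app i₀))) f₀
      (pMap D c i₀ g₀ ψ b ≫ pullback.fst g₀ (D.map (b.hom ≫ ψ))) := by
    have e1 : qMap D c i₀ f₀ g₀ ψ b ≫ pullback.fst f₀ (pullback.fst g₀ (D.map (b.hom ≫ ψ))) =
        pullback.fst f₀ (pullback.fst g₀ (c.π.app i₀)) := by simp [qMap]
    have e2 : pMap D c i₀ g₀ ψ b ≫ pullback.fst g₀ (D.map (b.hom ≫ ψ)) =
        pullback.fst g₀ (c.π.app i₀) := by simp [pMap]
    rw [e1, e2]
    exact IsPullback.of_hasPullback _ _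
  exact IsPullback.of_right houter (by simp [qMap]) (IsPullback.of_hasPullback _ _)

end Limit

section Limit2

open Groth.Agent.Lib.helper9

variable {I : Type u} [SmallCategory I]
    (D : I ⥤ Scheme.{u}) (c : Limits.Cone D)
    (i₀ : I) {X₀ Y₀ : Scheme.{u}} (f₀ : X₀ ⟶ Y₀) (g₀ : Y₀ ⟶ D.obj i₀) {i₁ : I} (ψ : i₁ ⟶ i₀)

/-- the comparison `X ⟶ c.pt ×_{D i₀} X₀` -/
noncomputable def eHom : pullback f₀ (pullback.fst g₀ (c.π.app i₀)) ⟶
    pullback (c.π.app i₀) (f₀ ≫ g₀) :=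
  pullback.lift (pullback.snd _ _ ≫ pullback.snd _ _) (pullback.fst _ _)
    (by rw [Category.assoc, ← pullback.condition, ← Category.assoc, ← pullback.condition,
      Category.assoc])

/-- the inverse comparison `c.pt ×_{D i₀} X₀ ⟶ X` -/
noncomputable def eInv : pullback (c.π.app i₀) (f₀ ≫ g₀) ⟶
    pullback f₀ (pullback.fst g₀ (c.π.app i₀)) :=
  pullback.lift (pullback.snd _ _)
    (pullback.lift (pullback.snd _ _ ≫ f₀) (pullback.fst _ _)
      (by rw [Category.assoc]; exact pullback.condition.symm))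
    (by simp)

theorem eHom_eInv : eHom D c i₀ f₀ g₀ ≫ eInv D c i₀ f₀ g₀ = 𝟙 _ := by
  apply pullback.hom_ext
  · simp [eHom, eInv]
  · apply pullback.hom_ext
    · simp [eHom, eInv, pullback.condition]
    · simp [eHom, eInv]

/-- `X_b ⟶ D_{j'} ×_{D i₀} X₀` -/
noncomputable def uMap (j' : Over i₀) {l : I} (a : l ⟶ j'.left) (b : l ⟶ i₁)
    (e : a ≫ j'.hom = b ≫ ψ) :
    pullback f₀ (pullback.fst g₀ (D.map (b ≫ ψ))) ⟶ pullback (D.map j'.hom) (f₀ ≫ g₀) :=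
  pullback.lift (pullback.snd _ _ ≫ pullback.snd _ _ ≫ D.map a) (pullback.fst _ _)
    (by
      rw [Category.assoc, Category.assoc, ← D.map_comp, e, ← pullback.condition,
        ← Category.assoc, ← pullback.condition, Category.assoc])

theorem qMap_uMap (j' : Over i₀) {l : I} (a : l ⟶ j'.left) (b : l ⟶ i₁)
    (e : a ≫ j'.hom = b ≫ ψ) :
    qMap D c i₀ f₀ g₀ ψ (Over.mk b) ≫ uMap D i₀ f₀ g₀ ψ j' a b e =
      eHom D c i₀ f₀ g₀ ≫ (bcCone D c i₀ (f₀ ≫ g₀)).π.app j' := by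
  apply pullback.hom_ext
  · simp [qMap, uMap, pMap, eHom, bcCone]
  · simp [qMap, uMap, eHom, bcCone]

end Limit2

section Limit3

open Groth.Agent.Lib.helper9

variable {I : Type u} [SmallCategory I] [IsCofiltered I]
    (D : I ⥤ Scheme.{u}) (c : Limits.Cone D) (hc : Limits.IsLimit c)
    [hD : ∀ (i j : I) (a : i ⟶ j), IsAffineHom (D.map a)]
    (i₀ : I) {X₀ Y₀ : Scheme.{u}} (f₀ : X₀ ⟶ Y₀) (g₀ : Y₀ ⟶ D.obj i₀)

include hc in
/-- **Limits of S-subtrusive morphisms** (the statement of S14791). -/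
theorem isSSubtrusive_limit [QuasiCompact f₀] {i₁ : I} (ψ : i₁ ⟶ i₀)
    (h : ∀ (i : I) (φ : i ⟶ i₁),
      Subtr.IsSSubtrusive (pullback.snd f₀ (pullback.fst g₀ (D.map (φ ≫ ψ))))) :
    Subtr.IsSSubtrusive (pullback.snd f₀ (pullback.fst g₀ (c.π.app i₀))) := by
  haveI : QuasiCompact (pullback.snd f₀ (pullback.fst g₀ (c.π.app i₀))) :=
    MorphismProperty.pullback_snd _ _ inferInstance
  refine isSSubtrusive_of_system (J := Over i₁) _
    (fun b => pullback f₀ (pullback.fst g₀ (D.map (b.hom ≫ ψ))))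
    (fun b => pullback g₀ (D.map (b.hom ≫ ψ)))
    (fun b => pullback.snd f₀ (pullback.fst g₀ (D.map (b.hom ≫ ψ))))
    (fun b => qMap D c i₀ f₀ g₀ ψ b) (fun b => pMap D c i₀ g₀ ψ b)
    (fun b => isPullback_qMap D c i₀ f₀ g₀ ψ b)
    (fun a => tXMap D i₀ f₀ g₀ ψ a) (fun a => tYMap D i₀ g₀ ψ a) ?_ ?_ ?_ ?_
    (fun b => h b.left b.hom)
  · intro b b' a
    apply pullback.hom_ext
    · simp [qMap, tXMap]
    · apply pullback.hom_ext
      · simp [qMap, tXMap, tYMap, pMap]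
      · simp [qMap, tXMap, tYMap, pMap]
  · intro b b' a
    apply pullback.hom_ext
    · simp [tYMap, pMap]
    · simp [tYMap, pMap]
  · intro b b' a
    simp [tXMap]
  · intro x U hU hxU
    have hB := isBasis_preimage_isAffineOpen (bcDiagram D i₀ (f₀ ≫ g₀))
      (bcCone D c i₀ (f₀ ≫ g₀)) (isLimitBcCone D c i₀ (f₀ ≫ g₀) hc)
    let U' : (pullback (c.π.app i₀) (f₀ ≫ g₀)).Opens :=
      ⟨eInv D c i₀ f₀ g₀ ⁻¹' U, hU.preimage (eInv D c i₀ f₀ g₀).continuous⟩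
    have hinv : ∀ z, eInv D c i₀ f₀ g₀ (eHom D c i₀ f₀ g₀ z) = z := by
      intro z
      rw [← Scheme.Hom.comp_apply, eHom_eInv]
      rfl
    have hxU' : eHom D c i₀ f₀ g₀ x ∈ U' := by
      show eInv D c i₀ f₀ g₀ (eHom D c i₀ f₀ g₀ x) ∈ U
      rw [hinv]; exact hxU
    obtain ⟨_, ⟨j', V, hV, rfl⟩, hxV, hVU⟩ :=
      TopologicalSpace.Opens.isBasis_iff_nbhd.mp hB hxU'
    obtain ⟨l, a, b, e⟩ := IsCofiltered.cospan j'.hom ψ
    have key : ∀ z, uMap D i₀ f₀ g₀ ψ j' a b e (qMap D c i₀ f₀ g₀ ψ (Over.mk b) z) =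
        (bcCone D c i₀ (f₀ ≫ g₀)).π.app j' (eHom D c i₀ f₀ g₀ z) := fun z => by
      have := congr($(qMap_uMap D c i₀ f₀ g₀ ψ j' a b e) z)
      rwa [Scheme.Hom.comp_apply, Scheme.Hom.comp_apply] at this
    refine ⟨Over.mk b,
      uMap D i₀ f₀ g₀ ψ j' a b e ⁻¹' V.1,
      V.2.preimage (uMap D i₀ f₀ g₀ ψ j' a b e).continuous, ?_, ?_⟩
    · show uMap D i₀ f₀ g₀ ψ j' a b e (qMap D c i₀ f₀ g₀ ψ (Over.mk b) x) ∈ V
      rw [key]
      exact hxV
    · intro z hz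
      have hz' : uMap D i₀ f₀ g₀ ψ j' a b e (qMap D c i₀ f₀ g₀ ψ (Over.mk b) z) ∈ V := hz
      rw [key] at hz'
      have h2 : eHom D c i₀ f₀ g₀ z ∈ U' := hVU hz'
      have h3 : eInv D c i₀ f₀ g₀ (eHom D c i₀ f₀ g₀ z) ∈ U := h2
      rwa [hinv] at h3

end Limit3

end Groth.Agent.Lib.helper4.SubtrLim
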