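import Mathlib
import Groth.Prelude.Def_W4c2submetdescSubtr
import Groth.Agent.Lib.Helper4.SubtrLim

/-!
# Basic permanence properties of S-subtrusive morphisms
-/

set_option backward.isDefEq.respectTransparency false
set_option backward.isDefEq.respectTransparency.types false
set_option autoImplicit false
set_option linter.style.haveILetI false
universe u

open CategoryTheory CategoryTheory.Limits AlgebraicGeometry

namespace Groth.Agent.Lib.helper4.SubtrBasic

open Groth.Agent.Lib.helper4.SubtrLim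

theorem comp {X Y Z : Scheme.{u}} {f : X ⟶ Y} {g : Y ⟶ Z} (hf : Subtr.IsSSubtrusive f)
    (hg : Subtr.IsSSubtrusive g) : Subtr.IsSSubtrusive (f ≫ g) := by
  intro z z' hzz'
  obtain ⟨y, y', hy, h1, h2⟩ := hg hzz'
  obtain ⟨x, x', hx, h3, h4⟩ := hf hy
  refine ⟨x, x', hx, ?_, ?_⟩
  · rw [Scheme.Hom.comp_apply, h3, h1]
  · rw [Scheme.Hom.comp_apply, h4, h2]

theorem of_comp {X Y Z : Scheme.{u}} {f : X ⟶ Y} {g : Y ⟶ Z}
    (h : Subtr.IsSSubtrusive (f ≫ g)) : Subtr.IsSSubtrusive g := by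
  intro z z' hzz'
  obtain ⟨x, x', hx, h1, h2⟩ := h hzz'
  exact ⟨f x, f x', hx.map f.continuous, by rw [← Scheme.Hom.comp_apply, h1],
    by rw [← Scheme.Hom.comp_apply, h2]⟩

theorem of_isIso {X Y : Scheme.{u}} (f : X ⟶ Y) [IsIso f] : Subtr.IsSSubtrusive f := by
  intro y y' hyy'
  refine ⟨inv f y, inv f y', hyy'.map (inv f).continuous, ?_, ?_⟩
  · rw [← Scheme.Hom.comp_apply, IsIso.inv_hom_id]; rfl
  · rw [← Scheme.Hom.comp_apply, IsIso.inv_hom_id]; rfl

theorem of_eq_comp {X X' Y Y' : Scheme.{u}} {f : X ⟶ Y} {f' : X' ⟶ Y'} (a : X' ⟶ X)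
    (b : Y' ⟶ Y) (hb : Subtr.IsSSubtrusive b) (hcomm : a ≫ f = f' ≫ b)
    (h : Subtr.IsSSubtrusive f') : Subtr.IsSSubtrusive f := by
  have h1 : Subtr.IsSSubtrusive (f' ≫ b) := comp h hb
  rw [← hcomm] at h1
  exact of_comp h1

/-- `pullback.snd f g'` when `g' = j ≫ g` with `j` a preimmersion. -/
theorem pullback_snd_of_isPreimmersion {X Y T T' : Scheme.{u}} (f : X ⟶ Y) (g : T ⟶ Y)
    (j : T' ⟶ T) [IsPreimmersion j] (h : Subtr.IsSSubtrusive (pullback.snd f g)) :
    Subtr.IsSSubtrusive (pullback.snd f (j ≫ g)) := by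
  have hcond : pullback.fst f (j ≫ g) ≫ f = (pullback.snd f (j ≫ g) ≫ j) ≫ g := by
    rw [Category.assoc]; exact pullback.condition
  have sq : IsPullback (pullback.lift (pullback.fst f (j ≫ g)) (pullback.snd f (j ≫ g) ≫ j) hcond)
      (pullback.snd f (j ≫ g)) (pullback.snd f g) j := by
    refine IsPullback.of_right ?_ (by simp) (IsPullback.of_hasPullback f g)
    have e1 : pullback.lift (pullback.fst f (j ≫ g)) (pullback.snd f (j ≫ g) ≫ j) hcond ≫
        pullback.fst f g = pullback.fst f (j ≫ g) := by simp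
    rw [e1]
    exact IsPullback.of_hasPullback f (j ≫ g)
  exact isSSubtrusive_of_isPullback_of_isPreimmersion sq h

/-- Descent along an S-subtrusive `j`. -/
theorem pullback_snd_of_comp {X Y T T' : Scheme.{u}} (f : X ⟶ Y) (g : T ⟶ Y)
    (j : T' ⟶ T) (hj : Subtr.IsSSubtrusive j) (h : Subtr.IsSSubtrusive (pullback.snd f (j ≫ g))) :
    Subtr.IsSSubtrusive (pullback.snd f g) := by
  have hcond : pullback.fst f (j ≫ g) ≫ f = (pullback.snd f (j ≫ g) ≫ j) ≫ g := by
    rw [Category.assoc]; exact pullback.condition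
  exact of_eq_comp (pullback.lift (pullback.fst f (j ≫ g)) (pullback.snd f (j ≫ g) ≫ j) hcond)
    j hj (by simp) h

/-- Iterated base change. -/
theorem pullback_snd_pullback_snd_iff {X Y Y₀ T : Scheme.{u}} (f : X ⟶ Y) (k₀ : Y₀ ⟶ Y)
    (r : T ⟶ Y₀) :
    Subtr.IsSSubtrusive (pullback.snd (pullback.snd f k₀) r) ↔
      Subtr.IsSSubtrusive (pullback.snd f (r ≫ k₀)) := by
  have e : pullback.snd (pullback.snd f k₀) r =
      (pullbackLeftPullbackSndIso f k₀ r).hom ≫ pullback.snd f (r ≫ k₀) := by simp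
  constructor
  · intro h
    rw [e] at h
    exact of_comp h
  · intro h
    rw [e]
    exact comp (of_isIso _) h

/-- Universally S-subtrusive morphisms in terms of the chosen pullbacks. -/
theorem univSSubtrusive_iff {X Y : Scheme.{u}} (f : X ⟶ Y) :
    Subtr.UnivSSubtrusive f ↔
      ∀ {T : Scheme.{u}} (g : T ⟶ Y), Subtr.IsSSubtrusive (pullback.snd f g) := by
  constructor
  · intro h T g
    exact h _ _ _ (IsPullback.of_hasPullback f g).flip
  · intro h X' Y' i₁ i₂ f' sq
    have e : f' = sq.flip.isoPullback.hom ≫ pullback.snd f i₂ := by simp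
    rw [e]
    exact comp (of_isIso _) (h i₂)

end Groth.Agent.Lib.helper4.SubtrBasic
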