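import Mathlib
import Groth.Prelude.Def_W4c2submetdescSubtr
import Groth.Agent.Lib.Helper4.SubtrBasic

set_option backward.isDefEq.respectTransparency false
set_option backward.isDefEq.respectTransparency.types false
set_option autoImplicit false
set_option linter.style.haveILetI false
universe u

open CategoryTheory CategoryTheory.Limits AlgebraicGeometry

namespace Groth.Agent.Lib.helper4.SubtrFG

variable (A V : Type u) [CommRing A] [CommRing V] [Algebra A V]

/-- The finitely generated subalgebra generated by a finite set. -/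
abbrev adj (s : Finset V) : Subalgebra A V := Algebra.adjoin A (s : Set V)

/-- The diagram of finitely generated subalgebras. -/
def adjFunctor : Finset V ⥤ CommRingCat.{u} where
  obj s := CommRingCat.of ↥(adj A V s)
  map {s t} h := CommRingCat.ofHom
    (Subalgebra.inclusion (Algebra.adjoin_mono (Finset.coe_subset.mpr (leOfHom h)))).toRingHom
  map_id s := by ext x; rfl
  map_comp f g := by ext x; rfl

/-- The cocone with vertex `V`. -/
def adjCocone : Cocone (adjFunctor A V) where
  pt := CommRingCat.of V
  ι :=
  { app s := CommRingCat.ofHom (adj A V s).val.toRingHom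
    naturality s t h := by ext x; rfl }

noncomputable def isColimitAdjCocone : IsColimit (adjCocone A V) := by
  classical
  haveI : ReflectsColimit (adjFunctor A V) (forget CommRingCat.{u}) :=
    reflectsColimit_of_reflectsIsomorphisms _ _
  apply isColimitOfReflects (forget CommRingCat.{u})
  apply Types.FilteredColimit.isColimitOf
  · intro v
    exact ⟨{v}, ⟨v, Algebra.subset_adjoin (by simp)⟩, rfl⟩
  · intro s t xs xt h
    refine ⟨s ∪ t, homOfLE Finset.subset_union_left, homOfLE Finset.subset_union_right, ?_⟩
    apply Subtype.ext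
    exact h

/-- The diagram of spectra of finitely generated subalgebras. -/
noncomputable def specDiagram : (Finset V)ᵒᵖ ⥤ Scheme.{u} := (adjFunctor A V).op ⋙ Scheme.Spec

/-- The cone with vertex `Spec V`. -/
noncomputable def specCone : Cone (specDiagram A V) := Scheme.Spec.mapCone (adjCocone A V).op

/-- `Spec V` is the limit of the spectra of the finitely generated subalgebras. -/
noncomputable def isLimitSpecCone : IsLimit (specCone A V) :=
  isLimitOfPreserves Scheme.Spec (isColimitAdjCocone A V).op

instance (i j : (Finset V)ᵒᵖ) (a : i ⟶ j) : IsAffineHom ((specDiagram A V).map a) := by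
  dsimp [specDiagram]; infer_instance

theorem specDiagram_map_comp {i j : (Finset V)ᵒᵖ} (a : i ⟶ j) :
    (specDiagram A V).map a ≫ Spec.map (CommRingCat.ofHom (algebraMap A ↥(adj A V j.unop))) =
      Spec.map (CommRingCat.ofHom (algebraMap A ↥(adj A V i.unop))) := by
  dsimp [specDiagram]
  rw [← Spec.map_comp]
  rfl

theorem specCone_π_comp (i : (Finset V)ᵒᵖ) :
    (specCone A V).π.app i ≫ Spec.map (CommRingCat.ofHom (algebraMap A ↥(adj A V i.unop))) =
      Spec.map (CommRingCat.ofHom (algebraMap A V)) := by
  dsimp [specCone]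
  rw [← Spec.map_comp]
  rfl

open Groth.Agent.Lib.helper4.SubtrBasic Groth.Agent.Lib.helper4.SubtrLim in
/-- **Reduction to finitely generated subalgebras.** -/
theorem isSSubtrusive_of_forall_adjoin {X Y : Scheme.{u}} (f : X ⟶ Y) [QuasiCompact f]
    (k : Spec (CommRingCat.of A) ⟶ Y)
    (h : ∀ s : Finset V, Subtr.IsSSubtrusive
      (pullback.snd f (Spec.map (CommRingCat.ofHom (algebraMap A ↥(adj A V s))) ≫ k))) :
    Subtr.IsSSubtrusive (pullback.snd f (Spec.map (CommRingCat.ofHom (algebraMap A V)) ≫ k)) := by
  classical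
  let i₀ : (Finset V)ᵒᵖ := Opposite.op ∅
  let k₀ : (specDiagram A V).obj i₀ ⟶ Y :=
    Spec.map (CommRingCat.ofHom (algebraMap A ↥(adj A V ∅))) ≫ k
  haveI : QuasiCompact (pullback.snd f k₀) := MorphismProperty.pullback_snd _ _ inferInstance
  have key := isSSubtrusive_limit (specDiagram A V) (specCone A V) (isLimitSpecCone A V) i₀
    (pullback.snd f k₀) (𝟙 ((specDiagram A V).obj i₀)) (𝟙 i₀) ?_
  · rw [pullback_snd_pullback_snd_iff] at key
    have e : pullback.fst (𝟙 ((specDiagram A V).obj i₀)) ((specCone A V).π.app i₀) ≫ k₀ =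
        pullback.snd (𝟙 ((specDiagram A V).obj i₀)) ((specCone A V).π.app i₀) ≫
          (Spec.map (CommRingCat.ofHom (algebraMap A V)) ≫ k) := by
      have h1 := pullback.condition (f := 𝟙 ((specDiagram A V).obj i₀))
        (g := (specCone A V).π.app i₀)
      rw [Category.comp_id] at h1
      rw [h1, Category.assoc, ← specCone_π_comp A V i₀]
      simp only [k₀, Category.assoc]
      rfl
    rw [e] at key
    exact pullback_snd_of_comp f _ _ (of_isIso _) key
  · intro i φ
    rw [pullback_snd_pullback_snd_iff]
    have e : pullback.fst (𝟙 ((specDiagram A V).obj i₀)) ((specDiagram A V).map (φ ≫ 𝟙 i₀)) ≫ k₀ =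
        pullback.snd (𝟙 ((specDiagram A V).obj i₀)) ((specDiagram A V).map (φ ≫ 𝟙 i₀)) ≫
          (Spec.map (CommRingCat.ofHom (algebraMap A ↥(adj A V i.unop))) ≫ k) := by
      have h1 : pullback.fst (𝟙 ((specDiagram A V).obj i₀)) ((specDiagram A V).map (φ ≫ 𝟙 i₀)) =
          pullback.snd (𝟙 ((specDiagram A V).obj i₀)) ((specDiagram A V).map (φ ≫ 𝟙 i₀)) ≫
            (specDiagram A V).map (φ ≫ 𝟙 i₀) :=
        (Category.comp_id _).symm.trans pullback.condition
      rw [h1, Category.assoc, ← specDiagram_map_comp A V (φ ≫ 𝟙 i₀)]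
      simp only [k₀, Category.assoc]
      rfl
    rw [e]
    exact pullback_snd_of_isPreimmersion f _ _ (h i.unop)

end Groth.Agent.Lib.helper4.SubtrFG
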