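import Mathlib
import Groth.Agent.Lib.Helper13.RatExt1
import Groth.Agent.Lib.Helper4.DvrDense5

/-!
# Flatness of reduced schemes all of whose maximal points dominate a Dedekind-like base (helper4)
-/

set_option backward.isDefEq.respectTransparency false
set_option backward.isDefEq.respectTransparency.types false
set_option autoImplicit false
set_option linter.style.haveILetI false

open CategoryTheory AlgebraicGeometry Limits

universe u

namespace Groth.Agent.Lib.helper4.DedekindUnivOpen

open Groth.Agent.Lib.helper4.GenFinite3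

theorem flat_of_minimalPrimes_comap_eq_bot {R O : Type*} [CommRing R] [IsDomain R]
    [ValuationRing R] [CommRing O] [IsReduced O] (φ : R →+* O)
    (h : ∀ q ∈ minimalPrimes O, q.comap φ = ⊥) : φ.Flat := by
  letI := φ.toAlgebra
  show Module.Flat R O
  rw [Module.Flat.flat_iff_torsion_eq_bot_of_isBezout, eq_bot_iff]
  rintro m ⟨⟨r, hr⟩, hrm⟩
  rw [Submodule.mem_bot]
  by_contra hm
  have hrm' : φ r * m = 0 := hrm
  have hnil : m ∉ sInf (minimalPrimes O) := by
    rw [minimalPrimes, Ideal.sInf_minimalPrimes, Ideal.radical_bot_of_isReduced]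
    exact hm
  rw [Submodule.mem_sInf] at hnil
  push Not at hnil
  obtain ⟨q, hq, hmq⟩ : ∃ q : Ideal O, q ∈ minimalPrimes O ∧ m ∉ q := hnil
  have hqp : q.IsPrime := hq.1.1
  have h1 : φ r * m ∈ q := by rw [hrm']; exact q.zero_mem
  have h2 : φ r ∈ q := (hqp.mem_or_mem h1).resolve_right hmq
  have h3 : r ∈ q.comap φ := h2
  rw [h q hq, Ideal.mem_bot] at h3
  exact nonZeroDivisors.ne_zero hr h3

theorem fromSpecStalk_specializes_iff {X : Scheme.{u}} (x : X)
    (a b : Spec (X.presheaf.stalk x)) :
    X.fromSpecStalk x a ⤳ X.fromSpecStalk x b ↔ a.asIdeal ≤ b.asIdeal := by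
  rw [(X.fromSpecStalk x).isEmbedding.isInducing.specializes_iff]
  exact (PrimeSpectrum.le_iff_specializes a b).symm

theorem map_fromSpecStalk {X Y : Scheme.{u}} (f : X ⟶ Y) (x : X)
    (a : Spec (X.presheaf.stalk x)) :
    f (X.fromSpecStalk x a) = Y.fromSpecStalk (f x) (Spec.map (f.stalkMap x) a) := by
  have hsq := Scheme.SpecMap_stalkMap_fromSpecStalk (f := f) (x := x)
  have h1 : (X.fromSpecStalk x ≫ f) a = (Spec.map (f.stalkMap x) ≫ Y.fromSpecStalk (f x)) a := by
    rw [hsq]
  exact h1

/-- Stalkwise flatness over a regular base of dimension at most one, for a reduced source all of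
whose maximal points go to the generic point. -/
theorem flat_stalkMap_of_maxPts {X Y : Scheme.{u}} [IsReduced X] [IrreducibleSpace Y]
    (g : X ⟶ Y) (x : X)
    (hreg : IsRegularLocalRing (Y.presheaf.stalk (g x)))
    (hdim : ringKrullDim (Y.presheaf.stalk (g x)) ≤ 1)
    (hmax : ∀ η : X, IsMaxPt η → g η = genericPoint Y) :
    (g.stalkMap x).hom.Flat := by
  obtain ⟨hdom, hval⟩ :=
    Groth.Agent.Lib.helper13.RatExt.valuationRing_of_isRegularLocalRing
      (Y.presheaf.stalk (g x)) hdim
  apply flat_of_minimalPrimes_comap_eq_bot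
  intro q hq
  have hqp : q.IsPrime := hq.1.1
  let a : Spec (X.presheaf.stalk x) := ⟨q, hqp⟩
  set η := X.fromSpecStalk x a with hη
  have hηmax : IsMaxPt η := by
    intro z hz
    have hηx : η ⤳ x := by
      have : η ∈ Set.range (X.fromSpecStalk x) := ⟨a, rfl⟩
      rw [Scheme.range_fromSpecStalk] at this
      exact this
    have hzr : z ∈ Set.range (X.fromSpecStalk x) := by
      rw [Scheme.range_fromSpecStalk]
      exact hz.trans hηx
    obtain ⟨b, rfl⟩ := hzr
    rw [hη, fromSpecStalk_specializes_iff] at hz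
    have hba : b.asIdeal = q := le_antisymm hz (hq.2 ⟨b.2, bot_le⟩ hz)
    have : b = a := PrimeSpectrum.ext hba
    rw [this]
  have h1 := hmax η hηmax
  rw [hη, map_fromSpecStalk] at h1
  let c : Spec (Y.presheaf.stalk (g x)) := Spec.map (g.stalkMap x) a
  let b0 : Spec (Y.presheaf.stalk (g x)) := ⟨⊥, Ideal.isPrime_bot⟩
  have h2 : Y.fromSpecStalk (g x) b0 ⤳ Y.fromSpecStalk (g x) c := by
    rw [fromSpecStalk_specializes_iff]
    exact bot_le
  have h3 : Y.fromSpecStalk (g x) c ⤳ Y.fromSpecStalk (g x) b0 := by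
    show Y.fromSpecStalk (g x) (Spec.map (g.stalkMap x) a) ⤳ _
    rw [h1]
    exact genericPoint_specializes _
  have h4 : Y.fromSpecStalk (g x) c = Y.fromSpecStalk (g x) b0 := (h3.antisymm h2).eq
  have h5 : c = b0 := (Y.fromSpecStalk (g x)).isEmbedding.injective h4
  have h6 : c.asIdeal = ⊥ := congrArg PrimeSpectrum.asIdeal h5
  exact h6

end Groth.Agent.Lib.helper4.DedekindUnivOpen
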