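import Mathlib
import Groth.Agent.Lib.Helper4.DedekindUnivOpen1
set_option backward.isDefEq.respectTransparency false
set_option backward.isDefEq.respectTransparency.types false
set_option autoImplicit false
set_option linter.style.haveILetI false

open AlgebraicGeometry CategoryTheory

universe u

namespace Groth.Agent.Lib.helper4.CurveFlat

open Groth.Agent.Lib.helper4.GenFinite3 Groth.Agent.Lib.helper4.DedekindUnivOpen

/-- Variant of `flat_stalkMap_of_maxPts` assuming directly that the target stalk is a valuation
ring. -/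
theorem flat_stalkMap_of_maxPts' {X Y : Scheme.{u}} [IsReduced X] [IrreducibleSpace Y]
    (g : X ⟶ Y) (x : X)
    [hdom : IsDomain (Y.presheaf.stalk (g x))] [hval : ValuationRing (Y.presheaf.stalk (g x))]
    (hmax : ∀ η : X, IsMaxPt η → g η = genericPoint Y) :
    (g.stalkMap x).hom.Flat := by
  apply flat_of_minimalPrimes_comap_eq_bot
  intro q hq
  have hqp : q.IsPrime := hq.1.1
  let a : Spec (X.presheaf.stalk x) := ⟨q, hqp⟩
  set η := X.fromSpecStalk x a with hη
  have hηmax : IsMaxPt η := by
    intro z hz
    have hηx : η ⤳ x := by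
      have : η ∈ Set.range (X.fromSpecStalk x) := ⟨a, rfl⟩
      rw [Scheme.range_fromSpecStalk] at this
      exact this
    have hzr : z ∈ Set.range (X.fromSpecStalk x) := by
      rw [Scheme.range_fromSpecStalk]
      exact hz.trans hηx
    obtain ⟨b, rfl⟩ := hzr
    rw [hη, fromSpecStalk_specializes_iff] at hz
    have hba : b.asIdeal = q := le_antisymm hz (hq.2 ⟨b.2, bot_le⟩ hz)
    have : b = a := PrimeSpectrum.ext hba
    rw [this]
  have h1 := hmax η hηmax
  rw [hη, map_fromSpecStalk] at h1
  let c : Spec (Y.presheaf.stalk (g x)) := Spec.map (g.stalkMap x) a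
  let b0 : Spec (Y.presheaf.stalk (g x)) := ⟨⊥, Ideal.isPrime_bot⟩
  have h2 : Y.fromSpecStalk (g x) b0 ⤳ Y.fromSpecStalk (g x) c := by
    rw [fromSpecStalk_specializes_iff]
    exact bot_le
  have h3 : Y.fromSpecStalk (g x) c ⤳ Y.fromSpecStalk (g x) b0 := by
    show Y.fromSpecStalk (g x) (Spec.map (g.stalkMap x) a) ⤳ _
    rw [h1]
    exact genericPoint_specializes _
  have h4 : Y.fromSpecStalk (g x) c = Y.fromSpecStalk (g x) b0 := (h3.antisymm h2).eq
  have h5 : c = b0 := (Y.fromSpecStalk (g x)).isEmbedding.injective h4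
  have h6 : c.asIdeal = ⊥ := congrArg PrimeSpectrum.asIdeal h5
  exact h6

theorem valuationRing_of_normal_dim_le_one (R : Type*) [CommRing R] [IsDomain R]
    [IsNoetherianRing R] [IsLocalRing R] [IsIntegrallyClosed R] (hdim : ringKrullDim R ≤ 1) :
    ValuationRing R := by
  haveI : (⊥ : Ideal R).IsPrime := Ideal.isPrime_bot
  have h1 : Ring.KrullDimLE 1 R := Ring.krullDimLE_iff.mpr hdim
  have h2 := Ring.krullDimLE_one_iff_of_isPrime_bot.mp h1
  have h3 : IsIntegrallyClosed R ∧ ∀ P : Ideal R, P ≠ ⊥ → P.IsPrime →
      P = IsLocalRing.maximalIdeal R :=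
    ⟨inferInstance, fun P hP0 hP => IsLocalRing.eq_maximalIdeal (h2 P hP0 hP)⟩
  exact ((tfae_of_isNoetherianRing_of_isLocalRing_of_isDomain (R := R)).out 1 3).mpr h3

theorem ringKrullDim_stalk_le (Y : Scheme.{u}) (y : Y) :
    ringKrullDim (Y.presheaf.stalk y) ≤ topologicalKrullDim Y := by
  rw [← PrimeSpectrum.topologicalKrullDim_eq_ringKrullDim]
  exact (Y.fromSpecStalk y).isEmbedding.isInducing.topologicalKrullDim_le

/-- In an irreducible T0 space of dimension at most one, a point different from the generic point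
is closed. -/
theorem isClosed_singleton_of_ne_genericPoint {T : Type*} [TopologicalSpace T] [T0Space T]
    [IrreducibleSpace T] [QuasiSober T] (hdim : topologicalKrullDim T ≤ 1) (y : T)
    (hy : y ≠ genericPoint T) : IsClosed ({y} : Set T) := by
  rw [topologicalKrullDim, Order.krullDim_le_one_iff] at hdim
  let Z : TopologicalSpace.IrreducibleCloseds T :=
    ⟨closure {y}, isIrreducible_singleton.closure, isClosed_closure⟩
  rcases hdim Z with hmin | hmax
  · apply isClosed_of_closure_subset
    intro y₁ hy₁
    let Z₁ : TopologicalSpace.IrreducibleCloseds T :=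
      ⟨closure {y₁}, isIrreducible_singleton.closure, isClosed_closure⟩
    have hle : Z₁ ≤ Z := by
      show closure {y₁} ⊆ closure {y}
      exact closure_minimal (Set.singleton_subset_iff.mpr hy₁) isClosed_closure
    have hge : Z ≤ Z₁ := hmin hle
    have h1 : y ⤳ y₁ := specializes_iff_mem_closure.mpr hy₁
    have h2 : y₁ ⤳ y := specializes_iff_closure_subset.mpr hge
    exact (h2.antisymm h1).eq
  · exfalso
    apply hy
    let Ztop : TopologicalSpace.IrreducibleCloseds T :=
      ⟨Set.univ, IrreducibleSpace.isIrreducible_univ T, isClosed_univ⟩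
    have hle : Z ≤ Ztop := fun _ _ => Set.mem_univ _
    have hge : Ztop ≤ Z := hmax hle
    have h1 : y ⤳ genericPoint T := by
      rw [specializes_iff_mem_closure]
      exact hge (Set.mem_univ _)
    exact ((genericPoint_specializes y).antisymm h1).eq.symm


theorem flat_of_nonconstant (k : Type u) [Field k] (X Y : Scheme.{u})
    (q : Y ⟶ Spec (CommRingCat.of k))
    [IsIntegral X] [IsIntegral Y] [LocallyOfFiniteType q]
    (hY : topologicalKrullDim Y = 1)
    (hN : ∀ y : Y, IsDomain (Y.presheaf.stalk y) ∧ IsIntegrallyClosed (Y.presheaf.stalk y))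
    (f : X ⟶ Y) (hnc : (Set.range f.base).Nontrivial) :
    Flat f := by
  haveI : IsLocallyNoetherian Y := LocallyOfFiniteType.isLocallyNoetherian q
  have hgen : f (genericPoint X) = genericPoint Y := by
    by_contra hne
    have hcl : IsClosed ({f (genericPoint X)} : Set Y) :=
      isClosed_singleton_of_ne_genericPoint hY.le _ hne
    have hsub : Set.range f.base ⊆ {f (genericPoint X)} := by
      rintro _ ⟨x, rfl⟩
      have h1 : f (genericPoint X) ⤳ f x := (genericPoint_specializes x).map f.continuous
      have h2 : f x ∈ closure ({f (genericPoint X)} : Set Y) := specializes_iff_mem_closure.mp h1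
      rw [hcl.closure_eq] at h2
      exact h2
    exact (Set.subsingleton_singleton.anti hsub).not_nontrivial hnc
  have hmax : ∀ η : X, IsMaxPt η → f η = genericPoint Y := by
    intro η hη
    rw [← hη _ (genericPoint_specializes η)]
    exact hgen
  refine Flat.of_stalkMap (f := f) (fun x => ?_)
  haveI := (hN (f x)).1
  haveI := (hN (f x)).2
  haveI : ValuationRing (Y.presheaf.stalk (f x)) :=
    valuationRing_of_normal_dim_le_one _ ((ringKrullDim_stalk_le Y (f x)).trans hY.le)
  exact flat_stalkMap_of_maxPts' f x hmax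

end Groth.Agent.Lib.helper4.CurveFlat
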