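import Mathlib

/-!
# Local rings of an integral separated scheme inside the function field

* `specializes_of_range_stalkSpecializes_subset`: if `X` is integral and separated and
  `O_{X,x} ⊆ O_{X,y}` inside the stalk at the generic point, then `y ⤳ x`.
-/

set_option backward.isDefEq.respectTransparency false
set_option backward.isDefEq.respectTransparency.types false
set_option autoImplicit false
universe u
open CategoryTheory AlgebraicGeometry

namespace Groth.Agent.Lib.helper4.StalkDom

/-- The specialization map to the stalk at the generic point of an integral scheme is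
injective. -/
theorem stalkSpecializes_genericPoint_injective (X : Scheme.{u}) [IsIntegral X] (x : X) :
    Function.Injective (X.presheaf.stalkSpecializes (genericPoint_specializes x)) :=
  IsFractionRing.injective (X.presheaf.stalk x) X.functionField

/-- `Spec` of an injective ring map is dominant. -/
theorem isDominant_SpecMap_of_injective {R S : CommRingCat.{u}} (φ : R ⟶ S)
    (hφ : Function.Injective φ.hom) : IsDominant (Spec.map φ) := by
  refine ⟨?_⟩
  have : DenseRange (PrimeSpectrum.comap φ.hom) := by
    rw [PrimeSpectrum.denseRange_comap_iff_ker_le_nilRadical,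
      (RingHom.injective_iff_ker_eq_bot _).mp hφ]
    exact bot_le
  exact this

/-- If `O_{X,x} ⊆ O_{X,y}` inside the function field of an integral separated scheme, then
there is a ring map `j : O_{X,x} → O_{X,y}` compatible with the inclusions and with
`Spec j ≫ fromSpecStalk x = fromSpecStalk y`. -/
theorem exists_hom_of_range_subset (X : Scheme.{u}) [IsIntegral X] [X.IsSeparated] (x y : X)
    (hsub : Set.range (X.presheaf.stalkSpecializes (genericPoint_specializes x)) ⊆
      Set.range (X.presheaf.stalkSpecializes (genericPoint_specializes y))) :
    ∃ j : X.presheaf.stalk x ⟶ X.presheaf.stalk y,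
      j ≫ X.presheaf.stalkSpecializes (genericPoint_specializes y) =
        X.presheaf.stalkSpecializes (genericPoint_specializes x) ∧
      Spec.map j ≫ X.fromSpecStalk x = X.fromSpecStalk y := by
  set sx := X.presheaf.stalkSpecializes (genericPoint_specializes x) with hsx
  set sy := X.presheaf.stalkSpecializes (genericPoint_specializes y) with hsy
  have hinj : Function.Injective sy.hom := stalkSpecializes_genericPoint_injective X y
  let e : X.presheaf.stalk y ≃+* sy.hom.range :=
    RingEquiv.ofBijective sy.hom.rangeRestrict
      ⟨fun a b hab => hinj (congrArg Subtype.val hab), sy.hom.rangeRestrict_surjective⟩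
  let j₀ : X.presheaf.stalk x →+* X.presheaf.stalk y :=
    e.symm.toRingHom.comp (sx.hom.codRestrict sy.hom.range (fun a => hsub ⟨a, rfl⟩))
  have hj₀ : ∀ a, sy.hom (j₀ a) = sx.hom a := by
    intro a
    have h1 : e (j₀ a) = sx.hom.codRestrict sy.hom.range (fun a => hsub ⟨a, rfl⟩) a :=
      e.apply_symm_apply _
    exact congrArg Subtype.val h1
  have hjs : CommRingCat.ofHom j₀ ≫ sy = sx := by
    ext a
    exact hj₀ a
  refine ⟨CommRingCat.ofHom j₀, hjs, ?_⟩
  have : IsDominant (Spec.map sy) := isDominant_SpecMap_of_injective sy hinj
  have : IsDomain (X.presheaf.stalk y) := inferInstance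
  have : IsIntegral (Spec (X.presheaf.stalk y)) := inferInstance
  refine ext_of_isDominant (Spec.map sy) ?_
  rw [← Spec.map_comp_assoc, hjs, hsx, hsy, Scheme.SpecMap_stalkSpecializes_fromSpecStalk,
    Scheme.SpecMap_stalkSpecializes_fromSpecStalk]

/-- If `O_{X,x} ⊆ O_{X,y}` inside the function field of an integral separated scheme, then
`y ⤳ x`. -/
theorem specializes_of_range_stalkSpecializes_subset (X : Scheme.{u}) [IsIntegral X]
    [X.IsSeparated] (x y : X)
    (hsub : Set.range (X.presheaf.stalkSpecializes (genericPoint_specializes x)) ⊆
      Set.range (X.presheaf.stalkSpecializes (genericPoint_specializes y))) : y ⤳ x := by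
  obtain ⟨j, -, hj⟩ := exists_hom_of_range_subset X x y hsub
  have h1 : y ∈ Set.range (X.fromSpecStalk x) := by
    refine ⟨Spec.map j (IsLocalRing.closedPoint (X.presheaf.stalk y)), ?_⟩
    rw [← Scheme.Hom.comp_apply, hj, Scheme.fromSpecStalk_closedPoint]
  rw [Scheme.range_fromSpecStalk] at h1
  exact h1

end Groth.Agent.Lib.helper4.StalkDom
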