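import Mathlib
import Groth.Agent.Lib.Helper4.StalkDom

/-!
# Integral separated schemes over a valuation ring with trivial generic fibre
-/

set_option backward.isDefEq.respectTransparency false
set_option backward.isDefEq.respectTransparency.types false
set_option autoImplicit false
universe u
open CategoryTheory AlgebraicGeometry

namespace Groth.Agent.Lib.helper4.ValIso

/-- A local ring dominating a valuation ring inside (an extension of) its fraction field, such
that the fraction fields agree, is equal to it. -/
theorem bijective_of_valuationRing_dominated {V B KV L : Type*} [CommRing V] [IsDomain V]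
    [ValuationRing V] [CommRing B] [Field KV] [Field L] [Algebra V KV]
    [IsFractionRing V KV] (a : V →+* B) [IsLocalHom a] (i : B →+* L)
    (hi : Function.Injective i) (b : KV →+* L) (hb : Function.Surjective b)
    (hcomm : i.comp a = b.comp (algebraMap V KV)) : Function.Bijective a := by
  have hc : ∀ v, i (a v) = b (algebraMap V KV v) := fun v => RingHom.congr_fun hcomm v
  constructor
  · intro v w hvw
    have h1 : b (algebraMap V KV v) = b (algebraMap V KV w) := by rw [← hc, ← hc, hvw]
    exact IsFractionRing.injective V KV (b.injective h1)
  · intro s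
    obtain ⟨k, hk⟩ := hb (i s)
    rcases ValuationRing.isInteger_or_isInteger V k with ⟨v, hv⟩ | ⟨v, hv⟩
    · refine ⟨v, hi ?_⟩
      rw [hc, hv, hk]
    · by_cases hk0 : k = 0
      · refine ⟨0, hi ?_⟩
        rw [map_zero, map_zero, ← hk, hk0, map_zero]
      · have h1 : i (a v * s) = 1 := by
          rw [map_mul, hc, hv, ← hk, ← map_mul, inv_mul_cancel₀ hk0, map_one]
        have h2 : a v * s = 1 := hi (by rw [h1, map_one])
        have h3 : IsUnit (a v) := IsUnit.of_mul_eq_one _ h2
        have h4 : IsUnit v := (isUnit_map_iff a v).mp h3
        obtain ⟨u, rfl⟩ := h4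
        refine ⟨((u⁻¹ : Vˣ) : V), hi ?_⟩
        have h5 : algebraMap V KV ((u⁻¹ : Vˣ) : V) = k := by
          have h6 : algebraMap V KV ((u⁻¹ : Vˣ) : V) * algebraMap V KV (u : V) = 1 := by
            rw [← map_mul, Units.inv_mul, map_one]
          rw [hv] at h6
          have := eq_inv_of_mul_eq_one_left h6
          rw [this, inv_inv]
        rw [hc, h5, hk]


variable (R : CommRingCat.{u}) [IsDomain R] [ValuationRing R]

/-- The local rings of the spectrum of a valuation ring are valuation rings. -/
theorem valuationRing_stalk (p : Spec R) :
    ValuationRing ((Spec R).presheaf.stalk p) := by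
  rw [ValuationRing.iff_isInteger_or_isInteger ((Spec R).presheaf.stalk p)
    (Spec R).functionField]
  intro k
  have key : ∀ a : R, algebraMap ((Spec R).presheaf.stalk p)
      (Spec R).functionField (StructureSheaf.toStalk R p a) =
      algebraMap R (Spec R).functionField a := by
    intro a
    have := StructureSheaf.toStalk_stalkSpecializes (R := R)
      (genericPoint_specializes (α := Spec R) p)
    exact congrArg (fun φ => φ.hom a) this
  rcases ValuationRing.isInteger_or_isInteger R k with ⟨a, ha⟩ | ⟨a, ha⟩
  · left; exact ⟨StructureSheaf.toStalk R p a, by rw [key, ha]⟩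
  · right; exact ⟨StructureSheaf.toStalk R p a, by rw [key, ha]⟩

/-- Let `R` be a valuation ring, `X` an integral separated scheme and `f : X ⟶ Spec R` a closed
map whose generic fibre is a single point with trivial residue field extension. Then `f` is an
isomorphism. -/
theorem isIso_of_isClosedMap (X : Scheme.{u}) [IsIntegral X] [X.IsSeparated] (f : X ⟶ Spec R)
    (hf : IsClosedMap f.base) (x : X) (hx : f.base ⁻¹' {genericPoint (Spec R)} = {x})
    (hres : Function.Bijective (f.residueFieldMap x).hom) : IsIso f := by
  have hfx : f.base x = genericPoint (Spec R) := by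
    have : x ∈ f.base ⁻¹' {genericPoint (Spec R)} := by rw [hx]; rfl
    exact this
  have hfξ : f.base (genericPoint X) = genericPoint (Spec R) := by
    have h1 : f.base (genericPoint X) ⤳ f.base x :=
      (genericPoint_specializes x).map f.continuous
    rw [hfx] at h1
    exact (h1.antisymm (genericPoint_specializes _)).eq
  obtain rfl : x = genericPoint X := by
    have : genericPoint X ∈ f.base ⁻¹' {genericPoint (Spec R)} := hfξ
    rw [hx] at this
    exact this.symm
  -- the map on function fields
  let b : (Spec R).functionField →+* X.functionField :=
    ((Spec R).presheaf.stalkSpecializes (specializes_of_eq hfξ) ≫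
      f.stalkMap (genericPoint X)).hom
  have hb : Function.Surjective b := by
    intro t
    obtain ⟨r, hr⟩ := hres.2 (X.residue (genericPoint X) t)
    obtain ⟨u, rfl⟩ := IsLocalRing.residue_surjective
      (R := (Spec R).presheaf.stalk (f.base (genericPoint X))) r
    have h1 : X.residue (genericPoint X) (f.stalkMap (genericPoint X) u) =
        X.residue (genericPoint X) t := by
      rw [← hr]
      exact (congrArg (fun φ => φ.hom u)
        (Scheme.residue_residueFieldMap f (genericPoint X))).symm
    have hinj : Function.Injective (X.residue (genericPoint X)) := by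
      have : IsField (X.presheaf.stalk (genericPoint X)) :=
        (inferInstance : Field X.functionField).toIsField
      exact (RingHom.injective_iff_ker_eq_bot (X.residue (genericPoint X)).hom).mpr (by
        have h2 : RingHom.ker (X.residue (genericPoint X)).hom =
            IsLocalRing.maximalIdeal (X.presheaf.stalk (genericPoint X)) :=
          IsLocalRing.ker_residue
        rw [h2]
        exact IsLocalRing.isField_iff_maximalIdeal_eq.mp this)
    refine ⟨(Spec R).presheaf.stalkSpecializes
      (specializes_of_eq hfξ.symm) u, ?_⟩
    have h3 : (Spec R).presheaf.stalkSpecializes (specializes_of_eq hfξ)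
        ((Spec R).presheaf.stalkSpecializes (specializes_of_eq hfξ.symm) u) = u := by
      have := TopCat.Presheaf.stalkSpecializes_comp (Spec R).presheaf
        (specializes_of_eq hfξ) (specializes_of_eq hfξ.symm)
      have h4 := congrArg (fun φ => φ.hom u) this
      simp only [TopCat.Presheaf.stalkSpecializes_refl] at h4
      exact h4
    show f.stalkMap (genericPoint X) ((Spec R).presheaf.stalkSpecializes (specializes_of_eq hfξ)
        ((Spec R).presheaf.stalkSpecializes (specializes_of_eq hfξ.symm) u)) = t
    rw [h3]
    exact hinj h1
  -- compatibility of `b` with the stalk maps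
  have hcomm : ∀ x' : X, f.stalkMap x' ≫
      X.presheaf.stalkSpecializes (genericPoint_specializes x') =
      (Spec R).presheaf.stalkSpecializes (genericPoint_specializes (f.base x')) ≫
        CommRingCat.ofHom b := by
    intro x'
    rw [← Scheme.Hom.stalkSpecializes_stalkMap]
    show _ = _ ≫ ((Spec R).presheaf.stalkSpecializes (specializes_of_eq hfξ) ≫
      f.stalkMap (genericPoint X))
    rw [← Category.assoc, TopCat.Presheaf.stalkSpecializes_comp]
  -- all stalk maps are bijective
  have hbij : ∀ x' : X, Function.Bijective (f.stalkMap x').hom := by
    intro x'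
    have := valuationRing_stalk R (f.base x')
    refine bijective_of_valuationRing_dominated (V := (Spec R).presheaf.stalk (f.base x'))
      (KV := (Spec R).functionField) (L := X.functionField) (f.stalkMap x').hom
      (X.presheaf.stalkSpecializes (genericPoint_specializes x')).hom
      (StalkDom.stalkSpecializes_genericPoint_injective X x') b hb ?_
    exact congrArg CommRingCat.Hom.hom (hcomm x')
  have hstalk : ∀ x' : X, IsIso (f.stalkMap x') := fun x' =>
    (ConcreteCategory.isIso_iff_bijective _).mpr (hbij x')
  -- surjectivity
  have hsurj : Function.Surjective f.base := by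
    intro p
    have h1 : IsClosed (Set.range f.base) := hf.isClosed_range
    have h2 : genericPoint (Spec R) ∈ Set.range f.base := ⟨_, hfξ⟩
    have h3 : closure {genericPoint (Spec R)} ⊆ Set.range f.base :=
      h1.closure_subset_iff.mpr (Set.singleton_subset_iff.mpr h2)
    exact h3 ((genericPoint_specializes p).mem_closure)
  -- injectivity
  have hle : ∀ x' x'' : X, f.base x' = f.base x'' → x'' ⤳ x' := by
    intro x' x'' hxx
    apply StalkDom.specializes_of_range_stalkSpecializes_subset
    rintro _ ⟨s, rfl⟩
    obtain ⟨v, rfl⟩ := (hbij x').2 s
    refine ⟨f.stalkMap x'' ((Spec R).presheaf.stalkSpecializes (specializes_of_eq hxx.symm) v),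
      ?_⟩
    have e1 := congrArg (fun φ => φ.hom v) (hcomm x')
    have e2 := congrArg (fun φ => φ.hom
      ((Spec R).presheaf.stalkSpecializes (specializes_of_eq hxx.symm) v)) (hcomm x'')
    simp only [CommRingCat.hom_comp, RingHom.coe_comp, Function.comp_apply] at e1 e2
    rw [e1, e2]
    congr 1
    have := TopCat.Presheaf.stalkSpecializes_comp (Spec R).presheaf
      (genericPoint_specializes (f.base x'')) (specializes_of_eq hxx.symm)
    exact congrArg (fun φ => φ.hom v) this
  have hinj : Function.Injective f.base := by
    intro x' x'' hxx
    exact ((hle x'' x' hxx.symm).antisymm (hle x' x'' hxx)).eq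
  have hbase : IsIso f.base :=
    TopCat.isIso_of_bijective_of_isClosedMap _ ⟨hinj, hsurj⟩ hf
  exact (isIso_iff_isIso_stalkMap f).mpr ⟨hbase, hstalk⟩

end Groth.Agent.Lib.helper4.ValIso
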