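import Mathlib
import Groth.Agent.S14769
import Groth.Agent.Lib.Helper4.CurveFlat
import Groth.Agent.Lib.Helper4.ClosureProper
import Groth.Agent.Lib.Helper4.ValIso
import Groth.Agent.Lib.Helper4.LocImm
set_option backward.isDefEq.respectTransparency false
set_option backward.isDefEq.respectTransparency.types false
set_option autoImplicit false
set_option linter.style.haveILetI false

open AlgebraicGeometry CategoryTheory CategoryTheory.Limits TopologicalSpace

universe u

namespace Groth.Agent.Lib.helper4.SubtrVal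

open Groth.Agent.Lib.helper4.GenFinite3

/-- A flat surjective morphism has the lifting property for ordered pairs of points. -/
theorem isSSubtrusive_of_flat_surjective {Z Y : Scheme.{u}} (h : Z ⟶ Y) [Flat h] [Surjective h] :
    Subtr.IsSSubtrusive h := by
  intro y y' hyy'
  obtain ⟨z, rfl⟩ := h.surjective y
  obtain ⟨z', hz', rfl⟩ := (Flat.generalizingMap h) hyy'
  exact ⟨z, z', hz', rfl, rfl⟩

/-- If some `Z ⟶ X` has flat surjective composite with `f`, then `f` is universally S-subtrusive. -/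
theorem univSSubtrusive_of_flat_surjective {X Y Z : Scheme.{u}} (f : X ⟶ Y) (i : Z ⟶ X)
    [Flat (i ≫ f)] [Surjective (i ≫ f)] : Subtr.UnivSSubtrusive f := by
  intro X' Y' i₁ i₂ f' hpb y y' hyy'
  -- base change of `i ≫ f`
  have hS := isSSubtrusive_of_flat_surjective (pullback.snd (i ≫ f) i₂)
  obtain ⟨z, z', hzz', hz, hz'⟩ := hS hyy'
  let l : pullback (i ≫ f) i₂ ⟶ X' :=
    hpb.lift (pullback.snd (i ≫ f) i₂) (pullback.fst (i ≫ f) i₂ ≫ i)
      (by rw [Category.assoc, ← pullback.condition])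
  have hl : l ≫ f' = pullback.snd (i ≫ f) i₂ := hpb.lift_fst _ _ _
  refine ⟨l z, l z', hzz'.map l.continuous, ?_, ?_⟩
  · rw [← Scheme.Hom.comp_apply, hl, hz]
  · rw [← Scheme.Hom.comp_apply, hl, hz']


open Groth.Agent.Lib.helper4.ClosureProper Groth.Agent.Lib.helper4.CurveFlat

variable (V : Type u) [CommRing V] [IsDomain V]

/-- The generic point of the spectrum of a domain. -/
abbrev etaPt : Spec (CommRingCat.of V) := (⟨⊥, Ideal.isPrime_bot⟩ : PrimeSpectrum V)

theorem etaPt_specializes (y : Spec (CommRingCat.of V)) : etaPt V ⤳ y :=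
  (PrimeSpectrum.le_iff_specializes (etaPt V : PrimeSpectrum V) y).mp bot_le

theorem eq_etaPt_of_specializes (y : Spec (CommRingCat.of V)) (h : y ⤳ etaPt V) : y = etaPt V :=
  (h.antisymm (etaPt_specializes V y)).eq

theorem genericPoint_eq_etaPt : genericPoint (Spec (CommRingCat.of V)) = etaPt V :=
  eq_etaPt_of_specializes V _ (genericPoint_specializes _)

theorem exists_flat_closed_of_valuationRing_point [ValuationRing V]
    {X : Scheme.{u}} (f : X ⟶ Spec (CommRingCat.of V))
    (W : Type u) [CommRing W] [IsDomain W] [ValuationRing W]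
    (g : Spec (CommRingCat.of W) ⟶ X) (hg : Surjective (g ≫ f)) :
    ∃ (Z : Scheme.{u}) (i : Z ⟶ X), IsClosedImmersion i ∧ Flat (i ≫ f) ∧ Surjective (i ≫ f) := by
  set ξ : X := g (etaPt W) with hξ
  let C : Closeds X := ⟨closure {ξ}, isClosed_closure⟩
  haveI hred : IsReduced (Scheme.IdealSheafData.vanishingIdeal C).subscheme :=
    isReduced_subscheme_vanishingIdeal C
  have hrange : Set.range g ⊆ (C : Set X) := by
    rintro _ ⟨w, rfl⟩
    exact ((etaPt_specializes W w).map g.continuous).mem_closure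
  obtain ⟨l', hl'⟩ := exists_lift_subscheme g C hrange
  have hfξ : f ξ = etaPt V := by
    obtain ⟨w₀, hw₀⟩ := hg.surj (etaPt V)
    apply eq_etaPt_of_specializes
    have := (etaPt_specializes W w₀).map (g ≫ f).continuous
    rw [hw₀] at this
    exact this
  refine ⟨_, (Scheme.IdealSheafData.vanishingIdeal C).subschemeι, inferInstance, ?_, ?_⟩
  · have hmax : ∀ η' : (Scheme.IdealSheafData.vanishingIdeal C).subscheme, IsMaxPt η' →
        ((Scheme.IdealSheafData.vanishingIdeal C).subschemeι ≫ f) η' =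
          genericPoint (Spec (CommRingCat.of V)) := by
      intro η' hη'
      have h1 : (Scheme.IdealSheafData.vanishingIdeal C).subschemeι η' ∈ ({ξ} : Set X) := by
        refine subschemeι_mem_of_isMaxPt ({ξ} : Set X) ?_ C rfl η' hη'
        intro z hz hzmax
        have := hzmax ξ (subset_closure rfl) hz
        exact this ▸ rfl
      rw [Scheme.Hom.comp_apply, h1, hfξ, genericPoint_eq_etaPt]
    refine Flat.of_stalkMap
      (f := (Scheme.IdealSheafData.vanishingIdeal C).subschemeι ≫ f) (fun z => ?_)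
    haveI := Groth.Agent.Lib.helper4.ValIso.valuationRing_stalk (CommRingCat.of V)
      (((Scheme.IdealSheafData.vanishingIdeal C).subschemeι ≫ f) z)
    exact flat_stalkMap_of_maxPts' _ z hmax
  · haveI : Surjective (l' ≫ (Scheme.IdealSheafData.vanishingIdeal C).subschemeι ≫ f) := by
      rw [← Category.assoc, hl']; exact hg
    exact Surjective.of_comp l' _


/-- Points in the closure of the generic fibre are specializations of points of the generic
fibre. -/
theorem exists_generization_of_mem_closure_genericFibre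
    {X : Scheme.{u}} (f : X ⟶ Spec (CommRingCat.of V)) (x : X)
    (hx : x ∈ closure (f ⁻¹' {etaPt V})) :
    ∃ x' : X, x' ⤳ x ∧ f x' = etaPt V := by
  classical
  obtain ⟨_, ⟨U, hU, rfl⟩, hxU, -⟩ :=
    (X.isBasis_affineOpens).exists_subset_of_mem_open (Set.mem_univ x) isOpen_univ
  obtain ⟨φ, hφ⟩ := Spec.map_surjective (hU.fromSpec ≫ f)
  have hfP : ∀ P : Spec Γ(X, U), f (hU.fromSpec P) = PrimeSpectrum.comap φ.hom P := by
    intro P
    rw [← Scheme.Hom.comp_apply, ← hφ]
    rfl
  let B := Γ(X, U)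
  let S : Submonoid B := Submonoid.map φ.hom (nonZeroDivisors V)
  let L := Localization S
  set Q := hU.primeIdealOf ⟨x, hxU⟩ with hQ
  have hQx : hU.fromSpec Q = x := hU.fromSpec_primeIdealOf ⟨x, hxU⟩
  -- the kernel of the localization is contained in `Q`
  have hker : RingHom.ker (algebraMap B L) ≤ Q.asIdeal := by
    intro b hb
    by_contra hbQ
    rw [RingHom.mem_ker, IsLocalization.map_eq_zero_iff S L] at hb
    obtain ⟨⟨s, a, ha, rfl⟩, hs⟩ := hb
    -- the basic open `D(b)` is a neighbourhood of `x` disjoint from the generic fibre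
    have hxD : x ∈ (X.basicOpen b : Set X) := by
      by_contra hcon
      exact hbQ ((Groth.Agent.Lib.helper4.LocImm.mem_primeIdealOf_iff hU x hxU b).mpr hcon)
    obtain ⟨z, hzD, hzF⟩ := mem_closure_iff.mp hx _ (X.basicOpen b).2 hxD
    have hzU : z ∈ U := X.basicOpen_le b hzD
    have hzb : b ∉ (hU.primeIdealOf ⟨z, hzU⟩).asIdeal := fun h =>
      ((Groth.Agent.Lib.helper4.LocImm.mem_primeIdealOf_iff hU z hzU b).mp h) hzD
    have hz1 : φ.hom a * b ∈ (hU.primeIdealOf ⟨z, hzU⟩).asIdeal := by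
      have : φ.hom a * b = 0 := hs
      rw [this]; exact Ideal.zero_mem _
    have hz2 : φ.hom a ∈ (hU.primeIdealOf ⟨z, hzU⟩).asIdeal :=
      ((hU.primeIdealOf ⟨z, hzU⟩).isPrime.mem_or_mem hz1).resolve_right hzb
    have hz3 : f z = PrimeSpectrum.comap φ.hom (hU.primeIdealOf ⟨z, hzU⟩) := by
      rw [← hfP, hU.fromSpec_primeIdealOf]
    have hz4 : a ∈ (f z).asIdeal := by rw [hz3]; exact hz2
    have hz5 : f z = etaPt V := hzF
    rw [hz5] at hz4
    exact (nonZeroDivisors.ne_zero ha) ((Ideal.mem_bot).mp hz4)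
  -- a minimal prime over the kernel below `Q`
  obtain ⟨Q'', hQ''min, hQ''le⟩ := Ideal.exists_minimalPrimes_le hker
  have hQ''min' : Q'' ∈ ((⊥ : Ideal L).comap (algebraMap B L)).minimalPrimes := hQ''min
  obtain ⟨p', hp'prime, -, hp'⟩ := Ideal.exists_comap_eq_of_mem_minimalPrimes _ Q'' hQ''min'
  haveI : Q''.IsPrime := hQ''min.1.1
  refine ⟨hU.fromSpec ⟨Q'', inferInstance⟩, ?_, ?_⟩
  · rw [← hQx, hU.fromSpec.isOpenEmbedding.isInducing.specializes_iff]
    exact (PrimeSpectrum.le_iff_specializes (⟨Q'', inferInstance⟩ : PrimeSpectrum B) Q).mp hQ''le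
  · rw [hfP]
    apply PrimeSpectrum.ext
    show Ideal.comap φ.hom Q'' = ⊥
    rw [eq_bot_iff]
    intro a ha
    rw [Ideal.mem_bot]
    by_contra ha0
    have h1 : φ.hom a ∈ S := ⟨a, mem_nonZeroDivisors_of_ne_zero ha0, rfl⟩
    have h2 : IsUnit (algebraMap B L (φ.hom a)) := IsLocalization.map_units L ⟨_, h1⟩
    have h3 : algebraMap B L (φ.hom a) ∈ p' := by
      have : φ.hom a ∈ p'.comap (algebraMap B L) := by rw [hp']; exact ha
      exact this
    exact hp'prime.ne_top (Ideal.eq_top_of_isUnit_mem _ h3 h2)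


theorem tfae_over_valuationRing [ValuationRing V] {X : Scheme.{u}}
    (f : X ⟶ Spec (CommRingCat.of V)) :
    List.TFAE [
      Subtr.UnivSSubtrusive f,
      Subtr.IsSSubtrusive f,
      ∀ y : Spec (CommRingCat.of V), ∃ x : X,
        x ∈ closure (f ⁻¹' {(⟨⊥, Ideal.isPrime_bot⟩ : PrimeSpectrum V)}) ∧ f x = y,
      ∃ x x' : X, x' ⤳ x ∧ f x = IsLocalRing.closedPoint V ∧
        f x' = (⟨⊥, Ideal.isPrime_bot⟩ : PrimeSpectrum V),
      ∃ (W : Type u) (_ : CommRing W) (_ : IsDomain W) (_ : ValuationRing W)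
        (g : Spec (CommRingCat.of W) ⟶ X), Surjective (g ≫ f),
      ∃ (Z : Scheme.{u}) (i : Z ⟶ X), IsClosedImmersion i ∧ Flat (i ≫ f) ∧
        Surjective (i ≫ f)] := by
  tfae_have 1 → 2 := fun h => MorphismProperty.universally_le _ _ h
  tfae_have 2 → 4 := by
    intro h
    obtain ⟨x, x', hxx', hx, hx'⟩ := h (etaPt_specializes V (IsLocalRing.closedPoint V))
    exact ⟨x, x', hxx', hx, hx'⟩
  tfae_have 4 → 5 := by
    rintro ⟨x, x', hxx', hx, hx'⟩
    obtain ⟨A, _, _, _, g, η, hη, hgη, hgs⟩ :=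
      Groth.Agent.S14768.exists_valuationRing_of_specializes hxx'
    refine ⟨A, inferInstance, inferInstance, inferInstance, g, ⟨?_⟩⟩
    refine Groth.Agent.S14769.surjective_of_valuationRing (g ≫ f) η ?_ ?_
    · rw [Scheme.Hom.comp_apply, hgη, hx']
    · rw [Scheme.Hom.comp_apply, hgs, hx]
  tfae_have 5 → 6 := by
    rintro ⟨W, _, _, _, g, hg⟩
    exact exists_flat_closed_of_valuationRing_point V f W g hg
  tfae_have 6 → 1 := by
    rintro ⟨Z, i, -, hflat, hsurj⟩
    exact univSSubtrusive_of_flat_surjective f i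
  tfae_have 5 → 3 := by
    rintro ⟨W, _, _, _, g, hg⟩ y
    obtain ⟨w, hw⟩ := hg.surj y
    refine ⟨g w, ?_, by rw [← Scheme.Hom.comp_apply, hw]⟩
    have hfξ : f (g (etaPt W)) = etaPt V := by
      obtain ⟨w₀, hw₀⟩ := hg.surj (etaPt V)
      apply eq_etaPt_of_specializes
      have := (etaPt_specializes W w₀).map (g ≫ f).continuous
      rw [hw₀] at this
      exact this
    have h1 : g (etaPt W) ∈ f ⁻¹' {etaPt V} := hfξ
    have h2 : g w ∈ closure ({g (etaPt W)} : Set X) :=
      ((etaPt_specializes W w).map g.continuous).mem_closure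
    exact closure_mono (Set.singleton_subset_iff.mpr h1) h2
  tfae_have 3 → 4 := by
    intro h
    obtain ⟨x, hxcl, hx⟩ := h (IsLocalRing.closedPoint V)
    obtain ⟨x', hx'x, hx'⟩ := exists_generization_of_mem_closure_genericFibre V f x hxcl
    exact ⟨x, x', hx'x, hx, hx'⟩
  tfae_finish

end Groth.Agent.Lib.helper4.SubtrVal
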