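import Mathlib
import Groth.Agent.Lib.Helper13.KA6

/-!
# A discrete valuation ring dominating a Noetherian domain at a nonzero prime
-/

set_option backward.isDefEq.respectTransparency false
set_option backward.isDefEq.respectTransparency.types false
set_option autoImplicit false
set_option linter.style.haveILetI false
universe u

namespace Groth.Agent.Lib.helper4.UnivOpenDvr2

/-- A domain of finite type over a Noetherian ring is dominated, at any nonzero prime, by a
discrete valuation ring (of its fraction field). -/
theorem exists_dvr_dominating {A₀ A₁ : Type u} [CommRing A₀] [IsNoetherianRing A₀] [CommRing A₁]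
    [IsDomain A₁] [Algebra A₀ A₁] [Algebra.FiniteType A₀ A₁] (p₁ : Ideal A₁) [p₁.IsPrime]
    (t₁ : A₁) (ht : t₁ ∈ p₁) (ht0 : t₁ ≠ 0) :
    ∃ (R : Type u) (_ : CommRing R) (_ : IsDomain R) (_ : IsDiscreteValuationRing R)
      (ι : A₁ →+* R), Function.Injective ι ∧ (IsLocalRing.maximalIdeal R).comap ι = p₁ := by
  haveI : IsNoetherianRing A₁ := Algebra.FiniteType.isNoetherianRing A₀ A₁
  have hinj : Function.Injective (algebraMap A₁ (FractionRing A₁)) :=
    IsFractionRing.injective A₁ (FractionRing A₁)
  have hker : RingHom.ker (algebraMap A₁ (FractionRing A₁)) ≤ p₁ := by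
    rw [(RingHom.injective_iff_ker_eq_bot _).mp hinj]
    exact bot_le
  obtain ⟨O, hO, h, hiff⟩ := Groth.Agent.Lib.helper13.KA.exists_dvr_of_essFiniteType A₁
    (FractionRing A₁) p₁ hker ⟨t₁, ht, fun h0 => ht0 (hinj (h0.trans (map_zero _).symm))⟩
  refine ⟨↥O, inferInstance, inferInstance, hO,
    (algebraMap A₁ (FractionRing A₁)).codRestrict O.toSubring h, ?_, ?_⟩
  · intro a b hab
    exact hinj (congrArg Subtype.val hab)
  · ext r
    exact hiff r

end Groth.Agent.Lib.helper4.UnivOpenDvr2
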