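import Mathlib
import Groth.Agent.Lib.Helper4.UnivOpenDvr2
import Groth.Prelude.Def_SGA1
import Groth.Agent.Lib.Helper4.SubtrFG
import Groth.Agent.S14766
import Groth.Agent.S14767
import Groth.Agent.S14768
import Groth.Agent.Lib.Helper4.SubtrVal

set_option backward.isDefEq.respectTransparency false
set_option backward.isDefEq.respectTransparency.types false
set_option autoImplicit false
set_option linter.style.haveILetI false
universe u

open CategoryTheory CategoryTheory.Limits AlgebraicGeometry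

namespace Groth.Agent.Lib.helper4.SubtrNoeth

/-- A discrete valuation ring through a proper specialization in a locally Noetherian scheme. -/
theorem exists_dvr_of_specializes {T : Scheme.{u}} [IsLocallyNoetherian T] (t t' : T)
    (h : t' ⤳ t) (hne : t' ≠ t) :
    ∃ (R : Type u) (_ : CommRing R) (_ : IsDomain R) (_ : IsDiscreteValuationRing R)
      (g : Spec (CommRingCat.of R) ⟶ T),
      g (IsLocalRing.closedPoint R) = t ∧ g (⟨⊥, Ideal.isPrime_bot⟩ : PrimeSpectrum R) = t' := by
  obtain ⟨_, ⟨U, hU, rfl⟩, htU, -⟩ :=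
    T.isBasis_affineOpens.exists_subset_of_mem_open (Set.mem_univ t) isOpen_univ
  have ht'U : t' ∈ U := h.mem_open U.2 htU
  haveI : IsNoetherianRing Γ(T, U) := IsLocallyNoetherian.component_noetherian ⟨U, hU⟩
  set P := hU.primeIdealOf ⟨t, htU⟩ with hP
  set P' := hU.primeIdealOf ⟨t', ht'U⟩ with hP'
  have hPt : hU.fromSpec P = t := hU.fromSpec_primeIdealOf ⟨t, htU⟩
  have hP't : hU.fromSpec P' = t' := hU.fromSpec_primeIdealOf ⟨t', ht'U⟩
  have hle : P'.asIdeal ≤ P.asIdeal := by
    have h1 : P' ⤳ P := by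
      rw [← hU.fromSpec.isOpenEmbedding.isInducing.specializes_iff, hPt, hP't]
      exact h
    exact (PrimeSpectrum.le_iff_specializes P' P).mpr h1
  have hneP : P'.asIdeal ≠ P.asIdeal := by
    intro heq
    apply hne
    rw [← hPt, ← hP't, PrimeSpectrum.ext heq]
  obtain ⟨b, hbP, hbP'⟩ : ∃ b, b ∈ P.asIdeal ∧ b ∉ P'.asIdeal := by
    by_contra hcon
    push Not at hcon
    exact hneP (le_antisymm hle hcon)
  let A₁ := Γ(T, U) ⧸ P'.asIdeal
  have hsurj : Function.Surjective (Ideal.Quotient.mk P'.asIdeal) := Ideal.Quotient.mk_surjective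
  have hker : RingHom.ker (Ideal.Quotient.mk P'.asIdeal) ≤ P.asIdeal := by
    rw [Ideal.mk_ker]; exact hle
  haveI : (P.asIdeal.map (Ideal.Quotient.mk P'.asIdeal)).IsPrime :=
    Ideal.map_isPrime_of_surjective hsurj hker
  have ht₁ : Ideal.Quotient.mk P'.asIdeal b ∈ P.asIdeal.map (Ideal.Quotient.mk P'.asIdeal) :=
    Ideal.mem_map_of_mem _ hbP
  have ht₁0 : Ideal.Quotient.mk P'.asIdeal b ≠ 0 := by
    rw [Ne, Ideal.Quotient.eq_zero_iff_mem]; exact hbP'
  obtain ⟨R, hR1, hR2, hR3, ι, hι, hcomap⟩ :=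
    Groth.Agent.Lib.helper4.UnivOpenDvr2.exists_dvr_dominating (A₀ := Γ(T, U)) (A₁ := A₁)
      (P.asIdeal.map (Ideal.Quotient.mk P'.asIdeal)) _ ht₁ ht₁0
  refine ⟨R, hR1, hR2, hR3,
    Spec.map (CommRingCat.ofHom (ι.comp (Ideal.Quotient.mk P'.asIdeal))) ≫ hU.fromSpec, ?_, ?_⟩
  · rw [Scheme.Hom.comp_apply, ← hPt]
    congr 1
    apply PrimeSpectrum.ext
    show Ideal.comap (ι.comp (Ideal.Quotient.mk P'.asIdeal)) (IsLocalRing.maximalIdeal R) = P.asIdeal
    rw [← Ideal.comap_comap, hcomap, Ideal.comap_map_of_surjective _ hsurj]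
    rw [← RingHom.ker_eq_comap_bot, Ideal.mk_ker]
    exact sup_eq_left.mpr hle
  · rw [Scheme.Hom.comp_apply, ← hP't]
    congr 1
    apply PrimeSpectrum.ext
    show Ideal.comap (ι.comp (Ideal.Quotient.mk P'.asIdeal)) ⊥ = P'.asIdeal
    rw [← Ideal.comap_comap, ← RingHom.ker_eq_comap_bot ι,
      (RingHom.injective_iff_ker_eq_bot ι).mp hι, ← RingHom.ker_eq_comap_bot, Ideal.mk_ker]

open Groth.Agent.Lib.helper4.SubtrBasic in
/-- A universally submersive morphism is S-subtrusive after base change to a locally Noetherian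
scheme. -/
theorem isSSubtrusive_pullback_snd_of_univSubmersive {X Y T : Scheme.{u}} [IsLocallyNoetherian T]
    (f : X ⟶ Y) (hf : SGA1.UnivSubmersive f) (gT : T ⟶ Y) :
    Subtr.IsSSubtrusive (pullback.snd f gT) := by
  intro t t' htt'
  by_cases hne : t' = t
  · subst hne
    have hq : Topology.IsQuotientMap (pullback.snd f gT) :=
      hf _ _ _ (IsPullback.of_hasPullback f gT).flip
    obtain ⟨x, hx⟩ := hq.surjective t'
    exact ⟨x, x, specializes_rfl, hx, hx⟩
  · obtain ⟨R, _, _, _, g, hg1, hg2⟩ := exists_dvr_of_specializes t t' htt' hne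
    have hq : Topology.IsQuotientMap (pullback.snd f (g ≫ gT)) :=
      hf _ _ _ (IsPullback.of_hasPullback f (g ≫ gT)).flip
    have hs := (Groth.Agent.S14766.result R (pullback.snd f (g ≫ gT))).mp hq
    obtain ⟨x, x', hsp, h1, h2⟩ :=
      hs (IsLocalRing.specializes_closedPoint (⟨⊥, Ideal.isPrime_bot⟩ : PrimeSpectrum R))
    let τ : pullback f (g ≫ gT) ⟶ pullback f gT :=
      pullback.lift (pullback.fst _ _) (pullback.snd _ _ ≫ g)
        (by rw [Category.assoc]; exact pullback.condition)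
    refine ⟨τ x, τ x', hsp.map τ.continuous, ?_, ?_⟩
    · rw [← Scheme.Hom.comp_apply, pullback.lift_snd, Scheme.Hom.comp_apply, h1, hg1]
    · rw [← Scheme.Hom.comp_apply, pullback.lift_snd, Scheme.Hom.comp_apply, h2, hg2]

/-- A morphism from the spectrum of a local ring factors through any affine open containing the
image of the closed point. -/
theorem exists_factor_of_isLocalRing {Y : Scheme.{u}} (V : Type u) [CommRing V] [IsLocalRing V]
    (g : Spec (CommRingCat.of V) ⟶ Y) :
    ∃ (W : Y.Opens) (hW : IsAffineOpen W) (ρ : Γ(Y, W) ⟶ CommRingCat.of V),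
      g = Spec.map ρ ≫ hW.fromSpec := by
  obtain ⟨_, ⟨W, hW, rfl⟩, hyW, -⟩ :=
    Y.isBasis_affineOpens.exists_subset_of_mem_open
      (Set.mem_univ (g (IsLocalRing.closedPoint V))) isOpen_univ
  have hrange : Set.range g ⊆ Set.range hW.fromSpec := by
    rintro _ ⟨v, rfl⟩
    rw [hW.range_fromSpec]
    exact ((IsLocalRing.specializes_closedPoint v).map g.continuous).mem_open W.2 hyW
  obtain ⟨ρ, hρ⟩ := Spec.map_surjective (IsOpenImmersion.lift hW.fromSpec g hrange)
  refine ⟨W, hW, ρ, ?_⟩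
  rw [hρ, IsOpenImmersion.lift_fac]

open Groth.Agent.Lib.helper4.SubtrBasic Groth.Agent.Lib.helper4.SubtrFG in
/-- **Noetherian base: universally submersive implies universally S-subtrusive.** -/
theorem univSSubtrusive_of_univSubmersive {X Y : Scheme.{u}} [IsLocallyNoetherian Y]
    (f : X ⟶ Y) [QuasiCompact f] (hf : SGA1.UnivSubmersive f) : Subtr.UnivSSubtrusive f := by
  rw [Groth.Agent.S14768.result]
  intro V _ _ _ g
  obtain ⟨W, hW, ρ, rfl⟩ := exists_factor_of_isLocalRing V g
  haveI : IsNoetherianRing Γ(Y, W) := IsLocallyNoetherian.component_noetherian ⟨W, hW⟩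
  letI : Algebra Γ(Y, W) V := ρ.hom.toAlgebra
  have hρ : ρ = CommRingCat.ofHom (algebraMap Γ(Y, W) V) := rfl
  rw [hρ]
  apply isSSubtrusive_of_forall_adjoin Γ(Y, W) V f hW.fromSpec
  intro s
  haveI : Algebra.FiniteType Γ(Y, W) ↥(adj Γ(Y, W) V s) :=
    (Subalgebra.fg_iff_finiteType _).mp (Subalgebra.fg_adjoin_finset s)
  haveI : IsNoetherianRing ↥(adj Γ(Y, W) V s) :=
    Algebra.FiniteType.isNoetherianRing Γ(Y, W) _
  exact isSSubtrusive_pullback_snd_of_univSubmersive f hf _

/-- **Quasi-compact universally S-subtrusive morphisms are universally submersive.** -/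
theorem univSubmersive_of_univSSubtrusive {X Y : Scheme.{u}}
    (f : X ⟶ Y) [QuasiCompact f] (hf : Subtr.UnivSSubtrusive f) : SGA1.UnivSubmersive f := by
  rw [Groth.Agent.S14767.result]
  intro V _ _ _ g
  have h1 : Subtr.UnivSSubtrusive (pullback.snd f g) := by
    unfold Subtr.UnivSSubtrusive
    exact MorphismProperty.pullback_snd _ _ hf
  have h2 := (Groth.Agent.Lib.helper4.SubtrVal.tfae_over_valuationRing V (pullback.snd f g)).out 0 5
  obtain ⟨Z, i, hi, hflat, hsurj⟩ := h2.mp h1
  haveI := hi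
  haveI := hflat
  haveI := hsurj
  haveI : QuasiCompact (pullback.snd f g) := MorphismProperty.pullback_snd _ _ inferInstance
  haveI : QuasiCompact (i ≫ pullback.snd f g) := inferInstance
  have hq := Flat.isQuotientMap_of_surjective (i ≫ pullback.snd f g)
  refine Topology.IsQuotientMap.of_comp i.continuous (pullback.snd f g).continuous ?_
  convert hq using 1
  funext z
  exact (Scheme.Hom.comp_apply i (pullback.snd f g) z).symm

theorem univSubmersive_iff_univSSubtrusive {X Y : Scheme.{u}} [IsLocallyNoetherian Y]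
    (f : X ⟶ Y) [QuasiCompact f] : SGA1.UnivSubmersive f ↔ Subtr.UnivSSubtrusive f :=
  ⟨univSSubtrusive_of_univSubmersive f, univSubmersive_of_univSSubtrusive f⟩

end Groth.Agent.Lib.helper4.SubtrNoeth
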