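import Mathlib
import Groth.Agent.Lib.Helper4.SubtrNoeth

set_option backward.isDefEq.respectTransparency false
set_option backward.isDefEq.respectTransparency.types false
set_option autoImplicit false
set_option linter.style.haveILetI false
universe u

open CategoryTheory CategoryTheory.Limits AlgebraicGeometry

namespace Groth.Agent.Lib.helper4.SubtrNoeth

/-- The two points of the spectrum of a discrete valuation ring. -/
theorem eq_bot_or_eq_closedPoint (D : Type u) [CommRing D] [IsDomain D]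
    [IsDiscreteValuationRing D] (p : PrimeSpectrum D) :
    p = ⟨⊥, Ideal.isPrime_bot⟩ ∨ p = IsLocalRing.closedPoint D := by
  by_cases hp : p.asIdeal = ⊥
  · left; exact PrimeSpectrum.ext hp
  · right
    apply PrimeSpectrum.ext
    exact IsLocalRing.eq_maximalIdeal (p.isPrime.isMaximal hp)

theorem bot_ne_closedPoint (D : Type u) [CommRing D] [IsDomain D]
    [IsDiscreteValuationRing D] :
    (⟨⊥, Ideal.isPrime_bot⟩ : PrimeSpectrum D) ≠ IsLocalRing.closedPoint D := by
  intro h
  have h1 : (⊥ : Ideal D) = IsLocalRing.maximalIdeal D := congrArg PrimeSpectrum.asIdeal h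
  exact IsDiscreteValuationRing.not_a_field D h1.symm

/-- (ii) ⇒ (iii). -/
theorem exists_dvr_lift_of_univSSubtrusive {X Y : Scheme.{u}} [IsLocallyNoetherian Y]
    (f : X ⟶ Y) [LocallyOfFiniteType f] (hf : Subtr.UnivSSubtrusive f)
    (D : Type u) [CommRing D] [IsDomain D] [IsDiscreteValuationRing D]
    (g : Spec (CommRingCat.of D) ⟶ Y) :
    ∃ (D' : Type u) (_ : CommRing D') (_ : IsDomain D') (_ : IsDiscreteValuationRing D')
      (a : Spec (CommRingCat.of D') ⟶ X) (b : Spec (CommRingCat.of D') ⟶ Spec (CommRingCat.of D)),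
      Surjective b ∧ a ≫ f = b ≫ g := by
  have hs : Subtr.IsSSubtrusive (pullback.snd f g) :=
    (Groth.Agent.Lib.helper4.SubtrBasic.univSSubtrusive_iff f).mp hf g
  obtain ⟨x, x', hsp, h1, h2⟩ :=
    hs (IsLocalRing.specializes_closedPoint (⟨⊥, Ideal.isPrime_bot⟩ : PrimeSpectrum D))
  haveI : LocallyOfFiniteType (pullback.snd f g) := MorphismProperty.pullback_snd _ _ inferInstance
  haveI : IsLocallyNoetherian (pullback f g) :=
    LocallyOfFiniteType.isLocallyNoetherian (pullback.snd f g)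
  have hne : x' ≠ x := by
    intro h
    apply bot_ne_closedPoint D
    rw [← h1, ← h2, h]
  obtain ⟨D', i1, i2, i3, h, hh1, hh2⟩ := exists_dvr_of_specializes x x' hsp hne
  refine ⟨D', i1, i2, i3, h ≫ pullback.fst f g, h ≫ pullback.snd f g, ⟨?_⟩, ?_⟩
  · intro p
    rcases eq_bot_or_eq_closedPoint D p with rfl | rfl
    · exact ⟨⟨⊥, Ideal.isPrime_bot⟩, by rw [Scheme.Hom.comp_apply, hh2, h2]⟩
    · exact ⟨IsLocalRing.closedPoint D', by rw [Scheme.Hom.comp_apply, hh1, h1]⟩
  · rw [Category.assoc, Category.assoc, pullback.condition]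

/-- A discrete valuation ring through any specialization (possibly trivial) in a locally
Noetherian scheme. -/
theorem exists_dvr_of_specializes' {T : Scheme.{u}} [IsLocallyNoetherian T] (t t' : T)
    (h : t' ⤳ t) :
    ∃ (R : Type u) (_ : CommRing R) (_ : IsDomain R) (_ : IsDiscreteValuationRing R)
      (g : Spec (CommRingCat.of R) ⟶ T),
      g (IsLocalRing.closedPoint R) = t ∧ g (⟨⊥, Ideal.isPrime_bot⟩ : PrimeSpectrum R) = t' := by
  by_cases hne : t' = t
  · subst hne
    refine ⟨PowerSeries (T.residueField t'), inferInstance, inferInstance, inferInstance,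
      Spec.map (CommRingCat.ofHom (PowerSeries.C : T.residueField t' →+* _)) ≫
        T.fromSpecResidueField t', ?_, ?_⟩
    · rw [Scheme.Hom.comp_apply]
      exact Scheme.fromSpecResidueField_apply _ _
    · rw [Scheme.Hom.comp_apply]
      exact Scheme.fromSpecResidueField_apply _ _
  · exact exists_dvr_of_specializes t t' h hne

/-- Under the lifting criterion over discrete valuation rings, base changes to locally Noetherian
schemes are S-subtrusive. -/
theorem isSSubtrusive_pullback_snd_of_dvr_lift {X Y T : Scheme.{u}} [IsLocallyNoetherian T]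
    (f : X ⟶ Y)
    (H : ∀ (D : Type u) [CommRing D] [IsDomain D] [IsDiscreteValuationRing D]
      (g : Spec (CommRingCat.of D) ⟶ Y),
      ∃ (D' : Type u) (_ : CommRing D') (_ : IsDomain D') (_ : IsDiscreteValuationRing D')
        (a : Spec (CommRingCat.of D') ⟶ X) (b : Spec (CommRingCat.of D') ⟶ Spec (CommRingCat.of D)),
        Surjective b ∧ a ≫ f = b ≫ g)
    (gT : T ⟶ Y) : Subtr.IsSSubtrusive (pullback.snd f gT) := by
  intro t t' htt'
  obtain ⟨D, _, _, _, gD, hg1, hg2⟩ := exists_dvr_of_specializes' t t' htt'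
  obtain ⟨D', _, _, _, a, b, hb, hab⟩ := H D (gD ≫ gT)
  let c : Spec (CommRingCat.of D') ⟶ pullback f gT :=
    pullback.lift a (b ≫ gD) (by rw [hab, Category.assoc])
  obtain ⟨w, hw⟩ := hb.surj (IsLocalRing.closedPoint D)
  obtain ⟨w', hw'⟩ := hb.surj (⟨⊥, Ideal.isPrime_bot⟩ : PrimeSpectrum D)
  set η' : PrimeSpectrum D' := ⟨⊥, Ideal.isPrime_bot⟩ with hη'
  have hη'w : ∀ z : PrimeSpectrum D', η' ⤳ z := fun z =>
    (PrimeSpectrum.le_iff_specializes η' z).mp bot_le
  have hbη' : b η' = (⟨⊥, Ideal.isPrime_bot⟩ : PrimeSpectrum D) := by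
    have h1 : b η' ⤳ b w' := (hη'w w').map b.continuous
    rw [hw'] at h1
    have h2 := (PrimeSpectrum.le_iff_specializes _ _).mpr h1
    apply PrimeSpectrum.ext
    exact le_bot_iff.mp h2
  refine ⟨c w, c η', (hη'w w).map c.continuous, ?_, ?_⟩
  · rw [← Scheme.Hom.comp_apply, pullback.lift_snd, Scheme.Hom.comp_apply, hw, hg1]
  · rw [← Scheme.Hom.comp_apply, pullback.lift_snd, Scheme.Hom.comp_apply, hbη', hg2]

open Groth.Agent.Lib.helper4.SubtrBasic Groth.Agent.Lib.helper4.SubtrFG in
/-- (iii) ⇒ (ii). -/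
theorem univSSubtrusive_of_dvr_lift {X Y : Scheme.{u}} [IsLocallyNoetherian Y]
    (f : X ⟶ Y) [QuasiCompact f]
    (H : ∀ (D : Type u) [CommRing D] [IsDomain D] [IsDiscreteValuationRing D]
      (g : Spec (CommRingCat.of D) ⟶ Y),
      ∃ (D' : Type u) (_ : CommRing D') (_ : IsDomain D') (_ : IsDiscreteValuationRing D')
        (a : Spec (CommRingCat.of D') ⟶ X) (b : Spec (CommRingCat.of D') ⟶ Spec (CommRingCat.of D)),
        Surjective b ∧ a ≫ f = b ≫ g) : Subtr.UnivSSubtrusive f := by
  rw [Groth.Agent.S14768.result]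
  intro V _ _ _ g
  obtain ⟨W, hW, ρ, rfl⟩ := exists_factor_of_isLocalRing V g
  haveI : IsNoetherianRing Γ(Y, W) := IsLocallyNoetherian.component_noetherian ⟨W, hW⟩
  letI : Algebra Γ(Y, W) V := ρ.hom.toAlgebra
  have hρ : ρ = CommRingCat.ofHom (algebraMap Γ(Y, W) V) := rfl
  rw [hρ]
  apply isSSubtrusive_of_forall_adjoin Γ(Y, W) V f hW.fromSpec
  intro s
  haveI : Algebra.FiniteType Γ(Y, W) ↥(adj Γ(Y, W) V s) :=
    (Subalgebra.fg_iff_finiteType _).mp (Subalgebra.fg_adjoin_finset s)
  haveI : IsNoetherianRing ↥(adj Γ(Y, W) V s) :=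
    Algebra.FiniteType.isNoetherianRing Γ(Y, W) _
  exact isSSubtrusive_pullback_snd_of_dvr_lift f H _

theorem tfae_univSubmersive_of_locallyOfFiniteType {X Y : Scheme.{u}} [IsLocallyNoetherian Y]
    (f : X ⟶ Y) [LocallyOfFiniteType f] [QuasiCompact f] :
    List.TFAE [
      SGA1.UnivSubmersive f,
      Subtr.UnivSSubtrusive f,
      ∀ (D : Type u) [CommRing D] [IsDomain D] [IsDiscreteValuationRing D] (g : Spec (CommRingCat.of D) ⟶ Y),
        ∃ (D' : Type u) (_ : CommRing D') (_ : IsDomain D') (_ : IsDiscreteValuationRing D')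
          (a : Spec (CommRingCat.of D') ⟶ X) (b : Spec (CommRingCat.of D') ⟶ Spec (CommRingCat.of D)),
          Surjective b ∧ a ≫ f = b ≫ g] := by
  tfae_have 1 ↔ 2 := univSubmersive_iff_univSSubtrusive f
  tfae_have 2 → 3 := fun hf D _ _ _ g => exists_dvr_lift_of_univSSubtrusive f hf D g
  tfae_have 3 → 2 := fun H => univSSubtrusive_of_dvr_lift f H
  tfae_finish

end Groth.Agent.Lib.helper4.SubtrNoeth
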