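import Mathlib
set_option autoImplicit false
set_option backward.isDefEq.respectTransparency false
set_option backward.isDefEq.respectTransparency.types false
universe u
open CategoryTheory CategoryTheory.Limits AlgebraicGeometry

/-! Descent of a property of morphisms of schemes along a jointly surjective family of flat,
locally finitely presented morphisms (given through arbitrary pullback squares). -/

namespace Groth.Agent.Lib.helper4.FppfFamDescent

theorem of_isPullback_iso (P : MorphismProperty Scheme.{u}) [P.RespectsIso] {X B T W W' : Scheme.{u}}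
    {π : X ⟶ B} {g : T ⟶ B} {a : W ⟶ X} {b : W ⟶ T} {a' : W' ⟶ X} {b' : W' ⟶ T}
    (sq : IsPullback a b π g) (sq' : IsPullback a' b' π g) (h : P b) : P b' := by
  have e := sq'.isoIsPullback_hom_snd _ _ sq
  rw [← (P.cancel_left_of_respectsIso (sq'.isoIsPullback _ _ sq).hom b), e] at h
  exact h

theorem of_fppf_indexed (P : MorphismProperty Scheme.{u}) [IsZariskiLocalAtTarget P]
    [P.DescendsAlong (@Surjective ⊓ @Flat ⊓ @LocallyOfFinitePresentation)]
    {X B : Scheme.{u}} (π : X ⟶ B) {ι : Type u} (T : ι → Scheme.{u}) (f : ∀ i, T i ⟶ B)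
    (hf1 : ∀ i, Flat (f i)) (hf2 : ∀ i, LocallyOfFinitePresentation (f i))
    (hsurj : ∀ b : B, ∃ i, b ∈ Set.range (f i))
    (h : ∀ i, ∃ (W : Scheme.{u}) (p₁ : W ⟶ X) (p₂ : W ⟶ T i), IsPullback p₁ p₂ π (f i) ∧ P p₂) :
    P π := by
  let p : ∐ T ⟶ B := Sigma.desc f
  have hp : (@Surjective ⊓ @Flat ⊓ @LocallyOfFinitePresentation : MorphismProperty Scheme.{u}) p := by
    refine ⟨⟨⟨fun b => ?_⟩, ?_⟩, ?_⟩
    · obtain ⟨i, t, rfl⟩ := hsurj b
      exact ⟨Sigma.ι T i t, by rw [← Scheme.Hom.comp_apply, Sigma.ι_desc]⟩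
    · rw [IsZariskiLocalAtSource.iff_of_openCover (P := @Flat) (sigmaOpenCover T)]
      intro i
      have : (sigmaOpenCover T).f i ≫ p = f i := Sigma.ι_desc _ _
      rw [this]; exact hf1 i
    · rw [IsZariskiLocalAtSource.iff_of_openCover (P := @LocallyOfFinitePresentation) (sigmaOpenCover T)]
      intro i
      have : (sigmaOpenCover T).f i ≫ p = f i := Sigma.ι_desc _ _
      rw [this]; exact hf2 i
  apply MorphismProperty.of_pullback_snd_of_descendsAlong
    (Q := @Surjective ⊓ @Flat ⊓ @LocallyOfFinitePresentation) (f := π) (g := p) hp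
  rw [IsZariskiLocalAtTarget.iff_of_openCover (P := P) (sigmaOpenCover T)]
  intro i
  obtain ⟨W, p₁, p₂, sq, hP⟩ := h i
  have sq1 := (IsPullback.of_hasPullback (pullback.snd π p) ((sigmaOpenCover T).f i)).paste_horiz
    (IsPullback.of_hasPullback π p)
  have e : (sigmaOpenCover T).f i ≫ p = f i := Sigma.ι_desc _ _
  rw [e] at sq1
  exact of_isPullback_iso P sq sq1 hP

/-- the same for a covering presieve of the fppf precoverage -/
theorem of_fppf_presieve (P : MorphismProperty Scheme.{u}) [IsZariskiLocalAtTarget P]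
    [P.DescendsAlong (@Surjective ⊓ @Flat ⊓ @LocallyOfFinitePresentation)]
    {X B : Scheme.{u}} (π : X ⟶ B) (R : Presieve B) (hR : R ∈ Scheme.fppfPrecoverage B)
    (h : ∀ ⦃T : Scheme.{u}⦄ (f : T ⟶ B), R f →
      ∃ (W : Scheme.{u}) (p₁ : W ⟶ X) (p₂ : W ⟶ T), IsPullback p₁ p₂ π f ∧ P p₂) : P π := by
  obtain ⟨𝒰, rfl⟩ := R.exists_eq_preZeroHypercover
  rw [Scheme.fppfPrecoverage, Scheme.ofArrows_mem_precoverage_iff] at hR
  choose i hi using hR.1
  refine of_fppf_indexed P π (fun b : B => 𝒰.X (i b)) (fun b => 𝒰.f (i b))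
    (fun b => (hR.2 (i b)).1) (fun b => (hR.2 (i b)).2) (fun b => ⟨b, hi b⟩)
    (fun b => h _ (Presieve.ofArrows.mk (i b)))

theorem flat_codescendsAlong_faithfullyFlat :
    RingHom.CodescendsAlong (fun {R S} [CommRing R] [CommRing S] (f : R →+* S) => f.Flat)
      (fun {R S} [CommRing R] [CommRing S] (f : R →+* S) => f.FaithfullyFlat) := by
  apply RingHom.CodescendsAlong.mk _ RingHom.Flat.respectsIso
  introv h H
  rw [RingHom.faithfullyFlat_algebraMap_iff] at h
  rw [RingHom.flat_algebraMap_iff] at H ⊢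
  exact Module.Flat.of_flat_tensorProduct R T S

theorem flat_descendsAlong_fpqc :
    MorphismProperty.DescendsAlong (@Flat : MorphismProperty Scheme.{u})
      (@Surjective ⊓ @Flat ⊓ @QuasiCompact) :=
  HasRingHomProperty.descendsAlong_flat flat_codescendsAlong_faithfullyFlat

theorem flat_descendsAlong_fppf :
    MorphismProperty.DescendsAlong (@Flat : MorphismProperty Scheme.{u})
      (@Surjective ⊓ @Flat ⊓ @LocallyOfFinitePresentation) := by
  have := flat_descendsAlong_fpqc.{u}
  infer_instance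

end Groth.Agent.Lib.helper4.FppfFamDescent
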