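import Groth.Prelude.Def_Pi1
import Mathlib

/-!
# Descent along universally injective (pure) ring maps (helper library of seat helper4)

* `pure_one_tmul_injective` : `x ↦ 1 ⊗ x : P → S ⊗ P` is injective;
* `mem_of_one_tmul_mem_range` : if `1 ⊗ x` lies in the image of `S ⊗ N → S ⊗ M` then `x ∈ N`;
* `range_lTensor_eq_top_of_span` : if an `S`-spanning set of `S ⊗ M` lies in the image of `S ⊗ N`,
  then `S ⊗ N → S ⊗ M` is surjective.
-/

set_option autoImplicit false
universe u

open TensorProduct

namespace Groth.Agent.Lib.helper4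

variable {R S : Type u} [CommRing R] [CommRing S] [Algebra R S]

theorem pure_one_tmul_injective (h : Pi1.UnivInjective R S) (P : Type u) [AddCommGroup P]
    [Module R P] : Function.Injective (fun x : P => (1 : S) ⊗ₜ[R] x) := by
  intro x y hxy
  have hxy' : (1 : S) ⊗ₜ[R] x = (1 : S) ⊗ₜ[R] y := hxy
  have h1 : (LinearMap.lTensor P (Algebra.linearMap R S)) (x ⊗ₜ 1) =
      (LinearMap.lTensor P (Algebra.linearMap R S)) (y ⊗ₜ 1) := by
    simp only [LinearMap.lTensor_tmul, Algebra.linearMap_apply, map_one]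
    have := congrArg (TensorProduct.comm R S P) hxy'
    simpa using this
  have h2 := h P h1
  have := congrArg (TensorProduct.rid R P) h2
  simpa using this

theorem mem_of_one_tmul_mem_range (h : Pi1.UnivInjective R S) {M : Type u} [AddCommGroup M]
    [Module R M] (N : Submodule R M) (x : M)
    (hx : (1 : S) ⊗ₜ[R] x ∈ LinearMap.range (N.subtype.lTensor S)) : x ∈ N := by
  obtain ⟨z, hz⟩ := hx
  have h0 : (1 : S) ⊗ₜ[R] (N.mkQ x) = 0 := by
    have h1 : N.mkQ.lTensor S ((N.subtype.lTensor S) z) = 0 := by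
      rw [← LinearMap.comp_apply, ← LinearMap.lTensor_comp]
      have h2 : N.mkQ ∘ₗ N.subtype = 0 := by
        ext y
        simp
      rw [h2, LinearMap.lTensor_zero, LinearMap.zero_apply]
    rw [hz, LinearMap.lTensor_tmul] at h1
    exact h1
  have := pure_one_tmul_injective h (M ⧸ N) (h0.trans (TensorProduct.tmul_zero _ _).symm)
  exact (Submodule.Quotient.mk_eq_zero N).mp this

theorem range_lTensor_eq_top_of_span {M : Type u} [AddCommGroup M] [Module R M]
    (T : Set (S ⊗[R] M)) (hT : Submodule.span S T = ⊤) (N : Submodule R M)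
    (hTN : T ⊆ LinearMap.range (N.subtype.lTensor S)) (y : S ⊗[R] M) :
    y ∈ LinearMap.range (N.subtype.lTensor S) := by
  have hle : Submodule.span S T ≤ LinearMap.range (N.subtype.baseChange S) :=
    Submodule.span_le.mpr (fun t ht => by
      obtain ⟨z, hz⟩ := hTN ht
      exact ⟨z, hz⟩)
  rw [hT] at hle
  obtain ⟨z, hz⟩ := hle (Submodule.mem_top : y ∈ ⊤)
  exact ⟨z, hz⟩

/-- The image of `S ⊗ N → S ⊗ M` only depends on the image of `N → M`. -/
theorem range_lTensor_le_range_lTensor_range {M P : Type u} [AddCommGroup M] [Module R M]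
    [AddCommGroup P] [Module R P] (u : P →ₗ[R] M) :
    LinearMap.range (u.lTensor S) ≤ LinearMap.range ((LinearMap.range u).subtype.lTensor S) := by
  rintro _ ⟨z, rfl⟩
  refine ⟨u.rangeRestrict.lTensor S z, ?_⟩
  rw [← LinearMap.comp_apply, ← LinearMap.lTensor_comp, LinearMap.subtype_comp_codRestrict]

/-- If the image of `S ⊗ K → S ⊗ M` is contained in the `S`-span of a finite subset of itself,
then `K` is finitely generated (for `R → S` universally injective). -/
theorem fg_of_range_lTensor_fg (h : Pi1.UnivInjective R S) {M : Type u} [AddCommGroup M]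
    [Module R M] (K : Submodule R M) (T : Finset (S ⊗[R] M))
    (hT : (T : Set (S ⊗[R] M)) ⊆ LinearMap.range (K.subtype.lTensor S))
    (hspan : ∀ y ∈ LinearMap.range (K.subtype.lTensor S), y ∈ Submodule.span S (T : Set (S ⊗[R] M))) :
    K.FG := by
  classical
  choose! z hz using hT
  obtain ⟨K₀, hK₀fin, hZ⟩ := TensorProduct.exists_finite_submodule_right_of_setFinite
    ((T.image z : Finset (S ⊗[R] K)) : Set (S ⊗[R] K)) (Finset.finite_toSet _)
  let u : K₀ →ₗ[R] M := K.subtype ∘ₗ K₀.subtype
  let K' : Submodule R M := LinearMap.range u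
  have hK'fg : K'.FG := by
    have : (⊤ : Submodule R K₀).FG := Module.finite_def.mp hK₀fin
    rw [show K' = (⊤ : Submodule R K₀).map u from (LinearMap.range_eq_map u)]
    exact this.map u
  have hK'le : K' ≤ K := by
    rintro _ ⟨w, rfl⟩
    exact (K₀.subtype w).2
  have hTK' : (T : Set (S ⊗[R] M)) ⊆ LinearMap.range (K'.subtype.baseChange S) := by
    intro t ht
    obtain ⟨w, hw⟩ := hZ (Finset.mem_coe.mpr (Finset.mem_image_of_mem z ht))
    have h1 : t = (u.lTensor S) w := by
      rw [← hz ht, ← hw, ← LinearMap.comp_apply, ← LinearMap.lTensor_comp]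
    obtain ⟨v, hv⟩ := range_lTensor_le_range_lTensor_range (S := S) u ⟨w, h1.symm⟩
    exact ⟨v, hv⟩
  have hle : K ≤ K' := by
    intro x hx
    apply mem_of_one_tmul_mem_range h K' x
    have h1 : (1 : S) ⊗ₜ[R] x ∈ LinearMap.range (K.subtype.lTensor S) :=
      ⟨(1 : S) ⊗ₜ[R] (⟨x, hx⟩ : K), rfl⟩
    have h2 := Submodule.span_le.mpr hTK' (hspan _ h1)
    obtain ⟨v, hv⟩ := h2
    exact ⟨v, hv⟩
  rw [le_antisymm hle hK'le]
  exact hK'fg

/-- An ideal `I` of an `R`-algebra `P` is finitely generated as soon as its extension to `S ⊗ P`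
is, for `R → S` universally injective. -/
theorem ideal_fg_of_map_includeRight_fg (h : Pi1.UnivInjective R S) {P : Type u} [CommRing P]
    [Algebra R P] (I : Ideal P)
    (hfg : (I.map (Algebra.TensorProduct.includeRight : P →ₐ[R] S ⊗[R] P)).FG) : I.FG := by
  classical
  have hfg' : (Submodule.span (S ⊗[R] P)
      ((Algebra.TensorProduct.includeRight : P →ₐ[R] S ⊗[R] P) '' (I : Set P))).FG := hfg
  obtain ⟨G', hG'sub, hG'⟩ := (Submodule.fg_span_iff_fg_span_finset_subset _).mp hfg'
  obtain ⟨G, hGI, rfl⟩ := Finset.subset_set_image_iff.mp hG'sub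
  refine ⟨G, le_antisymm (Ideal.span_le.mpr hGI) ?_⟩
  intro x hx
  have h1 : (Algebra.TensorProduct.includeRight : P →ₐ[R] S ⊗[R] P) x ∈
      (Ideal.span (G : Set P)).map (Algebra.TensorProduct.includeRight : P →ₐ[R] S ⊗[R] P) := by
    rw [Ideal.map_span]
    have h2 : (Algebra.TensorProduct.includeRight : P →ₐ[R] S ⊗[R] P) x ∈
        Submodule.span (S ⊗[R] P)
          ((Algebra.TensorProduct.includeRight : P →ₐ[R] S ⊗[R] P) '' (I : Set P)) :=
      Submodule.subset_span ⟨x, hx, rfl⟩
    rw [hG', Finset.coe_image] at h2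
    exact h2
  have h3 : (Algebra.TensorProduct.includeRight : P →ₐ[R] S ⊗[R] P) x ∈
      ((Ideal.span (G : Set P)).map
        (Algebra.TensorProduct.includeRight : P →ₐ[R] S ⊗[R] P)).restrictScalars R := h1
  rw [Ideal.map_includeRight_eq] at h3
  exact mem_of_one_tmul_mem_range h ((Ideal.span (G : Set P)).restrictScalars R) x h3

end Groth.Agent.Lib.helper4
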