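import Mathlib

/-!
# Morphisms of irreducible curves: dominant iff finite fibres
-/

set_option backward.isDefEq.respectTransparency false
set_option backward.isDefEq.respectTransparency.types false
set_option autoImplicit false
set_option linter.style.haveILetI false
universe u
open CategoryTheory CategoryTheory.Limits AlgebraicGeometry

namespace Groth.Agent.Lib.helper4.CurveDominant

variable {X Y : Scheme.{u}}

/-- A chain `η ⤳ x ⤳ x₀` of distinct points forbids `dim O_{X,x₀} ≤ 1`. -/
theorem not_ringKrullDim_le_one_of_chain (η x x₀ : X) (h1 : η ⤳ x) (h2 : x ⤳ x₀) (hne1 : η ≠ x)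
    (hne2 : x ≠ x₀) : ¬ ringKrullDim (X.presheaf.stalk x₀) ≤ 1 := by
  intro hdim
  have hle : Ring.KrullDimLE 1 (X.presheaf.stalk x₀) := by
    rw [Ring.KrullDimLE, Order.krullDimLE_iff]
    exact hdim
  have hemb := (X.fromSpecStalk x₀).isEmbedding
  have hr : ∀ z : X, z ⤳ x₀ → ∃ p : ↥(Spec (X.presheaf.stalk x₀)), X.fromSpecStalk x₀ p = z := by
    intro z hz
    have : z ∈ Set.range (X.fromSpecStalk x₀) := by
      rw [Scheme.range_fromSpecStalk]
      exact hz
    exact this
  obtain ⟨pη, hpη⟩ := hr η (h1.trans h2)
  obtain ⟨px, hpx⟩ := hr x h2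
  obtain ⟨p0, hp0⟩ := hr x₀ specializes_rfl
  have s1 : pη ⤳ px := by
    rw [← hemb.isInducing.specializes_iff, hpη, hpx]
    exact h1
  have s2 : px ⤳ p0 := by
    rw [← hemb.isInducing.specializes_iff, hpx, hp0]
    exact h2
  have l1 : (pη : PrimeSpectrum (X.presheaf.stalk x₀)).asIdeal ≤
      (px : PrimeSpectrum (X.presheaf.stalk x₀)).asIdeal :=
    (PrimeSpectrum.le_iff_specializes _ _).mpr s1
  have l2 : (px : PrimeSpectrum (X.presheaf.stalk x₀)).asIdeal ≤
      (p0 : PrimeSpectrum (X.presheaf.stalk x₀)).asIdeal :=
    (PrimeSpectrum.le_iff_specializes _ _).mpr s2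
  have n1 : (pη : PrimeSpectrum (X.presheaf.stalk x₀)).asIdeal ≠
      (px : PrimeSpectrum (X.presheaf.stalk x₀)).asIdeal := by
    intro h
    apply hne1
    have h' : pη = px := PrimeSpectrum.ext h
    exact (hpη.symm.trans (congrArg (X.fromSpecStalk x₀) h')).trans hpx
  have n2 : (px : PrimeSpectrum (X.presheaf.stalk x₀)).asIdeal ≠
      (p0 : PrimeSpectrum (X.presheaf.stalk x₀)).asIdeal := by
    intro h
    apply hne2
    have h' : px = p0 := PrimeSpectrum.ext h
    exact (hpx.symm.trans (congrArg (X.fromSpecStalk x₀) h')).trans hp0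
  rcases (Ring.krullDimLE_one_iff.mp hle) _ (px : PrimeSpectrum (X.presheaf.stalk x₀)).isPrime
    with hmin | hmax
  · exact n1 (le_antisymm l1 (hmin.2 ⟨(pη : PrimeSpectrum _).isPrime, bot_le⟩ l1))
  · exact n2 (hmax.eq_of_le (p0 : PrimeSpectrum _).isPrime.ne_top l2)

section Curve

variable (X) [IrreducibleSpace X]
  (hX : ∀ x : X, IsClosed ({x} : Set X) → ringKrullDim (X.presheaf.stalk x) = 1)

include hX in
/-- The generic point of a curve is not closed. -/
theorem not_isClosed_genericPoint : ¬ IsClosed ({genericPoint X} : Set X) := by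
  intro hcl
  have hdim := hX _ hcl
  have hemb := (X.fromSpecStalk (genericPoint X)).isEmbedding
  haveI : Subsingleton (PrimeSpectrum (X.presheaf.stalk (genericPoint X))) := by
    constructor
    intro p q
    have hp : X.fromSpecStalk (genericPoint X) p = genericPoint X := by
      have h1 : X.fromSpecStalk (genericPoint X) p ⤳ genericPoint X := by
        have : X.fromSpecStalk (genericPoint X) p ∈ Set.range (X.fromSpecStalk (genericPoint X)) :=
          ⟨p, rfl⟩
        rw [Scheme.range_fromSpecStalk] at this
        exact this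
      exact (h1.antisymm (genericPoint_specializes _)).eq
    have hq : X.fromSpecStalk (genericPoint X) q = genericPoint X := by
      have h1 : X.fromSpecStalk (genericPoint X) q ⤳ genericPoint X := by
        have : X.fromSpecStalk (genericPoint X) q ∈ Set.range (X.fromSpecStalk (genericPoint X)) :=
          ⟨q, rfl⟩
        rw [Scheme.range_fromSpecStalk] at this
        exact this
      exact (h1.antisymm (genericPoint_specializes _)).eq
    exact hemb.injective (hp.trans hq.symm)
  have h0 : ringKrullDim (X.presheaf.stalk (genericPoint X)) ≤ 0 :=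
    Order.krullDim_nonpos_of_subsingleton
  rw [hdim] at h0
  exact absurd h0 (by norm_num)

include hX in
/-- Every point of a curve is the generic point or a closed point. -/
theorem eq_genericPoint_or_isClosed [JacobsonSpace X] (x : X) :
    x = genericPoint X ∨ IsClosed ({x} : Set X) := by
  by_cases hx : x = genericPoint X
  · exact Or.inl hx
  right
  obtain ⟨x₀, hx₀, hx₀cl⟩ := nonempty_inter_closedPoints (Z := closure ({x} : Set X))
    ⟨x, subset_closure rfl⟩ isClosed_closure.isLocallyClosed
  have hsp : x ⤳ x₀ := specializes_iff_mem_closure.mpr hx₀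
  by_cases hxx₀ : x = x₀
  · rw [hxx₀]
    exact hx₀cl
  exfalso
  have hdim := hX x₀ hx₀cl
  exact not_ringKrullDim_le_one_of_chain (genericPoint X) x x₀ (genericPoint_specializes _) hsp
    (fun h => hx h.symm) hxx₀ hdim.le

include hX in
/-- A closed subset of a curve not containing the generic point is finite. -/
theorem finite_of_isClosed_of_not_mem [JacobsonSpace X] [TopologicalSpace.NoetherianSpace X]
    (Z : Set X) (hZ : IsClosed Z) (hη : genericPoint X ∉ Z) : Z.Finite := by
  obtain ⟨S, hSfin, hScl, hSirr, rfl⟩ :=
    TopologicalSpace.NoetherianSpace.exists_finite_set_isClosed_irreducible hZ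
  refine Set.Finite.sUnion hSfin ?_
  intro T hT
  have hTirr := hSirr T hT
  have hTcl := hScl T hT
  set ξ := hTirr.genericPoint with hξdef
  have hξ : IsGenericPoint ξ (closure T) := hTirr.isGenericPoint_genericPoint_closure
  rw [hTcl.closure_eq] at hξ
  have hξT : ξ ∈ T := hξ.mem
  have hξne : ξ ≠ genericPoint X := by
    intro h
    exact hη ⟨T, hT, h ▸ hξT⟩
  have hξcl : IsClosed ({ξ} : Set X) :=
    (eq_genericPoint_or_isClosed X hX ξ).resolve_left hξne
  have : T = {ξ} := by
    rw [← hξ.def, hξcl.closure_eq]
  rw [this]
  exact Set.finite_singleton ξ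

end Curve

/-- **Morphisms of curves**: dominant iff all fibres are finite. -/
theorem isDominant_iff_finite_fibres [IrreducibleSpace X] [IrreducibleSpace Y] [JacobsonSpace X]
    [JacobsonSpace Y] [TopologicalSpace.NoetherianSpace X]
    (hX : ∀ x : X, IsClosed ({x} : Set X) → ringKrullDim (X.presheaf.stalk x) = 1)
    (hY : ∀ y : Y, IsClosed ({y} : Set Y) → ringKrullDim (Y.presheaf.stalk y) = 1)
    (f : X ⟶ Y) [LocallyOfFiniteType f] :
    IsDominant f ↔ ∀ y : Y, (f.base ⁻¹' {y}).Finite := by
  have hE : ∀ x : X, IsClosed ({x} : Set X) → IsClosed ({f x} : Set Y) := fun x hx =>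
    f.closePoints_subset_preimage_closedPoints hx
  constructor
  · intro hdom y
    have hfη : f (genericPoint X) = genericPoint Y := by
      have h1 : IsGenericPoint (f (genericPoint X)) (closure (f.base '' Set.univ)) :=
        (genericPoint_spec X).image f.continuous
      rw [Set.image_univ, f.denseRange.closure_range] at h1
      exact h1.eq (genericPoint_spec Y)
    rcases eq_genericPoint_or_isClosed Y hY y with rfl | hycl
    · refine (Set.finite_singleton (genericPoint X)).subset ?_
      intro x hx
      rcases eq_genericPoint_or_isClosed X hX x with rfl | hxcl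
      · rfl
      · exfalso
        have h2 := hE x hxcl
        rw [show f x = genericPoint Y from hx] at h2
        exact not_isClosed_genericPoint Y hY h2
    · refine finite_of_isClosed_of_not_mem X hX _ (hycl.preimage f.continuous) ?_
      intro h
      have h2 : f (genericPoint X) = y := h
      rw [hfη] at h2
      rw [← h2] at hycl
      exact not_isClosed_genericPoint Y hY hycl
  · intro hfin
    by_cases h : f (genericPoint X) = genericPoint Y
    · constructor
      rw [DenseRange, dense_iff_closure_eq, Set.eq_univ_iff_forall]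
      intro y
      have h1 : closure ({genericPoint Y} : Set Y) ⊆ closure (Set.range f.base) := by
        apply closure_mono
        rw [Set.singleton_subset_iff]
        exact ⟨genericPoint X, h⟩
      apply h1
      rw [(genericPoint_spec Y).def]
      trivial
    · exfalso
      have hycl : IsClosed ({f (genericPoint X)} : Set Y) :=
        (eq_genericPoint_or_isClosed Y hY _).resolve_left h
      have hall : ∀ x : X, f x = f (genericPoint X) := by
        intro x
        have h1 : f (genericPoint X) ⤳ f x := (genericPoint_specializes x).map f.continuous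
        have h2 : f x ∈ closure ({f (genericPoint X)} : Set Y) := h1.mem_closure
        rw [hycl.closure_eq] at h2
        exact h2
      have hXfin : (Set.univ : Set X).Finite := by
        refine (hfin (f (genericPoint X))).subset ?_
        intro x _
        exact hall x
      have hcp : IsClosed (closedPoints X) := by
        have h1 : closedPoints X = ⋃ x ∈ closedPoints X, ({x} : Set X) := by
          ext z
          simp
        rw [h1]
        exact (hXfin.subset (Set.subset_univ _)).isClosed_biUnion (fun x hx => hx)
      have h2 := closure_closedPoints (X := X)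
      rw [hcp.closure_eq] at h2
      have h3 : genericPoint X ∈ closedPoints X := by
        rw [h2]
        trivial
      exact not_isClosed_genericPoint X hX h3

/-- The statement for curves over a field. -/
theorem curves (k : Type u) [Field k] (X Y : Scheme.{u}) [X.Over (Spec (CommRingCat.of k))]
    [Y.Over (Spec (CommRingCat.of k))]
    [LocallyOfFiniteType (X ↘ (Spec (CommRingCat.of k)))]
    [QuasiCompact (X ↘ (Spec (CommRingCat.of k)))]
    [LocallyOfFiniteType (Y ↘ (Spec (CommRingCat.of k)))]
    [IrreducibleSpace X] [IrreducibleSpace Y]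
    (hX : (∀ x : X, IsClosed ({x} : Set X) → ringKrullDim (X.presheaf.stalk x) = 1))
    (hY : (∀ x : Y, IsClosed ({x} : Set Y) → ringKrullDim (Y.presheaf.stalk x) = 1))
    (f : X ⟶ Y) (hf : f ≫ (Y ↘ (Spec (CommRingCat.of k))) = X ↘ (Spec (CommRingCat.of k))) :
    IsDominant f ↔ ∀ y : Y, (f.base ⁻¹' {y}).Finite := by
  haveI : JacobsonSpace X := LocallyOfFiniteType.jacobsonSpace (X ↘ (Spec (CommRingCat.of k)))
  haveI : JacobsonSpace Y := LocallyOfFiniteType.jacobsonSpace (Y ↘ (Spec (CommRingCat.of k)))
  haveI : IsLocallyNoetherian X :=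
    LocallyOfFiniteType.isLocallyNoetherian (X ↘ (Spec (CommRingCat.of k)))
  haveI : CompactSpace X :=
    QuasiCompact.compactSpace_of_compactSpace (X ↘ (Spec (CommRingCat.of k)))
  haveI : IsNoetherian X := {}
  haveI : LocallyOfFiniteType (f ≫ (Y ↘ (Spec (CommRingCat.of k)))) := by
    rw [hf]
    infer_instance
  haveI : LocallyOfFiniteType f := locallyOfFiniteType_of_comp f (Y ↘ (Spec (CommRingCat.of k)))
  exact isDominant_iff_finite_fibres hX hY f

end Groth.Agent.Lib.helper4.CurveDominant
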