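import Groth.Agent.Lib.Helper5.EtaleLocalSource

/-!
# Source descent of finite type / finite presentation along smooth surjections (helper4)

The étale versions are helper16's `S1179` and helper5's `EtaleSourceDescent`; the proofs go through verbatim for smooth
maps, since `Algebra.Smooth.exists_subalgebra_fg` provides the descent of the smooth algebra to a finitely generated
subalgebra.

* `finiteType_of_smooth_comp`, `finitePresentation_of_smooth_comp`: ring versions.
* `locallyOfFiniteType_of_smooth_comp`, `locallyOfFinitePresentation_of_smooth_comp`: scheme versions.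
* `isLocalAtSource_smoothPrecoverage`: a Zariski-local-at-source property stable under precomposition with smooth maps,
  with smooth source descent, is local at the source for the smooth precoverage.
-/

set_option autoImplicit false
open CategoryTheory CategoryTheory.Limits AlgebraicGeometry Opposite
universe u

namespace Groth.Agent.Lib.helper4.SmSrc

open TensorProduct TopologicalSpace Groth.Agent.S1179

set_option maxHeartbeats 1000000
set_option synthInstance.maxHeartbeats 200000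

/-- key ring lemma -/
lemma finiteType_of_smooth_tensor {A₀ A B₀ : Type u} [CommRing A₀] [CommRing A] [CommRing B₀]
    [Algebra A₀ A] [Algebra A₀ B₀] [Algebra.Smooth A₀ B₀]
    [Algebra.FiniteType A₀ (A ⊗[A₀] B₀)]
    (hsurj : Function.Surjective (PrimeSpectrum.comap (algebraMap A (A ⊗[A₀] B₀)))) :
    Algebra.FiniteType A₀ A := by
  classical
  -- (i) the image of Spec B₀ → Spec A₀ is open
  have hopen : IsOpen (Set.range (PrimeSpectrum.comap (algebraMap A₀ B₀))) :=
    (PrimeSpectrum.isOpenMap_comap_of_hasGoingDown_of_finitePresentation).isOpen_range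
  obtain ⟨I, hI⟩ : ∃ I : Ideal A₀, (Set.range (PrimeSpectrum.comap (algebraMap A₀ B₀)))ᶜ =
      PrimeSpectrum.zeroLocus I :=
    (PrimeSpectrum.isClosed_iff_zeroLocus_ideal _).mp hopen.isClosed_compl
  have hmem : ∀ {C : Type u} [CommRing C] [Algebra A₀ C] (q : PrimeSpectrum C),
      ¬ I ≤ q.asIdeal.comap (algebraMap A₀ C) →
      q ∈ Set.range (PrimeSpectrum.comap (algebraMap C (C ⊗[A₀] B₀))) := by
    intro C _ _ q hq
    rw [range_comap_tensor]
    show PrimeSpectrum.comap (algebraMap A₀ C) q ∈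
      Set.range (PrimeSpectrum.comap (algebraMap A₀ B₀))
    by_contra hcon
    have : PrimeSpectrum.comap (algebraMap A₀ C) q ∈ PrimeSpectrum.zeroLocus (I : Set A₀) := by
      rw [← hI]; exact hcon
    exact hq this
  -- (ii) I A = A
  have hmap : I.map (algebraMap A₀ A) = ⊤ := by
    by_contra hne
    obtain ⟨M, hM, hle⟩ := Ideal.exists_le_maximal _ hne
    have hP : (⟨M, hM.isPrime⟩ : PrimeSpectrum A) ∈
        Set.range (PrimeSpectrum.comap (algebraMap A (A ⊗[A₀] B₀))) := hsurj _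
    rw [range_comap_tensor] at hP
    have h1 : PrimeSpectrum.comap (algebraMap A₀ A) ⟨M, hM.isPrime⟩ ∈
        PrimeSpectrum.zeroLocus (I : Set A₀) := by
      show (I : Set A₀) ⊆ _
      exact Ideal.map_le_iff_le_comap.mp hle
    rw [← hI] at h1
    exact h1 hP
  -- (iii) write 1 as a combination
  have h1mem : (1 : A) ∈ Submodule.span A ((algebraMap A₀ A) '' (I : Set A₀)) := by
    have : (1 : A) ∈ I.map (algebraMap A₀ A) := hmap ▸ Submodule.mem_top
    exact this
  obtain ⟨t, htI, c, hc⟩ := (Submodule.mem_span_image_iff_exists_fun A).mp h1mem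
  -- (iv) generators of the tensor product
  obtain ⟨s, hs⟩ := Algebra.FiniteType.out (R := A₀) (A := A ⊗[A₀] B₀)
  have hdec (x : s) := TensorProduct.exists_sum_tmul_eq x.1
  choose k a m h using hdec
  -- (v) the finitely generated subalgebra
  let S : Set A := Set.range c ∪ ⋃ x : s, Set.range (a x)
  have hSfin : S.Finite :=
    (Set.finite_range c).union (Set.finite_iUnion fun x => Set.finite_range (a x))
  let A₂ : Subalgebra A₀ A := Algebra.adjoin A₀ S
  have hA₂fg : A₂.FG := Subalgebra.fg_def.mpr ⟨S, hSfin, rfl⟩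
  have hA₂ft : Algebra.FiniteType A₀ A₂ := (Subalgebra.fg_iff_finiteType A₂).mp hA₂fg
  have hcmem : ∀ i, c i ∈ A₂ := fun i => Algebra.subset_adjoin (Or.inl ⟨i, rfl⟩)
  have hamem : ∀ x j, a x j ∈ A₂ := fun x j =>
    Algebra.subset_adjoin (Or.inr (Set.mem_iUnion.mpr ⟨x, ⟨j, rfl⟩⟩))
  -- (vii) faithful flatness
  have hff : Module.FaithfullyFlat A₂ (A₂ ⊗[A₀] B₀) := by
    apply Module.FaithfullyFlat.of_comap_surjective
    intro q
    apply hmem q
    intro hle
    have h1 : (1 : A₂) ∈ q.asIdeal := by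
      have : (1 : A₂) = ∑ i : t, (⟨c i, hcmem i⟩ : A₂) * algebraMap A₀ A₂ (i : A₀) := by
        apply Subtype.ext
        simp only [Subalgebra.coe_one, AddSubmonoidClass.coe_finsetSum, Subalgebra.coe_mul,
          Subalgebra.coe_algebraMap]
        rw [← hc]
        simp [smul_eq_mul]
      rw [this]
      exact Ideal.sum_mem _ fun i _ => Ideal.mul_mem_left _ _ (hle (htI i.2))
    exact q.isPrime.ne_top ((Ideal.eq_top_iff_one _).mpr h1)
  -- (viii) `B₂ → B₂ ⊗[A₂] A` is surjective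
  let ρ : (A₂ ⊗[A₀] B₀) →ₐ[A₂ ⊗[A₀] B₀] (A₂ ⊗[A₀] B₀) ⊗[A₂] A := Algebra.ofId _ _
  have hcomm : ∀ (x y : (A₂ ⊗[A₀] B₀) ⊗[A₂] A), Commute x y := fun x y => Commute.all x y
  let θ' : A ⊗[A₀] B₀ →ₐ[A₀] (A₂ ⊗[A₀] B₀) ⊗[A₂] A :=
    Algebra.TensorProduct.lift
      ((Algebra.TensorProduct.includeRight (R := A₂) (A := A₂ ⊗[A₀] B₀) (B := A)).restrictScalars A₀)
      (((Algebra.TensorProduct.includeLeft (R := A₂) (S := A₂) (A := A₂ ⊗[A₀] B₀)
        (B := A)).restrictScalars A₀).comp
        (Algebra.TensorProduct.includeRight (R := A₀) (A := A₂) (B := B₀)))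
      (fun _ _ => hcomm _ _)
  have hθ' : ∀ (x : A) (y : B₀), θ' (x ⊗ₜ y) =
      ((1 : A₂ ⊗[A₀] B₀) ⊗ₜ[A₂] x) * (((1 : A₂) ⊗ₜ[A₀] y) ⊗ₜ[A₂] (1 : A)) := by
    intro x y
    simp [θ']
  have hρ : ∀ b, ρ b = b ⊗ₜ[A₂] (1 : A) := fun b => rfl
  have hrange : ∀ z : A ⊗[A₀] B₀, θ' z ∈ ρ.range := by
    intro z
    have hz : z ∈ Algebra.adjoin A₀ (s : Set (A ⊗[A₀] B₀)) := hs ▸ Algebra.mem_top
    induction hz using Algebra.adjoin_induction with
    | mem x hx =>
      refine ⟨∑ j : Fin (k ⟨x, hx⟩), (⟨a ⟨x, hx⟩ j, hamem _ j⟩ : A₂) ⊗ₜ[A₀] m ⟨x, hx⟩ j,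
        (hρ _).trans ?_⟩
      have hx' : x = ∑ j, a ⟨x, hx⟩ j ⊗ₜ[A₀] m ⟨x, hx⟩ j := h ⟨x, hx⟩
      conv_rhs => rw [hx']
      rw [map_sum, TensorProduct.sum_tmul]
      refine Finset.sum_congr rfl fun j _ => ?_
      rw [hθ', Algebra.TensorProduct.tmul_mul_tmul, one_mul, mul_one]
      set a' : A₂ := ⟨a ⟨x, hx⟩ j, hamem _ j⟩ with ha'
      have : (a ⟨x, hx⟩ j : A) = a' • (1 : A) := by
        rw [Subalgebra.smul_def, smul_eq_mul, mul_one]
      rw [this, ← TensorProduct.smul_tmul, TensorProduct.smul_tmul', smul_eq_mul, mul_one]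
    | algebraMap r =>
      refine ⟨algebraMap A₀ _ r, (hρ _).trans ?_⟩
      rw [AlgHom.commutes, Algebra.TensorProduct.algebraMap_apply]
      rfl
    | add x y _ _ hx hy => rw [map_add]; exact add_mem hx hy
    | mul x y _ _ hx hy => rw [map_mul]; exact mul_mem hx hy
  have hρsurj : Function.Surjective ρ := by
    intro w
    have : w ∈ ρ.range := by
      induction w using TensorProduct.induction_on with
      | zero => exact zero_mem _
      | tmul b x =>
        have h0 : θ' (x ⊗ₜ[A₀] (1 : B₀)) = (1 : A₂ ⊗[A₀] B₀) ⊗ₜ[A₂] x := by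
          rw [hθ']
          have e1 : ((1 : A₂) ⊗ₜ[A₀] (1 : B₀)) = (1 : A₂ ⊗[A₀] B₀) := rfl
          rw [e1]
          have e2 : ((1 : A₂ ⊗[A₀] B₀) ⊗ₜ[A₂] (1 : A)) = (1 : (A₂ ⊗[A₀] B₀) ⊗[A₂] A) := rfl
          rw [e2]
          exact mul_one ((1 : A₂ ⊗[A₀] B₀) ⊗ₜ[A₂] x)
        have h1 : b ⊗ₜ[A₂] x = ρ b * θ' (x ⊗ₜ[A₀] (1 : B₀)) := by
          rw [hρ, h0, Algebra.TensorProduct.tmul_mul_tmul, mul_one, one_mul]
        rw [h1]
        exact mul_mem ⟨b, rfl⟩ (hrange _)
      | add x y hx hy => exact add_mem hx hy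
    exact this
  have hft : Algebra.FiniteType (A₂ ⊗[A₀] B₀) ((A₂ ⊗[A₀] B₀) ⊗[A₂] A) :=
    Algebra.FiniteType.of_surjective ρ hρsurj
  have hA₂A : Algebra.FiniteType A₂ A :=
    Algebra.FiniteType.of_finiteType_tensorProduct_of_faithfullyFlat (A₂ ⊗[A₀] B₀)
  exact Algebra.FiniteType.trans hA₂ft hA₂A

lemma finiteType_of_smooth_comp {R A B : Type u} [CommRing R] [CommRing A] [CommRing B]
    [Algebra R A] [Algebra A B] [Algebra R B] [IsScalarTower R A B] [Algebra.Smooth A B]
    (hsurj : Function.Surjective (PrimeSpectrum.comap (algebraMap A B)))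
    [Algebra.FiniteType R B] : Algebra.FiniteType R A := by
  obtain ⟨A₀, B₀, _, _, hfg, hsm, ⟨e⟩⟩ := Algebra.Smooth.exists_subalgebra_fg R A B
  have h1 : Algebra.FiniteType A₀ B := Algebra.FiniteType.of_restrictScalars_finiteType R A₀ B
  have h2 : Algebra.FiniteType A₀ (A ⊗[A₀] B₀) := Algebra.FiniteType.equiv h1 (e.restrictScalars A₀)
  have hsurj' : Function.Surjective (PrimeSpectrum.comap (algebraMap A (A ⊗[A₀] B₀))) := by
    intro p
    obtain ⟨q, hq⟩ := hsurj p
    refine ⟨PrimeSpectrum.comap (e.symm : A ⊗[A₀] B₀ →+* B) q, ?_⟩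
    rw [← PrimeSpectrum.comap_comp_apply]
    have : (e.symm : A ⊗[A₀] B₀ →+* B).comp (algebraMap A (A ⊗[A₀] B₀)) = algebraMap A B := by
      ext x
      exact e.symm.commutes x
    rw [this, hq]
  have h3 := @finiteType_of_smooth_tensor A₀ A B₀ _ _ _ _ _ hsm h2 hsurj'
  exact Algebra.FiniteType.trans ((Subalgebra.fg_iff_finiteType A₀).mp hfg) h3

/-- the descent step, for an auxiliary finitely presented algebra `A₂` -/
lemma finitePresentation_aux {A₀ A₂ A B₀ : Type u} [CommRing A₀] [CommRing A₂] [CommRing A]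
    [CommRing B₀] [Algebra A₀ A₂] [Algebra A₂ A] [Algebra A₀ A] [IsScalarTower A₀ A₂ A]
    [Algebra A₀ B₀] [Algebra.Smooth A₀ B₀] [Algebra.FinitePresentation A₀ A₂]
    [Algebra.FinitePresentation A₀ (A ⊗[A₀] B₀)]
    [Module.FaithfullyFlat A₂ (A₂ ⊗[A₀] B₀)] : Algebra.FinitePresentation A₀ A := by
  have hB₂ft : Algebra.FiniteType A₀ (A₂ ⊗[A₀] B₀) := by
    have h1 : Algebra.FiniteType A₂ (A₂ ⊗[A₀] B₀) := inferInstance
    have h2 : Algebra.FiniteType A₀ A₂ := inferInstance
    exact Algebra.FiniteType.trans h2 h1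
  let e : (A₂ ⊗[A₀] B₀) ⊗[A₂] A ≃ₐ[A₀] A ⊗[A₀] B₀ :=
    ((Algebra.TensorProduct.comm A₂ (A₂ ⊗[A₀] B₀) A).restrictScalars A₀).trans
      ((Algebra.TensorProduct.cancelBaseChange A₀ A₂ A A B₀).restrictScalars A₀)
  have hCfp : Algebra.FinitePresentation A₀ ((A₂ ⊗[A₀] B₀) ⊗[A₂] A) :=
    Algebra.FinitePresentation.equiv e.symm
  have hCfp' : Algebra.FinitePresentation (A₂ ⊗[A₀] B₀) ((A₂ ⊗[A₀] B₀) ⊗[A₂] A) :=
    Algebra.FinitePresentation.of_restrict_scalars_finitePresentation A₀ (A₂ ⊗[A₀] B₀) _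
  have hA₂A : Algebra.FinitePresentation A₂ A :=
    Algebra.FinitePresentation.of_finitePresentation_tensorProduct_of_faithfullyFlat (A₂ ⊗[A₀] B₀)
  exact Algebra.FinitePresentation.trans A₀ A₂ A

/-- key ring lemma, finite presentation version -/
lemma finitePresentation_of_smooth_tensor {A₀ A B₀ : Type u} [CommRing A₀] [CommRing A] [CommRing B₀]
    [Algebra A₀ A] [Algebra A₀ B₀] [Algebra.Smooth A₀ B₀]
    [Algebra.FinitePresentation A₀ (A ⊗[A₀] B₀)]
    (hsurj : Function.Surjective (PrimeSpectrum.comap (algebraMap A (A ⊗[A₀] B₀)))) :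
    Algebra.FinitePresentation A₀ A := by
  classical
  -- (i) the image of Spec B₀ → Spec A₀ is open
  have hopen : IsOpen (Set.range (PrimeSpectrum.comap (algebraMap A₀ B₀))) :=
    (PrimeSpectrum.isOpenMap_comap_of_hasGoingDown_of_finitePresentation).isOpen_range
  obtain ⟨I, hI⟩ : ∃ I : Ideal A₀, (Set.range (PrimeSpectrum.comap (algebraMap A₀ B₀)))ᶜ =
      PrimeSpectrum.zeroLocus I :=
    (PrimeSpectrum.isClosed_iff_zeroLocus_ideal _).mp hopen.isClosed_compl
  have hmem : ∀ {C : Type u} [CommRing C] [Algebra A₀ C] (q : PrimeSpectrum C),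
      ¬ I ≤ q.asIdeal.comap (algebraMap A₀ C) →
      q ∈ Set.range (PrimeSpectrum.comap (algebraMap C (C ⊗[A₀] B₀))) := by
    intro C _ _ q hq
    rw [range_comap_tensor]
    show PrimeSpectrum.comap (algebraMap A₀ C) q ∈
      Set.range (PrimeSpectrum.comap (algebraMap A₀ B₀))
    by_contra hcon
    have : PrimeSpectrum.comap (algebraMap A₀ C) q ∈ PrimeSpectrum.zeroLocus (I : Set A₀) := by
      rw [← hI]; exact hcon
    exact hq this
  -- (ii) I A = A
  have hmap : I.map (algebraMap A₀ A) = ⊤ := by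
    by_contra hne
    obtain ⟨M, hM, hle⟩ := Ideal.exists_le_maximal _ hne
    have hP : (⟨M, hM.isPrime⟩ : PrimeSpectrum A) ∈
        Set.range (PrimeSpectrum.comap (algebraMap A (A ⊗[A₀] B₀))) := hsurj _
    rw [range_comap_tensor] at hP
    have h1 : PrimeSpectrum.comap (algebraMap A₀ A) ⟨M, hM.isPrime⟩ ∈
        PrimeSpectrum.zeroLocus (I : Set A₀) := by
      show (I : Set A₀) ⊆ _
      exact Ideal.map_le_iff_le_comap.mp hle
    rw [← hI] at h1
    exact h1 hP
  -- (iii) write 1 as a combination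
  have h1mem : (1 : A) ∈ Submodule.span A ((algebraMap A₀ A) '' (I : Set A₀)) := by
    have : (1 : A) ∈ I.map (algebraMap A₀ A) := hmap ▸ Submodule.mem_top
    exact this
  obtain ⟨t, htI, c, hc⟩ := (Submodule.mem_span_image_iff_exists_fun A).mp h1mem
  -- (iv) the finitely presented algebra `A₂ = A₀[yᵢ]/(∑ aᵢ yᵢ - 1)`
  let rel : MvPolynomial t A₀ := ∑ i : t, MvPolynomial.X i * MvPolynomial.C (i : A₀) - 1
  let J : Ideal (MvPolynomial t A₀) := Ideal.span {rel}
  let A₂ := MvPolynomial t A₀ ⧸ J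
  have hA₂fp : Algebra.FinitePresentation A₀ A₂ :=
    Algebra.FinitePresentation.quotient ⟨{rel}, by simp [J]⟩
  have hrelA : MvPolynomial.aeval (R := A₀) c rel = 0 := by
    simp only [rel, map_sub, map_sum, map_mul, MvPolynomial.aeval_X, MvPolynomial.aeval_C, map_one]
    rw [sub_eq_zero, ← hc]
    simp [smul_eq_mul]
  let φ : A₂ →ₐ[A₀] A := Ideal.Quotient.liftₐ J (MvPolynomial.aeval c) (by
    intro x hx
    rw [Ideal.mem_span_singleton] at hx
    obtain ⟨y, rfl⟩ := hx
    rw [map_mul, hrelA, zero_mul])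
  let _ : Algebra A₂ A := φ.toRingHom.toAlgebra
  have : IsScalarTower A₀ A₂ A := IsScalarTower.of_algHom φ
  have hone : (1 : A₂) = ∑ i : t, (Ideal.Quotient.mk J (MvPolynomial.X i)) * algebraMap A₀ A₂ (i : A₀) := by
    have h1 : Ideal.Quotient.mk J rel = 0 :=
      Ideal.Quotient.eq_zero_iff_mem.mpr (Ideal.subset_span rfl)
    simp only [rel, map_sub, map_sum, map_mul, map_one] at h1
    rw [sub_eq_zero] at h1
    rw [← h1]
    rfl
  -- (v) faithful flatness
  have hff : Module.FaithfullyFlat A₂ (A₂ ⊗[A₀] B₀) := by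
    refine Module.FaithfullyFlat.of_comap_surjective (A := A₂) (B := A₂ ⊗[A₀] B₀) ?_
    intro q
    apply hmem q
    intro hle
    have h1 : (1 : A₂) ∈ q.asIdeal := by
      rw [hone]
      exact Ideal.sum_mem _ fun i _ => Ideal.mul_mem_left _ _ (hle (htI i.2))
    exact q.isPrime.ne_top ((Ideal.eq_top_iff_one _).mpr h1)
  exact finitePresentation_aux (A₀ := A₀) (A₂ := A₂) (A := A) (B₀ := B₀)

/-- change of base ring: a finitely presented model `A₁` of the base -/
lemma finitePresentation_of_smooth_comp_aux {R A₀ A₁ A B B₀ : Type u} [CommRing R] [CommRing A₀]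
    [CommRing A₁] [CommRing A] [CommRing B] [CommRing B₀]
    [Algebra R A₁] [Algebra A₀ A₁] [Algebra A₁ A] [Algebra A₀ A] [IsScalarTower A₀ A₁ A]
    [Algebra R A] [IsScalarTower R A₁ A] [Algebra A B] [Algebra R B] [IsScalarTower R A B]
    [Algebra A₀ B₀] [Algebra.Smooth A₀ B₀]
    [Algebra.FinitePresentation R A₁] [Algebra.FinitePresentation R B]
    (e : B ≃ₐ[A] A ⊗[A₀] B₀)
    (hsurj : Function.Surjective (PrimeSpectrum.comap (algebraMap A B))) :
    Algebra.FinitePresentation R A := by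
  let _ : Algebra A₁ B := ((algebraMap A B).comp (algebraMap A₁ A)).toAlgebra
  have : IsScalarTower A₁ A B := IsScalarTower.of_algebraMap_eq' rfl
  have : IsScalarTower R A₁ B := IsScalarTower.of_algebraMap_eq (fun x => by
    rw [IsScalarTower.algebraMap_apply R A B, IsScalarTower.algebraMap_apply R A₁ A]
    rfl)
  have h1 : Algebra.FinitePresentation A₁ B :=
    Algebra.FinitePresentation.of_restrict_scalars_finitePresentation R A₁ B
  let E : A ⊗[A₁] (A₁ ⊗[A₀] B₀) ≃ₐ[A] B :=
    (Algebra.TensorProduct.cancelBaseChange A₀ A₁ A A B₀).trans e.symm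
  have h2 : Algebra.FinitePresentation A₁ (A ⊗[A₁] (A₁ ⊗[A₀] B₀)) :=
    Algebra.FinitePresentation.equiv (E.symm.restrictScalars A₁)
  have hsurj' : Function.Surjective
      (PrimeSpectrum.comap (algebraMap A (A ⊗[A₁] (A₁ ⊗[A₀] B₀)))) := by
    intro p
    obtain ⟨q, hq⟩ := hsurj p
    refine ⟨PrimeSpectrum.comap (E : A ⊗[A₁] (A₁ ⊗[A₀] B₀) →+* B) q, ?_⟩
    rw [← PrimeSpectrum.comap_comp_apply]
    have : (E : A ⊗[A₁] (A₁ ⊗[A₀] B₀) →+* B).comp (algebraMap A (A ⊗[A₁] (A₁ ⊗[A₀] B₀))) =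
        algebraMap A B := by
      ext x
      exact E.commutes x
    rw [this, hq]
  have h3 : Algebra.FinitePresentation A₁ A :=
    finitePresentation_of_smooth_tensor (A₀ := A₁) (A := A) (B₀ := A₁ ⊗[A₀] B₀) hsurj'
  exact Algebra.FinitePresentation.trans R A₁ A

/-- Finite presentation descends along smooth surjections on the source (ring version). -/
lemma finitePresentation_of_smooth_comp {R A B : Type u} [CommRing R] [CommRing A] [CommRing B]
    [Algebra R A] [Algebra A B] [Algebra R B] [IsScalarTower R A B] [Algebra.Smooth A B]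
    (hsurj : Function.Surjective (PrimeSpectrum.comap (algebraMap A B)))
    [Algebra.FinitePresentation R B] : Algebra.FinitePresentation R A := by
  obtain ⟨A₀, B₀, _, _, hfg, hsm, ⟨e⟩⟩ := Algebra.Smooth.exists_subalgebra_fg ℤ A B
  have hA₀fp : Algebra.FinitePresentation ℤ A₀ := by
    have : Algebra.FiniteType ℤ A₀ := (Subalgebra.fg_iff_finiteType A₀).mp hfg
    exact Algebra.FinitePresentation.of_finiteType.mp this
  let _ : Algebra A₀ (R ⊗[ℤ] A₀) := Algebra.TensorProduct.rightAlgebra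
  let ψ : R ⊗[ℤ] A₀ →ₐ[R] A := Algebra.TensorProduct.productLeftAlgHom (Algebra.ofId R A) A₀.val
  let _ : Algebra (R ⊗[ℤ] A₀) A := ψ.toRingHom.toAlgebra
  have : IsScalarTower R (R ⊗[ℤ] A₀) A := IsScalarTower.of_algHom ψ
  have : IsScalarTower A₀ (R ⊗[ℤ] A₀) A := IsScalarTower.of_algebraMap_eq (fun x => by
    show (x : A) = ψ (1 ⊗ₜ x)
    simp [ψ])
  have : Algebra.FinitePresentation R (R ⊗[ℤ] A₀) := inferInstance
  exact finitePresentation_of_smooth_comp_aux (R := R) (A₀ := A₀) (A₁ := R ⊗[ℤ] A₀) e hsurj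

lemma ringHom_finiteType_of_smooth_comp {R A B : Type u} [CommRing R] [CommRing A] [CommRing B]
    (φ : R →+* A) (ψ : A →+* B) (hψ : ψ.Smooth)
    (hs : Function.Surjective (PrimeSpectrum.comap ψ)) (h : (ψ.comp φ).FiniteType) :
    φ.FiniteType := by
  algebraize [φ, ψ, ψ.comp φ]
  exact finiteType_of_smooth_comp (R := R) (A := A) (B := B) hs

lemma ringHom_finitePresentation_of_smooth_comp {R A B : Type u} [CommRing R] [CommRing A]
    [CommRing B] (φ : R →+* A) (ψ : A →+* B) (hψ : ψ.Smooth)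
    (hs : Function.Surjective (PrimeSpectrum.comap ψ)) (h : (ψ.comp φ).FinitePresentation) :
    φ.FinitePresentation := by
  algebraize [φ, ψ, ψ.comp φ]
  exact finitePresentation_of_smooth_comp (R := R) (A := A) (B := B) hs

set_option backward.isDefEq.respectTransparency false

/-- all-affine case -/
theorem descend_affine {P : MorphismProperty Scheme.{u}}
    {Q : ∀ {R S : Type u} [CommRing R] [CommRing S], (R →+* S) → Prop}
    [HasRingHomProperty P Q]
    (hQ : ∀ {R A B : Type u} [CommRing R] [CommRing A] [CommRing B] (φ : R →+* A) (ψ : A →+* B),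
      ψ.Smooth → Function.Surjective (PrimeSpectrum.comap ψ) → Q (ψ.comp φ) → Q φ)
    {W U V : Scheme.{u}} [IsAffine W] [IsAffine U] [IsAffine V] (k : W ⟶ U) (g : U ⟶ V)
    [Smooth k] [Surjective k] (h : P (k ≫ g)) : P g := by
  rw [HasRingHomProperty.iff_of_isAffine (P := P)] at h ⊢
  have hk : k.appTop.hom.Smooth := (HasRingHomProperty.iff_of_isAffine (P := @Smooth)).mp inferInstance
  refine hQ g.appTop.hom k.appTop.hom hk ?_ ?_
  · have h1 : Function.Surjective (Spec.map k.appTop) := by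
      have : Spec.map k.appTop = W.isoSpec.inv ≫ k ≫ U.isoSpec.hom := by
        rw [← Scheme.isoSpec_hom_naturality, Iso.inv_hom_id_assoc]
      rw [this]
      simp only [Scheme.Hom.comp_base, TopCat.hom_comp, ContinuousMap.coe_comp]
      exact (U.isoSpec.hom.homeomorph.surjective.comp k.surjective).comp
        W.isoSpec.inv.homeomorph.surjective
    exact h1
  · rw [Scheme.Hom.comp_appTop] at h
    exact h

theorem descend_source {P : MorphismProperty Scheme.{u}}
    {Q : ∀ {R S : Type u} [CommRing R] [CommRing S], (R →+* S) → Prop}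
    [HasRingHomProperty P Q] [P.IsStableUnderBaseChange]
    (hQ : ∀ {R A B : Type u} [CommRing R] [CommRing A] [CommRing B] (φ : R →+* A) (ψ : A →+* B),
      ψ.Smooth → Function.Surjective (PrimeSpectrum.comap ψ) → Q (ψ.comp φ) → Q φ)
    {X' X Y : Scheme.{u}} (f : X' ⟶ X) (g : X ⟶ Y) [Smooth f] [Surjective f] (h : P (f ≫ g)) :
    P g := by
  rw [HasRingHomProperty.iff_appLE (P := P)]
  intro V U e
  have hU : IsCompact (U.1 : Set X) := U.2.isCompact
  have hopen : IsOpenMap f := f.isOpenMap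
  have hex : ∀ x : U.1, ∃ W : X'.Opens, IsAffineOpen W ∧ W ≤ f ⁻¹ᵁ U.1 ∧
      (x : X) ∈ f '' (W : Set X') := by
    intro x
    obtain ⟨x', hx'⟩ := f.surjective x.1
    obtain ⟨W, hW, hxW, hle⟩ := Opens.isBasis_iff_nbhd.mp X'.isBasis_affineOpens
      (show x' ∈ f ⁻¹ᵁ U.1 from by
        show f x' ∈ U.1
        rw [hx']; exact x.2)
    exact ⟨W, hW, hle, x', hxW, hx'⟩
  choose W hWaff hWle hWmem using hex
  obtain ⟨t, ht⟩ := hU.elim_finite_subcover (fun x : U.1 => f '' (W x : Set X'))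
    (fun x => hopen _ (W x).2) (fun x hx => Set.mem_iUnion.mpr ⟨⟨x, hx⟩, hWmem _⟩)
  have : ∀ i : t, IsAffine ((W i.1 : X'.Opens) : Scheme.{u}) := fun i => hWaff i.1
  let W' : Scheme.{u} := ∐ fun i : t => ((W i.1 : X'.Opens) : Scheme.{u})
  let hh : W' ⟶ X' := Sigma.desc (fun i : t => (W i.1).ι)
  have hhet : Smooth hh := IsZariskiLocalAtSource.sigmaDesc (P := @Smooth) (fun i => inferInstance)
  let k : W' ⟶ X := hh ≫ f
  have hpt : ∀ w : W', ∃ (i : t) (w₀ : (W i.1 : X'.Opens)), hh w = (w₀ : X') := by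
    intro w
    obtain ⟨⟨i, w₀⟩, rfl⟩ := (sigmaMk (fun i : t => ((W i.1 : X'.Opens) : Scheme.{u}))).surjective w
    refine ⟨i, w₀, ?_⟩
    rw [sigmaMk_mk, ← Scheme.Hom.comp_apply, Sigma.ι_desc]
    rfl
  have hrange : Set.range k ⊆ Set.range U.1.ι := by
    rintro _ ⟨w, rfl⟩
    obtain ⟨i, w₀, hw⟩ := hpt w
    rw [Scheme.Opens.range_ι]
    show f (hh w) ∈ U.1
    rw [hw]
    exact hWle i.1 w₀.2
  let k' : W' ⟶ U.1 := IsOpenImmersion.lift U.1.ι k hrange
  have hk' : k' ≫ U.1.ι = k := IsOpenImmersion.lift_fac _ _ _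
  have hk'et : Smooth k' := by
    apply MorphismProperty.of_postcomp (W := @Smooth) (W' := @IsOpenImmersion) k' U.1.ι inferInstance
    rw [hk']
    infer_instance
  have hk'surj : Surjective k' := by
    constructor
    intro u
    have hu : (U.1.ι u : X) ∈ (U.1 : Set X) := u.2
    obtain ⟨x, hx⟩ := Set.mem_iUnion.mp (ht hu)
    obtain ⟨hxt, w₀, hw₀, hfw₀⟩ := Set.mem_iUnion.mp hx
    refine ⟨Sigma.ι (fun i : t => ((W i.1 : X'.Opens) : Scheme.{u})) ⟨x, hxt⟩ ⟨w₀, hw₀⟩, ?_⟩
    apply U.1.ι.isOpenEmbedding.injective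
    rw [← Scheme.Hom.comp_apply, hk', ← Scheme.Hom.comp_apply]
    show (Sigma.ι _ _ ≫ hh ≫ f) _ = _
    rw [Sigma.ι_desc_assoc]
    exact hfw₀
  have : IsAffine (U.1 : Scheme.{u}) := U.2
  have : IsAffine (V.1 : Scheme.{u}) := V.2
  have hP : P (k' ≫ g.resLE V.1 U.1 e) := by
    apply MorphismProperty.of_postcomp (W := P) (W' := @IsOpenImmersion) _ V.1.ι inferInstance
    rw [Category.assoc, Scheme.Hom.resLE_comp_ι, reassoc_of% hk']
    have : k ≫ g = Sigma.desc (fun i : t => (W i.1).ι ≫ f ≫ g) := by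
      apply Sigma.hom_ext
      intro i
      simp [k, hh]
    rw [this]
    exact IsZariskiLocalAtSource.sigmaDesc (P := P) (fun i => IsZariskiLocalAtSource.comp h _)
  have hg' : P (g.resLE V.1 U.1 e) := descend_affine hQ k' _ hP
  rw [HasRingHomProperty.iff_of_isAffine (P := P)] at hg'
  have : (RingHom.toMorphismProperty Q).RespectsIso :=
    RingHom.toMorphismProperty_respectsIso_iff.mp
      (HasRingHomProperty.isLocal_ringHomProperty P).respectsIso
  exact (MorphismProperty.arrow_mk_iso_iff (RingHom.toMorphismProperty Q)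
    (arrowResLEAppIso g V.1 U.1 e)).mp hg'

/-- locally of finite type descends along a smooth surjection on the source. -/
theorem locallyOfFiniteType_of_smooth_comp {X' X Y : Scheme.{u}} (f : X' ⟶ X) (g : X ⟶ Y)
    [Smooth f] [Surjective f] [LocallyOfFiniteType (f ≫ g)] : LocallyOfFiniteType g :=
  descend_source (P := @LocallyOfFiniteType) ringHom_finiteType_of_smooth_comp f g inferInstance

/-- locally of finite presentation descends along a smooth surjection on the source. -/
theorem locallyOfFinitePresentation_of_smooth_comp {X' X Y : Scheme.{u}} (f : X' ⟶ X) (g : X ⟶ Y)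
    [Smooth f] [Surjective f] [LocallyOfFinitePresentation (f ≫ g)] :
    LocallyOfFinitePresentation g :=
  descend_source (P := @LocallyOfFinitePresentation) ringHom_finitePresentation_of_smooth_comp f g
    inferInstance

/-- corestriction of an open map to its (open) range -/
theorem exists_corestrict {U X : Scheme.{u}} (g : U ⟶ X) [Smooth g] :
    ∃ (V : X.Opens) (g' : U ⟶ (V : Scheme.{u})), g' ≫ V.ι = g ∧ Smooth g' ∧ Surjective g' ∧
      (V : Set X) = Set.range g := by
  let V : X.Opens := ⟨Set.range g, g.isOpenMap.isOpen_range⟩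
  have hsub : Set.range g ⊆ Set.range V.ι := by
    rw [Scheme.Opens.range_ι]
    exact le_rfl
  let g' : U ⟶ (V : Scheme.{u}) := IsOpenImmersion.lift V.ι g hsub
  have hfac : g' ≫ V.ι = g := IsOpenImmersion.lift_fac _ _ _
  refine ⟨V, g', hfac, ?_, ?_, rfl⟩
  · have h1 : Smooth (g' ≫ V.ι) := by rw [hfac]; infer_instance
    exact MorphismProperty.of_postcomp (W := @Smooth) (W' := @IsOpenImmersion) g' V.ι inferInstance h1
  · constructor
    intro v
    obtain ⟨u, hu⟩ : V.ι v ∈ Set.range g := by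
      have : V.ι v ∈ Set.range V.ι := ⟨v, rfl⟩
      rw [Scheme.Opens.range_ι] at this
      exact this
    refine ⟨u, ?_⟩
    apply V.ι.injective
    rw [← Scheme.Hom.comp_apply, hfac, hu]

theorem isLocalAtSource_smoothPrecoverage (P : MorphismProperty Scheme.{u})
    [IsZariskiLocalAtSource P]
    (hpre : ∀ {X Y Z : Scheme.{u}} (e : X ⟶ Y) (g : Y ⟶ Z), Smooth e → P g → P (e ≫ g))
    (hdesc : ∀ {X' X Y : Scheme.{u}} (f : X' ⟶ X) (g : X ⟶ Y), Smooth f → Surjective f →
      P (f ≫ g) → P g) :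
    P.IsLocalAtSource (Scheme.precoverage @Smooth) := by
  refine .mk_of_iff_of_zeroHypercover fun {X Y} f 𝒰 => ?_
  have h𝒰 : Presieve.ofArrows 𝒰.X 𝒰.f ∈ Scheme.precoverage @Smooth X := 𝒰.mem₀
  rw [Scheme.ofArrows_mem_precoverage_iff] at h𝒰
  obtain ⟨hsurj, hP⟩ := h𝒰
  constructor
  · intro hf i
    exact hpre _ _ (hP i) hf
  · intro h
    have hex : ∀ i, ∃ (V : X.Opens) (g' : 𝒰.X i ⟶ (V : Scheme.{u})), g' ≫ V.ι = 𝒰.f i ∧ Smooth g' ∧
        Surjective g' ∧ (V : Set X) = Set.range (𝒰.f i) := fun i => by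
      have := hP i
      exact exists_corestrict (𝒰.f i)
    choose V g' hfac hge hgs hV using hex
    refine IsZariskiLocalAtSource.of_iSup_eq_top V ?_ ?_
    · rw [eq_top_iff]
      intro x _
      obtain ⟨i, hi⟩ := hsurj x
      rw [TopologicalSpace.Opens.mem_iSup]
      refine ⟨i, ?_⟩
      show x ∈ (V i : Set X)
      rw [hV i]
      exact hi
    · intro i
      refine hdesc (g' i) ((V i).ι ≫ f) (hge i) (hgs i) ?_
      rw [← Category.assoc, hfac]
      exact h i

theorem isLocalAtSource_smooth_lft :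
    MorphismProperty.IsLocalAtSource @LocallyOfFiniteType.{u} (Scheme.precoverage.{u} @Smooth) :=
  isLocalAtSource_smoothPrecoverage @LocallyOfFiniteType
    (fun e g he hg => by
      have : Smooth e := he
      have : LocallyOfFiniteType g := hg
      exact (inferInstance : LocallyOfFiniteType (e ≫ g)))
    (fun f g hf hs h => by
      have : Smooth f := hf
      have : Surjective f := hs
      have : LocallyOfFiniteType (f ≫ g) := h
      exact locallyOfFiniteType_of_smooth_comp f g)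

theorem isLocalAtSource_smooth_lfp :
    MorphismProperty.IsLocalAtSource @LocallyOfFinitePresentation.{u} (Scheme.precoverage.{u} @Smooth) :=
  isLocalAtSource_smoothPrecoverage @LocallyOfFinitePresentation
    (fun e g he hg => by
      have : Smooth e := he
      have : LocallyOfFinitePresentation g := hg
      exact (inferInstance : LocallyOfFinitePresentation (e ≫ g)))
    (fun f g hf hs h => by
      have : Smooth f := hf
      have : Surjective f := hs
      have : LocallyOfFinitePresentation (f ≫ g) := h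
      exact locallyOfFinitePresentation_of_smooth_comp f g)

end Groth.Agent.Lib.helper4.SmSrc
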