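import Mathlib
import Groth.Agent.Lib.Helper4.GenFinite3
import Groth.Agent.Lib.Helper4.GlueClosedPoint

/-!
# Generic finiteness without integrality hypotheses: global assembly
-/

set_option backward.isDefEq.respectTransparency false
set_option backward.isDefEq.respectTransparency.types false
set_option autoImplicit false
universe u
open CategoryTheory AlgebraicGeometry

namespace Groth.Agent.Lib.helper4.GenFinite4

open Groth.Agent.Lib.helper4.GenFinite3

variable {X Y : Scheme.{u}}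

/-- Points of a finite fibre over a maximal point are maximal. -/
lemma isMaxPt_of_mem_fibre (f : X ⟶ Y) [LocallyOfFiniteType f] (η : Y) (hmax : IsMaxPt η)
    (hfin : (f ⁻¹' {η}).Finite) (x : X) (hx : f x = η) : IsMaxPt x := by
  intro u hu
  have h1 : f u ⤳ f x := hu.map f.continuous
  subst hx
  have hu' : f u = f x := hmax _ h1
  have hF : Finite (f ⁻¹' {f x}) := hfin
  have : Finite (f.fiber (f x)) := (f.fiberHomeo (f x)).finite_iff.mpr hF
  have ho : IsOpen ({f.asFiber x} : Set (f.fiber (f x))) := isOpen_discrete _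
  let u' : f.fiber (f x) := (f.fiberHomeo (f x)).symm ⟨u, hu'⟩
  have hu'' : f.fiberι (f x) u' = u := f.fiberι_fiberHomeo_symm _ _
  have hsp : u' ⤳ f.asFiber x := by
    rw [← (f.fiberι (f x)).isEmbedding.isInducing.specializes_iff, hu'', f.fiberι_asFiber]
    exact hu
  have hmem : u' ∈ ({f.asFiber x} : Set _) := hsp.mem_open ho (Set.mem_singleton _)
  have h2 : u' = f.asFiber x := hmem
  rw [← hu'', h2, f.fiberι_asFiber]

/-- In a quasi-separated open, a maximal point outside an affine open is not in its closure. -/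
lemma not_mem_closure_of_isMaxPt (X₁ : X.Opens) (hqs : IsQuasiSeparated (X₁ : Set X))
    (U : X.Opens) (hU : IsAffineOpen U) (hUX : U ≤ X₁) (x' : X) (hx'X : x' ∈ X₁)
    (hx'max : IsMaxPt x') (hx'U : x' ∉ U) : x' ∉ closure (U : Set X) := by
  intro hcl
  obtain ⟨_, ⟨W : X.Opens, hW, rfl⟩, hx'W, hWX⟩ := X.isBasis_affineOpens.exists_subset_of_mem_open
    hx'X X₁.2
  have hWX' : W ≤ X₁ := hWX
  have hcomp : IsCompact ((U ⊓ W : X.Opens) : Set X) :=
    hqs U W hUX U.2 hU.isCompact hWX' W.2 hW.isCompact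
  have : CompactSpace (U ⊓ W : X.Opens).toScheme := isCompact_iff_compactSpace.mp hcomp
  have : IsAffine W.toScheme := hW
  let g : (U ⊓ W : X.Opens).toScheme ⟶ W.toScheme := X.homOfLE inf_le_right
  have hg : QuasiCompact g :=
    (HasAffineProperty.iff_of_isAffine (P := @QuasiCompact)).mpr inferInstance
  have hgι : g ≫ W.ι = (U ⊓ W : X.Opens).ι := X.homOfLE_ι _
  have hrange : W.ι '' (Set.range g) = ((U ⊓ W : X.Opens) : Set X) := by
    rw [← Set.range_comp]
    have : (W.ι : W.toScheme → X) ∘ (g : _ → _) = ((U ⊓ W : X.Opens).ι : _ → X) := by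
      funext z
      rw [← hgι]
      rfl
    rw [this]
    exact Scheme.Opens.range_ι _
  have hw' : (⟨x', hx'W⟩ : W.toScheme) ∈ closure (Set.range g) := by
    rw [W.ι.isOpenEmbedding.isInducing.closure_eq_preimage_closure_image, Set.mem_preimage,
      hrange]
    have : x' ∈ (W : Set X) ∩ closure (U : Set X) := ⟨hx'W, hcl⟩
    have h2 := W.2.inter_closure this
    rw [Set.inter_comm] at h2
    exact h2
  obtain ⟨z, hz⟩ := Groth.Agent.Lib.Helper4.GlueClosedPoint.exists_specializes_of_mem_closure_range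
    g _ hw'
  have hz' : W.ι (g z) ⤳ x' := hz.map W.ι.continuous
  have hzx : W.ι (g z) = x' := hx'max _ hz'
  apply hx'U
  rw [← hzx, ← Scheme.Hom.comp_apply, hgι]
  exact z.2.1


/-- Two distinct maximal points of a quasi-separated open have disjoint open neighbourhoods. -/
lemma exists_disjoint_nbhds_of_isMaxPt (X₁ : X.Opens) (hqs : IsQuasiSeparated (X₁ : Set X))
    (x x' : X) (hxX : x ∈ X₁) (hx'X : x' ∈ X₁) (hxmax : IsMaxPt x) (hx'max : IsMaxPt x')
    (hne : x ≠ x') :
    ∃ O O' : Set X, IsOpen O ∧ IsOpen O' ∧ x ∈ O ∧ x' ∈ O' ∧ Disjoint O O' := by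
  have hns : ¬ x' ⤳ x := fun hsp => hne (hxmax _ hsp).symm
  obtain ⟨S, hSo, hxS, hx'S⟩ := not_specializes_iff_exists_open.mp hns
  obtain ⟨_, ⟨U : X.Opens, hU, rfl⟩, hxU, hUS⟩ := X.isBasis_affineOpens.exists_subset_of_mem_open
    (show x ∈ S ∩ (X₁ : Set X) from ⟨hxS, hxX⟩) (hSo.inter X₁.2)
  have hUX : U ≤ X₁ := fun z hz => (hUS hz).2
  have hx'U : x' ∉ U := fun hz => hx'S (hUS hz).1
  have hcl := not_mem_closure_of_isMaxPt X₁ hqs U hU hUX x' hx'X hx'max hx'U
  refine ⟨U, (closure (U : Set X))ᶜ, U.2, isClosed_closure.isOpen_compl, hxU, hcl, ?_⟩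
  rw [Set.disjoint_compl_right_iff_subset]
  exact subset_closure

/-- Pairwise disjoint affine neighbourhoods of a finite set of maximal points of a
quasi-separated open. -/
lemma exists_disjoint_affine_nbhds (X₁ : X.Opens) (hqs : IsQuasiSeparated (X₁ : Set X))
    (F : Set X) (hF : F.Finite) (hFX : F ⊆ X₁) (hmaxF : ∀ x ∈ F, IsMaxPt x) :
    ∃ U : F → X.Opens, (∀ x, IsAffineOpen (U x)) ∧ (∀ x : F, x.1 ∈ U x) ∧ (∀ x, U x ≤ X₁) ∧
      Pairwise (Function.onFun Disjoint U) := by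
  classical
  have hpair : ∀ x x' : X, ∃ O O' : Set X, IsOpen O ∧ IsOpen O' ∧
      (x ∈ F → x' ∈ F → x ≠ x' → x ∈ O ∧ x' ∈ O' ∧ Disjoint O O') := by
    intro x x'
    by_cases h : x ∈ F ∧ x' ∈ F ∧ x ≠ x'
    · obtain ⟨O, O', hO, hO', h1, h2, h3⟩ := exists_disjoint_nbhds_of_isMaxPt X₁ hqs x x'
        (hFX h.1) (hFX h.2.1) (hmaxF x h.1) (hmaxF x' h.2.1) h.2.2
      exact ⟨O, O', hO, hO', fun _ _ _ => ⟨h1, h2, h3⟩⟩
    · exact ⟨∅, ∅, isOpen_empty, isOpen_empty, fun a b c => absurd ⟨a, b, c⟩ h⟩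
  choose O O' hO hO' hOO' using hpair
  -- the neighbourhood of `x`
  let N : X → Set X := fun x => (X₁ : Set X) ∩ ⋂ x' ∈ F \ {x}, (O x x' ∩ O' x' x)
  have hNo : ∀ x, IsOpen (N x) := fun x =>
    X₁.2.inter ((hF.subset Set.sdiff_subset).isOpen_biInter
      (fun x' _ => (hO x x').inter (hO' x' x)))
  have hxN : ∀ x ∈ F, x ∈ N x := by
    intro x hx
    refine ⟨hFX hx, ?_⟩
    simp only [Set.mem_iInter]
    intro x' hx'
    have hne : x ≠ x' := fun e => hx'.2 (e ▸ rfl)
    exact ⟨(hOO' x x' hx hx'.1 hne).1, (hOO' x' x hx'.1 hx hne.symm).2.1⟩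
  have hbasis := fun x : F => X.isBasis_affineOpens.exists_subset_of_mem_open
    (hxN x.1 x.2) (hNo x.1)
  choose U' hU' hxU' hU'N using hbasis
  have hU'aff : ∀ x : F, ∃ U : X.Opens, IsAffineOpen U ∧ (U : Set X) = U' x := by
    intro x
    obtain ⟨U, hU, hUe⟩ := hU' x
    exact ⟨U, hU, hUe⟩
  choose U hUaff hUe using hU'aff
  refine ⟨U, hUaff, ?_, ?_, ?_⟩
  · intro x
    show x.1 ∈ (U x : Set X)
    rw [hUe]
    exact hxU' x
  · intro x z hz
    have hz' : z ∈ (U x : Set X) := hz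
    rw [hUe] at hz'
    exact (hU'N x hz').1
  · intro x x' hne
    have hne' : x.1 ≠ x'.1 := fun e => hne (Subtype.ext e)
    show Disjoint (U x) (U x')
    rw [← TopologicalSpace.Opens.coe_disjoint, hUe, hUe]
    refine Set.disjoint_of_subset ?_ ?_ (hOO' x.1 x'.1 x.2 x'.2 hne').2.2
    · intro z hz
      have h1 := (hU'N x hz).2
      simp only [Set.mem_iInter] at h1
      exact (h1 x'.1 ⟨x'.2, fun e => hne' (Set.mem_singleton_iff.mp e).symm⟩).1
    · intro z hz
      have h1 := (hU'N x' hz).2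
      simp only [Set.mem_iInter] at h1
      exact (h1 x.1 ⟨x.2, fun e => hne' (Set.mem_singleton_iff.mp e)⟩).2

end Groth.Agent.Lib.helper4.GenFinite4
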