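import Mathlib
import Groth.Agent.Lib.Helper4.GenFinite4

/-!
# Generic finiteness without integrality hypotheses: main theorem
-/

set_option backward.isDefEq.respectTransparency false
set_option backward.isDefEq.respectTransparency.types false
set_option autoImplicit false
universe u
open CategoryTheory AlgebraicGeometry

namespace Groth.Agent.Lib.helper4.GenFinite5

open Groth.Agent.Lib.helper4.GenFinite3 Groth.Agent.Lib.helper4.GenFinite4

/-- Integrality can be checked after a jointly injective finite family of ring maps. -/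
lemma isIntegral_of_jointly_injective {R B : Type*} [CommRing R] [CommRing B] (ψ : R →+* B)
    {ι : Type*} [Finite ι] (C : ι → Type*) [∀ i, CommRing (C i)] (ρ : ∀ i, B →+* C i)
    (hinj : ∀ b : B, (∀ i, ρ i b = 0) → b = 0)
    (hint : ∀ i, ((ρ i).comp ψ).IsIntegral) : ψ.IsIntegral := by
  classical
  have := Fintype.ofFinite ι
  intro b
  have h := fun i => hint i (ρ i b)
  choose P hPm hP using h
  refine ⟨∏ i, P i, Polynomial.monic_prod_of_monic _ _ (fun i _ => hPm i), ?_⟩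
  apply hinj
  intro i
  rw [Polynomial.hom_eval₂, Polynomial.eval₂_finsetProd]
  exact Finset.prod_eq_zero (Finset.mem_univ i) (hP i)

variable {X Y : Scheme.{u}}

/-- Integrality of `Γ(Y, V) ⟶ Γ(X, U)` can be checked on a finite open cover of `U`. -/
lemma isIntegral_appLE_of_cover (f : X ⟶ Y) (V : Y.Opens) (U : X.Opens) (hUV : U ≤ f ⁻¹ᵁ V)
    {ι : Type*} [Finite ι] (A : ι → X.Opens) (hAU : ∀ i, A i ≤ U) (hcov : U ≤ iSup A)
    (hint : ∀ i, (f.appLE V (A i) ((hAU i).trans hUV)).hom.IsIntegral) :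
    (f.appLE V U hUV).hom.IsIntegral := by
  refine isIntegral_of_jointly_injective _ (fun i => Γ(X, A i))
    (fun i => (X.presheaf.map (homOfLE (hAU i)).op).hom) ?_ ?_
  · intro b hb
    refine TopCat.Sheaf.eq_of_locally_eq' X.sheaf A U (fun i => homOfLE (hAU i)) hcov b 0 ?_
    intro i
    change (X.presheaf.map _) _ = (X.presheaf.map _) _
    rw [map_zero]
    exact hb i
  · intro i
    have e : (X.presheaf.map (homOfLE (hAU i)).op).hom.comp (f.appLE V U hUV).hom =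
        (f.appLE V (A i) ((hAU i).trans hUV)).hom := by
      rw [← CommRingCat.hom_comp, Scheme.Hom.appLE_map]
    rw [e]
    exact hint i

/-- From finiteness of `f.resLE` between affine opens to finiteness of the ring map. -/
lemma finite_appLE_of_isFinite_resLE (f : X ⟶ Y) (V : Y.Opens) (U : X.Opens)
    (hV : IsAffineOpen V) (hU : IsAffineOpen U) (hUV : U ≤ f ⁻¹ᵁ V)
    (h : IsFinite (f.resLE V U hUV)) : (f.appLE V U hUV).hom.Finite := by
  have : IsAffine V.toScheme := hV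
  have : IsAffine U.toScheme := hU
  rw [HasAffineProperty.iff_of_isAffine (P := @IsFinite)] at h
  have h2 := h.2
  have e1 : (f.resLE V U hUV).appTop = V.topIso.hom ≫ f.appLE V U hUV ≫ U.topIso.inv :=
    Scheme.Hom.resLE_app_top f hUV
  rw [e1] at h2
  exact (RingHom.finite_respectsIso.cancel_right_isIso _ _).mp
    ((RingHom.finite_respectsIso.cancel_left_isIso _ _).mp h2)

/-- From finiteness of the ring map to finiteness of `f ∣_ V` when `f⁻¹ V` and `V` are affine. -/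
lemma isFinite_morphismRestrict_of_finite_appLE (f : X ⟶ Y) (V : Y.Opens)
    (hV : IsAffineOpen V) (hU : IsAffineOpen (f ⁻¹ᵁ V))
    (h : (f.appLE V (f ⁻¹ᵁ V) le_rfl).hom.Finite) : IsFinite (f ∣_ V) := by
  have : IsAffine V.toScheme := hV
  have : IsAffine (f ⁻¹ᵁ V).toScheme := hU
  rw [← Scheme.Hom.resLE_eq_morphismRestrict, HasAffineProperty.iff_of_isAffine (P := @IsFinite)]
  refine ⟨inferInstance, ?_⟩
  have e1 : (f.resLE V (f ⁻¹ᵁ V) le_rfl).appTop =
      V.topIso.hom ≫ f.appLE V (f ⁻¹ᵁ V) le_rfl ≫ (f ⁻¹ᵁ V).topIso.inv :=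
    Scheme.Hom.resLE_app_top f le_rfl
  rw [e1]
  exact (RingHom.finite_respectsIso.cancel_left_isIso _ _).mpr
    ((RingHom.finite_respectsIso.cancel_right_isIso _ _).mpr h)

/-- **Generic finiteness (Stacks 02NW (4)).** For `f` locally of finite type, quasi-compact and
quasi-separated, and `η` a maximal point of `Y` with finite fibre, there is an affine open
neighbourhood `V` of `η` with `f⁻¹ V ⟶ V` finite. -/
theorem exists_isFinite_morphismRestrict (f : X ⟶ Y) [LocallyOfFiniteType f] [QuasiCompact f]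
    [QuasiSeparated f] (η : Y) (hmax : IsMaxPt η) (hfin : (f ⁻¹' {η}).Finite) :
    ∃ V : Y.Opens, IsAffineOpen V ∧ η ∈ V ∧ IsFinite (f ∣_ V) := by
  classical
  obtain ⟨_, ⟨V₀ : Y.Opens, hV₀, rfl⟩, hηV₀, -⟩ :=
    Y.isBasis_affineOpens.exists_subset_of_mem_open (Set.mem_univ η) isOpen_univ
  have hηV₀' : η ∈ V₀ := hηV₀
  have hcpt : IsCompact ((f ⁻¹ᵁ V₀ : X.Opens) : Set X) := f.isCompact_preimage hV₀.isCompact
  obtain ⟨𝒜, h𝒜fin, h𝒜⟩ := isCompact_iff_finite_and_eq_biUnion_affineOpens.mp hcpt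
  have : Finite 𝒜 := h𝒜fin
  have := Fintype.ofFinite 𝒜
  have hAle : ∀ A : 𝒜, (A.1 : X.Opens) ≤ f ⁻¹ᵁ V₀ := by
    intro A
    rw [h𝒜]
    exact le_iSup₂ (f := fun (i : X.affineOpens) (_ : i ∈ 𝒜) => (i : X.Opens)) A.1 A.2
  have hg := fun A : 𝒜 =>
    exists_basicOpen_isFinite' f η hmax hfin V₀ hV₀ hηV₀' A.1.1 A.1.2 (hAle A)
  choose gA hηgA hgA using hg
  let g₁ : Γ(Y, V₀) := ∏ A, gA A
  have hηg₁ : η ∈ Y.basicOpen g₁ := by
    rw [Scheme.mem_basicOpen _ _ η hηV₀', map_prod, IsUnit.prod_univ_iff]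
    intro A
    exact (Scheme.mem_basicOpen _ _ η hηV₀').mp (hηgA A)
  set V₁ : Y.Opens := Y.basicOpen g₁ with hV₁def
  have hV₁ : IsAffineOpen V₁ := hV₀.basicOpen g₁
  have hV₁V₀ : V₁ ≤ V₀ := Y.basicOpen_le g₁
  let X₁ : X.Opens := f ⁻¹ᵁ V₁
  have hqs : IsQuasiSeparated (X₁ : Set X) := by
    have : IsAffine V₁.toScheme := hV₁
    have h1 : QuasiSeparated (f ∣_ V₁) := inferInstance
    rw [HasAffineProperty.iff_of_isAffine (P := @QuasiSeparated)] at h1
    exact (isQuasiSeparated_iff_quasiSeparatedSpace _ X₁.2).mpr h1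
  have hFX : f ⁻¹' {η} ⊆ (X₁ : Set X) := by
    intro x hx
    have hx' : f x = η := hx
    show f x ∈ V₁
    rw [hx']
    exact hηg₁
  have hmaxF : ∀ x ∈ f ⁻¹' {η}, IsMaxPt x := fun x hx =>
    isMaxPt_of_mem_fibre f η hmax hfin x hx
  obtain ⟨U, hUaff, hxU, hUX₁, hUdisj⟩ :=
    exists_disjoint_affine_nbhds X₁ hqs _ hfin hFX hmaxF
  have : Finite (f ⁻¹' {η}) := hfin
  let W : X.Opens := ⨆ x, U x
  have hW : IsAffineOpen W := IsAffineOpen.iSup_of_disjoint hUaff hUdisj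
  have hFW : f ⁻¹' {η} ⊆ (W : Set X) := fun x hx =>
    (le_iSup U ⟨x, hx⟩) (hxU ⟨x, hx⟩)
  have hWX₁ : W ≤ X₁ := iSup_le hUX₁
  have hηcl : η ∉ closure (f '' ((W : Set X)ᶜ)) := by
    intro hx
    obtain ⟨c, hcC, hcx⟩ :=
      Groth.Agent.Lib.Helper4.GlueClosedPoint.exists_specializes_of_mem_closure_image f
        ((W : Set X)ᶜ) W.2.isClosed_compl η hx
    have heq : f c = η := hmax _ hcx
    exact hcC (hFW heq)
  let V₂ : Y.Opens := V₁ ⊓ ⟨(closure (f '' ((W : Set X)ᶜ)))ᶜ, isClosed_closure.isOpen_compl⟩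
  have hηV₂ : η ∈ V₂ := ⟨hηg₁, hηcl⟩
  obtain ⟨g₂, hg₂V₂, hηg₂⟩ := hV₀.exists_basicOpen_le (V := V₂) ⟨η, hηV₂⟩ hηV₀'
  have hηg₂' : η ∈ Y.basicOpen g₂ := hηg₂
  set g : Γ(Y, V₀) := g₁ * g₂ with hgdef
  set V : Y.Opens := Y.basicOpen g with hVdef
  have hVeq : V = V₁ ⊓ Y.basicOpen g₂ := Scheme.basicOpen_mul _ _ _
  have hV : IsAffineOpen V := hV₀.basicOpen g
  have hηV : η ∈ V := by rw [hVeq]; exact ⟨hηg₁, hηg₂'⟩
  have hVV₂ : V ≤ V₂ := by rw [hVeq]; exact inf_le_right.trans hg₂V₂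
  have hpreW : f ⁻¹ᵁ V ≤ W := by
    intro x hx
    by_contra hxW
    exact (hVV₂ hx).2 (subset_closure ⟨x, hxW, rfl⟩)
  have hWV₀ : W ≤ f ⁻¹ᵁ V₀ := hWX₁.trans (fun x hx => hV₁V₀ hx)
  have hpre_eq : f ⁻¹ᵁ V = X.basicOpen ((f.appLE V₀ W hWV₀).hom g) := by
    have := Scheme.basicOpen_appLE f W V₀ hWV₀ g
    refine le_antisymm ?_ ?_
    · intro x hx
      rw [this]
      exact ⟨hpreW hx, hx⟩
    · rw [this]
      exact inf_le_right
  have hU : IsAffineOpen (f ⁻¹ᵁ V) := by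
    rw [hpre_eq]
    exact hW.basicOpen _
  refine ⟨V, hV, hηV, ?_⟩
  refine isFinite_morphismRestrict_of_finite_appLE f V hV hU ?_
  rw [RingHom.finite_iff_isIntegral_and_finiteType]
  refine ⟨?_, f.finiteType_appLE hV hU le_rfl⟩
  -- the cover by the finite pieces
  let A' : 𝒜 → X.Opens := fun A => X.basicOpen ((f.appLE V₀ A.1.1 (hAle A)).hom g)
  have hA'eq : ∀ A : 𝒜, A' A = A.1.1 ⊓ f ⁻¹ᵁ V := fun A =>
    Scheme.basicOpen_appLE f A.1.1 V₀ (hAle A) g
  have hA'le : ∀ A, A' A ≤ f ⁻¹ᵁ V := fun A => by rw [hA'eq]; exact inf_le_right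
  refine isIntegral_appLE_of_cover f V (f ⁻¹ᵁ V) le_rfl A' hA'le ?_ ?_
  · intro x hx
    have hx₀ : x ∈ f ⁻¹ᵁ V₀ := Y.basicOpen_le g hx
    rw [h𝒜] at hx₀
    simp only [TopologicalSpace.Opens.mem_iSup] at hx₀
    obtain ⟨A, hA, hxA⟩ := hx₀
    refine TopologicalSpace.Opens.mem_iSup.mpr ⟨⟨A, hA⟩, ?_⟩
    rw [hA'eq]
    exact ⟨hxA, hx⟩
  · intro A
    have hdvd : gA A ∣ g := (Finset.dvd_prod_of_mem _ (Finset.mem_univ A)).trans
      (Dvd.intro _ rfl)
    have h1 := hgA A g hdvd (hA'le A)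
    exact (finite_appLE_of_isFinite_resLE f V (A' A) hV (A.1.2.basicOpen _) (hA'le A)
      h1).to_isIntegral

/-- The fibre of `f` over a point of `V` is the image of the fibre of `f ∣_ V`. -/
lemma preimage_singleton_eq_image (f : X ⟶ Y) (V : Y.Opens) (η : Y) (hηV : η ∈ V) :
    f ⁻¹' {η} = (f ⁻¹ᵁ V).ι '' ((f ∣_ V) ⁻¹' {(⟨η, hηV⟩ : V.toScheme)}) := by
  ext x
  constructor
  · intro hx
    have hx' : f x = η := hx
    have hxV : x ∈ f ⁻¹ᵁ V := by
      show f x ∈ V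
      rw [hx']; exact hηV
    refine ⟨⟨x, hxV⟩, ?_, rfl⟩
    show (f ∣_ V) ⟨x, hxV⟩ = ⟨η, hηV⟩
    apply V.ι.injective
    rw [← Scheme.Hom.comp_apply, morphismRestrict_ι, Scheme.Hom.comp_apply]
    exact hx'
  · rintro ⟨z, hz, rfl⟩
    have hz' : (f ∣_ V) z = ⟨η, hηV⟩ := hz
    show f ((f ⁻¹ᵁ V).ι z) = η
    rw [← Scheme.Hom.comp_apply, ← morphismRestrict_ι, Scheme.Hom.comp_apply, hz']
    rfl

/-- If `f ∣_ V` is finite, the fibres of `f` over points of `V` are finite. -/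
lemma finite_preimage_singleton_of_isFinite_morphismRestrict (f : X ⟶ Y) (V : Y.Opens) (η : Y)
    (hηV : η ∈ V) (hV : IsFinite (f ∣_ V)) : (f ⁻¹' {η}).Finite := by
  rw [preimage_singleton_eq_image f V η hηV]
  exact ((f ∣_ V).finite_preimage_singleton _).image _

end Groth.Agent.Lib.helper4.GenFinite5
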