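import Mathlib

set_option backward.isDefEq.respectTransparency false
set_option autoImplicit false
set_option linter.style.haveILetI false

/-!
# Descent of surjectivity, flatness and quasi-compactness along fpqc covering families
-/

universe u

open CategoryTheory CategoryTheory.Limits AlgebraicGeometry TensorProduct

namespace Groth.Agent.Lib.Helper4.FpqcFamily

theorem flat_of_faithfullyFlat_comp (A B C : Type u) [CommRing A] [CommRing B] [CommRing C]
    [Algebra A B] [Algebra B C] [Algebra A C] [IsScalarTower A B C]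
    [Module.FaithfullyFlat B C] [Module.Flat A C] : Module.Flat A B := by
  rw [Module.Flat.iff_lTensor_preserves_injective_linearMap]
  intro N P _ _ _ _ f hf
  let g : B ⊗[A] N →ₗ[B] B ⊗[A] P := AlgebraTensorModule.lTensor B B f
  have hg : Function.Injective (LinearMap.lTensor C g) := by
    have hconj : LinearMap.lTensor C g =
        ((AlgebraTensorModule.cancelBaseChange A B C C P).symm.toLinearMap.restrictScalars B) ∘ₗ
          ((AlgebraTensorModule.lTensor C C f).restrictScalars B) ∘ₗ
          ((AlgebraTensorModule.cancelBaseChange A B C C N).toLinearMap.restrictScalars B) := by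
      ext c n
      simp [g]
    rw [hconj]
    simp only [LinearMap.coe_comp, LinearMap.coe_restrictScalars, LinearEquiv.coe_coe]
    refine (LinearEquiv.injective _).comp (Function.Injective.comp ?_ (LinearEquiv.injective _))
    exact Module.Flat.lTensor_preserves_injective_linearMap f hf
  have := (Module.FaithfullyFlat.lTensor_injective_iff_injective B C g).mp hg
  exact this

/-- If `ψ ∘ φ` is flat and `ψ` is a flat local homomorphism of local rings, then `φ` is flat. -/
theorem ringHom_flat_of_comp {A B C : Type u} [CommRing A] [CommRing B] [CommRing C]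
    [IsLocalRing B] [IsLocalRing C] (φ : A →+* B) (ψ : B →+* C) [IsLocalHom ψ]
    (hψ : ψ.Flat) (hc : (ψ.comp φ).Flat) : φ.Flat := by
  letI := φ.toAlgebra
  letI := ψ.toAlgebra
  letI := (ψ.comp φ).toAlgebra
  haveI : IsScalarTower A B C := IsScalarTower.of_algebraMap_eq' rfl
  haveI : Module.Flat B C := hψ
  haveI : Module.Flat A C := hc
  haveI : IsLocalHom (algebraMap B C) := ‹IsLocalHom ψ›
  haveI : Module.FaithfullyFlat B C := Module.FaithfullyFlat.of_flat_of_isLocalHom
  exact flat_of_faithfullyFlat_comp A B C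

variable {X S : Scheme.{u}} (f : X ⟶ S) {ι : Type*} (T : ι → Scheme.{u}) (g : ∀ i, T i ⟶ S)

include T g in
theorem surjective_of_family (hsurj : ∀ s : S, ∃ (i : ι) (t : T i), (g i) t = s)
    (h : ∀ i, Surjective (pullback.snd f (g i))) : Surjective f := by
  refine ⟨fun s => ?_⟩
  obtain ⟨i, t, rfl⟩ := hsurj s
  obtain ⟨z, rfl⟩ := (h i).surj t
  refine ⟨pullback.fst f (g i) z, ?_⟩
  have := congr($(pullback.condition (f := f) (g := g i)) z)
  simpa using this

include T g in
theorem flat_of_family (hsurj : ∀ s : S, ∃ (i : ι) (t : T i), (g i) t = s)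
    (hg : ∀ i, Flat (g i)) (h : ∀ i, Flat (pullback.snd f (g i))) : Flat f := by
  rw [Flat.iff_flat_stalkMap]
  intro x
  obtain ⟨i, t, ht⟩ := hsurj (f x)
  obtain ⟨z, hz1, hz2⟩ := Scheme.Pullback.exists_preimage_pullback x t ht.symm
  subst hz1
  haveI := hg i
  haveI := h i
  have h1 : ((pullback.fst f (g i) ≫ f).stalkMap z).hom.Flat := by
    rw [Scheme.Hom.stalkMap_congr_hom _ _ (pullback.condition (f := f) (g := g i)) z,
      Scheme.Hom.stalkMap_comp]
    simp only [CommRingCat.hom_comp]
    refine RingHom.Flat.comp ?_ (RingHom.Flat.comp ?_ ?_)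
    · exact RingHom.Flat.of_bijective
        (ConcreteCategory.bijective_of_isIso (S.presheaf.stalkCongr _).hom)
    · exact Flat.stalkMap (g i) _
    · exact Flat.stalkMap (pullback.snd f (g i)) _
  rw [Scheme.Hom.stalkMap_comp, CommRingCat.hom_comp] at h1
  have h2 : ((pullback.fst f (g i)).stalkMap z).hom.Flat :=
    Flat.stalkMap (pullback.fst f (g i)) _
  exact ringHom_flat_of_comp _ _ h2 h1

theorem preimage_image_eq (i : ι) (W : Set (T i)) :
    f.base ⁻¹' ((g i).base '' W) =
      (pullback.fst f (g i)).base '' ((pullback.snd f (g i)).base ⁻¹' W) := by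
  ext x
  constructor
  · rintro ⟨t, htW, ht⟩
    obtain ⟨z, hz1, hz2⟩ := Scheme.Pullback.exists_preimage_pullback x t ht.symm
    refine ⟨z, ?_, hz1⟩
    change (pullback.snd f (g i)) z ∈ W
    rw [hz2]; exact htW
  · rintro ⟨z, hz, rfl⟩
    refine ⟨(pullback.snd f (g i)) z, hz, ?_⟩
    have := congr($(pullback.condition (f := f) (g := g i)) z)
    exact this.symm

include T g in
theorem quasiCompact_of_family
    (hqc : ∀ U : S.Opens, IsAffineOpen U → IsCompactOpenCovered (X := fun i => ↥(T i)) (fun i => ⇑(g i)) (U : Set S))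
    (h : ∀ i, QuasiCompact (pullback.snd f (g i))) : QuasiCompact f := by
  rw [quasiCompact_iff_forall_isAffineOpen]
  intro U hU
  obtain ⟨s, hs, V, hVc, hVU⟩ := hqc U hU
  change IsCompact (f.base ⁻¹' (U : Set S))
  rw [← hVU, Set.preimage_iUnion₂, Set.biUnion_eq_iUnion]
  haveI : Finite ↥s := hs.to_subtype
  refine isCompact_iUnion fun p => ?_
  obtain ⟨i, hi⟩ := p
  haveI := h i
  have h1 : IsCompact ((pullback.fst f (g i)).base ''
      ((pullback.snd f (g i)).base ⁻¹' ((V i hi : (T i).Opens) : Set (T i)))) :=
    (QuasiCompact.isCompact_preimage (f := pullback.snd f (g i)) _ (V i hi).2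
      (hVc i hi)).image (Scheme.Hom.continuous _)
  rw [← preimage_image_eq f T g i] at h1
  exact h1

end Groth.Agent.Lib.Helper4.FpqcFamily
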