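import Mathlib
import Groth.Prelude.Def_NonAbH2

/-!
# A pseudo-torsor with a section is trivial
-/

set_option autoImplicit false
set_option linter.style.haveILetI false
set_option backward.isDefEq.respectTransparency false
universe u
open CategoryTheory MonoidalCategory CartesianMonoidalCategory MonObj GrpObj AlgebraicGeometry
open CategoryTheory.Limits

namespace Groth.Agent.Lib.Helper4.TrivTorsor

variable {S : Scheme.{u}} (G X : Over S) [GrpObj G] (a : AlgGrp.Action G X)

theorem forward (e : NonAbH1.EquivIso (NonAbH1.trivialAction G) a) :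
    NonAbH1.IsPseudoTorsorSch a ∧ NonAbH1.HasSectionOver X (𝟙 S) := by
  constructor
  · have key : lift a.act (snd G X) =
        (G ◁ e.iso.inv) ≫ lift μ[G] (snd G G) ≫ (e.iso.hom ⊗ₘ e.iso.hom) := by
      apply CartesianMonoidalCategory.hom_ext
      · have h := e.comm
        change μ[G] ≫ e.iso.hom = _ at h
        simp only [lift_fst, Category.assoc, tensorHom_fst, lift_fst_assoc]
        rw [h, ← MonoidalCategory.whiskerLeft_comp_assoc]
        simp
      · simp only [lift_snd, Category.assoc, tensorHom_snd, lift_snd_assoc]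
        rw [whiskerLeft_snd_assoc]
        simp
    have h1 : IsIso (lift μ[G] (snd G G)) := NonAbH1.isPseudoTorsorSch_trivialAction G
    change IsIso (lift a.act (snd G X))
    rw [key]
    infer_instance
  · refine ⟨(η[G] ≫ e.iso.hom).left, ?_⟩
    exact Over.w (η[G] ≫ e.iso.hom)


theorem backward (hps : NonAbH1.IsPseudoTorsorSch a) (hs : NonAbH1.HasSectionOver X (𝟙 S)) :
    Nonempty (NonAbH1.EquivIso (NonAbH1.trivialAction G) a) := by
  obtain ⟨s, hs⟩ := hs
  haveI : IsIso (lift a.act (snd G X)) := hps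
  let x₀ : 𝟙_ (Over S) ⟶ X := Over.homMk s (by simpa using hs)
  let φ : G ⟶ X := lift (𝟙 G) (toUnit G ≫ x₀) ≫ a.act
  let w : X ⟶ G ⊗ X := lift (𝟙 X) (toUnit X ≫ x₀) ≫ inv (lift a.act (snd G X))
  have hw : w ≫ lift a.act (snd G X) = lift (𝟙 X) (toUnit X ≫ x₀) := by
    change (lift (𝟙 X) (toUnit X ≫ x₀) ≫ inv (lift a.act (snd G X))) ≫ _ = _
    rw [Category.assoc, IsIso.inv_hom_id, Category.comp_id]
  have hw1 : w ≫ a.act = 𝟙 X := by
    have := congrArg (fun f => f ≫ fst X X) hw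
    simpa using this
  have hw2 : w ≫ snd G X = toUnit X ≫ x₀ := by
    have := congrArg (fun f => f ≫ snd X X) hw
    simpa using this
  let ψ : X ⟶ G := w ≫ fst G X
  have hφψ : φ ≫ ψ = 𝟙 G := by
    have h1 : φ ≫ lift (𝟙 X) (toUnit X ≫ x₀) =
        lift (𝟙 G) (toUnit G ≫ x₀) ≫ lift a.act (snd G X) := by
      apply CartesianMonoidalCategory.hom_ext
      · simp [φ]
      · simp only [Category.assoc, lift_snd]
        rw [← Category.assoc φ, toUnit_unique (φ ≫ toUnit X) (toUnit G)]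
    have h2 : φ ≫ ψ = (φ ≫ lift (𝟙 X) (toUnit X ≫ x₀)) ≫
        inv (lift a.act (snd G X)) ≫ fst G X := by
      simp only [ψ, w, Category.assoc]
    rw [h2, h1, Category.assoc, IsIso.hom_inv_id_assoc, lift_fst]
  have hψφ : ψ ≫ φ = 𝟙 X := by
    have h1 : ψ ≫ lift (𝟙 G) (toUnit G ≫ x₀) = w := by
      apply CartesianMonoidalCategory.hom_ext
      · simp [ψ]
      · simp only [Category.assoc, lift_snd]
        rw [hw2, ← Category.assoc ψ, toUnit_unique (ψ ≫ toUnit G) (toUnit X)]
    change ψ ≫ lift (𝟙 G) (toUnit G ≫ x₀) ≫ a.act = 𝟙 X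
    rw [← Category.assoc, h1, hw1]
  have hcomm : μ[G] ≫ φ = (G ◁ φ) ≫ a.act := by
    have h2 : (G ◁ a.act) ≫ a.act = (α_ G G X).inv ≫ (μ[G] ▷ X) ≫ a.act := by
      rw [a.mul_act]; simp
    have h3 : (G ◁ lift (𝟙 G) (toUnit G ≫ x₀)) ≫ (α_ G G X).inv ≫ (μ[G] ▷ X) =
        μ[G] ≫ lift (𝟙 G) (toUnit G ≫ x₀) := by
      have h4 : (G ◁ lift (𝟙 G) (toUnit G ≫ x₀)) ≫ (α_ G G X).inv ≫ fst (G ⊗ G) X =
          𝟙 (G ⊗ G) := by
        apply CartesianMonoidalCategory.hom_ext
        · simp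
        · simp
      apply CartesianMonoidalCategory.hom_ext
      · simp only [Category.assoc, whiskerRight_fst, lift_fst, Category.comp_id]
        rw [← Category.assoc, ← Category.assoc, Category.assoc _ _ (fst (G ⊗ G) X), h4,
          Category.id_comp]
      · simp only [Category.assoc, lift_snd, whiskerRight_snd]
        rw [← Category.assoc μ[G], toUnit_unique (μ[G] ≫ toUnit G) (toUnit (G ⊗ G))]
        simp
    change μ[G] ≫ lift (𝟙 G) (toUnit G ≫ x₀) ≫ a.act =
      (G ◁ (lift (𝟙 G) (toUnit G ≫ x₀) ≫ a.act)) ≫ a.act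
    rw [MonoidalCategory.whiskerLeft_comp, Category.assoc, h2, ← Category.assoc μ[G], ← h3]
    simp
  exact ⟨{ iso := ⟨φ, ψ, hφψ, hψφ⟩, comm := hcomm }⟩

end Groth.Agent.Lib.Helper4.TrivTorsor
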