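import Mathlib
import Groth.Agent.Lib.Helper4.FpqcFamily
import Groth.Agent.Lib.Helper4.TrivTorsor
import Groth.Prelude.Def_ActBC

set_option backward.isDefEq.respectTransparency false
set_option autoImplicit false
set_option linter.style.haveILetI false

/-!
# fpqc torsors: a pseudo-torsor is fpqc-locally trivial iff its structure map is fpqc
-/

universe u
open CategoryTheory CategoryTheory.Limits MonoidalCategory CartesianMonoidalCategory MonObj GrpObj
  AlgebraicGeometry

namespace Groth.Agent.Lib.Helper4.TorsorFpqc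

theorem isTorsorFor_fpqc_iff {S : Scheme.{u}}
    (G X : Over S) [GrpObj G] [Flat G.hom] [QuasiCompact G.hom] (a : AlgGrp.Action G X) :
    NonAbH1.IsTorsorFor Scheme.fpqcPrecoverage a ↔
      (NonAbH1.IsPseudoTorsorSch a ∧ Surjective X.hom ∧ Flat X.hom ∧ QuasiCompact X.hom) := by
  constructor
  · rintro ⟨hps, R, hR, hsec⟩
    refine ⟨hps, ?_⟩
    have hR' : R ∈ Scheme.propQCPrecoverage (@Flat : MorphismProperty Scheme.{u}) S := hR
    obtain ⟨𝒰, hqc, rfl⟩ := Scheme.mem_propQCPrecoverage_iff_exists_quasiCompactCover.mp hR'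
    -- surjectivity of `G.hom`
    have hGs : Surjective G.hom := by
      refine ⟨fun s => ⟨(η[G]).left s, ?_⟩⟩
      have h1 : (η[G]).left ≫ G.hom = 𝟙 S := Over.w η[G]
      have := congr($h1 s)
      rw [Scheme.Hom.comp_apply] at this
      exact this
    -- each base change of `X` is trivial
    have key : ∀ i : 𝒰.I₀, Surjective (pullback.snd X.hom (𝒰.f i)) ∧
        Flat (pullback.snd X.hom (𝒰.f i)) ∧ QuasiCompact (pullback.snd X.hom (𝒰.f i)) := by
      intro i
      obtain ⟨σ, hσ⟩ := hsec (𝒰.f i) (Presieve.ofArrows.mk i)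
      have hps' : NonAbH1.IsPseudoTorsorSch (a.bc (𝒰.f i)) :=
        NonAbH1.isPseudoTorsorSch_bc (𝒰.f i) hps
      have hsec' : NonAbH1.HasSectionOver (Red.bc (𝒰.f i) X) (𝟙 (𝒰.X i)) :=
        ⟨pullback.lift σ (𝟙 _) (by simpa using hσ), pullback.lift_snd _ _ _⟩
      obtain ⟨e⟩ := Groth.Agent.Lib.Helper4.TrivTorsor.backward _ _ (a.bc (𝒰.f i)) hps' hsec'
      have hw : (Red.bc (𝒰.f i) X).hom = e.iso.inv.left ≫ (Red.bc (𝒰.f i) G).hom :=
        (Over.w e.iso.inv).symm
      have hG : (Red.bc (𝒰.f i) G).hom = pullback.snd G.hom (𝒰.f i) := rfl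
      have hXs : (Red.bc (𝒰.f i) X).hom = pullback.snd X.hom (𝒰.f i) := rfl
      haveI : IsIso e.iso.inv.left := (Over.forget _).map_isIso e.iso.inv
      rw [← hXs, hw, hG]
      exact ⟨inferInstance, inferInstance, inferInstance⟩
    have hsurj : ∀ s : S, ∃ (i : 𝒰.I₀) (t : 𝒰.X i), (𝒰.f i) t = s := fun s => 𝒰.exists_eq s
    refine ⟨?_, ?_, ?_⟩
    · exact Groth.Agent.Lib.Helper4.FpqcFamily.surjective_of_family X.hom 𝒰.X 𝒰.f hsurj
        (fun i => (key i).1)
    · exact Groth.Agent.Lib.Helper4.FpqcFamily.flat_of_family X.hom 𝒰.X 𝒰.f hsurj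
        (fun i => 𝒰.map_prop i) (fun i => (key i).2.1)
    · exact Groth.Agent.Lib.Helper4.FpqcFamily.quasiCompact_of_family X.hom 𝒰.X 𝒰.f
        (fun U hU => hqc.isCompactOpenCovered_of_isAffineOpen hU) (fun i => (key i).2.2)
  · rintro ⟨hps, hs, hf, hq⟩
    refine ⟨hps, Presieve.singleton X.hom, ?_, ?_⟩
    · exact Scheme.Hom.singleton_mem_fpqcPrecoverage X.hom
    · rintro S' f ⟨⟩
      exact ⟨𝟙 _, Category.id_comp _⟩

end Groth.Agent.Lib.Helper4.TorsorFpqc
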