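import Mathlib
import Groth.Agent.Lib.Helper4.TorsorFpqc
import Groth.Agent.Lib.Helper4.AffineDescent

/-!
# fpqc torsors under an affine flat group scheme are affine and flat (helper4)
-/

set_option autoImplicit false
set_option linter.style.haveILetI false
set_option backward.isDefEq.respectTransparency false
universe u
open CategoryTheory MonoidalCategory CartesianMonoidalCategory MonObj GrpObj AlgebraicGeometry
open CategoryTheory.Limits

namespace Groth.Agent.Lib.Helper4.TorsorAffine

/-- For a pseudo-torsor, the second projection `X ×_S X ⟶ X` is isomorphic (over `X`) to `G ×_S X ⟶ X`. -/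
theorem snd_eq {S : Scheme.{u}} (G X : Over S) [GrpObj G] (a : AlgGrp.Action G X)
    [IsIso (lift a.act (snd G X))] :
    pullback.snd X.hom X.hom = (inv (lift a.act (snd G X))).left ≫ pullback.snd G.hom X.hom := by
  have h1 : inv (lift a.act (snd G X)) ≫ snd G X = snd X X := by
    rw [IsIso.inv_comp_eq, lift_snd]
  have := congrArg Over.Hom.left h1
  simpa using this.symm

/-- Any property of morphisms which is stable under base change and descends along fpqc morphisms passes from `G ⟶ S` to
an fpqc `G`-pseudo-torsor `X ⟶ S`. -/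
theorem prop_of_torsor {S : Scheme.{u}} (P : MorphismProperty Scheme.{u}) [P.IsStableUnderBaseChange]
    [P.RespectsIso]
    [P.DescendsAlong (@Surjective ⊓ @Flat ⊓ @QuasiCompact : MorphismProperty Scheme.{u})]
    (G X : Over S) [GrpObj G] (a : AlgGrp.Action G X) (hps : NonAbH1.IsPseudoTorsorSch a)
    [Surjective X.hom] [Flat X.hom] [QuasiCompact X.hom] (hG : P G.hom) : P X.hom := by
  haveI : IsIso (lift a.act (snd G X)) := hps
  haveI : IsIso (inv (lift a.act (snd G X))).left :=
    inferInstanceAs (IsIso ((Over.forget _).map (inv (lift a.act (snd G X)))))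
  have hP : P (pullback.snd X.hom X.hom) := by
    rw [snd_eq G X a, P.cancel_left_of_respectsIso]
    exact P.pullback_snd _ _ hG
  exact MorphismProperty.of_pullback_snd_of_descendsAlong (P := P)
    (Q := (@Surjective ⊓ @Flat ⊓ @QuasiCompact : MorphismProperty Scheme.{u}))
    (f := X.hom) (g := X.hom) ⟨⟨inferInstance, inferInstance⟩, inferInstance⟩ hP

theorem main {S : Scheme.{u}}
    (G X : Over S) [GrpObj G] [IsAffineHom G.hom] [Flat G.hom] (a : AlgGrp.Action G X)
    (h : NonAbH1.IsTorsorFor Scheme.fpqcPrecoverage a) :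
    IsAffineHom X.hom ∧ Flat X.hom := by
  haveI : QuasiCompact G.hom := inferInstance
  obtain ⟨hps, hs, hf, hq⟩ := (Groth.Agent.Lib.Helper4.TorsorFpqc.isTorsorFor_fpqc_iff G X a).mp h
  exact ⟨prop_of_torsor @IsAffineHom G X a hps inferInstance, hf⟩

end Groth.Agent.Lib.Helper4.TorsorAffine
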