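import Mathlib
import Groth.Agent.Lib.Helper4.FpqcCoverDescent
import Groth.Agent.Lib.Helper4.FlatDescends
import Groth.Agent.Lib.Helper4.AffineDescent
import Groth.Agent.Lib.Helper4.TrivTorsor
import Groth.Prelude.Def_ActBC

/-!
# fpqc torsors inherit fpqc-local properties of the group (helper4)

* `prop_of_isTorsorFor_fpqc`: if `P` is Zariski-local on the target, stable under base change and descends along fpqc
  morphisms, then `P G.hom → P X.hom` for every fpqc torsor `X` under `G` (no flatness or quasi-compactness of `G` needed).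
* `isTorsorFor_fppf_of_fpqc`: an fpqc torsor under a flat, locally finitely presented group is an fppf torsor.
-/

set_option autoImplicit false
set_option linter.style.haveILetI false
set_option backward.isDefEq.respectTransparency false
universe u
open CategoryTheory MonoidalCategory CartesianMonoidalCategory MonObj GrpObj AlgebraicGeometry
open CategoryTheory.Limits

namespace Groth.Agent.Lib.Helper4.TorsorFpqc2

theorem surjective_of_grpObj {S : Scheme.{u}} (G : Over S) [GrpObj G] : Surjective G.hom := by
  refine ⟨fun s => ⟨(η[G] : 𝟙_ (Over S) ⟶ G).left s, ?_⟩⟩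
  rw [← Scheme.Hom.comp_apply, Over.w (η[G] : 𝟙_ (Over S) ⟶ G)]
  rfl

/-- Over a member of the trivialising family, the base change of `X` is isomorphic to the base change of `G`. -/
theorem prop_pullback_snd_of_section {S : Scheme.{u}} (P : MorphismProperty Scheme.{u})
    [P.RespectsIso] [P.IsStableUnderBaseChange]
    (G X : Over S) [GrpObj G] (a : AlgGrp.Action G X) (hps : NonAbH1.IsPseudoTorsorSch a)
    {S' : Scheme.{u}} (f : S' ⟶ S) (hsec : NonAbH1.HasSectionOver X f) (hG : P G.hom) :
    P (pullback.snd X.hom f) := by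
  obtain ⟨σ, hσ⟩ := hsec
  have hps' : NonAbH1.IsPseudoTorsorSch (a.bc f) := NonAbH1.isPseudoTorsorSch_bc f hps
  have hsec' : NonAbH1.HasSectionOver (Red.bc f X) (𝟙 S') :=
    ⟨pullback.lift σ (𝟙 _) (by simpa using hσ), pullback.lift_snd _ _ _⟩
  obtain ⟨e⟩ := Groth.Agent.Lib.Helper4.TrivTorsor.backward _ _ (a.bc f) hps' hsec'
  have hw : (Red.bc f X).hom = e.iso.inv.left ≫ (Red.bc f G).hom := (Over.w e.iso.inv).symm
  have hG' : (Red.bc f G).hom = pullback.snd G.hom f := rfl
  have hXs : (Red.bc f X).hom = pullback.snd X.hom f := rfl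
  haveI : IsIso e.iso.inv.left := (Over.forget _).map_isIso e.iso.inv
  rw [← hXs, hw, hG', P.cancel_left_of_respectsIso]
  exact P.pullback_snd _ _ hG

theorem prop_of_isTorsorFor_fpqc {S : Scheme.{u}} (P : MorphismProperty Scheme.{u})
    [IsZariskiLocalAtTarget P] [P.IsStableUnderBaseChange]
    [P.DescendsAlong (@Surjective ⊓ @Flat ⊓ @QuasiCompact : MorphismProperty Scheme.{u})]
    (G X : Over S) [GrpObj G] (a : AlgGrp.Action G X)
    (h : NonAbH1.IsTorsorFor Scheme.fpqcPrecoverage a) (hG : P G.hom) : P X.hom := by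
  obtain ⟨hps, R, hR, hsec⟩ := h
  exact FpqcCoverDescent.of_fpqc_presieve P X.hom R hR
    (fun T f hf => prop_pullback_snd_of_section P G X a hps f (hsec f hf) hG)

theorem isTorsorFor_fppf_of_fpqc {S : Scheme.{u}}
    (G X : Over S) [GrpObj G] [Flat G.hom] [LocallyOfFinitePresentation G.hom] (a : AlgGrp.Action G X)
    (h : NonAbH1.IsTorsorFor Scheme.fpqcPrecoverage a) :
    NonAbH1.IsTorsorFor Scheme.fppfPrecoverage a := by
  have h1 : Flat X.hom := prop_of_isTorsorFor_fpqc @Flat G X a h inferInstance
  have h2 : LocallyOfFinitePresentation X.hom :=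
    prop_of_isTorsorFor_fpqc @LocallyOfFinitePresentation G X a h inferInstance
  have h3 : Surjective X.hom :=
    prop_of_isTorsorFor_fpqc @Surjective G X a h (surjective_of_grpObj G)
  refine ⟨h.1, Presieve.singleton X.hom, ?_, ?_⟩
  · exact Scheme.Hom.singleton_mem_fppfPrecoverage X.hom
  · rintro S' f ⟨⟩
    exact ⟨𝟙 _, Category.id_comp _⟩

end Groth.Agent.Lib.Helper4.TorsorFpqc2
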