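import Mathlib

/-!
# A locally trivial action has an invertible shear map after base change (helper4)

In a cartesian monoidal category, let `G` be a group object acting on `X` through `act`, and let `e : G ⊗ Y ≅ X ⊗ Y` be an
isomorphism over `Y` which is equivariant (for left translation on `G ⊗ Y`).  Then the shear map
`(g, x) ↦ (g • x, x)` becomes an isomorphism after `- ⊗ Y`.  (No action axioms are needed.)
-/

set_option autoImplicit false
universe v u
open CategoryTheory MonoidalCategory CartesianMonoidalCategory MonObj GrpObj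

namespace Groth.Agent.Lib.Helper4.ShearIso

variable {C : Type u} [Category.{v} C] [CartesianMonoidalCategory C] {G X Y : C} [GrpObj G]

theorem isIso_shear_whiskerRight (act : G ⊗ X ⟶ X) (e : G ⊗ Y ≅ X ⊗ Y)
    (h1 : e.hom ≫ snd X Y = snd G Y)
    (h2 : (G ◁ e.hom) ≫ (α_ G X Y).inv ≫ (act ▷ Y) = (α_ G G Y).inv ≫ (μ[G] ▷ Y) ≫ e.hom) :
    IsIso ((lift act (snd G X)) ▷ Y) := by
  -- points form of equivariance
  have hpt : ∀ {T : C} (g h : T ⟶ G) (y : T ⟶ Y),
      lift (g * h) y ≫ e.hom ≫ fst X Y = lift g (lift h y ≫ e.hom ≫ fst X Y) ≫ act := by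
    intro T g h y
    have := congrArg (fun k => lift g (lift h y) ≫ k ≫ fst X Y) h2
    simp only [Category.assoc] at this
    simp at this
    have hα : (α_ G X Y).inv ≫ fst (G ⊗ X) Y = G ◁ fst X Y := by
      apply CartesianMonoidalCategory.hom_ext <;> simp
    rw [← Category.assoc (α_ G X Y).inv, hα] at this
    rw [Hom.mul_def, ← this]
    simp
  -- e is over Y
  have h1' : e.inv ≫ snd G Y = snd X Y := by
    rw [← h1, Iso.inv_hom_id_assoc]
  -- recover a point of X × Y from a point of G × Y
  have hrec : ∀ {T : C} (x : T ⟶ X) (y : T ⟶ Y),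
      lift (lift x y ≫ e.inv ≫ fst G Y) y ≫ e.hom = lift x y := by
    intro T x y
    have : lift (lift x y ≫ e.inv ≫ fst G Y) y = lift x y ≫ e.inv := by
      apply CartesianMonoidalCategory.hom_ext
      · simp
      · simp [h1']
    rw [this, Category.assoc, Iso.inv_hom_id, Category.comp_id]
  have hinj : ∀ {T : C} (g g' : T ⟶ G) (y : T ⟶ Y),
      lift g y ≫ e.hom ≫ fst X Y = lift g' y ≫ e.hom ≫ fst X Y → g = g' := by
    intro T g g' y hgg
    have : lift g y ≫ e.hom = lift g' y ≫ e.hom := by
      apply CartesianMonoidalCategory.hom_ext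
      · simpa using hgg
      · simp [h1]
    have h3 : lift g y = lift g' y := by
      have := congrArg (fun k => k ≫ e.inv) this
      simpa using this
    have := congrArg (fun k => k ≫ fst G Y) h3
    simpa using this
  apply isIso_of_yoneda_map_bijective
  intro T
  constructor
  · intro p p' hpp
    dsimp only at hpp
    have hy : p ≫ snd _ Y = p' ≫ snd _ Y := by
      have := congrArg (fun k => k ≫ snd _ Y) hpp
      simpa using this
    have hx : p ≫ fst _ Y ≫ snd G X = p' ≫ fst _ Y ≫ snd G X := by
      have := congrArg (fun k => k ≫ fst _ Y ≫ snd X X) hpp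
      simpa using this
    have hgx : lift (p ≫ fst _ Y ≫ fst G X) (p ≫ fst _ Y ≫ snd G X) ≫ act =
        lift (p' ≫ fst _ Y ≫ fst G X) (p' ≫ fst _ Y ≫ snd G X) ≫ act := by
      have := congrArg (fun k => k ≫ fst _ Y ≫ fst X X) hpp
      simp only [Category.assoc, whiskerRight_fst_assoc, lift_fst] at this
      have e1 : ∀ q : T ⟶ (G ⊗ X) ⊗ Y, lift (q ≫ fst _ Y ≫ fst G X) (q ≫ fst _ Y ≫ snd G X) =
          q ≫ fst _ Y := by
        intro q
        apply CartesianMonoidalCategory.hom_ext <;> simp
      rw [e1, e1]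
      simpa using this
    set g := p ≫ fst _ Y ≫ fst G X with hg
    set g' := p' ≫ fst _ Y ≫ fst G X with hg'
    set x := p ≫ fst _ Y ≫ snd G X with hx0
    set y := p ≫ snd _ Y with hy0
    rw [← hx] at hgx
    set h := lift x y ≫ e.inv ≫ fst G Y with hh
    have hxe : x = lift h y ≫ e.hom ≫ fst X Y := by
      rw [← Category.assoc, hrec, lift_fst]
    have hgg : g = g' := by
      have h5 : lift (g * h) y ≫ e.hom ≫ fst X Y = lift (g' * h) y ≫ e.hom ≫ fst X Y := by
        rw [hpt, hpt, ← hxe]
        exact hgx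
      exact mul_right_cancel (hinj _ _ _ h5)
    apply CartesianMonoidalCategory.hom_ext
    · apply CartesianMonoidalCategory.hom_ext
      · simpa [g, g'] using hgg
      · simpa using hx
    · exact hy
  · intro q
    set x' := q ≫ fst _ Y ≫ fst X X with hx'
    set x := q ≫ fst _ Y ≫ snd X X with hx
    set y := q ≫ snd _ Y with hy
    set h := lift x y ≫ e.inv ≫ fst G Y with hh
    set h' := lift x' y ≫ e.inv ≫ fst G Y with hh'
    have hxe : x = lift h y ≫ e.hom ≫ fst X Y := by
      rw [← Category.assoc, hrec, lift_fst]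
    have hxe' : x' = lift h' y ≫ e.hom ≫ fst X Y := by
      rw [← Category.assoc, hrec, lift_fst]
    refine ⟨lift (lift (h' * h⁻¹) x) y, ?_⟩
    dsimp only
    apply CartesianMonoidalCategory.hom_ext
    · apply CartesianMonoidalCategory.hom_ext
      · simp only [Category.assoc, whiskerRight_fst_assoc, lift_fst, lift_fst_assoc]
        rw [hxe, ← hpt, inv_mul_cancel_right, ← hxe']
      · simp [x]
    · simp [y]

end Groth.Agent.Lib.Helper4.ShearIso
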