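import Mathlib
import Groth.Agent.Lib.Helper4.ExactH1
import Groth.Agent.Lib.Helper4.ShearIso

/-!
# Pseudo-torsors with a point: abstract isomorphism criteria (helper4)

In a cartesian monoidal category, for a pseudo-torsor `X` under `G` and a `T`-point `s` of `X`:
* `isIso_orbit_whisker`: `(g, t) ↦ (g • s(t), t)` is an isomorphism `G ⊗ T ≅ X ⊗ T`;
* `isIso_whiskerRight_of_equivariant_of_point`: an equivariant morphism `f : X ⟶ X'` of pseudo-torsors becomes an isomorphism
  after `- ⊗ T`;
* `isIso_shear_whiskerRight_of_orbit`: conversely, if `(g, t) ↦ (g • s(t), t)` is an isomorphism then the shear map of `X`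
  becomes an isomorphism after `- ⊗ T`.
-/

set_option autoImplicit false
set_option linter.unusedSectionVars false
universe v u
open CategoryTheory MonoidalCategory CartesianMonoidalCategory MonObj GrpObj

namespace Groth.Agent.Lib.Helper4.ShearIso

variable {C : Type u} [Category.{v} C] [CartesianMonoidalCategory C] {G X X' T : C} [GrpObj G]

open ExactH1

theorem comp_orbit_whisker (a : G ⊗ X ⟶ X) (s : T ⟶ X) {W : C} (w : W ⟶ G ⊗ T) :
    w ≫ lift ((G ◁ s) ≫ a) (snd G T) =
      lift (lift (w ≫ fst G T) ((w ≫ snd G T) ≫ s) ≫ a) (w ≫ snd G T) := by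
  apply CartesianMonoidalCategory.hom_ext
  · simp only [Category.assoc, lift_fst]
    rw [← Category.assoc, ← Category.assoc]
    congr 1
    apply CartesianMonoidalCategory.hom_ext <;> simp
  · simp

theorem isIso_orbit_whisker (a : G ⊗ X ⟶ X) [IsIso (lift a (snd G X))] (s : T ⟶ X) :
    IsIso (lift ((G ◁ s) ≫ a) (snd G T)) := by
  apply isIso_of_yoneda_map_bijective
  intro W
  constructor
  · intro w w' hww
    dsimp only at hww
    rw [comp_orbit_whisker, comp_orbit_whisker] at hww
    have ht : w ≫ snd G T = w' ≫ snd G T := by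
      have := congrArg (fun k => k ≫ snd X T) hww
      simpa using this
    have hx : lift (w ≫ fst G T) ((w ≫ snd G T) ≫ s) ≫ a =
        lift (w' ≫ fst G T) ((w ≫ snd G T) ≫ s) ≫ a := by
      have := congrArg (fun k => k ≫ fst X T) hww
      simpa [ht] using this
    obtain ⟨g₀, _, huniq⟩ := existsUnique_act a
      (lift (w ≫ fst G T) ((w ≫ snd G T) ≫ s) ≫ a) ((w ≫ snd G T) ≫ s)
    have hg : w ≫ fst G T = w' ≫ fst G T := by rw [huniq _ rfl, huniq _ hx.symm]
    apply CartesianMonoidalCategory.hom_ext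
    · exact hg
    · exact ht
  · intro y
    obtain ⟨g, hg, -⟩ := existsUnique_act a (y ≫ fst X T) ((y ≫ snd X T) ≫ s)
    refine ⟨lift g (y ≫ snd X T), ?_⟩
    dsimp only
    rw [comp_orbit_whisker]
    apply CartesianMonoidalCategory.hom_ext
    · simp only [lift_fst, lift_snd]
      exact hg
    · simp

theorem isIso_whiskerRight_of_equivariant_of_point (a : G ⊗ X ⟶ X) (a' : G ⊗ X' ⟶ X')
    [IsIso (lift a (snd G X))] [IsIso (lift a' (snd G X'))]
    (f : X ⟶ X') (hf : (G ◁ f) ≫ a' = a ≫ f) (s : T ⟶ X) : IsIso (f ▷ T) := by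
  have hfpt : ∀ {W : C} (g : W ⟶ G) (x : W ⟶ X), (lift g x ≫ a) ≫ f = lift g (x ≫ f) ≫ a' := by
    intro W g x
    rw [Category.assoc, ← hf, ← Category.assoc]
    congr 1
    apply CartesianMonoidalCategory.hom_ext <;> simp
  apply isIso_of_yoneda_map_bijective
  intro W
  constructor
  · intro w w' hww
    dsimp only at hww
    have ht : w ≫ snd X T = w' ≫ snd X T := by
      have := congrArg (fun k => k ≫ snd X' T) hww
      simpa using this
    have hx : (w ≫ fst X T) ≫ f = (w' ≫ fst X T) ≫ f := by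
      have := congrArg (fun k => k ≫ fst X' T) hww
      simpa using this
    obtain ⟨g, hg, -⟩ := existsUnique_act a (w ≫ fst X T) ((w ≫ snd X T) ≫ s)
    obtain ⟨g', hg', -⟩ := existsUnique_act a (w' ≫ fst X T) ((w ≫ snd X T) ≫ s)
    rw [← hg, ← hg', hfpt, hfpt] at hx
    obtain ⟨g₀, _, huniq⟩ := existsUnique_act a'
      (lift g (((w ≫ snd X T) ≫ s) ≫ f) ≫ a') (((w ≫ snd X T) ≫ s) ≫ f)
    have hgg : g = g' := by rw [huniq _ rfl, huniq _ hx.symm]
    apply CartesianMonoidalCategory.hom_ext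
    · rw [← hg, ← hg', hgg]
    · exact ht
  · intro y
    obtain ⟨g, hg, -⟩ := existsUnique_act a' (y ≫ fst X' T) (((y ≫ snd X' T) ≫ s) ≫ f)
    refine ⟨lift (lift g ((y ≫ snd X' T) ≫ s) ≫ a) (y ≫ snd X' T), ?_⟩
    dsimp only
    apply CartesianMonoidalCategory.hom_ext
    · simp only [Category.assoc, whiskerRight_fst, lift_fst_assoc]
      rw [← Category.assoc, hfpt]
      simpa only [Category.assoc] using hg
    · simp

theorem isIso_shear_whiskerRight_of_orbit (a : G ⊗ X ⟶ X)
    (hmul : (μ[G] ▷ X) ≫ a = (α_ G G X).hom ≫ (G ◁ a) ≫ a) (s : T ⟶ X)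
    [IsIso (lift ((G ◁ s) ≫ a) (snd G T))] : IsIso ((lift a (snd G X)) ▷ T) := by
  refine isIso_shear_whiskerRight a (asIso (lift ((G ◁ s) ≫ a) (snd G T))) (by simp) ?_
  simp only [asIso_hom]
  apply CartesianMonoidalCategory.hom_ext
  · have hα : (α_ G X T).inv ≫ fst (G ⊗ X) T = G ◁ fst X T := by
      apply CartesianMonoidalCategory.hom_ext <;> simp
    have h1 : (α_ G G T).inv ≫ (μ[G] ▷ T) ≫ (G ◁ s) = (G ◁ (G ◁ s)) ≫ (α_ G G X).inv ≫ (μ[G] ▷ X) := by
      apply CartesianMonoidalCategory.hom_ext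
      · simp only [Category.assoc, whiskerLeft_fst, whiskerRight_fst]
        rw [← Category.assoc, ← Category.assoc, ← Category.assoc]
        congr 1
        apply CartesianMonoidalCategory.hom_ext <;> simp
      · simp
    have h2 : (α_ G G X).inv ≫ (μ[G] ▷ X) ≫ a = (G ◁ a) ≫ a := by
      rw [hmul]; simp
    simp only [Category.assoc, whiskerRight_fst, lift_fst]
    rw [← Category.assoc (α_ G X T).inv, hα, ← Category.assoc (G ◁ _), ← MonoidalCategory.whiskerLeft_comp,
      lift_fst, MonoidalCategory.whiskerLeft_comp, Category.assoc, ← h2]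
    rw [show (α_ G G T).inv ≫ μ[G] ▷ T ≫ G ◁ s ≫ a = ((α_ G G T).inv ≫ μ[G] ▷ T ≫ G ◁ s) ≫ a by
      simp only [Category.assoc], h1]
    simp only [Category.assoc]
  · simp

end Groth.Agent.Lib.Helper4.ShearIso
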