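import Mathlib
import Groth.Agent.Lib.Helper4.TorsorFpqc2
import Groth.Agent.Lib.Helper4.SubmDescent
import Groth.Agent.Lib.Helper4.ShearIso2

/-!
# More on fpqc torsors: permanence of properties, equivariant morphisms are isomorphisms (helper4)
-/

set_option autoImplicit false
set_option linter.style.haveILetI false
set_option backward.isDefEq.respectTransparency false
universe u
open CategoryTheory MonoidalCategory CartesianMonoidalCategory MonObj GrpObj AlgebraicGeometry
open CategoryTheory.Limits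

namespace Groth.Agent.Lib.Helper4.TorsorFpqc3

instance quasiCompact_descendsAlong_fpqc :
    MorphismProperty.DescendsAlong @QuasiCompact
      (@Surjective ⊓ @Flat ⊓ @QuasiCompact : MorphismProperty Scheme.{u}) :=
  MorphismProperty.DescendsAlong.of_le
    (Q := (@Surjective ⊓ @QuasiCompact : MorphismProperty Scheme.{u}))
    (fun _ _ _ h => ⟨h.1.1, h.2⟩)

theorem props_of_isTorsorFor_fpqc {S : Scheme.{u}} {G X : Over S} [GrpObj G]
    (a : AlgGrp.Action G X) (ha : NonAbH1.IsTorsorFor Scheme.fpqcPrecoverage a) :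
    (LocallyOfFiniteType G.hom → LocallyOfFiniteType X.hom) ∧ (QuasiCompact G.hom → QuasiCompact X.hom) ∧
      (IsFinite G.hom → IsFinite X.hom) ∧ (Smooth G.hom → Smooth X.hom) ∧ (Etale G.hom → Etale X.hom) :=
  ⟨fun h => TorsorFpqc2.prop_of_isTorsorFor_fpqc @LocallyOfFiniteType G X a ha h,
   fun h => TorsorFpqc2.prop_of_isTorsorFor_fpqc @QuasiCompact G X a ha h,
   fun h => TorsorFpqc2.prop_of_isTorsorFor_fpqc @IsFinite G X a ha h,
   fun h => TorsorFpqc2.prop_of_isTorsorFor_fpqc @Smooth G X a ha h,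
   fun h => TorsorFpqc2.prop_of_isTorsorFor_fpqc @Etale G X a ha h⟩

/-- Descent of isomorphisms in `Over S` along an fpqc covering family of `S`. -/
theorem isIso_of_isIso_whiskerRight_family {S : Scheme.{u}} {A B : Over S} (h : A ⟶ B)
    (R : Presieve S) (hR : R ∈ Scheme.fpqcPrecoverage S)
    (hiso : ∀ ⦃T : Scheme.{u}⦄ (t : T ⟶ S), R t → IsIso (h ▷ Over.mk t)) : IsIso h := by
  obtain ⟨𝒰, rfl⟩ := R.exists_eq_preZeroHypercover
  have hf' : Presieve.ofArrows (fun i => pullback B.hom (𝒰.f i)) (fun i => pullback.fst B.hom (𝒰.f i)) ∈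
      Scheme.fpqcPrecoverage B.left :=
    Precoverage.mem_coverings_of_isPullback 𝒰.f hR B.hom _ (fun i => pullback.snd B.hom (𝒰.f i))
      (fun i => IsPullback.of_hasPullback B.hom (𝒰.f i))
  have key : MorphismProperty.isomorphisms Scheme.{u} h.left := by
    refine FpqcCoverDescent.of_fpqc_presieve (MorphismProperty.isomorphisms Scheme.{u}) h.left _ hf' ?_
    rintro T' g ⟨i⟩
    haveI := hiso (𝒰.f i) (Presieve.ofArrows.mk i)
    let Y : Over S := Over.mk (𝒰.f i)
    have hisoL : IsIso (h ▷ Y).left := inferInstanceAs (IsIso ((Over.forget _).map (h ▷ Y)))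
    have e1 : (h ▷ Y).left ≫ pullback.snd B.hom Y.hom = pullback.snd A.hom Y.hom := by simp
    have e2 : (h ▷ Y).left ≫ pullback.fst B.hom Y.hom = pullback.fst A.hom Y.hom ≫ h.left := by simp
    have hpb : IsPullback (h ▷ Y).left (pullback.fst A.hom Y.hom) (pullback.fst B.hom Y.hom) h.left := by
      refine IsPullback.of_right (h₁₂ := pullback.snd B.hom Y.hom) (h₂₂ := B.hom) (v₁₃ := Y.hom) ?_ e2
        (IsPullback.of_hasPullback B.hom Y.hom).flip
      · have e3 : h.left ≫ B.hom = A.hom := Over.w h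
        rw [e1, e3]
        exact (IsPullback.of_hasPullback A.hom Y.hom).flip
    exact FpqcCoverDescent.of_isPullback_iso (MorphismProperty.isomorphisms Scheme.{u}) hpb.flip
      (IsPullback.of_hasPullback h.left (pullback.fst B.hom Y.hom)) hisoL
  haveI : IsIso ((Over.forget S).map h) := key
  exact isIso_of_reflects_iso h (Over.forget S)

/-- S18858: an equivariant morphism of fpqc torsors is an isomorphism. -/
theorem isIso_of_isEquivariant {S : Scheme.{u}} {G X X' : Over S} [GrpObj G]
    (a : AlgGrp.Action G X) (a' : AlgGrp.Action G X')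
    (ha : NonAbH1.IsTorsorFor Scheme.fpqcPrecoverage a)
    (ha' : NonAbH1.IsTorsorFor Scheme.fpqcPrecoverage a')
    (f : X ⟶ X') (hf : AlgGrp.Action.IsEquivariant a a' f) : IsIso f := by
  obtain ⟨hps, R, hR, hsec⟩ := ha
  haveI : IsIso (lift a.act (snd G X)) := hps
  haveI : IsIso (lift a'.act (snd G X')) := ha'.1
  refine isIso_of_isIso_whiskerRight_family f R hR (fun T t ht => ?_)
  obtain ⟨σ, hσ⟩ := hsec t ht
  let s : Over.mk t ⟶ X := Over.homMk σ hσ
  exact ShearIso.isIso_whiskerRight_of_equivariant_of_point a.act a'.act f hf.symm s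

/-- S14445: a `G`-scheme is an fpqc torsor iff it is equivariantly trivial over the members of an fpqc covering family. -/
theorem isTorsorFor_fpqc_iff_locally_trivial {S : Scheme.{u}} {G X : Over S} [GrpObj G]
    (a : AlgGrp.Action G X) :
    NonAbH1.IsTorsorFor Scheme.fpqcPrecoverage a ↔
      ∃ R ∈ Scheme.fpqcPrecoverage S, ∀ ⦃S' : Scheme.{u}⦄ (f : S' ⟶ S), R f →
        ∃ s : Over.mk f ⟶ X, IsIso (lift ((G ◁ s) ≫ a.act) (snd G (Over.mk f))) := by
  constructor
  · rintro ⟨hps, R, hR, hsec⟩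
    haveI : IsIso (lift a.act (snd G X)) := hps
    refine ⟨R, hR, fun S' f hf => ?_⟩
    obtain ⟨σ, hσ⟩ := hsec f hf
    exact ⟨Over.homMk σ hσ, ShearIso.isIso_orbit_whisker a.act _⟩
  · rintro ⟨R, hR, h⟩
    refine ⟨?_, R, hR, fun S' f hf => ?_⟩
    · refine isIso_of_isIso_whiskerRight_family (lift a.act (snd G X)) R hR (fun T t ht => ?_)
      obtain ⟨s, hs⟩ := h t ht
      exact ShearIso.isIso_shear_whiskerRight_of_orbit a.act a.mul_act s
    · obtain ⟨s, -⟩ := h f hf
      exact ⟨s.left, Over.w s⟩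

end Groth.Agent.Lib.Helper4.TorsorFpqc3
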