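import Mathlib
set_option backward.isDefEq.respectTransparency false
set_option backward.isDefEq.respectTransparency.types false
set_option autoImplicit false
set_option linter.style.haveILetI false

open AlgebraicGeometry CategoryTheory

universe u

namespace Groth.Agent.Lib.helper4.FiniteTypeZ

theorem int_isJacobsonRing : IsJacobsonRing ℤ := by
  rw [isJacobsonRing_iff_prime_eq]
  intro P hP
  by_cases hbot : P = ⊥
  · subst hbot
    rw [eq_bot_iff]
    intro x hx
    rw [Ideal.mem_jacobson_bot] at hx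
    have h := hx x
    rw [Int.isUnit_iff] at h
    rw [Ideal.mem_bot]
    rcases h with h | h
    · have : x * x = 0 := by linarith
      exact mul_self_eq_zero.mp this
    · nlinarith [mul_self_nonneg x]
  · haveI : P.IsMaximal := hP.isMaximal hbot
    exact Ideal.jacobson_eq_self_of_isMaximal

/-- A field which is a finitely generated ring is finite. -/
theorem finite_of_field_finiteType_int (K : Type*) [Field K] [Algebra.FiniteType ℤ K] :
    Finite K := by
  haveI := int_isJacobsonRing
  haveI : Module.Finite ℤ K := finite_of_finite_type_of_isJacobsonRing ℤ K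
  haveI : Algebra.IsIntegral ℤ K := inferInstance
  -- the characteristic is positive
  obtain ⟨p, hp⟩ := CharP.exists K
  have hp0 : p ≠ 0 := by
    rintro rfl
    haveI : CharZero K := CharP.charP_to_charZero K
    have hinj : Function.Injective (algebraMap ℤ K) := (algebraMap ℤ K).injective_int
    exact Int.not_isField (isField_of_isIntegral_of_isField hinj (Field.toIsField K))
  haveI : Fact p.Prime := ⟨(CharP.char_is_prime_or_zero K p).resolve_right hp0⟩
  letI : Algebra (ZMod p) K := ZMod.algebra K p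
  haveI : Module.Finite (ZMod p) K := Module.Finite.of_restrictScalars_finite ℤ (ZMod p) K
  exact Module.finite_of_finite (ZMod p)

theorem finite_ringHom_of_finiteType (A F : Type*) [CommRing A] [Algebra.FiniteType ℤ A]
    [CommRing F] [Finite F] : Finite (A →+* F) := by
  obtain ⟨s, hs⟩ := (Algebra.FiniteType.out : (⊤ : Subalgebra ℤ A).FG)
  let r : (A →+* F) → (s → F) := fun φ x => φ x.1
  refine Finite.of_injective r ?_
  intro φ ψ h
  have h1 : (φ.toIntAlgHom : A →ₐ[ℤ] F) = ψ.toIntAlgHom := by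
    apply AlgHom.ext_of_adjoin_eq_top hs
    intro x hx
    exact congrFun h ⟨x, hx⟩
  ext a
  exact congrArg (fun f : A →ₐ[ℤ] F => f a) h1


open Limits

instance : IsJacobsonRing (ULift.{u} ℤ) := by
  haveI := int_isJacobsonRing
  exact isJacobsonRing_of_surjective
    ⟨(ULift.ringEquiv.symm : ℤ ≃+* ULift.{u} ℤ).toRingHom, ULift.ringEquiv.symm.surjective⟩

variable (Y : Scheme.{u}) [LocallyOfFiniteType (IsTerminal.from specULiftZIsTerminal Y)]

include Y in
theorem jacobsonSpace_of_finiteType_int : JacobsonSpace Y :=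
  LocallyOfFiniteType.jacobsonSpace (IsTerminal.from specULiftZIsTerminal Y)

theorem finiteType_int_of_isAffineOpen {U : Y.Opens} (hU : IsAffineOpen U) :
    Algebra.FiniteType ℤ Γ(Y, U) := by
  have h1 : ((IsTerminal.from specULiftZIsTerminal Y).appLE ⊤ U le_top).hom.FiniteType :=
    LocallyOfFiniteType.finiteType_appLE (IsTerminal.from specULiftZIsTerminal Y)
      (isAffineOpen_top _) hU le_top
  have h2 : ((Scheme.ΓSpecIso (CommRingCat.of (ULift.{u} ℤ))).inv.hom).FiniteType :=
    RingHom.FiniteType.of_surjective _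
      (ConcreteCategory.bijective_of_isIso (Scheme.ΓSpecIso (CommRingCat.of (ULift.{u} ℤ))).inv).2
  have h3 : ((ULift.ringEquiv.symm : ℤ ≃+* ULift.{u} ℤ).toRingHom).FiniteType :=
    RingHom.FiniteType.of_surjective _ ULift.ringEquiv.symm.surjective
  have h4 := (h1.comp h2).comp h3
  have h5 : (((IsTerminal.from specULiftZIsTerminal Y).appLE ⊤ U le_top).hom.comp
      ((Scheme.ΓSpecIso (CommRingCat.of (ULift.{u} ℤ))).inv.hom)).comp
      ((ULift.ringEquiv.symm : ℤ ≃+* ULift.{u} ℤ).toRingHom) = algebraMap ℤ Γ(Y, U) :=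
    Subsingleton.elim _ _
  rw [h5, RingHom.finiteType_algebraMap] at h4
  exact h4


omit [LocallyOfFiniteType (IsTerminal.from specULiftZIsTerminal Y)] in
theorem mem_primeIdealOf_iff {U : Y.Opens} (hU : IsAffineOpen U) (y : Y) (hy : y ∈ U)
    (a : Γ(Y, U)) :
    a ∈ (hU.primeIdealOf ⟨y, hy⟩).asIdeal ↔ Y.evaluation U y hy a = 0 := by
  haveI := hU.isLocalization_stalk ⟨y, hy⟩
  letI := TopCat.Presheaf.algebra_section_stalk Y.presheaf (⟨y, hy⟩ : U)
  have h1 : Y.evaluation U y hy a =
      IsLocalRing.residue (Y.presheaf.stalk y) (algebraMap Γ(Y, U) (Y.presheaf.stalk y) a) := rfl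
  rw [h1, IsLocalRing.residue_eq_zero_iff,
    IsLocalization.AtPrime.to_map_mem_maximal_iff (Y.presheaf.stalk y)
      (hU.primeIdealOf ⟨y, hy⟩).asIdeal]

omit [LocallyOfFiniteType (IsTerminal.from specULiftZIsTerminal Y)] in
theorem ker_evaluation {U : Y.Opens} (hU : IsAffineOpen U) (y : Y) (hy : y ∈ U) :
    RingHom.ker (Y.evaluation U y hy).hom = (hU.primeIdealOf ⟨y, hy⟩).asIdeal := by
  ext a
  rw [RingHom.mem_ker, mem_primeIdealOf_iff]

omit [LocallyOfFiniteType (IsTerminal.from specULiftZIsTerminal Y)] in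
theorem evaluation_surjective_of_isMaximal {U : Y.Opens} (hU : IsAffineOpen U) (y : Y)
    (hy : y ∈ U) (hmax : (hU.primeIdealOf ⟨y, hy⟩).asIdeal.IsMaximal) :
    Function.Surjective (Y.evaluation U y hy) := by
  haveI := hU.isLocalization_stalk ⟨y, hy⟩
  letI := TopCat.Presheaf.algebra_section_stalk Y.presheaf (⟨y, hy⟩ : U)
  intro z
  obtain ⟨w, rfl⟩ := (IsLocalization.AtPrime.equivQuotMaximalIdeal
    (hU.primeIdealOf ⟨y, hy⟩).asIdeal (Y.presheaf.stalk y)).surjective z
  obtain ⟨a, rfl⟩ := Ideal.Quotient.mk_surjective w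
  exact ⟨a, rfl⟩


theorem isClosed_singleton_iff_finite_residueField (y : Y) :
    IsClosed ({y} : Set Y) ↔ Finite ↑(Y.residueField y) := by
  obtain ⟨_, ⟨U, hU, rfl⟩, hyU, -⟩ :=
    (Y.isBasis_affineOpens).exists_subset_of_mem_open (Set.mem_univ y) isOpen_univ
  haveI hft : Algebra.FiniteType ℤ Γ(Y, U) := finiteType_int_of_isAffineOpen Y hU
  have hpre : hU.fromSpec ⁻¹' {y} = {hU.primeIdealOf ⟨y, hyU⟩} := by
    ext P
    simp only [Set.mem_preimage, Set.mem_singleton_iff]
    constructor
    · intro h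
      apply hU.fromSpec.isOpenEmbedding.injective
      rw [h, hU.fromSpec_primeIdealOf]
    · rintro rfl
      exact hU.fromSpec_primeIdealOf ⟨y, hyU⟩
  constructor
  · intro hcl
    have h1 : IsClosed ({hU.primeIdealOf ⟨y, hyU⟩} : Set (PrimeSpectrum Γ(Y, U))) := by
      rw [← hpre]
      exact hcl.preimage hU.fromSpec.continuous
    have hmax := (PrimeSpectrum.isClosed_singleton_iff_isMaximal _).mp h1
    have hsurj := evaluation_surjective_of_isMaximal Y hU y hyU hmax
    haveI : Algebra.FiniteType ℤ ↑(Y.residueField y) :=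
      Algebra.FiniteType.of_surjective (Y.evaluation U y hyU).hom.toIntAlgHom hsurj
    exact finite_of_field_finiteType_int _
  · intro hfin
    haveI := jacobsonSpace_of_finiteType_int Y
    apply isClosed_singleton_of_isLocallyClosed_singleton
    -- the prime is maximal
    have hker := ker_evaluation Y hU y hyU
    let P := (hU.primeIdealOf ⟨y, hyU⟩).asIdeal
    haveI : P.IsPrime := (hU.primeIdealOf ⟨y, hyU⟩).isPrime
    have hinj : Function.Injective
        (Ideal.Quotient.lift P (Y.evaluation U y hyU).hom (fun a ha => by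
          rw [← RingHom.mem_ker, hker]; exact ha)) := by
      rw [injective_iff_map_eq_zero]
      intro w hw
      obtain ⟨a, rfl⟩ := Ideal.Quotient.mk_surjective w
      rw [Ideal.Quotient.lift_mk] at hw
      rw [Ideal.Quotient.eq_zero_iff_mem]
      show a ∈ (hU.primeIdealOf ⟨y, hyU⟩).asIdeal
      rw [← hker]
      exact hw
    haveI : Finite (Γ(Y, U) ⧸ P) := Finite.of_injective _ hinj
    have hfield : IsField (Γ(Y, U) ⧸ P) := Finite.isField_of_domain _
    have hmax : P.IsMaximal := Ideal.Quotient.maximal_of_isField P hfield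
    have h1 : IsClosed ({hU.primeIdealOf ⟨y, hyU⟩} : Set (PrimeSpectrum Γ(Y, U))) :=
      (PrimeSpectrum.isClosed_singleton_iff_isMaximal _).mpr hmax
    have h2 : ({y} : Set Y) = hU.fromSpec '' {hU.primeIdealOf ⟨y, hyU⟩} := by
      rw [Set.image_singleton, hU.fromSpec_primeIdealOf]
    rw [h2]
    exact h1.isLocallyClosed.image hU.fromSpec.isOpenEmbedding.isInducing
      hU.fromSpec.isOpenEmbedding.isOpen_range.isLocallyClosed


theorem finite_setOf_hom_finite_field [CompactSpace Y] (F : Type*) [Field F] [Finite F] :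
    {y : Y | Nonempty (↑(Y.residueField y) →+* F)}.Finite := by
  classical
  -- finite affine cover
  have hcov : (Set.univ : Set Y) ⊆ ⋃ U : Y.affineOpens, ((U : Y.Opens) : Set Y) := by
    intro y _
    obtain ⟨_, ⟨U, hU, rfl⟩, hyU, -⟩ :=
      (Y.isBasis_affineOpens).exists_subset_of_mem_open (Set.mem_univ y) isOpen_univ
    exact Set.mem_iUnion.mpr ⟨⟨U, hU⟩, hyU⟩
  obtain ⟨t, ht⟩ := isCompact_univ.elim_finite_subcover
    (fun U : Y.affineOpens => ((U : Y.Opens) : Set Y)) (fun U => (U : Y.Opens).2) hcov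
  -- for each affine open, the candidate set
  let S : Y.affineOpens → Set Y := fun U =>
    ⋃ φ : Γ(Y, (U : Y.Opens)) →+* F,
      {y | ∃ h : (RingHom.ker φ).IsPrime, U.2.fromSpec ⟨RingHom.ker φ, h⟩ = y}
  have hS : ∀ U : Y.affineOpens, (S U).Finite := by
    intro U
    haveI : Algebra.FiniteType ℤ Γ(Y, (U : Y.Opens)) := finiteType_int_of_isAffineOpen Y U.2
    haveI : Finite (Γ(Y, (U : Y.Opens)) →+* F) := finite_ringHom_of_finiteType _ _
    refine Set.finite_iUnion fun φ => Set.Subsingleton.finite ?_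
    rintro y₁ ⟨h₁, rfl⟩ y₂ ⟨h₂, rfl⟩
    rfl
  refine (Set.Finite.biUnion t.finite_toSet (fun U _ => hS U)).subset ?_
  rintro y ⟨ψ⟩
  obtain ⟨U, hUt, hyU⟩ : ∃ U ∈ t, y ∈ ((U : Y.Opens) : Set Y) := by
    have := ht (Set.mem_univ y)
    simpa using this
  refine Set.mem_biUnion hUt ?_
  let φ : Γ(Y, (U : Y.Opens)) →+* F := ψ.comp (Y.evaluation U y hyU).hom
  have hker : RingHom.ker φ = (U.2.primeIdealOf ⟨y, hyU⟩).asIdeal := by
    rw [← ker_evaluation Y U.2 y hyU]
    ext a
    simp only [RingHom.mem_ker, φ, RingHom.comp_apply]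
    exact map_eq_zero_iff ψ ψ.injective
  refine Set.mem_iUnion.mpr ⟨φ, ?_⟩
  have hprime : (RingHom.ker φ).IsPrime := hker ▸ (U.2.primeIdealOf ⟨y, hyU⟩).isPrime
  refine ⟨hprime, ?_⟩
  have : (⟨RingHom.ker φ, hprime⟩ : PrimeSpectrum Γ(Y, (U : Y.Opens))) =
      U.2.primeIdealOf ⟨y, hyU⟩ := PrimeSpectrum.ext hker
  rw [this, U.2.fromSpec_primeIdealOf]

theorem finiteType_int_result [CompactSpace Y] :
    (∀ y : Y, IsClosed ({y} : Set Y) ↔ Finite ↑(Y.residueField y)) ∧
    ∀ (p d : ℕ) [Fact p.Prime], 0 < d →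
      {y : Y | Nonempty (↑(Y.residueField y) →+* GaloisField p d)}.Finite := by
  refine ⟨isClosed_singleton_iff_finite_residueField Y, ?_⟩
  intro p d _ hd
  exact finite_setOf_hom_finite_field Y (GaloisField p d)

end Groth.Agent.Lib.helper4.FiniteTypeZ
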