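import Mathlib

/-!
# Ring-level lemmas for the DVR criterion of universal openness at a point
-/

set_option backward.isDefEq.respectTransparency false
set_option backward.isDefEq.respectTransparency.types false
set_option autoImplicit false
set_option linter.style.haveILetI false
universe u
open TensorProduct

namespace Groth.Agent.Lib.helper4.UnivOpenDvr1

/-- Either some prime below `P` avoids the submonoid `S`, or an element of `S` kills an element
outside `P`. -/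
theorem exists_prime_le_disjoint_or {C : Type*} [CommRing C] (P : Ideal C) [P.IsPrime]
    (S : Submonoid C) :
    (∃ Q : Ideal C, Q.IsPrime ∧ Q ≤ P ∧ Disjoint (Q : Set C) S) ∨
      ∃ s ∈ S, ∃ c, c ∉ P ∧ s * c = 0 := by
  by_cases h0 : (0 : C) ∈ S ⊔ P.primeCompl
  · right
    obtain ⟨s, hs, c, hc, hsc⟩ := Submonoid.mem_sup.mp h0
    exact ⟨s, hs, c, hc, hsc⟩
  · left
    have hdisj : Disjoint ((⊥ : Ideal C) : Set C) (S ⊔ P.primeCompl : Submonoid C) := by
      rw [Set.disjoint_left]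
      intro a ha ha'
      have : a = 0 := ha
      exact h0 (this ▸ ha')
    obtain ⟨Q, hQ, -, hQd⟩ := Ideal.exists_le_prime_disjoint (⊥ : Ideal C) _ hdisj
    refine ⟨Q, hQ, ?_, ?_⟩
    · intro a ha
      by_contra haP
      exact Set.disjoint_left.mp hQd ha (Submonoid.mem_sup_right haP)
    · rw [Set.disjoint_left]
      intro a ha haS
      exact Set.disjoint_left.mp hQd ha (Submonoid.mem_sup_left haS)

/-- **Descent to a finitely generated subalgebra**: a relation `c * (1 ⊗ t) = 0` in `B ⊗ V`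
already holds in `B ⊗ A₁` for a finitely generated subalgebra `A₁` of `V`. -/
theorem exists_fg_subalgebra_descent {A₀ B V : Type u} [CommRing A₀] [CommRing B] [Algebra A₀ B]
    [CommRing V] [Algebra A₀ V] (c : B ⊗[A₀] V) (t : V)
    (hct : c * ((1 : B) ⊗ₜ[A₀] t) = 0) :
    ∃ (A₁ : Subalgebra A₀ V) (_ : A₁.FG) (ht : t ∈ A₁) (c₁ : B ⊗[A₀] A₁),
      Algebra.TensorProduct.map (AlgHom.id A₀ B) A₁.val c₁ = c ∧
      c₁ * ((1 : B) ⊗ₜ[A₀] (⟨t, ht⟩ : A₁)) = 0 := by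
  classical
  obtain ⟨k, b, v, rfl⟩ := TensorProduct.exists_sum_tmul_eq c
  let N : Submodule A₀ V := Submodule.span A₀ (Set.range (fun j : Fin k => v j * t))
  have hN : N.FG := Submodule.fg_span (Set.finite_range _)
  let n : Fin k → N := fun j => ⟨v j * t, Submodule.subset_span ⟨j, rfl⟩⟩
  let zN : N ⊗[A₀] B := ∑ j, n j ⊗ₜ[A₀] b j
  have heq : N.subtype.rTensor B zN = N.subtype.rTensor B 0 := by
    rw [map_zero]
    have h1 : N.subtype.rTensor B zN = ∑ j, (v j * t) ⊗ₜ[A₀] b j := by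
      simp [zN, n, map_sum]
    have h2 : (TensorProduct.comm A₀ B V) ((∑ j, b j ⊗ₜ[A₀] v j) * ((1 : B) ⊗ₜ[A₀] t)) =
        ∑ j, (v j * t) ⊗ₜ[A₀] b j := by
      simp [Finset.sum_mul, map_sum]
    rw [h1, ← h2, hct, map_zero]
  obtain ⟨N', hN', hle, h0⟩ := hN.exists_rTensor_fg_inclusion_eq heq
  obtain ⟨G, hG⟩ := hN'
  let F : Finset V := Finset.univ.image v ∪ {t} ∪ G
  let A₁ : Subalgebra A₀ V := Algebra.adjoin A₀ (F : Set V)
  have hF : ∀ a ∈ F, a ∈ A₁ := fun a ha => Algebra.subset_adjoin ha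
  have hv : ∀ j, v j ∈ A₁ := fun j => hF _ (by simp [F])
  have ht : t ∈ A₁ := hF _ (by simp [F])
  have hN'A : ∀ a ∈ N', a ∈ A₁ := by
    intro a ha
    rw [← hG] at ha
    refine Submodule.span_induction (p := fun a _ => a ∈ A₁) ?_ ?_ ?_ ?_ ha
    · intro a ha
      exact hF a (by simp only [F, Finset.mem_union]; exact Or.inr ha)
    · exact A₁.zero_mem
    · intro a b _ _ ha hb
      exact A₁.add_mem ha hb
    · intro r a _ ha
      exact A₁.smul_mem ha r
  let ι' : N' →ₗ[A₀] A₁ :=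
    { toFun := fun a => ⟨a.1, hN'A a.1 a.2⟩
      map_add' := fun _ _ => rfl
      map_smul' := fun _ _ => rfl }
  let c₁ : B ⊗[A₀] A₁ := ∑ j, b j ⊗ₜ[A₀] (⟨v j, hv j⟩ : A₁)
  refine ⟨A₁, Subalgebra.fg_adjoin_finset F, ht, c₁, ?_, ?_⟩
  · simp [c₁, map_sum]
  · have h3 : c₁ * ((1 : B) ⊗ₜ[A₀] (⟨t, ht⟩ : A₁)) =
        (LinearMap.lTensor B ι') ((TensorProduct.comm A₀ N' B)
          ((N.inclusion hle).rTensor B zN)) := by
      simp only [c₁, zN, n, Finset.sum_mul, map_sum, LinearMap.rTensor_tmul,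
        TensorProduct.comm_tmul, LinearMap.lTensor_tmul, Algebra.TensorProduct.tmul_mul_tmul,
        mul_one]
      rfl
    rw [h3, h0, map_zero, map_zero, map_zero]

/-- **Ring-level core**: if no prime below `P` contracts to zero in the domain `V`, then over a
finitely generated subalgebra `A₁` of `V` there are `c₁ ∉ P` and `t₁ ≠ 0` with
`c₁ * (1 ⊗ t₁) = 0`. -/
theorem exists_fg_subalgebra_of_no_prime {A₀ B V : Type u} [CommRing A₀] [CommRing B]
    [Algebra A₀ B] [CommRing V] [IsDomain V] [Algebra A₀ V] (P : Ideal (B ⊗[A₀] V)) [P.IsPrime]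
    (hno : ¬ ∃ Q : Ideal (B ⊗[A₀] V), Q.IsPrime ∧ Q ≤ P ∧
      Q.comap (Algebra.TensorProduct.includeRight : V →ₐ[A₀] B ⊗[A₀] V).toRingHom = ⊥) :
    ∃ (A₁ : Subalgebra A₀ V) (_ : A₁.FG) (t₁ : A₁) (c₁ : B ⊗[A₀] A₁), t₁ ≠ 0 ∧
      Algebra.TensorProduct.map (AlgHom.id A₀ B) A₁.val c₁ ∉ P ∧
      c₁ * ((1 : B) ⊗ₜ[A₀] t₁) = 0 := by
  let S : Submonoid (B ⊗[A₀] V) := (nonZeroDivisors V).map
    (Algebra.TensorProduct.includeRight : V →ₐ[A₀] B ⊗[A₀] V).toRingHom
  rcases exists_prime_le_disjoint_or P S with ⟨Q, hQ, hQP, hQS⟩ | ⟨s, hs, c, hc, hsc⟩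
  · exfalso
    refine hno ⟨Q, hQ, hQP, ?_⟩
    rw [eq_bot_iff]
    intro v hv
    by_contra hv0
    have hvS : (Algebra.TensorProduct.includeRight : V →ₐ[A₀] B ⊗[A₀] V) v ∈ S :=
      ⟨v, mem_nonZeroDivisors_of_ne_zero hv0, rfl⟩
    exact Set.disjoint_left.mp hQS hv hvS
  · obtain ⟨t, ht, rfl⟩ := hs
    have ht0 : t ≠ 0 := nonZeroDivisors.ne_zero ht
    have hct : c * ((1 : B) ⊗ₜ[A₀] t) = 0 := by
      rw [mul_comm]
      exact hsc
    obtain ⟨A₁, hA₁, htA, c₁, hc₁, h0⟩ := exists_fg_subalgebra_descent c t hct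
    refine ⟨A₁, hA₁, ⟨t, htA⟩, c₁, ?_, ?_, h0⟩
    · intro h
      exact ht0 (congrArg Subtype.val h)
    · rw [hc₁]
      exact hc

end Groth.Agent.Lib.helper4.UnivOpenDvr1
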