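import Mathlib

/-!
# The affine chart `Spec (B ⊗ T) ⟶ X ×_Y Spec T`
-/

set_option backward.isDefEq.respectTransparency false
set_option backward.isDefEq.respectTransparency.types false
set_option autoImplicit false
set_option linter.style.haveILetI false
universe u
open CategoryTheory CategoryTheory.Limits AlgebraicGeometry TensorProduct

namespace Groth.Agent.Lib.helper4.UnivOpenDvr3

variable {X Y : Scheme.{u}} (f : X ⟶ Y) {A₀ B : Type u} [CommRing A₀] [CommRing B] [Algebra A₀ B]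
  (a : Spec (CommRingCat.of B) ⟶ X) (b : Spec (CommRingCat.of A₀) ⟶ Y)
  (hab : a ≫ f = Spec.map (CommRingCat.ofHom (algebraMap A₀ B)) ≫ b)
  (T : Type u) [CommRing T] [Algebra A₀ T]

/-- The morphism `Spec T ⟶ Spec A₀ ⟶ Y`. -/
noncomputable def gT : Spec (CommRingCat.of T) ⟶ Y :=
  Spec.map (CommRingCat.ofHom (algebraMap A₀ T)) ≫ b

/-- The chart `Spec (B ⊗ T) ⟶ X ×_Y Spec T`. -/
noncomputable def jT : Spec (CommRingCat.of (B ⊗[A₀] T)) ⟶ pullback f (gT b T) :=
  (pullbackSpecIso A₀ B T).inv ≫ pullback.map _ _ f (gT b T) a (𝟙 _) b hab.symm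
    (Category.id_comp _).symm

@[reassoc]
lemma jT_fst : jT f a b hab T ≫ pullback.fst f (gT b T) =
    Spec.map (CommRingCat.ofHom
      (Algebra.TensorProduct.includeLeftRingHom : B →+* B ⊗[A₀] T)) ≫ a := by
  simp only [jT, Category.assoc, pullback.lift_fst, pullback.map]
  rw [← Category.assoc, pullbackSpecIso_inv_fst]

@[reassoc]
lemma jT_snd : jT f a b hab T ≫ pullback.snd f (gT b T) =
    Spec.map (CommRingCat.ofHom
      (Algebra.TensorProduct.includeRight : T →ₐ[A₀] B ⊗[A₀] T).toRingHom) := by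
  simp only [jT, Category.assoc, pullback.lift_snd, pullback.map, Category.comp_id]
  exact pullbackSpecIso_inv_snd A₀ B T

instance [IsOpenImmersion a] [IsOpenImmersion b] : IsOpenImmersion (jT f a b hab T) := by
  unfold jT
  infer_instance

lemma mem_range_jT [IsOpenImmersion b] (z : ↥(pullback f (gT b T)))
    (hz : (pullback.fst f (gT b T)) z ∈ Set.range a) : z ∈ Set.range (jT f a b hab T) := by
  have h1 : z ∈ Set.range (pullback.map _ _ f (gT b T) a (𝟙 _) b hab.symm
      (Category.id_comp _).symm) := by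
    rw [Scheme.Pullback.range_map]
    exact ⟨hz, ⟨(pullback.snd f (gT b T)) z, rfl⟩⟩
  obtain ⟨w, rfl⟩ := h1
  refine ⟨(pullbackSpecIso A₀ B T).hom w, ?_⟩
  simp only [jT]
  rw [Scheme.Hom.comp_apply, ← Scheme.Hom.comp_apply (pullbackSpecIso A₀ B T).hom,
    Iso.hom_inv_id]
  rfl

section Paste

variable {X Y Y' W : Scheme.{u}} (f : X ⟶ Y) (g : Y' ⟶ Y) (g' : W ⟶ Y')

/-- The projection `X ×_Y W ⟶ X ×_Y Y'`. -/
noncomputable def pr : pullback f (g' ≫ g) ⟶ pullback f g :=
  pullback.lift (pullback.fst _ _) (pullback.snd _ _ ≫ g')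
    (by rw [Category.assoc, pullback.condition])

@[reassoc]
lemma pr_fst : pr f g g' ≫ pullback.fst f g = pullback.fst f (g' ≫ g) :=
  pullback.lift_fst _ _ _

@[reassoc]
lemma pr_snd : pr f g g' ≫ pullback.snd f g = pullback.snd f (g' ≫ g) ≫ g' :=
  pullback.lift_snd _ _ _

lemma exists_preimage_pr (x'' : ↥(pullback f g)) (w : W) (h : (pullback.snd f g) x'' = g' w) :
    ∃ z : ↥(pullback f (g' ≫ g)), pr f g g' z = x'' ∧ (pullback.snd f (g' ≫ g)) z = w := by
  obtain ⟨z', hz'1, hz'2⟩ := Scheme.Pullback.exists_preimage_pullback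
    (f := pullback.snd f g) (g := g') x'' w h
  have hpr : (pullbackLeftPullbackSndIso f g g').inv ≫ pullback.fst _ _ = pr f g g' := by
    apply pullback.hom_ext
    · rw [Category.assoc, pullbackLeftPullbackSndIso_inv_fst, pr_fst]
    · rw [Category.assoc, pullbackLeftPullbackSndIso_inv_fst_snd, pr_snd]
  refine ⟨(pullbackLeftPullbackSndIso f g g').hom z', ?_, ?_⟩
  · rw [← hpr, ← Scheme.Hom.comp_apply, Iso.hom_inv_id_assoc]
    exact hz'1
  · rw [← Scheme.Hom.comp_apply, pullbackLeftPullbackSndIso_hom_snd]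
    exact hz'2

end Paste

end Groth.Agent.Lib.helper4.UnivOpenDvr3
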