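import Mathlib
import Groth.Agent.Lib.Helper4.UnivOpenDvr1
import Groth.Agent.Lib.Helper4.UnivOpenDvr2
import Groth.Agent.Lib.Helper4.UnivOpenDvr3

/-!
# From discrete valuation rings to arbitrary domains: lifting generizations
-/

set_option backward.isDefEq.respectTransparency false
set_option backward.isDefEq.respectTransparency.types false
set_option autoImplicit false
set_option linter.style.haveILetI false
universe u
open CategoryTheory CategoryTheory.Limits AlgebraicGeometry TensorProduct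

namespace Groth.Agent.Lib.helper4.UnivOpenDvr4

open Groth.Agent.Lib.helper4.UnivOpenDvr1 Groth.Agent.Lib.helper4.UnivOpenDvr2
open Groth.Agent.Lib.helper4.UnivOpenDvr3

variable {X Y : Scheme.{u}}

/-- The criterion via discrete valuation rings at the point `x`. -/
def DvrCrit (f : X ⟶ Y) (x : X) : Prop :=
  ∀ (A : Type u) [CommRing A] [IsDomain A] [IsDiscreteValuationRing A]
    (g : Spec (CommRingCat.of A) ⟶ Y), g.base (IsLocalRing.closedPoint A) = f.base x →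
    ∀ x' : ↥(pullback f g), (pullback.fst f g).base x' = x →
      (pullback.snd f g).base x' = IsLocalRing.closedPoint A →
      ∃ z' : ↥(pullback f g), z' ⤳ x' ∧ (pullback.snd f g).base z' ≠ IsLocalRing.closedPoint A

/-- **Core**: the criterion over discrete valuation rings gives lifting of the generic point for
arbitrary domains, in an affine chart. -/
theorem exists_generization_core (f : X ⟶ Y) {A₀ B : Type u} [CommRing A₀] [IsNoetherianRing A₀]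
    [CommRing B] [Algebra A₀ B] (a : Spec (CommRingCat.of B) ⟶ X)
    (b : Spec (CommRingCat.of A₀) ⟶ Y) [IsOpenImmersion a] [IsOpenImmersion b]
    (hab : a ≫ f = Spec.map (CommRingCat.ofHom (algebraMap A₀ B)) ≫ b) (x : X)
    (hxa : x ∈ Set.range a) (H : DvrCrit f x)
    (V : Type u) [CommRing V] [IsDomain V] [Algebra A₀ V]
    (x' : ↥(pullback f (gT b V))) (hx' : (pullback.fst f (gT b V)) x' = x) :
    ∃ z' : ↥(pullback f (gT b V)), z' ⤳ x' ∧
      ((pullback.snd f (gT b V)) z' : PrimeSpectrum V).asIdeal = ⊥ := by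
  by_contra hcon
  push Not at hcon
  obtain ⟨𝔭, rfl⟩ := mem_range_jT f a b hab V x' (hx' ▸ hxa)
  haveI hPprime : 𝔭.asIdeal.IsPrime := 𝔭.isPrime
  have hno : ¬ ∃ Q : Ideal (B ⊗[A₀] V), Q.IsPrime ∧ Q ≤ 𝔭.asIdeal ∧
      Q.comap (Algebra.TensorProduct.includeRight : V →ₐ[A₀] B ⊗[A₀] V).toRingHom = ⊥ := by
    rintro ⟨Q, hQ, hQP, hQ0⟩
    let 𝔮 : PrimeSpectrum (B ⊗[A₀] V) := ⟨Q, hQ⟩
    have hsp : 𝔮 ⤳ 𝔭 := (PrimeSpectrum.le_iff_specializes 𝔮 𝔭).mp hQP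
    refine hcon (jT f a b hab V 𝔮) (hsp.map (jT f a b hab V).continuous) ?_
    rw [← Scheme.Hom.comp_apply, jT_snd]
    exact hQ0
  obtain ⟨A₁, hA₁, t₁, c₁, ht₁, hc₁P, hc₁t⟩ := exists_fg_subalgebra_of_no_prime 𝔭.asIdeal hno
  haveI : Algebra.FiniteType A₀ A₁ := (Subalgebra.fg_iff_finiteType A₁).mp hA₁
  let μ : B ⊗[A₀] A₁ →ₐ[A₀] B ⊗[A₀] V := Algebra.TensorProduct.map (AlgHom.id A₀ B) A₁.val
  let P₁ : Ideal (B ⊗[A₀] A₁) := 𝔭.asIdeal.comap μ.toRingHom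
  haveI hP₁ : P₁.IsPrime := Ideal.comap_isPrime _ _
  let p₁ : Ideal A₁ :=
    P₁.comap (Algebra.TensorProduct.includeRight : A₁ →ₐ[A₀] B ⊗[A₀] A₁).toRingHom
  haveI hp₁ : p₁.IsPrime := Ideal.comap_isPrime _ _
  have hc₁P₁ : c₁ ∉ P₁ := hc₁P
  have ht₁p : t₁ ∈ p₁ := by
    have h0 : c₁ * ((1 : B) ⊗ₜ[A₀] t₁) ∈ P₁ := by
      rw [hc₁t]
      exact P₁.zero_mem
    exact (hP₁.mem_or_mem h0).resolve_left hc₁P₁
  obtain ⟨R, _, _, _, ι, hι, hιm⟩ := exists_dvr_dominating (A₀ := A₀) p₁ t₁ ht₁p ht₁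
  -- the point of `X ×_Y Spec A₁`
  let 𝔭₁ : PrimeSpectrum (B ⊗[A₀] A₁) := ⟨P₁, hP₁⟩
  let x₁ : ↥(pullback f (gT b A₁)) := jT f a b hab A₁ 𝔭₁
  have hx₁fst : (pullback.fst f (gT b A₁)) x₁ = x := by
    rw [← hx', ← Scheme.Hom.comp_apply, ← Scheme.Hom.comp_apply, jT_fst, jT_fst,
      Scheme.Hom.comp_apply, Scheme.Hom.comp_apply]
    congr 1
  have hx₁snd : ((pullback.snd f (gT b A₁)) x₁ : PrimeSpectrum A₁).asIdeal = p₁ := by
    show ((jT f a b hab A₁ ≫ pullback.snd f (gT b A₁)) 𝔭₁ : PrimeSpectrum A₁).asIdeal = p₁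
    rw [jT_snd]
    rfl
  let r : Spec (CommRingCat.of R) ⟶ Spec (CommRingCat.of A₁) := Spec.map (CommRingCat.ofHom ι)
  have hrcl : (pullback.snd f (gT b A₁)) x₁ = r (IsLocalRing.closedPoint R) := by
    apply PrimeSpectrum.ext
    rw [hx₁snd, ← hιm]
    rfl
  obtain ⟨zR, hzR1, hzR2⟩ := exists_preimage_pr f (gT b A₁) r x₁ (IsLocalRing.closedPoint R) hrcl
  have hzRfst : (pullback.fst f (r ≫ gT b A₁)) zR = x := by
    rw [← pr_fst f (gT b A₁) r, Scheme.Hom.comp_apply, hzR1, hx₁fst]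
  have hcl : (r ≫ gT b A₁) (IsLocalRing.closedPoint R) = f x := by
    rw [← hzR2, ← Scheme.Hom.comp_apply, ← pullback.condition, Scheme.Hom.comp_apply, hzRfst]
  obtain ⟨z', hz'sp, hz'ne⟩ := H R (r ≫ gT b A₁) hcl zR hzRfst hzR2
  -- the generization in the chart
  have hwsp : pr f (gT b A₁) r z' ⤳ x₁ := by
    rw [← hzR1]
    exact hz'sp.map (pr f (gT b A₁) r).continuous
  have hwr : pr f (gT b A₁) r z' ∈ Set.range (jT f a b hab A₁) :=
    hwsp.mem_open (jT f a b hab A₁).isOpenEmbedding.isOpen_range ⟨𝔭₁, rfl⟩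
  obtain ⟨𝔴, h𝔴⟩ := hwr
  have h𝔴sp : 𝔴 ⤳ 𝔭₁ := by
    rw [← (jT f a b hab A₁).isOpenEmbedding.isInducing.specializes_iff, h𝔴]
    exact hwsp
  have h𝔴le : 𝔴.asIdeal ≤ P₁ := (PrimeSpectrum.le_iff_specializes 𝔴 𝔭₁).mpr h𝔴sp
  have hc₁𝔴 : c₁ ∉ 𝔴.asIdeal := fun h => hc₁P₁ (h𝔴le h)
  have ht₁𝔴 : ((1 : B) ⊗ₜ[A₀] t₁ : B ⊗[A₀] A₁) ∈ 𝔴.asIdeal := by
    have h0 : c₁ * ((1 : B) ⊗ₜ[A₀] t₁) ∈ 𝔴.asIdeal := by
      rw [hc₁t]
      exact 𝔴.asIdeal.zero_mem
    exact (𝔴.isPrime.mem_or_mem h0).resolve_left hc₁𝔴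
  -- the image of the generization in `Spec A₁`
  have hsndw : (pullback.snd f (gT b A₁)) (pr f (gT b A₁) r z') =
      r ((pullback.snd f (r ≫ gT b A₁)) z') := by
    rw [← Scheme.Hom.comp_apply, pr_snd, Scheme.Hom.comp_apply]
  have ht₁mem : t₁ ∈ ((pullback.snd f (gT b A₁)) (pr f (gT b A₁) r z') :
      PrimeSpectrum A₁).asIdeal := by
    rw [← h𝔴]
    show t₁ ∈ ((jT f a b hab A₁ ≫ pullback.snd f (gT b A₁)) 𝔴 : PrimeSpectrum A₁).asIdeal
    rw [jT_snd]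
    exact ht₁𝔴
  rw [hsndw] at ht₁mem
  -- the point of `Spec R` is the generic point
  set 𝔰 : PrimeSpectrum R := (pullback.snd f (r ≫ gT b A₁)) z' with h𝔰
  have h𝔰bot : 𝔰.asIdeal = ⊥ := by
    by_contra hne
    have hmax : 𝔰.asIdeal.IsMaximal := 𝔰.isPrime.isMaximal hne
    apply hz'ne
    apply PrimeSpectrum.ext
    exact IsLocalRing.eq_maximalIdeal hmax
  have ht₁0 : ι t₁ ∈ 𝔰.asIdeal := ht₁mem
  rw [h𝔰bot, Ideal.mem_bot] at ht₁0
  exact ht₁ (hι (ht₁0.trans (map_zero ι).symm))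

/-- **From discrete valuation rings to local domains**: under the criterion at `x` over discrete
valuation rings, for every local domain `V` and `g : Spec V ⟶ Y`, every point of `X ×_Y Spec V`
over `x` and the closed point has a generization over the generic point. -/
theorem exists_generization_of_dvrCrit [IsLocallyNoetherian Y] (f : X ⟶ Y) (x : X)
    (H : DvrCrit f x) (V : Type u) [CommRing V] [IsDomain V] [IsLocalRing V]
    (g : Spec (CommRingCat.of V) ⟶ Y) (x' : ↥(pullback f g))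
    (hx' : (pullback.fst f g) x' = x)
    (hx's : (pullback.snd f g) x' = IsLocalRing.closedPoint V) :
    ∃ z' : ↥(pullback f g), z' ⤳ x' ∧
      ((pullback.snd f g) z' : PrimeSpectrum V).asIdeal = ⊥ := by
  have hgcl : g (IsLocalRing.closedPoint V) = f x := by
    rw [← hx's, ← Scheme.Hom.comp_apply, ← pullback.condition, Scheme.Hom.comp_apply, hx']
  obtain ⟨_, ⟨Y₀, hY₀, rfl⟩, hyY₀, -⟩ :=
    Y.isBasis_affineOpens.exists_subset_of_mem_open (Set.mem_univ (f x)) isOpen_univ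
  have hxpre : x ∈ f ⁻¹ᵁ Y₀ := hyY₀
  obtain ⟨_, ⟨X₀, hX₀, rfl⟩, hxX₀, hle⟩ :=
    X.isBasis_affineOpens.exists_subset_of_mem_open hxpre (f ⁻¹ᵁ Y₀).isOpen
  haveI : IsNoetherianRing Γ(Y, Y₀) := IsLocallyNoetherian.component_noetherian ⟨Y₀, hY₀⟩
  letI : Algebra Γ(Y, Y₀) Γ(X, X₀) := (f.appLE Y₀ X₀ hle).hom.toAlgebra
  have hab : hX₀.fromSpec ≫ f =
      Spec.map (CommRingCat.ofHom (algebraMap Γ(Y, Y₀) Γ(X, X₀))) ≫ hY₀.fromSpec :=
    (IsAffineOpen.SpecMap_appLE_fromSpec f hY₀ hX₀ hle).symm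
  have hrange : Set.range g ⊆ Set.range hY₀.fromSpec := by
    rintro _ ⟨v, rfl⟩
    rw [hY₀.range_fromSpec]
    have hsp : v ⤳ IsLocalRing.closedPoint V := IsLocalRing.specializes_closedPoint v
    have h3 := hsp.map g.continuous
    rw [hgcl] at h3
    exact h3.mem_open Y₀.2 hyY₀
  let g₀ : Spec (CommRingCat.of V) ⟶ Spec Γ(Y, Y₀) := IsOpenImmersion.lift hY₀.fromSpec g hrange
  have hg₀ : g₀ ≫ hY₀.fromSpec = g := IsOpenImmersion.lift_fac _ _ _
  let φ : Γ(Y, Y₀) ⟶ CommRingCat.of V := Spec.preimage g₀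
  have hφ : Spec.map φ = g₀ := Spec.map_preimage g₀
  letI : Algebra Γ(Y, Y₀) V := φ.hom.toAlgebra
  have hg : gT hY₀.fromSpec V = g := by
    rw [← hg₀, ← hφ]
    rfl
  have hxa : x ∈ Set.range hX₀.fromSpec := by
    rw [hX₀.range_fromSpec]
    exact hxX₀
  have core := exists_generization_core f (A₀ := Γ(Y, Y₀)) (B := Γ(X, X₀)) hX₀.fromSpec
    hY₀.fromSpec hab x hxa H V
  generalize gT hY₀.fromSpec V = g' at core hg
  subst hg
  exact core x' hx'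

end Groth.Agent.Lib.helper4.UnivOpenDvr4
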