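import Mathlib
import Groth.Agent.Lib.Helper4.UnivOpenDvr4
import Groth.Agent.Lib.Helper4.ValRefined
import Groth.Agent.S3404

/-!
# Universal openness at a point via discrete valuation rings (EGA IV 14.5.8-type)
-/

set_option backward.isDefEq.respectTransparency false
set_option backward.isDefEq.respectTransparency.types false
set_option autoImplicit false
set_option linter.style.haveILetI false
universe u
open CategoryTheory CategoryTheory.Limits AlgebraicGeometry

namespace Groth.Agent.Lib.helper4.UnivOpenDvr5

open Groth.Agent.Lib.helper4.UnivOpenDvr3 Groth.Agent.Lib.helper4.UnivOpenDvr4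

variable {X Y : Scheme.{u}}

/-- Universal openness at `x` gives the criterion over discrete valuation rings. -/
theorem dvrCrit_of_isUnivOpenAt (f : X ⟶ Y) (x : X) (h : EGA43.IsUnivOpenAt f x) :
    DvrCrit f x := by
  intro A _ _ _ g hg x' hx' hx's
  have hopen : EGA43.IsOpenAt (pullback.snd f g).base x' := h _ g x' hx'
  obtain ⟨z', hz'sp, hz'⟩ := (Groth.Agent.S3404.result (pullback.snd f g) x').1 hopen
    (genericPoint (Spec (CommRingCat.of A))) (by
      rw [hx's]
      exact genericPoint_specializes _)
  refine ⟨z', hz'sp, ?_⟩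
  rw [hz']
  intro heq
  have h1 : (genericPoint (Spec (CommRingCat.of A)) : PrimeSpectrum A).asIdeal =
      IsLocalRing.maximalIdeal A := congrArg PrimeSpectrum.asIdeal heq
  rw [genericPoint_eq_bot_of_affine] at h1
  exact IsDiscreteValuationRing.not_a_field A h1.symm

/-- The criterion over discrete valuation rings gives universal openness at `x`. -/
theorem isUnivOpenAt_of_dvrCrit [IsLocallyNoetherian Y] (f : X ⟶ Y) [LocallyOfFiniteType f]
    (x : X) (H : DvrCrit f x) : EGA43.IsUnivOpenAt f x := by
  intro Y' g' x'' hx''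
  haveI : LocallyOfFinitePresentation (pullback.snd f g') := inferInstance
  rw [(Groth.Agent.S3404.result (pullback.snd f g') x'').2 inferInstance]
  intro y' hy'
  obtain ⟨V, m, hm1, hm2⟩ := Groth.Agent.Lib.helper4.ValRefined.exists_valuationSubring_of_specializes
    (𝟙 Y') y' ((pullback.snd f g') x'') hy'
  obtain ⟨zV, hzV1, hzV2⟩ := exists_preimage_pr f g' m x'' (IsLocalRing.closedPoint V) hm1.symm
  have hfst : (pullback.fst f (m ≫ g')) zV = x := by
    rw [← pr_fst f g' m, Scheme.Hom.comp_apply, hzV1, hx'']
  obtain ⟨z', hz'sp, hz'bot⟩ := exists_generization_of_dvrCrit f x H V (m ≫ g') zV hfst hzV2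
  refine ⟨pr f g' m z', ?_, ?_⟩
  · rw [← hzV1]
    exact hz'sp.map (pr f g' m).continuous
  · rw [← Scheme.Hom.comp_apply, pr_snd, Scheme.Hom.comp_apply]
    have hpt : (pullback.snd f (m ≫ g')) z' =
        Spec.map (CommRingCat.ofHom V.subtype) (IsLocalRing.closedPoint (Y'.residueField y')) := by
      apply PrimeSpectrum.ext
      rw [hz'bot]
      have h0 : (IsLocalRing.closedPoint (Y'.residueField y')).asIdeal = ⊥ := by
        show IsLocalRing.maximalIdeal (Y'.residueField y') = ⊥
        exact IsLocalRing.maximalIdeal_eq_bot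
      show ⊥ = Ideal.comap V.subtype (IsLocalRing.closedPoint (Y'.residueField y')).asIdeal
      rw [h0]
      exact ((RingHom.injective_iff_ker_eq_bot _).mp Subtype.val_injective).symm
    rw [hpt, ← Scheme.Hom.comp_apply, hm2, Category.comp_id]
    exact Scheme.fromSpecResidueField_apply _ _

/-- **EGA IV 14.5.8-type**: universal openness at a point via discrete valuation rings. -/
theorem isUnivOpenAt_iff_dvrCrit [IsLocallyNoetherian Y] (f : X ⟶ Y) [LocallyOfFiniteType f]
    (x : X) : EGA43.IsUnivOpenAt f x ↔ DvrCrit f x :=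
  ⟨dvrCrit_of_isUnivOpenAt f x, isUnivOpenAt_of_dvrCrit f x⟩

end Groth.Agent.Lib.helper4.UnivOpenDvr5
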