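import Mathlib
import Groth.Prelude.Def_Grpd
import Groth.Prelude.Def_AlgGrp
import Groth.Agent.Lib.Helper14.ActPts

/-!
# The action groupoid of a group scheme action (helper4)

For an action `a` of a group scheme `G` on `X` over `S`, `actGrpd a : Grpd.GroupoidScheme S` has
objects `X`, arrows `G ×_S X`, source the projection, target the action.
-/

set_option backward.isDefEq.respectTransparency false
set_option autoImplicit false
set_option linter.style.haveILetI false
set_option linter.unusedSectionVars false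

universe u
open CategoryTheory CategoryTheory.Limits AlgebraicGeometry MonoidalCategory
  CartesianMonoidalCategory MonObj GrpObj

namespace Groth.Agent.Lib.Helper4.ActGrpd

open Groth.Agent.Lib.Helper14.ActPts

variable {S : Scheme.{u}} {G X : Over S} [GrpObj G] (a : AlgGrp.Action G X)

/-- `g · x` on `B`-points -/
noncomputable def ac {B : Over S} (g : B ⟶ G) (x : B ⟶ X) : B ⟶ X := lift g x ≫ a.act

theorem ac_one {B : Over S} (x : B ⟶ X) : ac a 1 x = x := act_one_pt' a x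

theorem ac_mul {B : Over S} (g h : B ⟶ G) (x : B ⟶ X) : ac a (g * h) x = ac a g (ac a h x) :=
  act_mul_pt a g h x

theorem pre_ac {B B' : Over S} (f : B' ⟶ B) (g : B ⟶ G) (x : B ⟶ X) :
    f ≫ ac a g x = ac a (f ≫ g) (f ≫ x) := by
  unfold ac
  rw [← Category.assoc, comp_lift]

/-- the target of a `B`-point of `G × X` -/
theorem comp_act {B : Over S} (α : B ⟶ G ⊗ X) : α ≫ a.act = ac a (α ≫ fst G X) (α ≫ snd G X) := by
  unfold ac
  congr 1
  apply CartesianMonoidalCategory.hom_ext <;> simp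

theorem act_eq : a.act = ac a (fst G X) (snd G X) := by
  have := comp_act a (𝟙 (G ⊗ X))
  simpa using this

theorem eq_lift {B : Over S} (α : B ⟶ G ⊗ X) : α = lift (α ≫ fst G X) (α ≫ snd G X) := by
  apply CartesianMonoidalCategory.hom_ext <;> simp

/-- composition of `B`-points of `G × X` -/
noncomputable def cmpO {B : Over S} (α β : B ⟶ G ⊗ X) : B ⟶ G ⊗ X :=
  lift ((α ≫ fst G X) * (β ≫ fst G X)) (β ≫ snd G X)

@[simp]
theorem cmpO_fst {B : Over S} (α β : B ⟶ G ⊗ X) :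
    cmpO α β ≫ fst G X = (α ≫ fst G X) * (β ≫ fst G X) := lift_fst _ _

@[simp]
theorem cmpO_snd {B : Over S} (α β : B ⟶ G ⊗ X) : cmpO α β ≫ snd G X = β ≫ snd G X :=
  lift_snd _ _

theorem pre_cmpO {B B' : Over S} (f : B' ⟶ B) (α β : B ⟶ G ⊗ X) :
    f ≫ cmpO α β = cmpO (f ≫ α) (f ≫ β) := by
  unfold cmpO
  rw [comp_lift, MonObj.comp_mul]
  simp only [Category.assoc]

theorem cmpO_assoc {B : Over S} (α β δ : B ⟶ G ⊗ X) :
    cmpO (cmpO α β) δ = cmpO α (cmpO β δ) := by
  apply CartesianMonoidalCategory.hom_ext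
  · rw [cmpO_fst, cmpO_fst, cmpO_fst, cmpO_fst]
    exact mul_assoc _ _ _
  · rw [cmpO_snd, cmpO_snd, cmpO_snd]

/-- the identity arrows -/
noncomputable def eO : X ⟶ G ⊗ X := lift (toUnit X ≫ η[G]) (𝟙 X)

/-- the inverse -/
noncomputable def iO : G ⊗ X ⟶ G ⊗ X := lift ((fst G X)⁻¹) a.act

theorem pre_eO {B : Over S} (x : B ⟶ X) : x ≫ eO (G := G) = lift 1 x := by
  unfold eO
  rw [comp_lift, Category.comp_id, Hom.one_def]
  congr 1
  rw [← Category.assoc]
  congr 1
  exact toUnit_unique _ _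

theorem pre_iO {B : Over S} (α : B ⟶ G ⊗ X) :
    α ≫ iO a = lift ((α ≫ fst G X)⁻¹) (α ≫ a.act) := by
  unfold iO
  rw [comp_lift, GrpObj.comp_inv]

theorem cmpO_eO {B : Over S} (α : B ⟶ G ⊗ X) : cmpO α (α ≫ snd G X ≫ eO) = α := by
  rw [← Category.assoc, pre_eO]
  apply CartesianMonoidalCategory.hom_ext
  · rw [cmpO_fst, lift_fst, _root_.mul_one]
  · rw [cmpO_snd, lift_snd]

theorem eO_cmpO {B : Over S} (α : B ⟶ G ⊗ X) : cmpO (α ≫ a.act ≫ eO) α = α := by
  rw [← Category.assoc, pre_eO]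
  apply CartesianMonoidalCategory.hom_ext
  · rw [cmpO_fst, lift_fst, _root_.one_mul]
  · rw [cmpO_snd]

theorem cmpO_iO {B : Over S} (α : B ⟶ G ⊗ X) : cmpO α (α ≫ iO a) = α ≫ a.act ≫ eO := by
  rw [← Category.assoc, pre_eO, pre_iO]
  apply CartesianMonoidalCategory.hom_ext
  · rw [cmpO_fst, lift_fst, lift_fst, mul_inv_cancel]
  · rw [cmpO_snd, lift_snd, lift_snd]

theorem iO_cmpO {B : Over S} (α : B ⟶ G ⊗ X) : cmpO (α ≫ iO a) α = α ≫ snd G X ≫ eO := by
  rw [← Category.assoc, pre_eO, pre_iO]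
  apply CartesianMonoidalCategory.hom_ext
  · rw [cmpO_fst, lift_fst, lift_fst, inv_mul_cancel]
  · rw [cmpO_snd, lift_snd]

/-- the source object of the universal composable pair -/
noncomputable abbrev B₀ : Over S :=
  Over.mk (pullback.fst (snd G X).left a.act.left ≫ (G ⊗ X).hom)

noncomputable def γ₁ : B₀ a ⟶ G ⊗ X := Over.homMk (pullback.fst (snd G X).left a.act.left) rfl

theorem cond_hom :
    pullback.snd (snd G X).left a.act.left ≫ (G ⊗ X).hom =
      pullback.fst (snd G X).left a.act.left ≫ (G ⊗ X).hom := by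
  calc pullback.snd (snd G X).left a.act.left ≫ (G ⊗ X).hom
      = pullback.snd (snd G X).left a.act.left ≫ a.act.left ≫ X.hom := by rw [Over.w a.act]
    _ = pullback.fst (snd G X).left a.act.left ≫ (snd G X).left ≫ X.hom := by
        rw [pullback.condition_assoc]
    _ = _ := by rw [Over.w (snd G X)]

noncomputable def γ₂ : B₀ a ⟶ G ⊗ X :=
  Over.homMk (pullback.snd (snd G X).left a.act.left) (cond_hom a)

/-- the composition morphism -/
noncomputable def cAct : pullback (snd G X).left a.act.left ⟶ (G ⊗ X).left :=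
  (cmpO (γ₁ a) (γ₂ a)).left

section pts

variable {T : Scheme.{u}} (p : T ⟶ S)

/-- a `T`-point as a morphism over `S` -/
noncomputable def toO {Y : Over S} (β : T ⟶ Y.left) (h : β ≫ Y.hom = p) : Over.mk p ⟶ Y :=
  Over.homMk β h

@[simp]
theorem toO_left {Y : Over S} (β : T ⟶ Y.left) (h : β ≫ Y.hom = p) : (toO p β h).left = β := rfl

theorem toO_eq {Y : Over S} (φ : Over.mk p ⟶ Y) (h : φ.left ≫ Y.hom = p) : toO p φ.left h = φ := by
  apply Over.OverMorphism.ext
  rfl

theorem toO_comp {Y Y' : Over S} (β : T ⟶ Y.left) (h : β ≫ Y.hom = p) (f : Y ⟶ Y')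
    (h' : (β ≫ f.left) ≫ Y'.hom = p) : toO p (β ≫ f.left) h' = toO p β h ≫ f := by
  apply Over.OverMorphism.ext
  rfl

theorem lift_cAct (α β : T ⟶ (G ⊗ X).left) (h : α ≫ (snd G X).left = β ≫ a.act.left)
    (hα : α ≫ (G ⊗ X).hom = p) (hβ : β ≫ (G ⊗ X).hom = p) :
    pullback.lift α β h ≫ cAct a = (cmpO (toO p α hα) (toO p β hβ)).left := by
  let m : Over.mk p ⟶ B₀ a := Over.homMk (pullback.lift α β h) (by
    show pullback.lift α β h ≫ pullback.fst _ _ ≫ _ = p
    rw [pullback.lift_fst_assoc, hα])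
  have h1 : m ≫ γ₁ a = toO p α hα := by
    apply Over.OverMorphism.ext
    exact pullback.lift_fst _ _ _
  have h2 : m ≫ γ₂ a = toO p β hβ := by
    apply Over.OverMorphism.ext
    exact pullback.lift_snd _ _ _
  have := pre_cmpO m (γ₁ a) (γ₂ a)
  rw [h1, h2] at this
  rw [← this]
  rfl

theorem hom_of_s_t (α β : T ⟶ (G ⊗ X).left) (h : α ≫ (snd G X).left = β ≫ a.act.left)
    (hα : α ≫ (G ⊗ X).hom = p) : β ≫ (G ⊗ X).hom = p := by
  calc β ≫ (G ⊗ X).hom = β ≫ a.act.left ≫ X.hom := by rw [Over.w a.act]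
    _ = α ≫ (snd G X).left ≫ X.hom := by rw [← Category.assoc, ← h, Category.assoc]
    _ = α ≫ (G ⊗ X).hom := by rw [Over.w (snd G X)]
    _ = p := hα

theorem toO_lift_cAct (α β : T ⟶ (G ⊗ X).left) (h : α ≫ (snd G X).left = β ≫ a.act.left)
    (hα : α ≫ (G ⊗ X).hom = p) (hβ : β ≫ (G ⊗ X).hom = p)
    (hc : (pullback.lift α β h ≫ cAct a) ≫ (G ⊗ X).hom = p) :
    toO p (pullback.lift α β h ≫ cAct a) hc = cmpO (toO p α hα) (toO p β hβ) := by
  apply Over.OverMorphism.ext
  exact lift_cAct a p α β h hα hβ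

end pts

/-- The action groupoid. -/
noncomputable def actGrpd : Grpd.GroupoidScheme S where
  U := X.left
  R := (G ⊗ X).left
  pU := X.hom
  pR := (G ⊗ X).hom
  s := (snd G X).left
  t := a.act.left
  e := (eO (G := G) (X := X)).left
  i := (iO a).left
  c := cAct a
  s_over := Over.w (snd G X)
  t_over := Over.w a.act
  comp_s := fun {T} α β h => by
    have hβ := hom_of_s_t a _ α β h rfl
    rw [lift_cAct a _ α β h rfl hβ, ← Over.comp_left, cmpO_snd]
    rfl
  comp_t := fun {T} α β h => by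
    have hβ := hom_of_s_t a _ α β h rfl
    rw [lift_cAct a _ α β h rfl hβ, ← Over.comp_left, comp_act, cmpO_fst, cmpO_snd, ac_mul,
      ← comp_act a (toO _ β hβ)]
    have hh : toO _ β hβ ≫ a.act = toO (α ≫ (G ⊗ X).hom) α rfl ≫ snd G X := by
      apply Over.OverMorphism.ext
      exact h.symm
    rw [hh, ← comp_act]
    rfl
  assoc := fun {T} α β δ h₁ h₂ => by
    have hβ := hom_of_s_t a _ α β h₁ rfl
    have hδ := hom_of_s_t a _ β δ h₂ hβ
    have hc1 : (pullback.lift α β h₁ ≫ cAct a) ≫ (G ⊗ X).hom = α ≫ (G ⊗ X).hom := by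
      rw [lift_cAct a _ α β h₁ rfl hβ]
      exact Over.w _
    have hc2 : (pullback.lift β δ h₂ ≫ cAct a) ≫ (G ⊗ X).hom = α ≫ (G ⊗ X).hom := by
      rw [lift_cAct a _ β δ h₂ hβ hδ]
      exact Over.w _
    rw [lift_cAct a _ _ δ _ hc1 hδ, lift_cAct a _ α _ _ rfl hc2,
      toO_lift_cAct a _ α β h₁ rfl hβ hc1, toO_lift_cAct a _ β δ h₂ hβ hδ hc2, cmpO_assoc]
  e_s := by rw [← Over.comp_left]; unfold eO; rw [lift_snd]; rfl
  e_t := by
    rw [← Over.comp_left, comp_act]
    unfold eO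
    rw [lift_fst, lift_snd, ← Hom.one_def, ac_one]; rfl
  comp_e := fun {T} α => by
    have hε : (α ≫ (snd G X).left ≫ (eO (G := G) (X := X)).left) ≫ (G ⊗ X).hom =
        α ≫ (G ⊗ X).hom := by
      rw [Category.assoc, Category.assoc, Over.w, Over.w]
    rw [lift_cAct a _ α _ _ rfl hε]
    have : toO (α ≫ (G ⊗ X).hom) (α ≫ (snd G X).left ≫ (eO (G := G) (X := X)).left) hε =
        toO (α ≫ (G ⊗ X).hom) α rfl ≫ snd G X ≫ eO := by
      apply Over.OverMorphism.ext
      rfl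
    rw [this, cmpO_eO]
    rfl
  e_comp := fun {T} α => by
    have hε : (α ≫ a.act.left ≫ (eO (G := G) (X := X)).left) ≫ (G ⊗ X).hom =
        α ≫ (G ⊗ X).hom := by
      rw [Category.assoc, Category.assoc, Over.w, Over.w]
    rw [lift_cAct a _ _ α _ hε rfl]
    have : toO (α ≫ (G ⊗ X).hom) (α ≫ a.act.left ≫ (eO (G := G) (X := X)).left) hε =
        toO (α ≫ (G ⊗ X).hom) α rfl ≫ a.act ≫ eO := by
      apply Over.OverMorphism.ext
      rfl
    rw [this, eO_cmpO]
    rfl
  i_s := by rw [← Over.comp_left]; unfold iO; rw [lift_snd]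
  i_t := by
    rw [← Over.comp_left, comp_act]
    unfold iO
    rw [lift_fst, lift_snd]
    conv_lhs => rw [act_eq a]
    rw [← ac_mul, inv_mul_cancel, ac_one]
  comp_i := fun {T} α => by
    have hι : (α ≫ (iO a).left) ≫ (G ⊗ X).hom = α ≫ (G ⊗ X).hom := by
      rw [Category.assoc, Over.w]
    rw [lift_cAct a _ α _ _ rfl hι]
    have : toO (α ≫ (G ⊗ X).hom) (α ≫ (iO a).left) hι =
        toO (α ≫ (G ⊗ X).hom) α rfl ≫ iO a := by
      apply Over.OverMorphism.ext
      rfl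
    rw [this, cmpO_iO]
    rfl
  i_comp := fun {T} α => by
    have hι : (α ≫ (iO a).left) ≫ (G ⊗ X).hom = α ≫ (G ⊗ X).hom := by
      rw [Category.assoc, Over.w]
    rw [lift_cAct a _ _ α _ hι rfl]
    have : toO (α ≫ (G ⊗ X).hom) (α ≫ (iO a).left) hι =
        toO (α ≫ (G ⊗ X).hom) α rfl ≫ iO a := by
      apply Over.OverMorphism.ext
      rfl
    rw [this, iO_cmpO]
    rfl

end Groth.Agent.Lib.Helper4.ActGrpd
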