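import Mathlib
import Groth.Prelude.Def_AlgSp
import Groth.Prelude.Def_Mor2
import Groth.Agent.Lib.Helper4.GrpdQuotMain
import Groth.Agent.Lib.Helper14.RepSh6
import Groth.Agent.S1881

/-!
# Finite locally free equivalence relations: the quotient scheme is the fppf quotient sheaf
(general, non-affine case; Stacks 03JE / 07S7-type statement)
-/

set_option backward.isDefEq.respectTransparency false
set_option autoImplicit false
set_option linter.style.haveILetI false
set_option linter.unusedSectionVars false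

universe u
open CategoryTheory CategoryTheory.Limits AlgebraicGeometry

namespace Groth.Agent.Lib.Helper4.GrpdQuotSheaf2

open Groth.Agent.Lib.Helper4.GrpdBC Groth.Agent.Lib.Helper4.GrpdQuotMain
  Groth.Agent.Lib.Helper14.RepSh

variable {S : Scheme.{u}} (G : Grpd.GroupoidScheme S)

theorem jMono_of_isEqvRel
    (heq : AlgSp.IsEqvRel (Over.homMk G.s G.s_over : Over.mk G.pR ⟶ Over.mk G.pU)
      (Over.homMk G.t G.t_over : Over.mk G.pR ⟶ Over.mk G.pU)) : JMono G := by
  intro T a b ht hs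
  have hab : a ≫ G.pR = b ≫ G.pR := by
    rw [← G.t_over, ← Category.assoc, ht, Category.assoc]
  let a' : Over.mk (a ≫ G.pR) ⟶ Over.mk G.pR := Over.homMk a rfl
  let b' : Over.mk (a ≫ G.pR) ⟶ Over.mk G.pR := Over.homMk b hab.symm
  have h := heq.injective (Over.mk (a ≫ G.pR)) a' b'
    (by ext; exact ht) (by ext; exact hs)
  exact congrArg (fun f => f.left) h

/-- If every nonempty closed subset contains a point whose orbit lies in an affine open, then
every orbit lies in an (invariant) affine open. -/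
theorem haff_of_closed [IsFinite G.s] [Flat G.s] [LocallyOfFinitePresentation G.s]
    [IsFinite G.t] [Flat G.t] [LocallyOfFinitePresentation G.t]
    (h3 : ∀ Z : Set ↥G.U, IsClosed Z → Z.Nonempty →
      ∃ u ∈ Z, ∃ W : G.U.Opens, IsAffineOpen W ∧ ∀ r : ↥G.R, G.s r = u → G.t r ∈ W)
    (x : G.U) : ∃ V : G.U.Opens, IsAffineOpen V ∧
      G.t.base '' (G.s.base ⁻¹' {x}) ⊆ (V : Set G.U) := by
  -- the union of the invariant affine opens
  let Wtot : G.U.Opens := sSup {W : G.U.Opens | IsAffineOpen W ∧ G.s ⁻¹ᵁ W = G.t ⁻¹ᵁ W}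
  have hall : ∀ y : G.U, y ∈ Wtot := by
    by_contra hne
    push Not at hne
    obtain ⟨y, hy⟩ := hne
    have hcl : IsClosed ((Wtot : Set G.U)ᶜ) := Wtot.isOpen.isClosed_compl
    obtain ⟨u, hu, W, hW, hWu⟩ := h3 _ hcl ⟨y, hy⟩
    obtain ⟨W', hW', huW', hinv⟩ := Groth.Agent.S1881.result S G u W hW hWu
    apply hu
    exact TopologicalSpace.Opens.mem_sSup.mpr ⟨W', ⟨hW', hinv⟩, huW'⟩
  obtain ⟨W, ⟨hW, hinv⟩, hxW⟩ := TopologicalSpace.Opens.mem_sSup.mp (hall x)
  refine ⟨W, hW, ?_⟩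
  rintro _ ⟨r, hr, rfl⟩
  have hr' : G.s r = x := hr
  have h1 : r ∈ G.s ⁻¹ᵁ W := by
    show G.s r ∈ W
    rw [hr']
    exact hxW
  rw [hinv] at h1
  exact h1

/-- Stacks 03JE-type statement (SGA 3 V 4.1 with the sheaf quotient). -/
theorem exists_quotient_sheaf (hs : Mor2.IsFinLocFree G.s) (ht : Mor2.IsFinLocFree G.t)
    (heq : AlgSp.IsEqvRel (Over.homMk G.s G.s_over : Over.mk G.pR ⟶ Over.mk G.pU)
      (Over.homMk G.t G.t_over : Over.mk G.pR ⟶ Over.mk G.pU))
    (h3 : ∀ Z : Set ↥G.U, IsClosed Z → Z.Nonempty →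
      ∃ u ∈ Z, ∃ W : G.U.Opens, IsAffineOpen W ∧ ∀ r : ↥G.R, G.s r = u → G.t r ∈ W) :
    ∃ (M : Over S) (m : Over.mk G.pU ⟶ M), Mor2.IsFinLocFree m.left ∧
      IsPullback G.t G.s m.left m.left ∧
      QuotSh.IsQuotient Scheme.fppfPrecoverage
        (Over.homMk G.s G.s_over : Over.mk G.pR ⟶ Over.mk G.pU)
        (Over.homMk G.t G.t_over : Over.mk G.pR ⟶ Over.mk G.pU) m := by
  obtain ⟨hs1, hs2, hs3⟩ := hs
  obtain ⟨ht1, ht2, ht3⟩ := ht
  have hJ := jMono_of_isEqvRel G heq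
  obtain ⟨Y, q, w, hdesc, -, -, -, hsurj, -, -, -, -, hmono⟩ :=
    exists_quotient G (haff_of_closed G h3)
  obtain ⟨hfin, hflat, hlfp, hiso⟩ := hmono hJ
  obtain ⟨πY, hπ⟩ := hdesc S G.pU (G.s_over.trans G.t_over.symm)
  have hpb : IsPullback G.t G.s q q :=
    IsPullback.of_iso_pullback ⟨w.symm⟩ (asIso (pullback.lift G.t G.s w.symm))
      (pullback.lift_fst _ _ _) (pullback.lift_snd _ _ _)
  refine ⟨Over.mk πY, Over.homMk q hπ, ⟨hfin, hflat, hlfp⟩, hpb, ?_⟩
  have hk : IsKernelPair (Over.homMk q hπ : Over.mk G.pU ⟶ Over.mk πY)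
      (Over.homMk G.s G.s_over : Over.mk G.pR ⟶ Over.mk G.pU)
      (Over.homMk G.t G.t_over : Over.mk G.pR ⟶ Over.mk G.pU) := by
    apply isPullback_over_of_left
    · ext
      exact hpb.w.symm
    · exact hpb.flip
  haveI : Flat (Over.homMk q hπ : Over.mk G.pU ⟶ Over.mk πY).left := hflat
  haveI : LocallyOfFinitePresentation (Over.homMk q hπ : Over.mk G.pU ⟶ Over.mk πY).left := hlfp
  haveI : Surjective (Over.homMk q hπ : Over.mk G.pU ⟶ Over.mk πY).left := hsurj
  haveI := epi_repMap_fppf (Over.homMk q hπ : Over.mk G.pU ⟶ Over.mk πY)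
  exact isQuotient_of_isKernelPair Scheme.fppfPrecoverage _ _ _ hk

end Groth.Agent.Lib.Helper4.GrpdQuotSheaf2
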