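import Mathlib
import Groth.Prelude.Def_Grpd
import Groth.Prelude.Def_AlgGrp
import Groth.Prelude.Def_NonAbH2
import Groth.Agent.Lib.Helper4.ActGrpd
import Groth.Agent.Lib.Helper4.GrpdQuotSheaf2
import Groth.Agent.Lib.Helper12.FiniteAvoid

/-!
# Quotient of a scheme by a free action of a finite locally free group scheme (helper4)

SGA 3 V Théorème 4.1 for group actions, deduced from the groupoid version
`GrpdQuotSheaf2.exists_quotient_sheaf` applied to the action groupoid.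
-/

set_option backward.isDefEq.respectTransparency false
set_option autoImplicit false
set_option linter.style.haveILetI false
set_option linter.unusedSectionVars false

universe u
open CategoryTheory CategoryTheory.Limits AlgebraicGeometry MonoidalCategory
  CartesianMonoidalCategory MonObj GrpObj

namespace Groth.Agent.Lib.Helper4.ActGrpdQuot

open Groth.Agent.Lib.Helper4.ActGrpd

variable {S : Scheme.{u}} {G X : Over S} [GrpObj G] (a : AlgGrp.Action G X)

theorem isFinLocFree_s (hG : Mor2.IsFinLocFree G.hom) : Mor2.IsFinLocFree (actGrpd a).s := by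
  obtain ⟨h1, h2, h3⟩ := hG
  show Mor2.IsFinLocFree (pullback.snd G.hom X.hom)
  exact ⟨inferInstance, inferInstance, inferInstance⟩

theorem isFinLocFree_t (hG : Mor2.IsFinLocFree G.hom) : Mor2.IsFinLocFree (actGrpd a).t := by
  obtain ⟨h1, h2, h3⟩ := isFinLocFree_s a hG
  exact ⟨@GrpdQuotMain.isFinite_t S (actGrpd a) h1, @GrpdQuotMain.flat_t S (actGrpd a) h2,
    @GrpdQuotMain.lfp_t S (actGrpd a) h3⟩

theorem rel_refl {T : Over S} (x : T ⟶ X) :
    ∃ r : T ⟶ G ⊗ X, r ≫ a.act = x ∧ r ≫ snd G X = x := by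
  refine ⟨lift 1 x, ?_, lift_snd _ _⟩
  have := ac_one a x
  unfold ac at this
  exact this

theorem rel_symm {T : Over S} (x y : T ⟶ X)
    (h : ∃ r : T ⟶ G ⊗ X, r ≫ a.act = x ∧ r ≫ snd G X = y) :
    ∃ r : T ⟶ G ⊗ X, r ≫ a.act = y ∧ r ≫ snd G X = x := by
  obtain ⟨r, h1, h2⟩ := h
  refine ⟨lift ((r ≫ fst G X)⁻¹) x, ?_, lift_snd _ _⟩
  have : ac a ((r ≫ fst G X)⁻¹) x = y := by
    rw [← h1, comp_act, ← ac_mul, inv_mul_cancel, ac_one, h2]
  unfold ac at this
  exact this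

theorem rel_trans {T : Over S} (x y z : T ⟶ X)
    (h : ∃ r : T ⟶ G ⊗ X, r ≫ a.act = x ∧ r ≫ snd G X = y)
    (h' : ∃ r : T ⟶ G ⊗ X, r ≫ a.act = y ∧ r ≫ snd G X = z) :
    ∃ r : T ⟶ G ⊗ X, r ≫ a.act = x ∧ r ≫ snd G X = z := by
  obtain ⟨r, h1, h2⟩ := h
  obtain ⟨r', h1', h2'⟩ := h'
  refine ⟨lift ((r ≫ fst G X) * (r' ≫ fst G X)) z, ?_, lift_snd _ _⟩
  have : ac a ((r ≫ fst G X) * (r' ≫ fst G X)) z = x := by
    rw [ac_mul, ← h2', ← comp_act, h1', ← h2, ← comp_act, h1]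
  unfold ac at this
  exact this

theorem rel_inj
    (hfree : ∀ (T : Over S) (g : T ⟶ G) (x : T ⟶ X), lift g x ≫ a.act = x → g = toUnit T ≫ η[G])
    {T : Over S} (r r' : T ⟶ G ⊗ X) (ht : r ≫ a.act = r' ≫ a.act)
    (hs : r ≫ snd G X = r' ≫ snd G X) : r = r' := by
  have hfree' : ∀ (T : Over S) (g : T ⟶ G) (x : T ⟶ X), ac a g x = x → g = 1 := by
    intro T g x h
    rw [hfree T g x h, Hom.one_def]
  rw [comp_act, comp_act, ← hs] at ht
  have h1 : ac a ((r' ≫ fst G X)⁻¹ * (r ≫ fst G X)) (r ≫ snd G X) = r ≫ snd G X := by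
    rw [ac_mul, ht, ← ac_mul, inv_mul_cancel, ac_one]
  have h2 := hfree' T _ _ h1
  have h3 : r ≫ fst G X = r' ≫ fst G X := by
    have := congrArg (fun z => (r' ≫ fst G X) * z) h2
    simpa using this
  apply CartesianMonoidalCategory.hom_ext
  · exact h3
  · exact hs

theorem isEqvRel
    (hfree : ∀ (T : Over S) (g : T ⟶ G) (x : T ⟶ X), lift g x ≫ a.act = x → g = toUnit T ≫ η[G]) :
    AlgSp.IsEqvRel (snd G X) a.act := by
  refine ⟨?_, ?_⟩
  · intro T r r' ht hs
    exact rel_inj a hfree r r' ht hs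
  · intro T
    exact ⟨fun x => rel_refl a x, fun {x y} h => rel_symm a x y h,
      fun {x y z} h h' => rel_trans a x y z h h'⟩

section general

variable (H : Grpd.GroupoidScheme S)

/-- pointwise equation `pU (t r) = pU (s r)` -/
theorem hom_t_eq (r : H.R) : H.pU (H.t r) = H.pU (H.s r) := by
  have h1 : H.t ≫ H.pU = H.s ≫ H.pU := H.t_over.trans H.s_over.symm
  rw [← Scheme.Hom.comp_apply, ← Scheme.Hom.comp_apply, h1]

/-- case A: `U ⟶ S` affine -/
theorem orbit_affine_A [IsAffineHom H.pU] (x : H.U) :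
    ∃ W : H.U.Opens, IsAffineOpen W ∧ ∀ r : H.R, H.s r = x → H.t r ∈ W := by
  obtain ⟨_, ⟨V, hV : IsAffineOpen V, rfl⟩, hxV, -⟩ :=
    S.isBasis_affineOpens.exists_subset_of_mem_open
      (Set.mem_univ (H.pU x)) isOpen_univ
  refine ⟨H.pU ⁻¹ᵁ V, hV.preimage H.pU, ?_⟩
  intro r hr
  show H.pU (H.t r) ∈ V
  rw [hom_t_eq, hr]
  exact hxV

/-- the orbit of a point is finite -/
theorem orbit_finite [IsFinite H.s] (x : H.U) : (H.t '' (H.s ⁻¹' {x})).Finite :=
  (Scheme.Hom.finite_preimage_singleton H.s x).image _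

/-- case B: `U` open in an affine scheme -/
theorem orbit_affine_B [IsFinite H.s] {R : CommRingCat.{u}}
    (i : H.U ⟶ Spec R) [IsOpenImmersion i] (x : H.U) :
    ∃ W : H.U.Opens, IsAffineOpen W ∧ ∀ r : H.R, H.s r = x → H.t r ∈ W := by
  have hfin := orbit_finite H x
  obtain ⟨g, hg1, hg2⟩ :=
    Groth.Agent.Lib.Helper12.FiniteAvoid.exists_basicOpen_of_finite (isAffineOpen_top (Spec R))
      (i '' (H.t '' (H.s ⁻¹' {x}))) (hfin.image _)
      ((Set.range i)ᶜ) (by
        rw [isClosed_compl_iff]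
        exact i.isOpenEmbedding.isOpen_range)
      (by
        rintro _ ⟨y, -, rfl⟩ h
        exact h ⟨y, rfl⟩)
  have hle : (Spec R).basicOpen g ≤ i.opensRange := by
    intro y hy
    by_contra h
    exact hg2 y hy h
  refine ⟨i ⁻¹ᵁ (Spec R).basicOpen g,
    ((isAffineOpen_top (Spec R)).basicOpen g).preimage_of_isOpenImmersion i hle, ?_⟩
  intro r hr
  exact hg1 _ ⟨_, ⟨r, hr, rfl⟩, rfl⟩ trivial

/-- case C: `s` universally injective -/
theorem orbit_affine_C [UniversallyInjective H.s] (x : H.U) :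
    ∃ W : H.U.Opens, IsAffineOpen W ∧ ∀ r : H.R, H.s r = x → H.t r ∈ W := by
  obtain ⟨_, ⟨V, hV : IsAffineOpen V, rfl⟩, hxV, -⟩ :=
    H.U.isBasis_affineOpens.exists_subset_of_mem_open
      (Set.mem_univ x) isOpen_univ
  refine ⟨V, hV, ?_⟩
  intro r hr
  have h1 : H.s (H.e x) = x := by
    rw [← Scheme.Hom.comp_apply, H.e_s]
    rfl
  have h2 : r = H.e x := H.s.injective (hr.trans h1.symm)
  rw [h2, ← Scheme.Hom.comp_apply, H.e_t]
  exact hxV

end general

theorem orbit_affine (hG : Mor2.IsFinLocFree G.hom)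
    (h3 : IsAffineHom X.hom ∨ (∃ (R : CommRingCat.{u}) (i : X.left ⟶ Spec R), IsOpenImmersion i) ∨
      UniversallyInjective G.hom) (x : (actGrpd a).U) :
    ∃ W : (actGrpd a).U.Opens, IsAffineOpen W ∧
      ∀ r : (actGrpd a).R, (actGrpd a).s r = x → (actGrpd a).t r ∈ W := by
  rcases h3 with h | ⟨R, i, hi⟩ | h
  · haveI : IsAffineHom (actGrpd a).pU := h
    exact orbit_affine_A _ x
  · obtain ⟨h1, h2, h3⟩ := isFinLocFree_s a hG
    exact @orbit_affine_B S (actGrpd a) h1 R i hi x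
  · haveI : UniversallyInjective (actGrpd a).s := by
      show UniversallyInjective (pullback.snd G.hom X.hom)
      exact MorphismProperty.pullback_snd (P := @UniversallyInjective) _ _ h
    exact orbit_affine_C _ x

section general2

open Groth.Agent.Lib.Helper4.GrpdBC Groth.Agent.Lib.Helper4.GrpdQuotMain
  Groth.Agent.Lib.Helper14.RepSh Groth.Agent.Lib.Helper4.GrpdQuotSheaf2

variable (H : Grpd.GroupoidScheme S)

/-- variant of `GrpdQuotSheaf2.exists_quotient_sheaf` also recording surjectivity of the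
quotient map. -/
theorem exists_quotient_sheaf' (hs : Mor2.IsFinLocFree H.s) (ht : Mor2.IsFinLocFree H.t)
    (heq : AlgSp.IsEqvRel (Over.homMk H.s H.s_over : Over.mk H.pR ⟶ Over.mk H.pU)
      (Over.homMk H.t H.t_over : Over.mk H.pR ⟶ Over.mk H.pU))
    (haff : ∀ x : H.U, ∃ V : H.U.Opens, IsAffineOpen V ∧
      H.t.base '' (H.s.base ⁻¹' {x}) ⊆ (V : Set H.U)) :
    ∃ (M : Over S) (m : Over.mk H.pU ⟶ M), Mor2.IsFinLocFree m.left ∧ Surjective m.left ∧
      IsPullback H.t H.s m.left m.left ∧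
      QuotSh.IsQuotient Scheme.fppfPrecoverage
        (Over.homMk H.s H.s_over : Over.mk H.pR ⟶ Over.mk H.pU)
        (Over.homMk H.t H.t_over : Over.mk H.pR ⟶ Over.mk H.pU) m := by
  obtain ⟨hs1, hs2, hs3⟩ := hs
  obtain ⟨ht1, ht2, ht3⟩ := ht
  have hJ := jMono_of_isEqvRel H heq
  obtain ⟨Y, q, w, hdesc, -, -, -, hsurj, -, -, -, -, hmono⟩ := exists_quotient H haff
  obtain ⟨hfin, hflat, hlfp, hiso⟩ := hmono hJ
  obtain ⟨πY, hπ⟩ := hdesc S H.pU (H.s_over.trans H.t_over.symm)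
  have hpb : IsPullback H.t H.s q q :=
    IsPullback.of_iso_pullback ⟨w.symm⟩ (asIso (pullback.lift H.t H.s w.symm))
      (pullback.lift_fst _ _ _) (pullback.lift_snd _ _ _)
  refine ⟨Over.mk πY, Over.homMk q hπ, ⟨hfin, hflat, hlfp⟩, hsurj, hpb, ?_⟩
  have hk : IsKernelPair (Over.homMk q hπ : Over.mk H.pU ⟶ Over.mk πY)
      (Over.homMk H.s H.s_over : Over.mk H.pR ⟶ Over.mk H.pU)
      (Over.homMk H.t H.t_over : Over.mk H.pR ⟶ Over.mk H.pU) := by
    apply isPullback_over_of_left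
    · ext
      exact hpb.w.symm
    · exact hpb.flip
  haveI : Flat (Over.homMk q hπ : Over.mk H.pU ⟶ Over.mk πY).left := hflat
  haveI : LocallyOfFinitePresentation (Over.homMk q hπ : Over.mk H.pU ⟶ Over.mk πY).left := hlfp
  haveI : Surjective (Over.homMk q hπ : Over.mk H.pU ⟶ Over.mk πY).left := hsurj
  haveI := epi_repMap_fppf (Over.homMk q hπ : Over.mk H.pU ⟶ Over.mk πY)
  exact isQuotient_of_isKernelPair Scheme.fppfPrecoverage _ _ _ hk

end general2

/-- **SGA 3 V Théorème 4.1** for free actions of finite locally free group schemes. -/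
theorem main (hG : Mor2.IsFinLocFree G.hom)
    (hfree : ∀ (T : Over S) (g : T ⟶ G) (x : T ⟶ X), lift g x ≫ a.act = x → g = toUnit T ≫ η[G])
    (h3 : IsAffineHom X.hom ∨ (∃ (R : CommRingCat.{u}) (i : X.left ⟶ Spec R), IsOpenImmersion i) ∨
      UniversallyInjective G.hom) :
    ∃ (M : Over S) (q : X ⟶ M), QuotSh.IsQuotient Scheme.fppfPrecoverage (snd G X) a.act q ∧
      IsPullback a.act.left (snd G X).left q.left q.left ∧
      NonAbH1.IsLocallyTrivialFor Scheme.fppfPrecoverage (Over.mk q.left) := by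
  obtain ⟨M, m, ⟨hm1, hm2, hm3⟩, hsurj, hpb, hq⟩ :=
    exists_quotient_sheaf' (actGrpd a) (isFinLocFree_s a hG) (isFinLocFree_t a hG)
      (isEqvRel a hfree) (fun u => by
        obtain ⟨W, hW, h⟩ := orbit_affine a hG h3 u
        refine ⟨W, hW, ?_⟩
        rintro _ ⟨r, hr, rfl⟩
        exact h r hr)
  refine ⟨M, m, hq, hpb, ?_⟩
  refine ⟨Presieve.singleton m.left, Scheme.Hom.singleton_mem_fppfPrecoverage m.left, ?_⟩
  rintro S' f ⟨⟩
  exact ⟨𝟙 _, Category.id_comp _⟩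

end Groth.Agent.Lib.Helper4.ActGrpdQuot
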