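import Mathlib
import Groth.Prelude.Def_ChGrp
import Groth.Agent.Lib.Helper4.TorsorGeomQuot

/-!
# Points calculus for actions: small general lemmas (helper4)

* `isPullback_of_pts`: a commutative square with existence and uniqueness of lifts on points is cartesian.
* `act_cancel`: `g • a = g • b → a = b`.
* `isLocallyTrivialFor_of_lift`: transport of local sections along a "lifting" of sections.
* `isLocallyTrivialFor_of_lift_over`: the same with the lifting hypothesis spelled in `Over S`.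
-/

set_option autoImplicit false
universe u
open CategoryTheory CategoryTheory.Limits MonoidalCategory CartesianMonoidalCategory MonObj GrpObj AlgebraicGeometry

namespace Groth.Agent.Lib.Helper4.ActPts4

theorem isPullback_of_pts {C : Type*} [Category C] {P X Y Z : C} {fst : P ⟶ X} {snd : P ⟶ Y}
    {f : X ⟶ Z} {g : Y ⟶ Z} (w : fst ≫ f = snd ≫ g)
    (hex : ∀ {T : C} (s : T ⟶ X) (t : T ⟶ Y), s ≫ f = t ≫ g → ∃ l : T ⟶ P, l ≫ fst = s ∧ l ≫ snd = t)
    (huniq : ∀ {T : C} (l l' : T ⟶ P), l ≫ fst = l' ≫ fst → l ≫ snd = l' ≫ snd → l = l') :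
    IsPullback fst snd f g := by
  refine ⟨⟨w⟩, ⟨Limits.PullbackCone.IsLimit.mk w
    (fun s => (hex s.fst s.snd s.condition).choose)
    (fun s => (hex s.fst s.snd s.condition).choose_spec.1)
    (fun s => (hex s.fst s.snd s.condition).choose_spec.2)
    (fun s m h1 h2 => huniq _ _
      (h1.trans (hex s.fst s.snd s.condition).choose_spec.1.symm)
      (h2.trans (hex s.fst s.snd s.condition).choose_spec.2.symm))⟩⟩

theorem exists_lift₂ {C : Type*} [Category C] [CartesianMonoidalCategory C] {T A B : C} (t : T ⟶ A ⊗ B) :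
    ∃ (a : T ⟶ A) (b : T ⟶ B), t = lift a b :=
  ⟨t ≫ fst A B, t ≫ snd A B, by
    apply CartesianMonoidalCategory.hom_ext
    · rw [lift_fst]
    · rw [lift_snd]⟩

theorem exists_lift₃ {C : Type*} [Category C] [CartesianMonoidalCategory C] {T A B D : C} (t : T ⟶ A ⊗ (B ⊗ D)) :
    ∃ (a : T ⟶ A) (b : T ⟶ B) (c : T ⟶ D), t = lift a (lift b c) := by
  obtain ⟨a, p, rfl⟩ := exists_lift₂ t
  obtain ⟨b, c, rfl⟩ := exists_lift₂ p
  exact ⟨a, b, c, rfl⟩

variable {S : Scheme.{u}}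

/-- `g • a = g • b → a = b`. -/
theorem act_cancel {G X : Over S} [GrpObj G] (a : AlgGrp.Action G X) {T : Over S} (g : T ⟶ G) (x y : T ⟶ X)
    (h : lift g x ≫ a.act = lift g y ≫ a.act) : x = y := by
  have e : ∀ w : T ⟶ X, lift g⁻¹ (lift g w ≫ a.act) ≫ a.act = w := by
    intro w
    rw [← AlgGrp.Action.lift_mul_act, inv_mul_cancel, AlgGrp.Action.lift_one_act]
  rw [← e x, h, e y]

/-- If `φ` has sections `K`-locally and every section of `φ` over `T ⟶ Y' ⟶ Y` gives a section of `φ'` over `T ⟶ Y'`, then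
`φ'` has sections `K`-locally. -/
theorem isLocallyTrivialFor_of_lift (K : Precoverage Scheme.{u}) [K.IsStableUnderBaseChange]
    {X Y X' Y' : Scheme.{u}} {φ : X ⟶ Y} {φ' : X' ⟶ Y'} (g : Y' ⟶ Y)
    (hloc : NonAbH1.IsLocallyTrivialFor K (Over.mk φ : Over Y))
    (hlift : ∀ (T : Scheme.{u}) (t : T ⟶ Y') (s : T ⟶ X), s ≫ φ = t ≫ g → ∃ s' : T ⟶ X', s' ≫ φ' = t) :
    NonAbH1.IsLocallyTrivialFor K (Over.mk φ' : Over Y') := by
  obtain ⟨R, hR, hsec⟩ := hloc
  obtain ⟨𝒰, rfl⟩ := R.exists_eq_preZeroHypercover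
  choose s hs using fun i => hsec (𝒰.f i) (Presieve.ofArrows.mk i)
  have hs' : ∀ i, s i ≫ φ = 𝒰.f i := hs
  have hmem : Presieve.ofArrows (fun i => pullback g (𝒰.f i)) (fun i => pullback.fst g (𝒰.f i)) ∈ K Y' :=
    Precoverage.mem_coverings_of_isPullback 𝒰.f hR g _ (fun i => pullback.snd g (𝒰.f i))
      (fun i => IsPullback.of_hasPullback g (𝒰.f i))
  refine ⟨_, hmem, ?_⟩
  rintro T f ⟨i⟩
  obtain ⟨s', hs''⟩ := hlift _ (pullback.fst g (𝒰.f i)) (pullback.snd g (𝒰.f i) ≫ s i) (by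
    rw [Category.assoc, hs', pullback.condition])
  exact ⟨s', hs''⟩

/-- The same for morphisms of `Over S`, with the lifting hypothesis on points in `Over S`. -/
theorem isLocallyTrivialFor_of_lift_over (K : Precoverage Scheme.{u}) [K.IsStableUnderBaseChange]
    {X Y X' Y' : Over S} {φ : X ⟶ Y} {φ' : X' ⟶ Y'} (g : Y' ⟶ Y)
    (hloc : NonAbH1.IsLocallyTrivialFor K (Over.mk φ.left : Over Y.left))
    (hlift : ∀ (T : Over S) (t : T ⟶ Y') (s : T ⟶ X), s ≫ φ = t ≫ g → ∃ s' : T ⟶ X', s' ≫ φ' = t) :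
    NonAbH1.IsLocallyTrivialFor K (Over.mk φ'.left : Over Y'.left) := by
  refine isLocallyTrivialFor_of_lift K g.left hloc ?_
  intro T t s hst
  have hs : s ≫ X.hom = t ≫ Y'.hom := by
    rw [← Over.w φ, ← Category.assoc, hst, Category.assoc, Over.w g]
  obtain ⟨s', hs'⟩ := hlift (Over.mk (t ≫ Y'.hom)) (Over.homMk t rfl) (Over.homMk s hs) (by
    ext; exact hst)
  exact ⟨s'.left, congrArg (fun m => m.left) hs'⟩

end Groth.Agent.Lib.Helper4.ActPts4
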