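import Groth.Agent.Lib.Helper1.MonoRepB
import Groth.Agent.Lib.Helper5.AlgSpFibreProduct
import Groth.Agent.Lib.Helper15.AlgSpDiag

/-!
# Gluing algebraic spaces along open subsheaves (helper4), part 1: the diagonal

`F` an fppf sheaf over `S` with monomorphisms `j i : Fi i ⟶ F` from algebraic spaces which are open
(`O i ξ` is the open locus of `T` where `ξ : h_T ⟶ F` factors through `j i`) and jointly cover.  Then the diagonal of
`F` is representable (`representable_diag`).
-/

set_option backward.isDefEq.respectTransparency false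
set_option autoImplicit false
set_option linter.unusedSectionVars false
set_option linter.unusedVariables false
set_option linter.style.haveILetI false

universe u

open CategoryTheory CategoryTheory.Limits AlgebraicGeometry Opposite

namespace Groth.Agent.Lib.Helper4.AlgSpGlue

open AlgSp Groth.Agent.Lib.Helper14.AlgSpQuot Groth.Agent.H1.MonoRep Groth.Agent.H1.ZarRep

variable {S : Scheme.{u}}

/-- a subsheaf of `h_T`, pulled back from a monomorphism `f`, which is represented by a monomorphism of schemes gives a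
pullback square -/
theorem exists_isPullback_of_rep {F G : Sp S} (f : F ⟶ G) [Mono f] {T : Over S} (ξ : (yon S).obj T ⟶ G)
    {I : Over S} (j : I ⟶ T) [Mono j]
    (hiff : ∀ {Z : Over S} (z : Z ⟶ T), (∃ u : Z ⟶ I, u ≫ j = z) ↔
      ∃ s : (yon S).obj Z ⟶ pullback f ξ, s ≫ pullback.snd f ξ = (yon S).map z) :
    ∃ k : (yon S).obj I ⟶ F, IsPullback k ((yon S).map j) f ξ := by
  obtain ⟨s, hs⟩ := (hiff j).1 ⟨𝟙 _, Category.id_comp _⟩
  have sq : IsPullback (pullback.fst f ξ) (pullback.snd f ξ) f ξ := IsPullback.of_hasPullback _ _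
  haveI : Mono (pullback.snd f ξ) := inferInstance
  haveI : Mono ((yon S).map j) := inferInstance
  haveI : Mono s := by
    haveI : Mono (s ≫ pullback.snd f ξ) := by rw [hs]; infer_instance
    exact mono_of_mono s (pullback.snd f ξ)
  haveI : IsIso s := by
    apply isIso_of_mono_of_liftSieve
    intro Z η
    obtain ⟨z, hz⟩ := (yon S).map_surjective (η ≫ pullback.snd f ξ)
    obtain ⟨u, hu⟩ := (hiff z).2 ⟨η, hz.symm⟩
    have h1 : (yon S).map u ≫ s = η := by
      rw [← cancel_mono (pullback.snd f ξ), Category.assoc, hs, ← Functor.map_comp, hu, hz]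
    have h2 : liftSieve s η = ⊤ := by
      rw [← Sieve.id_mem_iff_eq_top]
      exact ⟨(yon S).map u, by rw [h1, (yon S).map_id, Category.id_comp]⟩
    rw [h2]
    exact (AlgSp.J S).top_mem _
  refine ⟨s ≫ pullback.fst f ξ, ?_⟩
  exact IsPullback.of_iso sq (asIso s).symm (Iso.refl _) (Iso.refl _) (Iso.refl _) (by simp)
    (by simp [hs]) (by simp) (by simp)

/-- the equalizer of two sections of an algebraic space over a scheme is a scheme, monomorphic and locally of finite
type over the base -/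
theorem exists_equalizer_lft {Y : Sp S} (hY : IsAlgSpace Y) {A : Over S} (u v : (yon S).obj A ⟶ Y) :
    ∃ (W : Over S) (w : W ⟶ A), Mono w ∧ LocallyOfFiniteType w.left ∧
      ∀ {Z : Over S} (z : Z ⟶ A), (∃ l : Z ⟶ W, l ≫ w = z) ↔
        (yon S).map z ≫ u = (yon S).map z ≫ v := by
  obtain ⟨W, w, fstW, sq⟩ := hY.diag (prod.lift u v)
  have h1 : fstW = (yon S).map w ≫ u := by
    have := congrArg (· ≫ prod.fst) sq.w
    simp only [Category.assoc] at this
    rw [prod.lift_fst] at this
    erw [prod.lift_fst] at this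
    rw [Category.comp_id] at this
    exact this
  have h2 : fstW = (yon S).map w ≫ v := by
    have := congrArg (· ≫ prod.snd) sq.w
    simp only [Category.assoc] at this
    rw [prod.lift_snd] at this
    erw [prod.lift_snd] at this
    rw [Category.comp_id] at this
    exact this
  have hlft : LocallyOfFiniteType w.left :=
    (Groth.Agent.Lib.helper15.AlgSpDiag.repWith_locallyOfFiniteType_diag Y hY).2 _ fstW w sq
  haveI : Mono ((yon S).map w) := sq.mono_snd_of_mono
  have hm : Mono w := (yon S).mono_of_mono_map inferInstance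
  refine ⟨W, w, hm, hlft, fun {Z} z => ⟨?_, ?_⟩⟩
  · rintro ⟨l, rfl⟩
    rw [Functor.map_comp, Category.assoc, Category.assoc, ← h1, ← h2]
  · intro hz
    obtain ⟨l', hl'⟩ : ∃ l' : (yon S).obj Z ⟶ (yon S).obj W, l' ≫ (yon S).map w = (yon S).map z := by
      refine ⟨sq.lift ((yon S).map z ≫ u) ((yon S).map z) ?_, sq.lift_snd _ _ _⟩
      apply Limits.prod.hom_ext <;> simp [hz]
    obtain ⟨l, rfl⟩ := (yon S).map_surjective l'
    exact ⟨l, (yon S).map_injective (by rw [Functor.map_comp, hl'])⟩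

section Glue

variable {F : Sp S} {ι : Type u} (Fi : ι → Sp S) (hFi : ∀ i, IsAlgSpace (Fi i)) (j : ∀ i, Fi i ⟶ F)
  [hj : ∀ i, Mono (j i)]
  (O : ∀ (i : ι) {T : Over S} (ξ : (yon S).obj T ⟶ F), T.left.Opens)
  (hO : ∀ (i : ι) {T : Over S} (ξ : (yon S).obj T ⟶ F) {T' : Over S} (c : T' ⟶ T),
    (∃ x : (yon S).obj T' ⟶ Fi i, x ≫ j i = (yon S).map c ≫ ξ) ↔
      Set.range c.left ⊆ (O i ξ : Set T.left))
  (hcov : ∀ {T : Over S} (ξ : (yon S).obj T ⟶ F) (t : T.left), ∃ i, t ∈ O i ξ)

include hO in
/-- lifting over an open contained in the open locus -/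
theorem exists_lift_ov (i : ι) {T : Over S} (ξ : (yon S).obj T ⟶ F) (V : T.left.Opens) (hV : V ≤ O i ξ) :
    ∃ x : (yon S).obj (ov T V) ⟶ Fi i, x ≫ j i = (yon S).map (ovι T V) ≫ ξ := by
  refine (hO i ξ (ovι T V)).2 ?_
  change Set.range V.ι ⊆ _
  rw [Scheme.Opens.range_ι]
  exact hV

include hO in
/-- the open locus is compatible with base change -/
theorem range_subset_comp_iff (i : ι) {T : Over S} (ξ : (yon S).obj T ⟶ F) {Z Z' : Over S} (z : Z ⟶ T)
    (c : Z' ⟶ Z) : Set.range (c ≫ z).left ⊆ (O i ξ : Set T.left) ↔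
      Set.range c.left ⊆ (O i ((yon S).map z ≫ ξ) : Set Z.left) := by
  rw [← hO i ξ (c ≫ z), ← hO i ((yon S).map z ≫ ξ) c, Functor.map_comp, Category.assoc]

/-- a morphism over `S` with range in an open factors through it -/
theorem exists_factor_ov {T Z : Over S} (z : Z ⟶ T) (V : T.left.Opens) (h : Set.range z.left ⊆ (V : Set T.left)) :
    ∃ v : Z ⟶ ov T V, v ≫ ovι T V = z := by
  let v₀ : Z.left ⟶ V.toScheme := IsOpenImmersion.lift V.ι z.left (by
    rw [Scheme.Opens.range_ι]
    exact h)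
  have hv₀ : v₀ ≫ V.ι = z.left := IsOpenImmersion.lift_fac _ _ _
  refine ⟨Over.homMk v₀ ?_, ?_⟩
  · change v₀ ≫ V.ι ≫ T.hom = Z.hom
    rw [← Category.assoc, hv₀, Over.w]
  · ext
    exact hv₀

include hFi hO hcov in
/-- **The diagonal of a sheaf covered by open algebraic subspaces is representable.** -/
theorem representable_diag : Representable (Limits.diag F) := by
  intro T ζ
  let η : (yon S).obj T ⟶ F := ζ ≫ prod.fst
  let η' : (yon S).obj T ⟶ F := ζ ≫ prod.snd
  haveI : Mono (Limits.diag F) := inferInstance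
  haveI : Mono (pullback.snd (Limits.diag F) ζ) := inferInstance
  have sq : IsPullback (pullback.fst (Limits.diag F) ζ) (pullback.snd (Limits.diag F) ζ) (Limits.diag F) ζ :=
    IsPullback.of_hasPullback _ _
  let A : SubPred T := SubPred.ofSheaf (pullback.snd (Limits.diag F) ζ)
  have hA : ∀ {Z : Over S} (z : Z ⟶ T), A.P z ↔ (yon S).map z ≫ η = (yon S).map z ≫ η' := by
    intro Z z
    constructor
    · rintro ⟨s, hs⟩
      have e1 : (s ≫ pullback.fst (Limits.diag F) ζ) ≫ Limits.diag F = (yon S).map z ≫ ζ := by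
        rw [Category.assoc, sq.w, ← Category.assoc, hs]
      have e2 := congrArg (· ≫ prod.fst) e1
      have e3 := congrArg (· ≫ prod.snd) e1
      simp only [Category.assoc, Limits.diag, prod.lift_fst, prod.lift_snd, Category.comp_id] at e2 e3
      exact e2.symm.trans e3
    · intro h
      refine ⟨pullback.lift ((yon S).map z ≫ η) ((yon S).map z) ?_, pullback.lift_snd _ _ _⟩
      apply Limits.prod.hom_ext
      · simp [η]
      · simp [η', h]
  -- the pieces
  have hpiece : ∀ i, ∃ (W : Over S) (w : W ⟶ T), Mono w ∧ LocallyOfFiniteType w.left ∧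
      ∀ {Z : Over S} (z : Z ⟶ T), (∃ l : Z ⟶ W, l ≫ w = z) ↔
        (A.P z ∧ Set.range z.left ⊆ (O i η : Set T.left)) := by
    intro i
    let Oi : T.left.Opens := O i η ⊓ O i η'
    obtain ⟨x, hx⟩ := exists_lift_ov Fi j O hO i η Oi inf_le_left
    obtain ⟨x', hx'⟩ := exists_lift_ov Fi j O hO i η' Oi inf_le_right
    obtain ⟨W, w, hwm, hwl, hwiff⟩ := exists_equalizer_lft (hFi i) x x'
    haveI : Mono (ovι T Oi) := by
      haveI : Mono (ovι T Oi).left := inferInstanceAs (Mono Oi.ι)
      exact Over.mono_of_mono_left _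
    haveI := hwm
    refine ⟨W, w ≫ ovι T Oi, mono_comp _ _, ?_, fun {Z} z => ⟨?_, ?_⟩⟩
    · rw [Over.comp_left]
      haveI := hwl
      haveI : LocallyOfFiniteType (ovι T Oi).left := inferInstanceAs (LocallyOfFiniteType Oi.ι)
      infer_instance
    · rintro ⟨l, rfl⟩
      have hw0 : (yon S).map w ≫ x = (yon S).map w ≫ x' := (hwiff w).1 ⟨𝟙 _, Category.id_comp _⟩
      constructor
      · rw [hA]
        simp only [Functor.map_comp, Category.assoc]
        rw [← hx, ← hx', ← Category.assoc ((yon S).map w), hw0, Category.assoc]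
      · rintro _ ⟨t, rfl⟩
        have : (l ≫ w ≫ ovι T Oi).left t = Oi.ι ((l ≫ w).left t) := by
          simp only [Over.comp_left]
          rfl
        rw [this]
        exact ((l ≫ w).left t).2.1
    · rintro ⟨hz, hr⟩
      have hzη : (yon S).map z ≫ η = (yon S).map z ≫ η' := (hA z).1 hz
      have hr' : Set.range z.left ⊆ (O i η' : Set T.left) := by
        rw [← hO i η' z, ← hzη, hO i η z]
        exact hr
      obtain ⟨v, hv⟩ := exists_factor_ov z Oi (fun t ht => ⟨hr ht, hr' ht⟩)
      have hvx : (yon S).map v ≫ x = (yon S).map v ≫ x' := by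
        rw [← cancel_mono (j i), Category.assoc, Category.assoc, hx, hx']
        have e : ∀ θ : (yon S).obj T ⟶ F,
            (yon S).map v ≫ (yon S).map (ovι T Oi) ≫ θ = (yon S).map z ≫ θ := by
          intro θ
          rw [← Category.assoc, ← Functor.map_comp, hv]
        rw [e, e]
        exact hzη
      obtain ⟨l, hl⟩ := (hwiff v).2 hvx
      exact ⟨l, by rw [← Category.assoc, hl, hv]⟩
  choose I jI hmono hlft hiff using hpiece
  haveI := hmono
  have hsub : ∀ k, A.P (jI k) := fun k => ((hiff k (jI k)).1 ⟨𝟙 _, Category.id_comp _⟩).1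
  have hopen' : ∀ (k : ι) {Z : Over S} (z : Z ⟶ T), A.P z → ∀ {Z' : Over S} (c : Z' ⟶ Z),
      (∃ u : Z' ⟶ I k, u ≫ jI k = c ≫ z) ↔
        Set.range c.left ⊆ (O k ((yon S).map z ≫ η) : Set Z.left) := by
    intro k Z z hz Z' c
    rw [hiff k (c ≫ z), ← range_subset_comp_iff Fi j O hO k η z c]
    exact and_iff_right (A.pre c z hz)
  obtain ⟨I₀, j₀, hrep⟩ := exists_rep_of_open_cover A I jI hsub
    (fun k {Z} z hz => ⟨O k ((yon S).map z ≫ η), fun {Z'} c => hopen' k z hz c⟩)
    (fun {Z} z hz ζ' => by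
      obtain ⟨k, hk⟩ := hcov ((yon S).map z ≫ η) ζ'
      refine ⟨k, O k ((yon S).map z ≫ η), hk, (hopen' k z hz (ovι Z _)).2 ?_⟩
      change Set.range (O k ((yon S).map z ≫ η)).ι ⊆ _
      rw [Scheme.Opens.range_ι]) hlft
  haveI := hrep.mono
  obtain ⟨k, hk⟩ := exists_isPullback_of_rep (Limits.diag F) ζ j₀ (fun z => hrep.iff z)
  exact ⟨I₀, j₀, k, hk⟩

end Glue

end Groth.Agent.Lib.Helper4.AlgSpGlue
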