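import Groth.Agent.Lib.Helper4.AlgSpGlue1
import Groth.Agent.Lib.Helper1.MonoRepC

/-!
# Gluing algebraic spaces along open subsheaves (helper4), part 2: the atlas

`sigmaOver A`: the coproduct of a `u`-small family of schemes over `S`; `exists_desc_sigma`: maps `h_{A i} ⟶ F` to a
sheaf glue to `h_{∐ A} ⟶ F`; `isAlgSpace_of_open_cover`: a sheaf covered by open algebraic subspaces is an algebraic space.
-/

set_option backward.isDefEq.respectTransparency false
set_option autoImplicit false
set_option linter.unusedSectionVars false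
set_option linter.unusedVariables false
set_option linter.style.haveILetI false

universe u

open CategoryTheory CategoryTheory.Limits AlgebraicGeometry Opposite

namespace Groth.Agent.Lib.Helper4.AlgSpGlue

open AlgSp Groth.Agent.Lib.Helper14.AlgSpQuot Groth.Agent.H1.MonoRep Groth.Agent.H1.ZarRep

variable {S : Scheme.{u}}

section Coprod

variable {ι : Type u} (A : ι → Over S)

/-- the coproduct of a family of schemes over `S` -/
noncomputable def sigmaOver : Over S := Over.mk (Sigma.desc (fun i => (A i).hom))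

/-- the inclusions into the coproduct -/
noncomputable def sigmaOverι (i : ι) : A i ⟶ sigmaOver A :=
  Over.homMk (Sigma.ι (fun i => (A i).left) i) (by simp [sigmaOver])

theorem sigmaOverι_left (i : ι) : (sigmaOverι A i).left = Sigma.ι (fun i => (A i).left) i := rfl

instance sigmaOverι_isOpenImmersion (i : ι) : IsOpenImmersion (sigmaOverι A i).left :=
  inferInstanceAs (IsOpenImmersion (Sigma.ι (fun i => (A i).left) i))

instance sigmaOverι_mono (i : ι) : Mono (sigmaOverι A i) := by
  haveI : Mono (sigmaOverι A i).left := inferInstance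
  exact Over.mono_of_mono_left _

theorem exists_sigmaOverι_eq (x : (sigmaOver A).left) :
    ∃ (i : ι) (y : (A i).left), (sigmaOverι A i).left y = x := by
  obtain ⟨i, y, hy⟩ := (sigmaOpenCover (fun i => (A i).left)).exists_eq x
  exact ⟨i, y, hy⟩

theorem sigmaOver_mem : Sieve.ofArrows A (sigmaOverι A) ∈ (AlgSp.J S) (sigmaOver A) :=
  cover_mem_family A (sigmaOverι A) (fun i => inferInstance) (fun i => inferInstance)
    (fun x => by
      obtain ⟨i, y, hy⟩ := exists_sigmaOverι_eq A x
      exact ⟨i, y, hy⟩)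

/-- sections of a sheaf over an empty scheme coincide -/
theorem sections_subsingleton (F : Sp S) (Z : Over S) [IsEmpty Z.left] (s t : F.obj.obj (op Z)) : s = t := by
  have hbot := bot_mem_J_of_isEmpty (S := S) Z
  have hsep := ((isSheaf_iff_isSheaf_of_type _ _).1 F.property _ hbot).isSeparatedFor
  refine hsep.ext ?_
  intro Y f hf
  exact hf.elim

/-- **Maps from the members of a family of schemes to a sheaf glue on the coproduct.** -/
theorem exists_desc_sigma {F : Sp S} (q : ∀ i, (yon S).obj (A i) ⟶ F) :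
    ∃ p : (yon S).obj (sigmaOver A) ⟶ F, ∀ i, (yon S).map (sigmaOverι A i) ≫ p = q i := by
  have hsh : Presieve.IsSheafFor F.obj (Presieve.ofArrows A (sigmaOverι A)) := by
    rw [Presieve.isSheafFor_iff_generate]
    exact (isSheaf_iff_isSheaf_of_type _ _).1 F.property _ (sigmaOver_mem A)
  rw [Presieve.isSheafFor_arrows_iff] at hsh
  let σ : ∀ i, F.obj.obj (op (A i)) := fun i => (AlgSp.J S).uliftYonedaEquiv (q i)
  have hcompat : Presieve.Arrows.Compatible F.obj (sigmaOverι A) σ := by
    intro i k Z gi gk h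
    by_cases hik : i = k
    · subst hik
      have : gi = gk := (cancel_mono (sigmaOverι A i)).1 h
      rw [this]
    · have hsq : CommSq gi.left gk.left (Sigma.ι (fun i => (A i).left) i)
          (Sigma.ι (fun i => (A i).left) k) := ⟨congrArg (fun t => t.left) h⟩
      haveI : IsEmpty Z.left := isEmpty_of_commSq_sigmaι_of_ne (g := fun i => (A i).left) hsq hik
      exact sections_subsingleton F Z _ _
  obtain ⟨t, ht, -⟩ := hsh σ hcompat
  refine ⟨(AlgSp.J S).uliftYonedaEquiv.symm t, fun i => ?_⟩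
  apply (AlgSp.J S).uliftYonedaEquiv.injective
  rw [← GrothendieckTopology.uliftYonedaEquiv_naturality, Equiv.apply_symm_apply]
  exact ht i

end Coprod

section Glue

variable {F : Sp S} {ι : Type u} (Fi : ι → Sp S) (hFi : ∀ i, IsAlgSpace (Fi i)) (j : ∀ i, Fi i ⟶ F)
  [hj : ∀ i, Mono (j i)]
  (O : ∀ (i : ι) {T : Over S} (ξ : (yon S).obj T ⟶ F), T.left.Opens)
  (hO : ∀ (i : ι) {T : Over S} (ξ : (yon S).obj T ⟶ F) {T' : Over S} (c : T' ⟶ T),
    (∃ x : (yon S).obj T' ⟶ Fi i, x ≫ j i = (yon S).map c ≫ ξ) ↔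
      Set.range c.left ⊆ (O i ξ : Set T.left))
  (hcov : ∀ {T : Over S} (ξ : (yon S).obj T ⟶ F) (t : T.left), ∃ i, t ∈ O i ξ)

include hO in
/-- the square of the open locus is a pullback -/
theorem isPullback_open (i : ι) {T : Over S} (ξ : (yon S).obj T ⟶ F)
    (x : (yon S).obj (ov T (O i ξ)) ⟶ Fi i) (hx : x ≫ j i = (yon S).map (ovι T (O i ξ)) ≫ ξ) :
    IsPullback x ((yon S).map (ovι T (O i ξ))) (j i) ξ := by
  haveI : Mono (ovι T (O i ξ)) := by
    haveI : Mono (ovι T (O i ξ)).left := inferInstanceAs (Mono (O i ξ).ι)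
    exact Over.mono_of_mono_left _
  obtain ⟨k, hk⟩ := exists_isPullback_of_rep (j i) ξ (ovι T (O i ξ)) (fun {Z} z => by
    constructor
    · rintro ⟨u, rfl⟩
      refine ⟨pullback.lift ((yon S).map u ≫ x) ((yon S).map (u ≫ ovι T (O i ξ))) ?_, pullback.lift_snd _ _ _⟩
      rw [Category.assoc, hx, Functor.map_comp, Category.assoc]
    · rintro ⟨s, hs⟩
      have h1 : (s ≫ pullback.fst (j i) ξ) ≫ j i = (yon S).map z ≫ ξ := by
        rw [Category.assoc, pullback.condition, ← Category.assoc, hs]
      exact exists_factor_ov z (O i ξ) ((hO i ξ z).1 ⟨_, h1⟩))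
  have hkx : k = x := by
    rw [← cancel_mono (j i), hk.w, hx]
  rw [← hkx]
  exact hk

include hFi hO hcov in
/-- **A sheaf covered by open algebraic subspaces is an algebraic space.** -/
theorem isAlgSpace_of_open_cover : IsAlgSpace F := by
  have hdiag : Representable (Limits.diag F) := representable_diag Fi hFi j O hO hcov
  refine ⟨hdiag, ?_⟩
  choose A pA hpe hps using fun i => (hFi i).atlas
  obtain ⟨p, hp⟩ := exists_desc_sigma A (fun i => pA i ≫ j i)
  have hprep : Representable p := Functor.relativelyRepresentable.of_diag hdiag p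
  -- the local analysis of a pullback of `p`
  have key : ∀ {T V : Over S} (ξ : (yon S).obj T ⟶ F) (fst : (yon S).obj V ⟶ (yon S).obj (sigmaOver A))
      (snd : V ⟶ T), IsPullback fst ((yon S).map snd) p ξ → ∀ i, ∃ (Vi : V.left.Opens) (s : ov V Vi ⟶ ov T (O i ξ)),
        s ≫ ovι T (O i ξ) = ovι V Vi ≫ snd ∧ Etale s.left ∧ Surjective s.left ∧
        ∀ v : V.left, ((yon S).preimage fst).left v ∈ (sigmaOverι A i).left.opensRange → v ∈ Vi := by
    intro T V ξ fst snd sq i
    obtain ⟨f₁, rfl⟩ := (yon S).map_surjective fst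
    let Vi : V.left.Opens := f₁.left ⁻¹ᵁ (sigmaOverι A i).left.opensRange
    -- the factorization through `A i`
    let g₀ : Vi.toScheme ⟶ (A i).left := IsOpenImmersion.lift (sigmaOverι A i).left (Vi.ι ≫ f₁.left) (by
      rintro _ ⟨v, rfl⟩
      exact v.2)
    have hg₀ : g₀ ≫ (sigmaOverι A i).left = Vi.ι ≫ f₁.left := IsOpenImmersion.lift_fac _ _ _
    let g : ov V Vi ⟶ A i := Over.homMk g₀ (by
      change g₀ ≫ (A i).hom = Vi.ι ≫ V.hom
      rw [← Over.w (sigmaOverι A i), ← Category.assoc, hg₀, Category.assoc, Over.w f₁])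
    have hg : g ≫ sigmaOverι A i = ovι V Vi ≫ f₁ := by
      ext
      exact hg₀
    have sq0' : IsPullback g₀ Vi.ι (sigmaOverι A i).left f₁.left :=
      IsOpenImmersion.isPullback g₀ Vi.ι (sigmaOverι A i).left f₁.left hg₀.symm (by
        rw [Scheme.Opens.opensRange_ι])
    have sq0 : IsPullback g (ovι V Vi) (sigmaOverι A i) f₁ := IsPullback.of_map (Over.forget S) hg sq0'
    have sq1 : IsPullback ((yon S).map g) ((yon S).map (ovι V Vi)) ((yon S).map (sigmaOverι A i))
        ((yon S).map f₁) := sq0.map (yon S)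
    have sq2 : IsPullback ((yon S).map g) ((yon S).map (ovι V Vi) ≫ (yon S).map snd)
        ((yon S).map (sigmaOverι A i) ≫ p) ξ := sq1.paste_vert sq
    rw [hp i, ← Functor.map_comp] at sq2
    -- restriction to the open locus
    have hr : Set.range (ovι V Vi ≫ snd).left ⊆ (O i ξ : Set T.left) :=
      (hO i ξ (ovι V Vi ≫ snd)).1 ⟨(yon S).map g ≫ pA i, by rw [Category.assoc, sq2.w]⟩
    obtain ⟨s, hs⟩ := exists_factor_ov (ovι V Vi ≫ snd) (O i ξ) hr
    obtain ⟨x, hx⟩ := exists_lift_ov Fi j O hO i ξ (O i ξ) le_rfl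
    have sq3 := isPullback_open Fi j O hO i ξ x hx
    rw [← hs, Functor.map_comp] at sq2
    have hcomm : (yon S).map g ≫ pA i = (yon S).map s ≫ x := by
      rw [← cancel_mono (j i), Category.assoc, Category.assoc, hx, sq2.w, Category.assoc]
    have sq4 : IsPullback ((yon S).map g) ((yon S).map s) (pA i) x := IsPullback.of_bot sq2 hcomm sq3
    refine ⟨Vi, s, hs, (hpe i).2 x ((yon S).map g) s sq4, (hps i).2 x ((yon S).map g) s sq4, ?_⟩
    intro v hv
    rw [Functor.preimage_map] at hv
    exact hv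
  refine ⟨sigmaOver A, p, ?_, ?_⟩
  · -- etale
    refine ⟨hprep, fun T V ξ fst snd sq => ?_⟩
    choose Vi s hs hse hss hmem using key ξ fst snd sq
    have hsup : iSup Vi = ⊤ := by
      refine top_le_iff.1 (fun v _ => ?_)
      obtain ⟨i, a, ha⟩ := exists_sigmaOverι_eq A (((yon S).preimage fst).left v)
      exact TopologicalSpace.Opens.mem_iSup.2 ⟨i, hmem i v ⟨a, ha⟩⟩
    change Etale snd.left
    refine IsZariskiLocalAtSource.of_iSup_eq_top Vi hsup (fun i => ?_)
    have h1 : (Vi i).ι ≫ snd.left = (s i).left ≫ (O i ξ).ι := by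
      have := congrArg (fun t => t.left) (hs i)
      exact this.symm
    rw [h1]
    haveI := hse i
    infer_instance
  · -- surjective
    refine ⟨hprep, fun T V ξ fst snd sq => ?_⟩
    choose Vi s hs hse hss hmem using key ξ fst snd sq
    change Surjective snd.left
    refine ⟨fun t => ?_⟩
    obtain ⟨i, hi⟩ := hcov ξ t
    obtain ⟨v', hv'⟩ := (hss i).surj ⟨t, hi⟩
    refine ⟨(Vi i).ι v', ?_⟩
    have h1 : (Vi i).ι ≫ snd.left = (s i).left ≫ (O i ξ).ι := by
      have := congrArg (fun t => t.left) (hs i)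
      exact this.symm
    have h2 : snd.left ((Vi i).ι v') = ((Vi i).ι ≫ snd.left) v' := rfl
    rw [h2, h1]
    change (O i ξ).ι ((s i).left v') = t
    rw [hv']
    rfl

end Glue

end Groth.Agent.Lib.Helper4.AlgSpGlue
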