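import Groth.Agent.Lib.Helper4.PshDict
set_option autoImplicit false
set_option backward.isDefEq.respectTransparency false
set_option backward.isDefEq.respectTransparency.types false
open CategoryTheory CategoryTheory.Functor CategoryTheory.Limits Opposite
universe w' w v₄ u₄ v₃ u₃ v₂ u₂ v u
namespace Groth.Agent.Lib.helper4.PshDict2
open Groth.Agent.FibEquiv Stk Groth.Agent.Lib.helper4.PshDict

variable {C : Type u} [Category.{v} C] {Q : Cᵒᵖ ⥤ Type w} {P : Cᵒᵖ ⥤ Type w'}
  {𝒲 : BasedCategory.{v₂, u₂} C}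

theorem eltObj_ext (a b : EltObj Q) (hb : a.base = b.base) (hs : a.sec = Q.map (eqToHom hb).op b.sec) :
    a = b := by
  obtain ⟨T, s⟩ := a
  obtain ⟨T', s'⟩ := b
  change T = T' at hb
  subst hb
  simp at hs
  subst hs
  rfl

theorem eqToHom_hom {a b : EltObj Q} (h : a = b) : (eqToHom h : a ⟶ b).hom = eqToHom (congrArg EltObj.base h) := by
  subst h; rfl

theorem basedFunctor_ext {𝒳 : BasedCategory.{v₂, u₂} C} {𝒴 : BasedCategory.{v₃, u₃} C} (A B : 𝒳 ⥤ᵇ 𝒴)
    (h : A.toFunctor = B.toFunctor) : A = B := by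
  cases A; cases B; cases h; rfl

theorem eq_of_secOf_eq (A B : 𝒲 ⥤ᵇ ofPsh Q) (h : ∀ x, secOf A x = secOf B x) : A = B := by
  have hobj : ∀ x, A.obj x = B.obj x := by
    intro x
    have hb : (A.obj x).base = (B.obj x).base := (base_eq A x).trans (base_eq B x).symm
    apply eltObj_ext _ _ hb
    rw [sec_eq_of_secOf A x, sec_eq_of_secOf B x, h x, eqToHom_op_comp_apply]
  apply basedFunctor_ext
  refine CategoryTheory.Functor.ext hobj ?_
  intro x y m
  apply EltObj.hom_ext
  rw [EltObj.comp_hom, EltObj.comp_hom, eqToHom_hom, eqToHom_hom]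
  rw [map_hom_eq, map_hom_eq]
  simp

end Groth.Agent.Lib.helper4.PshDict2
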