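import Mathlib
import Groth.Agent.Lib.Helper4.PshDict2
import Groth.Agent.S10510
set_option autoImplicit false
set_option backward.isDefEq.respectTransparency false
set_option backward.isDefEq.respectTransparency.types false
set_option linter.unusedSectionVars false
set_option linter.style.haveILetI false
set_option linter.unusedVariables false
open CategoryTheory CategoryTheory.Functor CategoryTheory.Limits Opposite AlgebraicGeometry
universe u

/-! Gluing maps out of an algebraic space along its affine etale charts (helper4).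
* `Chart M`: an affine scheme with a representable etale map to the sheaf `M`.
* `exists_chart_nhd`: every section of an algebraic space lifts, locally for the fppf topology, to affine charts.
* `ev_eq_of_charts`: compatible families of maps on charts agree on common points.
* `existsUnique_glue`: a compatible family of maps from all affine etale charts of an algebraic space to a sheaf glues
  uniquely. -/

namespace Groth.Agent.Lib.helper4.AlgSpGlueMap
open Groth.Agent.Lib.helper4.PshDict

variable {S : Scheme.{u}}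

/-- the value of a map from a representable sheaf at a point -/
def ev {U : Over S} {N : AlgSp.Sp S} (f : (AlgSp.yon S).obj U ⟶ N) {T : Over S} (x : T ⟶ U) :
    N.obj.obj (op T) := f.hom.app (op T) ⟨x⟩

theorem ev_comp {U : Over S} {N : AlgSp.Sp S} (f : (AlgSp.yon S).obj U ⟶ N) {T' T : Over S} (h : T' ⟶ T)
    (x : T ⟶ U) : N.obj.map h.op (ev f x) = ev f (h ≫ x) := by
  unfold ev
  rw [← NatTrans.naturality_apply]
  rfl

theorem ev_map_comp {U V : Over S} {N : AlgSp.Sp S} (k : V ⟶ U) (f : (AlgSp.yon S).obj U ⟶ N) {T : Over S}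
    (x : T ⟶ V) : ev ((AlgSp.yon S).map k ≫ f) x = ev f (x ≫ k) := rfl

theorem ev_comp_hom {U : Over S} {M N : AlgSp.Sp S} (f : (AlgSp.yon S).obj U ⟶ M) (g : M ⟶ N) {T : Over S}
    (x : T ⟶ U) : ev (f ≫ g) x = g.hom.app (op T) (ev f x) := rfl

theorem hom_ext_ev {U : Over S} {N : AlgSp.Sp S} {f f' : (AlgSp.yon S).obj U ⟶ N}
    (h : ev f (𝟙 U) = ev f' (𝟙 U)) : f = f' := by
  apply (AlgSp.J S).uliftYonedaEquiv.injective
  rw [GrothendieckTopology.uliftYonedaEquiv_apply, GrothendieckTopology.uliftYonedaEquiv_apply]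
  exact h

theorem ev_symm {N : AlgSp.Sp S} {T : Over S} (m : N.obj.obj (op T)) {T' : Over S} (h : T' ⟶ T) :
    ev ((AlgSp.J S).uliftYonedaEquiv.{u + 1}.symm m) h = N.obj.map h.op m :=
  GrothendieckTopology.uliftYonedaEquiv_symm_app_apply.{u + 1} _ m (op T') h

/-- a sieve is covering as soon as every point is hit by a flat, locally finitely presented member -/
theorem mem_J_of_forall_exists_flat {T : Over S} (R : Sieve T)
    (h : ∀ τ : ↥T.left, ∃ (T' : Over S) (f : T' ⟶ T), R f ∧ τ ∈ Set.range f.left ∧ Flat f.left ∧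
      LocallyOfFinitePresentation f.left) : R ∈ AlgSp.J S T := by
  choose T' f h1 h2 h3 h4 using h
  refine (AlgSp.J S).superset_covering ?_
    (Groth.Agent.S10510.cover_mem_family T' f h3 h4 (fun x => ⟨x, h2 x⟩))
  rintro V g ⟨_, u, _, ⟨τ⟩, rfl⟩
  exact R.downward_closed (h1 τ) u

/-- sections of a sheaf which agree locally for the fppf topology are equal -/
theorem sec_ext_of_local (N : AlgSp.Sp S) {T : Over S} (a b : N.obj.obj (op T))
    (h : ∀ τ : ↥T.left, ∃ (T' : Over S) (i : T' ⟶ T), N.obj.map i.op a = N.obj.map i.op b ∧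
      τ ∈ Set.range i.left ∧ Flat i.left ∧ LocallyOfFinitePresentation i.left) : a = b := by
  have hN : Presieve.IsSheaf (AlgSp.J S) N.obj := (isSheaf_iff_isSheaf_of_type _ _).1 N.property
  let R : Sieve T :=
    { arrows := fun T' i => N.obj.map i.op a = N.obj.map i.op b
      downward_closed := by
        intro T' T'' i hi k
        rw [map_comp_op_apply, map_comp_op_apply, hi] }
  have hR : R ∈ AlgSp.J S T := mem_J_of_forall_exists_flat R h
  exact (hN R hR).isSeparatedFor.ext (fun T' i hi => hi)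

/-- an affine etale chart of a sheaf -/
structure Chart (M : AlgSp.Sp S) where
  /-- the affine scheme -/
  U : Over S
  affine : IsAffine U.left
  /-- the etale map -/
  u : (AlgSp.yon S).obj U ⟶ M
  etale : AlgSp.RepWith @Etale u

/-- an open subscheme as a scheme over `S` -/
def openOver (P : Over S) (V : P.left.Opens) : Over S := Over.mk (V.ι ≫ P.hom)

/-- the inclusion of an open subscheme over `S` -/
def openOverι (P : Over S) (V : P.left.Opens) : openOver P V ⟶ P := Over.homMk V.ι rfl

/-- the restriction of an etale map to an affine open subscheme of its source is a chart -/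
def Chart.ofOpen {M : AlgSp.Sp S} (P : Over S) (e : (AlgSp.yon S).obj P ⟶ M) (he : AlgSp.RepWith @Etale e)
    (V : P.left.Opens) (hV : IsAffineOpen V) : Chart M where
  U := openOver P V
  affine := hV
  u := (AlgSp.yon S).map (openOverι P V) ≫ e
  etale := (AlgSp.RepWith (S := S) @Etale).comp_mem _ _
    ((AlgSp.repWith_yon_map_iff @Etale _).2 (inferInstanceAs (Etale V.ι))) he

/-- the morphism induced between open subschemes -/
noncomputable def openOverMap {P Q : Over S} (k : P ⟶ Q) (V : Q.left.Opens) (W : P.left.Opens) (hWV : W ≤ k.left ⁻¹ᵁ V) :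
    openOver P W ⟶ openOver Q V :=
  Over.homMk (k.left.resLE V W hWV) (by
    change k.left.resLE V W hWV ≫ V.ι ≫ Q.hom = W.ι ≫ P.hom
    rw [← Category.assoc, Scheme.Hom.resLE_comp_ι, Category.assoc, Over.w k])

theorem openOverMap_comp {P Q : Over S} (k : P ⟶ Q) (V : Q.left.Opens) (W : P.left.Opens)
    (hWV : W ≤ k.left ⁻¹ᵁ V) : openOverMap k V W hWV ≫ openOverι Q V = openOverι P W ≫ k := by
  apply Over.OverMorphism.ext
  exact Scheme.Hom.resLE_comp_ι _ _

theorem mem_range_openOverι_comp {P T : Over S} (W : P.left.Opens) (r : P ⟶ T) (z : ↥P.left) (hz : z ∈ W) :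
    r.left z ∈ Set.range (openOverι P W ≫ r).left :=
  ⟨⟨z, hz⟩, rfl⟩

/-- every section of an algebraic space lifts to affine charts locally for the fppf topology -/
theorem exists_chart_nhd {M : AlgSp.Sp S} (hM : AlgSp.IsAlgSpace M) {T : Over S} (m : (AlgSp.yon S).obj T ⟶ M)
    (τ : ↥T.left) :
    ∃ (T' : Over S) (h : T' ⟶ T) (c : Chart M) (x : T' ⟶ c.U),
      (AlgSp.yon S).map x ≫ c.u = (AlgSp.yon S).map h ≫ m ∧ τ ∈ Set.range h.left ∧ Flat h.left ∧
        LocallyOfFinitePresentation h.left := by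
  obtain ⟨U₀, p, hpe, hps⟩ := hM.atlas
  obtain ⟨Z, r, q, sq⟩ := hpe.1 m
  have hr : Etale r.left := hpe.2 _ _ _ sq
  have hrs : Surjective r.left := hps.2 _ _ _ sq
  obtain ⟨q₀, rfl⟩ := (AlgSp.yon S).map_surjective q
  obtain ⟨z, hz⟩ := hrs.surj τ
  obtain ⟨O, hO, hzO, -⟩ := TopologicalSpace.Opens.isBasis_iff_nbhd.mp U₀.left.isBasis_affineOpens
    (TopologicalSpace.Opens.mem_top (q₀.left z))
  obtain ⟨W, hW, hzW, hWO⟩ := TopologicalSpace.Opens.isBasis_iff_nbhd.mp Z.left.isBasis_affineOpens
    (show z ∈ q₀.left ⁻¹ᵁ O from hzO)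
  refine ⟨openOver Z W, openOverι Z W ≫ r, Chart.ofOpen U₀ p hpe O hO, openOverMap q₀ O W hWO, ?_, ?_, ?_, ?_⟩
  · change (AlgSp.yon S).map (openOverMap q₀ O W hWO) ≫ (AlgSp.yon S).map (openOverι U₀ O) ≫ p = _
    rw [← Category.assoc, ← Functor.map_comp, openOverMap_comp, Functor.map_comp, Functor.map_comp,
      Category.assoc, Category.assoc, sq.w]
  · rw [← hz]
    exact mem_range_openOverι_comp W r z hzW
  · have : Etale (openOverι Z W ≫ r).left := by
      change Etale (Scheme.Opens.ι W ≫ r.left)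
      infer_instance
    infer_instance
  · have : Etale (openOverι Z W ≫ r).left := by
      change Etale (Scheme.Opens.ι W ≫ r.left)
      infer_instance
    infer_instance

section Glue

variable {M N : AlgSp.Sp S} (γ : ∀ c : Chart M, (AlgSp.yon S).obj c.U ⟶ N)

/-- compatibility of a family of maps on charts with morphisms of charts -/
def Compat : Prop :=
  ∀ (c c' : Chart M) (h : c'.U ⟶ c.U), (AlgSp.yon S).map h ≫ c.u = c'.u → (AlgSp.yon S).map h ≫ γ c = γ c'

/-- a compatible family of maps on charts takes the same value on points of two charts with the same image -/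
theorem ev_eq_of_charts (hγ : Compat γ) (c c' : Chart M) {T : Over S} (x : T ⟶ c.U) (x' : T ⟶ c'.U)
    (hx : ev c.u x = ev c'.u x') : ev (γ c) x = ev (γ c') x' := by
  have hx' : (AlgSp.yon S).map x ≫ c.u = (AlgSp.yon S).map x' ≫ c'.u := by
    apply hom_ext_ev
    rw [ev_map_comp, ev_map_comp, Category.id_comp, Category.id_comp]
    exact hx
  obtain ⟨P, r, q, sq⟩ := c'.etale.1 c.u
  have hr : Etale r.left := c'.etale.2 _ _ _ sq
  obtain ⟨q₀, rfl⟩ := (AlgSp.yon S).map_surjective q
  obtain ⟨k, hk⟩ := (AlgSp.yon S).map_surjective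
    (sq.lift ((AlgSp.yon S).map x') ((AlgSp.yon S).map x) hx'.symm)
  have hk1 : k ≫ q₀ = x' := (AlgSp.yon S).map_injective (by rw [Functor.map_comp, hk, sq.lift_fst])
  have hk2 : k ≫ r = x := (AlgSp.yon S).map_injective (by rw [Functor.map_comp, hk, sq.lift_snd])
  apply sec_ext_of_local
  intro τ
  obtain ⟨V, hV, hτV, -⟩ := TopologicalSpace.Opens.isBasis_iff_nbhd.mp P.left.isBasis_affineOpens
    (TopologicalSpace.Opens.mem_top (k.left τ))
  have he : AlgSp.RepWith @Etale ((AlgSp.yon S).map r ≫ c.u) :=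
    (AlgSp.RepWith (S := S) @Etale).comp_mem _ _ ((AlgSp.repWith_yon_map_iff @Etale _).2 hr) c.etale
  let cV : Chart M := Chart.ofOpen P ((AlgSp.yon S).map r ≫ c.u) he V hV
  have h1 : (AlgSp.yon S).map (openOverι P V ≫ r) ≫ γ c = γ cV := hγ c cV (openOverι P V ≫ r) (by
    change _ = (AlgSp.yon S).map (openOverι P V) ≫ (AlgSp.yon S).map r ≫ c.u
    rw [Functor.map_comp, Category.assoc])
  have h2 : (AlgSp.yon S).map (openOverι P V ≫ q₀) ≫ γ c' = γ cV := hγ c' cV (openOverι P V ≫ q₀) (by
    change _ = (AlgSp.yon S).map (openOverι P V) ≫ (AlgSp.yon S).map r ≫ c.u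
    rw [Functor.map_comp, Category.assoc, sq.w])
  let W : T.left.Opens := k.left ⁻¹ᵁ V
  refine ⟨openOver T W, openOverι T W, ?_, ⟨⟨τ, hτV⟩, rfl⟩, inferInstanceAs (Flat W.ι),
    inferInstanceAs (LocallyOfFinitePresentation W.ι)⟩
  let k' : openOver T W ⟶ openOver P V := openOverMap k V W le_rfl
  have hk' : k' ≫ openOverι P V = openOverι T W ≫ k := openOverMap_comp k V W le_rfl
  rw [ev_comp, ev_comp]
  have e1 : k' ≫ (openOverι P V ≫ r) = openOverι T W ≫ x := by
    rw [← Category.assoc, hk', Category.assoc, hk2]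
  have e2 : k' ≫ (openOverι P V ≫ q₀) = openOverι T W ≫ x' := by
    rw [← Category.assoc, hk', Category.assoc, hk1]
  calc ev (γ c) (openOverι T W ≫ x) = ev (γ c) (k' ≫ (openOverι P V ≫ r)) := by rw [e1]
    _ = ev (γ cV) k' := by rw [← ev_map_comp, h1]
    _ = ev (γ c') (k' ≫ (openOverι P V ≫ q₀)) := by rw [← ev_map_comp, h2]
    _ = ev (γ c') (openOverι T W ≫ x') := by rw [e2]

/-- the sieve of morphisms along which a section lifts to a chart -/
def chartSieve {T : Over S} (m : M.obj.obj (op T)) : Sieve T where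
  arrows T' h := ∃ (c : Chart M) (x : T' ⟶ c.U), ev c.u x = M.obj.map h.op m
  downward_closed := by
    rintro T' T'' h ⟨c, x, hx⟩ k
    exact ⟨c, k ≫ x, by rw [← ev_comp, hx, map_comp_op_apply]⟩

theorem chartSieve_mem (hM : AlgSp.IsAlgSpace M) {T : Over S} (m : M.obj.obj (op T)) :
    chartSieve m ∈ AlgSp.J S T := by
  apply mem_J_of_forall_exists_flat
  intro τ
  obtain ⟨T', h, c, x, hx, hτ, h1, h2⟩ :=
    exists_chart_nhd hM ((AlgSp.J S).uliftYonedaEquiv.{u + 1}.symm m) τ
  refine ⟨T', h, ⟨c, x, ?_⟩, hτ, h1, h2⟩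
  have h3 := congrArg (fun f => ev f (𝟙 T')) hx
  simp only [ev_map_comp, Category.id_comp] at h3
  rw [h3, ev_symm]

/-- the local values of the glued map -/
noncomputable def fam {T : Over S} (m : M.obj.obj (op T)) :
    Presieve.FamilyOfElements N.obj (chartSieve m).arrows :=
  fun T' h hh => ev (γ hh.choose) hh.choose_spec.choose

theorem fam_eq (hγ : Compat γ) {T : Over S} (m : M.obj.obj (op T)) {T' : Over S} (h : T' ⟶ T)
    (hh : (chartSieve m).arrows h) (c : Chart M) (x : T' ⟶ c.U) (hx : ev c.u x = M.obj.map h.op m) :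
    fam γ m h hh = ev (γ c) x :=
  ev_eq_of_charts γ hγ _ c _ x (hh.choose_spec.choose_spec.trans hx.symm)

theorem fam_compatible (hγ : Compat γ) {T : Over S} (m : M.obj.obj (op T)) : (fam γ m).Compatible := by
  intro T₁ T₂ T₃ g₁ g₂ h₁ h₂ hh₁ hh₂ hcomm
  change N.obj.map g₁.op (ev (γ hh₁.choose) hh₁.choose_spec.choose) =
    N.obj.map g₂.op (ev (γ hh₂.choose) hh₂.choose_spec.choose)
  rw [ev_comp, ev_comp]
  apply ev_eq_of_charts γ hγ
  rw [← ev_comp, ← ev_comp, hh₁.choose_spec.choose_spec, hh₂.choose_spec.choose_spec,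
    ← map_comp_op_apply, ← map_comp_op_apply, hcomm]

variable (hM : AlgSp.IsAlgSpace M) (hγ : Compat γ)

/-- the glued map on sections -/
noncomputable def gApp {T : Over S} (m : M.obj.obj (op T)) : N.obj.obj (op T) :=
  (((isSheaf_iff_isSheaf_of_type _ _).1 N.property) (chartSieve m) (chartSieve_mem hM m)).amalgamate
    (fam γ m) (fam_compatible γ hγ m)

theorem gApp_spec {T : Over S} (m : M.obj.obj (op T)) {T' : Over S} (h : T' ⟶ T) (c : Chart M)
    (x : T' ⟶ c.U) (hx : ev c.u x = M.obj.map h.op m) :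
    N.obj.map h.op (gApp γ hM hγ m) = ev (γ c) x := by
  unfold gApp
  rw [Presieve.IsSheafFor.valid_glue _ _ h ⟨c, x, hx⟩]
  exact fam_eq γ hγ m h _ c x hx

theorem gApp_map {T₁ T : Over S} (k : T₁ ⟶ T) (m : M.obj.obj (op T)) :
    N.obj.map k.op (gApp γ hM hγ m) = gApp γ hM hγ (M.obj.map k.op m) := by
  have hN : Presieve.IsSheaf (AlgSp.J S) N.obj := (isSheaf_iff_isSheaf_of_type _ _).1 N.property
  apply (hN _ (chartSieve_mem hM (M.obj.map k.op m))).isSeparatedFor.ext
  rintro T' h ⟨c, x, hx⟩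
  rw [gApp_spec γ hM hγ (M.obj.map k.op m) h c x hx, ← map_comp_op_apply,
    gApp_spec γ hM hγ m (h ≫ k) c x (by rw [hx, map_comp_op_apply])]

/-- the glued map -/
noncomputable def glue : M ⟶ N :=
  ObjectProperty.homMk
    { app := fun T => ↾fun m => gApp γ hM hγ (T := T.unop) m
      naturality := fun T T' k => by
        ext m
        exact (gApp_map γ hM hγ k.unop m).symm }

theorem glue_app {T : Over S} (m : M.obj.obj (op T)) :
    (glue γ hM hγ).hom.app (op T) m = gApp γ hM hγ m := rfl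

theorem glue_spec (c : Chart M) : c.u ≫ glue γ hM hγ = γ c := by
  apply hom_ext_ev
  rw [ev_comp_hom, glue_app]
  have h := gApp_spec γ hM hγ (ev c.u (𝟙 c.U)) (𝟙 c.U) c (𝟙 _) (by rw [map_id_op_apply])
  rwa [map_id_op_apply] at h

theorem glue_unique (g' : M ⟶ N) (hg' : ∀ c : Chart M, c.u ≫ g' = γ c) : g' = glue γ hM hγ := by
  have hN : Presieve.IsSheaf (AlgSp.J S) N.obj := (isSheaf_iff_isSheaf_of_type _ _).1 N.property
  apply ObjectProperty.hom_ext
  ext ⟨T⟩ m
  change g'.hom.app (op T) m = gApp γ hM hγ m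
  apply (hN _ (chartSieve_mem hM m)).isSeparatedFor.ext
  rintro T' h ⟨c, x, hx⟩
  rw [gApp_spec γ hM hγ m h c x hx, ← hg' c, ev_comp_hom, hx]
  exact (NatTrans.naturality_apply g'.hom h.op m).symm

/-- **gluing**: a compatible family of maps from the affine etale charts of an algebraic space to a sheaf comes from a
unique map of sheaves -/
theorem existsUnique_glue (hM : AlgSp.IsAlgSpace M) (hγ : Compat γ) :
    ∃! g : M ⟶ N, ∀ c : Chart M, c.u ≫ g = γ c :=
  ⟨glue γ hM hγ, glue_spec γ hM hγ, fun g' hg' => glue_unique γ hM hγ g' hg'⟩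

end Glue

end Groth.Agent.Lib.helper4.AlgSpGlueMap
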