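import Groth.Agent.Lib.Helper5.GpdCalc

/-!
# Conjugation of the stabilizer of a groupoid in sheaves (helper4)

For a groupoid `(U, R, s, t, c)` in sheaves with stabilizer `Stab ⟶ U`, the base change of `Stab ⟶ U` along `t : R ⟶ U`
is also a base change of `Stab ⟶ U` along `s : R ⟶ U`, through conjugation `(g, ρ) ↦ ρ⁻¹ ∘ g ∘ ρ`:
`isPullback_conj : IsPullback (conj G) (pullback.snd G.stabilizerToU G.t) G.stabilizerToU G.s`.
-/

set_option autoImplicit false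
universe u
open CategoryTheory CategoryTheory.Limits AlgebraicGeometry
open AlgSp

namespace Groth.Agent.Lib.helper4.AlgSpGpdConj

open Groth.Agent.Lib.helper5.Gpd

variable {S : Scheme.{u}} {B : Sp S} (G : GroupoidSp B)

theorem stabι_t : G.stabilizerι ≫ G.t = G.stabilizerToU := by
  have h := (pullback.condition (f := G.j) (g := G.diag)) =≫ pullback.fst G.pU G.pU
  simp only [Category.assoc, GroupoidSp.j_fst] at h
  unfold GroupoidSp.diag at h
  rw [pullback.lift_fst, Category.comp_id] at h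
  exact h

theorem stabι_s : G.stabilizerι ≫ G.s = G.stabilizerToU := by
  have h := (pullback.condition (f := G.j) (g := G.diag)) =≫ pullback.snd G.pU G.pU
  simp only [Category.assoc, GroupoidSp.j_snd] at h
  unfold GroupoidSp.diag at h
  rw [pullback.lift_snd, Category.comp_id] at h
  exact h

/-- an arrow with equal source and target, as a point of the stabilizer -/
noncomputable def toStab {T : Sp S} (α : T ⟶ G.R) (h : α ≫ G.t = α ≫ G.s) : T ⟶ G.stabilizer :=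
  pullback.lift α (α ≫ G.s) (by
    apply pullback.hom_ext
    · rw [Category.assoc, G.j_fst, Category.assoc]
      unfold GroupoidSp.diag
      rw [pullback.lift_fst, Category.comp_id, h]
    · rw [Category.assoc, G.j_snd, Category.assoc]
      unfold GroupoidSp.diag
      rw [pullback.lift_snd, Category.comp_id])

theorem toStab_ι {T : Sp S} (α : T ⟶ G.R) (h : α ≫ G.t = α ≫ G.s) :
    toStab G α h ≫ G.stabilizerι = α := pullback.lift_fst _ _ _

theorem toStab_u {T : Sp S} (α : T ⟶ G.R) (h : α ≫ G.t = α ≫ G.s) :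
    toStab G α h ≫ G.stabilizerToU = α ≫ G.s := pullback.lift_snd _ _ _

theorem stab_hom_ext {T : Sp S} (a b : T ⟶ G.stabilizer)
    (h : a ≫ G.stabilizerι = b ≫ G.stabilizerι) : a = b := by
  apply pullback.hom_ext
  · exact h
  · show a ≫ G.stabilizerToU = b ≫ G.stabilizerToU
    rw [← stabι_s, ← Category.assoc, h, Category.assoc]

theorem toStab_congr {T : Sp S} {α α' : T ⟶ G.R} (h : α ≫ G.t = α ≫ G.s) (hα : α = α') :
    toStab G α h = toStab G α' (by rw [← hα]; exact h) := by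
  subst hα; rfl

/-- `ρ⁻¹ ∘ g ∘ ρ` -/
noncomputable def conjR {T : Sp S} (g ρ : T ⟶ G.R) (hgt : g ≫ G.t = ρ ≫ G.t)
    (hgs : g ≫ G.s = ρ ≫ G.t) : T ⟶ G.R :=
  mul G (mul G (ρ ≫ G.i) g (by rw [Category.assoc, G.i_s, hgt])) ρ (by rw [mul_s, hgs])

theorem conjR_s {T : Sp S} (g ρ : T ⟶ G.R) (hgt : g ≫ G.t = ρ ≫ G.t) (hgs : g ≫ G.s = ρ ≫ G.t) :
    conjR G g ρ hgt hgs ≫ G.s = ρ ≫ G.s := mul_s G _ _ _

theorem conjR_t {T : Sp S} (g ρ : T ⟶ G.R) (hgt : g ≫ G.t = ρ ≫ G.t) (hgs : g ≫ G.s = ρ ≫ G.t) :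
    conjR G g ρ hgt hgs ≫ G.t = ρ ≫ G.s := by
  unfold conjR
  rw [mul_t, mul_t, Category.assoc, G.i_t]

/-- `ρ ∘ h ∘ ρ⁻¹` -/
noncomputable def conjR' {T : Sp S} (h ρ : T ⟶ G.R) (hht : h ≫ G.t = ρ ≫ G.s)
    (hhs : h ≫ G.s = ρ ≫ G.s) : T ⟶ G.R :=
  mul G (mul G ρ h hht.symm) (ρ ≫ G.i) (by rw [mul_s, hhs, Category.assoc, G.i_t])

theorem conjR'_s {T : Sp S} (h ρ : T ⟶ G.R) (hht : h ≫ G.t = ρ ≫ G.s) (hhs : h ≫ G.s = ρ ≫ G.s) :
    conjR' G h ρ hht hhs ≫ G.s = ρ ≫ G.t := by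
  unfold conjR'
  rw [mul_s, Category.assoc, G.i_s]

theorem conjR'_t {T : Sp S} (h ρ : T ⟶ G.R) (hht : h ≫ G.t = ρ ≫ G.s) (hhs : h ≫ G.s = ρ ≫ G.s) :
    conjR' G h ρ hht hhs ≫ G.t = ρ ≫ G.t := by
  unfold conjR'
  rw [mul_t, mul_t]

theorem conjR_congr {T : Sp S} {g g' ρ ρ' : T ⟶ G.R} (hgt : g ≫ G.t = ρ ≫ G.t)
    (hgs : g ≫ G.s = ρ ≫ G.t) (hg : g = g') (hρ : ρ = ρ') :
    conjR G g ρ hgt hgs = conjR G g' ρ' (by rw [← hg, ← hρ]; exact hgt) (by rw [← hg, ← hρ]; exact hgs) := by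
  subst hg; subst hρ; rfl

theorem conjR'_congr {T : Sp S} {h h' ρ ρ' : T ⟶ G.R} (hht : h ≫ G.t = ρ ≫ G.s)
    (hhs : h ≫ G.s = ρ ≫ G.s) (hh : h = h') (hρ : ρ = ρ') :
    conjR' G h ρ hht hhs = conjR' G h' ρ' (by rw [← hh, ← hρ]; exact hht) (by rw [← hh, ← hρ]; exact hhs) := by
  subst hh; subst hρ; rfl

theorem comp_conjR {T T' : Sp S} (f : T' ⟶ T) (g ρ : T ⟶ G.R) (hgt : g ≫ G.t = ρ ≫ G.t)
    (hgs : g ≫ G.s = ρ ≫ G.t) :
    f ≫ conjR G g ρ hgt hgs = conjR G (f ≫ g) (f ≫ ρ)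
      (by rw [Category.assoc, Category.assoc, hgt]) (by rw [Category.assoc, Category.assoc, hgs]) := by
  unfold conjR
  rw [comp_mul]
  refine (mul_congr G _ ?_ rfl)
  rw [comp_mul]
  exact mul_congr G _ (Category.assoc _ _ _).symm rfl

theorem comp_conjR' {T T' : Sp S} (f : T' ⟶ T) (h ρ : T ⟶ G.R) (hht : h ≫ G.t = ρ ≫ G.s)
    (hhs : h ≫ G.s = ρ ≫ G.s) :
    f ≫ conjR' G h ρ hht hhs = conjR' G (f ≫ h) (f ≫ ρ)
      (by rw [Category.assoc, Category.assoc, hht]) (by rw [Category.assoc, Category.assoc, hhs]) := by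
  unfold conjR'
  rw [comp_mul]
  refine (mul_congr G _ ?_ (Category.assoc _ _ _).symm)
  rw [comp_mul]

/-- `ρ ∘ (ρ⁻¹ ∘ g ∘ ρ) ∘ ρ⁻¹ = g` -/
theorem conjR'_conjR {T : Sp S} (g ρ : T ⟶ G.R) (hgt : g ≫ G.t = ρ ≫ G.t)
    (hgs : g ≫ G.s = ρ ≫ G.t) :
    conjR' G (conjR G g ρ hgt hgs) ρ (conjR_t G g ρ hgt hgs) (conjR_s G g ρ hgt hgs) = g := by
  have h1 : (ρ ≫ G.i) ≫ G.s = g ≫ G.t := by rw [Category.assoc, G.i_s, hgt]
  have h2 : mul G (ρ ≫ G.i) g h1 ≫ G.s = ρ ≫ G.t := by rw [mul_s, hgs]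
  have h3 : ρ ≫ G.s = mul G (ρ ≫ G.i) g h1 ≫ G.t := by rw [mul_t, Category.assoc, G.i_t]
  -- `ρ ∘ ((ρ⁻¹ ∘ g) ∘ ρ) = g ∘ ρ`
  have e1 : mul G ρ (conjR G g ρ hgt hgs) (conjR_t G g ρ hgt hgs).symm = mul G g ρ hgs := by
    unfold conjR
    rw [← mul_assoc G ρ (mul G (ρ ≫ G.i) g h1) ρ h3 h2]
    exact mul_congr G _ (mul_i_mul' G ρ g h1 h3) rfl
  unfold conjR'
  have e2 := mul_congr G (α := mul G ρ (conjR G g ρ hgt hgs) (conjR_t G g ρ hgt hgs).symm)
    (β := ρ ≫ G.i) (by rw [mul_s, conjR_s, Category.assoc, G.i_t]) e1 rfl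
  rw [e2]
  exact mul_mul_i G g ρ hgs _

/-- `ρ⁻¹ ∘ (ρ ∘ h ∘ ρ⁻¹) ∘ ρ = h` -/
theorem conjR_conjR' {T : Sp S} (h ρ : T ⟶ G.R) (hht : h ≫ G.t = ρ ≫ G.s)
    (hhs : h ≫ G.s = ρ ≫ G.s) :
    conjR G (conjR' G h ρ hht hhs) ρ (conjR'_t G h ρ hht hhs) (conjR'_s G h ρ hht hhs) = h := by
  have h1 : ρ ≫ G.s = h ≫ G.t := hht.symm
  have h2 : mul G ρ h h1 ≫ G.s = (ρ ≫ G.i) ≫ G.t := by rw [mul_s, hhs, Category.assoc, G.i_t]
  have h3 : (ρ ≫ G.i) ≫ G.s = mul G ρ h h1 ≫ G.t := by rw [mul_t, Category.assoc, G.i_s]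
  -- `ρ⁻¹ ∘ ((ρ ∘ h) ∘ ρ⁻¹) = h ∘ ρ⁻¹`
  have h4 : h ≫ G.s = (ρ ≫ G.i) ≫ G.t := by rw [hhs, Category.assoc, G.i_t]
  have e1 : mul G (ρ ≫ G.i) (conjR' G h ρ hht hhs)
      (by rw [conjR'_t, Category.assoc, G.i_s]) = mul G h (ρ ≫ G.i) h4 := by
    unfold conjR'
    rw [← mul_assoc G (ρ ≫ G.i) (mul G ρ h h1) (ρ ≫ G.i) h3 h2]
    exact mul_congr G _ (i_mul_mul G ρ h h1 h3) rfl
  unfold conjR
  have e2 := mul_congr G (α := mul G (ρ ≫ G.i) (conjR' G h ρ hht hhs)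
      (by rw [conjR'_t, Category.assoc, G.i_s]))
    (β := ρ) (by rw [mul_s, conjR'_s]) e1 rfl
  rw [e2]
  exact mul_i_mul G h ρ h4 _

/-! ### The conjugation square -/

theorem fst_ι_t : (pullback.fst G.stabilizerToU G.t ≫ G.stabilizerι) ≫ G.t =
    pullback.snd G.stabilizerToU G.t ≫ G.t := by
  rw [Category.assoc, stabι_t, pullback.condition]

theorem fst_ι_s : (pullback.fst G.stabilizerToU G.t ≫ G.stabilizerι) ≫ G.s =
    pullback.snd G.stabilizerToU G.t ≫ G.t := by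
  rw [Category.assoc, stabι_s, pullback.condition]

/-- conjugation `(g, ρ) ↦ ρ⁻¹ ∘ g ∘ ρ : Stab ×_{U,t} R ⟶ Stab` -/
noncomputable def conj : pullback G.stabilizerToU G.t ⟶ G.stabilizer :=
  toStab G (conjR G (pullback.fst G.stabilizerToU G.t ≫ G.stabilizerι)
    (pullback.snd G.stabilizerToU G.t) (fst_ι_t G) (fst_ι_s G))
    (by rw [conjR_t, conjR_s])

theorem conj_u : conj G ≫ G.stabilizerToU = pullback.snd G.stabilizerToU G.t ≫ G.s := by
  unfold conj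
  rw [toStab_u, conjR_s]

theorem comp_conj_ι {T : Sp S} (l : T ⟶ pullback G.stabilizerToU G.t) :
    (l ≫ conj G) ≫ G.stabilizerι =
      conjR G ((l ≫ pullback.fst G.stabilizerToU G.t) ≫ G.stabilizerι)
        (l ≫ pullback.snd G.stabilizerToU G.t)
        (by rw [Category.assoc, Category.assoc, Category.assoc, stabι_t, pullback.condition])
        (by rw [Category.assoc, Category.assoc, Category.assoc, stabι_s, pullback.condition]) := by
  unfold conj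
  rw [Category.assoc, toStab_ι, comp_conjR]
  exact conjR_congr G _ _ (Category.assoc _ _ _).symm rfl

theorem isPullback_conj :
    IsPullback (conj G) (pullback.snd G.stabilizerToU G.t) G.stabilizerToU G.s := by
  refine IsPullback.of_isLimit (c := PullbackCone.mk (conj G) (pullback.snd G.stabilizerToU G.t)
    (conj_u G)) (PullbackCone.isLimitAux' _ (fun c => ?_))
  have hc := c.condition
  have hht : (c.fst ≫ G.stabilizerι) ≫ G.t = c.snd ≫ G.s := by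
    rw [Category.assoc, stabι_t, hc]
  have hhs : (c.fst ≫ G.stabilizerι) ≫ G.s = c.snd ≫ G.s := by
    rw [Category.assoc, stabι_s, hc]
  let γ : c.pt ⟶ G.stabilizer :=
    toStab G (conjR' G (c.fst ≫ G.stabilizerι) c.snd hht hhs) (by rw [conjR'_t, conjR'_s])
  have hγ : γ ≫ G.stabilizerToU = c.snd ≫ G.t := by
    show toStab G _ _ ≫ _ = _
    rw [toStab_u, conjR'_s]
  refine ⟨pullback.lift γ c.snd hγ, ?_, ?_, ?_⟩
  · show pullback.lift γ c.snd hγ ≫ conj G = c.fst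
    apply stab_hom_ext
    rw [comp_conj_ι]
    have e1 : (pullback.lift γ c.snd hγ ≫ pullback.fst G.stabilizerToU G.t) ≫ G.stabilizerι =
        conjR' G (c.fst ≫ G.stabilizerι) c.snd hht hhs := by
      rw [pullback.lift_fst]
      exact toStab_ι G _ _
    have e2 : pullback.lift γ c.snd hγ ≫ pullback.snd G.stabilizerToU G.t = c.snd :=
      pullback.lift_snd _ _ _
    rw [conjR_congr G _ _ e1 e2]
    exact conjR_conjR' G _ _ hht hhs
  · exact pullback.lift_snd _ _ _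
  · intro m₀ hm1 hm2
    obtain ⟨m, rfl⟩ : ∃ m : c.pt ⟶ pullback G.stabilizerToU G.t, m = m₀ := ⟨m₀, rfl⟩
    have hm1' : m ≫ conj G = c.fst := hm1
    have hm2' : m ≫ pullback.snd G.stabilizerToU G.t = c.snd := hm2
    show m = _
    apply pullback.hom_ext
    · rw [pullback.lift_fst]
      apply stab_hom_ext
      show _ = toStab G _ _ ≫ _
      rw [toStab_ι]
      have hgt : ((m ≫ pullback.fst G.stabilizerToU G.t) ≫ G.stabilizerι) ≫ G.t =
          (m ≫ pullback.snd G.stabilizerToU G.t) ≫ G.t := by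
        rw [Category.assoc, Category.assoc, Category.assoc, stabι_t, pullback.condition]
      have hgs : ((m ≫ pullback.fst G.stabilizerToU G.t) ≫ G.stabilizerι) ≫ G.s =
          (m ≫ pullback.snd G.stabilizerToU G.t) ≫ G.t := by
        rw [Category.assoc, Category.assoc, Category.assoc, stabι_s, pullback.condition]
      have e3 : c.fst ≫ G.stabilizerι = conjR G _ _ hgt hgs := by
        rw [← hm1', comp_conj_ι]
      rw [conjR'_congr G hht hhs e3 hm2'.symm]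
      exact (conjR'_conjR G _ _ hgt hgs).symm
    · rw [pullback.lift_snd]
      exact hm2'

end Groth.Agent.Lib.helper4.AlgSpGpdConj
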