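import Groth.Agent.Lib.Helper5.AlgSpLargestOpen
import Groth.Prelude.Def_AlgSpGpd
import Groth.Prelude.Def_AlgSpCov

/-!
# Invariance of the largest open of a groupoid over which a morphism has a property (helper4)

Let `(U, R, s, t, c)` be a groupoid in algebraic spaces, `f : X ⟶ U` a morphism of algebraic spaces whose base changes
along `t` and along `s` are the same morphism `f' : X' ⟶ R` (two cartesian squares).  If `P` is local on the base for the
coverings `IsCover Q` (`Q` as in helper5's `QData`), `s` and `t` have `Q`, and `W ⊆ U` is the largest open over which `f`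
has `P`, then `W` is `R`-invariant.
-/

set_option autoImplicit false
universe u
open CategoryTheory CategoryTheory.Limits AlgebraicGeometry
open AlgSp

namespace Groth.Agent.Lib.helper4.AlgSpGpdInvariant

open Groth.Agent.Lib.helper5.LargestOpen Groth.Agent.Lib.helper5.OpenSub

variable {S : Scheme.{u}}

theorem isInvariant_of_two_squares {Q P : MorphismProperty (Sp S)} (hQ : QData Q)
    (hP : IsLocalOnBase (fun _ _ Y g => IsCover Q Y g) P)
    {B : Sp S} (G : GroupoidSp B) (hU : IsAlgSpace G.U) (hR : IsAlgSpace G.R)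
    (hs : Q G.s) (ht : Q G.t)
    {X X' : Sp S} (hX : IsAlgSpace X) (hX' : IsAlgSpace X') (f : X ⟶ G.U) (f' : X' ⟶ G.R)
    (a b : X' ⟶ X) (sqt : IsPullback a f' f G.t) (sqs : IsPullback b f' f G.s)
    {W : Sp S} (hWsp : IsAlgSpace W) (w : W ⟶ G.U) (hw : RepWith @IsOpenImmersion w)
    (hmax : ∀ (W' : Sp S) (w' : W' ⟶ G.U), IsAlgSpace W' → RepWith @IsOpenImmersion w' →
      (P (pullback.snd f w') ↔ ∃ k : W' ⟶ W, k ≫ w = w')) :
    G.IsInvariant w := by
  -- package as objects of `Space S`
  let US : Space S := ⟨G.U, hU⟩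
  let RS : Space S := ⟨G.R, hR⟩
  let XS : Space S := ⟨X, hX⟩
  let XS' : Space S := ⟨X', hX'⟩
  let fS : XS ⟶ US := ObjectProperty.homMk f
  let fS' : XS' ⟶ RS := ObjectProperty.homMk f'
  let sS : RS ⟶ US := ObjectProperty.homMk G.s
  let tS : RS ⟶ US := ObjectProperty.homMk G.t
  let aS : XS' ⟶ XS := ObjectProperty.homMk a
  let bS : XS' ⟶ XS := ObjectProperty.homMk b
  have hopen : IsOpen (Set.range (Points.map w)) :=
    (hQ.isOpenMap w hWsp hU (hQ.oi w hWsp hU hw)).isOpen_range
  let Ω : TopologicalSpace.Opens (Points US.obj) := ⟨Set.range (Points.map w), hopen⟩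
  -- `P` holds over `Ω`
  have hWA : HoldsOver P fS (Ω : Set (Points US.obj)) := by
    intro W₁ X₁ j₁ j₁' f₁ hj₁ hr sq₁
    have h1 : P (pullback.snd f j₁.hom) :=
      (hmax W₁.obj j₁.hom W₁.property hj₁).2
        ((factors_iff w hw j₁.hom).2 (by rw [hr]; exact subset_rfl))
    have sqc : IsPullback (pullback.fst f j₁.hom) (pullback.snd f j₁.hom) f j₁.hom :=
      IsPullback.of_hasPullback _ _
    have hXc : IsAlgSpace (pullback f j₁.hom) :=
      Groth.Agent.Lib.helper5.isAlgSpace_of_isPullback hU.diag hX W₁.property sqc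
    obtain ⟨l, hl1, hl2⟩ := sqc.exists_lift j₁'.hom f₁.hom sq₁.w
    have big : IsPullback (l ≫ pullback.fst f j₁.hom) f₁.hom f (𝟙 W₁.obj ≫ j₁.hom) := by
      rw [hl1, Category.id_comp]; exact sq₁
    have left : IsPullback l f₁.hom (pullback.snd f j₁.hom) (𝟙 W₁.obj) :=
      IsPullback.of_right big (by rw [hl2, Category.comp_id]) sqc
    exact (iff_of_single_cover hP hXc W₁.property X₁.property W₁.property left
      (hQ.oi _ W₁.property W₁.property
        (Groth.Agent.Lib.helper7.repWith_of_isIso @IsOpenImmersion (𝟙 W₁.obj)))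
      (fun y => ⟨y, by rw [Points.map_id]⟩)).1 h1
  -- `Ω` is the largest such open
  have hWB : ∀ V : TopologicalSpace.Opens (Points US.obj),
      HoldsOver P fS (V : Set (Points US.obj)) → V ≤ Ω := by
    intro V hV
    obtain ⟨W', j', hj', hr', -⟩ := exists_openSub US (V : Set (Points US.obj)) V.2
    have sqc : IsPullback (pullback.fst f j'.hom) (pullback.snd f j'.hom) f j'.hom :=
      IsPullback.of_hasPullback _ _
    have hXc : IsAlgSpace (pullback f j'.hom) :=
      Groth.Agent.Lib.helper5.isAlgSpace_of_isPullback hU.diag hX W'.property sqc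
    have hP' : P (pullback.snd f j'.hom) :=
      hV W' ⟨_, hXc⟩ j' (ObjectProperty.homMk (pullback.fst f j'.hom))
        (ObjectProperty.homMk (pullback.snd f j'.hom)) hj' hr' sqc
    have hk := (hmax W'.obj j'.hom W'.property hj').1 hP'
    have hsub := (factors_iff w hw j'.hom).1 hk
    intro y hy
    have hy' : y ∈ Set.range (Points.map j'.hom) := by rw [hr']; exact hy
    exact hsub hy'
  -- the largest open for `f'`
  obtain ⟨Ω', hA', hB', -, -⟩ := exists_largest_open hQ hP fS'
  have e1 : (Ω' : Set (Points RS.obj)) = Points.map G.t ⁻¹' (Ω : Set (Points US.obj)) :=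
    eq_preimage hQ hP fS tS aS fS' ht sqt Ω hWA hWB Ω' hA' hB'
  have e2 : (Ω' : Set (Points RS.obj)) = Points.map G.s ⁻¹' (Ω : Set (Points US.obj)) :=
    eq_preimage hQ hP fS sS bS fS' hs sqs Ω hWA hWB Ω' hA' hB'
  have e3 : Points.map G.t ⁻¹' (Set.range (Points.map w)) =
      Points.map G.s ⁻¹' (Set.range (Points.map w)) := e1.symm.trans e2
  intro T r
  rw [factors_iff w hw (r ≫ G.t), factors_iff w hw (r ≫ G.s)]
  have key : ∀ g : G.R ⟶ G.U, Set.range (Points.map (r ≫ g)) ⊆ Set.range (Points.map w) ↔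
      ∀ x, Points.map r x ∈ Points.map g ⁻¹' (Set.range (Points.map w)) := by
    intro g
    constructor
    · intro h x
      rw [Set.mem_preimage, ← Points.map_comp]
      exact h ⟨x, rfl⟩
    · rintro h _ ⟨x, rfl⟩
      rw [Points.map_comp]
      exact h x
  rw [key G.t, key G.s, e3]

end Groth.Agent.Lib.helper4.AlgSpGpdInvariant
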