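import Groth.Agent.Lib.Helper4.LqfPr1
import Groth.Agent.Lib.Helper1.SevenProps

/-!
# Locally quasi-finite morphisms of algebraic spaces and the first projection of the self fibre product (helper4)

`locP_lqf_of_isPullback_fst`: let `p : F ⟶ h_T` be a locally of finite type morphism from an algebraic space to a
scheme and `π, σ : H' ⟶ F` a kernel pair of `p`.  If `π` is locally quasi-finite then so is `p`.
-/

set_option autoImplicit false
set_option backward.isDefEq.respectTransparency false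
set_option backward.isDefEq.respectTransparency.types false

universe u

open CategoryTheory CategoryTheory.Limits AlgebraicGeometry
open AlgSp

namespace Groth.Agent.Lib.helper4.AlgSpLqfPr1

variable {S : Scheme.{u}}

theorem locP_lqf_of_isPullback_fst {F : Sp S} (hF : IsAlgSpace F) {T : Over S}
    (p : F ⟶ (yon S).obj T) (hlft : LocP @LocallyOfFiniteType p) {H' : Sp S} (π σ : H' ⟶ F)
    (sq : IsPullback π σ p p) (hπ : LocP (@LocallyQuasiFinite ⊓ @LocallyOfFiniteType) π) :
    LocP (@LocallyQuasiFinite ⊓ @LocallyOfFiniteType) p := by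
  obtain ⟨U, c, hce, hcs⟩ := hF.atlas
  obtain ⟨h, hh⟩ := (yon S).map_surjective (c ≫ p)
  refine Groth.Agent.H1.Seven.locP_of_one_chart Groth.Agent.Lib.helper5.LocPBC.locPData_lqf p c (𝟙 _) h
    hce hcs (repWith_id _ T) (by rw [hh, Category.comp_id]) ?_
  have hlft' : LocallyOfFiniteType h.left :=
    hlft c (𝟙 _) h hce (repWith_id _ T) (by rw [hh, Category.comp_id])
  refine ⟨?_, hlft'⟩
  -- the fibre square of `h` in `Over S`
  have sqW : IsPullback (pullback.fst h h) (pullback.snd h h) h h := IsPullback.of_hasPullback h h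
  have sqWl := sqW.map (Over.forget S)
  have sqWy := sqW.map (yon S)
  refine Groth.Agent.Lib.helper4.LqfPr1.locallyQuasiFinite_of_isPullback_fst sqWl ?_
  change LocallyQuasiFinite (pullback.fst h h).left
  -- `M = h_U ×_{h_T} F`
  have sqM : IsPullback (pullback.fst (c ≫ p) p) (pullback.snd (c ≫ p) p) (c ≫ p) p :=
    IsPullback.of_hasPullback _ _
  -- `k₁ : h_W ⟶ M`
  let k₁ : (yon S).obj (pullback h h) ⟶ pullback (c ≫ p) p :=
    pullback.lift ((yon S).map (pullback.fst h h)) ((yon S).map (pullback.snd h h) ≫ c) (by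
      rw [Category.assoc, ← hh, sqWy.w])
  have hk₁1 : k₁ ≫ pullback.fst (c ≫ p) p = (yon S).map (pullback.fst h h) := pullback.lift_fst _ _ _
  have hk₁2 : k₁ ≫ pullback.snd (c ≫ p) p = (yon S).map (pullback.snd h h) ≫ c :=
    pullback.lift_snd _ _ _
  have sqk₁ : IsPullback k₁ ((yon S).map (pullback.snd h h)) (pullback.snd (c ≫ p) p) c := by
    refine IsPullback.of_right ?_ hk₁2 sqM
    rw [hk₁1, ← hh]
    exact sqWy
  have hk₁ : RepWith @Etale k₁ := (RepWith (S := S) @Etale).of_isPullback sqk₁.flip hce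
  -- `m₂ : M ⟶ H'`
  obtain ⟨m₂, hm₂1, hm₂2⟩ := sq.exists_lift (pullback.fst (c ≫ p) p ≫ c) (pullback.snd (c ≫ p) p) (by
    rw [Category.assoc, sqM.w])
  have sqm₂ : IsPullback m₂ (pullback.fst (c ≫ p) p) π c := by
    refine IsPullback.of_right (h₁₂ := σ) (h₂₂ := p) (v₁₃ := p) ?_ hm₂1 sq.flip
    rw [hm₂2]
    exact sqM.flip
  have hm₂ : RepWith @Etale m₂ := (RepWith (S := S) @Etale).of_isPullback sqm₂.flip hce
  have hk : RepWith @Etale (k₁ ≫ m₂) := (RepWith (S := S) @Etale).comp_mem _ _ hk₁ hm₂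
  have := hπ (k₁ ≫ m₂) c (pullback.fst h h) hk hce (by
    rw [Category.assoc, hm₂1, ← Category.assoc, hk₁1])
  exact this.1

end Groth.Agent.Lib.helper4.AlgSpLqfPr1
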