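import Mathlib
import Groth.Agent.Lib.Helper5.AlgSpInf3
import Groth.Agent.Lib.Helper5.AlgSpUniv2

/-!
# Monomorphisms of algebraic spaces into the spectrum of a field (helper4)

A monomorphism from a nonempty algebraic space to the spectrum of a field is an isomorphism.
-/

set_option backward.isDefEq.respectTransparency false
set_option backward.isDefEq.respectTransparency.types false
set_option autoImplicit false
set_option linter.style.haveILetI false
set_option linter.unusedSectionVars false
set_option linter.unusedVariables false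
set_option linter.unusedSimpArgs false

universe u

open CategoryTheory CategoryTheory.Limits AlgebraicGeometry

namespace Groth.Agent.Lib.helper4.AlgSpMonoField

variable {S : Scheme.{u}}

/-- a square which is cartesian after composing with a monomorphism is cartesian -/
theorem isPullback_of_comp_mono {C : Type*} [Category C] {P X Y W Z : C} {fst : P ⟶ X} {snd : P ⟶ Y}
    {f : X ⟶ W} {g : Y ⟶ W} (i : W ⟶ Z) [Mono i] (h : IsPullback fst snd (f ≫ i) (g ≫ i)) :
    IsPullback fst snd f g := by
  have w : fst ≫ f = snd ≫ g := (cancel_mono i).1 (by simpa using h.w)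
  exact ⟨⟨w⟩, ⟨PullbackCone.IsLimit.mk w
    (fun s => h.lift s.fst s.snd (by rw [← Category.assoc, s.condition, Category.assoc]))
    (fun s => h.lift_fst _ _ _) (fun s => h.lift_snd _ _ _)
    (fun s m h1 h2 => h.hom_ext (by rw [h1, h.lift_fst]) (by rw [h2, h.lift_snd]))⟩⟩

/-- a monomorphism from a nonempty algebraic space to the spectrum of a field is an isomorphism -/
theorem isIso_of_mono_to_field {k : Type u} [Field k] (a : Spec (CommRingCat.of k) ⟶ S) {F : AlgSp.Sp S}
    (hF : AlgSp.IsAlgSpace F) (m : F ⟶ (AlgSp.yon S).obj (Over.mk a)) [Mono m]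
    (hne : Nonempty (AlgSp.Points F)) : IsIso m := by
  obtain ⟨V, p, hpe, hps⟩ := hF.atlas
  obtain ⟨x⟩ := hne
  obtain ⟨y, -⟩ := Groth.Agent.Lib.helper5.surjective_map_of_repWith_surjective p hps x
  let v : ↥V.left := (AlgSp.Points.schemeHomeo V).symm y
  obtain ⟨V₀, hV₀, hv⟩ : ∃ V₀ : V.left.Opens, IsAffineOpen V₀ ∧ v ∈ V₀ := by
    obtain ⟨V₀, hV₀, hv, -⟩ := TopologicalSpace.Opens.isBasis_iff_nbhd.1 (Scheme.isBasis_affineOpens V.left)
      (show v ∈ (⊤ : V.left.Opens) from trivial)
    exact ⟨V₀, hV₀, hv⟩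
  have : IsAffine V₀.toScheme := hV₀
  let j : Over.mk (V₀.ι ≫ V.hom) ⟶ V := Over.homMk V₀.ι rfl
  have hj : AlgSp.RepWith @Etale ((AlgSp.yon S).map j) := by
    rw [AlgSp.repWith_yon_map_iff]
    change Etale V₀.ι
    infer_instance
  have hp₀ : AlgSp.RepWith @Etale ((AlgSp.yon S).map j ≫ p) :=
    MorphismProperty.comp_mem _ _ _ hj hpe
  obtain ⟨v₀, hv₀⟩ := (AlgSp.yon S).map_surjective (((AlgSp.yon S).map j ≫ p) ≫ m)
  have sq : IsPullback (pullback.fst v₀ v₀) (pullback.snd v₀ v₀) v₀ v₀ := IsPullback.of_hasPullback _ _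
  have sq1 := sq.map (AlgSp.yon S)
  rw [hv₀] at sq1
  have sq2 := isPullback_of_comp_mono m sq1
  have het : Etale (pullback.snd v₀ v₀).left := hp₀.2 _ _ _ sq2
  have sq3 := (sq.map (Over.forget S)).flip
  have hsub : Subsingleton ↥(Over.mk a).left := by
    change Subsingleton (PrimeSpectrum k); infer_instance
  have hint : IsIntegral (Over.mk a).left := by
    change IsIntegral (Spec (CommRingCat.of k)); infer_instance
  have haff : IsAffine (Over.mk a).left := by
    change IsAffine (Spec (CommRingCat.of k)); infer_instance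
  have haff₀ : IsAffine (Over.mk (V₀.ι ≫ V.hom)).left := hV₀
  have hfl : Flat v₀.left := inferInstance
  have hqc : QuasiCompact v₀.left := inferInstance
  have hsurj : Surjective v₀.left := by
    constructor
    intro z
    exact ⟨⟨v, hv⟩, Subsingleton.elim _ _⟩
  have hQ : (@Surjective ⊓ @Flat ⊓ @QuasiCompact : MorphismProperty Scheme.{u}) v₀.left :=
    ⟨⟨hsurj, hfl⟩, hqc⟩
  have het₀ : Etale v₀.left :=
    MorphismProperty.DescendsAlong.of_isPullback (P := @Etale)
      (Q := (@Surjective ⊓ @Flat ⊓ @QuasiCompact : MorphismProperty Scheme.{u})) sq3 hQ het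
  have hepi : Epi ((AlgSp.yon S).map v₀) :=
    Groth.Agent.Lib.helper5.epi_of_etale_surjective _
      ((AlgSp.repWith_yon_map_iff @Etale v₀).2 het₀) ((AlgSp.repWith_yon_map_iff @Surjective v₀).2 hsurj)
  rw [hv₀] at hepi
  have : Epi m := epi_of_epi ((AlgSp.yon S).map j ≫ p) m
  exact isIso_of_mono_of_epi m

end Groth.Agent.Lib.helper4.AlgSpMonoField
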