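import Mathlib
import Groth.Agent.S9920
import Groth.Agent.S9929
import Groth.Agent.Lib.Helper5.AlgSpQCFam
import Groth.Agent.Lib.Helper5.AlgSpAffDesc
import Groth.Agent.Lib.Helper10.AlgSpPoints
set_option autoImplicit false
set_option backward.isDefEq.respectTransparency false
set_option backward.isDefEq.respectTransparency.types false
set_option linter.unusedSectionVars false
set_option linter.style.haveILetI false
set_option linter.unusedVariables false
open CategoryTheory CategoryTheory.Functor CategoryTheory.Limits Opposite AlgebraicGeometry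
universe u

/-! Monomorphisms of algebraic spaces into locally Noetherian schemes: a generic lifting criterion
for quasi-compactness (Noetherian induction). -/

namespace Groth.Agent.Lib.helper4.AlgSpNoethMono
open AlgSp Groth.Agent.Lib.helper5 Groth.Agent.Lib.helper7.AlgSpFibre

variable {S : Scheme.{u}}

/-- a morphism from a quasi-compact algebraic space to a quasi-separated scheme is quasi-compact -/
theorem isQuasiCompactMor_of_quasiSeparatedSpace {X : Sp S} (hXa : IsAlgSpace X) (V₀ : Over S)
    [QuasiSeparatedSpace ↥V₀.left] (f : X ⟶ (yon S).obj V₀) (hX : IsQuasiCompactSp X) :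
    IsQuasiCompactMor f := by
  intro Z Z' hZ hZq g fstZ sndZ sqZ
  have hYa : IsAlgSpace ((yon S).obj V₀) := IsAlgSpace.yon_obj V₀
  have hZ' : IsAlgSpace Z' := isAlgSpace_of_isPullback hYa.diag hXa hZ sqZ
  obtain ⟨U, a, hU, hae, has⟩ := Groth.Agent.S9920.exists_affine_chart hXa hX
  obtain ⟨V, b, hV, hbe, hbs⟩ := Groth.Agent.S9920.exists_affine_chart hZ hZq
  have sqA : IsPullback (pullback.fst fstZ a) (pullback.snd fstZ a) fstZ a :=
    IsPullback.of_hasPullback _ _
  have hAs : IsSurjectiveMor (pullback.fst fstZ a) :=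
    isSurjectiveMor_of_isPullback sqA (surjective_map_of_repWith_surjective a has)
  have sqA' : IsPullback (pullback.snd fstZ a) (pullback.fst fstZ a ≫ sndZ) (a ≫ f) g :=
    sqA.flip.paste_vert sqZ
  have sqB : IsPullback (pullback.fst (pullback.fst fstZ a ≫ sndZ) b)
      (pullback.snd (pullback.fst fstZ a ≫ sndZ) b) (pullback.fst fstZ a ≫ sndZ) b :=
    IsPullback.of_hasPullback _ _
  have hBs : IsSurjectiveMor (pullback.fst (pullback.fst fstZ a ≫ sndZ) b) :=
    isSurjectiveMor_of_isPullback sqB (surjective_map_of_repWith_surjective b hbs)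
  have sqBig := sqB.paste_horiz sqA'
  obtain ⟨P, snd, fst', sqP⟩ := hYa.representable_from_yon (a ≫ f) (b ≫ g)
  obtain ⟨fstP, rfl⟩ := (yon S).map_surjective fst'
  have : CompactSpace ↥U.left := by have := hU; infer_instance
  have : CompactSpace ↥V.left := by have := hV; infer_instance
  obtain ⟨u, hu⟩ := (yon S).map_surjective (a ≫ f)
  obtain ⟨v, hv⟩ := (yon S).map_surjective (b ≫ g)
  have sqP' := sqP
  rw [← hu, ← hv] at sqP'
  have sqL : IsPullback fstP.left snd.left u.left v.left := Groth.Agent.Lib.helper5.AffDesc.isPullback_left_of_yon sqP'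
  have hPc : CompactSpace ↥P.left := by
    have h1 : CompactSpace ↥(pullback u.left v.left) := inferInstance
    exact (Scheme.homeoOfIso sqL.isoPullback).symm.compactSpace
  have hPc' : CompactSpace (Points ((yon S).obj P)) := (Points.schemeHomeo P).compactSpace
  let e := sqP.isoIsPullback _ _ sqBig
  have hB : CompactSpace (Points (pullback (pullback.fst fstZ a ≫ sndZ) b)) :=
    compactSpace_of_surjective e.hom (Groth.Agent.S9920.surjective_map_of_iso e)
  have hA : CompactSpace (Points (pullback fstZ a)) := compactSpace_of_surjective _ hBs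
  have hZc : CompactSpace (Points Z') := compactSpace_of_surjective _ hAs
  exact isQuasiCompactSp_of_compactSpace hZ'.atlas

/-- the lifting hypothesis: for a domain `A` and `g : Spec A ⟶ X₀`, if `g` lifts to `F` at the points of a
dense subset (through the residue fields), then it lifts over a nonempty open subscheme -/
def HLift {F : Sp S} {X₀ : Over S} (π : F ⟶ (yon S).obj X₀) : Prop :=
  ∀ (A : Type u) [CommRing A] [IsDomain A] (sA : Spec (CommRingCat.of A) ⟶ S)
    (g : Over.mk sA ⟶ X₀) (D : Set ↥(Spec (CommRingCat.of A))), Dense D →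
    (∀ p ∈ D, ∃ σ : (yon S).obj (Over.mk ((Spec (CommRingCat.of A)).fromSpecResidueField p ≫ sA)) ⟶ F,
      σ ≫ π = (yon S).map ((Over.homMk ((Spec (CommRingCat.of A)).fromSpecResidueField p) rfl :
        Over.mk ((Spec (CommRingCat.of A)).fromSpecResidueField p ≫ sA) ⟶ Over.mk sA) ≫ g)) →
    ∃ U : (Spec (CommRingCat.of A)).Opens, (U : Set ↥(Spec (CommRingCat.of A))).Nonempty ∧
      ∃ σ : (yon S).obj (Over.mk (U.ι ≫ sA)) ⟶ F,
        σ ≫ π = (yon S).map ((Over.homMk U.ι rfl : Over.mk (U.ι ≫ sA) ⟶ Over.mk sA) ≫ g)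

section Lift

variable {F : Sp S} {X₀ : Over S} (π : F ⟶ (yon S).obj X₀) [Mono π]

/-- a field valued point of the base lying under a point of `F` lifts to `F` -/
theorem exists_lift_of_field (hF : IsAlgSpace F) (k : Type u) [Field k] (str : Spec (CommRingCat.of k) ⟶ S)
    (t : Over.mk str ⟶ X₀) (z : Points F) (x : ↥(Spec (CommRingCat.of k)))
    (hz : (Points.schemeHomeo X₀).symm (Points.map π z) = t.left x) :
    ∃ σ : (yon S).obj (Over.mk str) ⟶ F, σ ≫ π = (yon S).map t := by
  have sq : IsPullback (pullback.fst π ((yon S).map t)) (pullback.snd π ((yon S).map t)) π ((yon S).map t) :=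
    IsPullback.of_hasPullback _ _
  have hP : IsAlgSpace (pullback π ((yon S).map t)) :=
    isAlgSpace_of_isPullback (IsAlgSpace.yon_obj X₀).diag hF (IsAlgSpace.yon_obj _) sq
  have hzz : Points.map π z = Points.map ((yon S).map t) (Points.schemeHomeo (Over.mk str) x) := by
    rw [Points.map_yon_map_apply, ← hz, Homeomorph.apply_symm_apply]
  obtain ⟨w, -, -⟩ := Groth.Agent.Lib.helper10.exists_point_of_isPullback sq z _ hzz
  let Z : AlgSp.Space S := ⟨pullback π ((yon S).map t), hP⟩
  let f : Z ⟶ (AlgSp.ofScheme S).obj (Over.mk str) := ObjectProperty.homMk (pullback.snd π ((yon S).map t))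
  have hm : Mono f.hom := inferInstanceAs (Mono (pullback.snd π ((yon S).map t)))
  have hiso : IsIso f := Groth.Agent.S9929.main str Z f ⟨w⟩
  have hiso' : IsIso (pullback.snd π ((yon S).map t)) :=
    inferInstanceAs (IsIso ((ObjectProperty.ι (IsAlgSpace (S := S))).map f))
  refine ⟨inv (pullback.snd π ((yon S).map t)) ≫ pullback.fst π ((yon S).map t), ?_⟩
  rw [Category.assoc, sq.w, IsIso.inv_hom_id_assoc]

/-- a point of `F` lying over a point of a section lies in the image of the section -/
theorem eq_map_of_section (T : Over S) (t : T ⟶ X₀) (σ : (yon S).obj T ⟶ F) (hσ : σ ≫ π = (yon S).map t)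
    (z : Points F) (x : ↥T.left)
    (hz : (Points.schemeHomeo X₀).symm (Points.map π z) = t.left x) :
    z = Points.map σ (Points.schemeHomeo T x) := by
  have sq : IsPullback (pullback.fst π ((yon S).map t)) (pullback.snd π ((yon S).map t)) π ((yon S).map t) :=
    IsPullback.of_hasPullback _ _
  have hzz : Points.map π z = Points.map ((yon S).map t) (Points.schemeHomeo T x) := by
    rw [Points.map_yon_map_apply, ← hz, Homeomorph.apply_symm_apply]
  obtain ⟨w, hw1, hw2⟩ := Groth.Agent.Lib.helper10.exists_point_of_isPullback sq z _ hzz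
  let s : (yon S).obj T ⟶ pullback π ((yon S).map t) := pullback.lift σ (𝟙 _) (by rw [hσ, Category.id_comp])
  have hs1 : s ≫ pullback.snd π ((yon S).map t) = 𝟙 _ := pullback.lift_snd _ _ _
  have hs2 : s ≫ pullback.fst π ((yon S).map t) = σ := pullback.lift_fst _ _ _
  have hs3 : pullback.snd π ((yon S).map t) ≫ s = 𝟙 _ := by
    rw [← cancel_mono (pullback.snd π ((yon S).map t)), Category.assoc, hs1, Category.comp_id, Category.id_comp]
  calc z = Points.map (pullback.fst π ((yon S).map t)) w := hw1.symm
    _ = Points.map (pullback.snd π ((yon S).map t) ≫ s ≫ pullback.fst π ((yon S).map t)) w := by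
        rw [← Category.assoc, hs3, Category.id_comp]
    _ = Points.map σ (Points.map (pullback.snd π ((yon S).map t)) w) := by rw [hs2, Points.map_comp]
    _ = _ := by rw [hw2]

end Lift

/-- **Noetherian induction**: an algebraic space with a monomorphism to a Noetherian scheme satisfying the
generic lifting hypothesis has a quasi-compact space of points -/
theorem compactSpace_points_of_isNoetherian {F : Sp S} (hF : IsAlgSpace F) (X₀ : Over S)
    [IsNoetherian X₀.left] (π : F ⟶ (yon S).obj X₀) [Mono π] (H : HLift π) :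
    CompactSpace (Points F) := by
  let τ : Points F → ↥X₀.left := fun z => (Points.schemeHomeo X₀).symm (Points.map π z)
  have hτ : Continuous τ := (Points.schemeHomeo X₀).symm.continuous.comp (Points.continuous_map π)
  suffices h : ∀ C : TopologicalSpace.Closeds ↥X₀.left, IsCompact (τ ⁻¹' (C : Set ↥X₀.left)) by
    have h1 := h ⊤
    rw [TopologicalSpace.Closeds.coe_top, Set.preimage_univ] at h1
    exact isCompact_univ_iff.mp h1
  intro C
  induction C using WellFoundedLT.induction with
  | ind C IH =>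
  by_cases hirr : IsIrreducible (C : Set ↥X₀.left)
  swap
  · obtain ⟨Sset, hfin, hcl, hirrS, hC⟩ :=
      TopologicalSpace.NoetherianSpace.exists_finite_set_isClosed_irreducible C.isClosed
    rw [hC, Set.preimage_sUnion]
    refine hfin.isCompact_biUnion ?_
    intro t ht
    have hle : t ⊆ (C : Set ↥X₀.left) := by rw [hC]; exact Set.subset_sUnion_of_mem ht
    have hne : t ≠ (C : Set ↥X₀.left) := fun h => hirr (h ▸ hirrS t ht)
    exact IH ⟨t, hcl t ht⟩ (lt_of_le_of_ne hle (fun h => hne (congrArg (fun c : TopologicalSpace.Closeds ↥X₀.left => (c : Set ↥X₀.left)) h)))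
  -- the irreducible case
  obtain ⟨ξ, hξ⟩ := QuasiSober.sober hirr C.isClosed
  obtain ⟨O, hO, hξO, -⟩ := exists_isAffineOpen_mem_and_subset (x := ξ) (U := ⊤) trivial
  have hR : IsNoetherianRing Γ(X₀.left, O) := IsLocallyNoetherian.component_noetherian ⟨O, hO⟩
  let 𝔭 : PrimeSpectrum Γ(X₀.left, O) := hO.primeIdealOf ⟨ξ, hξO⟩
  let A := Γ(X₀.left, O) ⧸ 𝔭.asIdeal
  have hAd : IsDomain A := inferInstance
  have hAn : IsNoetherianRing A := inferInstance
  let q : Γ(X₀.left, O) ⟶ CommRingCat.of A := CommRingCat.ofHom (Ideal.Quotient.mk 𝔭.asIdeal)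
  let g₀ : Spec (CommRingCat.of A) ⟶ X₀.left := Spec.map q ≫ hO.fromSpec
  have : IsClosedImmersion (Spec.map q) := IsClosedImmersion.spec_of_surjective q Ideal.Quotient.mk_surjective
  have hemb : Topology.IsEmbedding g₀ := g₀.isEmbedding
  have hN : TopologicalSpace.NoetherianSpace ↥(Spec (CommRingCat.of A)) :=
    inferInstanceAs (TopologicalSpace.NoetherianSpace (PrimeSpectrum A))
  have hr1 : Set.range (Spec.map q) = PrimeSpectrum.zeroLocus (𝔭.asIdeal : Set Γ(X₀.left, O)) := by
    have := range_comap_of_surjective A (Ideal.Quotient.mk 𝔭.asIdeal) Ideal.Quotient.mk_surjective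
    rw [Ideal.mk_ker] at this
    exact this
  have hr2 : Set.range g₀ = (C : Set ↥X₀.left) ∩ O := by
    change Set.range (hO.fromSpec ∘ (Spec.map q)) = _
    rw [Set.range_comp, hr1, ← PrimeSpectrum.closure_singleton]
    have hi : Topology.IsInducing hO.fromSpec := hO.fromSpec.isOpenEmbedding.isInducing
    rw [hi.closure_eq_preimage_closure_image, Set.image_preimage_eq_inter_range, hO.range_fromSpec,
      Set.image_singleton, hO.fromSpec_primeIdealOf]
    change closure {ξ} ∩ _ = _
    rw [hξ.def]
  -- removing the image of a nonempty open subset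
  have key : ∀ U : (Spec (CommRingCat.of A)).Opens, (U : Set ↥(Spec (CommRingCat.of A))).Nonempty →
      IsCompact (τ ⁻¹' (g₀ '' (U : Set ↥(Spec (CommRingCat.of A))))) → IsCompact (τ ⁻¹' (C : Set ↥X₀.left)) := by
    intro U hUne hK
    obtain ⟨O'', hO'', hOU⟩ := hemb.isInducing.isOpen_iff.mp U.isOpen
    have himg : g₀ '' (U : Set ↥(Spec (CommRingCat.of A))) = (C : Set ↥X₀.left) ∩ ((O : Set ↥X₀.left) ∩ O'') := by
      rw [← hOU, Set.image_preimage_eq_inter_range, hr2]
      ext y
      simp only [Set.mem_inter_iff]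
      tauto
    have hQo : IsOpen ((O : Set ↥X₀.left) ∩ O'') := O.isOpen.inter hO''
    let C' : TopologicalSpace.Closeds ↥X₀.left :=
      ⟨(C : Set ↥X₀.left) ∩ ((O : Set ↥X₀.left) ∩ O'')ᶜ, C.isClosed.inter hQo.isClosed_compl⟩
    have hlt : C' < C := by
      refine lt_of_le_of_ne (fun y hy => hy.1) ?_
      intro heq
      obtain ⟨u, hu⟩ := hUne
      have h1 : g₀ u ∈ (C : Set ↥X₀.left) ∩ ((O : Set ↥X₀.left) ∩ O'') := himg ▸ Set.mem_image_of_mem g₀ hu
      have h2 : g₀ u ∈ (C' : Set ↥X₀.left) := by rw [heq]; exact h1.1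
      exact h2.2 h1.2
    have h3 := IH C' hlt
    have hsplit : (C : Set ↥X₀.left) = g₀ '' (U : Set ↥(Spec (CommRingCat.of A))) ∪ (C' : Set ↥X₀.left) := by
      rw [himg]
      change _ = (C : Set ↥X₀.left) ∩ ((O : Set ↥X₀.left) ∩ O'') ∪ (C : Set ↥X₀.left) ∩ ((O : Set ↥X₀.left) ∩ O'')ᶜ
      rw [← Set.inter_union_distrib_left, Set.union_compl_self, Set.inter_univ]
    rw [hsplit, Set.preimage_union]
    exact hK.union h3
  let sA : Spec (CommRingCat.of A) ⟶ S := g₀ ≫ X₀.hom
  let g : Over.mk sA ⟶ X₀ := Over.homMk g₀ rfl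
  let D : Set ↥(Spec (CommRingCat.of A)) := {p | g₀ p ∈ Set.range τ}
  by_cases hD : Dense D
  · have hl : ∀ p ∈ D, ∃ σ : (yon S).obj (Over.mk ((Spec (CommRingCat.of A)).fromSpecResidueField p ≫ sA)) ⟶ F,
        σ ≫ π = (yon S).map ((Over.homMk ((Spec (CommRingCat.of A)).fromSpecResidueField p) rfl :
          Over.mk ((Spec (CommRingCat.of A)).fromSpecResidueField p ≫ sA) ⟶ Over.mk sA) ≫ g) := by
      rintro p ⟨z, hz⟩
      refine exists_lift_of_field π hF ((Spec (CommRingCat.of A)).residueField p)
        ((Spec (CommRingCat.of A)).fromSpecResidueField p ≫ sA) _ z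
        (IsLocalRing.closedPoint ((Spec (CommRingCat.of A)).residueField p)) ?_
      change τ z = g₀ ((Spec (CommRingCat.of A)).fromSpecResidueField p _)
      rw [Scheme.fromSpecResidueField_apply, hz]
    obtain ⟨U, hUne, σ, hσ⟩ := H A sA g D hD hl
    apply key U hUne
    let T : Over S := Over.mk (U.ι ≫ sA)
    let t : T ⟶ X₀ := (Over.homMk U.ι rfl : Over.mk (U.ι ≫ sA) ⟶ Over.mk sA) ≫ g
    have hUc : CompactSpace ↥T.left :=
      isCompact_iff_compactSpace.mp (TopologicalSpace.NoetherianSpace.isCompact (U : Set ↥(Spec (CommRingCat.of A))))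
    have hTc : CompactSpace (Points ((yon S).obj T)) := (Points.schemeHomeo T).compactSpace
    have heq : τ ⁻¹' (g₀ '' (U : Set ↥(Spec (CommRingCat.of A)))) = Set.range (Points.map σ) := by
      ext z
      constructor
      · rintro ⟨u, hu, huz⟩
        exact ⟨Points.schemeHomeo T ⟨u, hu⟩, (eq_map_of_section π T t σ hσ z ⟨u, hu⟩ huz.symm).symm⟩
      · rintro ⟨w, rfl⟩
        obtain ⟨x, rfl⟩ := (Points.schemeHomeo T).surjective w
        refine ⟨x.1, x.2, ?_⟩
        change g₀ x.1 = (Points.schemeHomeo X₀).symm (Points.map π (Points.map σ (Points.schemeHomeo T x)))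
        rw [← Points.map_comp, hσ, Points.map_yon_map_apply, Homeomorph.symm_apply_apply]
        rfl
    rw [heq]
    exact isCompact_range (Points.continuous_map σ)
  · have hne : (closure D)ᶜ.Nonempty := by
      rw [Set.nonempty_compl]
      exact fun h => hD (dense_iff_closure_eq.mpr h)
    apply key ⟨(closure D)ᶜ, isClosed_closure.isOpen_compl⟩ hne
    have : τ ⁻¹' (g₀ '' (closure D)ᶜ) = ∅ := by
      rw [Set.eq_empty_iff_forall_notMem]
      rintro z ⟨u, hu, huz⟩
      exact hu (subset_closure (show u ∈ D from ⟨z, huz.symm⟩))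
    change IsCompact (τ ⁻¹' (g₀ '' (closure D)ᶜ))
    rw [this]
    exact isCompact_empty

/-- the lifting hypothesis restricts to open subschemes of the target -/
theorem hLift_pullback {F : Sp S} {V V' : Over S} (π : F ⟶ (yon S).obj V) (j : V' ⟶ V) (H : HLift π) :
    HLift (pullback.snd π ((yon S).map j)) := by
  intro A _ _ sA g' D hD hl
  have sqF : IsPullback (pullback.fst π ((yon S).map j)) (pullback.snd π ((yon S).map j)) π ((yon S).map j) :=
    IsPullback.of_hasPullback _ _
  obtain ⟨U, hU, σ, hσ⟩ := H A sA (g' ≫ j) D hD (by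
    intro p hp
    obtain ⟨σ', hσ'⟩ := hl p hp
    refine ⟨σ' ≫ pullback.fst π ((yon S).map j), ?_⟩
    rw [Category.assoc, sqF.w, ← Category.assoc, hσ', ← Functor.map_comp, Category.assoc])
  refine ⟨U, hU, pullback.lift σ ((yon S).map ((Over.homMk U.ι rfl : Over.mk (U.ι ≫ sA) ⟶ Over.mk sA) ≫ g')) ?_, ?_⟩
  · rw [hσ, ← Functor.map_comp, Category.assoc]
  · exact pullback.lift_snd _ _ _

/-- **Generic lifting criterion**: a monomorphism from an algebraic space to a locally Noetherian scheme which
satisfies the generic lifting hypothesis is quasi-compact -/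
theorem isQuasiCompactMor_of_mono {F : Sp S} (hF : IsAlgSpace F) (V : Over S) [IsLocallyNoetherian V.left]
    (π : F ⟶ (yon S).obj V) [Mono π] (H : HLift π) : IsQuasiCompactMor π := by
  intro W W' hW hWc k fstW sndW sqW
  have hVa : IsAlgSpace ((yon S).obj V) := IsAlgSpace.yon_obj V
  have hW' : IsAlgSpace W' := isAlgSpace_of_isPullback hVa.diag hF hW sqW
  obtain ⟨A, b, hA, hbe, hbs⟩ := Groth.Agent.S9920.exists_affine_chart hW hWc
  have : CompactSpace ↥A.left := by have := hA; infer_instance
  obtain ⟨κ, hκ⟩ := (yon S).map_surjective (b ≫ k)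
  obtain ⟨V's, hV'c, hV'o, hsub, -⟩ := PrespectralSpace.exists_isCompact_and_isOpen_between
    (isCompact_range κ.left.continuous) isOpen_univ (Set.subset_univ _)
  let V' : V.left.Opens := ⟨V's, hV'o⟩
  let V'o : Over S := Over.mk (V'.ι ≫ V.hom)
  let j : V'o ⟶ V := Over.homMk V'.ι rfl
  have h1 : CompactSpace ↥V'o.left := isCompact_iff_compactSpace.mp hV'c
  have h2 : IsLocallyNoetherian V'o.left := inferInstanceAs (IsLocallyNoetherian V'.toScheme)
  have h3 : IsNoetherian V'o.left := ⟨⟩
  have hr : Set.range κ.left ⊆ Set.range V'.ι := by rw [Scheme.Opens.range_ι]; exact hsub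
  let κ' : A ⟶ V'o := Over.homMk (IsOpenImmersion.lift V'.ι κ.left hr) (by
    change IsOpenImmersion.lift V'.ι κ.left hr ≫ V'.ι ≫ V.hom = A.hom
    rw [IsOpenImmersion.lift_fac_assoc]; exact Over.w κ)
  have hκ' : κ' ≫ j = κ := by
    apply Over.OverMorphism.ext
    change IsOpenImmersion.lift V'.ι κ.left hr ≫ V'.ι = κ.left
    exact IsOpenImmersion.lift_fac _ _ _
  have sqF : IsPullback (pullback.fst π ((yon S).map j)) (pullback.snd π ((yon S).map j)) π ((yon S).map j) :=
    IsPullback.of_hasPullback _ _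
  have hF' : IsAlgSpace (pullback π ((yon S).map j)) :=
    isAlgSpace_of_isPullback hVa.diag hF (IsAlgSpace.yon_obj V'o) sqF
  have hm : Mono (pullback.snd π ((yon S).map j)) := inferInstance
  have H' : HLift (pullback.snd π ((yon S).map j)) := hLift_pullback π j H
  have hc : CompactSpace (Points (pullback π ((yon S).map j))) :=
    compactSpace_points_of_isNoetherian hF' V'o _ H'
  have hq : IsQuasiCompactSp (pullback π ((yon S).map j)) := isQuasiCompactSp_of_compactSpace hF'.atlas
  have hπ' : IsQuasiCompactMor (pullback.snd π ((yon S).map j)) :=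
    isQuasiCompactMor_of_quasiSeparatedSpace hF' V'o _ hq
  have sqP : IsPullback (pullback.fst sndW b) (pullback.snd sndW b) sndW b := IsPullback.of_hasPullback _ _
  have hPs : IsSurjectiveMor (pullback.fst sndW b) :=
    isSurjectiveMor_of_isPullback sqP (surjective_map_of_repWith_surjective b hbs)
  have sqBig : IsPullback (pullback.fst sndW b ≫ fstW) (pullback.snd sndW b) π (b ≫ k) := sqP.paste_horiz sqW
  have hbk : b ≫ k = (yon S).map κ' ≫ (yon S).map j := by rw [← Functor.map_comp, hκ', hκ]
  let l : pullback sndW b ⟶ pullback π ((yon S).map j) :=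
    pullback.lift (pullback.fst sndW b ≫ fstW) (pullback.snd sndW b ≫ (yon S).map κ') (by
      rw [sqBig.w, hbk, Category.assoc])
  have hl1 : l ≫ pullback.fst π ((yon S).map j) = pullback.fst sndW b ≫ fstW := pullback.lift_fst _ _ _
  have hl2 : l ≫ pullback.snd π ((yon S).map j) = pullback.snd sndW b ≫ (yon S).map κ' := pullback.lift_snd _ _ _
  have sqL : IsPullback l (pullback.snd sndW b) (pullback.snd π ((yon S).map j)) ((yon S).map κ') := by
    refine IsPullback.of_right ?_ hl2 sqF
    rw [hl1, ← hbk]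
    exact sqBig
  have hPq : IsQuasiCompactSp (pullback sndW b) :=
    hπ' (IsAlgSpace.yon_obj A) (Groth.Agent.Lib.helper7.AlgSpQC.isQuasiCompactSp_yon A) ((yon S).map κ') l _ sqL
  have hPc : CompactSpace (Points (pullback sndW b)) := compactSpace_of_isQuasiCompactSp hPq
  have hZc : CompactSpace (Points W') := compactSpace_of_surjective _ hPs
  exact isQuasiCompactSp_of_compactSpace hW'.atlas

end Groth.Agent.Lib.helper4.AlgSpNoethMono
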