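import Groth.Agent.Lib.Helper4.AlgSpNoethMono
set_option autoImplicit false
set_option backward.isDefEq.respectTransparency false
set_option backward.isDefEq.respectTransparency.types false
set_option linter.unusedSectionVars false
set_option linter.style.haveILetI false
set_option linter.unusedVariables false
open CategoryTheory CategoryTheory.Functor CategoryTheory.Limits Opposite AlgebraicGeometry
universe u

/-! Morphisms of algebraic spaces into locally Noetherian schemes: quasi-compactness from generic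
quasi-compactness (Noetherian induction). -/

namespace Groth.Agent.Lib.helper4.AlgSpNoethQC
open AlgSp Groth.Agent.Lib.helper5 Groth.Agent.Lib.helper7.AlgSpFibre Groth.Agent.Lib.helper4.AlgSpNoethMono

variable {S : Scheme.{u}}

/-- generic quasi-compactness: for a domain `A` and `g : Spec A ⟶ X₀` there is a nonempty open subscheme of
`Spec A` over which the base change of `F` is quasi-compact -/
def HQC {F : Sp S} {X₀ : Over S} (π : F ⟶ (yon S).obj X₀) : Prop :=
  ∀ (A : Type u) [CommRing A] [IsDomain A] (sA : Spec (CommRingCat.of A) ⟶ S) (g : Over.mk sA ⟶ X₀),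
    ∃ U : (Spec (CommRingCat.of A)).Opens, (U : Set ↥(Spec (CommRingCat.of A))).Nonempty ∧
      ∀ (P : Sp S) (fst : P ⟶ F) (snd : P ⟶ (yon S).obj (Over.mk (U.ι ≫ sA))),
        IsPullback fst snd π ((yon S).map ((Over.homMk U.ι rfl : Over.mk (U.ι ≫ sA) ⟶ Over.mk sA) ≫ g)) →
        CompactSpace (Points P)

/-- **Noetherian induction** -/
theorem compactSpace_points_of_hqc {F : Sp S} (hF : IsAlgSpace F) (X₀ : Over S)
    [IsNoetherian X₀.left] (π : F ⟶ (yon S).obj X₀) (H : HQC π) :
    CompactSpace (Points F) := by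
  let τ : Points F → ↥X₀.left := fun z => (Points.schemeHomeo X₀).symm (Points.map π z)
  have hτ : Continuous τ := (Points.schemeHomeo X₀).symm.continuous.comp (Points.continuous_map π)
  suffices h : ∀ C : TopologicalSpace.Closeds ↥X₀.left, IsCompact (τ ⁻¹' (C : Set ↥X₀.left)) by
    have h1 := h ⊤
    rw [TopologicalSpace.Closeds.coe_top, Set.preimage_univ] at h1
    exact isCompact_univ_iff.mp h1
  intro C
  induction C using WellFoundedLT.induction with
  | ind C IH =>
  by_cases hirr : IsIrreducible (C : Set ↥X₀.left)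
  swap
  · obtain ⟨Sset, hfin, hcl, hirrS, hC⟩ :=
      TopologicalSpace.NoetherianSpace.exists_finite_set_isClosed_irreducible C.isClosed
    rw [hC, Set.preimage_sUnion]
    refine hfin.isCompact_biUnion ?_
    intro t ht
    have hle : t ⊆ (C : Set ↥X₀.left) := by rw [hC]; exact Set.subset_sUnion_of_mem ht
    have hne : t ≠ (C : Set ↥X₀.left) := fun h => hirr (h ▸ hirrS t ht)
    exact IH ⟨t, hcl t ht⟩ (lt_of_le_of_ne hle (fun h => hne (congrArg (fun c : TopologicalSpace.Closeds ↥X₀.left => (c : Set ↥X₀.left)) h)))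
  obtain ⟨ξ, hξ⟩ := QuasiSober.sober hirr C.isClosed
  obtain ⟨O, hO, hξO, -⟩ := exists_isAffineOpen_mem_and_subset (x := ξ) (U := ⊤) trivial
  let 𝔭 : PrimeSpectrum Γ(X₀.left, O) := hO.primeIdealOf ⟨ξ, hξO⟩
  let A := Γ(X₀.left, O) ⧸ 𝔭.asIdeal
  have hAd : IsDomain A := inferInstance
  let q : Γ(X₀.left, O) ⟶ CommRingCat.of A := CommRingCat.ofHom (Ideal.Quotient.mk 𝔭.asIdeal)
  let g₀ : Spec (CommRingCat.of A) ⟶ X₀.left := Spec.map q ≫ hO.fromSpec
  have : IsClosedImmersion (Spec.map q) := IsClosedImmersion.spec_of_surjective q Ideal.Quotient.mk_surjective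
  have hemb : Topology.IsEmbedding g₀ := g₀.isEmbedding
  have hr1 : Set.range (Spec.map q) = PrimeSpectrum.zeroLocus (𝔭.asIdeal : Set Γ(X₀.left, O)) := by
    have := range_comap_of_surjective A (Ideal.Quotient.mk 𝔭.asIdeal) Ideal.Quotient.mk_surjective
    rw [Ideal.mk_ker] at this
    exact this
  have hr2 : Set.range g₀ = (C : Set ↥X₀.left) ∩ O := by
    change Set.range (hO.fromSpec ∘ (Spec.map q)) = _
    rw [Set.range_comp, hr1, ← PrimeSpectrum.closure_singleton]
    have hi : Topology.IsInducing hO.fromSpec := hO.fromSpec.isOpenEmbedding.isInducing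
    rw [hi.closure_eq_preimage_closure_image, Set.image_preimage_eq_inter_range, hO.range_fromSpec,
      Set.image_singleton, hO.fromSpec_primeIdealOf]
    change closure {ξ} ∩ _ = _
    rw [hξ.def]
  have key : ∀ U : (Spec (CommRingCat.of A)).Opens, (U : Set ↥(Spec (CommRingCat.of A))).Nonempty →
      IsCompact (τ ⁻¹' (g₀ '' (U : Set ↥(Spec (CommRingCat.of A))))) → IsCompact (τ ⁻¹' (C : Set ↥X₀.left)) := by
    intro U hUne hK
    obtain ⟨O'', hO'', hOU⟩ := hemb.isInducing.isOpen_iff.mp U.isOpen
    have himg : g₀ '' (U : Set ↥(Spec (CommRingCat.of A))) = (C : Set ↥X₀.left) ∩ ((O : Set ↥X₀.left) ∩ O'') := by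
      rw [← hOU, Set.image_preimage_eq_inter_range, hr2]
      ext y
      simp only [Set.mem_inter_iff]
      tauto
    have hQo : IsOpen ((O : Set ↥X₀.left) ∩ O'') := O.isOpen.inter hO''
    let C' : TopologicalSpace.Closeds ↥X₀.left :=
      ⟨(C : Set ↥X₀.left) ∩ ((O : Set ↥X₀.left) ∩ O'')ᶜ, C.isClosed.inter hQo.isClosed_compl⟩
    have hlt : C' < C := by
      refine lt_of_le_of_ne (fun y hy => hy.1) ?_
      intro heq
      obtain ⟨u, hu⟩ := hUne
      have h1 : g₀ u ∈ (C : Set ↥X₀.left) ∩ ((O : Set ↥X₀.left) ∩ O'') := himg ▸ Set.mem_image_of_mem g₀ hu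
      have h2 : g₀ u ∈ (C' : Set ↥X₀.left) := by rw [heq]; exact h1.1
      exact h2.2 h1.2
    have h3 := IH C' hlt
    have hsplit : (C : Set ↥X₀.left) = g₀ '' (U : Set ↥(Spec (CommRingCat.of A))) ∪ (C' : Set ↥X₀.left) := by
      rw [himg]
      change _ = (C : Set ↥X₀.left) ∩ ((O : Set ↥X₀.left) ∩ O'') ∪ (C : Set ↥X₀.left) ∩ ((O : Set ↥X₀.left) ∩ O'')ᶜ
      rw [← Set.inter_union_distrib_left, Set.union_compl_self, Set.inter_univ]
    rw [hsplit, Set.preimage_union]
    exact hK.union h3
  let sA : Spec (CommRingCat.of A) ⟶ S := g₀ ≫ X₀.hom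
  let g : Over.mk sA ⟶ X₀ := Over.homMk g₀ rfl
  obtain ⟨U, hUne, hU⟩ := H A sA g
  apply key U hUne
  let T : Over S := Over.mk (U.ι ≫ sA)
  let t : T ⟶ X₀ := (Over.homMk U.ι rfl : Over.mk (U.ι ≫ sA) ⟶ Over.mk sA) ≫ g
  have sq : IsPullback (pullback.fst π ((yon S).map t)) (pullback.snd π ((yon S).map t)) π ((yon S).map t) :=
    IsPullback.of_hasPullback _ _
  have hPc : CompactSpace (Points (pullback π ((yon S).map t))) := hU _ _ _ sq
  have heq : τ ⁻¹' (g₀ '' (U : Set ↥(Spec (CommRingCat.of A)))) =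
      Set.range (Points.map (pullback.fst π ((yon S).map t))) := by
    ext z
    constructor
    · rintro ⟨u, hu, huz⟩
      have hzz : Points.map π z = Points.map ((yon S).map t) (Points.schemeHomeo T ⟨u, hu⟩) := by
        rw [Points.map_yon_map_apply]
        have : (Points.schemeHomeo X₀).symm (Points.map π z) = t.left ⟨u, hu⟩ := huz.symm
        rw [← this, Homeomorph.apply_symm_apply]
      obtain ⟨w, hw1, -⟩ := Groth.Agent.Lib.helper10.exists_point_of_isPullback sq z _ hzz
      exact ⟨w, hw1⟩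
    · rintro ⟨w, rfl⟩
      obtain ⟨x, hx⟩ := (Points.schemeHomeo T).surjective (Points.map (pullback.snd π ((yon S).map t)) w)
      refine ⟨x.1, x.2, ?_⟩
      change g₀ x.1 = (Points.schemeHomeo X₀).symm (Points.map π (Points.map (pullback.fst π ((yon S).map t)) w))
      rw [← Points.map_comp, sq.w, Points.map_comp, ← hx, Points.map_yon_map_apply, Homeomorph.symm_apply_apply]
      rfl
  rw [heq]
  exact isCompact_range (Points.continuous_map _)

/-- generic quasi-compactness restricts along morphisms to the target -/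
theorem hqc_pullback {F : Sp S} {V V' : Over S} (π : F ⟶ (yon S).obj V) (j : V' ⟶ V) (H : HQC π) :
    HQC (pullback.snd π ((yon S).map j)) := by
  intro A _ _ sA g'
  have sqF : IsPullback (pullback.fst π ((yon S).map j)) (pullback.snd π ((yon S).map j)) π ((yon S).map j) :=
    IsPullback.of_hasPullback _ _
  obtain ⟨U, hU, hc⟩ := H A sA (g' ≫ j)
  refine ⟨U, hU, ?_⟩
  intro P fst snd sq
  have sq' := sq.paste_horiz sqF
  rw [← Functor.map_comp, Category.assoc] at sq'
  exact hc P _ snd sq'

/-- **Generic quasi-compactness criterion** -/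
theorem isQuasiCompactMor_of_hqc {F : Sp S} (hF : IsAlgSpace F) (V : Over S) [IsLocallyNoetherian V.left]
    (π : F ⟶ (yon S).obj V) (H : HQC π) : IsQuasiCompactMor π := by
  intro W W' hW hWc k fstW sndW sqW
  have hVa : IsAlgSpace ((yon S).obj V) := IsAlgSpace.yon_obj V
  have hW' : IsAlgSpace W' := isAlgSpace_of_isPullback hVa.diag hF hW sqW
  obtain ⟨A, b, hA, hbe, hbs⟩ := Groth.Agent.S9920.exists_affine_chart hW hWc
  have : CompactSpace ↥A.left := by have := hA; infer_instance
  obtain ⟨κ, hκ⟩ := (yon S).map_surjective (b ≫ k)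
  obtain ⟨V's, hV'c, hV'o, hsub, -⟩ := PrespectralSpace.exists_isCompact_and_isOpen_between
    (isCompact_range κ.left.continuous) isOpen_univ (Set.subset_univ _)
  let V' : V.left.Opens := ⟨V's, hV'o⟩
  let V'o : Over S := Over.mk (V'.ι ≫ V.hom)
  let j : V'o ⟶ V := Over.homMk V'.ι rfl
  have h1 : CompactSpace ↥V'o.left := isCompact_iff_compactSpace.mp hV'c
  have h2 : IsLocallyNoetherian V'o.left := inferInstanceAs (IsLocallyNoetherian V'.toScheme)
  have h3 : IsNoetherian V'o.left := ⟨⟩
  have hr : Set.range κ.left ⊆ Set.range V'.ι := by rw [Scheme.Opens.range_ι]; exact hsub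
  let κ' : A ⟶ V'o := Over.homMk (IsOpenImmersion.lift V'.ι κ.left hr) (by
    change IsOpenImmersion.lift V'.ι κ.left hr ≫ V'.ι ≫ V.hom = A.hom
    rw [IsOpenImmersion.lift_fac_assoc]; exact Over.w κ)
  have hκ' : κ' ≫ j = κ := by
    apply Over.OverMorphism.ext
    change IsOpenImmersion.lift V'.ι κ.left hr ≫ V'.ι = κ.left
    exact IsOpenImmersion.lift_fac _ _ _
  have sqF : IsPullback (pullback.fst π ((yon S).map j)) (pullback.snd π ((yon S).map j)) π ((yon S).map j) :=
    IsPullback.of_hasPullback _ _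
  have hF' : IsAlgSpace (pullback π ((yon S).map j)) :=
    isAlgSpace_of_isPullback hVa.diag hF (IsAlgSpace.yon_obj V'o) sqF
  have H' : HQC (pullback.snd π ((yon S).map j)) := hqc_pullback π j H
  have hc : CompactSpace (Points (pullback π ((yon S).map j))) :=
    compactSpace_points_of_hqc hF' V'o _ H'
  have hq : IsQuasiCompactSp (pullback π ((yon S).map j)) := isQuasiCompactSp_of_compactSpace hF'.atlas
  have hπ' : IsQuasiCompactMor (pullback.snd π ((yon S).map j)) :=
    isQuasiCompactMor_of_quasiSeparatedSpace hF' V'o _ hq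
  have sqP : IsPullback (pullback.fst sndW b) (pullback.snd sndW b) sndW b := IsPullback.of_hasPullback _ _
  have hPs : IsSurjectiveMor (pullback.fst sndW b) :=
    isSurjectiveMor_of_isPullback sqP (surjective_map_of_repWith_surjective b hbs)
  have sqBig : IsPullback (pullback.fst sndW b ≫ fstW) (pullback.snd sndW b) π (b ≫ k) := sqP.paste_horiz sqW
  have hbk : b ≫ k = (yon S).map κ' ≫ (yon S).map j := by rw [← Functor.map_comp, hκ', hκ]
  let l : pullback sndW b ⟶ pullback π ((yon S).map j) :=
    pullback.lift (pullback.fst sndW b ≫ fstW) (pullback.snd sndW b ≫ (yon S).map κ') (by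
      rw [sqBig.w, hbk, Category.assoc])
  have hl1 : l ≫ pullback.fst π ((yon S).map j) = pullback.fst sndW b ≫ fstW := pullback.lift_fst _ _ _
  have hl2 : l ≫ pullback.snd π ((yon S).map j) = pullback.snd sndW b ≫ (yon S).map κ' := pullback.lift_snd _ _ _
  have sqL : IsPullback l (pullback.snd sndW b) (pullback.snd π ((yon S).map j)) ((yon S).map κ') := by
    refine IsPullback.of_right ?_ hl2 sqF
    rw [hl1, ← hbk]
    exact sqBig
  have hPq : IsQuasiCompactSp (pullback sndW b) :=
    hπ' (IsAlgSpace.yon_obj A) (Groth.Agent.Lib.helper7.AlgSpQC.isQuasiCompactSp_yon A) ((yon S).map κ') l _ sqL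
  have hPc : CompactSpace (Points (pullback sndW b)) := compactSpace_of_isQuasiCompactSp hPq
  have hZc : CompactSpace (Points W') := compactSpace_of_surjective _ hPs
  exact isQuasiCompactSp_of_compactSpace hW'.atlas

end Groth.Agent.Lib.helper4.AlgSpNoethQC
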