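import Mathlib
import Groth.Agent.Lib.Helper5.FppfSource4

/-!
# Retract lemmas for morphisms of schemes (helper4)

If `r : X ⟶ Y` has a section `i` and `r ≫ f` is flat (resp. locally of finite presentation), then so is `f`.
Also the variant where `i` is only a section after an etale surjective base change.
-/

set_option backward.isDefEq.respectTransparency false
set_option backward.isDefEq.respectTransparency.types false
set_option autoImplicit false
set_option linter.style.haveILetI false
set_option linter.unusedSectionVars false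
set_option linter.unusedVariables false
set_option linter.unusedSimpArgs false

universe u

open CategoryTheory CategoryTheory.Limits AlgebraicGeometry Opposite TopologicalSpace

namespace Groth.Agent.Lib.helper4.SchRetract

/-- ring-level retract property -/
def RingRetract (Q : ∀ {R S : Type u} [CommRing R] [CommRing S], (R →+* S) → Prop) : Prop :=
  ∀ {C B A : Type u} [CommRing C] [CommRing B] [CommRing A] (φ : C →+* B) (ρ : B →+* A) (ι : A →+* B),
    ι.comp ρ = RingHom.id B → Q (ρ.comp φ) → Q φ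

theorem ringRetract_flat : RingRetract @RingHom.Flat := by
  intro C B A _ _ _ φ ρ ι h hf
  algebraize [φ, ρ.comp φ]
  have hf' : Module.Flat C A := hf
  let i : B →ₗ[C] A :=
    { toFun := ρ
      map_add' := map_add ρ
      map_smul' := fun c b => by
        simp only [RingHom.id_apply, Algebra.smul_def, map_mul]
        rfl }
  let r : A →ₗ[C] B :=
    { toFun := ι
      map_add' := map_add ι
      map_smul' := fun c a => by
        simp only [RingHom.id_apply, Algebra.smul_def, map_mul]
        congr 1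
        change ι (ρ (φ c)) = φ c
        exact RingHom.congr_fun h (φ c) }
  have hri : r.comp i = LinearMap.id := by
    ext b
    exact RingHom.congr_fun h b
  exact Module.Flat.of_retract i r hri

theorem ringRetract_finitePresentation : RingRetract @RingHom.FinitePresentation := by
  intro C B A _ _ _ φ ρ ι h hf
  classical
  algebraize [φ, ρ.comp φ]
  have hf' : Algebra.FinitePresentation C A := hf
  -- `ι` as a `C`-algebra map `A → B`
  let ι' : A →ₐ[C] B :=
    { ι with
      commutes' := fun c => by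
        change ι (ρ (φ c)) = φ c
        exact RingHom.congr_fun h (φ c) }
  let ρ' : B →ₐ[C] A :=
    { ρ with
      commutes' := fun c => rfl }
  have hsurj : Function.Surjective ι' := fun b => ⟨ρ b, RingHom.congr_fun h b⟩
  -- generators of `A`
  obtain ⟨s, hs⟩ := (Algebra.FiniteType.of_finitePresentation (R := C) (A := A)).out
  -- kernel generated by `a - ρ (ι a)` for `a ∈ s`
  have hker : (RingHom.ker ι'.toRingHom).FG := by
    refine ⟨s.image (fun a => a - ρ' (ι' a)), ?_⟩
    apply le_antisymm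
    · rw [Ideal.span_le]
      intro x hx
      simp only [Finset.coe_image, Set.mem_image] at hx
      obtain ⟨a, -, rfl⟩ := hx
      change ι' (a - ρ' (ι' a)) = 0
      rw [map_sub, sub_eq_zero]
      exact (RingHom.congr_fun h (ι' a)).symm
    · -- every `a` is congruent to `ρ (ι a)` modulo the span
      set I : Ideal A := Ideal.span (↑(s.image (fun a => a - ρ' (ι' a))) : Set A) with hI
      have key : ∀ a : A, a - ρ' (ι' a) ∈ I := by
        intro a
        have ha : a ∈ Algebra.adjoin C (↑s : Set A) := by rw [hs]; trivial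
        induction ha using Algebra.adjoin_induction with
        | mem x hx =>
          apply Ideal.subset_span
          simp only [Finset.coe_image, Set.mem_image]
          exact ⟨x, hx, rfl⟩
        | algebraMap c =>
          have : ρ' (ι' (algebraMap C A c)) = algebraMap C A c := by
            rw [AlgHom.commutes, AlgHom.commutes]
          rw [this, sub_self]
          exact I.zero_mem
        | add x y _ _ hx hy =>
          have : x + y - ρ' (ι' (x + y)) = (x - ρ' (ι' x)) + (y - ρ' (ι' y)) := by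
            rw [map_add, map_add]; ring
          rw [this]
          exact I.add_mem hx hy
        | mul x y _ _ hx hy =>
          have : x * y - ρ' (ι' (x * y)) = x * (y - ρ' (ι' y)) + (x - ρ' (ι' x)) * ρ' (ι' y) := by
            rw [map_mul, map_mul]; ring
          rw [this]
          exact I.add_mem (I.mul_mem_left _ hy) (I.mul_mem_right _ hx)
      intro a ha
      have h0 : ι' a = 0 := ha
      have := key a
      rwa [h0, map_zero, sub_zero] at this
  exact Algebra.FinitePresentation.of_surjective hsurj hker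

variable {P : MorphismProperty Scheme.{u}}
  {Q : ∀ {R S : Type u} [CommRing R] [CommRing S], (R →+* S) → Prop} [HasRingHomProperty P Q]

theorem appLE_eq_id {Y : Scheme.{u}} (g : Y ⟶ Y) (hg : g = 𝟙 Y) (V : Y.Opens) (e : V ≤ g ⁻¹ᵁ V) :
    g.appLE V V e = 𝟙 _ := by
  subst hg
  simp only [Scheme.Hom.appLE, Scheme.Hom.id_app, Category.id_comp]
  exact CategoryTheory.Functor.map_id _ _

/-- **Retract lemma**: if `r` has a section and `r ≫ f` has `P`, then `f` has `P`. -/
theorem of_retract (hQs : RingHom.StableUnderCompositionWithLocalizationAwaySource Q)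
    (hQ : RingRetract Q) {X Y Z : Scheme.{u}} (r : X ⟶ Y) (i : Y ⟶ X) (hir : i ≫ r = 𝟙 Y)
    (f : Y ⟶ Z) (h : P (r ≫ f)) : P f := by
  rw [HasRingHomProperty.iff_exists_appLE (P := P) hQs]
  intro y
  have hri : ∀ v : Y, r (i v) = v := fun v => by
    have := congrArg (fun g : Y ⟶ Y => g v) hir
    simpa using this
  obtain ⟨W, hW, hyW, -⟩ := Opens.isBasis_iff_nbhd.mp Z.isBasis_affineOpens (Opens.mem_top (f y))
  obtain ⟨V₀, hV₀, hyV₀, hV₀W⟩ :=
    Opens.isBasis_iff_nbhd.mp Y.isBasis_affineOpens (show y ∈ f ⁻¹ᵁ W from hyW)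
  have hiy : i y ∈ r ⁻¹ᵁ V₀ := by
    change r (i y) ∈ V₀
    rw [hri]; exact hyV₀
  obtain ⟨U₀, hU₀, hyU₀, hU₀V₀⟩ := Opens.isBasis_iff_nbhd.mp X.isBasis_affineOpens hiy
  obtain ⟨b, hb, hyb⟩ := hV₀.exists_basicOpen_le (V := i ⁻¹ᵁ U₀) ⟨y, hyU₀⟩ hyV₀
  let V₁ : Y.Opens := Y.basicOpen b
  have hV₁ : IsAffineOpen V₁ := hV₀.basicOpen b
  have hV₁V₀ : V₁ ≤ V₀ := Y.basicOpen_le b
  let U₁ : X.Opens := X.basicOpen (r.appLE V₀ U₀ hU₀V₀ b)
  have hU₁ : IsAffineOpen U₁ := hU₀.basicOpen _
  have hU₁eq : U₁ = U₀ ⊓ r ⁻¹ᵁ V₁ := by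
    change X.basicOpen (r.appLE V₀ U₀ hU₀V₀ b) = _
    rw [Scheme.Hom.appLE, CommRingCat.comp_apply, Scheme.basicOpen_res, Scheme.preimage_basicOpen]
  have hU₁V₁ : U₁ ≤ r ⁻¹ᵁ V₁ := by rw [hU₁eq]; exact inf_le_right
  have hV₁U₁ : V₁ ≤ i ⁻¹ᵁ U₁ := by
    intro v hv
    change i v ∈ U₁
    rw [hU₁eq]
    refine ⟨hb hv, ?_⟩
    change r (i v) ∈ V₁
    rw [hri]; exact hv
  have hV₁W : V₁ ≤ f ⁻¹ᵁ W := hV₁V₀.trans hV₀W
  have hU₁W : U₁ ≤ (r ≫ f) ⁻¹ᵁ W := by
    intro x hx
    change f (r x) ∈ W
    exact hV₁W (hU₁V₁ hx)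
  refine ⟨⟨W, hW⟩, ⟨V₁, hV₁⟩, hyb, hV₁W, ?_⟩
  have h1 : Q ((r ≫ f).appLE W U₁ hU₁W).hom :=
    HasRingHomProperty.appLE P (r ≫ f) h ⟨W, hW⟩ ⟨U₁, hU₁⟩ hU₁W
  have h2 : (r ≫ f).appLE W U₁ hU₁W = f.appLE W V₁ hV₁W ≫ r.appLE V₁ U₁ hU₁V₁ := by
    rw [Scheme.Hom.appLE_comp_appLE]
  have h3 : r.appLE V₁ U₁ hU₁V₁ ≫ i.appLE U₁ V₁ hV₁U₁ = 𝟙 _ := by
    rw [Scheme.Hom.appLE_comp_appLE]
    exact appLE_eq_id _ hir _ _
  rw [h2, CommRingCat.hom_comp] at h1
  refine hQ (f.appLE W V₁ hV₁W).hom (r.appLE V₁ U₁ hU₁V₁).hom (i.appLE U₁ V₁ hV₁U₁).hom ?_ h1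
  rw [← CommRingCat.hom_comp, h3]
  rfl

theorem flat_of_retract {X Y Z : Scheme.{u}} (r : X ⟶ Y) (i : Y ⟶ X) (hir : i ≫ r = 𝟙 Y)
    (f : Y ⟶ Z) (h : Flat (r ≫ f)) : Flat f :=
  of_retract (P := @Flat) (Q := @RingHom.Flat)
    (RingHom.Flat.stableUnderComposition.stableUnderCompositionWithLocalizationAway
      RingHom.Flat.holdsForLocalizationAway).left ringRetract_flat r i hir f h

theorem lfp_of_retract {X Y Z : Scheme.{u}} (r : X ⟶ Y) (i : Y ⟶ X) (hir : i ≫ r = 𝟙 Y)
    (f : Y ⟶ Z) (h : LocallyOfFinitePresentation (r ≫ f)) : LocallyOfFinitePresentation f :=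
  of_retract (P := @LocallyOfFinitePresentation) (Q := @RingHom.FinitePresentation)
    Groth.Agent.Lib.helper5.FppfSource.finitePresentation_stable ringRetract_finitePresentation r i hir f h

end Groth.Agent.Lib.helper4.SchRetract
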