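import Mathlib
import Groth.Agent.Lib.Helper4.SchRetract
import Groth.Agent.Lib.Helper1.SevenProps
import Groth.Agent.Lib.Helper5.AlgSpLocPInst2

/-!
# Retract lemma for morphisms of algebraic spaces (helper4)

If `X` is a retract of `X'` (`i ≫ r = 𝟙 X`) and `r ≫ f : X' ⟶ h_T` is flat (resp. locally of finite
presentation) then so is `f : X ⟶ h_T`.
-/

set_option backward.isDefEq.respectTransparency false
set_option backward.isDefEq.respectTransparency.types false
set_option autoImplicit false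
set_option linter.style.haveILetI false
set_option linter.unusedSectionVars false
set_option linter.unusedVariables false
set_option linter.unusedSimpArgs false

universe u

open CategoryTheory CategoryTheory.Limits AlgebraicGeometry Opposite
open AlgSp Groth.Agent.Lib.helper5.LocPBC

namespace Groth.Agent.Lib.helper4.AlgSpRetract

/-- scheme-level retract property -/
def SchRetractProp (P : MorphismProperty Scheme.{u}) : Prop :=
  ∀ {X Y Z : Scheme.{u}} (r : X ⟶ Y) (i : Y ⟶ X), i ≫ r = 𝟙 Y → ∀ (f : Y ⟶ Z), P (r ≫ f) → P f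

theorem schRetractProp_flat : SchRetractProp.{u} @Flat :=
  fun r i hir f h => Groth.Agent.Lib.helper4.SchRetract.flat_of_retract r i hir f h

theorem schRetractProp_lfp : SchRetractProp.{u} @LocallyOfFinitePresentation :=
  fun r i hir f h => Groth.Agent.Lib.helper4.SchRetract.lfp_of_retract r i hir f h

/-- variant: `σ₀` is a section of `γ₂` only after the etale surjective `ε` -/
theorem of_retract_etale {P : MorphismProperty Scheme.{u}} (hP : LocPData P) (hR : SchRetractProp P)
    {C A A'' T : Scheme.{u}} (γ₂ : C ⟶ A) (σ₀ : A'' ⟶ C) (ε : A'' ⟶ A) (hε : σ₀ ≫ γ₂ = ε)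
    (hεe : Etale ε) (hεs : Surjective ε) (h : A ⟶ T) (hh : P (γ₂ ≫ h)) : P h := by
  have : P.IsStableUnderBaseChange := hP.baseChange
  refine hP.descend ε h hεe hεs ?_
  let s : A'' ⟶ pullback γ₂ ε := pullback.lift σ₀ (𝟙 A'') (by rw [hε, Category.id_comp])
  have hs : s ≫ pullback.snd γ₂ ε = 𝟙 A'' := pullback.lift_snd _ _ _
  refine hR (pullback.snd γ₂ ε) s hs (ε ≫ h) ?_
  rw [← Category.assoc, ← pullback.condition, Category.assoc]
  have he : Etale (pullback.fst γ₂ ε) := inferInstance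
  exact hP.pre _ _ he hh

variable {S : Scheme.{u}}

/-- **Retract lemma for algebraic spaces** over a representable target -/
theorem locP_of_retract {P : MorphismProperty Scheme.{u}} (hP : LocPData P) (hR : SchRetractProp P)
    {X X' : Sp S} (hX : IsAlgSpace X) (hX' : IsAlgSpace X') (i : X ⟶ X') (r : X' ⟶ X)
    (hir : i ≫ r = 𝟙 X) {T : Over S} (f : X ⟶ (yon S).obj T) (h : LocP P (r ≫ f)) : LocP P f := by
  obtain ⟨A, a, hae, has⟩ := hX.atlas
  obtain ⟨hA, hh⟩ := (yon S).map_surjective (a ≫ f)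
  refine Groth.Agent.H1.Seven.locP_of_one_chart hP f a (𝟙 _) hA hae has (repWith_id _ T)
    (by rw [hh, Category.comp_id]) ?_
  obtain ⟨A', α', hα'e, hα's⟩ := hX'.atlas
  obtain ⟨h', hh'⟩ := (yon S).map_surjective (α' ≫ r ≫ f)
  have hPh' : P h'.left := h α' (𝟙 _) h' hα'e (repWith_id _ T) (by rw [hh', Category.comp_id])
  -- `C = A' ×_X A`
  obtain ⟨C, γ₁, γ₂', sqC⟩ := hae.1 (α' ≫ r)
  have hγ₁ : Etale γ₁.left := hae.2 _ _ _ sqC
  obtain ⟨γ₂, rfl⟩ := (yon S).map_surjective γ₂'
  -- `A'' = A ×_{X'} A'`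
  obtain ⟨A'', ε, k', sqD⟩ := hα'e.1 (a ≫ i)
  have hεe : Etale ε.left := hα'e.2 _ _ _ sqD
  have hεs : Surjective ε.left := hα's.2 _ _ _ sqD
  have hw : (yon S).map ε ≫ a = k' ≫ α' ≫ r := by
    have := sqD.w
    rw [← Category.assoc, this, Category.assoc, Category.assoc, hir, Category.comp_id]
  obtain ⟨σ₀', hσ1, hσ2⟩ := sqC.exists_lift ((yon S).map ε) k' hw
  obtain ⟨σ₀, rfl⟩ := (yon S).map_surjective σ₀'
  have hσε : σ₀ ≫ γ₂ = ε := (yon S).map_injective (by rw [Functor.map_comp, hσ1])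
  have hcomm : γ₁ ≫ h' = γ₂ ≫ hA := by
    apply (yon S).map_injective
    rw [Functor.map_comp, Functor.map_comp, hh', hh]
    have := sqC.w
    rw [← Category.assoc ((yon S).map γ₂), this]
    simp only [Category.assoc]
  have h1 : P (γ₁.left ≫ h'.left) := hP.pre _ _ hγ₁ hPh'
  have h2 : P (γ₂.left ≫ hA.left) := by
    rw [← Over.comp_left, ← hcomm, Over.comp_left]; exact h1
  refine of_retract_etale hP hR γ₂.left σ₀.left ε.left ?_ hεe hεs hA.left h2
  rw [← Over.comp_left, hσε]

theorem locP_flat_of_retract {X X' : Sp S} (hX : IsAlgSpace X) (hX' : IsAlgSpace X') (i : X ⟶ X')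
    (r : X' ⟶ X) (hir : i ≫ r = 𝟙 X) {T : Over S} (f : X ⟶ (yon S).obj T)
    (h : LocP @Flat (r ≫ f)) : LocP @Flat f :=
  locP_of_retract Groth.Agent.Lib.helper5.LocPBC.locPData_flat schRetractProp_flat hX hX' i r hir f h

theorem locP_lfp_of_retract {X X' : Sp S} (hX : IsAlgSpace X) (hX' : IsAlgSpace X') (i : X ⟶ X')
    (r : X' ⟶ X) (hir : i ≫ r = 𝟙 X) {T : Over S} (f : X ⟶ (yon S).obj T)
    (h : LocP @LocallyOfFinitePresentation (r ≫ f)) : LocP @LocallyOfFinitePresentation f :=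
  locP_of_retract Groth.Agent.Lib.helper5.LocPBC.locPData_lfp schRetractProp_lfp hX hX' i r hir f h

end Groth.Agent.Lib.helper4.AlgSpRetract
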