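import Groth.Agent.Lib.Helper4.SmoothSrcDescent
import Groth.Agent.Lib.Helper5.AlgSpLocPInst2
import Groth.Agent.Lib.Helper1.LocPStable
import Groth.Agent.S10580
import Groth.Agent.S10567
import Groth.Agent.S10548
import Groth.Agent.S10530
import Groth.Agent.S10526
import Groth.Agent.S10527
import Groth.Agent.S10505

/-!
# Locally of finite type, locally of finite presentation and flat are smooth local on the source-and-target (helper4)
-/

set_option autoImplicit false
set_option backward.isDefEq.respectTransparency false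
open CategoryTheory CategoryTheory.Limits AlgebraicGeometry Opposite
universe u

namespace Groth.Agent.Lib.helper4.SmLocalST

variable {S : Scheme.{u}}

theorem locP_mono {P Q : MorphismProperty Scheme.{u}} (h : P ≤ Q) {F G : AlgSp.Sp S} {f : F ⟶ G}
    (hf : AlgSp.LocP P f) : AlgSp.LocP Q f :=
  fun _ _ a b k ha hb hsq => h _ (hf a b k ha hb hsq)

theorem smooth_le_flat : @Smooth.{u} ≤ @Flat := fun _ _ f hf => by
  have : Smooth f := hf
  exact (inferInstance : Flat f)

theorem smooth_le_lfp : @Smooth.{u} ≤ @LocallyOfFinitePresentation := fun _ _ f hf => by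
  have : Smooth f := hf
  exact (inferInstance : LocallyOfFinitePresentation f)

theorem smooth_le_lft : @Smooth.{u} ≤ @LocallyOfFiniteType := fun _ _ f hf => by
  have : Smooth f := hf
  exact (inferInstance : LocallyOfFiniteType f)

/-- a smooth covering is an fppf covering -/
theorem isFppfCover_of_isSmCover {ι : Type u} {X : AlgSp.Sp S} (Y : ι → AlgSp.Sp S) (g : ∀ i, Y i ⟶ X)
    (h : AlgSp.IsSmCover Y g) : AlgSp.IsFppfCover Y g :=
  ⟨fun i => ⟨locP_mono smooth_le_flat (h.1 i), locP_mono smooth_le_lfp (h.1 i)⟩, h.2⟩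

/-- a smooth covering of algebraic spaces is an fpqc covering -/
theorem isFpqcCover_of_isSmCover {ι : Type u} {X : AlgSp.Sp S} (Y : ι → AlgSp.Sp S) (g : ∀ i, Y i ⟶ X)
    (hX : AlgSp.IsAlgSpace X) (hY : ∀ i, AlgSp.IsAlgSpace (Y i))
    (h : AlgSp.IsSmCover Y g) : AlgSp.IsFpqcCover Y g :=
  Groth.Agent.S10505.result ⟨X, hX⟩ (fun i => ⟨Y i, hY i⟩) (fun i => ObjectProperty.homMk (g i))
    (isFppfCover_of_isSmCover Y g h)

theorem isLocalOnBase_sm_of_fpqc {Q : MorphismProperty (AlgSp.Sp S)}
    (h : AlgSp.IsLocalOnBase (AlgSp.IsFpqcCover (S := S)) Q) :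
    AlgSp.IsLocalOnBase (AlgSp.IsSmCover (S := S)) Q := by
  intro ι Y Yi g hY hYi hcov X f hX Xi p q hXi sq
  exact h Yi g hY hYi (isFpqcCover_of_isSmCover Yi g hY hYi hcov) f hX Xi p q hXi sq

theorem isLocalOnSource_sm_of_fpqc {Q : MorphismProperty (AlgSp.Sp S)}
    (h : AlgSp.IsLocalOnSource (AlgSp.IsFpqcCover (S := S)) Q) :
    AlgSp.IsLocalOnSource (AlgSp.IsSmCover (S := S)) Q := by
  intro ι X Xi g hX hXi hcov Y f hY
  exact h Xi g hX hXi (isFpqcCover_of_isSmCover Xi g hX hXi hcov) f hY

/-- locally of finite type is smooth local on the source-and-target -/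
theorem isSmoothLocalST_lft : AlgSp.IsSmoothLocalST (S := S) (AlgSp.LocP @LocallyOfFiniteType) := by
  refine Groth.Agent.S10567.result _ ?_ ?_ ?_
  · exact (Groth.Agent.S10580.result S @LocallyOfFiniteType).2.2.1
      Groth.Agent.Lib.helper4.SmSrc.isLocalAtSource_smooth_lft
  · exact isLocalOnBase_sm_of_fpqc (Groth.Agent.S10526.result S)
  · intro X Y Z f g hf hg
    exact Groth.Agent.H1.LocPStable.locP_comp
      Groth.Agent.Lib.helper5.LocPBC.locPData_lft.descend Y.property f.hom g.hom hf
      (locP_mono smooth_le_lft hg)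

/-- locally of finite presentation is smooth local on the source-and-target -/
theorem isSmoothLocalST_lfp :
    AlgSp.IsSmoothLocalST (S := S) (AlgSp.LocP @LocallyOfFinitePresentation) := by
  refine Groth.Agent.S10567.result _ ?_ ?_ ?_
  · exact (Groth.Agent.S10580.result S @LocallyOfFinitePresentation).2.2.1
      Groth.Agent.Lib.helper4.SmSrc.isLocalAtSource_smooth_lfp
  · exact isLocalOnBase_sm_of_fpqc (Groth.Agent.S10527.result S)
  · intro X Y Z f g hf hg
    exact Groth.Agent.H1.LocPStable.locP_comp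
      Groth.Agent.Lib.helper5.LocPBC.locPData_lfp.descend Y.property f.hom g.hom hf
      (locP_mono smooth_le_lfp hg)

/-- flat is smooth local on the source-and-target -/
theorem isSmoothLocalST_flat : AlgSp.IsSmoothLocalST (S := S) (AlgSp.LocP @Flat) := by
  refine Groth.Agent.S10567.result _ ?_ ?_ ?_
  · exact isLocalOnSource_sm_of_fpqc (Groth.Agent.S10548.result S)
  · exact isLocalOnBase_sm_of_fpqc (Groth.Agent.S10530.result S)
  · intro X Y Z f g hf hg
    exact Groth.Agent.H1.LocPStable.locP_comp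
      Groth.Agent.Lib.helper5.LocPBC.locPData_flat.descend Y.property f.hom g.hom hf
      (locP_mono smooth_le_flat hg)

end Groth.Agent.Lib.helper4.SmLocalST
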