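import Groth.Agent.Lib.Helper4.AlgSpSmLocalST
import Groth.Agent.S10553
import Groth.Agent.S10542

/-!
# Smooth is smooth local on the source-and-target (helper4)

Uses helper5's S10553 (smooth is smooth local on the source) and S10542 (smooth is fpqc local on the base).
-/

set_option autoImplicit false
set_option backward.isDefEq.respectTransparency false
open CategoryTheory CategoryTheory.Limits AlgebraicGeometry Opposite
universe u

namespace Groth.Agent.Lib.helper4.SmLocalST

variable {S : Scheme.{u}}

/-- smooth is smooth local on the source-and-target -/
theorem isSmoothLocalST_smooth : AlgSp.IsSmoothLocalST (S := S) (AlgSp.LocP @Smooth) := by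
  refine Groth.Agent.S10567.result _ ?_ ?_ ?_
  · exact Groth.Agent.S10553.result S
  · exact isLocalOnBase_sm_of_fpqc (Groth.Agent.S10542.result S)
  · intro X Y Z f g hf hg
    exact Groth.Agent.H1.LocPStable.locP_comp
      Groth.Agent.Lib.helper5.LocPBC.locPData_smooth.descend Y.property f.hom g.hom hf hg

end Groth.Agent.Lib.helper4.SmLocalST
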