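import Mathlib
set_option autoImplicit false
set_option linter.unusedSectionVars false
set_option linter.unusedVariables false
open Topology TopologicalSpace Set

/-! Quotients of spectral spaces by "spectral" equivalence relations are spectral. -/

namespace Groth.Agent.Lib.helper4.TopSpectralQuot

section Fip

variable {Z : Type*} [TopologicalSpace Z]

theorem isClosed_constructible_of_isClosed [PrespectralSpace Z] {A : Set Z} (hA : IsClosed A) :
    IsClosed[constructibleTopology Z] A := by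
  rw [← @isOpen_compl_iff _ _ (constructibleTopology Z)]
  obtain ⟨B, hB, hAB⟩ := PrespectralSpace.isTopologicalBasis.open_eq_sUnion hA.isOpen_compl
  rw [hAB]
  apply @isOpen_sUnion _ (constructibleTopology Z)
  intro V hV
  obtain ⟨h1, h2⟩ := hB hV
  exact h2.isOpen_constructibleTopology_of_isOpen h1

theorem isClosed_constructible_of_isCompact_isOpen {A : Set Z} (ho : IsOpen A) (hc : IsCompact A) :
    IsClosed[constructibleTopology Z] A := by
  rw [← @isOpen_compl_iff _ _ (constructibleTopology Z)]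
  exact IsCompact.isOpen_constructibleTopology_of_isClosed (by rwa [compl_compl]) ho.isClosed_compl

variable [CompactSpace Z] [QuasiSober Z] [PrespectralSpace Z] [QuasiSeparatedSpace Z]

theorem compactSpace_constructible : @CompactSpace Z (constructibleTopology Z) :=
  @Function.Surjective.compactSpace (WithConstructibleTopology Z) Z _ (constructibleTopology Z)
    WithTopology.ofTopology (WithTopology.continuous_ofTopology _) inferInstance
    (WithTopology.ofTopology_surjective _)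

/-- compactness of the constructible topology, as a finite intersection property -/
theorem nonempty_sInter_of_fip (𝓕 : Set (Set Z))
    (h𝓕 : ∀ A ∈ 𝓕, IsClosed A ∨ (IsOpen A ∧ IsCompact A))
    (hfip : ∀ 𝓖 ⊆ 𝓕, 𝓖.Finite → (⋂₀ 𝓖).Nonempty) : (⋂₀ 𝓕).Nonempty := by
  refine @CompactSpace.nonempty_sInter Z (constructibleTopology Z) compactSpace_constructible 𝓕 ?_ hfip
  intro A hA
  rcases h𝓕 A hA with h | ⟨h1, h2⟩
  · exact isClosed_constructible_of_isClosed h
  · exact isClosed_constructible_of_isCompact_isOpen h1 h2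

end Fip

section Quot

variable {X R Y : Type*} [TopologicalSpace X] [TopologicalSpace R] [TopologicalSpace Y]
  [SpectralSpace X] [SpectralSpace R]
  (p : X → Y) (hpc : Continuous p) (hpo : IsOpenMap p) (hps : Function.Surjective p)
  (s t : R → X) (hs : IsSpectralMap s) (ht : IsSpectralMap t)
  (hR : ∀ a b, p a = p b ↔ ∃ r, s r = a ∧ t r = b)

include hR in
theorem preimage_image_eq (V : Set X) : p ⁻¹' (p '' V) = t '' (s ⁻¹' V) := by
  ext b
  constructor
  · rintro ⟨a, ha, hab⟩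
    obtain ⟨r, rfl, rfl⟩ := (hR a b).1 hab
    exact ⟨r, ha, rfl⟩
  · rintro ⟨r, hr, rfl⟩
    exact ⟨s r, hr, (hR _ _).2 ⟨r, rfl, rfl⟩⟩

include hR hs ht in
theorem isCompact_preimage_image (V : Set X) (hVo : IsOpen V) (hVc : IsCompact V) :
    IsCompact (p ⁻¹' (p '' V)) := by
  rw [preimage_image_eq p s t hR V]
  exact (hs.isCompact_preimage_of_isOpen hVo hVc).image ht.continuous

include hpc hpo hps in
theorem isTopologicalBasis_image :
    IsTopologicalBasis (Set.range fun V : {V : Set X // IsOpen V ∧ IsCompact V} => p '' V.1) := by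
  apply isTopologicalBasis_of_isOpen_of_nhds
  · rintro _ ⟨V, rfl⟩
    exact hpo _ V.2.1
  · intro y O hy hO
    obtain ⟨a, rfl⟩ := hps y
    obtain ⟨V, ⟨hV1, hV2⟩, haV, hVO⟩ :=
      (PrespectralSpace.isTopologicalBasis (X := X)).exists_subset_of_mem_open
        (show a ∈ p ⁻¹' O from hy) (hO.preimage hpc)
    exact ⟨p '' V, ⟨⟨V, hV1, hV2⟩, rfl⟩, ⟨a, haV, rfl⟩, by rintro _ ⟨v, hv, rfl⟩; exact hVO hv⟩

include hpc hpo hps in
theorem prespectralSpace : PrespectralSpace Y :=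
  PrespectralSpace.of_isTopologicalBasis' (isTopologicalBasis_image p hpc hpo hps)
    (fun V => V.2.2.image hpc)

include hpc hpo hps hR hs ht in
theorem isCompact_preimage (O : Set Y) (hOo : IsOpen O) (hOc : IsCompact O) : IsCompact (p ⁻¹' O) := by
  obtain ⟨I, hI, rfl⟩ := (isCompact_open_iff_eq_finite_iUnion_of_isTopologicalBasis _
    (isTopologicalBasis_image p hpc hpo hps) (fun V => V.2.2.image hpc) O).1 ⟨hOc, hOo⟩
  rw [Set.preimage_iUnion₂]
  exact hI.isCompact_biUnion fun V _ => isCompact_preimage_image p s t hs ht hR V.1 V.2.1 V.2.2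

include hpc hpo hps hR hs ht in
theorem quasiSeparatedSpace : QuasiSeparatedSpace Y := by
  refine ⟨fun O₁ O₂ h1 h1' h2 h2' => ?_⟩
  have k1 := isCompact_preimage p hpc hpo hps s t hs ht hR O₁ h1 h1'
  have k2 := isCompact_preimage p hpc hpo hps s t hs ht hR O₂ h2 h2'
  have k3 : IsCompact (p ⁻¹' O₁ ∩ p ⁻¹' O₂) :=
    QuasiSeparatedSpace.inter_isCompact _ _ (h1.preimage hpc) k1 (h2.preimage hpc) k2
  have : O₁ ∩ O₂ = p '' (p ⁻¹' O₁ ∩ p ⁻¹' O₂) := by
    rw [← Set.preimage_inter, Set.image_preimage_eq _ hps]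
  rw [this]
  exact k3.image hpc

include hpc hpo hps hR hs ht in
theorem quasiSober : QuasiSober Y := by
  have := prespectralSpace p hpc hpo hps
  refine ⟨fun {T} hT hTc => ?_⟩
  let 𝓕 : Set (Set X) := {A | A = p ⁻¹' T ∨
    ∃ O : Set Y, IsOpen O ∧ IsCompact O ∧ (T ∩ O).Nonempty ∧ A = p ⁻¹' O}
  have h𝓕 : ∀ A ∈ 𝓕, IsClosed A ∨ (IsOpen A ∧ IsCompact A) := by
    rintro A (rfl | ⟨O, hO1, hO2, -, rfl⟩)
    · exact Or.inl (hTc.preimage hpc)
    · exact Or.inr ⟨hO1.preimage hpc, isCompact_preimage p hpc hpo hps s t hs ht hR O hO1 hO2⟩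
  have hfip : ∀ 𝓖 ⊆ 𝓕, 𝓖.Finite → (⋂₀ 𝓖).Nonempty := by
    intro 𝓖 h𝓖 hfin
    have key : 𝓖 ⊆ 𝓕 → ∃ O : Set Y, IsOpen O ∧ (T ∩ O).Nonempty ∧ ∀ A ∈ 𝓖, p ⁻¹' (T ∩ O) ⊆ A := by
      refine Set.Finite.induction_on (motive := fun 𝓖 _ => 𝓖 ⊆ 𝓕 →
        ∃ O : Set Y, IsOpen O ∧ (T ∩ O).Nonempty ∧ ∀ A ∈ 𝓖, p ⁻¹' (T ∩ O) ⊆ A) 𝓖 hfin ?_ ?_
      · intro _
        exact ⟨Set.univ, isOpen_univ, by simpa using hT.nonempty, fun A hA => absurd hA (by simp)⟩
      · intro A 𝓖' hA h𝓖' IH hsub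
        obtain ⟨O', hO', hne, hall⟩ := IH (fun B hB => hsub (Set.mem_insert_of_mem _ hB))
        rcases hsub (Set.mem_insert A 𝓖') with rfl | ⟨O₁, hO₁, -, hne₁, rfl⟩
        · refine ⟨O', hO', hne, ?_⟩
          intro B hB
          rcases hB with rfl | hB
          · exact Set.preimage_mono Set.inter_subset_left
          · exact hall B hB
        · refine ⟨O' ∩ O₁, hO'.inter hO₁, hT.isPreirreducible O' O₁ hO' hO₁ hne hne₁, ?_⟩
          intro B hB
          rcases hB with rfl | hB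
          · exact Set.preimage_mono (show T ∩ (O' ∩ O₁) ⊆ O₁ from fun y hy => hy.2.2)
          · exact (Set.preimage_mono (show T ∩ (O' ∩ O₁) ⊆ T ∩ O' from
              fun y hy => ⟨hy.1, hy.2.1⟩)).trans (hall B hB)
    obtain ⟨O, -, ⟨y, hy⟩, hall⟩ := key h𝓖
    obtain ⟨a, rfl⟩ := hps y
    exact ⟨a, fun A hA => hall A hA hy⟩
  obtain ⟨a, ha⟩ := nonempty_sInter_of_fip 𝓕 h𝓕 hfip
  have haT : p a ∈ T := ha (p ⁻¹' T) (Or.inl rfl)
  refine ⟨p a, ?_⟩
  apply Set.Subset.antisymm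
  · exact closure_minimal (Set.singleton_subset_iff.2 haT) hTc
  · intro y hy
    rw [mem_closure_iff]
    intro O' hO' hyO'
    obtain ⟨O, ⟨hO1, hO2⟩, hyO, hOO'⟩ :=
      (PrespectralSpace.isTopologicalBasis (X := Y)).exists_subset_of_mem_open hyO' hO'
    have : a ∈ p ⁻¹' O := ha (p ⁻¹' O) (Or.inr ⟨O, hO1, hO2, ⟨y, hy, hyO⟩, rfl⟩)
    exact ⟨p a, hOO' this, rfl⟩

omit [SpectralSpace R] in
theorem specializes_of_forall_compactOpen {a c : X}
    (h : ∀ V : Set X, IsOpen V → IsCompact V → a ∈ V → c ∈ V) : c ⤳ a := by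
  rw [specializes_iff_forall_open]
  intro O hO haO
  obtain ⟨V, ⟨hV1, hV2⟩, haV, hVO⟩ :=
    (PrespectralSpace.isTopologicalBasis (X := X)).exists_subset_of_mem_open haO hO
  exact hVO (h V hV1 hV2 haV)

omit [SpectralSpace R] in
theorem eq_of_mem_closure_of_forall_compactOpen {b c : X} (h1 : c ∈ closure {b})
    (h2 : ∀ V : Set X, IsOpen V → IsCompact V → b ∈ V → c ∈ V) : c = b :=
  ((specializes_of_forall_compactOpen h2).antisymm (specializes_iff_mem_closure.2 h1)).eq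

include hpo hps hR hs ht in
/-- generalizations lift along the quotient map -/
theorem exists_generalization (a : X) (y' : Y) (h : y' ⤳ p a) : ∃ a', p a' = y' ∧ a' ⤳ a := by
  obtain ⟨b, rfl⟩ := hps y'
  let 𝓕 : Set (Set R) := {A | A = s ⁻¹' closure {b} ∨
    (∃ V' : Set X, IsOpen V' ∧ IsCompact V' ∧ b ∈ V' ∧ A = s ⁻¹' V') ∨
    (∃ V : Set X, IsOpen V ∧ IsCompact V ∧ a ∈ V ∧ A = t ⁻¹' V)}
  have h𝓕 : ∀ A ∈ 𝓕, IsClosed A ∨ (IsOpen A ∧ IsCompact A) := by
    rintro A (rfl | ⟨V', h1, h2, -, rfl⟩ | ⟨V, h1, h2, -, rfl⟩)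
    · exact Or.inl (isClosed_closure.preimage hs.continuous)
    · exact Or.inr ⟨h1.preimage hs.continuous, hs.isCompact_preimage_of_isOpen h1 h2⟩
    · exact Or.inr ⟨h1.preimage ht.continuous, ht.isCompact_preimage_of_isOpen h1 h2⟩
  have hfip : ∀ 𝓖 ⊆ 𝓕, 𝓖.Finite → (⋂₀ 𝓖).Nonempty := by
    intro 𝓖 h𝓖 hfin
    have key : 𝓖 ⊆ 𝓕 → ∃ W : Set X, IsOpen W ∧ a ∈ W ∧
        ∀ A ∈ 𝓖, ∀ r, s r = b → t r ∈ W → r ∈ A := by
      refine Set.Finite.induction_on (motive := fun 𝓖 _ => 𝓖 ⊆ 𝓕 →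
        ∃ W : Set X, IsOpen W ∧ a ∈ W ∧ ∀ A ∈ 𝓖, ∀ r, s r = b → t r ∈ W → r ∈ A) 𝓖 hfin ?_ ?_
      · intro _
        exact ⟨Set.univ, isOpen_univ, Set.mem_univ _, fun A hA => absurd hA (by simp)⟩
      · intro A 𝓖' hA h𝓖' IH hsub
        obtain ⟨W, hW, haW, hall⟩ := IH (fun B hB => hsub (Set.mem_insert_of_mem _ hB))
        rcases hsub (Set.mem_insert A 𝓖') with rfl | ⟨V', h1, h2, hb, rfl⟩ | ⟨V, h1, h2, ha, rfl⟩
        · refine ⟨W, hW, haW, ?_⟩
          intro B hB r hr1 hr2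
          rcases hB with rfl | hB
          · exact subset_closure (show s r ∈ ({b} : Set X) from hr1)
          · exact hall B hB r hr1 hr2
        · refine ⟨W, hW, haW, ?_⟩
          intro B hB r hr1 hr2
          rcases hB with rfl | hB
          · exact (show s r ∈ V' from hr1 ▸ hb)
          · exact hall B hB r hr1 hr2
        · refine ⟨W ∩ V, hW.inter h1, ⟨haW, ha⟩, ?_⟩
          intro B hB r hr1 hr2
          rcases hB with rfl | hB
          · exact hr2.2
          · exact hall B hB r hr1 hr2.1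
    obtain ⟨W, hW, haW, hall⟩ := key h𝓖
    have hmem : p b ∈ p '' W := h.mem_open (hpo W hW) ⟨a, haW, rfl⟩
    obtain ⟨v, hvW, hv⟩ := hmem
    obtain ⟨r, hr1, hr2⟩ := (hR b v).1 hv.symm
    exact ⟨r, fun A hA => hall A hA r hr1 (hr2 ▸ hvW)⟩
  obtain ⟨r, hr⟩ := nonempty_sInter_of_fip 𝓕 h𝓕 hfip
  have hsr : s r = b := eq_of_mem_closure_of_forall_compactOpen
    (hr (s ⁻¹' closure {b}) (Or.inl rfl))
    (fun V' h1 h2 hb => hr (s ⁻¹' V') (Or.inr (Or.inl ⟨V', h1, h2, hb, rfl⟩)))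
  have htr : t r ⤳ a := specializes_of_forall_compactOpen
    (fun V h1 h2 ha => hr (t ⁻¹' V) (Or.inr (Or.inr ⟨V, h1, h2, ha, rfl⟩)))
  refine ⟨t r, ?_, htr⟩
  rw [← hsr]
  exact ((hR (s r) (t r)).2 ⟨r, rfl, rfl⟩).symm

include hps hR hs ht in
/-- every fibre of the quotient map has a point with no proper generalization in the fibre -/
theorem exists_maximal_in_fibre (y : Y) : ∃ z, p z = y ∧ ∀ z', p z' = y → z' ⤳ z → z' = z := by
  obtain ⟨a₀, ha₀⟩ := hps y
  have hne : Nonempty {z : X // p z = y} := ⟨⟨a₀, ha₀⟩⟩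
  suffices hch : ∀ c : Set {z : X // p z = y}, IsChain (fun z z' => z'.1 ⤳ z.1) c →
      ∃ ub : {z : X // p z = y}, ∀ z ∈ c, ub.1 ⤳ z.1 by
    obtain ⟨m, hm⟩ := exists_maximal_of_chains_bounded
      (r := fun z z' : {z : X // p z = y} => z'.1 ⤳ z.1) hch (fun {a b c} hab hbc => hbc.trans hab)
    refine ⟨m.1, m.2, fun z' hz' hz'm => ?_⟩
    exact ((hm ⟨z', hz'⟩ hz'm).antisymm hz'm).eq.symm
  intro c hc
  by_cases hce : c = ∅
  · exact ⟨⟨a₀, ha₀⟩, fun z hz => absurd hz (by simp [hce])⟩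
  obtain ⟨c₁, hc₁⟩ := Set.nonempty_iff_ne_empty.2 hce
  let 𝓕 : Set (Set R) := {A | A = s ⁻¹' closure {a₀} ∨
    (∃ V' : Set X, IsOpen V' ∧ IsCompact V' ∧ a₀ ∈ V' ∧ A = s ⁻¹' V') ∨
    (∃ V : Set X, IsOpen V ∧ IsCompact V ∧ (∃ c₀ ∈ c, c₀.1 ∈ V) ∧ A = t ⁻¹' V)}
  have h𝓕 : ∀ A ∈ 𝓕, IsClosed A ∨ (IsOpen A ∧ IsCompact A) := by
    rintro A (rfl | ⟨V', h1, h2, -, rfl⟩ | ⟨V, h1, h2, -, rfl⟩)
    · exact Or.inl (isClosed_closure.preimage hs.continuous)
    · exact Or.inr ⟨h1.preimage hs.continuous, hs.isCompact_preimage_of_isOpen h1 h2⟩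
    · exact Or.inr ⟨h1.preimage ht.continuous, ht.isCompact_preimage_of_isOpen h1 h2⟩
  have hfip : ∀ 𝓖 ⊆ 𝓕, 𝓖.Finite → (⋂₀ 𝓖).Nonempty := by
    intro 𝓖 h𝓖 hfin
    have key : 𝓖 ⊆ 𝓕 → ∃ c' ∈ c, ∀ A ∈ 𝓖, ∀ r, s r = a₀ → t r ⤳ c'.1 → r ∈ A := by
      refine Set.Finite.induction_on (motive := fun 𝓖 _ => 𝓖 ⊆ 𝓕 →
        ∃ c' ∈ c, ∀ A ∈ 𝓖, ∀ r, s r = a₀ → t r ⤳ c'.1 → r ∈ A) 𝓖 hfin ?_ ?_
      · intro _
        exact ⟨c₁, hc₁, fun A hA => absurd hA (by simp)⟩
      · intro A 𝓖' hA h𝓖' IH hsub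
        obtain ⟨c', hc', hall⟩ := IH (fun B hB => hsub (Set.mem_insert_of_mem _ hB))
        rcases hsub (Set.mem_insert A 𝓖') with rfl | ⟨V', h1, h2, hb, rfl⟩ |
          ⟨V, h1, h2, ⟨c₀, hc₀, hc₀V⟩, rfl⟩
        · refine ⟨c', hc', ?_⟩
          intro B hB r hr1 hr2
          rcases hB with rfl | hB
          · exact subset_closure (show s r ∈ ({a₀} : Set X) from hr1)
          · exact hall B hB r hr1 hr2
        · refine ⟨c', hc', ?_⟩
          intro B hB r hr1 hr2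
          rcases hB with rfl | hB
          · exact (show s r ∈ V' from hr1 ▸ hb)
          · exact hall B hB r hr1 hr2
        · have hcmp : c'.1 ⤳ c₀.1 ∨ c₀.1 ⤳ c'.1 := by
            by_cases he : c₀ = c'
            · subst he; exact Or.inl specializes_rfl
            · exact hc hc₀ hc' he
          rcases hcmp with h' | h'
          · refine ⟨c', hc', ?_⟩
            intro B hB r hr1 hr2
            rcases hB with rfl | hB
            · exact (hr2.trans h').mem_open h1 hc₀V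
            · exact hall B hB r hr1 hr2
          · refine ⟨c₀, hc₀, ?_⟩
            intro B hB r hr1 hr2
            rcases hB with rfl | hB
            · exact hr2.mem_open h1 hc₀V
            · exact hall B hB r hr1 (hr2.trans h')
    obtain ⟨c', hc', hall⟩ := key h𝓖
    obtain ⟨r, hr1, hr2⟩ := (hR a₀ c'.1).1 (ha₀.trans c'.2.symm)
    exact ⟨r, fun A hA => hall A hA r hr1 (hr2 ▸ specializes_rfl)⟩
  obtain ⟨r, hr⟩ := nonempty_sInter_of_fip 𝓕 h𝓕 hfip
  have hsr : s r = a₀ := eq_of_mem_closure_of_forall_compactOpen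
    (hr (s ⁻¹' closure {a₀}) (Or.inl rfl))
    (fun V' h1 h2 hb => hr (s ⁻¹' V') (Or.inr (Or.inl ⟨V', h1, h2, hb, rfl⟩)))
  have hptr : p (t r) = y := by
    rw [← ha₀, ← hsr]
    exact ((hR (s r) (t r)).2 ⟨r, rfl, rfl⟩).symm
  refine ⟨⟨t r, hptr⟩, fun c₀ hc₀ => ?_⟩
  exact specializes_of_forall_compactOpen
    (fun V h1 h2 hV => hr (t ⁻¹' V) (Or.inr (Or.inr ⟨V, h1, h2, ⟨c₀, hc₀, hV⟩, rfl⟩)))

include hpo hps hR hs ht in
theorem t0Space : T0Space Y := by
  refine ⟨fun y₁ y₂ h => ?_⟩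
  obtain ⟨z, hz, hmax⟩ := exists_maximal_in_fibre p hps s t hs ht hR y₁
  have h21 : y₂ ⤳ p z := hz ▸ h.specializes'
  obtain ⟨z', hz', hz'z⟩ := exists_generalization p hpo hps s t hs ht hR z y₂ h21
  have h12 : y₁ ⤳ p z' := hz' ▸ h.specializes
  obtain ⟨z'', hz'', hz''z'⟩ := exists_generalization p hpo hps s t hs ht hR z' y₁ h12
  have e1 : z'' = z := hmax z'' hz'' (hz''z'.trans hz'z)
  subst e1
  have e2 : z' = z'' := (hz'z.antisymm hz''z').eq
  rw [← hz, ← hz', e2]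

include hpc hpo hps hR hs ht in
/-- the quotient of a spectral space by a spectral equivalence relation, with open quotient map, is spectral -/
theorem spectralSpace : SpectralSpace Y :=
  { t0Space p hpo hps s t hs ht hR, hps.compactSpace hpc, quasiSober p hpc hpo hps s t hs ht hR,
    quasiSeparatedSpace p hpc hpo hps s t hs ht hR, prespectralSpace p hpc hpo hps with }

include hpc hpo hR hs ht in
/-- the image of an open continuous map from a spectral space with spectral kernel pair is a spectral space -/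
theorem spectralSpace_range : SpectralSpace (Set.range p) := by
  let p' : X → Set.range p := Set.rangeFactorization p
  have h1 : Continuous p' := hpc.subtype_mk _
  have h2 : IsOpenMap p' := by
    intro O hO
    have : p' '' O = Subtype.val ⁻¹' (p '' O) := by
      ext ⟨y, hy⟩
      constructor
      · rintro ⟨a, ha, hay⟩
        exact ⟨a, ha, congrArg Subtype.val hay⟩
      · rintro ⟨a, ha, hay⟩
        exact ⟨a, ha, Subtype.ext hay⟩
    rw [this]
    exact (hpo O hO).preimage continuous_subtype_val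
  have h3 : Function.Surjective p' := Set.rangeFactorization_surjective
  have h4 : ∀ a b, p' a = p' b ↔ ∃ r, s r = a ∧ t r = b := by
    intro a b
    rw [← hR a b]
    exact Subtype.ext_iff
  exact spectralSpace p' h1 h2 h3 s t hs ht h4

end Quot

end Groth.Agent.Lib.helper4.TopSpectralQuot
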