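import Groth.Agent.Lib.Helper11.AlgSpBasic
import Groth.Agent.Lib.Helper15.AlgSpDiag
import Groth.Agent.Lib.Helper5.AlgSpLargestOpen
import Groth.Agent.Lib.Helper4.TopSpectralQuot
import Mathlib
set_option autoImplicit false
set_option backward.isDefEq.respectTransparency false
set_option backward.isDefEq.respectTransparency.types false
set_option linter.unusedSectionVars false
set_option linter.style.haveILetI false
set_option linter.unusedVariables false
open CategoryTheory CategoryTheory.Limits AlgebraicGeometry Opposite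
universe u

/-! The space of points of a quasi-separated algebraic space is locally spectral. -/

namespace Groth.Agent.Lib.helper4.AlgSpSpectral
open AlgSp Groth.Agent.Lib.helper11

variable {S : Scheme.{u}}

instance spectralSpace_of_isAffine' (U : Scheme.{u}) [IsAffine U] : SpectralSpace U where

/-- **Common affine chart**: two charts of a quasi-separated algebraic space from schemes whose product over the base
is quasi-compact have a common chart from an affine scheme hitting every pair of points with the same image -/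
theorem exists_affine_chart_sp {X : Sp S} (hqs : IsQuasiSeparatedSp X)
    {U V : Over S} [CompactSpace (U ⨯ V).left] (a : (yon S).obj U ⟶ X) (g : (yon S).obj V ⟶ X) :
    ∃ (W : Over S) (φ : W ⟶ U) (ψ : W ⟶ V), IsAffine W.left ∧
      (yon S).map φ ≫ a = (yon S).map ψ ≫ g ∧
      ∀ (u : ↥U.left) (v : ↥V.left), Points.ofPt a u = Points.ofPt g v →
        ∃ w : ↥W.left, φ.left w = u ∧ ψ.left w = v := by
  obtain ⟨E, gE, fstE, sqE⟩ := hqs.rep (prodComparison (yon S) U V ≫ prod.map a g)
  have hqc : QuasiCompact gE.left := hqs.2 _ fstE gE sqE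
  have sq' : IsPullback fstE ((yon S).map gE ≫ prodComparison (yon S) U V) (Limits.diag X)
      (prod.map a g) :=
    sqE.of_iso (Iso.refl _) (Iso.refl _) (asIso (prodComparison (yon S) U V)) (Iso.refl _)
      (by simp) (by simp) (by simp) (by simp)
  have sq'' := Groth.Agent.Lib.helper15.AlgSpDiag.isPullback_of_isPullback_diag sq'
  have e1 : ((yon S).map gE ≫ prodComparison (yon S) U V) ≫ prod.fst =
      (yon S).map (gE ≫ prod.fst) := by
    rw [Category.assoc, prodComparison_fst, Functor.map_comp]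
  have e2 : ((yon S).map gE ≫ prodComparison (yon S) U V) ≫ prod.snd =
      (yon S).map (gE ≫ prod.snd) := by
    rw [Category.assoc, prodComparison_snd, Functor.map_comp]
  rw [e1, e2] at sq''
  haveI : CompactSpace E.left := QuasiCompact.compactSpace_of_compactSpace gE.left
  obtain ⟨Y, p, hsurj, -, hY⟩ := E.left.exists_hom_isAffine_of_isZariskiLocalAtSource @Etale
  let W : Over S := Over.mk (p ≫ E.hom)
  let π : W ⟶ E := Over.homMk p rfl
  refine ⟨W, π ≫ gE ≫ prod.fst, π ≫ gE ≫ prod.snd, hY, ?_, ?_⟩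
  · rw [Functor.map_comp, Functor.map_comp (yon S) π, Category.assoc, Category.assoc, sq''.w]
  · intro u v huv
    obtain ⟨e, he1, he2⟩ := exists_of_isPullback_schemes sq'' u v huv
    obtain ⟨w, rfl⟩ := hsurj.surj e
    exact ⟨w, he1, he2⟩

/-- the image of an etale chart from an affine scheme, followed by a map injective on points, is spectral -/
theorem spectralSpace_range_ofPt_comp {Xi X : Sp S} (hqs : IsQuasiSeparatedSp Xi) (j : Xi ⟶ X)
    (hj : Function.Injective (Points.map j)) {U : Over S} [IsAffine U.left] [CompactSpace (U ⨯ U).left]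
    (a : (yon S).obj U ⟶ Xi) (ho : IsOpenMap (Points.ofPt (a ≫ j))) :
    SpectralSpace (Set.range (Points.ofPt (a ≫ j))) := by
  obtain ⟨W, φ, ψ, hW, hw, hl⟩ := exists_affine_chart_sp hqs a a
  haveI := hW
  refine Groth.Agent.Lib.helper4.TopSpectralQuot.spectralSpace_range (Points.ofPt (a ≫ j))
    (Points.continuous_ofPt _) ho φ.left ψ.left φ.left.isSpectralMap ψ.left.isSpectralMap ?_
  intro u v
  constructor
  · intro h
    exact hl u v (hj h)
  · rintro ⟨w, rfl, rfl⟩
    exact congrArg (Points.map j) (ofPt_comm hw w)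

theorem compactSpace_prod_of_quasiSeparatedSpace [QuasiSeparatedSpace S] (V U : Over S)
    [CompactSpace V.left] [CompactSpace U.left] : CompactSpace (V ⨯ U).left := by
  have : CompactSpace ↑(pullback V.hom U.hom) := inferInstance
  exact (Scheme.homeoOfIso (Over.prodLeftIsoPullback V U)).symm.compactSpace

/-- S10201 -/
theorem spectralSpace_points [QuasiSeparatedSpace S] (X : AlgSp.Space S)
    (hqc : AlgSp.IsQuasiCompactSp X.obj) (hqs : AlgSp.IsQuasiSeparatedSp X.obj) :
    SpectralSpace (AlgSp.Points X.obj) := by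
  obtain ⟨U', p', hpe', hps', hU'⟩ := hqc
  haveI : CompactSpace (Points X.obj) :=
    (surjective_ofPt p' hps').compactSpace (Points.continuous_ofPt p')
  obtain ⟨U, p, hU, hpe, hps⟩ := exists_affine_chart_of_compactSpace p' hpe' hps'
  haveI := hU
  haveI : CompactSpace (U ⨯ U).left := compactSpace_prod_of_quasiSeparatedSpace U U
  have h1 := spectralSpace_range_ofPt_comp hqs (𝟙 X.obj)
    (fun x y h => by rwa [Points.map_id, Points.map_id] at h) p
    (by rw [Category.comp_id]; exact isOpenMap_ofPt p hpe)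
  rw [Category.comp_id, (surjective_ofPt p hps).range_eq] at h1
  exact (Homeomorph.Set.univ _).symm.isOpenEmbedding.spectralSpace

theorem compactSpace_prod_of_le (U : Over S) [IsAffine U.left] (S₀ : S.Opens) (hS₀ : IsAffineOpen S₀)
    (h : Set.range U.hom ⊆ (S₀ : Set S)) : CompactSpace (U ⨯ U).left := by
  let f : U.left ⟶ (S₀ : Scheme) := IsOpenImmersion.lift S₀.ι U.hom (by rw [Scheme.Opens.range_ι]; exact h)
  have hf : f ≫ S₀.ι = U.hom := IsOpenImmersion.lift_fac _ _ _
  haveI : IsAffine (S₀ : Scheme) := hS₀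
  have sq : IsPullback (pullback.fst f f) (pullback.snd f f) (f ≫ S₀.ι) (f ≫ S₀.ι) :=
    IsPullback.of_isLimit (pullbackIsPullbackOfCompMono f f S₀.ι)
  rw [hf] at sq
  have : CompactSpace ↑(pullback U.hom U.hom) := (Scheme.homeoOfIso sq.isoPullback).compactSpace
  exact (Scheme.homeoOfIso (Over.prodLeftIsoPullback U U)).symm.compactSpace

/-- every point of a Zariski locally quasi-separated algebraic space has a spectral open neighbourhood -/
theorem exists_isOpen_spectralSpace (X : AlgSp.Space S)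
    (hX : ∃ (ι : Type u) (Xi : ι → AlgSp.Space S) (j : ∀ i, Xi i ⟶ X),
        AlgSp.IsZarCover (fun i => (Xi i).obj) (fun i => (j i).hom) ∧
          ∀ i, AlgSp.IsQuasiSeparatedSp (Xi i).obj) (x : Points X.obj) :
    ∃ T : Set (Points X.obj), IsOpen T ∧ x ∈ T ∧ SpectralSpace ↥T := by
  obtain ⟨ι, Xi, j, ⟨hoi, hcov⟩, hqs⟩ := hX
  obtain ⟨i, xi, rfl⟩ := hcov x
  obtain ⟨U', p', u', hpe', -, rfl⟩ := exists_chart_ofPt (Xi i) xi
  obtain ⟨_, ⟨S₁, hS₁ : IsAffineOpen S₁, rfl⟩, hs₁, -⟩ :=
    S.isBasis_affineOpens.exists_subset_of_mem_open (Set.mem_univ (U'.hom u')) isOpen_univ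
  obtain ⟨S₀, hS₀, hs₀⟩ : ∃ S₀ : S.Opens, IsAffineOpen S₀ ∧ U'.hom u' ∈ S₀ := ⟨S₁, hS₁, hs₁⟩
  obtain ⟨_, ⟨U₁, hU₁ : IsAffineOpen U₁, rfl⟩, hu₁, hsub₁⟩ :=
    U'.left.isBasis_affineOpens.exists_subset_of_mem_open (show u' ∈ ((U'.hom ⁻¹ᵁ S₀ : U'.left.Opens) : Set _) from hs₀)
      (U'.hom ⁻¹ᵁ S₀).2
  obtain ⟨U₀, hU₀, hu₀, hsub⟩ : ∃ U₀ : U'.left.Opens, IsAffineOpen U₀ ∧ u' ∈ U₀ ∧
    (U₀ : Set U'.left) ⊆ U'.hom ⁻¹ᵁ S₀ := ⟨U₁, hU₁, hu₁, hsub₁⟩
  let U : Over S := Over.mk (U₀.ι ≫ U'.hom)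
  obtain ⟨h1, h2⟩ := chart_comp p' hpe' U₀.ι
  haveI : IsAffine U.left := hU₀
  haveI : CompactSpace (U ⨯ U).left := by
    refine compactSpace_prod_of_le U S₀ hS₀ ?_
    rintro _ ⟨v, rfl⟩
    exact hsub v.2
  have hje : RepWith @Etale (j i).hom :=
    Groth.Agent.Lib.helper15.AlgSpDiag.repWith_mono_iff_le
      (fun X Y f (hf : IsOpenImmersion f) => (inferInstance : Etale f)) (hoi i)
  have hae := (repWith_isMultiplicative (S := S) @Etale).comp_mem _ _ h1 hje
  refine ⟨_, (isOpenMap_ofPt _ hae).isOpen_range, ?_,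
    spectralSpace_range_ofPt_comp (hqs i) (j i).hom
      (Groth.Agent.Lib.helper5.LargestOpen.injective_of_oi (hoi i)) _ (isOpenMap_ofPt _ hae)⟩
  refine ⟨(⟨u', hu₀⟩ : U₀), ?_⟩
  rw [← Points.map_ofPt, h2]
  rfl

/-- S10199 -/
theorem quasiSober_t0 (X : AlgSp.Space S)
    (hX : ∃ (ι : Type u) (Xi : ι → AlgSp.Space S) (j : ∀ i, Xi i ⟶ X),
        AlgSp.IsZarCover (fun i => (Xi i).obj) (fun i => (j i).hom) ∧
          ∀ i, AlgSp.IsQuasiSeparatedSp (Xi i).obj) :
    QuasiSober (AlgSp.Points X.obj) ∧ T0Space (AlgSp.Points X.obj) := by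
  refine ⟨?_, ?_⟩
  · let 𝒮 : Set (Set (AlgSp.Points X.obj)) := {T | IsOpen T ∧ SpectralSpace ↥T}
    haveI : ∀ s : 𝒮, QuasiSober s := fun s => by
      haveI := s.2.2
      infer_instance
    refine quasiSober_of_open_cover 𝒮 (fun s => s.2.1) ?_
    rw [Set.top_eq_univ, Set.eq_univ_iff_forall]
    intro y
    obtain ⟨T, h1, h2, h3⟩ := exists_isOpen_spectralSpace X hX y
    exact ⟨T, ⟨h1, h3⟩, h2⟩
  · refine T0Space.of_open_cover fun y => ?_
    obtain ⟨T, h1, h2, h3⟩ := exists_isOpen_spectralSpace X hX y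
    exact ⟨T, h2, h1, inferInstance⟩

end Groth.Agent.Lib.helper4.AlgSpSpectral
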