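import Groth.Agent.Lib.Helper4.AlgStFaithful
set_option autoImplicit false
set_option backward.isDefEq.respectTransparency false
set_option backward.isDefEq.respectTransparency.types false
open CategoryTheory CategoryTheory.Functor CategoryTheory.Limits AlgebraicGeometry Opposite
universe u

/-! Monomorphisms of categories fibred in groupoids over `(Sch/S)` are fully faithful. -/

namespace Groth.Agent.Lib.helper4.AlgStFull
open Groth.Agent.FibEquiv Groth.Agent.Lib.helper4.FibPaste Groth.Agent.Lib.helper4.DiagBC FibCat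
open Groth.Agent.Lib.helper4.AlgStFaithful

variable {S : Scheme.{u}}

/-- computing `secHom` from a vertical morphism to a known object of the slice -/
theorem secHom_eq_of_hom {F : AlgSp.Sp S} {U : Over S} (Φ : AlgSt.ofSp F ⥤ᵇ overCat U)
    (a : (AlgSt.ofSp F).obj) (t : Over U) (k : Φ.toFunctor.obj a ⟶ t) {V : Over S}
    (hk : (overCat U).p.IsHomLift (𝟙 V) k) (h : a.base = t.left) :
    AlgSt.secHom Φ a = eqToHom h ≫ t.hom := by
  have h2 := IsHomLift.fac' (overCat U).p (𝟙 V) k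
  have h3 : k.left ≫ t.hom = (Φ.toFunctor.obj a).hom := Over.w k
  have h4 : k.left = eqToHom (IsHomLift.domain_eq (overCat U).p (𝟙 V) k) ≫ 𝟙 V ≫
      eqToHom (IsHomLift.codomain_eq (overCat U).p (𝟙 V) k).symm := h2
  unfold AlgSt.secHom
  rw [← h3, h4]
  simp

/-- a monomorphism of sheaves is injective on sections -/
theorem injective_of_mono {F G : AlgSp.Sp S} (a : F ⟶ G) [Mono a] (T : (Over S)ᵒᵖ) :
    Function.Injective (a.hom.app T) := by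
  have h1 : Mono a.hom := (sheafToPresheaf _ _).map_mono a
  have h2 : Mono (a.hom.app T) := inferInstance
  exact (mono_iff_injective _).mp h2

/-- vertical morphisms between images lift along a monomorphism -/
theorem exists_preimage_vertical {𝒳 𝒴 : AlgSt.Cat S} (h𝒴 : IsFibGrpd 𝒴.p) (j : 𝒳 ⥤ᵇ 𝒴)
    (hj : AlgSt.RepByAlgSpWith (MorphismProperty.monomorphisms (AlgSp.Sp S)) j) (x x'' : 𝒳.obj) (ψ₀ : j.toFunctor.obj x ⟶ j.toFunctor.obj x'') {V : Over S}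
    (hψ₀ : 𝒴.p.IsHomLift (𝟙 V) ψ₀) : ∃ φ₀ : x ⟶ x'', j.toFunctor.map φ₀ = ψ₀ := by
  have hV : 𝒴.p.obj (j.toFunctor.obj x'') = V := IsHomLift.codomain_eq 𝒴.p (𝟙 V) ψ₀
  subst hV
  have : 𝒴.p.IsFibered := Groth.Agent.FibFiberwise.isFibered_of_isFibGrpd 𝒴.p h𝒴
  have hsc : 𝒴.p.IsStronglyCartesian (𝟙 (𝒴.p.obj (j.toFunctor.obj x''))) ψ₀ :=
    Groth.Agent.Lib.helper4.FibRep.isStronglyCartesian_of_isFibGrpd' h𝒴 _ _
  have hiso : IsIso ψ₀ :=
    IsStronglyCartesian.isIso_of_base_isIso 𝒴.p (𝟙 (𝒴.p.obj (j.toFunctor.obj x''))) ψ₀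
  let U : Over S := 𝒴.p.obj (j.toFunctor.obj x'')
  let y : overCat U ⥤ᵇ 𝒴 := Groth.Agent.FibYoneda.yBased (j.toFunctor.obj x'')
  obtain ⟨e, he⟩ := Groth.Agent.FibYoneda.yBased_id_iso (j.toFunctor.obj x'')
  have hinv : 𝒴.p.IsHomLift (𝟙 U) (inv ψ₀) := IsHomLift.lift_id_inv_isIso _ _ _
  let ξ'' : (fp y j).obj := ⟨⟨Over.mk (𝟙 U), x'', e⟩, he⟩
  let ξ : (fp y j).obj := ⟨⟨Over.mk (𝟙 U), x, e ≪≫ (asIso ψ₀).symm⟩, by
    change 𝒴.p.IsHomLift (𝟙 U) (e.hom ≫ inv ψ₀)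
    infer_instance⟩
  obtain ⟨F, E, hE, hmono⟩ := hj U y
  have hmono' : Mono (AlgSt.spMapOfOver (BasedFunctor.comp E (fpFst y j))) := hmono
  obtain ⟨-, hess⟩ := of_isEquivOver E hE
  obtain ⟨a, ea, hea⟩ := hess ξ
  obtain ⟨a'', ea'', hea''⟩ := hess ξ''
  have hea : (fp y j).p.IsHomLift (𝟙 U) ea.hom := hea
  have hea'' : (fp y j).p.IsHomLift (𝟙 U) ea''.hom := hea''
  -- the bases
  have hb : a.base = U := (E.w_obj a).symm.trans (IsHomLift.domain_eq (fp y j).p (𝟙 U) ea.hom)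
  have hb'' : a''.base = U :=
    (E.w_obj a'').symm.trans (IsHomLift.domain_eq (fp y j).p (𝟙 U) ea''.hom)
  obtain ⟨T, s⟩ := a
  obtain ⟨T'', s''⟩ := a''
  change T = U at hb
  change T'' = U at hb''
  subst hb
  subst hb''
  -- the two sections agree
  have hk : (overCat U).p.IsHomLift (𝟙 U) ea.hom.hom.fst :=
    Groth.Agent.FibFp.lift_from y j (𝟙 U) ea.hom hea
  have hk'' : (overCat U).p.IsHomLift (𝟙 U) ea''.hom.hom.fst :=
    Groth.Agent.FibFp.lift_from y j (𝟙 U) ea''.hom hea''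
  have h1 := secHom_eq_of_hom (BasedFunctor.comp E (fpFst y j)) ⟨U, s⟩ (Over.mk (𝟙 U))
    ea.hom.hom.fst hk rfl
  have h2 := secHom_eq_of_hom (BasedFunctor.comp E (fpFst y j)) ⟨U, s''⟩ (Over.mk (𝟙 U))
    ea''.hom.hom.fst hk'' rfl
  have hs : s = s'' := by
    apply injective_of_mono (AlgSt.spMapOfOver (BasedFunctor.comp E (fpFst y j))) (op U)
    rw [AlgSt.spMapOfOver_app, AlgSt.spMapOfOver_app, h1, h2]
  subst hs
  let θ : ξ ≅ ξ'' := ea.symm ≪≫ ea''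
  let φ₀ : x ⟶ x'' := θ.hom.hom.snd
  have hθ1 : θ.hom.hom.fst = 𝟙 (Over.mk (𝟙 U)) := Over.mkIdTerminal.hom_ext _ _
  have hw : y.toFunctor.map θ.hom.hom.fst ≫ e.hom = (e.hom ≫ inv ψ₀) ≫ j.toFunctor.map φ₀ :=
    θ.hom.hom.w
  refine ⟨φ₀, ?_⟩
  rw [hθ1, CategoryTheory.Functor.map_id, Category.id_comp, Category.assoc] at hw
  have hw' : 𝟙 _ = inv ψ₀ ≫ j.toFunctor.map φ₀ := by
    apply (cancel_epi e.hom).1
    rw [Category.comp_id]
    exact hw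
  rw [IsIso.eq_inv_comp, Category.comp_id] at hw'
  exact hw'.symm

/-- a monomorphism between categories fibred in groupoids over `(Sch/S)` is full -/
theorem full_of_isMono {𝒳 𝒴 : AlgSt.Cat S} (h𝒳 : IsFibGrpd 𝒳.p) (h𝒴 : IsFibGrpd 𝒴.p) (j : 𝒳 ⥤ᵇ 𝒴)
    (hj : AlgSt.RepByAlgSpWith (MorphismProperty.monomorphisms (AlgSp.Sp S)) j) :
    j.toFunctor.Full := by
  constructor
  intro x x' ψ
  let V : Over S := 𝒴.p.obj (j.toFunctor.obj x)
  let u₁ : V ⟶ 𝒳.p.obj x' := 𝒴.p.map ψ ≫ eqToHom (j.w_obj x')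
  obtain ⟨x'', χ, hχ⟩ := h𝒳.exists_lift (x := x') u₁
  have hjχ : 𝒴.p.IsHomLift u₁ (j.toFunctor.map χ) := inferInstance
  have hsc : 𝒴.p.IsStronglyCartesian u₁ (j.toFunctor.map χ) :=
    Groth.Agent.Lib.helper4.FibRep.isStronglyCartesian_of_isFibGrpd' h𝒴 _ _
  have hψ : 𝒴.p.IsHomLift u₁ ψ := inferInstance
  let ψ₀ : j.toFunctor.obj x ⟶ j.toFunctor.obj x'' :=
    IsStronglyCartesian.map 𝒴.p u₁ (j.toFunctor.map χ) (show u₁ = 𝟙 V ≫ u₁ by simp) ψ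
  have hψ₀ : 𝒴.p.IsHomLift (𝟙 V) ψ₀ := inferInstance
  have hfac : ψ₀ ≫ j.toFunctor.map χ = ψ :=
    IsStronglyCartesian.fac 𝒴.p u₁ (j.toFunctor.map χ) (show u₁ = 𝟙 V ≫ u₁ by simp) ψ
  obtain ⟨φ₀, hφ₀⟩ := exists_preimage_vertical h𝒴 j hj x x'' ψ₀ hψ₀
  exact ⟨φ₀ ≫ χ, by rw [CategoryTheory.Functor.map_comp, hφ₀, hfac]⟩

/-- a monomorphism is in particular representable by algebraic spaces -/
theorem repByAlgSp1_of_with {𝒳 𝒴 : AlgSt.Cat S} (P : MorphismProperty (AlgSp.Sp S)) (j : 𝒳 ⥤ᵇ 𝒴)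
    (hj : AlgSt.RepByAlgSpWith P j) : AlgSt.RepByAlgSp1 j := by
  intro U y
  obtain ⟨F, e, he, -⟩ := hj U y
  exact ⟨F, e, he⟩

end Groth.Agent.Lib.helper4.AlgStFull
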