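import Groth.Agent.Lib.Helper4.AlgStCancel
import Groth.Agent.Lib.Helper5.AlgSpAffDesc3
import Groth.Agent.S10533
import Groth.Agent.S10539
import Groth.Agent.S10540
import Groth.Agent.S12780
set_option autoImplicit false
set_option backward.isDefEq.respectTransparency false
set_option backward.isDefEq.respectTransparency.types false
set_option linter.unusedSectionVars false
set_option linter.style.haveILetI false
set_option linter.unusedVariables false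
open CategoryTheory CategoryTheory.Functor CategoryTheory.Limits Opposite AlgebraicGeometry
universe u

/-! Affine, integral and finite morphisms of algebraic stacks: composition and cancellation. -/

namespace Groth.Agent.Lib.helper4.AlgStAffine
open Groth.Agent.FibEquiv FibCat Groth.Agent.Lib.helper4.FibPaste Groth.Agent.Lib.helper4.AlgStEquiv
open Groth.Agent.Lib.helper4.AlgStFpAlg Groth.Agent.Lib.helper4.AlgStSource
open Groth.Agent.Lib.helper4.AlgStCancel Groth.Agent.Lib.helper5.AffDesc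
open AlgSp

variable {S : Scheme.{u}}

theorem AffineWith.comp {P : MorphismProperty Scheme.{u}} [P.IsStableUnderComposition] {X Y Z : Sp S}
    {a : X ⟶ Y} {b : Y ⟶ Z} (ha : AffineWith P a) (hb : AffineWith P b) : AffineWith P (a ≫ b) := by
  intro T hT g
  obtain ⟨W, i, fst, sq, hW, hi⟩ := hb hT g
  obtain ⟨W', i', fst', sq', hW', hi'⟩ := ha hW fst
  refine ⟨W', i' ≫ i, fst', ?_, hW', ?_⟩
  · rw [Functor.map_comp]
    exact sq'.paste_vert sq
  · rw [Over.comp_left]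
    exact P.comp_mem _ _ hi' hi

theorem isAffineMor_iff {A B : Sp S} (φ : A ⟶ B) :
    IsAffineMor φ ↔ AffineWith (⊤ : MorphismProperty Scheme.{u}) φ := by
  constructor
  · intro h Z hZ k
    obtain ⟨W, i, fst, h1, h2⟩ := h hZ k
    exact ⟨W, i, fst, h1, h2, trivial⟩
  · intro h Z hZ k
    obtain ⟨W, i, fst, h1, h2, -⟩ := h hZ k
    exact ⟨W, i, fst, h1, h2⟩

theorem isLocalOnBase_affineWith_top :
    AlgSp.IsLocalOnBase (AlgSp.IsFpqcCover (S := S)) (AffineWith (⊤ : MorphismProperty Scheme.{u})) := by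
  intro ι Y Yi g hY hYi hg X f hX Xi p q hXi sq
  have h := Groth.Agent.S10533.result S Yi g hY hYi hg f hX Xi p q hXi sq
  rw [isAffineMor_iff] at h
  rw [h]
  exact forall_congr' fun i => isAffineMor_iff _

section Comp

variable {𝒳 𝒴 𝒵 : AlgSt.Cat S} (h𝒳 : IsFibGrpd 𝒳.p) (h𝒴 : IsFibGrpd 𝒴.p) (h𝒵 : IsFibGrpd 𝒵.p)
  (f : 𝒳 ⥤ᵇ 𝒴) (g : 𝒴 ⥤ᵇ 𝒵)
include h𝒳 h𝒴 h𝒵

theorem affineWith_comp (P : MorphismProperty Scheme.{u}) [P.IsStableUnderComposition]
    (hloc : AlgSp.IsLocalOnBase (AlgSp.IsFpqcCover (S := S)) (AffineWith P))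
    (hf : AlgSt.RepByAlgSpWith (AffineWith P) f) (hg : AlgSt.RepByAlgSpWith (AffineWith P) g) :
    AlgSt.RepByAlgSpWith (AffineWith P) (BasedFunctor.comp f g) :=
  Groth.Agent.S12780.result h𝒳 h𝒴 h𝒵 (AffineWith P)
    (fun X₁ Y₁ X₂ Y₂ _ _ _ _ a b a' b' sq ha => AffineWith.of_isPullback sq ha)
    (fun X Y Z _ _ _ a b ha hb => AffineWith.comp ha hb)
    (isLocalOnBase_fppf_of_fpqc hloc) f g hf hg

/-- cancellation: `b ∘ a` has `AffineWith P` and the diagonal of `b` has it, then `a` has it -/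
theorem affineWith_of_comp (P : MorphismProperty Scheme.{u}) [P.IsStableUnderComposition]
    (hloc : AlgSp.IsLocalOnBase (AlgSp.IsFpqcCover (S := S)) (AffineWith P))
    (hfg : AlgSt.RepByAlgSpWith (AffineWith P) (BasedFunctor.comp f g))
    (hΔ : AlgSt.RepByAlgSpWith (AffineWith P) (FibCat.diag g)) :
    AlgSt.RepByAlgSpWith (AffineWith P) f :=
  repByAlgSpWith_of_comp h𝒳 h𝒴 h𝒵 f g (AffineWith P)
    (fun X₁ Y₁ X₂ Y₂ _ _ _ _ a b a' b' sq ha => AffineWith.of_isPullback sq ha)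
    (fun X Y Z _ _ _ a b ha hb => AffineWith.comp ha hb)
    (isLocalOnBase_fppf_of_fpqc hloc) hfg hΔ

end Comp

theorem affine_iff {𝒳 𝒴 : AlgSt.Cat S} (f : 𝒳 ⥤ᵇ 𝒴) :
    AlgSt.RepByAlgSpWith AlgSp.IsAffineMor f ↔
      AlgSt.RepByAlgSpWith (AffineWith (⊤ : MorphismProperty Scheme.{u})) f :=
  ⟨repByAlgSpWith_mono f (fun F T π h => (isAffineMor_iff π).1 h),
    repByAlgSpWith_mono f (fun F T π h => (isAffineMor_iff π).2 h)⟩

section Comp2

variable {𝒳 𝒴 𝒵 : AlgSt.Cat S} (h𝒳 : IsFibGrpd 𝒳.p) (h𝒴 : IsFibGrpd 𝒴.p) (h𝒵 : IsFibGrpd 𝒵.p)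
  (f : 𝒳 ⥤ᵇ 𝒴) (g : 𝒴 ⥤ᵇ 𝒵)
include h𝒳 h𝒴 h𝒵

/-- S13011 -/
theorem isAffineMor_comp (hf : AlgSt.RepByAlgSpWith AlgSp.IsAffineMor f)
    (hg : AlgSt.RepByAlgSpWith AlgSp.IsAffineMor g) :
    AlgSt.RepByAlgSpWith AlgSp.IsAffineMor (BasedFunctor.comp f g) :=
  (affine_iff _).2 (affineWith_comp h𝒳 h𝒴 h𝒵 f g ⊤ isLocalOnBase_affineWith_top
    ((affine_iff f).1 hf) ((affine_iff g).1 hg))

/-- S13013 -/
theorem isIntegralMor_comp (hf : AlgSt.RepByAlgSpWith AlgSp.IsIntegralMor f)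
    (hg : AlgSt.RepByAlgSpWith AlgSp.IsIntegralMor g) :
    AlgSt.RepByAlgSpWith AlgSp.IsIntegralMor (BasedFunctor.comp f g) :=
  affineWith_comp h𝒳 h𝒴 h𝒵 f g @IsIntegralHom (Groth.Agent.S10539.result S) hf hg

/-- S13015 -/
theorem isFiniteMor_comp (hf : AlgSt.RepByAlgSpWith AlgSp.IsFiniteMor f)
    (hg : AlgSt.RepByAlgSpWith AlgSp.IsFiniteMor g) :
    AlgSt.RepByAlgSpWith AlgSp.IsFiniteMor (BasedFunctor.comp f g) :=
  affineWith_comp h𝒳 h𝒴 h𝒵 f g @IsFinite (Groth.Agent.S10540.result S) hf hg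

/-- S13016 -/
theorem isAffineMor_of_triangle (a : 𝒳 ⥤ᵇ 𝒵) (e : BasedFunctor.comp f g ≅ a)
    (ha : AlgSt.RepByAlgSpWith AlgSp.IsAffineMor a)
    (hΔ : AlgSt.RepByAlgSpWith AlgSp.IsAffineMor (FibCat.diag g)) :
    AlgSt.RepByAlgSpWith AlgSp.IsAffineMor f :=
  (affine_iff _).2 (affineWith_of_comp h𝒳 h𝒴 h𝒵 f g ⊤ isLocalOnBase_affineWith_top
    ((repByAlgSpWith_congr _ e).2 ((affine_iff a).1 ha)) ((affine_iff _).1 hΔ))

end Comp2

end Groth.Agent.Lib.helper4.AlgStAffine
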