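import Groth.Agent.Lib.Helper4.AlgStBoot3
set_option autoImplicit false
set_option backward.isDefEq.respectTransparency false
set_option backward.isDefEq.respectTransparency.types false
set_option linter.unusedSectionVars false
set_option linter.style.haveILetI false
set_option linter.unusedVariables false
open CategoryTheory CategoryTheory.Functor CategoryTheory.Limits Opposite AlgebraicGeometry
universe u

/-! Consequences of the bootstrap: inertia and second diagonal. -/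

namespace Groth.Agent.Lib.helper4.AlgStBoot
open Groth.Agent.FibEquiv Groth.Agent.FibYoneda Groth.Agent.FibFpProj Stk FibCat
open Groth.Agent.Lib.helper4.Descent Groth.Agent.Lib.helper4.PshDict Groth.Agent.Lib.helper4.FibPaste
open Groth.Agent.Lib.helper4.AlgStEquiv Groth.Agent.Lib.helper4.PshRep Groth.Agent.Lib.helper4.PshPB
open Groth.Agent.Lib.helper4.FibSwap Groth.Agent.Lib.helper4.AlgStSetoid Groth.Agent.Lib.helper4.AlgStCoreA
open Groth.Agent.Lib.helper4.AlgStDescent Groth.Agent.Lib.helper4.AlgStSource Groth.Agent.Lib.helper4.AlgStDM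
open Groth.Agent.Lib.helper4.AlgStSmLoc Groth.Agent.Lib.helper4.PointsBasic Groth.Agent.Lib.helper4.AlgStRep
open Groth.Agent.Lib.helper4.AlgStPts Groth.Agent.Lib.helper4.AlgStFpAlg
open Groth.Agent.Lib.helper4.PshOfSetoid Groth.Agent.Lib.Helper4.AlgStGlue
open Groth.Agent.Lib.helper4.AlgStCancel Groth.Agent.Lib.helper4.AlgStOpenSub
open Groth.Agent.Lib.helper4.DiagBC Groth.Agent.Lib.helper4.AlgStFaithful Groth.Agent.Lib.helper4.AlgStSelf
open Groth.Agent.Lib.helper4.FibInertiaDiag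
open AlgSt

variable {S : Scheme.{u}}

section Inertia

variable {𝒳 𝒴 : AlgSt.Cat S} (f : 𝒳 ⥤ᵇ 𝒴)

instance inertiaToBase_faithful : (inertiaToBase f).toFunctor.Faithful where
  map_injective {a b} m m' h := FibCat.InertiaObj.hom_ext h

instance inertiaNeutral_faithful : (inertiaNeutral f).toFunctor.Faithful where
  map_injective {a b} m m' h := congrArg (fun k => k.hom) h

instance inertiaNeutral_full : (inertiaNeutral f).toFunctor.Full where
  map_surjective {a b} n := ⟨n.hom, FibCat.InertiaObj.hom_ext rfl⟩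

/-- the kernel condition: `f` kills no non-trivial automorphism -/
def KerTriv : Prop := ∀ (x : 𝒳.obj) (α : x ⟶ x), f.toFunctor.map α = 𝟙 _ → α = 𝟙 x

theorem kerTriv_of_isEquivOver_inertiaToBase (h𝒳 : IsFibGrpd 𝒳.p)
    (h : IsEquivOver (inertiaToBase f)) : KerTriv f := by
  intro x α hα
  obtain ⟨⟨hfull, _⟩, _⟩ := of_isEquivOver _ h
  have hl : 𝒳.p.IsHomLift (𝟙 (𝒳.p.obj x)) α := by
    have h1 : 𝒴.p.IsHomLift (𝟙 (𝒳.p.obj x)) (f.toFunctor.map α) := by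
      rw [hα]; exact IsHomLift.id (f.w_obj x)
    exact f.isHomLift_map _ _
  haveI : IsIso α := isIso_of_lift h𝒳 (𝟙 (𝒳.p.obj x)) α
  let A : (inertia f).obj := ⟨x, asIso α, hα⟩
  let B : (inertia f).obj := ⟨x, Iso.refl x, f.map_id x⟩
  obtain ⟨n, hn⟩ := hfull.map_surjective (X := A) (Y := B) (𝟙 x)
  have hn' : n.hom = 𝟙 x := hn
  have hc : α ≫ n.hom = n.hom ≫ 𝟙 x := n.comm
  rw [hn', Category.comp_id] at hc
  exact hc.trans (Category.id_comp _)

theorem isEquivOver_inertiaNeutral_of_kerTriv (h : KerTriv f) : IsEquivOver (inertiaNeutral f) := by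
  apply isEquivOver_of
  intro A
  have hA : A.aut.hom = 𝟙 A.pt := h A.pt A.aut.hom A.map_aut
  have hA' : A.aut.inv = 𝟙 A.pt := by
    rw [← cancel_epi A.aut.hom, Iso.hom_inv_id, hA, Category.id_comp]
  refine ⟨A.pt, ⟨⟨𝟙 A.pt, by change 𝟙 _ ≫ 𝟙 _ = 𝟙 _ ≫ A.aut.hom; rw [hA]⟩,
    ⟨𝟙 A.pt, by change A.aut.hom ≫ 𝟙 _ = 𝟙 _ ≫ 𝟙 _; rw [hA]⟩,
    FibCat.InertiaObj.hom_ext (Category.id_comp _), FibCat.InertiaObj.hom_ext (Category.id_comp _)⟩, ?_⟩
  exact IsHomLift.of_fac _ _ _ rfl rfl (by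
    change 𝟙 _ = eqToHom _ ≫ 𝒳.p.map (𝟙 A.pt) ≫ eqToHom _
    simp)

theorem isEquivOver_inertiaToBase_of_kerTriv (h : KerTriv f) : IsEquivOver (inertiaToBase f) := by
  haveI : (inertiaToBase f).toFunctor.Full :=
    ⟨fun {A B} φ => ⟨⟨φ, by
      rw [h A.pt A.aut.hom A.map_aut, h B.pt B.aut.hom B.map_aut]; simp⟩, rfl⟩⟩
  apply isEquivOver_of
  intro x
  exact ⟨⟨x, Iso.refl x, f.map_id x⟩, Iso.refl x, IsHomLift.id rfl⟩

theorem kerTriv_of_isEquivOver_diag_diag (h𝒳 : IsFibGrpd 𝒳.p)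
    (h : IsEquivOver (FibCat.diag (FibCat.diag f))) : KerTriv f := by
  intro x α hα
  have h1 : IsEquivOver (BasedFunctor.comp (inertiaNeutral f) (Φ f)) :=
    isEquivOver_of_iso (neutralIso f).symm h
  obtain ⟨_, hess⟩ := of_isEquivOver _ h1
  have hl : 𝒳.p.IsHomLift (𝟙 (𝒳.p.obj x)) α := by
    have h1 : 𝒴.p.IsHomLift (𝟙 (𝒳.p.obj x)) (f.toFunctor.map α) := by
      rw [hα]; exact IsHomLift.id (f.w_obj x)
    exact f.isHomLift_map _ _
  haveI : IsIso α := isIso_of_lift h𝒳 (𝟙 (𝒳.p.obj x)) α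
  let A : (inertia f).obj := ⟨x, asIso α, hα⟩
  obtain ⟨ξ, e, -⟩ := hess ((Φ f).toFunctor.obj A)
  let n : (inertiaNeutral f).toFunctor.obj ξ ⟶ A := (Φ f).toFunctor.preimage e.hom
  let n' : A ⟶ (inertiaNeutral f).toFunctor.obj ξ := (Φ f).toFunctor.preimage e.inv
  have hnn : n' ≫ n = 𝟙 A := by
    apply (Φ f).toFunctor.map_injective
    rw [CategoryTheory.Functor.map_comp, (Φ f).toFunctor.map_preimage, (Φ f).toFunctor.map_preimage,
      Iso.inv_hom_id, CategoryTheory.Functor.map_id]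
  have hnn' : n'.hom ≫ n.hom = 𝟙 x := congrArg (fun k => k.hom) hnn
  have hc : 𝟙 ξ ≫ n.hom = n.hom ≫ α := n.comm
  rw [Category.id_comp] at hc
  calc α = (n'.hom ≫ n.hom) ≫ α := by rw [hnn', Category.id_comp]
    _ = n'.hom ≫ n.hom := by rw [Category.assoc, ← hc]
    _ = 𝟙 x := hnn'

theorem isEquivOver_diag_diag_of_kerTriv (h : KerTriv f) : IsEquivOver (FibCat.diag (FibCat.diag f)) :=
  isEquivOver_of_iso (neutralIso f)
    (isEquivOver_comp _ _ (isEquivOver_inertiaNeutral_of_kerTriv f h) (Φ_isEquivOver f))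

end Inertia

section Main

variable {𝒳 𝒴 : AlgSt.Cat S} (h𝒳 : AlgSt.IsAlgStack Scheme.fppfPrecoverage 𝒳)
  (h𝒴 : AlgSt.IsAlgStack Scheme.fppfPrecoverage 𝒴) (f : 𝒳 ⥤ᵇ 𝒴)
include h𝒳 h𝒴

/-- S13040 -/
theorem repByAlgSp1_iff_isEquivOver_inertiaToBase :
    AlgSt.RepByAlgSp1 f ↔ IsEquivOver (FibCat.inertiaToBase f) :=
  (repByAlgSp1_iff_kernel h𝒳 h𝒴 f).trans
    ⟨isEquivOver_inertiaToBase_of_kerTriv f, kerTriv_of_isEquivOver_inertiaToBase f h𝒳.isStack.1⟩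

/-- S12976 -/
theorem repByAlgSp1_iff_isEquivOver_diag_diag :
    AlgSt.RepByAlgSp1 f ↔ IsEquivOver (FibCat.diag (FibCat.diag f)) :=
  (repByAlgSp1_iff_kernel h𝒳 h𝒴 f).trans
    ⟨isEquivOver_diag_diag_of_kerTriv f, kerTriv_of_isEquivOver_diag_diag f h𝒳.isStack.1⟩

end Main

/-- the kernel condition for the structure functor is thinness of the fibres -/
theorem kerTriv_toSelf_iff {𝒳 : AlgSt.Cat S} (h𝒳 : IsFibGrpd 𝒳.p) :
    KerTriv (toSelf 𝒳) ↔ IsFibSetoid 𝒳.p := by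
  constructor
  · intro h
    haveI : (toSelf 𝒳).toFunctor.Faithful := faithful_of_aut_kernel h𝒳 isFibGrpd_selfOver (toSelf 𝒳) h
    refine ⟨h𝒳, fun U a b => ⟨fun m m' => ?_⟩⟩
    apply Functor.Fiber.hom_ext
    apply (toSelf 𝒳).toFunctor.map_injective
    have h1 := IsHomLift.fac' 𝒳.p (𝟙 U) (Functor.Fiber.fiberInclusion.map m)
    have h2 := IsHomLift.fac' 𝒳.p (𝟙 U) (Functor.Fiber.fiberInclusion.map m')
    exact h1.trans h2.symm
  · intro h x α hα
    have hα' : 𝒳.p.map α = 𝟙 (𝒳.p.obj x) := hα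
    have h1 : 𝒳.p.IsHomLift (𝟙 (𝒳.p.obj x)) α := IsHomLift.of_fac _ _ _ rfl rfl (by simp [hα'])
    have h2 : 𝒳.p.IsHomLift (𝟙 (𝒳.p.obj x)) (𝟙 x) := IsHomLift.id rfl
    exact vertical_eq_of_thin h.2 (V := 𝒳.p.obj x) α (𝟙 x)

/-- S12791 -/
theorem isEquivOver_inertiaToBase_toSelf_iff {𝒳 : AlgSt.Cat S}
    (h𝒳 : AlgSt.IsAlgStack Scheme.fppfPrecoverage 𝒳) :
    IsEquivOver (FibCat.inertiaToBase (FibCat.toSelf 𝒳)) ↔ AlgSt.RepByAlgSp 𝒳 := by
  rw [← isFibSetoid_iff_repByAlgSp h𝒳, ← kerTriv_toSelf_iff h𝒳.isStack.1]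
  exact ⟨kerTriv_of_isEquivOver_inertiaToBase _ h𝒳.isStack.1, isEquivOver_inertiaToBase_of_kerTriv _⟩

end Groth.Agent.Lib.helper4.AlgStBoot
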