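import Groth.Agent.Lib.Helper4.AlgStEndTrans
import Groth.Agent.Lib.Helper4.AlgStBoot4
set_option autoImplicit false
set_option backward.isDefEq.respectTransparency false
set_option backward.isDefEq.respectTransparency.types false
set_option linter.unusedSectionVars false
set_option linter.style.haveILetI false
set_option linter.unusedVariables false
open CategoryTheory CategoryTheory.Functor CategoryTheory.Limits Opposite AlgebraicGeometry
universe u

/-! A morphism from a Deligne–Mumford stack which is injective on automorphism groups of geometric points is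
representable by algebraic spaces (helper4).

The neutral section of the relative inertia is an open immersion (the morphism is DM); it is surjective on points by the
hypothesis, hence essentially surjective, so the relative inertia is trivial. -/

namespace Groth.Agent.Lib.helper4.AlgStAutInj
open Groth.Agent.FibEquiv Groth.Agent.FibYoneda FibCat Groth.Agent.Lib.helper4.FibPaste
open Groth.Agent.Lib.helper4.AlgStEquiv Groth.Agent.Lib.helper4.AlgStRep
open Groth.Agent.Lib.helper4.AlgStSetoid Groth.Agent.FibFpProj Groth.Agent.Lib.helper4.FibRep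
open Groth.Agent.Lib.helper4.AlgStFpAlg Groth.Agent.Lib.helper4.AlgStDM Groth.Agent.Lib.helper4.AlgStSelf
open Groth.Agent.Lib.helper4.AlgStPts Groth.Agent.Lib.helper4.FibSwap Groth.Agent.Lib.helper4.AlgStSmLoc
open Groth.Agent.Lib.helper4.AlgStQC Groth.Agent.Lib.helper4.PshDict Groth.Agent.Lib.helper4.PshRep
open Groth.Agent.Lib.helper4.PshPB Groth.Agent.Lib.helper4.AlgStQCMor Groth.Agent.Lib.helper4.PointsBasic
open Groth.Agent.Lib.helper4.AlgStDescent Groth.Agent.Lib.helper4.AlgStCoreA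
open Groth.Agent.Lib.helper4.AlgStSource Groth.Agent.Lib.helper4.AlgStGraph
open Groth.Agent.Lib.helper4.AlgStLocQ Groth.Agent.Lib.helper4.StkSub Groth.Agent.Lib.helper4.FibLiftIso
open Groth.Agent.Lib.helper4.AlgStOpenSub Groth.Agent.Lib.helper4.AlgStCancel
open Groth.Agent.Lib.helper4.AlgStInertia Groth.Agent.Lib.helper4.FibInertiaDiag
open Groth.Agent.Lib.helper4.AlgStDiagCover Groth.Agent.Lib.helper5.LocPBC Groth.Agent.Lib.helper4.AlgStDiagK
open Groth.Agent.Lib.helper4.AlgStEndTrans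
open Stk AlgSt

variable {S : Scheme.{u}}

section
variable {𝒢 ℱ : AlgSt.Cat S} (h𝒢 : AlgSt.IsAlgStack Scheme.fppfPrecoverage 𝒢)
  (hℱ : AlgSt.IsAlgStack Scheme.fppfPrecoverage ℱ) (g : 𝒢 ⥤ᵇ ℱ)
include h𝒢 hℱ

/-- the relative inertia of a morphism of algebraic stacks is an algebraic stack -/
theorem isAlgStack_inertia_rel : AlgSt.IsAlgStack Scheme.fppfPrecoverage (inertia g) := by
  have hprod : AlgSt.IsAlgStack Scheme.fppfPrecoverage (fp g g) := isAlgStack_fp' h𝒢 h𝒢 hℱ g g
  have hfp : AlgSt.IsAlgStack Scheme.fppfPrecoverage (fp (FibCat.diag g) (FibCat.diag g)) :=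
    isAlgStack_fp' h𝒢 h𝒢 hprod _ _
  exact (isAlgStack_iff_of_isEquivOver _ (Φ g) (Φ_isEquivOver g)).2 hfp

/-- the neutral section of the relative inertia of a morphism from a stack with unramified diagonal is an open
immersion -/
theorem isOpenImm_inertiaNeutral_rel (hDM : AlgSt.IsDMOver 𝒢) : AlgSt.IsOpenImm (inertiaNeutral g) := by
  have e : BasedFunctor.comp g (toSelf ℱ) = toSelf 𝒢 := Groth.Agent.Lib.helper4.FibRep.toSelf_unique _ _
  have h0 : AlgSt.IsDMMor (BasedFunctor.comp g (toSelf ℱ)) := by rw [e]; exact hDM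
  have hg : AlgSt.IsDMMor g := isDMMor_of_comp g (toSelf ℱ) hℱ isAlgStack_selfOver h𝒢.isStack.1 h0
  have hI : AlgSt.RepByAlgSp1 (inertiaToBase g) := repByAlgSp1_inertiaToBase g h𝒢 hℱ
  have h1 := (unramified_inertiaToBase_iff_isDMMor g h𝒢 hℱ).2 hg
  have h2 : AlgSt.IsOpenImm (FibCat.diag (inertiaToBase g)) :=
    isOpenImm_diag_of_unramified (inertiaToBase g) hI h1
  exact inertiaNeutral_of_diag_inertiaToBase g _ h2

/-- the kernel of `Aut(x) ⟶ Aut(g x)` is trivial as soon as it is so over algebraically closed fields -/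
theorem kerTriv_of_geom (hDM : AlgSt.IsDMOver 𝒢)
    (hinj : ∀ (k : Type u) [Field k] [IsAlgClosed k] (s : Spec (CommRingCat.of k) ⟶ S)
        (ξ : 𝒢.obj) (hξ : 𝒢.p.obj ξ = Over.mk s) (a : ξ ⟶ ξ),
        𝒢.p.IsHomLift (𝟙 (𝒢.p.obj ξ)) a → g.map a = 𝟙 (g.obj ξ) → a = 𝟙 ξ)
    (x : 𝒢.obj) (a : x ⟶ x) (ha : g.toFunctor.map a = 𝟙 _) : a = 𝟙 x := by
  have hIa : AlgSt.IsAlgStack Scheme.fppfPrecoverage (inertia g) := isAlgStack_inertia_rel h𝒢 hℱ g
  have hIf : IsFibGrpd (inertia g).p := hIa.isStack.1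
  have hνo : AlgSt.IsOpenImm (inertiaNeutral g) := isOpenImm_inertiaNeutral_rel h𝒢 hℱ g hDM
  have hνi : AlgSt.IsImm (inertiaNeutral g) :=
    repByAlgSpWith_mono _ (fun F T c hc => Groth.Agent.Lib.helper18.repWith_mono (fun _ _ f hf => by
      have : IsOpenImmersion f := hf
      exact (inferInstance : IsImmersion f)) hc) hνo
  obtain ⟨hiso, hQalg, -, hP⟩ := essIm_data h𝒢 hIa _ hνi
  have hQopen : AlgSt.IsOpenSubstack (inertia g) (essIm (inertiaNeutral g)) Scheme.fppfPrecoverage :=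
    ⟨hiso, hQalg, hP _ hνo⟩
  -- objects with trivial automorphism lie in the essential image
  have hmem : ∀ A : (inertia g).obj, A.aut.hom = 𝟙 A.pt → essIm (inertiaNeutral g) A := by
    intro A hA
    exact ⟨A.pt, ⟨Groth.Agent.Lib.helper4.GerbAut.inertiaIsoMk g (Iso.refl A.pt) (by
      show 𝟙 _ ≫ 𝟙 _ = 𝟙 _ ≫ A.aut.hom
      rw [hA])⟩⟩
  -- every point lies in the image
  have huniv : Set.range (AlgSt.Points.map (AlgSt.subIncl (inertia g) (essIm (inertiaNeutral g)))) =
      Set.univ := by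
    apply Set.eq_univ_of_univ_subset
    rintro q -
    obtain ⟨P, rfl⟩ := AlgSt.Points.mk_surjective q
    -- pass to an algebraic closure
    let Kb : Type u := AlgebraicClosure P.K
    let c : Spec (CommRingCat.of Kb) ⟶ Spec (CommRingCat.of P.K) :=
      Spec.map (CommRingCat.ofHom (algebraMap P.K Kb))
    let sb : Spec (CommRingCat.of Kb) ⟶ S := c ≫ P.str
    let m : (Over.mk sb : Over S) ⟶ Over.mk P.str := Over.homMk c rfl
    obtain ⟨A', φ, hφ⟩ := hIf.exists_lift (x := P.obj) (m ≫ eqToHom P.lies.symm)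
    have hA'base : (inertia g).p.obj A' = Over.mk sb :=
      IsHomLift.domain_eq (inertia g).p (m ≫ eqToHom P.lies.symm) φ
    have hA' : A'.aut.hom = 𝟙 A'.pt :=
      hinj Kb sb A'.pt hA'base A'.aut.hom (aut_isHomLift g A') A'.map_aut
    let P' : AlgSt.FPt (inertia g) := { K := Kb, str := sb, obj := A', lies := hA'base }
    have hrel : AlgSt.Points.mk P' = AlgSt.Points.mk P :=
      AlgSt.Points.sound ⟨P', 𝟙 _, φ, trivial⟩
    let P'' : AlgSt.FPt (AlgSt.fullSub (inertia g) (essIm (inertiaNeutral g))) :=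
      { K := Kb, str := sb, obj := ⟨A', hmem A' hA'⟩, lies := hA'base }
    exact ⟨AlgSt.Points.mk P'', hrel⟩
  -- conclude
  have hl : 𝒢.p.IsHomLift (𝟙 (𝒢.p.obj x)) a := by
    have h1 : ℱ.p.IsHomLift (𝟙 (𝒢.p.obj x)) (g.toFunctor.map a) := by
      rw [ha]; exact IsHomLift.id (g.w_obj x)
    exact g.isHomLift_map _ _
  haveI : IsIso a := Groth.Agent.Lib.helper4.Descent.isIso_of_lift h𝒢.isStack.1 (𝟙 (𝒢.p.obj x)) a
  let A : (inertia g).obj := ⟨x, asIso a, ha⟩
  have hAmem : essIm (inertiaNeutral g) A := by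
    refine (iff_QT_range hIa _ hQopen A).2 ?_
    intro p _
    rw [huniv]
    trivial
  obtain ⟨ξ, ⟨θ⟩⟩ := hAmem
  have hc : 𝟙 ξ ≫ θ.hom.hom = θ.hom.hom ≫ a := θ.hom.comm
  haveI : IsIso θ.hom.hom := by
    refine ⟨θ.inv.hom, ?_, ?_⟩
    · exact congrArg FibCat.InertiaObj.Hom.hom θ.hom_inv_id
    · exact congrArg FibCat.InertiaObj.Hom.hom θ.inv_hom_id
  rw [Category.id_comp] at hc
  exact ((cancel_epi θ.hom.hom).1 (by rw [← hc, Category.comp_id])).symm

end

end Groth.Agent.Lib.helper4.AlgStAutInj
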