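import Groth.Agent.Lib.Helper4.FibPaste
import Groth.Agent.FibYoneda
set_option autoImplicit false
set_option backward.isDefEq.respectTransparency false
set_option backward.isDefEq.respectTransparency.types false
open CategoryTheory CategoryTheory.Functor CategoryTheory.Limits
universe v₇ u₇ v₆ u₆ v₅ u₅ v₄ u₄ v₃ u₃ v₂ u₂ v u

namespace Groth.Agent.Lib.helper4.FibRep
open Groth.Agent.FibEquiv Groth.Agent.FibFiberwise Groth.Agent.FibFp Groth.Agent.FibOver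
open Groth.Agent.Lib.helper4.FibPaste FibCat

variable {C : Type u} [Category.{v} C]

section LemmaR

variable {𝒳 : BasedCategory.{v₂, u₂} C}

/-- strong cartesianness in a category fibred in groupoids, over any morphism that is lifted -/
theorem isStronglyCartesian_of_isFibGrpd' (h𝒳 : IsFibGrpd 𝒳.p) {R S : C} (f : R ⟶ S)
    {a b : 𝒳.obj} (φ : a ⟶ b) [𝒳.p.IsHomLift f φ] : 𝒳.p.IsStronglyCartesian f φ :=
  isStronglyCartesian_of_isHomLift 𝒳.p φ (h𝒳.isStronglyCartesian φ) f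

/-- The functor `𝒳 ⟶ C/P` given by a terminal object `x₀` over `P`. -/
def toOverOfTerminal {x₀ : 𝒳.obj} (hx₀ : IsTerminal x₀) : 𝒳 ⥤ᵇ overCat (𝒳.p.obj x₀) where
  toFunctor :=
    { obj := fun y => Over.mk (𝒳.p.map (hx₀.from y))
      map := fun {y y'} m => Over.homMk (𝒳.p.map m) (by
        dsimp
        rw [← CategoryTheory.Functor.map_comp, hx₀.hom_ext (m ≫ hx₀.from y') (hx₀.from y)])
      map_id := fun y => by apply Over.OverMorphism.ext; exact 𝒳.p.map_id y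
      map_comp := fun m m' => by apply Over.OverMorphism.ext; exact 𝒳.p.map_comp m m' }
  w := rfl

/-- A category fibred in groupoids with a terminal object is representable. -/
theorem isRepresentable_of_isTerminal (h𝒳 : IsFibGrpd 𝒳.p) {x₀ : 𝒳.obj} (hx₀ : IsTerminal x₀) :
    IsRepresentable 𝒳 := by
  refine ⟨𝒳.p.obj x₀, toOverOfTerminal hx₀, ?_⟩
  have hfaith : (toOverOfTerminal hx₀).toFunctor.Faithful := by
    constructor
    intro y y' m m' h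
    have h1 : 𝒳.p.map m = 𝒳.p.map m' := congrArg (fun k => k.left) h
    have hsc : 𝒳.p.IsStronglyCartesian (𝒳.p.map (hx₀.from y')) (hx₀.from y') :=
      h𝒳.isStronglyCartesian _
    have hm' : 𝒳.p.IsHomLift (𝒳.p.map m) m' := by rw [h1]; infer_instance
    exact IsStronglyCartesian.ext 𝒳.p (𝒳.p.map (hx₀.from y')) (hx₀.from y') (𝒳.p.map m)
      (hx₀.hom_ext _ _)
  have hfull : (toOverOfTerminal hx₀).toFunctor.Full := by
    constructor
    intro y y' n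
    have hsc : 𝒳.p.IsStronglyCartesian (𝒳.p.map (hx₀.from y')) (hx₀.from y') :=
      h𝒳.isStronglyCartesian _
    have hw : n.left ≫ 𝒳.p.map (hx₀.from y') = 𝒳.p.map (hx₀.from y) := Over.w n
    obtain ⟨χ, ⟨hχ1, hχ2⟩, -⟩ := IsStronglyCartesian.universal_property 𝒳.p
      (𝒳.p.map (hx₀.from y')) (hx₀.from y') n.left (𝒳.p.map (hx₀.from y)) hw.symm (hx₀.from y)
    refine ⟨χ, ?_⟩
    apply Over.OverMorphism.ext
    have := IsHomLift.fac' 𝒳.p n.left χ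
    simpa [toOverOfTerminal] using this
  apply isEquivOver_of
  intro η
  obtain ⟨y, φ, hφ⟩ := h𝒳.exists_lift (x := x₀) η.hom
  have hy : 𝒳.p.obj y = η.left := IsHomLift.domain_eq 𝒳.p η.hom φ
  have hφ' : hx₀.from y = φ := hx₀.hom_ext _ _
  have hfac : 𝒳.p.map (hx₀.from y) = eqToHom hy ≫ η.hom := by
    rw [hφ']
    have := IsHomLift.fac' 𝒳.p η.hom φ
    simpa using this
  refine ⟨y, Over.isoMk (eqToIso hy) (by simpa [toOverOfTerminal] using hfac.symm), ?_⟩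
  exact IsHomLift.of_fac' (overCat (𝒳.p.obj x₀)).p _ _ hy rfl
    (by rw [eqToHom_refl, Category.id_comp, Category.comp_id]; rfl)

/-- A representable category over `C` has a terminal object. -/
theorem exists_isTerminal_of_isRepresentable (h : IsRepresentable 𝒳) :
    ∃ x₀ : 𝒳.obj, Nonempty (IsTerminal x₀) := by
  obtain ⟨U, F, hF⟩ := h
  obtain ⟨⟨hfull, hfaith⟩, hess⟩ := of_isEquivOver F hF
  obtain ⟨x₀, e, -⟩ := hess (Over.mk (𝟙 U))
  have h1 : IsTerminal (F.toFunctor.obj x₀) := IsTerminal.ofIso Over.mkIdTerminal e.symm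
  exact ⟨x₀, ⟨IsTerminal.isTerminalOfObj F.toFunctor x₀ h1⟩⟩

end LemmaR

section Sq

variable (𝒮 : BasedCategory.{v₂, u₂} C)

/-- `𝒮 ×_C 𝒮` -/
abbrev sq : BasedCategory.{v₂, max u₂ v} C := fp (toSelf 𝒮) (toSelf 𝒮)

/-- first projection of `𝒮 ×_C 𝒮` -/
abbrev sqFst : sq 𝒮 ⥤ᵇ 𝒮 := fpFst (toSelf 𝒮) (toSelf 𝒮)

/-- second projection of `𝒮 ×_C 𝒮` -/
abbrev sqSnd : sq 𝒮 ⥤ᵇ 𝒮 := fpSnd (toSelf 𝒮) (toSelf 𝒮)

variable {𝒮}

/-- In `C` over itself two morphisms lifting the same morphism are equal. -/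
theorem selfOver_hom_eq {R S : C} (f : R ⟶ S) {x y : C} (φ ψ : x ⟶ y)
    (hφ : (selfOver C).p.IsHomLift f φ) (hψ : (selfOver C).p.IsHomLift f ψ) : φ = ψ := by
  have h1 := IsHomLift.fac' (selfOver C).p f φ
  have h2 := IsHomLift.fac' (selfOver C).p f ψ
  exact h1.trans h2.symm

theorem sq_hom_ext {X Y : (sq 𝒮).obj} {m m' : X ⟶ Y}
    (h1 : (sqFst 𝒮).toFunctor.map m = (sqFst 𝒮).toFunctor.map m')
    (h2 : (sqSnd 𝒮).toFunctor.map m = (sqSnd 𝒮).toFunctor.map m') : m = m' := by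
  apply ObjectProperty.hom_ext
  apply CategoricalPullback.hom_ext
  · exact h1
  · exact h2

/-- Constructor for morphisms of `𝒮 ×_C 𝒮`: two morphisms over the same morphism of `C`. -/
def sqHomMk {X Y : (sq 𝒮).obj} {R S : C} (f : R ⟶ S)
    (a₁ : (sqFst 𝒮).toFunctor.obj X ⟶ (sqFst 𝒮).toFunctor.obj Y)
    (a₂ : (sqSnd 𝒮).toFunctor.obj X ⟶ (sqSnd 𝒮).toFunctor.obj Y)
    (h₁ : 𝒮.p.IsHomLift f a₁) (h₂ : 𝒮.p.IsHomLift f a₂) : X ⟶ Y :=
  ObjectProperty.homMk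
    { fst := a₁
      snd := a₂
      w := by
        have hX : (selfOver C).p.IsHomLift (𝟙 (𝒮.p.obj X.obj.fst)) X.obj.iso.hom :=
          fp_iso_isHomLift _ _ X
        have hY : (selfOver C).p.IsHomLift (𝟙 (𝒮.p.obj Y.obj.fst)) Y.obj.iso.hom :=
          fp_iso_isHomLift _ _ Y
        have hR : 𝒮.p.obj X.obj.fst = R := IsHomLift.domain_eq 𝒮.p f a₁
        have hS : 𝒮.p.obj Y.obj.fst = S := IsHomLift.codomain_eq 𝒮.p f a₁
        have hX' : (selfOver C).p.IsHomLift (𝟙 R) X.obj.iso.hom := isHomLift_of_eq _ hR _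
        have hY' : (selfOver C).p.IsHomLift (𝟙 S) Y.obj.iso.hom := isHomLift_of_eq _ hS _
        have h3 : (selfOver C).p.IsHomLift f ((toSelf 𝒮).toFunctor.map a₁) := inferInstance
        have h4 : (selfOver C).p.IsHomLift f ((toSelf 𝒮).toFunctor.map a₂) := inferInstance
        apply selfOver_hom_eq f
        · infer_instance
        · infer_instance }

@[simp] theorem sqFst_map_sqHomMk {X Y : (sq 𝒮).obj} {R S : C} (f : R ⟶ S)
    (a₁ : (sqFst 𝒮).toFunctor.obj X ⟶ (sqFst 𝒮).toFunctor.obj Y)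
    (a₂ : (sqSnd 𝒮).toFunctor.obj X ⟶ (sqSnd 𝒮).toFunctor.obj Y)
    (h₁ : 𝒮.p.IsHomLift f a₁) (h₂ : 𝒮.p.IsHomLift f a₂) :
    (sqFst 𝒮).toFunctor.map (sqHomMk f a₁ a₂ h₁ h₂) = a₁ := rfl

@[simp] theorem sqSnd_map_sqHomMk {X Y : (sq 𝒮).obj} {R S : C} (f : R ⟶ S)
    (a₁ : (sqFst 𝒮).toFunctor.obj X ⟶ (sqFst 𝒮).toFunctor.obj Y)
    (a₂ : (sqSnd 𝒮).toFunctor.obj X ⟶ (sqSnd 𝒮).toFunctor.obj Y)
    (h₁ : 𝒮.p.IsHomLift f a₁) (h₂ : 𝒮.p.IsHomLift f a₂) :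
    (sqSnd 𝒮).toFunctor.map (sqHomMk f a₁ a₂ h₁ h₂) = a₂ := rfl

/-- Constructor for isomorphisms of `𝒮 ×_C 𝒮`: two isomorphisms over the same identity of `C`. -/
def sqIsoMk {X Y : (sq 𝒮).obj} (R : C)
    (a₁ : (sqFst 𝒮).toFunctor.obj X ≅ (sqFst 𝒮).toFunctor.obj Y)
    (a₂ : (sqSnd 𝒮).toFunctor.obj X ≅ (sqSnd 𝒮).toFunctor.obj Y)
    (h₁ : 𝒮.p.IsHomLift (𝟙 R) a₁.hom) (h₂ : 𝒮.p.IsHomLift (𝟙 R) a₂.hom) : X ≅ Y where
  hom := sqHomMk (𝟙 R) a₁.hom a₂.hom h₁ h₂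
  inv := sqHomMk (𝟙 R) a₁.inv a₂.inv (IsHomLift.lift_id_inv _ _ _) (IsHomLift.lift_id_inv _ _ _)
  hom_inv_id := by
    apply sq_hom_ext
    · rw [CategoryTheory.Functor.map_comp, sqFst_map_sqHomMk, sqFst_map_sqHomMk,
        CategoryTheory.Functor.map_id]
      exact a₁.hom_inv_id
    · rw [CategoryTheory.Functor.map_comp, sqSnd_map_sqHomMk, sqSnd_map_sqHomMk,
        CategoryTheory.Functor.map_id]
      exact a₂.hom_inv_id
  inv_hom_id := by
    apply sq_hom_ext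
    · rw [CategoryTheory.Functor.map_comp, sqFst_map_sqHomMk, sqFst_map_sqHomMk,
        CategoryTheory.Functor.map_id]
      exact a₁.inv_hom_id
    · rw [CategoryTheory.Functor.map_comp, sqSnd_map_sqHomMk, sqSnd_map_sqHomMk,
        CategoryTheory.Functor.map_id]
      exact a₂.inv_hom_id

/-- the diagonal of `𝒮` over `C` -/
abbrev Δ (𝒮 : BasedCategory.{v₂, u₂} C) : 𝒮 ⥤ᵇ sq 𝒮 := FibCat.diag (toSelf 𝒮)

theorem sqFst_map_diag {s s' : 𝒮.obj} (n : s ⟶ s') :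
    (sqFst 𝒮).toFunctor.map ((Δ 𝒮).toFunctor.map n) = n := rfl

theorem sqSnd_map_diag {s s' : 𝒮.obj} (n : s ⟶ s') :
    (sqSnd 𝒮).toFunctor.map ((Δ 𝒮).toFunctor.map n) = n := rfl

end Sq

section PartB

variable {𝒮 : BasedCategory.{v₂, u₂} C} {U : C} (K : overCat U ⥤ᵇ sq 𝒮)

/-- first component of the structural isomorphism of an object of `(C/U) ×_{𝒮×𝒮} 𝒮` -/
def φ₁ (η : (fp K (Δ 𝒮)).obj) :
    (BasedFunctor.comp K (sqFst 𝒮)).toFunctor.obj η.obj.fst ≅ η.obj.snd :=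
  (sqFst 𝒮).toFunctor.mapIso η.obj.iso

/-- second component of the structural isomorphism of an object of `(C/U) ×_{𝒮×𝒮} 𝒮` -/
def φ₂ (η : (fp K (Δ 𝒮)).obj) :
    (BasedFunctor.comp K (sqSnd 𝒮)).toFunctor.obj η.obj.fst ≅ η.obj.snd :=
  (sqSnd 𝒮).toFunctor.mapIso η.obj.iso

theorem φ₁_isHomLift (η : (fp K (Δ 𝒮)).obj) :
    𝒮.p.IsHomLift (𝟙 η.obj.fst.left) (φ₁ K η).hom := by
  have h : (sq 𝒮).p.IsHomLift (𝟙 η.obj.fst.left) η.obj.iso.hom := fp_iso_isHomLift _ _ η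
  change 𝒮.p.IsHomLift (𝟙 η.obj.fst.left) ((sqFst 𝒮).toFunctor.map η.obj.iso.hom)
  infer_instance

theorem φ₂_isHomLift (η : (fp K (Δ 𝒮)).obj) :
    𝒮.p.IsHomLift (𝟙 η.obj.fst.left) (φ₂ K η).hom := by
  have h : (sq 𝒮).p.IsHomLift (𝟙 η.obj.fst.left) η.obj.iso.hom := fp_iso_isHomLift _ _ η
  change 𝒮.p.IsHomLift (𝟙 η.obj.fst.left) ((sqSnd 𝒮).toFunctor.map η.obj.iso.hom)
  infer_instance

theorem hom_w₁ {η η' : (fp K (Δ 𝒮)).obj} (m : η ⟶ η') :
    (BasedFunctor.comp K (sqFst 𝒮)).toFunctor.map m.hom.fst ≫ (φ₁ K η').hom =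
      (φ₁ K η).hom ≫ m.hom.snd := by
  have h := congrArg (fun k => (sqFst 𝒮).toFunctor.map k) m.hom.w
  simp only [CategoryTheory.Functor.map_comp] at h
  exact h

theorem hom_w₂ {η η' : (fp K (Δ 𝒮)).obj} (m : η ⟶ η') :
    (BasedFunctor.comp K (sqSnd 𝒮)).toFunctor.map m.hom.fst ≫ (φ₂ K η').hom =
      (φ₂ K η).hom ≫ m.hom.snd := by
  have h := congrArg (fun k => (sqSnd 𝒮).toFunctor.map k) m.hom.w
  simp only [CategoryTheory.Functor.map_comp] at h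
  exact h

/-- The object `(c, c, φ₁ ≫ φ₂⁻¹)` of `(C/U) ×_𝒮 (C/U)` attached to `(c, s, φ)`. -/
def toPair (η : (fp K (Δ 𝒮)).obj) :
    (fp (BasedFunctor.comp K (sqFst 𝒮)) (BasedFunctor.comp K (sqSnd 𝒮))).obj :=
  ⟨⟨η.obj.fst, η.obj.fst, φ₁ K η ≪≫ (φ₂ K η).symm⟩, by
    have h1 := φ₁_isHomLift K η
    have h2 := φ₂_isHomLift K η
    have h3 : 𝒮.p.IsHomLift (𝟙 η.obj.fst.left) (φ₂ K η).inv := IsHomLift.lift_id_inv _ _ _
    change 𝒮.p.IsHomLift (𝟙 η.obj.fst.left) ((φ₁ K η).hom ≫ (φ₂ K η).inv)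
    infer_instance⟩

theorem exists_isTerminal_fp_diag [HasEqualizers C] (h𝒮 : IsFibGrpd 𝒮.p)
    (ω : (fp (BasedFunctor.comp K (sqFst 𝒮)) (BasedFunctor.comp K (sqSnd 𝒮))).obj)
    (hω : IsTerminal ω) :
    ∃ τ : (fp K (Δ 𝒮)).obj, Nonempty (IsTerminal τ) := by
  -- notation
  let K₁ : overCat U ⥤ᵇ 𝒮 := BasedFunctor.comp K (sqFst 𝒮)
  let K₂ : overCat U ⥤ᵇ 𝒮 := BasedFunctor.comp K (sqSnd 𝒮)
  let o₁ : Over U := ω.obj.fst
  let o₂ : Over U := ω.obj.snd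
  have hW : o₂.left = o₁.left := fp_snd_obj K₁ K₂ ω
  let ω₁ : o₁.left ⟶ U := o₁.hom
  let ω₂ : o₁.left ⟶ U := eqToHom hW.symm ≫ o₂.hom
  let ι : equalizer ω₁ ω₂ ⟶ o₁.left := equalizer.ι ω₁ ω₂
  have cond : ι ≫ ω₁ = ι ≫ ω₂ := equalizer.condition ω₁ ω₂
  let c₀ : Over U := Over.mk (ι ≫ ω₁)
  let i₁ : c₀ ⟶ o₁ := Over.homMk ι rfl
  let i₂ : c₀ ⟶ o₂ := Over.homMk (ι ≫ eqToHom hW.symm) (by
    change (ι ≫ eqToHom hW.symm) ≫ o₂.hom = ι ≫ ω₁
    rw [cond, Category.assoc])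
  have hi₁ : (overCat U).p.IsHomLift ι i₁ := Groth.Agent.FibYoneda.hom_isHomLift i₁
  have hi₂ : (overCat U).p.IsHomLift ι i₂ := by
    have := Groth.Agent.FibYoneda.hom_isHomLift i₂
    exact (IsHomLift.lift_comp_eqToHom_iff (overCat U).p ι i₂ hW.symm).mp this
  have hK₁i₁ : 𝒮.p.IsHomLift ι (K₁.toFunctor.map i₁) := inferInstance
  have hK₂i₂ : 𝒮.p.IsHomLift ι (K₂.toFunctor.map i₂) := inferInstance
  have hsc₁ : 𝒮.p.IsStronglyCartesian ι (K₁.toFunctor.map i₁) :=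
    isStronglyCartesian_of_isFibGrpd' h𝒮 ι _
  have hsc₂ : 𝒮.p.IsStronglyCartesian ι (K₂.toFunctor.map i₂) :=
    isStronglyCartesian_of_isFibGrpd' h𝒮 ι _
  obtain ⟨θ, hθ, hθw⟩ := exists_iso_of_lifts K₁ K₂ ω ι i₁ i₂ hsc₁ hsc₂
  have hθ' : 𝒮.p.IsHomLift (𝟙 c₀.left) θ.hom := hθ
  -- the candidate terminal object
  let s₀ : 𝒮.obj := K₂.toFunctor.obj c₀
  have hid : 𝒮.p.IsHomLift (𝟙 c₀.left) (Iso.refl s₀).hom := IsHomLift.id (K₂.w_obj c₀)
  let φτ : K.toFunctor.obj c₀ ≅ (Δ 𝒮).toFunctor.obj s₀ := sqIsoMk c₀.left θ (Iso.refl s₀) hθ' hid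
  have hφτ : (sq 𝒮).p.IsHomLift (𝟙 c₀.left) φτ.hom := by
    apply fp_lift_to
    exact hθ'
  let τ : (fp K (Δ 𝒮)).obj := ⟨⟨c₀, s₀, φτ⟩, hφτ⟩
  have hτ₁ : (φ₁ K τ).hom = θ.hom := rfl
  have hτ₂ : (φ₂ K τ).hom = 𝟙 s₀ := rfl
  refine ⟨τ, ⟨?_⟩⟩
  -- data attached to an object `η`
  have key : ∀ η : (fp K (Δ 𝒮)).obj, ∃ k : η.obj.fst ⟶ c₀,
      k ≫ i₁ = (hω.from (toPair K η)).hom.fst ∧ k ≫ i₂ = (hω.from (toPair K η)).hom.snd := by
    intro η
    let μ := hω.from (toPair K η)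
    let μ₁ : η.obj.fst ⟶ o₁ := μ.hom.fst
    let μ₂ : η.obj.fst ⟶ o₂ := μ.hom.snd
    have hμ₂ : (overCat U).p.IsHomLift μ₁.left μ₂ := fp_isHomLift_snd K₁ K₂ μ
    have hμ₂' : μ₂.left = μ₁.left ≫ eqToHom hW.symm := by
      have := IsHomLift.fac' (overCat U).p μ₁.left μ₂
      rw [eqToHom_refl, Category.id_comp] at this
      exact this
    have h1 : μ₁.left ≫ ω₁ = η.obj.fst.hom := Over.w μ₁
    have h2 : μ₁.left ≫ ω₂ = η.obj.fst.hom := by
      change μ₁.left ≫ eqToHom hW.symm ≫ o₂.hom = _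
      rw [← Category.assoc, ← hμ₂']
      exact Over.w μ₂
    let t' : η.obj.fst.left ⟶ equalizer ω₁ ω₂ := equalizer.lift μ₁.left (h1.trans h2.symm)
    have ht' : t' ≫ ι = μ₁.left := equalizer.lift_ι _ _
    refine ⟨Over.homMk t' ?_, ?_, ?_⟩
    · change t' ≫ ι ≫ ω₁ = _
      rw [← Category.assoc, ht', h1]
    · apply Over.OverMorphism.ext
      exact ht'
    · apply Over.OverMorphism.ext
      change t' ≫ ι ≫ eqToHom hW.symm = μ₂.left
      rw [← Category.assoc, ht', hμ₂']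
  choose k hk₁ hk₂ using key
  have hkl : ∀ η, (overCat U).p.IsHomLift (k η).left (k η) :=
    fun η => Groth.Agent.FibYoneda.hom_isHomLift _
  -- the key equation
  have e1 : ∀ (η : (fp K (Δ 𝒮)).obj) (k' : η.obj.fst ⟶ c₀),
      k' ≫ i₁ = (hω.from (toPair K η)).hom.fst → k' ≫ i₂ = (hω.from (toPair K η)).hom.snd →
      K₁.toFunctor.map k' ≫ θ.hom =
        (φ₁ K η).hom ≫ (φ₂ K η).inv ≫ K₂.toFunctor.map k' := by
    intro η k' hk'₁ hk'₂
    have hk'l : (overCat U).p.IsHomLift k'.left k' := Groth.Agent.FibYoneda.hom_isHomLift _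
    have h1 := φ₁_isHomLift K η
    have h2 := φ₂_isHomLift K η
    have h3 : 𝒮.p.IsHomLift (𝟙 η.obj.fst.left) (φ₂ K η).inv := IsHomLift.lift_id_inv _ _ _
    have h4 : 𝒮.p.IsHomLift k'.left (K₁.toFunctor.map k') := inferInstance
    have h5 : 𝒮.p.IsHomLift k'.left (K₂.toFunctor.map k') := inferInstance
    have h6 : 𝒮.p.IsHomLift k'.left (K₁.toFunctor.map k' ≫ θ.hom) := inferInstance
    have h7 : 𝒮.p.IsHomLift k'.left ((φ₂ K η).inv ≫ K₂.toFunctor.map k') := inferInstance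
    have h8 : 𝒮.p.IsHomLift k'.left
        ((φ₁ K η).hom ≫ (φ₂ K η).inv ≫ K₂.toFunctor.map k') := inferInstance
    apply IsStronglyCartesian.ext 𝒮.p ι (K₂.toFunctor.map i₂) k'.left
    have hw := (hω.from (toPair K η)).hom.w
    change K₁.toFunctor.map (hω.from (toPair K η)).hom.fst ≫ ω.obj.iso.hom =
      ((φ₁ K η).hom ≫ (φ₂ K η).inv) ≫ K₂.toFunctor.map (hω.from (toPair K η)).hom.snd at hw
    rw [← hk'₁, ← hk'₂, CategoryTheory.Functor.map_comp, CategoryTheory.Functor.map_comp,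
      Category.assoc, hθw] at hw
    simp only [Category.assoc] at hw ⊢
    exact hw
  refine IsTerminal.ofUniqueHom (fun η => ObjectProperty.homMk
    ⟨k η, (φ₂ K η).inv ≫ K₂.toFunctor.map (k η), ?_⟩) ?_
  · apply sq_hom_ext
    · change K₁.toFunctor.map (k η) ≫ θ.hom =
        (φ₁ K η).hom ≫ (φ₂ K η).inv ≫ K₂.toFunctor.map (k η)
      exact e1 η (k η) (hk₁ η) (hk₂ η)
    · change K₂.toFunctor.map (k η) ≫ 𝟙 s₀ =
        (φ₂ K η).hom ≫ (φ₂ K η).inv ≫ K₂.toFunctor.map (k η)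
      rw [Category.comp_id, Iso.hom_inv_id_assoc]
  · intro η m
    let m₁ : η.obj.fst ⟶ c₀ := m.hom.fst
    let m₂ : η.obj.snd ⟶ s₀ := m.hom.snd
    have w₁ : K₁.toFunctor.map m₁ ≫ θ.hom = (φ₁ K η).hom ≫ m₂ := hom_w₁ K m
    have w₂ : K₂.toFunctor.map m₁ ≫ 𝟙 s₀ = (φ₂ K η).hom ≫ m₂ := hom_w₂ K m
    rw [Category.comp_id] at w₂
    have hm₂ : m₂ = (φ₂ K η).inv ≫ K₂.toFunctor.map m₁ := by
      rw [w₂, Iso.inv_hom_id_assoc]
    -- the induced morphism to `ω`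
    let ν : toPair K η ⟶ ω := ObjectProperty.homMk ⟨m₁ ≫ i₁, m₁ ≫ i₂, by
      change K₁.toFunctor.map (m₁ ≫ i₁) ≫ ω.obj.iso.hom =
        ((φ₁ K η).hom ≫ (φ₂ K η).inv) ≫ K₂.toFunctor.map (m₁ ≫ i₂)
      rw [CategoryTheory.Functor.map_comp, CategoryTheory.Functor.map_comp, Category.assoc, hθw,
        ← Category.assoc, w₁, hm₂]
      simp only [Category.assoc]⟩
    have hν : ν = hω.from (toPair K η) := hω.hom_ext _ _
    have hν₁ : m₁ ≫ i₁ = (hω.from (toPair K η)).hom.fst := congrArg (fun x => x.hom.fst) hν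
    have hm₁ : m₁ = k η := by
      apply Over.OverMorphism.ext
      have h1 : m₁.left ≫ ι = (k η).left ≫ ι := by
        have := congrArg (fun x => x.left) (hν₁.trans (hk₁ η).symm)
        exact this
      exact (cancel_mono ι).mp h1
    apply ObjectProperty.hom_ext
    apply CategoricalPullback.hom_ext
    · exact hm₁
    · change m₂ = (φ₂ K η).inv ≫ K₂.toFunctor.map (k η)
      rw [hm₂, hm₁]

end PartB

section PartA

variable [HasBinaryProducts C] {𝒮 : BasedCategory.{v₂, u₂} C} {V U : C}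
  (H : overCat V ⥤ᵇ 𝒮) (G : overCat U ⥤ᵇ 𝒮)

/-- `C/(V × U) ⟶ C/V` -/
noncomputable def prj₁ (V U : C) : overCat (V ⨯ U) ⥤ᵇ overCat V := ⟨Over.map prod.fst, Over.mapForget_eq _⟩

/-- `C/(V × U) ⟶ C/U` -/
noncomputable def prj₂ (V U : C) : overCat (V ⨯ U) ⥤ᵇ overCat U := ⟨Over.map prod.snd, Over.mapForget_eq _⟩

omit [HasBinaryProducts C] in
theorem toSelf_unique {𝒲 : BasedCategory.{v₃, u₃} C} (A B : 𝒲 ⥤ᵇ selfOver C) : A = B := by
  have hA : A.toFunctor = 𝒲.p := A.w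
  have hB : B.toFunctor = 𝒲.p := B.w
  cases A with | mk A₀ wA =>
  cases B with | mk B₀ wB =>
  have : A₀ = B₀ := hA.trans hB.symm
  subst this
  rfl

/-- `(H ∘ pr₁, G ∘ pr₂) : C/(V × U) ⟶ 𝒮 ×_C 𝒮` -/
noncomputable def pairK : overCat (V ⨯ U) ⥤ᵇ sq 𝒮 :=
  fpLift (BasedFunctor.comp (prj₁ V U) H) (BasedFunctor.comp (prj₂ V U) G)
    (eqToIso (toSelf_unique _ _))

theorem pairK_fst : BasedFunctor.comp (pairK H G) (sqFst 𝒮) = BasedFunctor.comp (prj₁ V U) H := rfl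

theorem pairK_snd : BasedFunctor.comp (pairK H G) (sqSnd 𝒮) = BasedFunctor.comp (prj₂ V U) G := rfl

/-- the 2-isomorphism defining `compare` -/
noncomputable def compareIso :
    BasedFunctor.comp (BasedFunctor.comp (fpFst (pairK H G) (Δ 𝒮)) (prj₁ V U)) H ≅
      BasedFunctor.comp (BasedFunctor.comp (fpFst (pairK H G) (Δ 𝒮)) (prj₂ V U)) G :=
  BasedNatIso.mkNatIso
    (NatIso.ofComponents (fun t => φ₁ (pairK H G) t ≪≫ (φ₂ (pairK H G) t).symm)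
      (fun {t t'} m => by
        have w₁ := hom_w₁ (pairK H G) m
        have w₂ := hom_w₂ (pairK H G) m
        change (BasedFunctor.comp (pairK H G) (sqFst 𝒮)).toFunctor.map m.hom.fst ≫
          (φ₁ (pairK H G) t').hom ≫ (φ₂ (pairK H G) t').inv =
          ((φ₁ (pairK H G) t).hom ≫ (φ₂ (pairK H G) t).inv) ≫
            (BasedFunctor.comp (pairK H G) (sqSnd 𝒮)).toFunctor.map m.hom.fst
        rw [← Category.assoc, w₁, Category.assoc, Category.assoc]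
        congr 1
        rw [Iso.eq_inv_comp, ← Category.assoc, ← w₂, Category.assoc, Iso.hom_inv_id,
          Category.comp_id]))
    (fun t => by
      have h1 := φ₁_isHomLift (pairK H G) t
      have h2 := φ₂_isHomLift (pairK H G) t
      have h3 : 𝒮.p.IsHomLift (𝟙 t.obj.fst.left) (φ₂ (pairK H G) t).inv :=
        IsHomLift.lift_id_inv _ _ _
      change 𝒮.p.IsHomLift (𝟙 t.obj.fst.left)
        ((φ₁ (pairK H G) t).hom ≫ (φ₂ (pairK H G) t).inv)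
      infer_instance)

/-- The comparison functor `C/(V×U) ×_{𝒮×𝒮} 𝒮 ⟶ C/V ×_𝒮 C/U`. -/
noncomputable def compare : fp (pairK H G) (Δ 𝒮) ⥤ᵇ fp H G :=
  fpLift (BasedFunctor.comp (fpFst (pairK H G) (Δ 𝒮)) (prj₁ V U))
    (BasedFunctor.comp (fpFst (pairK H G) (Δ 𝒮)) (prj₂ V U)) (compareIso H G)

instance compare_faithful : (compare H G).toFunctor.Faithful where
  map_injective {t t'} m m' h := by
    have h1 : (prj₁ V U).toFunctor.map m.hom.fst = (prj₁ V U).toFunctor.map m'.hom.fst :=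
      congrArg (fun k => k.hom.fst) h
    have h1' : m.hom.fst = m'.hom.fst := by
      apply Over.OverMorphism.ext
      exact congrArg (fun k => k.left) h1
    have w₂ := hom_w₂ (pairK H G) m
    have w₂' := hom_w₂ (pairK H G) m'
    apply ObjectProperty.hom_ext
    apply CategoricalPullback.hom_ext
    · exact h1'
    · rw [← cancel_epi (φ₂ (pairK H G) t).hom, ← w₂, ← w₂', h1']

instance compare_full : (compare H G).toFunctor.Full where
  map_surjective {t t'} n := by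
    let K := pairK H G
    let c : Over (V ⨯ U) := t.obj.fst
    let c' : Over (V ⨯ U) := t'.obj.fst
    let n₁ : (prj₁ V U).toFunctor.obj c ⟶ (prj₁ V U).toFunctor.obj c' := n.hom.fst
    let n₂ : (prj₂ V U).toFunctor.obj c ⟶ (prj₂ V U).toFunctor.obj c' := n.hom.snd
    have hw : H.toFunctor.map n₁ ≫ ((φ₁ K t').hom ≫ (φ₂ K t').inv) =
        ((φ₁ K t).hom ≫ (φ₂ K t).inv) ≫ G.toFunctor.map n₂ := n.hom.w
    have hn₂ : (overCat U).p.IsHomLift n₁.left n₂ := fp_isHomLift_snd H G n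
    have hn₂' : n₂.left = n₁.left := by
      have := IsHomLift.fac' (overCat U).p n₁.left n₂
      rw [eqToHom_refl, eqToHom_refl, Category.id_comp, Category.comp_id] at this
      exact this
    have e₁ : n₁.left ≫ c'.hom ≫ prod.fst = c.hom ≫ prod.fst := Over.w n₁
    have e₂ : n₁.left ≫ c'.hom ≫ prod.snd = c.hom ≫ prod.snd := by
      rw [← hn₂']; exact Over.w n₂
    let m₁ : c ⟶ c' := Over.homMk n₁.left (by
      apply Limits.prod.hom_ext
      · rw [Category.assoc]; exact e₁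
      · rw [Category.assoc]; exact e₂)
    have hm₁ : (prj₁ V U).toFunctor.map m₁ = n₁ := by
      apply Over.OverMorphism.ext; rfl
    have hm₂ : (prj₂ V U).toFunctor.map m₁ = n₂ := by
      apply Over.OverMorphism.ext; exact hn₂'.symm
    let m₂ : t.obj.snd ⟶ t'.obj.snd :=
      (φ₁ K t).inv ≫ (BasedFunctor.comp K (sqFst 𝒮)).toFunctor.map m₁ ≫ (φ₁ K t').hom
    refine ⟨ObjectProperty.homMk ⟨m₁, m₂, ?_⟩, ?_⟩
    · apply sq_hom_ext
      · change (BasedFunctor.comp K (sqFst 𝒮)).toFunctor.map m₁ ≫ (φ₁ K t').hom =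
          (φ₁ K t).hom ≫ m₂
        simp only [m₂, Iso.hom_inv_id_assoc]
      · change (BasedFunctor.comp K (sqSnd 𝒮)).toFunctor.map m₁ ≫ (φ₂ K t').hom =
          (φ₂ K t).hom ≫ m₂
        change G.toFunctor.map ((prj₂ V U).toFunctor.map m₁) ≫ (φ₂ K t').hom =
          (φ₂ K t).hom ≫ (φ₁ K t).inv ≫ H.toFunctor.map ((prj₁ V U).toFunctor.map m₁) ≫
            (φ₁ K t').hom
        rw [hm₁, hm₂]
        have := hw =≫ (φ₂ K t').hom
        simp only [Category.assoc, Iso.inv_hom_id, Category.comp_id] at this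
        rw [this]
        simp only [Iso.hom_inv_id_assoc, Iso.inv_hom_id_assoc]
    · apply ObjectProperty.hom_ext
      apply CategoricalPullback.hom_ext
      · exact hm₁
      · exact hm₂

theorem compare_isEquivOver : IsEquivOver (compare H G) := by
  apply isEquivOver_of
  intro η
  let a : Over V := η.obj.fst
  let b : Over U := η.obj.snd
  let ψ : H.toFunctor.obj a ≅ G.toFunctor.obj b := η.obj.iso
  have hψ : 𝒮.p.IsHomLift (𝟙 a.left) ψ.hom := fp_iso_isHomLift _ _ η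
  have hb : b.left = a.left := fp_snd_obj H G η
  let c : Over (V ⨯ U) := Over.mk (prod.lift a.hom (eqToHom hb.symm ≫ b.hom))
  let ia : (prj₁ V U).toFunctor.obj c ≅ a := Over.isoMk (Iso.refl _) (by
    change 𝟙 _ ≫ a.hom = prod.lift a.hom (eqToHom hb.symm ≫ b.hom) ≫ prod.fst
    rw [Category.id_comp, prod.lift_fst])
  let ib : (prj₂ V U).toFunctor.obj c ≅ b := Over.isoMk (eqToIso hb.symm) (by
    change eqToHom hb.symm ≫ b.hom = prod.lift a.hom (eqToHom hb.symm ≫ b.hom) ≫ prod.snd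
    rw [prod.lift_snd])
  have hia : (overCat V).p.IsHomLift (𝟙 a.left) ia.hom :=
    Groth.Agent.FibYoneda.hom_isHomLift ia.hom
  have hib : (overCat U).p.IsHomLift (𝟙 a.left) ib.hom := by
    have h0 : (overCat U).p.IsHomLift (eqToHom hb.symm) ib.hom :=
      Groth.Agent.FibYoneda.hom_isHomLift ib.hom
    have h1 : (overCat U).p.IsHomLift (𝟙 a.left ≫ eqToHom hb.symm) ib.hom := by
      rw [Category.id_comp]; exact h0
    exact (IsHomLift.lift_comp_eqToHom_iff (overCat U).p (𝟙 a.left) ib.hom hb.symm).mp h1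
  let s : 𝒮.obj := G.toFunctor.obj b
  let a₁ : H.toFunctor.obj ((prj₁ V U).toFunctor.obj c) ≅ s := H.toFunctor.mapIso ia ≪≫ ψ
  let a₂ : G.toFunctor.obj ((prj₂ V U).toFunctor.obj c) ≅ s := G.toFunctor.mapIso ib
  have ha₁ : 𝒮.p.IsHomLift (𝟙 a.left) a₁.hom := by
    have : 𝒮.p.IsHomLift (𝟙 a.left) (H.toFunctor.map ia.hom) := inferInstance
    change 𝒮.p.IsHomLift (𝟙 a.left) (H.toFunctor.map ia.hom ≫ ψ.hom)
    infer_instance
  have ha₂ : 𝒮.p.IsHomLift (𝟙 a.left) a₂.hom := by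
    change 𝒮.p.IsHomLift (𝟙 a.left) (G.toFunctor.map ib.hom)
    infer_instance
  let φ : (pairK H G).toFunctor.obj c ≅ (Δ 𝒮).toFunctor.obj s := sqIsoMk a.left a₁ a₂ ha₁ ha₂
  have hφ : (sq 𝒮).p.IsHomLift (𝟙 a.left) φ.hom := by
    apply fp_lift_to
    exact ha₁
  let ξ : (fp (pairK H G) (Δ 𝒮)).obj := ⟨⟨c, s, φ⟩, hφ⟩
  have hξ₁ : (φ₁ (pairK H G) ξ).hom = a₁.hom := rfl
  have hξ₂ : (φ₂ (pairK H G) ξ).inv = a₂.inv := rfl
  let e0 : ((compare H G).toFunctor.obj ξ).obj ≅ η.obj :=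
    CategoricalPullback.mkIso
      (x := ⟨(prj₁ V U).toFunctor.obj c, (prj₂ V U).toFunctor.obj c,
        φ₁ (pairK H G) ξ ≪≫ (φ₂ (pairK H G) ξ).symm⟩) ia ib (by
      change H.toFunctor.map ia.hom ≫ ψ.hom =
        ((φ₁ (pairK H G) ξ).hom ≫ (φ₂ (pairK H G) ξ).inv) ≫ G.toFunctor.map ib.hom
      rw [hξ₁, hξ₂]
      simp only [a₁, a₂, Iso.trans_hom, Functor.mapIso_hom, Functor.mapIso_inv, Category.assoc]
      rw [← CategoryTheory.Functor.map_comp, Iso.inv_hom_id, CategoryTheory.Functor.map_id,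
        Category.comp_id])
  refine ⟨ξ, ObjectProperty.isoMk _ e0, ?_⟩
  apply fp_lift_to
  exact hia

end PartA

end Groth.Agent.Lib.helper4.FibRep
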