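import Groth.Agent.Lib.Helper4.FibRep
set_option autoImplicit false
set_option backward.isDefEq.respectTransparency false
set_option backward.isDefEq.respectTransparency.types false
open CategoryTheory CategoryTheory.Functor CategoryTheory.Limits
universe v₇ u₇ v₆ u₆ v₅ u₅ v₄ u₄ v₃ u₃ v₂ u₂ v u

namespace Groth.Agent.Lib.helper4.FibProd
open Groth.Agent.FibEquiv Groth.Agent.Lib.helper4.FibPaste Groth.Agent.Lib.helper4.FibRep FibCat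

variable {C : Type u} [Category.{v} C]

section Basic

variable (𝒜 : BasedCategory.{v₂, u₂} C) (ℬ : BasedCategory.{v₃, u₃} C)

/-- `𝒜 ×_C ℬ` -/
abbrev prd : BasedCategory.{max v₂ v₃, max u₂ u₃ v} C := fp (toSelf 𝒜) (toSelf ℬ)

/-- first projection -/
abbrev prFst : prd 𝒜 ℬ ⥤ᵇ 𝒜 := fpFst (toSelf 𝒜) (toSelf ℬ)

/-- second projection -/
abbrev prSnd : prd 𝒜 ℬ ⥤ᵇ ℬ := fpSnd (toSelf 𝒜) (toSelf ℬ)

variable {𝒜 ℬ}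

theorem prd_hom_ext {X Y : (prd 𝒜 ℬ).obj} {m m' : X ⟶ Y}
    (h1 : (prFst 𝒜 ℬ).toFunctor.map m = (prFst 𝒜 ℬ).toFunctor.map m')
    (h2 : (prSnd 𝒜 ℬ).toFunctor.map m = (prSnd 𝒜 ℬ).toFunctor.map m') : m = m' := by
  apply ObjectProperty.hom_ext
  apply CategoricalPullback.hom_ext
  · exact h1
  · exact h2

/-- Constructor for objects of `𝒜 ×_C ℬ`. -/
def prdObjMk (a : 𝒜.obj) (b : ℬ.obj) (h : 𝒜.p.obj a = ℬ.p.obj b) : (prd 𝒜 ℬ).obj :=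
  ⟨⟨a, b, eqToIso h⟩, IsHomLift.of_fac' (selfOver C).p _ _ rfl h.symm (by simp; rfl)⟩

/-- Constructor for morphisms of `𝒜 ×_C ℬ`: two morphisms over the same morphism of `C`. -/
def prdHomMk {X Y : (prd 𝒜 ℬ).obj} {R S : C} (f : R ⟶ S)
    (a₁ : (prFst 𝒜 ℬ).toFunctor.obj X ⟶ (prFst 𝒜 ℬ).toFunctor.obj Y)
    (a₂ : (prSnd 𝒜 ℬ).toFunctor.obj X ⟶ (prSnd 𝒜 ℬ).toFunctor.obj Y)
    (h₁ : 𝒜.p.IsHomLift f a₁) (h₂ : ℬ.p.IsHomLift f a₂) : X ⟶ Y :=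
  ObjectProperty.homMk
    { fst := a₁
      snd := a₂
      w := by
        have hX : (selfOver C).p.IsHomLift (𝟙 (𝒜.p.obj X.obj.fst)) X.obj.iso.hom :=
          fp_iso_isHomLift _ _ X
        have hY : (selfOver C).p.IsHomLift (𝟙 (𝒜.p.obj Y.obj.fst)) Y.obj.iso.hom :=
          fp_iso_isHomLift _ _ Y
        have hR : 𝒜.p.obj X.obj.fst = R := IsHomLift.domain_eq 𝒜.p f a₁
        have hS : 𝒜.p.obj Y.obj.fst = S := IsHomLift.codomain_eq 𝒜.p f a₁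
        have hX' : (selfOver C).p.IsHomLift (𝟙 R) X.obj.iso.hom := isHomLift_of_eq _ hR _
        have hY' : (selfOver C).p.IsHomLift (𝟙 S) Y.obj.iso.hom := isHomLift_of_eq _ hS _
        have h3 : (selfOver C).p.IsHomLift f ((toSelf 𝒜).toFunctor.map a₁) := inferInstance
        have h4 : (selfOver C).p.IsHomLift f ((toSelf ℬ).toFunctor.map a₂) := inferInstance
        apply selfOver_hom_eq f
        · infer_instance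
        · infer_instance }

@[simp] theorem prFst_map_prdHomMk {X Y : (prd 𝒜 ℬ).obj} {R S : C} (f : R ⟶ S)
    (a₁ : (prFst 𝒜 ℬ).toFunctor.obj X ⟶ (prFst 𝒜 ℬ).toFunctor.obj Y)
    (a₂ : (prSnd 𝒜 ℬ).toFunctor.obj X ⟶ (prSnd 𝒜 ℬ).toFunctor.obj Y)
    (h₁ : 𝒜.p.IsHomLift f a₁) (h₂ : ℬ.p.IsHomLift f a₂) :
    (prFst 𝒜 ℬ).toFunctor.map (prdHomMk f a₁ a₂ h₁ h₂) = a₁ := rfl

@[simp] theorem prSnd_map_prdHomMk {X Y : (prd 𝒜 ℬ).obj} {R S : C} (f : R ⟶ S)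
    (a₁ : (prFst 𝒜 ℬ).toFunctor.obj X ⟶ (prFst 𝒜 ℬ).toFunctor.obj Y)
    (a₂ : (prSnd 𝒜 ℬ).toFunctor.obj X ⟶ (prSnd 𝒜 ℬ).toFunctor.obj Y)
    (h₁ : 𝒜.p.IsHomLift f a₁) (h₂ : ℬ.p.IsHomLift f a₂) :
    (prSnd 𝒜 ℬ).toFunctor.map (prdHomMk f a₁ a₂ h₁ h₂) = a₂ := rfl

/-- Constructor for isomorphisms of `𝒜 ×_C ℬ`. -/
def prdIsoMk {X Y : (prd 𝒜 ℬ).obj} (R : C)
    (a₁ : (prFst 𝒜 ℬ).toFunctor.obj X ≅ (prFst 𝒜 ℬ).toFunctor.obj Y)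
    (a₂ : (prSnd 𝒜 ℬ).toFunctor.obj X ≅ (prSnd 𝒜 ℬ).toFunctor.obj Y)
    (h₁ : 𝒜.p.IsHomLift (𝟙 R) a₁.hom) (h₂ : ℬ.p.IsHomLift (𝟙 R) a₂.hom) : X ≅ Y where
  hom := prdHomMk (𝟙 R) a₁.hom a₂.hom h₁ h₂
  inv := prdHomMk (𝟙 R) a₁.inv a₂.inv (IsHomLift.lift_id_inv _ _ _) (IsHomLift.lift_id_inv _ _ _)
  hom_inv_id := by
    apply prd_hom_ext
    · rw [CategoryTheory.Functor.map_comp, prFst_map_prdHomMk, prFst_map_prdHomMk,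
        CategoryTheory.Functor.map_id]
      exact a₁.hom_inv_id
    · rw [CategoryTheory.Functor.map_comp, prSnd_map_prdHomMk, prSnd_map_prdHomMk,
        CategoryTheory.Functor.map_id]
      exact a₂.hom_inv_id
  inv_hom_id := by
    apply prd_hom_ext
    · rw [CategoryTheory.Functor.map_comp, prFst_map_prdHomMk, prFst_map_prdHomMk,
        CategoryTheory.Functor.map_id]
      exact a₁.inv_hom_id
    · rw [CategoryTheory.Functor.map_comp, prSnd_map_prdHomMk, prSnd_map_prdHomMk,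
        CategoryTheory.Functor.map_id]
      exact a₂.inv_hom_id

theorem prdIsoMk_isHomLift {X Y : (prd 𝒜 ℬ).obj} (R : C)
    (a₁ : (prFst 𝒜 ℬ).toFunctor.obj X ≅ (prFst 𝒜 ℬ).toFunctor.obj Y)
    (a₂ : (prSnd 𝒜 ℬ).toFunctor.obj X ≅ (prSnd 𝒜 ℬ).toFunctor.obj Y)
    (h₁ : 𝒜.p.IsHomLift (𝟙 R) a₁.hom) (h₂ : ℬ.p.IsHomLift (𝟙 R) a₂.hom) :
    (prd 𝒜 ℬ).p.IsHomLift (𝟙 R) (prdIsoMk R a₁ a₂ h₁ h₂).hom := by
  apply fp_lift_to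
  exact h₁

end Basic

section Whisker

variable {𝒲 : BasedCategory.{v₅, u₅} C} {𝒴 : BasedCategory.{v₃, u₃} C}
  {𝒵 : BasedCategory.{v₄, u₄} C}

/-- Right whiskering of a based natural isomorphism. -/
def whiskerRightIso {G G' : 𝒲 ⥤ᵇ 𝒴} (β : G ≅ G') (H : 𝒴 ⥤ᵇ 𝒵) :
    BasedFunctor.comp G H ≅ BasedFunctor.comp G' H :=
  BasedNatIso.mkNatIso
    (NatIso.ofComponents (fun w => H.toFunctor.mapIso (appIso β w))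
      (fun {w w'} m => by
        have := appIso_naturality β m
        change H.toFunctor.map (G.toFunctor.map m) ≫ H.toFunctor.map (appIso β w').hom =
          H.toFunctor.map (appIso β w).hom ≫ H.toFunctor.map (G'.toFunctor.map m)
        rw [← CategoryTheory.Functor.map_comp, this, CategoryTheory.Functor.map_comp]))
    (fun w => by
      have h : 𝒴.p.IsHomLift (𝟙 (𝒲.p.obj w)) (appIso β w).hom := appIso_isHomLift β w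
      change 𝒵.p.IsHomLift (𝟙 (𝒲.p.obj w)) (H.toFunctor.map (appIso β w).hom)
      infer_instance)

theorem appIso_whiskerRightIso {G G' : 𝒲 ⥤ᵇ 𝒴} (β : G ≅ G') (H : 𝒴 ⥤ᵇ 𝒵) (w : 𝒲.obj) :
    (appIso (whiskerRightIso β H) w).hom = H.toFunctor.map (appIso β w).hom := rfl

end Whisker

section ProdMap

variable {𝒲 : BasedCategory.{v₅, u₅} C} {𝒳₁ : BasedCategory.{v₂, u₂} C}
  {𝒳₂ : BasedCategory.{v₃, u₃} C} {𝒴₁ : BasedCategory.{v₄, u₄} C} {𝒴₂ : BasedCategory.{v₆, u₆} C}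
  (f₁ : 𝒳₁ ⥤ᵇ 𝒴₁) (f₂ : 𝒳₂ ⥤ᵇ 𝒴₂)
  (e : BasedFunctor.comp (BasedFunctor.comp (prFst 𝒳₁ 𝒳₂) f₁) (toSelf 𝒴₁) ≅
    BasedFunctor.comp (BasedFunctor.comp (prSnd 𝒳₁ 𝒳₂) f₂) (toSelf 𝒴₂))
  (G : 𝒲 ⥤ᵇ prd 𝒴₁ 𝒴₂)

/-- `f₁ × f₂` (for a choice of the filling 2-isomorphism). -/
abbrev prodMapE : prd 𝒳₁ 𝒳₂ ⥤ᵇ prd 𝒴₁ 𝒴₂ :=
  fpLift (BasedFunctor.comp (prFst 𝒳₁ 𝒳₂) f₁) (BasedFunctor.comp (prSnd 𝒳₁ 𝒳₂) f₂) e

/-- first step of the comparison functor -/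
def stepA : fp G (prodMapE f₁ f₂ e) ⥤ᵇ fp (BasedFunctor.comp G (prFst 𝒴₁ 𝒴₂)) f₁ :=
  fpLift (F := BasedFunctor.comp G (prFst 𝒴₁ 𝒴₂)) (G := f₁) (fpFst G (prodMapE f₁ f₂ e))
    (BasedFunctor.comp (fpSnd G (prodMapE f₁ f₂ e)) (prFst 𝒳₁ 𝒳₂))
    (whiskerRightIso (fpIso G (prodMapE f₁ f₂ e)) (prFst 𝒴₁ 𝒴₂))

/-- The comparison functor
`𝒲 ×_{𝒴₁×𝒴₂} (𝒳₁×𝒳₂) ⟶ (𝒲 ×_{𝒴₁} 𝒳₁) ×_{𝒴₂} 𝒳₂`. -/
def stepB : fp G (prodMapE f₁ f₂ e) ⥤ᵇ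
    fp (BasedFunctor.comp (fpFst (BasedFunctor.comp G (prFst 𝒴₁ 𝒴₂)) f₁)
      (BasedFunctor.comp G (prSnd 𝒴₁ 𝒴₂))) f₂ :=
  fpLift (F := BasedFunctor.comp (fpFst (BasedFunctor.comp G (prFst 𝒴₁ 𝒴₂)) f₁)
      (BasedFunctor.comp G (prSnd 𝒴₁ 𝒴₂))) (G := f₂) (stepA f₁ f₂ e G)
    (BasedFunctor.comp (fpSnd G (prodMapE f₁ f₂ e)) (prSnd 𝒳₁ 𝒳₂))
    (whiskerRightIso (fpIso G (prodMapE f₁ f₂ e)) (prSnd 𝒴₁ 𝒴₂))

instance stepB_faithful : (stepB f₁ f₂ e G).toFunctor.Faithful where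
  map_injective {t t'} m m' h := by
    have h0 : m.hom.fst = m'.hom.fst := congrArg (fun k => k.hom.fst.hom.fst) h
    have h1 : (prFst 𝒳₁ 𝒳₂).toFunctor.map m.hom.snd = (prFst 𝒳₁ 𝒳₂).toFunctor.map m'.hom.snd :=
      congrArg (fun k => k.hom.fst.hom.snd) h
    have h2 : (prSnd 𝒳₁ 𝒳₂).toFunctor.map m.hom.snd = (prSnd 𝒳₁ 𝒳₂).toFunctor.map m'.hom.snd :=
      congrArg (fun k => k.hom.snd) h
    apply ObjectProperty.hom_ext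
    apply CategoricalPullback.hom_ext
    · exact h0
    · exact prd_hom_ext h1 h2

instance stepB_full : (stepB f₁ f₂ e G).toFunctor.Full where
  map_surjective {t t'} n := by
    let G₁ := BasedFunctor.comp G (prFst 𝒴₁ 𝒴₂)
    let G₂ := BasedFunctor.comp G (prSnd 𝒴₁ 𝒴₂)
    let nA : (stepA f₁ f₂ e G).toFunctor.obj t ⟶ (stepA f₁ f₂ e G).toFunctor.obj t' := n.hom.fst
    let n₀ : t.obj.fst ⟶ t'.obj.fst := nA.hom.fst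
    let n₁ : (prFst 𝒳₁ 𝒳₂).toFunctor.obj t.obj.snd ⟶ (prFst 𝒳₁ 𝒳₂).toFunctor.obj t'.obj.snd :=
      nA.hom.snd
    let n₂ : (prSnd 𝒳₁ 𝒳₂).toFunctor.obj t.obj.snd ⟶ (prSnd 𝒳₁ 𝒳₂).toFunctor.obj t'.obj.snd :=
      n.hom.snd
    have hn₁ : 𝒳₁.p.IsHomLift (𝒲.p.map n₀) n₁ := fp_isHomLift_snd G₁ f₁ nA
    have hn₂ : 𝒳₂.p.IsHomLift (𝒲.p.map n₀) n₂ :=
      fp_isHomLift_snd (BasedFunctor.comp (fpFst G₁ f₁) G₂) f₂ n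
    have w₁ : G₁.toFunctor.map n₀ ≫ (prFst 𝒴₁ 𝒴₂).toFunctor.map t'.obj.iso.hom =
        (prFst 𝒴₁ 𝒴₂).toFunctor.map t.obj.iso.hom ≫ f₁.toFunctor.map n₁ := nA.hom.w
    have w₂ : G₂.toFunctor.map n₀ ≫ (prSnd 𝒴₁ 𝒴₂).toFunctor.map t'.obj.iso.hom =
        (prSnd 𝒴₁ 𝒴₂).toFunctor.map t.obj.iso.hom ≫ f₂.toFunctor.map n₂ := n.hom.w
    let mp : t.obj.snd ⟶ t'.obj.snd := prdHomMk (𝒲.p.map n₀) n₁ n₂ hn₁ hn₂
    refine ⟨ObjectProperty.homMk ⟨n₀, mp, ?_⟩, ?_⟩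
    · apply prd_hom_ext
      · rw [CategoryTheory.Functor.map_comp, CategoryTheory.Functor.map_comp]
        exact w₁
      · rw [CategoryTheory.Functor.map_comp, CategoryTheory.Functor.map_comp]
        exact w₂
    · apply ObjectProperty.hom_ext
      apply CategoricalPullback.hom_ext
      · apply ObjectProperty.hom_ext
        apply CategoricalPullback.hom_ext <;> rfl
      · rfl

theorem stepB_isEquivOver : IsEquivOver (stepB f₁ f₂ e G) := by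
  apply isEquivOver_of
  intro η
  let G₁ := BasedFunctor.comp G (prFst 𝒴₁ 𝒴₂)
  let G₂ := BasedFunctor.comp G (prSnd 𝒴₁ 𝒴₂)
  let η₁ : (fp G₁ f₁).obj := η.obj.fst
  let w : 𝒲.obj := η₁.obj.fst
  let x₁ : 𝒳₁.obj := η₁.obj.snd
  let x₂ : 𝒳₂.obj := η.obj.snd
  let φ₁ : G₁.toFunctor.obj w ≅ f₁.toFunctor.obj x₁ := η₁.obj.iso
  let φ₂ : G₂.toFunctor.obj w ≅ f₂.toFunctor.obj x₂ := η.obj.iso
  have hφ₁ : 𝒴₁.p.IsHomLift (𝟙 (𝒲.p.obj w)) φ₁.hom := fp_iso_isHomLift G₁ f₁ η₁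
  have hφ₂ : 𝒴₂.p.IsHomLift (𝟙 (𝒲.p.obj w)) φ₂.hom :=
    fp_iso_isHomLift (BasedFunctor.comp (fpFst G₁ f₁) G₂) f₂ η
  have hx₁ : 𝒳₁.p.obj x₁ = 𝒲.p.obj w := fp_snd_obj G₁ f₁ η₁
  have hx₂ : 𝒳₂.p.obj x₂ = 𝒲.p.obj w := fp_snd_obj (BasedFunctor.comp (fpFst G₁ f₁) G₂) f₂ η
  let p : (prd 𝒳₁ 𝒳₂).obj := prdObjMk x₁ x₂ (hx₁.trans hx₂.symm)
  let φ : G.toFunctor.obj w ≅ (prodMapE f₁ f₂ e).toFunctor.obj p :=
    prdIsoMk (𝒲.p.obj w) φ₁ φ₂ hφ₁ hφ₂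
  have hφ : (prd 𝒴₁ 𝒴₂).p.IsHomLift (𝟙 (𝒲.p.obj w)) φ.hom :=
    prdIsoMk_isHomLift (X := G.toFunctor.obj w) (Y := (prodMapE f₁ f₂ e).toFunctor.obj p)
      (𝒲.p.obj w) φ₁ φ₂ hφ₁ hφ₂
  let ξ : (fp G (prodMapE f₁ f₂ e)).obj := ⟨⟨w, p, φ⟩, hφ⟩
  have h1 : (prFst 𝒴₁ 𝒴₂).toFunctor.map φ.hom = φ₁.hom := rfl
  have h2 : (prSnd 𝒴₁ 𝒴₂).toFunctor.map φ.hom = φ₂.hom := rfl
  have c₁ : G₁.toFunctor.map (𝟙 w) ≫ φ₁.hom = φ₁.hom ≫ f₁.toFunctor.map (𝟙 x₁) := by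
    rw [CategoryTheory.Functor.map_id, CategoryTheory.Functor.map_id, Category.id_comp,
      Category.comp_id]
  have c₂ : G₂.toFunctor.map (𝟙 w) ≫ φ₂.hom = φ₂.hom ≫ f₂.toFunctor.map (𝟙 x₂) := by
    rw [CategoryTheory.Functor.map_id, CategoryTheory.Functor.map_id, Category.id_comp,
      Category.comp_id]
  let ζ : CategoricalPullback G₁.toFunctor f₁.toFunctor :=
    ⟨w, x₁, (prFst 𝒴₁ 𝒴₂).toFunctor.mapIso φ⟩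
  have hζ : ((stepA f₁ f₂ e G).toFunctor.obj ξ).obj = ζ := rfl
  let eA0 : ζ ≅ η₁.obj := CategoricalPullback.mkIso (Iso.refl w) (Iso.refl x₁) c₁
  let eA : (stepA f₁ f₂ e G).toFunctor.obj ξ ≅ η₁ := ObjectProperty.isoMk _ eA0
  have heA : ((fpFst G₁ f₁).toFunctor.map eA.hom) = 𝟙 w := rfl
  let ζ' : CategoricalPullback (BasedFunctor.comp (fpFst G₁ f₁) G₂).toFunctor f₂.toFunctor :=
    ⟨(stepA f₁ f₂ e G).toFunctor.obj ξ, x₂, (prSnd 𝒴₁ 𝒴₂).toFunctor.mapIso φ⟩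
  have hζ' : ((stepB f₁ f₂ e G).toFunctor.obj ξ).obj = ζ' := rfl
  let e0 : ζ' ≅ η.obj := CategoricalPullback.mkIso eA (Iso.refl x₂) c₂
  refine ⟨ξ, ObjectProperty.isoMk _ e0, ?_⟩
  apply fp_lift_to
  apply fp_lift_to
  exact (inferInstance : 𝒲.p.IsHomLift (𝟙 (𝒲.p.obj w)) (𝟙 w))

end ProdMap

section ProdEquiv

variable {𝒳₁ : BasedCategory.{v₂, u₂} C}
  {𝒳₂ : BasedCategory.{v₃, u₃} C} {𝒴₁ : BasedCategory.{v₄, u₄} C} {𝒴₂ : BasedCategory.{v₆, u₆} C}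
  (f₁ : 𝒳₁ ⥤ᵇ 𝒴₁) (f₂ : 𝒳₂ ⥤ᵇ 𝒴₂)
  (e : BasedFunctor.comp (BasedFunctor.comp (prFst 𝒳₁ 𝒳₂) f₁) (toSelf 𝒴₁) ≅
    BasedFunctor.comp (BasedFunctor.comp (prSnd 𝒳₁ 𝒳₂) f₂) (toSelf 𝒴₂))

/-- the canonical filling 2-isomorphism -/
def canIso : BasedFunctor.comp (BasedFunctor.comp (prFst 𝒳₁ 𝒳₂) f₁) (toSelf 𝒴₁) ≅
    BasedFunctor.comp (BasedFunctor.comp (prSnd 𝒳₁ 𝒳₂) f₂) (toSelf 𝒴₂) :=
  eqToIso (toSelf_unique _ _)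

instance prodMapE_faithful [f₁.toFunctor.Faithful] [f₂.toFunctor.Faithful] :
    (prodMapE f₁ f₂ e).toFunctor.Faithful where
  map_injective {t t'} m m' h := by
    have h1 : f₁.toFunctor.map ((prFst 𝒳₁ 𝒳₂).toFunctor.map m) =
        f₁.toFunctor.map ((prFst 𝒳₁ 𝒳₂).toFunctor.map m') := congrArg (fun k => k.hom.fst) h
    have h2 : f₂.toFunctor.map ((prSnd 𝒳₁ 𝒳₂).toFunctor.map m) =
        f₂.toFunctor.map ((prSnd 𝒳₁ 𝒳₂).toFunctor.map m') := congrArg (fun k => k.hom.snd) h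
    exact prd_hom_ext (f₁.toFunctor.map_injective h1) (f₂.toFunctor.map_injective h2)

instance prodMapE_full [f₁.toFunctor.Full] [f₂.toFunctor.Full] :
    (prodMapE f₁ f₂ e).toFunctor.Full where
  map_surjective {t t'} n := by
    let n₁ : f₁.toFunctor.obj t.obj.fst ⟶ f₁.toFunctor.obj t'.obj.fst := n.hom.fst
    let n₂ : f₂.toFunctor.obj t.obj.snd ⟶ f₂.toFunctor.obj t'.obj.snd := n.hom.snd
    have hn₂ : 𝒴₂.p.IsHomLift (𝒴₁.p.map n₁) n₂ := fp_isHomLift_snd (toSelf 𝒴₁) (toSelf 𝒴₂) n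
    obtain ⟨m₁, hm₁⟩ := f₁.toFunctor.map_surjective n₁
    obtain ⟨m₂, hm₂⟩ := f₂.toFunctor.map_surjective n₂
    have h1 : 𝒴₁.p.IsHomLift (𝒴₁.p.map n₁) (f₁.toFunctor.map m₁) := by rw [hm₁]; infer_instance
    have h2 : 𝒴₂.p.IsHomLift (𝒴₁.p.map n₁) (f₂.toFunctor.map m₂) := by rw [hm₂]; exact hn₂
    have h3 : 𝒳₁.p.IsHomLift (𝒴₁.p.map n₁) m₁ := f₁.isHomLift_map _ _
    have h4 : 𝒳₂.p.IsHomLift (𝒴₁.p.map n₁) m₂ := f₂.isHomLift_map _ _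
    refine ⟨prdHomMk (𝒴₁.p.map n₁) m₁ m₂ h3 h4, ?_⟩
    apply prd_hom_ext
    · exact hm₁
    · exact hm₂

theorem prodMapE_isEquivOver (h₁ : IsEquivOver f₁) (h₂ : IsEquivOver f₂) :
    IsEquivOver (prodMapE f₁ f₂ e) := by
  obtain ⟨⟨full₁, faith₁⟩, ess₁⟩ := of_isEquivOver f₁ h₁
  obtain ⟨⟨full₂, faith₂⟩, ess₂⟩ := of_isEquivOver f₂ h₂
  apply isEquivOver_of
  intro η
  let y₁ : 𝒴₁.obj := η.obj.fst
  let y₂ : 𝒴₂.obj := η.obj.snd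
  have hy : 𝒴₂.p.obj y₂ = 𝒴₁.p.obj y₁ := fp_snd_obj (toSelf 𝒴₁) (toSelf 𝒴₂) η
  obtain ⟨x₁, ε₁, hε₁⟩ := ess₁ y₁
  obtain ⟨x₂, ε₂, hε₂⟩ := ess₂ y₂
  have hε₂' : 𝒴₂.p.IsHomLift (𝟙 (𝒴₁.p.obj y₁)) ε₂.hom := isHomLift_of_eq 𝒴₂.p hy _
  have hx₁ : 𝒳₁.p.obj x₁ = 𝒴₁.p.obj y₁ :=
    (f₁.w_obj x₁).symm.trans (IsHomLift.domain_eq 𝒴₁.p (𝟙 (𝒴₁.p.obj y₁)) ε₁.hom)
  have hx₂ : 𝒳₂.p.obj x₂ = 𝒴₁.p.obj y₁ :=
    (f₂.w_obj x₂).symm.trans (IsHomLift.domain_eq 𝒴₂.p (𝟙 (𝒴₁.p.obj y₁)) ε₂.hom)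
  let p : (prd 𝒳₁ 𝒳₂).obj := prdObjMk x₁ x₂ (hx₁.trans hx₂.symm)
  refine ⟨p, prdIsoMk (X := (prodMapE f₁ f₂ e).toFunctor.obj p) (Y := η) (𝒴₁.p.obj y₁) ε₁ ε₂
    hε₁ hε₂', ?_⟩
  exact prdIsoMk_isHomLift (X := (prodMapE f₁ f₂ e).toFunctor.obj p) (Y := η) (𝒴₁.p.obj y₁) ε₁ ε₂
    hε₁ hε₂'

end ProdEquiv

section DiagSquare

variable {𝒳 : BasedCategory.{v₂, u₂} C} {𝒴 : BasedCategory.{v₄, u₄} C} (f : 𝒳 ⥤ᵇ 𝒴)
  (e : BasedFunctor.comp (BasedFunctor.comp (prFst 𝒳 𝒳) f) (toSelf 𝒴) ≅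
    BasedFunctor.comp (BasedFunctor.comp (prSnd 𝒳 𝒳) f) (toSelf 𝒴))

/-- the diagonal commutes with `f × f` -/
def diagSquare : BasedFunctor.comp (FibCat.diag (toSelf 𝒳)) (prodMapE f f e) ≅
    BasedFunctor.comp f (FibCat.diag (toSelf 𝒴)) :=
  BasedNatIso.mkNatIso
    (NatIso.ofComponents
      (fun x => prdIsoMk
        (X := (BasedFunctor.comp (FibCat.diag (toSelf 𝒳)) (prodMapE f f e)).toFunctor.obj x)
        (Y := (BasedFunctor.comp f (FibCat.diag (toSelf 𝒴))).toFunctor.obj x)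
        (𝒳.p.obj x) (Iso.refl (f.toFunctor.obj x)) (Iso.refl (f.toFunctor.obj x))
        (IsHomLift.id (f.w_obj x)) (IsHomLift.id (f.w_obj x)))
      (fun {x x'} m => by
        apply prd_hom_ext
        · rw [CategoryTheory.Functor.map_comp, CategoryTheory.Functor.map_comp]
          change f.toFunctor.map m ≫ 𝟙 _ = 𝟙 _ ≫ f.toFunctor.map m
          rw [Category.comp_id, Category.id_comp]
        · rw [CategoryTheory.Functor.map_comp, CategoryTheory.Functor.map_comp]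
          change f.toFunctor.map m ≫ 𝟙 _ = 𝟙 _ ≫ f.toFunctor.map m
          rw [Category.comp_id, Category.id_comp]))
    (fun x => prdIsoMk_isHomLift
        (X := (BasedFunctor.comp (FibCat.diag (toSelf 𝒳)) (prodMapE f f e)).toFunctor.obj x)
        (Y := (BasedFunctor.comp f (FibCat.diag (toSelf 𝒴))).toFunctor.obj x)
        (𝒳.p.obj x) (Iso.refl (f.toFunctor.obj x)) (Iso.refl (f.toFunctor.obj x))
        (IsHomLift.id (f.w_obj x)) (IsHomLift.id (f.w_obj x)))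

end DiagSquare

end Groth.Agent.Lib.helper4.FibProd
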