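import Groth.Agent.Lib.Helper4.AlgStRep
import Groth.Agent.Lib.Helper4.FibProd
import Groth.Agent.StkLib
set_option autoImplicit false
set_option backward.isDefEq.respectTransparency false
set_option backward.isDefEq.respectTransparency.types false
open CategoryTheory CategoryTheory.Functor CategoryTheory.Limits AlgebraicGeometry
universe u

namespace Groth.Agent.Lib.helper4.AlgStEquiv
open Groth.Agent.FibEquiv Groth.Agent.Lib.helper4.FibPaste Groth.Agent.Lib.helper4.FibProd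
open Groth.Agent.Lib.helper4.AlgStRep FibCat

variable {S : Scheme.{u}}

/-- General form of S12782 (no fibred-in-groupoids hypotheses). -/
theorem repByAlgSpWith_iff_of_square {𝒳 𝒴 𝒳' 𝒴' : AlgSt.Cat S}
    (P : MorphismProperty (AlgSp.Sp S)) (f : 𝒳 ⥤ᵇ 𝒴) (f' : 𝒳' ⥤ᵇ 𝒴') (a : 𝒳' ⥤ᵇ 𝒳) (b : 𝒴' ⥤ᵇ 𝒴)
    (ha : IsEquivOver a) (hb : IsEquivOver b)
    (e : BasedFunctor.comp f' b ≅ BasedFunctor.comp a f) :
    AlgSt.RepByAlgSpWith P f ↔ AlgSt.RepByAlgSpWith P f' := by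
  constructor
  · intro hf U y'
    exact (repData_transfer P
      (fpMap y' (BasedFunctor.comp y' b) f' f a b (Iso.refl _) e)
      (fpMap_isEquivOver y' (BasedFunctor.comp y' b) f' f a b (Iso.refl _) e ha hb)
      (fpFst y' f') (fpFst (BasedFunctor.comp y' b) f)
      (Iso.refl _)).mpr (hf U (BasedFunctor.comp y' b))
  · intro hf' U y
    obtain ⟨binv, ⟨α⟩, ⟨β⟩⟩ := hb
    have hb' : IsEquivOver b := ⟨binv, ⟨α⟩, ⟨β⟩⟩
    exact (repData_transfer P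
      (fpMap (BasedFunctor.comp y binv) y f' f a b (whiskerLeftIso y β) e)
      (fpMap_isEquivOver (BasedFunctor.comp y binv) y f' f a b (whiskerLeftIso y β) e ha hb')
      (fpFst (BasedFunctor.comp y binv) f') (fpFst y f)
      (Iso.refl _)).mp (hf' U (BasedFunctor.comp y binv))

theorem repByAlgSp1_iff_top {𝒳 𝒴 : AlgSt.Cat S} (f : 𝒳 ⥤ᵇ 𝒴) :
    AlgSt.RepByAlgSp1 f ↔ AlgSt.RepByAlgSpWith ⊤ f := by
  constructor
  · intro h U y
    obtain ⟨F, e, he⟩ := h U y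
    exact ⟨F, e, he, trivial⟩
  · intro h U y
    obtain ⟨F, e, he, -⟩ := h U y
    exact ⟨F, e, he⟩

theorem isEquivOver_id (𝒳 : AlgSt.Cat S) : IsEquivOver (BasedFunctor.id 𝒳) :=
  ⟨BasedFunctor.id 𝒳, ⟨Iso.refl _⟩, ⟨Iso.refl _⟩⟩

theorem hasAtlas_of_isEquivOver {𝒳 𝒴 : AlgSt.Cat S} (e : 𝒳 ⥤ᵇ 𝒴) (he : IsEquivOver e)
    (P : MorphismProperty (AlgSp.Sp S)) (h : AlgSt.HasAtlas P 𝒳) : AlgSt.HasAtlas P 𝒴 := by
  obtain ⟨U, x, h1, h2⟩ := h
  refine ⟨U, BasedFunctor.comp x e, ?_, ?_⟩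
  · exact (repByAlgSpWith_iff_of_square P (BasedFunctor.comp x e) x (BasedFunctor.id _) e
      (isEquivOver_id _) he (Iso.refl _)).mpr h1
  · exact (repByAlgSpWith_iff_of_square _ (BasedFunctor.comp x e) x (BasedFunctor.id _) e
      (isEquivOver_id _) he (Iso.refl _)).mpr h2

theorem isAlgStack_of_isEquivOver {𝒳 𝒴 : AlgSt.Cat S} (K : Precoverage Scheme.{u}) (e : 𝒳 ⥤ᵇ 𝒴)
    (he : IsEquivOver e) (h : AlgSt.IsAlgStack K 𝒳) : AlgSt.IsAlgStack K 𝒴 where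
  isStack := (Groth.Agent.StkLib.isStack_iff_of_isEquivOver _ e he).mp h.isStack
  diag := by
    rw [repByAlgSp1_iff_top]
    have h1 := (repByAlgSp1_iff_top _).mp h.diag
    exact (repByAlgSpWith_iff_of_square ⊤ (FibCat.diag (toSelf 𝒴)) (FibCat.diag (toSelf 𝒳)) e
      (prodMapE e e (canIso e e)) he (prodMapE_isEquivOver e e (canIso e e) he he)
      (diagSquare e (canIso e e))).mpr h1
  atlas := hasAtlas_of_isEquivOver e he _ h.atlas

theorem isAlgStack_iff_of_isEquivOver {𝒳 𝒴 : AlgSt.Cat S} (K : Precoverage Scheme.{u}) (e : 𝒳 ⥤ᵇ 𝒴)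
    (he : IsEquivOver e) : AlgSt.IsAlgStack K 𝒳 ↔ AlgSt.IsAlgStack K 𝒴 := by
  refine ⟨isAlgStack_of_isEquivOver K e he, ?_⟩
  obtain ⟨einv, ⟨α⟩, ⟨β⟩⟩ := he
  exact isAlgStack_of_isEquivOver K einv (isEquivOver_symm α β)

theorem isDM_iff_of_isEquivOver {𝒳 𝒴 : AlgSt.Cat S} (K : Precoverage Scheme.{u}) (e : 𝒳 ⥤ᵇ 𝒴)
    (he : IsEquivOver e) : AlgSt.IsDM K 𝒳 ↔ AlgSt.IsDM K 𝒴 := by
  unfold AlgSt.IsDM
  rw [isAlgStack_iff_of_isEquivOver K e he]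
  refine and_congr_right fun _ => ⟨hasAtlas_of_isEquivOver e he _, ?_⟩
  obtain ⟨einv, ⟨α⟩, ⟨β⟩⟩ := he
  exact hasAtlas_of_isEquivOver einv (isEquivOver_symm α β) _

end Groth.Agent.Lib.helper4.AlgStEquiv
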