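import Groth.Agent.Lib.Helper4.PshRep
import Groth.Agent.Lib.Helper4.AlgStEquiv
import Groth.Agent.Lib.Helper1.AlgSpBootstrap
set_option autoImplicit false
set_option backward.isDefEq.respectTransparency false
set_option backward.isDefEq.respectTransparency.types false
set_option linter.unusedSectionVars false
set_option linter.style.haveILetI false
open CategoryTheory CategoryTheory.Functor CategoryTheory.Limits Opposite AlgebraicGeometry
universe u

/-! Representability by algebraic spaces: consequences of the dictionary and of the bootstrap theorem. -/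

namespace Groth.Agent.Lib.helper4.PshRep
open Groth.Agent.FibEquiv Groth.Agent.FibYoneda Groth.Agent.FibFpProj Stk FibCat
open Groth.Agent.Lib.helper4.Descent Groth.Agent.Lib.helper4.PshDict Groth.Agent.Lib.helper4.FibPaste
open Groth.Agent.Lib.helper4.AlgStEquiv Groth.Agent.H1.AlgSpBootstrap

variable {S : Scheme.{u}}

/-- `Q` is insensitive to precomposing a morphism to a scheme with an isomorphism of algebraic spaces -/
def IsoInv (Q : MorphismProperty (AlgSp.Sp S)) : Prop :=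
  ∀ {A B : AlgSp.Sp S} {U : Over S} (j : A ≅ B) (s : B ⟶ (AlgSp.yon S).obj U), AlgSp.IsAlgSpace A →
    AlgSp.IsAlgSpace B → Q (j.hom ≫ s) → Q s

theorem isoInv_of_respectsIso (Q : MorphismProperty (AlgSp.Sp S)) [Q.RespectsIso] : IsoInv Q :=
  fun j s _ _ h => (Q.cancel_left_of_respectsIso j.hom s).1 h

theorem repBySpWith_of_repByAlgSpWith (Q : MorphismProperty (AlgSp.Sp S)) (hQ : IsoInv Q)
    {F G : AlgSp.PSp S} (a : F ⟶ G) (h : AlgSt.RepByAlgSpWith Q (Stk.ofPshMap a)) : AlgSp.RepBySpWith Q a := by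
  intro U ξ F' fst snd sq
  exact rep_of_fp a (BasedFunctor.comp (toYon.{u + 1} U) (ofPshMap ξ)) ξ Q (fun j s => hQ j s) (Iso.refl _) sq (h U _)

theorem repByAlgSpWith_of_repBySpWith (Q : MorphismProperty (AlgSp.Sp S))
    {F G : AlgSp.PSp S} (a : F ⟶ G) (h : AlgSp.RepBySpWith Q a) : AlgSt.RepByAlgSpWith Q (Stk.ofPshMap a) := by
  intro U y
  let ξ : (AlgSp.pyon S).obj U ⟶ G := yonMap.{u + 1} (secOf y (Over.mk (𝟙 U)))
  have sq : IsPullback (Limits.pullback.fst a ξ) (Limits.pullback.snd a ξ) a ξ := IsPullback.of_hasPullback a ξ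
  exact fp_of_rep a y ξ Q (isoYon y) sq (h ξ _ _ sq)

/-- S12778 as a library lemma -/
theorem repByAlgSpWith_ofPshMap_iff (Q : MorphismProperty (AlgSp.Sp S)) [Q.RespectsIso]
    {F G : AlgSp.PSp S} (a : F ⟶ G) :
    AlgSt.RepByAlgSpWith Q (Stk.ofPshMap a) ↔ AlgSp.RepBySpWith Q a :=
  ⟨repBySpWith_of_repByAlgSpWith Q (isoInv_of_respectsIso Q) a, repByAlgSpWith_of_repBySpWith Q a⟩

/-- S12777 as a library lemma -/
theorem repByAlgSp1_ofPshMap_iff {F G : AlgSp.PSp S} (a : F ⟶ G) :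
    AlgSt.RepByAlgSp1 (Stk.ofPshMap a) ↔ AlgSp.RepBySp a := by
  constructor
  · intro h U ξ F' fst snd sq
    obtain ⟨F'', e, he⟩ := h U (BasedFunctor.comp (toYon.{u + 1} U) (ofPshMap ξ))
    obtain ⟨hs, hA, -⟩ := (rep_iff a (BasedFunctor.comp (toYon.{u + 1} U) (ofPshMap ξ)) ξ ⊤ (Iso.refl _) sq).1
      ⟨F'', e, he, trivial⟩
    exact ⟨hs, hA⟩
  · intro h U y
    let ξ : (AlgSp.pyon S).obj U ⟶ G := yonMap.{u + 1} (secOf y (Over.mk (𝟙 U)))
    have sq : IsPullback (Limits.pullback.fst a ξ) (Limits.pullback.snd a ξ) a ξ := IsPullback.of_hasPullback a ξ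
    obtain ⟨hs, hA⟩ := h ξ _ _ sq
    obtain ⟨F', e, he, -⟩ := (rep_iff a y ξ ⊤ (isoYon y) sq).2 ⟨hs, hA, trivial⟩
    exact ⟨F', e, he⟩

/-- every map between algebraic spaces is representable by algebraic spaces -/
theorem repBySp_of_isAlgSpaceP {X Y : AlgSp.PSp S} (hX : AlgSp.IsAlgSpaceP X) (hY : AlgSp.IsAlgSpaceP Y)
    (a : X ⟶ Y) : AlgSp.RepBySp a := by
  intro U ξ F' fst snd sq
  have hξ : AlgSp.RepBySp ξ := repBySp_of_diag (repBySp_diag_of_isAlgSpaceP hY) ξ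
  exact isAlgSpaceP_of_isPullback hξ hX sq

/-- the 2-commutative square comparing `f` with the functor of its map of presheaves -/
def pshMapOfSquare {𝒳 𝒴 : AlgSt.Cat S} (f : 𝒳 ⥤ᵇ 𝒴) {X Y : AlgSp.PSp S}
    (eX : ofPsh X ⥤ᵇ 𝒳) (eY : ofPsh Y ⥤ᵇ 𝒴) (eYi : 𝒴 ⥤ᵇ ofPsh Y)
    (β : BasedFunctor.comp eYi eY ≅ BasedFunctor.id 𝒴) :
    BasedFunctor.comp (ofPshMap (pshMapOf (BasedFunctor.comp (BasedFunctor.comp eX f) eYi))) eY ≅
      BasedFunctor.comp eX f :=
  let i1 : BasedFunctor.comp (ofPshMap (pshMapOf (BasedFunctor.comp (BasedFunctor.comp eX f) eYi))) eY ≅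
      BasedFunctor.comp (BasedFunctor.comp (BasedFunctor.comp eX f) eYi) eY :=
    Groth.Agent.Lib.helper4.AlgStRep.whiskerRightIso (isoOfPshMap _).symm eY
  let i2 : BasedFunctor.comp (BasedFunctor.comp eX f) (BasedFunctor.comp eYi eY) ≅
      BasedFunctor.comp (BasedFunctor.comp eX f) (BasedFunctor.id 𝒴) :=
    whiskerLeftIso _ β
  i1 ≪≫ i2

/-- transfer of `RepByAlgSpWith` to the map of presheaves, weak hypothesis on `Q` -/
theorem repBySpWith_pshMapOf (Q : MorphismProperty (AlgSp.Sp S)) (hQ : IsoInv Q)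
    {𝒳 𝒴 : AlgSt.Cat S} (f : 𝒳 ⥤ᵇ 𝒴) {X Y : AlgSp.PSp S}
    (eX : ofPsh X ⥤ᵇ 𝒳) (heX : IsEquivOver eX) (eY : ofPsh Y ⥤ᵇ 𝒴) (eYi : 𝒴 ⥤ᵇ ofPsh Y)
    (β : BasedFunctor.comp eYi eY ≅ BasedFunctor.id 𝒴) (heY : IsEquivOver eY)
    (h : AlgSt.RepByAlgSpWith Q f) :
    AlgSp.RepBySpWith Q (pshMapOf (BasedFunctor.comp (BasedFunctor.comp eX f) eYi)) :=
  repBySpWith_of_repByAlgSpWith Q hQ _
    ((repByAlgSpWith_iff_of_square Q f _ eX eY heX heY (pshMapOfSquare f eX eY eYi β)).1 h)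

/-- every functor over the base is, between categories of presheaves, the functor of a map, compatibly with
equivalences: the general transfer of `RepByAlgSpWith` to the map of presheaves -/
theorem repByAlgSpWith_iff_pshMapOf (Q : MorphismProperty (AlgSp.Sp S)) [Q.RespectsIso]
    {𝒳 𝒴 : AlgSt.Cat S} (f : 𝒳 ⥤ᵇ 𝒴) {X Y : AlgSp.PSp S}
    (eX : ofPsh X ⥤ᵇ 𝒳) (heX : IsEquivOver eX) (eY : ofPsh Y ⥤ᵇ 𝒴) (eYi : 𝒴 ⥤ᵇ ofPsh Y)
    (β : BasedFunctor.comp eYi eY ≅ BasedFunctor.id 𝒴) (heY : IsEquivOver eY) :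
    AlgSt.RepByAlgSpWith Q f ↔
      AlgSp.RepBySpWith Q (pshMapOf (BasedFunctor.comp (BasedFunctor.comp eX f) eYi)) := by
  rw [← repByAlgSpWith_ofPshMap_iff]
  exact repByAlgSpWith_iff_of_square Q f _ eX eY heX heY (pshMapOfSquare f eX eY eYi β)

end Groth.Agent.Lib.helper4.PshRep
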