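import Groth.Agent.Lib.Helper4.AlgStCoreA
import Groth.Agent.Lib.Helper4.FibRep
import Groth.Agent.S12775
set_option autoImplicit false
set_option backward.isDefEq.respectTransparency false
set_option backward.isDefEq.respectTransparency.types false
set_option linter.unusedSectionVars false
set_option linter.style.haveILetI false
open CategoryTheory CategoryTheory.Functor CategoryTheory.Limits Opposite AlgebraicGeometry
universe v₃ u₃ v₂ u₂ v u₀ u

/-! The diagonal of a category fibred in groupoids is representable by algebraic spaces iff all maps from schemes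
are. -/

namespace Groth.Agent.Lib.helper4.AlgStDiag
open Groth.Agent.FibEquiv Groth.Agent.FibYoneda Groth.Agent.FibFpProj Stk FibCat
open Groth.Agent.Lib.helper4.FibPaste Groth.Agent.Lib.helper4.FibRep

section General

variable {C : Type u₀} [Category.{v} C] {𝒮 : BasedCategory.{v₂, u₂} C} {𝒲 : BasedCategory.{v₃, u₃} C}

/-- two functors to `𝒮 ×_C 𝒮` with 2-isomorphic projections are 2-isomorphic -/
def sqFunctorIso (A B : 𝒲 ⥤ᵇ sq 𝒮)
    (α₁ : BasedFunctor.comp A (sqFst 𝒮) ≅ BasedFunctor.comp B (sqFst 𝒮))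
    (α₂ : BasedFunctor.comp A (sqSnd 𝒮) ≅ BasedFunctor.comp B (sqSnd 𝒮)) : A ≅ B :=
  BasedNatIso.mkNatIso
    (NatIso.ofComponents
      (fun w => sqIsoMk (𝒲.p.obj w) (appIso α₁ w) (appIso α₂ w) (appIso_isHomLift α₁ w) (appIso_isHomLift α₂ w))
      (fun {w w'} m => by
        apply sq_hom_ext
        · rw [CategoryTheory.Functor.map_comp, CategoryTheory.Functor.map_comp]
          exact appIso_naturality α₁ m
        · rw [CategoryTheory.Functor.map_comp, CategoryTheory.Functor.map_comp]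
          exact appIso_naturality α₂ m))
    (fun w => by
      apply fp_lift_to
      exact appIso_isHomLift α₁ w)

variable [HasBinaryProducts C]

/-- the diagonal `C/T ⟶ C/(T × T)` -/
noncomputable def diagOver (T : C) : overCat T ⥤ᵇ overCat (T ⨯ T) := ⟨Over.map (Limits.diag T), Over.mapForget_eq _⟩

/-- `pr₁ ∘ Δ = id` -/
noncomputable def diagOverFst (T : C) :
    BasedFunctor.id (overCat T) ≅ BasedFunctor.comp (diagOver T) (prj₁ T T) :=
  BasedNatIso.mkNatIso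
    (NatIso.ofComponents
      (fun t => Over.isoMk (Iso.refl t.left)
        (show 𝟙 t.left ≫ ((t.hom ≫ Limits.diag T) ≫ prod.fst) = t.hom by simp))
      (fun {t t'} m => by
        apply Over.OverMorphism.ext
        change m.left ≫ 𝟙 _ = 𝟙 _ ≫ m.left
        simp))
    (fun t => IsHomLift.of_fac' _ _ _ rfl rfl (by
      change 𝟙 t.left = eqToHom rfl ≫ 𝟙 _ ≫ eqToHom rfl
      simp))

/-- `pr₂ ∘ Δ = id` -/
noncomputable def diagOverSnd (T : C) :
    BasedFunctor.id (overCat T) ≅ BasedFunctor.comp (diagOver T) (prj₂ T T) :=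
  BasedNatIso.mkNatIso
    (NatIso.ofComponents
      (fun t => Over.isoMk (Iso.refl t.left)
        (show 𝟙 t.left ≫ ((t.hom ≫ Limits.diag T) ≫ prod.snd) = t.hom by simp))
      (fun {t t'} m => by
        apply Over.OverMorphism.ext
        change m.left ≫ 𝟙 _ = 𝟙 _ ≫ m.left
        simp))
    (fun t => IsHomLift.of_fac' _ _ _ rfl rfl (by
      change 𝟙 t.left = eqToHom rfl ≫ 𝟙 _ ≫ eqToHom rfl
      simp))

/-- every functor `C/T ⟶ 𝒮 ×_C 𝒮` factors through the diagonal of `T` -/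
noncomputable def factorIso {T : C} (K : overCat T ⥤ᵇ sq 𝒮) :
    K ≅ BasedFunctor.comp (diagOver T)
      (pairK (BasedFunctor.comp K (sqFst 𝒮)) (BasedFunctor.comp K (sqSnd 𝒮))) :=
  sqFunctorIso _ _
    (Groth.Agent.Lib.helper4.AlgStRep.whiskerRightIso (diagOverFst T) (BasedFunctor.comp K (sqFst 𝒮)))
    (Groth.Agent.Lib.helper4.AlgStRep.whiskerRightIso (diagOverSnd T) (BasedFunctor.comp K (sqSnd 𝒮)))

end General

section Main
open Groth.Agent.Lib.helper4.AlgStSetoid Groth.Agent.Lib.helper4.AlgStCoreA Groth.Agent.Lib.helper4.FibSwap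

variable {S : Scheme.{u}}

theorem repByAlgSp1_diag_of {𝒳 : AlgSt.Cat S} (h𝒳 : IsFibGrpd 𝒳.p)
    (h : ∀ (U : Over S) (x : overCat U ⥤ᵇ 𝒳), AlgSt.RepByAlgSp1 x) :
    AlgSt.RepByAlgSp1 (FibCat.diag (toSelf 𝒳)) := by
  intro T K
  have hsq : IsFibGrpd (sq 𝒳).p := isFibGrpd_fp _ _ h𝒳 h𝒳 isFibGrpd_selfOver
  have hW : AlgSt.RepByAlgSp (fp (BasedFunctor.comp K (sqFst 𝒳)) (BasedFunctor.comp K (sqSnd 𝒳))) :=
    h T (BasedFunctor.comp K (sqSnd 𝒳)) T (BasedFunctor.comp K (sqFst 𝒳))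
  obtain ⟨ci, ⟨α⟩, ⟨β⟩⟩ := compare_isEquivOver (BasedFunctor.comp K (sqFst 𝒳)) (BasedFunctor.comp K (sqSnd 𝒳))
  have hW' : AlgSt.RepByAlgSp (fp (pairK (BasedFunctor.comp K (sqFst 𝒳)) (BasedFunctor.comp K (sqSnd 𝒳))) (Δ 𝒳)) :=
    repByAlgSp_of_isEquivOver ci (isEquivOver_symm α β) hW
  have hfp : IsFibGrpd (fp (pairK (BasedFunctor.comp K (sqFst 𝒳)) (BasedFunctor.comp K (sqSnd 𝒳))) (Δ 𝒳)).p :=
    isFibGrpd_fp _ _ (Groth.Agent.FibOver.isFibGrpd_overCat _) h𝒳 hsq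
  have hq : AlgSt.RepByAlgSp1
      (fpFst (pairK (BasedFunctor.comp K (sqFst 𝒳)) (BasedFunctor.comp K (sqSnd 𝒳))) (Δ 𝒳)) :=
    Groth.Agent.S12775.result hfp (Groth.Agent.FibOver.isFibGrpd_overCat _) hW' (repByAlgSp_overCat _) _
  have h1 : AlgSt.RepByAlgSp (fp (diagOver T)
      (fpFst (pairK (BasedFunctor.comp K (sqFst 𝒳)) (BasedFunctor.comp K (sqSnd 𝒳))) (Δ 𝒳))) :=
    repByAlgSp_fp' hfp (Groth.Agent.FibOver.isFibGrpd_overCat _) (Groth.Agent.FibOver.isFibGrpd_overCat _) _ _ hq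
      (repByAlgSp_overCat T)
  have h2 := repByAlgSp_of_isEquivOver
    (pasteL (diagOver T) (pairK (BasedFunctor.comp K (sqFst 𝒳)) (BasedFunctor.comp K (sqSnd 𝒳))) (Δ 𝒳))
    (pasteL_isEquivOver _ _ _) h1
  exact repByAlgSp_of_isEquivOver
    (fpMap (BasedFunctor.comp (diagOver T)
        (pairK (BasedFunctor.comp K (sqFst 𝒳)) (BasedFunctor.comp K (sqSnd 𝒳)))) K (Δ 𝒳) (Δ 𝒳)
      (BasedFunctor.id _) (BasedFunctor.id _) (factorIso K).symm (Iso.refl _))
    (fpMap_isEquivOver _ _ _ _ _ _ _ _ (isEquivOver_id' _) (isEquivOver_id' _)) h2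

theorem repByAlgSp1_of_diag {𝒳 : AlgSt.Cat S} (hΔ : AlgSt.RepByAlgSp1 (FibCat.diag (toSelf 𝒳)))
    (U : Over S) (x : overCat U ⥤ᵇ 𝒳) : AlgSt.RepByAlgSp1 x := by
  intro V y
  exact repByAlgSp_of_isEquivOver (compare y x) (compare_isEquivOver y x) (hΔ (V ⨯ U) (pairK y x))

end Main

end Groth.Agent.Lib.helper4.AlgStDiag
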