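import Groth.Agent.Lib.Helper4.AlgStPts7
import Groth.Agent.S12765
import Groth.Agent.S12775
set_option autoImplicit false
set_option backward.isDefEq.respectTransparency false
set_option backward.isDefEq.respectTransparency.types false
set_option linter.unusedSectionVars false
set_option linter.style.haveILetI false
set_option linter.unusedVariables false
open CategoryTheory CategoryTheory.Functor CategoryTheory.Limits Opposite AlgebraicGeometry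
universe u

/-! 2-fibre products of algebraic stacks are algebraic. -/

namespace Groth.Agent.Lib.helper4.AlgStFpAlg
open Groth.Agent.FibEquiv Groth.Agent.FibYoneda Groth.Agent.FibFpProj Stk FibCat
open Groth.Agent.Lib.helper4.Descent Groth.Agent.Lib.helper4.PshDict Groth.Agent.Lib.helper4.FibPaste
open Groth.Agent.Lib.helper4.AlgStEquiv Groth.Agent.Lib.helper4.PshRep Groth.Agent.Lib.helper4.PshPB
open Groth.Agent.Lib.helper4.FibSwap Groth.Agent.Lib.helper4.AlgStSetoid Groth.Agent.Lib.helper4.AlgStCoreA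
open Groth.Agent.Lib.helper4.AlgStDescent Groth.Agent.Lib.helper4.AlgStSource Groth.Agent.Lib.helper4.AlgStDM
open Groth.Agent.Lib.helper4.AlgStSmLoc Groth.Agent.Lib.helper4.PointsBasic Groth.Agent.Lib.helper4.AlgStRep
open Groth.Agent.Lib.helper4.AlgStPts
open AlgSt

variable {S : Scheme.{u}}

/-- representability with a property is invariant under 2-isomorphism -/
theorem repByAlgSpWith_congr {𝒳 𝒴 : AlgSt.Cat S} (P : MorphismProperty (AlgSp.Sp S)) {f f' : 𝒳 ⥤ᵇ 𝒴}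
    (i : f ≅ f') : AlgSt.RepByAlgSpWith P f ↔ AlgSt.RepByAlgSpWith P f' :=
  repByAlgSpWith_iff_of_square P f f' (BasedFunctor.id _) (BasedFunctor.id _) (isEquivOver_id' _)
    (isEquivOver_id' _) i.symm

/-- the second projection of a 2-fibre product is a base change of the first functor -/
theorem repByAlgSpWith_fpSnd {𝒳 𝒴 𝒵 : AlgSt.Cat S} (h𝒳 : IsFibGrpd 𝒳.p) (h𝒴 : IsFibGrpd 𝒴.p)
    (h𝒵 : IsFibGrpd 𝒵.p) (P : MorphismProperty (AlgSp.Sp S)) (x : 𝒵 ⥤ᵇ 𝒴) (π : 𝒳 ⥤ᵇ 𝒴)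
    (hx : AlgSt.RepByAlgSpWith P x) : AlgSt.RepByAlgSpWith P (fpSnd x π) := by
  have h1 : AlgSt.RepByAlgSpWith P (fpFst π x) := Groth.Agent.S12779.result h𝒵 h𝒴 h𝒳 P x π hx
  exact (repByAlgSpWith_precomp_iff P (fpFst π x) (fpSwap x π) (fpSwap_isEquivOver x π)).1 h1

/-- composition of functors representable by algebraic spaces -/
theorem repByAlgSp1_comp {𝒳 𝒴 𝒵 : AlgSt.Cat S} (h𝒳 : IsFibGrpd 𝒳.p) (h𝒴 : IsFibGrpd 𝒴.p)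
    (h𝒵 : IsFibGrpd 𝒵.p) (f : 𝒳 ⥤ᵇ 𝒴) (g : 𝒴 ⥤ᵇ 𝒵) (hf : AlgSt.RepByAlgSp1 f) (hg : AlgSt.RepByAlgSp1 g) :
    AlgSt.RepByAlgSp1 (BasedFunctor.comp f g) :=
  (repByAlgSp1_iff_top _).2 (Groth.Agent.S12780.result h𝒳 h𝒴 h𝒵 ⊤
    (fun _ _ _ _ _ _ _ _ _ _ _ _ _ _ => trivial) (fun _ _ _ _ _ _ _ _ _ _ => trivial)
    (fun _ _ _ _ _ _ _ _ _ _ _ _ _ _ _ => ⟨fun _ _ => trivial, fun _ => trivial⟩) f g
    ((repByAlgSp1_iff_top f).1 hf) ((repByAlgSp1_iff_top g).1 hg))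

/-- cancellation: `t` is representable by algebraic spaces if `π ∘ t` is and the section of `T ×_𝒳 𝒜 ⟶ T` it
defines is -/
theorem repByAlgSp1_of_section {𝒜 𝒳 : AlgSt.Cat S} (h𝒜 : IsFibGrpd 𝒜.p) (h𝒳 : IsFibGrpd 𝒳.p) {T : Over S}
    (π : 𝒜 ⥤ᵇ 𝒳) (t : overCat T ⥤ᵇ 𝒜) (hx : AlgSt.RepByAlgSp1 (BasedFunctor.comp t π))
    (hs : AlgSt.RepByAlgSp1 (fpLift (F := BasedFunctor.comp t π) (G := π) (BasedFunctor.id (overCat T)) t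
      (Iso.refl _))) : AlgSt.RepByAlgSp1 t := by
  have hT : IsFibGrpd (overCat T).p := Groth.Agent.FibOver.isFibGrpd_overCat T
  have hfp : IsFibGrpd (fp (BasedFunctor.comp t π) π).p := isFibGrpd_fp _ _ hT h𝒜 h𝒳
  have h2 : AlgSt.RepByAlgSp1 (fpSnd (BasedFunctor.comp t π) π) :=
    (repByAlgSp1_iff_top _).2 (repByAlgSpWith_fpSnd h𝒜 h𝒳 hT ⊤ (BasedFunctor.comp t π) π
      ((repByAlgSp1_iff_top _).1 hx))
  exact repByAlgSp1_comp hT hfp h𝒜 _ _ hs h2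

/-- every functor from a scheme to a 2-fibre product of categories with representable diagonals is representable
by algebraic spaces -/
theorem repByAlgSp1_chart_fp {𝒳 𝒴 𝒵 : AlgSt.Cat S} (h𝒳 : IsFibGrpd 𝒳.p) (h𝒴 : IsFibGrpd 𝒴.p)
    (h𝒵 : IsFibGrpd 𝒵.p)
    (hΔ𝒳 : ∀ (U : Over S) (x : overCat U ⥤ᵇ 𝒳), AlgSt.RepByAlgSp1 x)
    (hΔ𝒴 : ∀ (U : Over S) (x : overCat U ⥤ᵇ 𝒴), AlgSt.RepByAlgSp1 x)
    (hΔ𝒵 : ∀ (U : Over S) (x : overCat U ⥤ᵇ 𝒵), AlgSt.RepByAlgSp1 x)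
    (f : 𝒳 ⥤ᵇ 𝒵) (g : 𝒴 ⥤ᵇ 𝒵) {T : Over S} (t : overCat T ⥤ᵇ fp f g) : AlgSt.RepByAlgSp1 t := by
  have hT : IsFibGrpd (overCat T).p := Groth.Agent.FibOver.isFibGrpd_overCat T
  have h𝒜 : IsFibGrpd (fp f g).p := isFibGrpd_fp _ _ h𝒳 h𝒴 h𝒵
  let x : overCat T ⥤ᵇ 𝒳 := BasedFunctor.comp t (fpFst f g)
  apply repByAlgSp1_of_section h𝒜 h𝒳 (fpFst f g) t (hΔ𝒳 T x)
  let s : overCat T ⥤ᵇ fp x (fpFst f g) :=
    fpLift (F := x) (G := fpFst f g) (BasedFunctor.id (overCat T)) t (Iso.refl _)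
  change AlgSt.RepByAlgSp1 s
  have hE : IsEquivOver (pasteL x f g) := pasteL_isEquivOver x f g
  let s' : overCat T ⥤ᵇ fp (BasedFunctor.comp x f) g := BasedFunctor.comp s (pasteL x f g)
  have hA' : IsFibGrpd (fp (BasedFunctor.comp x f) g).p := isFibGrpd_fp _ _ hT h𝒴 h𝒵
  suffices hs' : AlgSt.RepByAlgSp1 s' by
    have := (repByAlgSpWith_iff_of_square ⊤ s' s (BasedFunctor.id _) (pasteL x f g) (isEquivOver_id' _) hE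
      (Iso.refl _)).1 ((repByAlgSp1_iff_top _).1 hs')
    exact (repByAlgSp1_iff_top _).2 this
  let q : fp (BasedFunctor.comp x f) g ⥤ᵇ 𝒴 := fpSnd (BasedFunctor.comp x f) g
  let y : overCat T ⥤ᵇ 𝒴 := BasedFunctor.comp s' q
  apply repByAlgSp1_of_section hA' h𝒴 q s' (hΔ𝒴 T y)
  have hB : IsFibGrpd (fp y q).p := isFibGrpd_fp _ _ hT hA' h𝒴
  apply Groth.Agent.S12775.result hT hB (repByAlgSp_overCat T)
  -- `T ×_𝒴 (T ×_𝒵 𝒴) ≃ T ×_𝒵 T` is an algebraic space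
  have h1 : AlgSt.RepByAlgSp (fp (BasedFunctor.comp x f) (BasedFunctor.comp y g)) :=
    hΔ𝒵 T (BasedFunctor.comp y g) T (BasedFunctor.comp x f)
  have hR : IsEquivOver (pasteR (BasedFunctor.comp x f) g y) := pasteR_isEquivOver _ _ _
  obtain ⟨Ri, ⟨α⟩, ⟨β⟩⟩ := hR
  have h2 : AlgSt.RepByAlgSp (fp q y) := repByAlgSp_of_isEquivOver Ri (isEquivOver_symm α β) h1
  exact repByAlgSp_of_isEquivOver (fpSwap q y) (fpSwap_isEquivOver q y) h2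

/-- a smooth surjective atlas of a 2-fibre product -/
theorem hasAtlas_fp {𝒳 𝒴 𝒵 : AlgSt.Cat S} (h𝒳 : IsFibGrpd 𝒳.p) (h𝒴 : IsFibGrpd 𝒴.p)
    (h𝒵 : IsFibGrpd 𝒵.p)
    (hΔ𝒵 : ∀ (U : Over S) (x : overCat U ⥤ᵇ 𝒵), AlgSt.RepByAlgSp1 x)
    (hat𝒳 : AlgSt.HasAtlas (AlgSp.LocP @Smooth) 𝒳) (hat𝒴 : AlgSt.HasAtlas (AlgSp.LocP @Smooth) 𝒴)
    (f : 𝒳 ⥤ᵇ 𝒵) (g : 𝒴 ⥤ᵇ 𝒵) : AlgSt.HasAtlas (AlgSp.LocP @Smooth) (fp f g) := by
  obtain ⟨U, x₀, hx₀, hxs₀⟩ := hat𝒳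
  obtain ⟨V, y₀, hy₀, hys₀⟩ := hat𝒴
  have hU : IsFibGrpd (overCat U).p := Groth.Agent.FibOver.isFibGrpd_overCat U
  have hV : IsFibGrpd (overCat V).p := Groth.Agent.FibOver.isFibGrpd_overCat V
  have hfp : IsFibGrpd (fp f g).p := isFibGrpd_fp _ _ h𝒳 h𝒴 h𝒵
  have hA : IsFibGrpd (fp x₀ (fpFst f g)).p := isFibGrpd_fp _ _ hU hfp h𝒳
  have hA' : IsFibGrpd (fp (BasedFunctor.comp x₀ f) g).p := isFibGrpd_fp _ _ hU h𝒴 h𝒵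
  let prA : fp x₀ (fpFst f g) ⥤ᵇ fp f g := fpSnd x₀ (fpFst f g)
  have hprA₁ : AlgSt.RepByAlgSpWith (AlgSp.LocP @Smooth) prA := repByAlgSpWith_fpSnd hfp h𝒳 hU _ x₀ _ hx₀
  have hprA₂ : AlgSt.RepByAlgSpWith AlgSp.IsSurjectiveMor prA := repByAlgSpWith_fpSnd hfp h𝒳 hU _ x₀ _ hxs₀
  obtain ⟨Ei, ⟨α⟩, ⟨β⟩⟩ := pasteL_isEquivOver x₀ f g
  have hEi : IsEquivOver Ei := isEquivOver_symm α β
  let q' : fp (BasedFunctor.comp x₀ f) g ⥤ᵇ 𝒴 := fpSnd (BasedFunctor.comp x₀ f) g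
  have hB : IsFibGrpd (fp y₀ q').p := isFibGrpd_fp _ _ hV hA' h𝒴
  let prB : fp y₀ q' ⥤ᵇ fp (BasedFunctor.comp x₀ f) g := fpSnd y₀ q'
  have hprB₁ : AlgSt.RepByAlgSpWith (AlgSp.LocP @Smooth) prB := repByAlgSpWith_fpSnd hA' h𝒴 hV _ y₀ _ hy₀
  have hprB₂ : AlgSt.RepByAlgSpWith AlgSp.IsSurjectiveMor prB := repByAlgSpWith_fpSnd hA' h𝒴 hV _ y₀ _ hys₀
  -- `B` is an algebraic space
  have h1 : AlgSt.RepByAlgSp (fp (BasedFunctor.comp x₀ f) (BasedFunctor.comp y₀ g)) :=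
    hΔ𝒵 V (BasedFunctor.comp y₀ g) U (BasedFunctor.comp x₀ f)
  obtain ⟨Ri, ⟨α'⟩, ⟨β'⟩⟩ := pasteR_isEquivOver (BasedFunctor.comp x₀ f) g y₀
  have h2 : AlgSt.RepByAlgSp (fp q' y₀) := repByAlgSp_of_isEquivOver Ri (isEquivOver_symm α' β') h1
  obtain ⟨F, e, he⟩ := repByAlgSp_of_isEquivOver (fpSwap q' y₀) (fpSwap_isEquivOver q' y₀) h2
  -- the chart from the algebraic space
  let c₁ : fp (BasedFunctor.comp x₀ f) g ⥤ᵇ fp f g := BasedFunctor.comp Ei prA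
  have hc₁₁ : AlgSt.RepByAlgSpWith (AlgSp.LocP @Smooth) c₁ := (repByAlgSpWith_precomp_iff _ prA Ei hEi).1 hprA₁
  have hc₁₂ : AlgSt.RepByAlgSpWith AlgSp.IsSurjectiveMor c₁ := (repByAlgSpWith_precomp_iff _ prA Ei hEi).1 hprA₂
  let c₂ : fp y₀ q' ⥤ᵇ fp f g := BasedFunctor.comp prB c₁
  have hc₂₁ : AlgSt.RepByAlgSpWith (AlgSp.LocP @Smooth) c₂ := smooth_comp hB hA' hfp _ _ hprB₁ hc₁₁
  have hc₂₂ : AlgSt.RepByAlgSpWith AlgSp.IsSurjectiveMor c₂ := surj_comp hB hA' hfp _ _ hprB₂ hc₁₂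
  let c : AlgSt.ofSp F.obj ⥤ᵇ fp f g := BasedFunctor.comp e c₂
  have hc₁' : AlgSt.RepByAlgSpWith (AlgSp.LocP @Smooth) c := (repByAlgSpWith_precomp_iff _ c₂ e he).1 hc₂₁
  have hc₂' : AlgSt.RepByAlgSpWith AlgSp.IsSurjectiveMor c := (repByAlgSpWith_precomp_iff _ c₂ e he).1 hc₂₂
  obtain ⟨W, p, hp1, hp2⟩ := F.property.atlas
  obtain ⟨h3, h4⟩ := Groth.Agent.Lib.helper4.AlgStQC.chart_of_space_chart hfp c hc₁' hc₂' p hp1 hp2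
  exact ⟨W, _, h3, h4⟩

/-- S12763 -/
theorem isAlgStack_fp {𝒳 𝒴 𝒵 : AlgSt.Cat S}
    (h𝒵 : Stk.IsStack (QuotSh.J Scheme.fppfPrecoverage S) 𝒵) (hΔ : AlgSt.RepByAlgSp1 (FibCat.diag (FibCat.toSelf 𝒵)))
    (h𝒳 : AlgSt.IsAlgStack Scheme.fppfPrecoverage 𝒳) (h𝒴 : AlgSt.IsAlgStack Scheme.fppfPrecoverage 𝒴)
    (f : 𝒳 ⥤ᵇ 𝒵) (g : 𝒴 ⥤ᵇ 𝒵) :
    AlgSt.IsAlgStack Scheme.fppfPrecoverage (FibCat.fp f g) := by
  have hX := h𝒳.isStack.1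
  have hY := h𝒴.isStack.1
  have hZ := h𝒵.1
  have hΔ𝒳 := (Groth.Agent.S12765.result hX).1 h𝒳.diag
  have hΔ𝒴 := (Groth.Agent.S12765.result hY).1 h𝒴.diag
  have hΔ𝒵 := (Groth.Agent.S12765.result hZ).1 hΔ
  have hfp : IsFibGrpd (fp f g).p := isFibGrpd_fp _ _ hX hY hZ
  refine ⟨Groth.Agent.StkFp.isStack_fp f g _ h𝒳.isStack h𝒴.isStack
    (Groth.Agent.StkFp.isPrestack_of_isStack _ h𝒵), ?_, hasAtlas_fp hX hY hZ hΔ𝒵 h𝒳.atlas h𝒴.atlas f g⟩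
  exact (Groth.Agent.S12765.result hfp).2 (fun T t => repByAlgSp1_chart_fp hX hY hZ hΔ𝒳 hΔ𝒴 hΔ𝒵 f g t)

end Groth.Agent.Lib.helper4.AlgStFpAlg
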