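import Groth.Agent.Lib.Helper4.DiagBC
set_option autoImplicit false
set_option backward.isDefEq.respectTransparency false
set_option backward.isDefEq.respectTransparency.types false
open CategoryTheory CategoryTheory.Functor CategoryTheory.Limits
universe v₇ u₇ v₆ u₆ v₅ u₅ v₄ u₄ v₃ u₃ v₂ u₂ v u

/-! The graph `𝒳 ⟶ 𝒳 ×_𝒯 𝒴` of `g : 𝒳 ⟶ 𝒴` over `𝒯` is a base change of the diagonal of `𝒴 ⟶ 𝒯`. -/

namespace Groth.Agent.Lib.helper4.GraphSq
open Groth.Agent.FibEquiv Groth.Agent.Lib.helper4.FibPaste Groth.Agent.Lib.helper4.DiagBC FibCat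

variable {C : Type u} [Category.{v} C]
  {𝒳 : BasedCategory.{v₂, u₂} C} {𝒴 : BasedCategory.{v₃, u₃} C} {𝒯 : BasedCategory.{v₅, u₅} C}
  (p : 𝒳 ⥤ᵇ 𝒯) (q : 𝒴 ⥤ᵇ 𝒯) (g : 𝒳 ⥤ᵇ 𝒴)
  (e : BasedFunctor.comp (BasedFunctor.id 𝒳) p ≅ BasedFunctor.comp g q)

/-- the graph -/
abbrev Γ : 𝒳 ⥤ᵇ fp p q := fpLift (BasedFunctor.id 𝒳) g e

theorem Γ_obj_iso (x : 𝒳.obj) : ((Γ p q g e).toFunctor.obj x).obj.iso = appIso e x := rfl

/-- the 2-isomorphism defining `Φ` -/
def phiIso : BasedFunctor.comp (BasedFunctor.comp (fpFst p q) g) q ≅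
    BasedFunctor.comp (fpSnd p q) q :=
  BasedNatIso.mkNatIso
    (NatIso.ofComponents
      (fun b => (appIso e b.obj.fst).symm ≪≫ b.obj.iso)
      (fun {b b'} m => by
        have h1 : p.toFunctor.map m.hom.fst ≫ b'.obj.iso.hom =
          b.obj.iso.hom ≫ q.toFunctor.map m.hom.snd := m.hom.w
        have h2 : p.toFunctor.map m.hom.fst ≫ (appIso e b'.obj.fst).hom =
          (appIso e b.obj.fst).hom ≫ q.toFunctor.map (g.toFunctor.map m.hom.fst) :=
          appIso_naturality e m.hom.fst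
        change q.toFunctor.map (g.toFunctor.map m.hom.fst) ≫
          ((appIso e b'.obj.fst).inv ≫ b'.obj.iso.hom) =
          ((appIso e b.obj.fst).inv ≫ b.obj.iso.hom) ≫ q.toFunctor.map m.hom.snd
        rw [← cancel_epi (appIso e b.obj.fst).hom, ← Category.assoc, ← h2]
        simp only [Category.assoc, Iso.hom_inv_id_assoc]
        exact h1))
    (fun b => by
      have h1 : 𝒯.p.IsHomLift (𝟙 (𝒳.p.obj b.obj.fst)) (appIso e b.obj.fst).hom :=
        appIso_isHomLift e b.obj.fst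
      have h1' : 𝒯.p.IsHomLift (𝟙 (𝒳.p.obj b.obj.fst)) (appIso e b.obj.fst).inv :=
        IsHomLift.lift_id_inv _ _ _
      have h2 : 𝒯.p.IsHomLift (𝟙 (𝒳.p.obj b.obj.fst)) b.obj.iso.hom := fp_iso_isHomLift _ _ b
      change 𝒯.p.IsHomLift (𝟙 (𝒳.p.obj b.obj.fst)) ((appIso e b.obj.fst).inv ≫ b.obj.iso.hom)
      infer_instance)

/-- `Φ : 𝒳 ×_𝒯 𝒴 ⟶ 𝒴 ×_𝒯 𝒴` -/
def Φ : fp p q ⥤ᵇ fp q q :=
  fpLift (BasedFunctor.comp (fpFst p q) g) (fpSnd p q) (phiIso p q g e)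

theorem Φ_obj_iso_hom (b : (fp p q).obj) :
    ((Φ p q g e).toFunctor.obj b).obj.iso.hom = (appIso e b.obj.fst).inv ≫ b.obj.iso.hom := rfl

/-- the 2-isomorphism of the graph square -/
def kappa : BasedFunctor.comp (Γ p q g e) (Φ p q g e) ≅ BasedFunctor.comp g (FibCat.diag q) :=
  BasedNatIso.mkNatIso
    (NatIso.ofComponents
      (fun x => fpIsoMk q q (Iso.refl (g.toFunctor.obj x)) (Iso.refl (g.toFunctor.obj x)) (by
        change q.toFunctor.map (𝟙 _) ≫ 𝟙 _ =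
          ((appIso e x).inv ≫ (appIso e x).hom) ≫ q.toFunctor.map (𝟙 _)
        simp))
      (fun {x x'} m => by
        apply fp_hom_ext
        · change g.toFunctor.map m ≫ 𝟙 _ = 𝟙 _ ≫ g.toFunctor.map m
          simp
        · change g.toFunctor.map m ≫ 𝟙 _ = 𝟙 _ ≫ g.toFunctor.map m
          simp))
    (fun x => by
      apply Groth.Agent.FibFp.lift_to
      change 𝒴.p.IsHomLift (𝟙 (𝒳.p.obj x)) (𝟙 (g.toFunctor.obj x))
      exact IsHomLift.id (g.w_obj x))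

/-- the comparison functor of the graph square -/
def cmp : 𝒳 ⥤ᵇ fp (Φ p q g e) (FibCat.diag q) :=
  fpLift (Γ p q g e) g (kappa p q g e)

instance cmp_faithful : (cmp p q g e).toFunctor.Faithful where
  map_injective {x x'} m m' h := by
    have h1 : ((cmp p q g e).toFunctor.map m).hom.fst.hom.fst =
        ((cmp p q g e).toFunctor.map m').hom.fst.hom.fst := by rw [h]
    exact h1

instance cmp_full : (cmp p q g e).toFunctor.Full where
  map_surjective {x x'} n := by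
    let n₁ : x ⟶ x' := n.hom.fst.hom.fst
    let n₂ : g.toFunctor.obj x ⟶ g.toFunctor.obj x' := n.hom.fst.hom.snd
    let ny : g.toFunctor.obj x ⟶ g.toFunctor.obj x' := n.hom.snd
    have e2 := n.hom.w
    have e3 : g.toFunctor.map n₁ = ny := by
      have := congrArg (fun k => k.hom.fst) e2
      change g.toFunctor.map n₁ ≫ 𝟙 _ = 𝟙 _ ≫ ny at this
      simpa using this
    have e4 : n₂ = ny := by
      have := congrArg (fun k => k.hom.snd) e2
      change n₂ ≫ 𝟙 _ = 𝟙 _ ≫ ny at this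
      simpa using this
    refine ⟨n₁, ?_⟩
    apply fp_hom_ext
    · apply fp_hom_ext
      · rfl
      · change g.toFunctor.map n₁ = n₂
        rw [e3, e4]
    · exact e3

theorem cmp_isEquivOver : IsEquivOver (cmp p q g e) := by
  apply isEquivOver_of
  intro z
  let b : (fp p q).obj := z.obj.fst
  let y₀ : 𝒴.obj := z.obj.snd
  let τ : (Φ p q g e).toFunctor.obj b ≅ (FibCat.diag q).toFunctor.obj y₀ := z.obj.iso
  let x : 𝒳.obj := b.obj.fst
  let y : 𝒴.obj := b.obj.snd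
  let τ₁ : g.toFunctor.obj x ≅ y₀ := isoFst q q τ
  let τ₂ : y ≅ y₀ := isoSnd q q τ
  have hτ : q.toFunctor.map τ₁.hom ≫ 𝟙 _ =
      ((appIso e x).inv ≫ b.obj.iso.hom) ≫ q.toFunctor.map τ₂.hom := τ.hom.hom.w
  let ea : (Γ p q g e).toFunctor.obj x ≅ b :=
    fpIsoMk p q (Iso.refl x) (τ₁ ≪≫ τ₂.symm) (by
      change p.toFunctor.map (𝟙 x) ≫ b.obj.iso.hom =
        (appIso e x).hom ≫ q.toFunctor.map (τ₁.hom ≫ τ₂.inv)
      rw [Category.comp_id] at hτ
      rw [CategoryTheory.Functor.map_comp, hτ, CategoryTheory.Functor.map_id, Category.id_comp]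
      simp only [Category.assoc, Iso.hom_inv_id_assoc, ← CategoryTheory.Functor.map_comp,
        Iso.hom_inv_id]
      rw [CategoryTheory.Functor.map_id]
      exact (Category.comp_id _).symm)
  refine ⟨x, fpIsoMk (Φ p q g e) (FibCat.diag q) ea τ₁ ?_, ?_⟩
  · apply fp_hom_ext
    · change g.toFunctor.map (𝟙 x) ≫ τ₁.hom = 𝟙 _ ≫ τ₁.hom
      simp
    · change (τ₁.hom ≫ τ₂.inv) ≫ τ₂.hom = 𝟙 _ ≫ τ₁.hom
      simp
  · apply Groth.Agent.FibFp.lift_to
    apply Groth.Agent.FibFp.lift_to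
    change 𝒳.p.IsHomLift (𝟙 (𝒳.p.obj x)) (𝟙 x)
    infer_instance

end Groth.Agent.Lib.helper4.GraphSq
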