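import Groth.Agent.Lib.Helper4.AlgStDiagBC
import Groth.Agent.Lib.Helper4.GraphSq
set_option autoImplicit false
set_option backward.isDefEq.respectTransparency false
set_option backward.isDefEq.respectTransparency.types false
open CategoryTheory CategoryTheory.Functor CategoryTheory.Limits AlgebraicGeometry
universe v₇ u₇ v₆ u₆ v₅ u₅ v₄ u₄ v₃ u₃ v₂ u₂ v u

/-! Graphs and sections are base changes of diagonals. -/

namespace Groth.Agent.Lib.helper4.AlgStGraph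
open Groth.Agent.FibEquiv Groth.Agent.Lib.helper4.FibPaste Groth.Agent.Lib.helper4.AlgStRep
open Groth.Agent.Lib.helper4.AlgStEquiv Groth.Agent.Lib.helper4.AlgStDiagBC
open Groth.Agent.Lib.helper4.DiagBC FibCat

section General

variable {C : Type u} [Category.{v} C]
  {𝒳 : BasedCategory.{v₂, u₂} C} {𝒯 : BasedCategory.{v₅, u₅} C} (f : 𝒳 ⥤ᵇ 𝒯)

instance fpSnd_id_faithful : (fpSnd (BasedFunctor.id 𝒯) f).toFunctor.Faithful where
  map_injective {b b'} m m' h := by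
    have h2 : m.hom.snd = m'.hom.snd := h
    have w : m.hom.fst ≫ b'.obj.iso.hom = b.obj.iso.hom ≫ f.toFunctor.map m.hom.snd := m.hom.w
    have w' : m'.hom.fst ≫ b'.obj.iso.hom = b.obj.iso.hom ≫ f.toFunctor.map m'.hom.snd := m'.hom.w
    refine fp_hom_ext _ _ ?_ h2
    have : m.hom.fst ≫ b'.obj.iso.hom = m'.hom.fst ≫ b'.obj.iso.hom := by rw [w, w', h2]
    exact (cancel_mono _).1 this

instance fpSnd_id_full : (fpSnd (BasedFunctor.id 𝒯) f).toFunctor.Full where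
  map_surjective {b b'} n := by
    let n' : b.obj.snd ⟶ b'.obj.snd := n
    refine ⟨fpHomMk (BasedFunctor.id 𝒯) f (b.obj.iso.hom ≫ f.toFunctor.map n' ≫ b'.obj.iso.inv) n' ?_, rfl⟩
    change (b.obj.iso.hom ≫ f.toFunctor.map n' ≫ b'.obj.iso.inv) ≫ b'.obj.iso.hom =
      b.obj.iso.hom ≫ f.toFunctor.map n'
    simp

theorem fpSnd_id_isEquivOver : IsEquivOver (fpSnd (BasedFunctor.id 𝒯) f) := by
  apply isEquivOver_of
  intro x
  let b : (fp (BasedFunctor.id 𝒯) f).obj :=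
    ⟨⟨f.toFunctor.obj x, x, Iso.refl _⟩, by
      change 𝒯.p.IsHomLift (𝟙 (𝒯.p.obj (f.toFunctor.obj x))) (𝟙 (f.toFunctor.obj x))
      infer_instance⟩
  refine ⟨b, Iso.refl x, ?_⟩
  change 𝒳.p.IsHomLift (𝟙 (𝒳.p.obj x)) (𝟙 x)
  infer_instance

end General

variable {S : Scheme.{u}}

/-- If the diagonal of `q : 𝒴 ⟶ 𝒯` is representable by algebraic spaces with property `P`, so is
the graph `𝒳 ⟶ 𝒳 ×_𝒯 𝒴` of any `g : 𝒳 ⟶ 𝒴` over `𝒯` (for every property `P`). -/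
theorem repByAlgSpWith_graph {𝒳 𝒴 𝒯 : AlgSt.Cat S} (P : MorphismProperty (AlgSp.Sp S))
    (p : 𝒳 ⥤ᵇ 𝒯) (q : 𝒴 ⥤ᵇ 𝒯) (g : 𝒳 ⥤ᵇ 𝒴)
    (e : BasedFunctor.comp (BasedFunctor.id 𝒳) p ≅ BasedFunctor.comp g q)
    (h : AlgSt.RepByAlgSpWith P (FibCat.diag q)) :
    AlgSt.RepByAlgSpWith P (fpLift (BasedFunctor.id 𝒳) g e) := by
  have h1 : AlgSt.RepByAlgSpWith P (fpFst (GraphSq.Φ p q g e) (FibCat.diag q)) :=
    repByAlgSpWith_fpFst P (FibCat.diag q) (GraphSq.Φ p q g e) h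
  exact (repByAlgSpWith_iff_of_square P (fpFst (GraphSq.Φ p q g e) (FibCat.diag q))
    (GraphSq.Γ p q g e) (GraphSq.cmp p q g e) (BasedFunctor.id _)
    (GraphSq.cmp_isEquivOver p q g e) (isEquivOver_id _) (Iso.refl _)).mp h1

/-- If the diagonal of `f : 𝒳 ⟶ 𝒯` is representable by algebraic spaces with property `P`, so is
any section of `f` (for every property `P`). -/
theorem repByAlgSpWith_section {𝒳 𝒯 : AlgSt.Cat S} (P : MorphismProperty (AlgSp.Sp S))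
    (f : 𝒳 ⥤ᵇ 𝒯) (s : 𝒯 ⥤ᵇ 𝒳) (e : BasedFunctor.comp s f ≅ BasedFunctor.id 𝒯)
    (h : AlgSt.RepByAlgSpWith P (FibCat.diag f)) : AlgSt.RepByAlgSpWith P s := by
  have e' : BasedFunctor.comp (BasedFunctor.id 𝒯) (BasedFunctor.id 𝒯) ≅ BasedFunctor.comp s f :=
    e.symm
  have h1 := repByAlgSpWith_graph P (BasedFunctor.id 𝒯) f s e' h
  exact (repByAlgSpWith_iff_of_square P s (fpLift (BasedFunctor.id 𝒯) s e') (BasedFunctor.id 𝒯)
    (fpSnd (BasedFunctor.id 𝒯) f) (isEquivOver_id _) (fpSnd_id_isEquivOver f) (Iso.refl _)).mpr h1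

end Groth.Agent.Lib.helper4.AlgStGraph
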