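import Groth.Agent.Lib.Helper4.AlgStDiagK2
import Groth.Agent.Lib.Helper4.AlgStGraph
import Groth.Agent.Lib.Helper4.AlgStFpAlg
import Groth.Agent.S10277
set_option autoImplicit false
set_option backward.isDefEq.respectTransparency false
set_option backward.isDefEq.respectTransparency.types false
set_option linter.unusedSectionVars false
set_option linter.style.haveILetI false
set_option linter.unusedVariables false
open CategoryTheory CategoryTheory.Functor CategoryTheory.Limits Opposite AlgebraicGeometry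
universe u

/-! Cancellation for morphisms representable by algebraic spaces; the diagonal of a morphism of algebraic stacks. -/

namespace Groth.Agent.Lib.helper4.AlgStCancel
open Groth.Agent.FibEquiv FibCat Groth.Agent.Lib.helper4.FibPaste Groth.Agent.Lib.helper4.AlgStEquiv
open Groth.Agent.Lib.helper4.AlgStSetoid Groth.Agent.Lib.helper4.FibSwap Groth.Agent.FibFpProj
open Groth.Agent.Lib.helper4.AlgStFpAlg Groth.Agent.Lib.helper4.AlgStDiagComp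
open Groth.Agent.Lib.helper4.AlgStDiagK Groth.Agent.Lib.helper4.AlgStSource
open Groth.Agent.Lib.helper5.LocPBC

variable {S : Scheme.{u}}

/-- monotonicity of `RepByAlgSpWith` in the property (tested on morphisms from algebraic spaces to schemes) -/
theorem repByAlgSpWith_mono {𝒳 𝒴 : AlgSt.Cat S} {P P' : MorphismProperty (AlgSp.Sp S)} (f : 𝒳 ⥤ᵇ 𝒴)
    (h : ∀ (F : AlgSp.Space S) (T : Over S) (π : F.obj ⟶ (AlgSp.yon S).obj T), P π → P' π)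
    (hf : AlgSt.RepByAlgSpWith P f) : AlgSt.RepByAlgSpWith P' f := by
  intro T y
  obtain ⟨F, e, he, hP⟩ := hf T y
  exact ⟨F, e, he, h F T _ hP⟩

section Cancel

variable {𝒜 ℬ 𝒞 : AlgSt.Cat S} (h𝒜 : IsFibGrpd 𝒜.p) (hℬ : IsFibGrpd ℬ.p) (h𝒞 : IsFibGrpd 𝒞.p)
  (a : 𝒜 ⥤ᵇ ℬ) (b : ℬ ⥤ᵇ 𝒞)
include h𝒜 hℬ h𝒞

/-- cancellation: if `b ∘ a` and `b` are representable by algebraic spaces, so is `a` -/
theorem repByAlgSp1_of_comp (hab : AlgSt.RepByAlgSp1 (BasedFunctor.comp a b)) (hb : AlgSt.RepByAlgSp1 b) :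
    AlgSt.RepByAlgSp1 a := by
  intro T t
  have hT : IsFibGrpd (overCat T).p := Groth.Agent.FibOver.isFibGrpd_overCat T
  let tb : overCat T ⥤ᵇ 𝒞 := BasedFunctor.comp t b
  have hB' : AlgSt.RepByAlgSp (fp tb b) := hb T tb
  have hfB' : IsFibGrpd (fp tb b).p := isFibGrpd_fp _ _ hT hℬ h𝒞
  let pr : fp tb b ⥤ᵇ ℬ := fpSnd tb b
  let s : overCat T ⥤ᵇ fp tb b := fpLift (F := tb) (G := b) (BasedFunctor.id (overCat T)) t (Iso.refl _)
  have hA' : AlgSt.RepByAlgSp (fp tb (BasedFunctor.comp a b)) := hab T tb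
  obtain ⟨Ri, ⟨α⟩, ⟨β⟩⟩ := pasteR_isEquivOver tb b a
  have hA'' : AlgSt.RepByAlgSp (fp pr a) := repByAlgSp_of_isEquivOver Ri (isEquivOver_symm α β) hA'
  have hfA'' : IsFibGrpd (fp pr a).p := isFibGrpd_fp _ _ hfB' h𝒜 hℬ
  have hq : AlgSt.RepByAlgSp1 (fpFst pr a) := Groth.Agent.S12775.result hfA'' hfB' hA'' hB' _
  have h1 : AlgSt.RepByAlgSp (fp s (fpFst pr a)) := hq T s
  exact repByAlgSp_of_isEquivOver (pasteL s pr a) (pasteL_isEquivOver s pr a) h1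

/-- cancellation with a property: if `b ∘ a` has `P` and the diagonal of `b` has `P`, then `a` has `P` -/
theorem repByAlgSpWith_of_comp (P : MorphismProperty (AlgSp.Sp S))
    (hPb : ∀ ⦃X₁ Y₁ X₂ Y₂ : AlgSp.Sp S⦄, AlgSp.IsAlgSpace X₁ → AlgSp.IsAlgSpace Y₁ → AlgSp.IsAlgSpace X₂ →
      AlgSp.IsAlgSpace Y₂ → ∀ (a : X₁ ⟶ Y₁) (b : Y₂ ⟶ Y₁) (a' : X₂ ⟶ Y₂) (b' : X₂ ⟶ X₁),
      IsPullback b' a' a b → P a → P a')
    (hPc : ∀ ⦃X Y Z : AlgSp.Sp S⦄, AlgSp.IsAlgSpace X → AlgSp.IsAlgSpace Y → AlgSp.IsAlgSpace Z →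
      ∀ (a : X ⟶ Y) (b : Y ⟶ Z), P a → P b → P (a ≫ b))
    (hP : AlgSp.IsLocalOnBase AlgSp.IsFppfCover P)
    (hab : AlgSt.RepByAlgSpWith P (BasedFunctor.comp a b)) (hΔ : AlgSt.RepByAlgSpWith P (FibCat.diag b)) :
    AlgSt.RepByAlgSpWith P a := by
  have hfp : IsFibGrpd (fp (BasedFunctor.comp a b) b).p := isFibGrpd_fp _ _ h𝒜 hℬ h𝒞
  have h1 : AlgSt.RepByAlgSpWith P
      (fpLift (F := BasedFunctor.comp a b) (G := b) (BasedFunctor.id 𝒜) a (Iso.refl _)) :=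
    Groth.Agent.Lib.helper4.AlgStGraph.repByAlgSpWith_graph P (BasedFunctor.comp a b) b a (Iso.refl _) hΔ
  have h2 : AlgSt.RepByAlgSpWith P (fpSnd (BasedFunctor.comp a b) b) :=
    repByAlgSpWith_fpSnd hℬ h𝒞 h𝒜 P (BasedFunctor.comp a b) b hab
  exact Groth.Agent.S12780.result h𝒜 hfp hℬ P hPb hPc hP _ _ h1 h2

end Cancel

/-- the diagonal of a functor between categories with representable diagonals is representable by algebraic
spaces -/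
theorem repByAlgSp1_diag {𝒴 𝒵 : AlgSt.Cat S} (h𝒴 : IsFibGrpd 𝒴.p) (h𝒵 : IsFibGrpd 𝒵.p)
    (hΔ𝒴 : AlgSt.RepByAlgSp1 (FibCat.diag (toSelf 𝒴))) (hΔ𝒵 : AlgSt.RepByAlgSp1 (FibCat.diag (toSelf 𝒵)))
    (g : 𝒴 ⥤ᵇ 𝒵) : AlgSt.RepByAlgSp1 (FibCat.diag g) := by
  have hι : AlgSt.RepByAlgSp1 (MagicSq.ι g g (toSelf 𝒵) (compIso g (toSelf 𝒵))) :=
    (repByAlgSp1_iff_top _).2 (Groth.Agent.Lib.helper4.AlgStMagic.repByAlgSpWith_fpComparison ⊤ g g (toSelf 𝒵)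
      (compIso g (toSelf 𝒵)) (compIso_app g (toSelf 𝒵)) ((repByAlgSp1_iff_top _).1 hΔ𝒵))
  have e : BasedFunctor.comp g (toSelf 𝒵) = toSelf 𝒴 := Groth.Agent.Lib.helper4.FibRep.toSelf_unique _ _
  have h1 : AlgSt.RepByAlgSp1 (FibCat.diag (BasedFunctor.comp g (toSelf 𝒵))) := by
    rw [e]; exact hΔ𝒴
  have h2 : AlgSt.RepByAlgSp1 (BasedFunctor.comp (FibCat.diag g)
      (MagicSq.ι g g (toSelf 𝒵) (compIso g (toSelf 𝒵)))) :=
    (repByAlgSp1_iff_top _).2 ((repByAlgSpWith_congr ⊤ (diagCompIso g (toSelf 𝒵))).2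
      ((repByAlgSp1_iff_top _).1 h1))
  have hsO : IsFibGrpd (selfOver (Over S)).p := isFibGrpd_selfOver
  exact repByAlgSp1_of_comp h𝒴 (isFibGrpd_fp _ _ h𝒴 h𝒴 h𝒵) (isFibGrpd_fp _ _ h𝒴 h𝒴 hsO) _ _ h2 hι

/-- the diagonal of a morphism of algebraic stacks is representable by algebraic spaces -/
theorem repByAlgSp1_diag_of_isAlgStack {𝒴 𝒵 : AlgSt.Cat S}
    (h𝒴 : AlgSt.IsAlgStack Scheme.fppfPrecoverage 𝒴) (h𝒵 : AlgSt.IsAlgStack Scheme.fppfPrecoverage 𝒵)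
    (g : 𝒴 ⥤ᵇ 𝒵) : AlgSt.RepByAlgSp1 (FibCat.diag g) :=
  repByAlgSp1_diag h𝒴.isStack.1 h𝒵.isStack.1 h𝒴.diag h𝒵.diag g

section OfComp

variable {𝒳 𝒴 𝒵 : AlgSt.Cat S} (f : 𝒳 ⥤ᵇ 𝒴) (g : 𝒴 ⥤ᵇ 𝒵)

/-- general cancellation for diagonals -/
theorem diag_of_comp (h𝒳 : IsFibGrpd 𝒳.p) (h𝒴 : IsFibGrpd 𝒴.p) (h𝒵 : IsFibGrpd 𝒵.p)
    (P : MorphismProperty (AlgSp.Sp S))
    (hPb : ∀ ⦃X₁ Y₁ X₂ Y₂ : AlgSp.Sp S⦄, AlgSp.IsAlgSpace X₁ → AlgSp.IsAlgSpace Y₁ → AlgSp.IsAlgSpace X₂ →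
      AlgSp.IsAlgSpace Y₂ → ∀ (a : X₁ ⟶ Y₁) (b : Y₂ ⟶ Y₁) (a' : X₂ ⟶ Y₂) (b' : X₂ ⟶ X₁),
      IsPullback b' a' a b → P a → P a')
    (hPc : ∀ ⦃X Y Z : AlgSp.Sp S⦄, AlgSp.IsAlgSpace X → AlgSp.IsAlgSpace Y → AlgSp.IsAlgSpace Z →
      ∀ (a : X ⟶ Y) (b : Y ⟶ Z), P a → P b → P (a ≫ b))
    (hP : AlgSp.IsLocalOnBase AlgSp.IsFppfCover P)
    (hfg : AlgSt.RepByAlgSpWith P (FibCat.diag (BasedFunctor.comp f g)))
    (hι : AlgSt.RepByAlgSpWith P (FibCat.diag (MagicSq.ι f f g (compIso f g)))) :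
    AlgSt.RepByAlgSpWith P (FibCat.diag f) := by
  have h1 : AlgSt.RepByAlgSpWith P (BasedFunctor.comp (FibCat.diag f) (MagicSq.ι f f g (compIso f g))) :=
    (repByAlgSpWith_congr P (diagCompIso f g)).2 hfg
  exact repByAlgSpWith_of_comp h𝒳 (isFibGrpd_fp _ _ h𝒳 h𝒳 h𝒴) (isFibGrpd_fp _ _ h𝒳 h𝒳 h𝒵) _ _ P hPb hPc hP h1 hι

variable (h𝒴 : AlgSt.IsAlgStack Scheme.fppfPrecoverage 𝒴) (h𝒵 : AlgSt.IsAlgStack Scheme.fppfPrecoverage 𝒵)
include h𝒴 h𝒵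

/-- the comparison `𝒳 ×_𝒴 𝒳 ⟶ 𝒳 ×_𝒵 𝒳` is representable by algebraic spaces -/
theorem repByAlgSp1_comparison : AlgSt.RepByAlgSp1 (MagicSq.ι f f g (compIso f g)) :=
  (repByAlgSp1_iff_top _).2 (Groth.Agent.Lib.helper4.AlgStMagic.repByAlgSpWith_fpComparison ⊤ f f g
    (compIso f g) (compIso_app f g) ((repByAlgSp1_iff_top _).1 (repByAlgSp1_diag_of_isAlgStack h𝒴 h𝒵 g)))

variable (h𝒳 : IsFibGrpd 𝒳.p)
include h𝒳

/-- S12956 -/
theorem isDMMor_of_comp (h : AlgSt.IsDMMor (BasedFunctor.comp f g)) : AlgSt.IsDMMor f :=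
  diag_of_comp f g h𝒳 h𝒴.isStack.1 h𝒵.isStack.1 _
    (fun X₁ Y₁ X₂ Y₂ h1 h2 _ h4 a b a' b' sq ha => locP_of_isPullback locPData_unramified h1 h2 h4 sq ha)
    (fun X Y Z _ hY _ a b ha hb =>
      Groth.Agent.H1.LocPStable.locP_comp locPData_unramified.descend hY a b ha hb)
    (isLocalOnBase_fppf_of_fpqc (Groth.Agent.S10543.result S)) h
    (isDMMor_of_repByAlgSp1 _ (repByAlgSp1_comparison f g h𝒴 h𝒵))

/-- S12957 -/
theorem isQuasiDMMor_of_comp (h : AlgSt.IsQuasiDMMor (BasedFunctor.comp f g)) : AlgSt.IsQuasiDMMor f :=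
  diag_of_comp f g h𝒳 h𝒴.isStack.1 h𝒵.isStack.1 _
    (fun X₁ Y₁ X₂ Y₂ h1 h2 _ h4 a b a' b' sq ha => locP_of_isPullback locPData_lqf h1 h2 h4 sq ha)
    (fun X Y Z _ hY _ a b ha hb =>
      Groth.Agent.H1.LocPStable.locP_comp locPData_lqf.descend hY a b ha hb)
    (isLocalOnBase_fppf_of_fpqc (Groth.Agent.S10541.result S).1) h
    (isQuasiDMMor_of_repByAlgSp1 _ (repByAlgSp1_comparison f g h𝒴 h𝒵))

/-- S12958 -/
theorem isSeparatedMor_of_comp (h : AlgSt.IsSeparatedMor (BasedFunctor.comp f g))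
    (hg : AlgSt.RepByAlgSpWith AlgSp.IsSeparatedMor (FibCat.diag g)) : AlgSt.IsSeparatedMor f := by
  have hsep : AlgSt.RepByAlgSpWith AlgSp.IsSeparatedMor (MagicSq.ι f f g (compIso f g)) :=
    Groth.Agent.Lib.helper4.AlgStMagic.repByAlgSpWith_fpComparison _ f f g (compIso f g) (compIso_app f g) hg
  have k1 : AlgSt.RepByAlgSpWith (AlgSp.RepWith @IsClosedImmersion)
      (FibCat.diag (MagicSq.ι f f g (compIso f g))) :=
    repByAlgSpWith_diag_of_diagonal (AlgSp.RepWith @IsClosedImmersion)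
      (fun X₁ Y₁ X₂ Y₂ _ _ _ _ a b a' b' sq ha =>
        (MorphismProperty.relative_isStableUnderBaseChange _).of_isPullback sq ha) _ hsep
  have k2 : AlgSt.RepByAlgSpWith AlgSp.IsProperMor (FibCat.diag (MagicSq.ι f f g (compIso f g))) :=
    repByAlgSpWith_mono _ (fun F T π hπ =>
      Groth.Agent.S10277.result (X := F) (Y := ⟨(AlgSp.yon S).obj T, AlgSp.IsAlgSpace.yon_obj T⟩)
        (ObjectProperty.homMk π) hπ) k1
  exact diag_of_comp f g h𝒳 h𝒴.isStack.1 h𝒵.isStack.1 AlgSp.IsProperMor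
    (fun X₁ Y₁ X₂ Y₂ h1 h2 h3 h4 a b a' b' sq ha =>
      Groth.Agent.S10275.result (X := ⟨X₁, h1⟩) (Y := ⟨Y₁, h2⟩) (Y' := ⟨Y₂, h4⟩) (X' := ⟨X₂, h3⟩)
        (ObjectProperty.homMk a) (ObjectProperty.homMk b) (ObjectProperty.homMk b') (ObjectProperty.homMk a')
        sq ha)
    (fun X Y Z hX hY hZ a b ha hb =>
      Groth.Agent.S10276.result (X := ⟨X, hX⟩) (Y := ⟨Y, hY⟩) (Z := ⟨Z, hZ⟩)
        (ObjectProperty.homMk a) (ObjectProperty.homMk b) ha hb)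
    (isLocalOnBase_fppf_of_fpqc (Groth.Agent.S10536.result S)) h k2

/-- S12959 -/
theorem isQuasiSeparatedMor_of_comp (h : AlgSt.IsQuasiSeparatedMor (BasedFunctor.comp f g))
    (hg : AlgSt.RepByAlgSpWith AlgSp.IsQuasiSeparatedMor (FibCat.diag g)) :
    AlgSt.IsQuasiSeparatedMor f := by
  have hqs : AlgSt.RepByAlgSpWith AlgSp.IsQuasiSeparatedMor (MagicSq.ι f f g (compIso f g)) :=
    Groth.Agent.Lib.helper4.AlgStMagic.repByAlgSpWith_fpComparison _ f f g (compIso f g) (compIso_app f g) hg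
  have k1 : AlgSt.RepByAlgSpWith (AlgSp.RepWith @QuasiCompact)
      (FibCat.diag (MagicSq.ι f f g (compIso f g))) :=
    repByAlgSpWith_diag_of_diagonal (AlgSp.RepWith @QuasiCompact)
      (fun X₁ Y₁ X₂ Y₂ _ _ _ _ a b a' b' sq ha =>
        (MorphismProperty.relative_isStableUnderBaseChange _).of_isPullback sq ha) _ hqs
  have k1' : AlgSt.RepByAlgSpWith AlgSp.IsQuasiCompactMor (FibCat.diag (MagicSq.ι f f g (compIso f g))) :=
    repByAlgSpWith_mono _ (fun F T π hπ =>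
      Groth.Agent.Lib.helper7.AlgSpQC.isQuasiCompactMor_of_repWith hπ) k1
  have k2 : AlgSt.RepByAlgSpWith AlgSp.IsSeparatedMor (FibCat.diag (MagicSq.ι f f g (compIso f g))) :=
    isSeparated_diag_of_repByAlgSp1 _ (repByAlgSp1_comparison f g h𝒴 h𝒵)
  have k2' : AlgSt.RepByAlgSpWith AlgSp.IsQuasiSeparatedMor
      (FibCat.diag (MagicSq.ι f f g (compIso f g))) :=
    repByAlgSpWith_mono _ (fun F T π (hπ : AlgSp.RepWith @IsClosedImmersion (pullback.diagonal π)) =>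
      (Groth.Agent.Lib.helper15.AlgSpDiag.repWith_mono_iff_le
        (fun X Y f (hf : IsClosedImmersion f) => (inferInstance : QuasiCompact f)) hπ :
        AlgSp.RepWith @QuasiCompact (pullback.diagonal π))) k2
  have k3 : AlgSt.RepByAlgSpWith (AlgSp.IsQuasiCompactMor ⊓ AlgSp.IsQuasiSeparatedMor)
      (FibCat.diag (MagicSq.ι f f g (compIso f g))) :=
    repByAlgSpWith_and _ (Groth.Agent.Lib.helper4.AlgStCoreA.isoInv_of_baseChange _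
      (fun X₁ Y₁ X₂ Y₂ _ _ _ _ a b a' b' sq ha => isQuasiSeparatedMor_of_isPullback sq ha)) k1' k2'
  exact diag_of_comp f g h𝒳 h𝒴.isStack.1 h𝒵.isStack.1 (AlgSp.IsQuasiCompactMor ⊓ AlgSp.IsQuasiSeparatedMor)
    (fun X₁ Y₁ X₂ Y₂ h1 h2 h3 h4 a b a' b' sq ha =>
      ⟨Groth.Agent.Lib.helper5.isQuasiCompactMor_of_isPullback sq ha.1,
        isQuasiSeparatedMor_of_isPullback sq ha.2⟩)
    (fun X Y Z hX hY hZ a b ha hb =>
      ⟨Groth.Agent.Lib.helper5.isQuasiCompactMor_comp hY hZ.diag ha.1 hb.1,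
        isQuasiSeparatedMor_comp a b ha.2 hb.2⟩)
    (isLocalOnBase_fppf_of_fpqc
      (isLocalOnBase_and (Groth.Agent.S10519.result S) (Groth.Agent.S10520.result S))) h k3

end OfComp

end Groth.Agent.Lib.helper4.AlgStCancel
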