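import Groth.Agent.Lib.Helper4.DiagBC2
import Groth.Agent.Lib.Helper4.AlgStCancel
set_option autoImplicit false
set_option backward.isDefEq.respectTransparency false
set_option backward.isDefEq.respectTransparency.types false
set_option linter.unusedSectionVars false
set_option linter.style.haveILetI false
set_option linter.unusedVariables false
open CategoryTheory CategoryTheory.Functor CategoryTheory.Limits Opposite AlgebraicGeometry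
universe u

/-! Properties of the diagonal descend along flat, locally finitely presented, surjective base changes. -/

namespace Groth.Agent.Lib.helper4.AlgStDiagDescent
open Groth.Agent.FibEquiv FibCat Groth.Agent.Lib.helper4.FibPaste Groth.Agent.Lib.helper4.AlgStEquiv
open Groth.Agent.Lib.helper4.FibSwap Groth.Agent.FibFpProj Groth.Agent.Lib.helper4.DiagBC
open Groth.Agent.Lib.helper4.DiagBC2 Groth.Agent.Lib.helper4.AlgStFpAlg Groth.Agent.Lib.helper4.AlgStSmLoc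
open Groth.Agent.Lib.helper4.AlgStSource Groth.Agent.Lib.helper4.AlgStCancel
open Groth.Agent.Lib.helper4.AlgStDiagComp
open Groth.Agent.Lib.helper5.LocPBC

variable {S : Scheme.{u}}

section
variable {𝒳 𝒴 𝒲 : AlgSt.Cat S} (h𝒳 : IsFibGrpd 𝒳.p) (h𝒴 : IsFibGrpd 𝒴.p) (h𝒲 : IsFibGrpd 𝒲.p)
include h𝒳 h𝒴 h𝒲

/-- `Ψ` is a base change of `w` -/
theorem repByAlgSpWith_Ψ (P : MorphismProperty (AlgSp.Sp S)) (w : 𝒲 ⥤ᵇ 𝒴) (f : 𝒳 ⥤ᵇ 𝒴)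
    (hw : AlgSt.RepByAlgSpWith P w) : AlgSt.RepByAlgSpWith P (Ψ w f) := by
  have h1 : AlgSt.RepByAlgSpWith P (fpSnd w (diagBase f)) :=
    repByAlgSpWith_fpSnd (isFibGrpd_fp _ _ h𝒳 h𝒳 h𝒴) h𝒴 h𝒲 P w (diagBase f) hw
  exact (repByAlgSpWith_precomp_iff P (fpSnd w (diagBase f)) (bcCmp w f) (bcCmp_isEquivOver w f)).1 h1

/-- descent of a property of the diagonal along an fppf covering of the target -/
theorem diag_descent (P : MorphismProperty (AlgSp.Sp S))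
    (hPb : ∀ ⦃X₁ Y₁ X₂ Y₂ : AlgSp.Sp S⦄, AlgSp.IsAlgSpace X₁ → AlgSp.IsAlgSpace Y₁ → AlgSp.IsAlgSpace X₂ →
      AlgSp.IsAlgSpace Y₂ → ∀ (a : X₁ ⟶ Y₁) (b : Y₂ ⟶ Y₁) (a' : X₂ ⟶ Y₂) (b' : X₂ ⟶ X₁),
      IsPullback b' a' a b → P a → P a')
    (hP : AlgSp.IsLocalOnBase AlgSp.IsFppfCover P)
    (f : 𝒳 ⥤ᵇ 𝒴) (hΔ : AlgSt.RepByAlgSp1 (FibCat.diag f)) (w : 𝒲 ⥤ᵇ 𝒴)
    (hw₁ : AlgSt.RepByAlgSpWith (AlgSp.LocP @Flat) w)
    (hw₂ : AlgSt.RepByAlgSpWith (AlgSp.LocP @LocallyOfFinitePresentation) w)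
    (hw₃ : AlgSt.RepByAlgSpWith AlgSp.IsSurjectiveMor w)
    (h : AlgSt.RepByAlgSpWith P (FibCat.diag (fpFst w f))) : AlgSt.RepByAlgSpWith P (FibCat.diag f) := by
  have h1 : AlgSt.RepByAlgSpWith P (fpFst (Ψ w f) (FibCat.diag f)) :=
    (repByAlgSpWith_iff_of_square P (fpFst (Ψ w f) (FibCat.diag f)) (FibCat.diag (fpFst w f))
      (cmp w f) (BasedFunctor.id _) (cmp_isEquivOver w f) (isEquivOver_id _) (Iso.refl _)).2 h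
  have hq : IsFibGrpd (fp w f).p := isFibGrpd_fp _ _ h𝒲 h𝒳 h𝒴
  exact Groth.Agent.Lib.helper4.AlgStDescent.descent h𝒳 (isFibGrpd_fp _ _ h𝒳 h𝒳 h𝒴)
    (isFibGrpd_fp _ _ hq hq h𝒲) P hPb hP (FibCat.diag f) hΔ (Ψ w f)
    (repByAlgSpWith_Ψ h𝒳 h𝒴 h𝒲 _ w f hw₁) (repByAlgSpWith_Ψ h𝒳 h𝒴 h𝒲 _ w f hw₂)
    (repByAlgSpWith_Ψ h𝒳 h𝒴 h𝒲 _ w f hw₃) h1

end

section Stacks
variable {𝒳 𝒴 𝒲 : AlgSt.Cat S} (h𝒳 : AlgSt.IsAlgStack Scheme.fppfPrecoverage 𝒳)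
  (h𝒴 : AlgSt.IsAlgStack Scheme.fppfPrecoverage 𝒴) (h𝒲 : IsFibGrpd 𝒲.p) (f : 𝒳 ⥤ᵇ 𝒴) (w : 𝒲 ⥤ᵇ 𝒴)
  (hw₁ : AlgSt.RepByAlgSpWith (AlgSp.LocP @Flat) w)
  (hw₂ : AlgSt.RepByAlgSpWith (AlgSp.LocP @LocallyOfFinitePresentation) w)
  (hw₃ : AlgSt.RepByAlgSpWith AlgSp.IsSurjectiveMor w)
include h𝒳 h𝒴 h𝒲 hw₁ hw₂ hw₃

/-- S12960 -/
theorem isDMMor_descent (h : AlgSt.IsDMMor (fpFst w f)) : AlgSt.IsDMMor f :=
  diag_descent h𝒳.isStack.1 h𝒴.isStack.1 h𝒲 _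
    (fun X₁ Y₁ X₂ Y₂ h1 h2 _ h4 a b a' b' sq ha => locP_of_isPullback locPData_unramified h1 h2 h4 sq ha)
    (isLocalOnBase_fppf_of_fpqc (Groth.Agent.S10543.result S)) f
    (repByAlgSp1_diag_of_isAlgStack h𝒳 h𝒴 f) w hw₁ hw₂ hw₃ h

/-- S12961 -/
theorem isQuasiDMMor_descent (h : AlgSt.IsQuasiDMMor (fpFst w f)) : AlgSt.IsQuasiDMMor f :=
  diag_descent h𝒳.isStack.1 h𝒴.isStack.1 h𝒲 _
    (fun X₁ Y₁ X₂ Y₂ h1 h2 _ h4 a b a' b' sq ha => locP_of_isPullback locPData_lqf h1 h2 h4 sq ha)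
    (isLocalOnBase_fppf_of_fpqc (Groth.Agent.S10541.result S).1) f
    (repByAlgSp1_diag_of_isAlgStack h𝒳 h𝒴 f) w hw₁ hw₂ hw₃ h

/-- S12962 -/
theorem isSeparatedMor_descent (h : AlgSt.IsSeparatedMor (fpFst w f)) : AlgSt.IsSeparatedMor f :=
  diag_descent h𝒳.isStack.1 h𝒴.isStack.1 h𝒲 AlgSp.IsProperMor
    (fun X₁ Y₁ X₂ Y₂ h1 h2 h3 h4 a b a' b' sq ha =>
      Groth.Agent.S10275.result (X := ⟨X₁, h1⟩) (Y := ⟨Y₁, h2⟩) (Y' := ⟨Y₂, h4⟩) (X' := ⟨X₂, h3⟩)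
        (ObjectProperty.homMk a) (ObjectProperty.homMk b) (ObjectProperty.homMk b') (ObjectProperty.homMk a')
        sq ha)
    (isLocalOnBase_fppf_of_fpqc (Groth.Agent.S10536.result S)) f
    (repByAlgSp1_diag_of_isAlgStack h𝒳 h𝒴 f) w hw₁ hw₂ hw₃ h

/-- S12963 -/
theorem isQuasiSeparatedMor_descent (h : AlgSt.IsQuasiSeparatedMor (fpFst w f)) :
    AlgSt.IsQuasiSeparatedMor f :=
  diag_descent h𝒳.isStack.1 h𝒴.isStack.1 h𝒲 (AlgSp.IsQuasiCompactMor ⊓ AlgSp.IsQuasiSeparatedMor)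
    (fun X₁ Y₁ X₂ Y₂ h1 h2 h3 h4 a b a' b' sq ha =>
      ⟨Groth.Agent.Lib.helper5.isQuasiCompactMor_of_isPullback sq ha.1,
        isQuasiSeparatedMor_of_isPullback sq ha.2⟩)
    (isLocalOnBase_fppf_of_fpqc
      (isLocalOnBase_and (Groth.Agent.S10519.result S) (Groth.Agent.S10520.result S))) f
    (repByAlgSp1_diag_of_isAlgStack h𝒳 h𝒴 f) w hw₁ hw₂ hw₃ h

end Stacks

end Groth.Agent.Lib.helper4.AlgStDiagDescent
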