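import Groth.Agent.Lib.Helper4.AlgStCancel
import Groth.Agent.Lib.Helper1.Diagonal
import Groth.Agent.S10521
import Groth.Agent.S10526
set_option autoImplicit false
set_option backward.isDefEq.respectTransparency false
set_option backward.isDefEq.respectTransparency.types false
set_option linter.unusedSectionVars false
set_option linter.style.haveILetI false
set_option linter.unusedVariables false
open CategoryTheory CategoryTheory.Functor CategoryTheory.Limits Opposite AlgebraicGeometry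
universe u

/-! The converse of the key lemma, and the characterisations of separated / quasi-separated morphisms
representable by algebraic spaces. -/

namespace Groth.Agent.Lib.helper4.AlgStDiagK
open Groth.Agent.FibEquiv Groth.Agent.FibYoneda Groth.Agent.FibFpProj Stk FibCat
open Groth.Agent.Lib.helper4.Descent Groth.Agent.Lib.helper4.PshDict Groth.Agent.Lib.helper4.FibPaste
open Groth.Agent.Lib.helper4.AlgStEquiv Groth.Agent.Lib.helper4.PshRep Groth.Agent.Lib.helper4.DiagBC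
open Groth.Agent.Lib.helper4.DiagEquiv Groth.Agent.Lib.helper4.AlgStRep Groth.Agent.Lib.helper4.FibSwap
open Groth.Agent.Lib.helper4.AlgStDescent Groth.Agent.Lib.helper4.AlgStDiagBC Groth.Agent.Lib.helper5
open Groth.Agent.Lib.helper4.AlgStCoreA Groth.Agent.Lib.helper4.AlgStSource Groth.Agent.Lib.helper4.AlgStCancel
open Groth.Agent.Lib.helper4.AlgStDiagComp
open Groth.Agent.Lib.helper5.LocPBC

variable {S : Scheme.{u}}

/-- converse of `repByAlgSpWith_diag_ofSpMap` -/
theorem diagonal_of_diag_ofSpMap (Q : MorphismProperty (AlgSp.Sp S))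
    (hPb : ∀ ⦃X₁ Y₁ X₂ Y₂ : AlgSp.Sp S⦄, AlgSp.IsAlgSpace X₁ → AlgSp.IsAlgSpace Y₁ → AlgSp.IsAlgSpace X₂ →
      AlgSp.IsAlgSpace Y₂ → ∀ (a : X₁ ⟶ Y₁) (b : Y₂ ⟶ Y₁) (a' : X₂ ⟶ Y₂) (b' : X₂ ⟶ X₁),
      IsPullback b' a' a b → Q a → Q a')
    (hQ : AlgSp.IsLocalOnBase AlgSp.IsFppfCover Q)
    {F G : AlgSp.Sp S} (hF : AlgSp.IsAlgSpace F) (hG : AlgSp.IsAlgSpace G) (π : F ⟶ G)
    (h : AlgSt.RepByAlgSpWith Q (FibCat.diag (AlgSt.ofSpMap π))) : Q (pullback.diagonal π) := by
  have sq : IsPullback (pullback.fst π π) (pullback.snd π π) π π := IsPullback.of_hasPullback π π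
  have hX : AlgSp.IsAlgSpace (pullback π π) := isAlgSpace_of_isPullback hG.diag hF hF sq
  have sqP : IsPullback (pullback.fst π π).hom (pullback.snd π π).hom π.hom π.hom :=
    sq.map (sheafToPresheaf (AlgSp.J S) (Type (u + 1)))
  have e1 : (pullback.diagonal π).hom ≫ (pullback.fst π π).hom = 𝟙 F.obj :=
    congrArg (fun k => k.hom) (pullback.diagonal_fst π)
  have e2 : (pullback.diagonal π).hom ≫ (pullback.snd π π).hom = 𝟙 F.obj :=
    congrArg (fun k => k.hom) (pullback.diagonal_snd π)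
  have h1 : AlgSt.RepByAlgSpWith Q (AlgSt.ofSpMap (pullback.diagonal π)) :=
    (repByAlgSpWith_iff_of_square Q (FibCat.diag (AlgSt.ofSpMap π))
      (AlgSt.ofSpMap (pullback.diagonal π)) (BasedFunctor.id _) (fpPshLift sqP.w) (isEquivOver_id' _)
      (fpPshLift_isEquivOver sqP) (diagPshIso sqP.w (pullback.diagonal π).hom e1 e2)).1 h
  exact of_repBySpWith Q hQ hF hX _
    (repBySpWith_of_repByAlgSpWith Q (isoInv_of_baseChange Q hPb) _ h1)

/-- **Converse of the key lemma**: if the diagonal of `f` (representable by algebraic spaces) has `Q`, then every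
base change of `f` to a scheme is a morphism of algebraic spaces whose diagonal has `Q`, for `Q` stable under base
change and fppf local on the base. -/
theorem repByAlgSpWith_diagonal_of_diag {𝒳 𝒴 : AlgSt.Cat S} (Q : MorphismProperty (AlgSp.Sp S))
    (hPb : ∀ ⦃X₁ Y₁ X₂ Y₂ : AlgSp.Sp S⦄, AlgSp.IsAlgSpace X₁ → AlgSp.IsAlgSpace Y₁ → AlgSp.IsAlgSpace X₂ →
      AlgSp.IsAlgSpace Y₂ → ∀ (a : X₁ ⟶ Y₁) (b : Y₂ ⟶ Y₁) (a' : X₂ ⟶ Y₂) (b' : X₂ ⟶ X₁),
      IsPullback b' a' a b → Q a → Q a')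
    (hQ : AlgSp.IsLocalOnBase AlgSp.IsFppfCover Q)
    (f : 𝒳 ⥤ᵇ 𝒴) (hf : AlgSt.RepByAlgSp1 f) (h : AlgSt.RepByAlgSpWith Q (FibCat.diag f)) :
    AlgSt.RepByAlgSpWith Q.diagonal f := by
  intro T y
  obtain ⟨F, e, he⟩ := hf T y
  refine ⟨F, e, he, ?_⟩
  have hD : AlgSt.RepByAlgSpWith Q (fpFst (Ψ y f) (FibCat.diag f)) :=
    repByAlgSpWith_fpFst Q (FibCat.diag f) (Ψ y f) h
  have hC : AlgSt.RepByAlgSpWith Q (FibCat.diag (fpFst y f)) :=
    (repByAlgSpWith_iff_of_square Q (fpFst (Ψ y f) (FibCat.diag f))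
      (FibCat.diag (fpFst y f)) (cmp y f) (BasedFunctor.id _)
      (cmp_isEquivOver y f) (isEquivOver_id _) (Iso.refl _)).1 hD
  have hB : AlgSt.RepByAlgSpWith Q (FibCat.diag (BasedFunctor.comp e (fpFst y f))) :=
    (repByAlgSpWith_diag_iff_of_square Q (fpFst y f)
      (BasedFunctor.comp e (fpFst y f)) e (BasedFunctor.id _) he (isEquivOver_id' _)
      (Iso.refl _)).1 hC
  have iB : BasedFunctor.comp (BasedFunctor.comp e (fpFst y f)) (toYon.{u + 1} T) ≅
      BasedFunctor.comp (BasedFunctor.id _) (AlgSt.ofSpMap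
        (AlgSt.spMapOfOver (BasedFunctor.comp e (fpFst y f)))) :=
    (isoOfPshMap _).trans (eqToIso (by
      change ofPshMap (pshMapOf _) =
        ofPshMap (AlgSt.spMapOfOver (BasedFunctor.comp e (fpFst y f))).hom
      rw [spMapOfOver_hom]))
  have hA : AlgSt.RepByAlgSpWith Q (FibCat.diag (AlgSt.ofSpMap
      (AlgSt.spMapOfOver (BasedFunctor.comp e (fpFst y f))))) :=
    (repByAlgSpWith_diag_iff_of_square Q _ _ (BasedFunctor.id _) (toYon.{u + 1} T) (isEquivOver_id' _)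
      (toYon_isEquivOver T) iB).2 hB
  exact diagonal_of_diag_ofSpMap Q hPb hQ F.property (AlgSp.IsAlgSpace.yon_obj T) _ hA

/-- the diagonal of a morphism from an algebraic space is locally of finite type -/
theorem locP_lft_diagonal' {F G : AlgSp.Sp S} (hF : AlgSp.IsAlgSpace F) (hG : AlgSp.IsAlgSpace G)
    (π : F ⟶ G) : AlgSp.LocP @LocallyOfFiniteType (pullback.diagonal π) := by
  obtain ⟨h0, h1, -, -, -⟩ := Groth.Agent.Lib.helper15.AlgSpDiag.repWith_diagonal_properties hF π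
  have sq : IsPullback (pullback.fst π π) (pullback.snd π π) π π := IsPullback.of_hasPullback π π
  have hX : AlgSp.IsAlgSpace (pullback π π) := isAlgSpace_of_isPullback hG.diag hF hF sq
  exact (Groth.Agent.H1.Seven.locP_iff_repWith locPData_lft hF hX _ h0).2 h1

section Rep

variable {𝒳 𝒴 : AlgSt.Cat S} (f : 𝒳 ⥤ᵇ 𝒴) (hf : AlgSt.RepByAlgSp1 f)
include hf

/-- the diagonal of a morphism representable by algebraic spaces is locally of finite type -/
theorem lft_diag_of_repByAlgSp1 :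
    AlgSt.RepByAlgSpWith (AlgSp.LocP @LocallyOfFiniteType) (FibCat.diag f) := by
  apply repByAlgSpWith_diag_of_diagonal _
    (fun X₁ Y₁ X₂ Y₂ h1 h2 _ h4 a b a' b' sq ha => locP_of_isPullback locPData_lft h1 h2 h4 sq ha)
  intro T y
  obtain ⟨F, e, he⟩ := hf T y
  exact ⟨F, e, he, locP_lft_diagonal' F.property (AlgSp.IsAlgSpace.yon_obj T) _⟩

omit hf in
theorem qc_diag_of_isQuasiSeparated (h : AlgSt.RepByAlgSpWith AlgSp.IsQuasiSeparatedMor f) :
    AlgSt.RepByAlgSpWith AlgSp.IsQuasiCompactMor (FibCat.diag f) :=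
  repByAlgSpWith_mono _ (fun F T π hπ => Groth.Agent.Lib.helper7.AlgSpQC.isQuasiCompactMor_of_repWith hπ)
    (repByAlgSpWith_diag_of_diagonal (AlgSp.RepWith @QuasiCompact)
      (fun X₁ Y₁ X₂ Y₂ _ _ _ _ a b a' b' sq ha =>
        (MorphismProperty.relative_isStableUnderBaseChange _).of_isPullback sq ha) f h)

theorem isQuasiSeparated_of_qc_diag (h : AlgSt.RepByAlgSpWith AlgSp.IsQuasiCompactMor (FibCat.diag f)) :
    AlgSt.RepByAlgSpWith AlgSp.IsQuasiSeparatedMor f := by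
  have k := repByAlgSpWith_diagonal_of_diag AlgSp.IsQuasiCompactMor
    (fun X₁ Y₁ X₂ Y₂ _ _ _ _ a b a' b' sq ha => isQuasiCompactMor_of_isPullback sq ha)
    (isLocalOnBase_fppf_of_fpqc (Groth.Agent.S10519.result S)) f hf h
  exact repByAlgSpWith_mono f (fun F T π (hπ : AlgSp.IsQuasiCompactMor (pullback.diagonal π)) =>
    (Groth.Agent.Lib.helper7.AlgSpQC.repWith_of_isQuasiCompactMor
      (Groth.Agent.Lib.helper15.AlgSpDiag.repWith_diagonal_properties F.property π).1 hπ :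
      AlgSp.RepWith @QuasiCompact (pullback.diagonal π))) k

theorem qs_diag_of_repByAlgSp1 :
    AlgSt.RepByAlgSpWith AlgSp.IsQuasiSeparatedMor (FibCat.diag f) :=
  repByAlgSpWith_mono _ (fun F T π (hπ : AlgSp.RepWith @IsClosedImmersion (pullback.diagonal π)) =>
    (Groth.Agent.Lib.helper15.AlgSpDiag.repWith_mono_iff_le
      (fun X Y f (hf : IsClosedImmersion f) => (inferInstance : QuasiCompact f)) hπ :
      AlgSp.RepWith @QuasiCompact (pullback.diagonal π))) (isSeparated_diag_of_repByAlgSp1 f hf)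

/-- S12945 -/
theorem isQuasiSeparatedMor_iff : AlgSt.IsQuasiSeparatedMor f ↔
    AlgSt.RepByAlgSpWith AlgSp.IsQuasiSeparatedMor f := by
  constructor
  · intro h
    exact isQuasiSeparated_of_qc_diag f hf (repByAlgSpWith_mono _ (fun F T π hπ => hπ.1) h)
  · intro h
    exact repByAlgSpWith_and _ (isoInv_of_baseChange _
      (fun X₁ Y₁ X₂ Y₂ _ _ _ _ a b a' b' sq ha => isQuasiSeparatedMor_of_isPullback sq ha))
      (qc_diag_of_isQuasiSeparated f h) (qs_diag_of_repByAlgSp1 f hf)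

/-- S12944 -/
theorem tfae_quasiSeparated :
    [AlgSt.RepByAlgSpWith AlgSp.IsQuasiSeparatedMor f,
      AlgSt.RepByAlgSpWith AlgSp.IsQuasiCompactMor (FibCat.diag f),
      AlgSt.RepByAlgSpWith AlgSp.IsFiniteTypeMor (FibCat.diag f)].TFAE := by
  tfae_have 1 → 2 := qc_diag_of_isQuasiSeparated f
  tfae_have 2 → 1 := isQuasiSeparated_of_qc_diag f hf
  tfae_have 2 → 3 := fun h => repByAlgSpWith_and _ (isoInv_of_baseChange _
      (fun X₁ Y₁ X₂ Y₂ _ _ _ _ a b a' b' sq ha => isQuasiCompactMor_of_isPullback sq ha))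
      (lft_diag_of_repByAlgSp1 f hf) h
  tfae_have 3 → 2 := fun h => repByAlgSpWith_mono _ (fun F T π hπ => hπ.2) h
  tfae_finish

/-- S12943 -/
theorem tfae_separated :
    [AlgSt.RepByAlgSpWith AlgSp.IsSeparatedMor f, AlgSt.IsClosedImm (FibCat.diag f),
      AlgSt.IsSeparatedMor f, AlgSt.RepByAlgSpWith AlgSp.IsUnivClosedMor (FibCat.diag f)].TFAE := by
  tfae_have 1 → 2 := fun h => repByAlgSpWith_diag_of_diagonal (AlgSp.RepWith @IsClosedImmersion)
      (fun X₁ Y₁ X₂ Y₂ _ _ _ _ a b a' b' sq ha =>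
        (MorphismProperty.relative_isStableUnderBaseChange _).of_isPullback sq ha) f h
  tfae_have 2 → 3 := fun h => repByAlgSpWith_mono _ (fun F T π hπ =>
      Groth.Agent.S10277.result (X := F) (Y := ⟨(AlgSp.yon S).obj T, AlgSp.IsAlgSpace.yon_obj T⟩)
        (ObjectProperty.homMk π) hπ) h
  tfae_have 3 → 4 := fun h => repByAlgSpWith_mono _ (fun F T π hπ => hπ.2.2) h
  tfae_have 4 → 1 := fun h => by
    have k := repByAlgSpWith_diagonal_of_diag AlgSp.IsUnivClosedMor
      (fun X₁ Y₁ X₂ Y₂ _ _ _ _ a b a' b' sq ha => Groth.Agent.Lib.helper18.univSp_of_isPullback sq ha)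
      (isLocalOnBase_fppf_of_fpqc (Groth.Agent.S10521.result S)) f hf h
    exact repByAlgSpWith_mono f (fun F T π (hπ : AlgSp.IsUnivClosedMor (pullback.diagonal π)) =>
      (Groth.Agent.H1.Diagonal.repWith_isClosedImmersion_diagonal_of_univClosed F.property
        (AlgSp.IsAlgSpace.yon_obj T) π hπ : AlgSp.RepWith @IsClosedImmersion (pullback.diagonal π))) k
  tfae_finish

end Rep

/-- S12971 -/
theorem isSeparatedMor_and_isDMMor_of_isMono {𝒳 𝒴 : AlgSt.Cat S} (f : 𝒳 ⥤ᵇ 𝒴) (h : AlgSt.IsMono f) :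
    AlgSt.IsSeparatedMor f ∧ AlgSt.IsDMMor f := by
  have hf : AlgSt.RepByAlgSp1 f :=
    (repByAlgSp1_iff_top f).2 (repByAlgSpWith_mono f (fun _ _ _ _ => trivial) h)
  refine ⟨?_, isDMMor_of_repByAlgSp1 f hf⟩
  have k1 : AlgSt.RepByAlgSpWith (AlgSp.RepWith @IsClosedImmersion) (FibCat.diag f) := by
    apply repByAlgSpWith_diag_of_diagonal (AlgSp.RepWith @IsClosedImmersion)
      (fun X₁ Y₁ X₂ Y₂ _ _ _ _ a b a' b' sq ha =>
        (MorphismProperty.relative_isStableUnderBaseChange _).of_isPullback sq ha)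
    exact repByAlgSpWith_mono f (fun F T π (hπ : Mono π) =>
      (MorphismProperty.of_isIso _ _ : AlgSp.RepWith @IsClosedImmersion (pullback.diagonal π))) h
  exact repByAlgSpWith_mono _ (fun F T π hπ =>
      Groth.Agent.S10277.result (X := F) (Y := ⟨(AlgSp.yon S).obj T, AlgSp.IsAlgSpace.yon_obj T⟩)
        (ObjectProperty.homMk π) hπ) k1

end Groth.Agent.Lib.helper4.AlgStDiagK
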