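import Groth.Agent.Lib.Helper4.AlgStDiag
set_option autoImplicit false
set_option backward.isDefEq.respectTransparency false
set_option backward.isDefEq.respectTransparency.types false
set_option linter.unusedSectionVars false
set_option linter.style.haveILetI false
open CategoryTheory CategoryTheory.Functor CategoryTheory.Limits Opposite AlgebraicGeometry
universe u

/-! The category of an algebraic space is a Deligne-Mumford stack. -/

namespace Groth.Agent.Lib.helper4.AlgStDM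
open Groth.Agent.FibEquiv Groth.Agent.FibYoneda Groth.Agent.FibFpProj Stk FibCat
open Groth.Agent.Lib.helper4.FibPaste Groth.Agent.Lib.helper4.PshDict Groth.Agent.Lib.helper4.PshRep
open Groth.Agent.Lib.helper4.AlgStEquiv Groth.Agent.Lib.helper4.AlgStSetoid Groth.Agent.Lib.helper4.FibSwap

variable {S : Scheme.{u}}

theorem repBySpWith_isEtaleMor {F G : AlgSp.Sp S} (p : F ⟶ G) (hp : AlgSp.RepWith @Etale p) :
    AlgSp.RepBySpWith AlgSp.IsEtaleMor p.hom := by
  rw [AlgSp.repBySpWith_hom_iff]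
  intro V ξ F' fst snd sq
  refine ⟨(AlgSp.repBySp_hom_iff p).1 (AlgSp.Representable.repBySp hp.1) ξ fst snd sq, ?_⟩
  have hsnd : AlgSp.RepWith @Etale snd := MorphismProperty.of_isPullback sq hp
  exact fun W φ hφ => (AlgSp.RepWith (S := S) @Etale).comp_mem _ _ hφ hsnd

theorem repBySpWith_locP_smooth {F G : AlgSp.Sp S} (p : F ⟶ G) (hp : AlgSp.RepWith @Etale p) :
    AlgSp.RepBySpWith (AlgSp.LocP @Smooth) p.hom := by
  rw [AlgSp.repBySpWith_hom_iff]
  intro V ξ F' fst snd sq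
  obtain ⟨h1, h2⟩ := (AlgSp.repBySpWith_hom_iff _ p).1 (repBySpWith_isEtaleMor p hp) ξ fst snd sq
  refine ⟨h1, Groth.Agent.S10265.locP_mono ?_ (Groth.Agent.S10265.locP_etale_of_isEtaleMor snd h2)⟩
  intro X Y f hf
  have : Etale f := hf
  exact inferInstanceAs (Smooth f)

theorem repBySpWith_isSurjectiveMor {F G : AlgSp.Sp S} (p : F ⟶ G) (hp : AlgSp.RepWith @Surjective p) :
    AlgSp.RepBySpWith AlgSp.IsSurjectiveMor p.hom := by
  rw [AlgSp.repBySpWith_hom_iff]
  intro V ξ F' fst snd sq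
  refine ⟨(AlgSp.repBySp_hom_iff p).1 (AlgSp.Representable.repBySp hp.1) ξ fst snd sq, ?_⟩
  exact Groth.Agent.Lib.helper5.surjective_map_of_repWith_surjective snd (MorphismProperty.of_isPullback sq hp)

/-- a map from a scheme to an algebraic space, as a functor from the slice -/
def ofMap {F : AlgSp.Sp S} {U : Over S} (p : (AlgSp.yon S).obj U ⟶ F) : overCat U ⥤ᵇ AlgSt.ofSp F :=
  BasedFunctor.comp (toYon.{u + 1} U) (ofPshMap p.hom)

theorem repByAlgSpWith_ofMap (Q : MorphismProperty (AlgSp.Sp S)) {F : AlgSp.Sp S} {U : Over S}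
    (p : (AlgSp.yon S).obj U ⟶ F) (h : AlgSp.RepBySpWith Q p.hom) : AlgSt.RepByAlgSpWith Q (ofMap p) :=
  (repByAlgSpWith_iff_of_square Q (ofPshMap p.hom) (ofMap p) (toYon.{u + 1} U) (BasedFunctor.id _)
    (toYon_isEquivOver U) (isEquivOver_id' _) (Iso.refl _)).1 (repByAlgSpWith_of_repBySpWith Q p.hom h)

theorem hasAtlas_ofSp (F : AlgSp.Space S) :
    AlgSt.HasAtlas AlgSp.IsEtaleMor (AlgSt.ofSp F.obj) ∧ AlgSt.HasAtlas (AlgSp.LocP @Smooth) (AlgSt.ofSp F.obj) := by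
  obtain ⟨U, p, hp1, hp2⟩ := F.property.atlas
  exact ⟨⟨U, ofMap p, repByAlgSpWith_ofMap _ p (repBySpWith_isEtaleMor p hp1),
      repByAlgSpWith_ofMap _ p (repBySpWith_isSurjectiveMor p hp2)⟩,
    ⟨U, ofMap p, repByAlgSpWith_ofMap _ p (repBySpWith_locP_smooth p hp1),
      repByAlgSpWith_ofMap _ p (repBySpWith_isSurjectiveMor p hp2)⟩⟩

theorem isDM_ofSp (F : AlgSp.Space S) : AlgSt.IsDM Scheme.fppfPrecoverage (AlgSt.ofSp F.obj) := by
  have hF : IsFibGrpd (AlgSt.ofSp F.obj).p := isFibGrpd_ofPsh _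
  have hrep : AlgSt.RepByAlgSp (AlgSt.ofSp F.obj) := ⟨F, BasedFunctor.id _, isEquivOver_id' _⟩
  refine ⟨⟨?_, ?_, (hasAtlas_ofSp F).2⟩, (hasAtlas_ofSp F).1⟩
  · exact (Groth.Agent.Lib.helper4.PshStack.isStack_ofPsh_iff _ _).2
      ((isSheaf_iff_isSheaf_of_type _ _).1 F.obj.property)
  · exact Groth.Agent.Lib.helper4.AlgStDiag.repByAlgSp1_diag_of hF (fun U x =>
      Groth.Agent.S12775.result (Groth.Agent.FibOver.isFibGrpd_overCat U) hF (repByAlgSp_overCat U) hrep x)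

theorem isDM_of_repByAlgSp {𝒳 : AlgSt.Cat S} (hr : AlgSt.RepByAlgSp 𝒳) :
    AlgSt.IsDM Scheme.fppfPrecoverage 𝒳 := by
  obtain ⟨F, e, he⟩ := hr
  exact (isDM_iff_of_isEquivOver _ e he).1 (isDM_ofSp F)

end Groth.Agent.Lib.helper4.AlgStDM
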