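import Groth.Agent.Lib.Helper4.AlgStSource
import Groth.Agent.Lib.Helper4.AlgStDM
import Groth.Agent.Lib.Helper5.AlgSpSmLocal
import Groth.Agent.Lib.Helper1.LocPStable
import Groth.Agent.S12780
import Groth.Prelude.Def_AlgSt3
set_option autoImplicit false
set_option backward.isDefEq.respectTransparency false
set_option backward.isDefEq.respectTransparency.types false
set_option linter.unusedSectionVars false
set_option linter.style.haveILetI false
set_option linter.unusedVariables false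
open CategoryTheory CategoryTheory.Functor CategoryTheory.Limits Opposite AlgebraicGeometry
universe u

/-! Properties of algebraic stacks defined by smooth-local properties of schemes. -/

namespace Groth.Agent.Lib.helper4.AlgStSmLoc
open Groth.Agent.FibEquiv Groth.Agent.FibYoneda Groth.Agent.FibFpProj Stk FibCat
open Groth.Agent.Lib.helper4.Descent Groth.Agent.Lib.helper4.PshDict Groth.Agent.Lib.helper4.FibPaste
open Groth.Agent.Lib.helper4.AlgStEquiv Groth.Agent.Lib.helper4.PshRep Groth.Agent.Lib.helper4.PshPB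
open Groth.Agent.Lib.helper4.FibSwap Groth.Agent.Lib.helper4.AlgStSetoid Groth.Agent.Lib.helper4.AlgStCoreA
open Groth.Agent.Lib.helper4.AlgStDescent Groth.Agent.Lib.helper4.AlgStSource Groth.Agent.Lib.helper4.AlgStDM

variable {S : Scheme.{u}}

/-- a morphism of schemes inducing a surjection on points of the sheaves is surjective -/
theorem surjective_of_isSurjectiveMor {W V : Over S} (b : W ⟶ V)
    (h : AlgSp.IsSurjectiveMor ((AlgSp.yon S).map b)) : Surjective b.left := by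
  refine ⟨fun v => ?_⟩
  obtain ⟨x, hx⟩ := h (AlgSp.Points.ofScheme V v)
  refine ⟨AlgSp.Points.toScheme W x, ?_⟩
  have h1 : x = AlgSp.Points.ofScheme W (AlgSp.Points.toScheme W x) := (AlgSp.Points.ofScheme_toScheme W x).symm
  rw [h1, AlgSp.Points.map_ofPt, Category.id_comp] at hx
  have h2 := congrArg (AlgSp.Points.toScheme V) hx
  rw [AlgSp.Points.toScheme_ofPt, AlgSp.Points.toScheme_ofScheme] at h2
  exact h2

/-- two smooth charts of a category over `(Sch/S)` are dominated by a common scheme, smooth over both -/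
theorem exists_common_chart {𝒳 : AlgSt.Cat S} {U V : Over S} (x : overCat U ⥤ᵇ 𝒳) (x' : overCat V ⥤ᵇ 𝒳)
    (hx : AlgSt.RepByAlgSpWith (AlgSp.LocP @Smooth) x) (hx' : AlgSt.RepByAlgSpWith (AlgSp.LocP @Smooth) x') :
    ∃ (W : Over S) (a : W ⟶ U) (b : W ⟶ V), Smooth a.left ∧ Smooth b.left ∧
      (AlgSt.RepByAlgSpWith AlgSp.IsSurjectiveMor x → Surjective b.left) := by
  obtain ⟨F, e, he, hF⟩ := hx V x'
  obtain ⟨F', e', he', hF'⟩ := hx' U x
  obtain ⟨j, hj⟩ := change_rep (fpFst x x') (BasedFunctor.comp e (fpSwap x' x)) e'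
    (isEquivOver_comp _ _ he (fpSwap_isEquivOver x' x)) he'
  have hFU : AlgSp.LocP @Smooth
      (AlgSt.spMapOfOver (BasedFunctor.comp (BasedFunctor.comp e (fpSwap x' x)) (fpFst x x'))) := by
    rw [hj]; exact locP_iso_comp j _ hF'
  obtain ⟨W, p, hp1, hp2⟩ := F.property.atlas
  obtain ⟨a, ha⟩ := (AlgSp.yon S).map_surjective
    (p ≫ AlgSt.spMapOfOver (BasedFunctor.comp (BasedFunctor.comp e (fpSwap x' x)) (fpFst x x')))
  obtain ⟨b, hb⟩ := (AlgSp.yon S).map_surjective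
    (p ≫ AlgSt.spMapOfOver (BasedFunctor.comp e (fpFst x' x)))
  refine ⟨W, a, b, ?_, ?_, ?_⟩
  · exact hFU p (𝟙 _) a hp1 (AlgSp.repWith_id _ U) (by rw [ha, Category.comp_id])
  · exact hF p (𝟙 _) b hp1 (AlgSp.repWith_id _ V) (by rw [hb, Category.comp_id])
  · intro hxs
    obtain ⟨F₂, e₂, he₂, hs⟩ := hxs V x'
    obtain ⟨j₂, hj₂⟩ := change_rep (fpFst x' x) e e₂ he he₂
    apply surjective_of_isSurjectiveMor
    rw [hb, hj₂]
    intro z
    obtain ⟨y, hy⟩ := isSurjectiveMor_iso_comp j₂ _ hs z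
    obtain ⟨w, hw⟩ := Groth.Agent.Lib.helper5.surjective_map_of_repWith_surjective p hp2 y
    exact ⟨w, by rw [AlgSp.Points.map_comp, hw, hy]⟩

/-- the hypothesis "local for the smooth topology" on a property of schemes -/
def SmLocal (P : Scheme.{u} → Prop) : Prop :=
  ∀ (U : Scheme.{u}) (R : Presieve U), R ∈ Scheme.precoverage @Smooth U →
    (P U ↔ ∀ ⦃V : Scheme.{u}⦄ (g : V ⟶ U), R g → P V)

def pairX (U V : Scheme.{u}) : Bool → Scheme.{u}
  | true => V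
  | false => U

def pairF {U V : Scheme.{u}} (g : V ⟶ U) : ∀ b : Bool, pairX U V b ⟶ U
  | true => g
  | false => 𝟙 U

theorem SmLocal.of_smooth {P : Scheme.{u} → Prop} (hP : SmLocal P) {U V : Scheme.{u}} (g : V ⟶ U) [Smooth g]
    (h : P U) : P V := by
  have hmem : Presieve.ofArrows (pairX U V) (pairF g) ∈ Scheme.precoverage @Smooth U := by
    rw [Scheme.ofArrows_mem_precoverage_iff]
    refine ⟨fun x => ⟨false, x, rfl⟩, fun b => ?_⟩
    cases b
    · exact (inferInstance : Smooth (𝟙 U))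
    · exact (inferInstance : Smooth g)
  exact (hP U _ hmem).1 h (pairF g true) (Presieve.ofArrows.mk true)

theorem SmLocal.of_cover {P : Scheme.{u} → Prop} (hP : SmLocal P) {U V : Scheme.{u}} (g : V ⟶ U) [Smooth g]
    [Surjective g] (h : P V) : P U := by
  have hmem : Presieve.singleton g ∈ Scheme.precoverage @Smooth U := by
    rw [Scheme.singleton_mem_precoverage_iff]
    exact ⟨g.surjective, inferInstance⟩
  refine (hP U _ hmem).2 (fun V' g' hg' => ?_)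
  cases hg'
  exact h

/-- **Core**: a smooth surjective chart with `P` gives `P` smooth locally -/
theorem smoothLocally_of_chart {𝒳 : AlgSt.Cat S} {P : Scheme.{u} → Prop} (hP : SmLocal P) {U : Over S}
    (x : overCat U ⥤ᵇ 𝒳) (hx : AlgSt.RepByAlgSpWith (AlgSp.LocP @Smooth) x)
    (hxs : AlgSt.RepByAlgSpWith AlgSp.IsSurjectiveMor x) (hU : P U.left) : AlgSt.SmoothLocally P 𝒳 := by
  intro V x' hx'
  obtain ⟨W, a, b, ha, hb, hs⟩ := exists_common_chart x x' hx hx'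
  have hbs : Surjective b.left := hs hxs
  exact hP.of_cover b.left (hP.of_smooth a.left hU)

section Comp

variable {𝒳 𝒴 𝒵 : AlgSt.Cat S} (h𝒳 : IsFibGrpd 𝒳.p) (h𝒴 : IsFibGrpd 𝒴.p) (h𝒵 : IsFibGrpd 𝒵.p)
  (f : 𝒳 ⥤ᵇ 𝒴) (g : 𝒴 ⥤ᵇ 𝒵)
include h𝒳 h𝒴 h𝒵

theorem smooth_comp (hf : AlgSt.RepByAlgSpWith (AlgSp.LocP @Smooth) f)
    (hg : AlgSt.RepByAlgSpWith (AlgSp.LocP @Smooth) g) :
    AlgSt.RepByAlgSpWith (AlgSp.LocP @Smooth) (BasedFunctor.comp f g) :=
  Groth.Agent.S12780.result h𝒳 h𝒴 h𝒵 (AlgSp.LocP @Smooth)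
    (fun X₁ Y₁ X₂ Y₂ h1 h2 _ h4 a b a' b' sq ha =>
      Groth.Agent.Lib.helper5.LocPBC.locP_of_isPullback Groth.Agent.Lib.helper5.LocPBC.locPData_smooth h1 h2 h4 sq ha)
    (fun X Y Z _ hY _ a b ha hb =>
      Groth.Agent.H1.LocPStable.locP_comp Groth.Agent.Lib.helper5.LocPBC.locPData_smooth.descend hY a b ha hb)
    (isLocalOnBase_fppf_of_fpqc (Groth.Agent.S10542.result S)) f g hf hg

theorem surj_comp (hf : AlgSt.RepByAlgSpWith AlgSp.IsSurjectiveMor f)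
    (hg : AlgSt.RepByAlgSpWith AlgSp.IsSurjectiveMor g) :
    AlgSt.RepByAlgSpWith AlgSp.IsSurjectiveMor (BasedFunctor.comp f g) :=
  Groth.Agent.S12780.result h𝒳 h𝒴 h𝒵 AlgSp.IsSurjectiveMor
    (fun X₁ Y₁ X₂ Y₂ _ _ _ _ a b a' b' sq ha z => by
      obtain ⟨x, hx⟩ := ha (AlgSp.Points.map b z)
      obtain ⟨w, -, hw⟩ := Groth.Agent.Lib.helper10.exists_point_of_isPullback sq x z hx
      exact ⟨w, hw⟩)
    (fun X Y Z _ _ _ a b ha hb z => by
      obtain ⟨y, hy⟩ := hb z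
      obtain ⟨x, hx⟩ := ha y
      exact ⟨x, by rw [AlgSp.Points.map_comp, hx, hy]⟩)
    isLocalOnBase_isSurjectiveMor f g hf hg

end Comp

theorem repByAlgSpWith_precomp_iff {𝒳 𝒴 𝒳' : AlgSt.Cat S} (P : MorphismProperty (AlgSp.Sp S)) (f : 𝒳 ⥤ᵇ 𝒴)
    (a : 𝒳' ⥤ᵇ 𝒳) (ha : IsEquivOver a) :
    AlgSt.RepByAlgSpWith P f ↔ AlgSt.RepByAlgSpWith P (BasedFunctor.comp a f) :=
  repByAlgSpWith_iff_of_square P f (BasedFunctor.comp a f) a (BasedFunctor.id _) ha (isEquivOver_id' _)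
    (Iso.refl _)

theorem smooth_ofMap {F : AlgSp.Sp S} {U : Over S} (p : (AlgSp.yon S).obj U ⟶ F) (hp : AlgSp.RepWith @Etale p) :
    AlgSt.RepByAlgSpWith (AlgSp.LocP @Smooth) (ofMap p) :=
  repByAlgSpWith_ofMap _ p (repBySpWith_locP_smooth p hp)

theorem surj_ofMap {F : AlgSp.Sp S} {U : Over S} (p : (AlgSp.yon S).obj U ⟶ F) (hp : AlgSp.RepWith @Surjective p) :
    AlgSt.RepByAlgSpWith AlgSp.IsSurjectiveMor (ofMap p) :=
  repByAlgSpWith_ofMap _ p (repBySpWith_isSurjectiveMor p hp)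

/-- for a scheme, having `P` etale locally is having `P` -/
theorem etaleLocally_yon_iff {P : Scheme.{u} → Prop} (hP : SmLocal P) (U : Over S) :
    AlgSp.EtaleLocally P ((AlgSp.yon S).obj U) ↔ P U.left := by
  constructor
  · rintro ⟨W, p, hp1, hp2, hW⟩
    obtain ⟨g, rfl⟩ := (AlgSp.yon S).map_surjective p
    have h1 : Etale g.left := (AlgSp.repWith_yon_map_iff @Etale g).1 hp1
    have h2 : Surjective g.left := (AlgSp.repWith_yon_map_iff @Surjective g).1 hp2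
    exact hP.of_cover g.left hW
  · intro h
    exact ⟨U, 𝟙 _, AlgSp.repWith_id _ U, AlgSp.repWith_id _ U, h⟩

/-- S12846 -/
theorem smoothLocally_iff_exists_chart {𝒳 : AlgSt.Cat S} (h𝒳 : AlgSt.IsAlgStack Scheme.fppfPrecoverage 𝒳)
    {P : Scheme.{u} → Prop} (hP : SmLocal P) :
    AlgSt.SmoothLocally P 𝒳 ↔
      ∃ (U : Over S) (x : FibCat.overCat U ⥤ᵇ 𝒳),
        AlgSt.RepByAlgSpWith (AlgSp.LocP @Smooth) x ∧ AlgSt.RepByAlgSpWith AlgSp.IsSurjectiveMor x ∧ P U.left := by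
  constructor
  · intro h
    obtain ⟨U, x, hx, hxs⟩ := h𝒳.atlas
    exact ⟨U, x, hx, hxs, h U x hx⟩
  · rintro ⟨U, x, hx, hxs, hU⟩
    exact smoothLocally_of_chart hP x hx hxs hU

/-- S12855 -/
theorem smoothLocally_ofSp_iff (X : AlgSp.Space S) {P : Scheme.{u} → Prop} (hP : SmLocal P) :
    AlgSt.SmoothLocally P (AlgSt.ofSp X.obj) ↔ AlgSp.EtaleLocally P X.obj := by
  constructor
  · intro h
    obtain ⟨U, p, hp1, hp2⟩ := X.property.atlas
    exact ⟨U, p, hp1, hp2, h U (ofMap p) (smooth_ofMap p hp1)⟩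
  · rintro ⟨U, p, hp1, hp2, hU⟩
    exact smoothLocally_of_chart hP (ofMap p) (smooth_ofMap p hp1) (surj_ofMap p hp2) hU

/-- S12854 -/
theorem smoothLocally_ofSch_iff (U : Over S) {P : Scheme.{u} → Prop} (hP : SmLocal P) :
    AlgSt.SmoothLocally P (AlgSt.ofSch U) ↔ P U.left :=
  (smoothLocally_ofSp_iff ⟨(AlgSp.yon S).obj U, AlgSp.IsAlgSpace.yon_obj U⟩ hP).trans (etaleLocally_yon_iff hP U)

/-- S12853 -/
theorem smoothLocally_iff_exists_space_chart {𝒳 : AlgSt.Cat S} (h𝒳 : AlgSt.IsAlgStack Scheme.fppfPrecoverage 𝒳)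
    {P : Scheme.{u} → Prop} (hP : SmLocal P) :
    AlgSt.SmoothLocally P 𝒳 ↔
      ∃ (U : AlgSp.Space S) (x : AlgSt.ofSp U.obj ⥤ᵇ 𝒳),
        AlgSt.RepByAlgSpWith (AlgSp.LocP @Smooth) x ∧ AlgSt.RepByAlgSpWith AlgSp.IsSurjectiveMor x ∧
          AlgSp.EtaleLocally P U.obj := by
  constructor
  · intro h
    obtain ⟨U, x, hx, hxs⟩ := h𝒳.atlas
    obtain ⟨Yi, ⟨α⟩, ⟨β⟩⟩ := toYon_isEquivOver.{u + 1} U
    have hYi : IsEquivOver Yi := isEquivOver_symm α β
    exact ⟨⟨(AlgSp.yon S).obj U, AlgSp.IsAlgSpace.yon_obj U⟩, BasedFunctor.comp Yi x,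
      (repByAlgSpWith_precomp_iff _ x Yi hYi).1 hx, (repByAlgSpWith_precomp_iff _ x Yi hYi).1 hxs,
      (etaleLocally_yon_iff hP U).2 (h U x hx)⟩
  · rintro ⟨U, x, hx, hxs, W, p, hp1, hp2, hW⟩
    have h1 : IsFibGrpd (overCat W).p := Groth.Agent.FibOver.isFibGrpd_overCat W
    have h2 : IsFibGrpd (AlgSt.ofSp U.obj).p := isFibGrpd_ofPsh _
    exact smoothLocally_of_chart hP (BasedFunctor.comp (ofMap p) x)
      (smooth_comp h1 h2 h𝒳.isStack.1 _ _ (smooth_ofMap p hp1) hx)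
      (surj_comp h1 h2 h𝒳.isStack.1 _ _ (surj_ofMap p hp2) hxs) hW

/-- S12852 -/
theorem smoothLocally_iff_forall_space_chart {𝒳 : AlgSt.Cat S} (h𝒳 : AlgSt.IsAlgStack Scheme.fppfPrecoverage 𝒳)
    {P : Scheme.{u} → Prop} (hP : SmLocal P) :
    AlgSt.SmoothLocally P 𝒳 ↔
      ∀ (U : AlgSp.Space S) (x : AlgSt.ofSp U.obj ⥤ᵇ 𝒳),
        AlgSt.RepByAlgSpWith (AlgSp.LocP @Smooth) x → AlgSp.EtaleLocally P U.obj := by
  constructor
  · intro h U x hx
    obtain ⟨W, p, hp1, hp2⟩ := U.property.atlas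
    have h1 : IsFibGrpd (overCat W).p := Groth.Agent.FibOver.isFibGrpd_overCat W
    have h2 : IsFibGrpd (AlgSt.ofSp U.obj).p := isFibGrpd_ofPsh _
    exact ⟨W, p, hp1, hp2, h W (BasedFunctor.comp (ofMap p) x)
      (smooth_comp h1 h2 h𝒳.isStack.1 _ _ (smooth_ofMap p hp1) hx)⟩
  · intro h V x' hx'
    obtain ⟨Yi, ⟨α⟩, ⟨β⟩⟩ := toYon_isEquivOver.{u + 1} V
    have hYi : IsEquivOver Yi := isEquivOver_symm α β
    exact (etaleLocally_yon_iff hP V).1
      (h ⟨(AlgSp.yon S).obj V, AlgSp.IsAlgSpace.yon_obj V⟩ (BasedFunctor.comp Yi x')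
        ((repByAlgSpWith_precomp_iff _ x' Yi hYi).1 hx'))

end Groth.Agent.Lib.helper4.AlgStSmLoc
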