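import Groth.Agent.Lib.Helper4.FibPaste
import Groth.Prelude.Def_AlgSt2
set_option autoImplicit false
set_option backward.isDefEq.respectTransparency false
set_option backward.isDefEq.respectTransparency.types false
open CategoryTheory CategoryTheory.Functor CategoryTheory.Limits AlgebraicGeometry
universe v₅ u₅ v₄ u₄ v₃ u₃ v₂ u₂ v u₀ u

namespace Groth.Agent.Lib.helper4.AlgStRep
open Groth.Agent.FibEquiv Groth.Agent.Lib.helper4.FibPaste FibCat

variable {S : Scheme.{u}}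

theorem secHom_congr {F : AlgSp.Sp S} {U : Over S} {Φ Φ' : AlgSt.ofSp F ⥤ᵇ overCat U} (θ : Φ ≅ Φ')
    (a : (AlgSt.ofSp F).obj) : AlgSt.secHom Φ a = AlgSt.secHom Φ' a := by
  have h1 : (overCat U).p.IsHomLift (𝟙 ((AlgSt.ofSp F).p.obj a)) (appIso θ a).hom :=
    appIso_isHomLift θ a
  have h2 := IsHomLift.fac' (overCat U).p (𝟙 ((AlgSt.ofSp F).p.obj a)) (appIso θ a).hom
  have h3 : (appIso θ a).hom.left ≫ (Φ'.toFunctor.obj a).hom = (Φ.toFunctor.obj a).hom :=
    Over.w (appIso θ a).hom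
  have h4 : (appIso θ a).hom.left =
      eqToHom (Φ.w_obj a) ≫ 𝟙 _ ≫ eqToHom (Φ'.w_obj a).symm := h2
  unfold AlgSt.secHom
  rw [← h3, h4]
  simp

theorem spMapOfOver_congr {F : AlgSp.Sp S} {U : Over S} {Φ Φ' : AlgSt.ofSp F ⥤ᵇ overCat U}
    (θ : Φ ≅ Φ') : AlgSt.spMapOfOver Φ = AlgSt.spMapOfOver Φ' := by
  apply ObjectProperty.hom_ext
  ext T x
  apply ULift.ext
  exact secHom_congr θ ⟨T.unop, x⟩

section Whisker

variable {C : Type u₀} [Category.{v} C] {𝒲 : BasedCategory.{v₅, u₅} C} {𝒴 : BasedCategory.{v₃, u₃} C}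
  {𝒵 : BasedCategory.{v₄, u₄} C}

/-- Right whiskering of a based natural isomorphism. -/
def whiskerRightIso {G G' : 𝒲 ⥤ᵇ 𝒴} (β : G ≅ G') (H : 𝒴 ⥤ᵇ 𝒵) :
    BasedFunctor.comp G H ≅ BasedFunctor.comp G' H :=
  BasedNatIso.mkNatIso
    (NatIso.ofComponents (fun w => H.toFunctor.mapIso (appIso β w))
      (fun {w w'} m => by
        have := appIso_naturality β m
        change H.toFunctor.map (G.toFunctor.map m) ≫ H.toFunctor.map (appIso β w').hom =
          H.toFunctor.map (appIso β w).hom ≫ H.toFunctor.map (G'.toFunctor.map m)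
        rw [← CategoryTheory.Functor.map_comp, this, CategoryTheory.Functor.map_comp]))
    (fun w => by
      have h : 𝒴.p.IsHomLift (𝟙 (𝒲.p.obj w)) (appIso β w).hom := appIso_isHomLift β w
      change 𝒵.p.IsHomLift (𝟙 (𝒲.p.obj w)) (H.toFunctor.map (appIso β w).hom)
      infer_instance)

end Whisker

/-- Transfer of "representable by an algebraic space with property `P` over `U`" along an
equivalence over the base compatible with the projections to `(Sch/U)`. -/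
theorem repData_transfer {𝒜 : BasedCategory.{v₂, u₂} (Over S)} {ℬ : BasedCategory.{v₃, u₃} (Over S)}
    {U : Over S} (P : MorphismProperty (AlgSp.Sp S)) (Ξ : 𝒜 ⥤ᵇ ℬ) (hΞ : IsEquivOver Ξ)
    (qA : 𝒜 ⥤ᵇ overCat U) (qB : ℬ ⥤ᵇ overCat U) (θ : BasedFunctor.comp Ξ qB ≅ qA) :
    (∃ (F : AlgSp.Space S) (e : AlgSt.ofSp F.obj ⥤ᵇ 𝒜),
        IsEquivOver e ∧ P (AlgSt.spMapOfOver (BasedFunctor.comp e qA))) ↔
      (∃ (F : AlgSp.Space S) (e : AlgSt.ofSp F.obj ⥤ᵇ ℬ),
        IsEquivOver e ∧ P (AlgSt.spMapOfOver (BasedFunctor.comp e qB))) := by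
  constructor
  · rintro ⟨F, e, he, hP⟩
    refine ⟨F, BasedFunctor.comp e Ξ, isEquivOver_comp e Ξ he hΞ, ?_⟩
    have : AlgSt.spMapOfOver (BasedFunctor.comp (BasedFunctor.comp e Ξ) qB) =
        AlgSt.spMapOfOver (BasedFunctor.comp e qA) :=
      spMapOfOver_congr (whiskerLeftIso e θ)
    rw [this]
    exact hP
  · rintro ⟨F, e, he, hP⟩
    obtain ⟨Ξi, ⟨α⟩, ⟨β⟩⟩ := hΞ
    have hΞi : IsEquivOver Ξi := isEquivOver_symm α β
    refine ⟨F, BasedFunctor.comp e Ξi, isEquivOver_comp e Ξi he hΞi, ?_⟩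
    have i1 : BasedFunctor.comp (BasedFunctor.comp e Ξi) qA ≅
        BasedFunctor.comp (BasedFunctor.comp e Ξi) (BasedFunctor.comp Ξ qB) :=
      whiskerLeftIso (BasedFunctor.comp e Ξi) θ.symm
    have i2 : BasedFunctor.comp (BasedFunctor.comp e Ξi) (BasedFunctor.comp Ξ qB) ≅
        BasedFunctor.comp e qB :=
      whiskerLeftIso e (whiskerRightIso β qB)
    have : AlgSt.spMapOfOver (BasedFunctor.comp (BasedFunctor.comp e Ξi) qA) =
        AlgSt.spMapOfOver (BasedFunctor.comp e qB) :=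
      spMapOfOver_congr (i1 ≪≫ i2)
    rw [this]
    exact hP

end Groth.Agent.Lib.helper4.AlgStRep
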