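import Groth.Agent.Lib.Helper4.FibOverProd
import Groth.Agent.Lib.Helper4.AlgStDiagK4
import Groth.Agent.Lib.Helper4.AlgStCancel
import Groth.Agent.Lib.Helper4.AlgStDiagDescent
import Groth.Agent.Lib.Helper4.AlgStSmLoc
import Groth.Agent.S12789
import Groth.Agent.S12779
import Groth.Agent.S10526
import Groth.Agent.S10527
import Groth.Agent.S10530
set_option autoImplicit false
set_option backward.isDefEq.respectTransparency false
set_option backward.isDefEq.respectTransparency.types false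
set_option linter.unusedSectionVars false
set_option linter.style.haveILetI false
set_option linter.unusedVariables false
open CategoryTheory CategoryTheory.Functor CategoryTheory.Limits Opposite AlgebraicGeometry
universe u

/-! The diagonal of an algebraic stack (and of a morphism of algebraic stacks) is locally of finite type. -/

namespace Groth.Agent.Lib.helper4.AlgStDiagLFT
open Groth.Agent.FibEquiv FibCat Groth.Agent.Lib.helper4.FibPaste Groth.Agent.Lib.helper4.AlgStEquiv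
open Groth.Agent.Lib.helper4.AlgStSetoid Groth.Agent.Lib.helper4.FibSwap Groth.Agent.FibFpProj
open Groth.Agent.Lib.helper4.AlgStFpAlg Groth.Agent.Lib.helper4.AlgStDiagComp
open Groth.Agent.Lib.helper4.AlgStDiagK Groth.Agent.Lib.helper4.AlgStSource
open Groth.Agent.Lib.helper4.FibRep Groth.Agent.Lib.helper4.FibProd Groth.Agent.Lib.helper4.FibOverProd
open Groth.Agent.Lib.helper4.AlgStCancel
open Groth.Agent.Lib.helper4.AlgStSmLoc
open Groth.Agent.Lib.helper5.LocPBC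

variable {S : Scheme.{u}}

section PairK

variable {𝒳 : AlgSt.Cat S} (h𝒳 : IsFibGrpd 𝒳.p) {V U : Over S}
  (H : overCat V ⥤ᵇ 𝒳) (G : overCat U ⥤ᵇ 𝒳)
include h𝒳

/-- `(H ∘ pr₁, G ∘ pr₂) : V × U ⟶ 𝒳 × 𝒳` has `P` if `H` and `G` have `P` -/
theorem repByAlgSpWith_pairK (P : MorphismProperty (AlgSp.Sp S))
    (hPb : ∀ ⦃X₁ Y₁ X₂ Y₂ : AlgSp.Sp S⦄, AlgSp.IsAlgSpace X₁ → AlgSp.IsAlgSpace Y₁ → AlgSp.IsAlgSpace X₂ →
      AlgSp.IsAlgSpace Y₂ → ∀ (a : X₁ ⟶ Y₁) (b : Y₂ ⟶ Y₁) (a' : X₂ ⟶ Y₂) (b' : X₂ ⟶ X₁),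
      IsPullback b' a' a b → P a → P a')
    (hPc : ∀ ⦃X Y Z : AlgSp.Sp S⦄, AlgSp.IsAlgSpace X → AlgSp.IsAlgSpace Y → AlgSp.IsAlgSpace Z →
      ∀ (a : X ⟶ Y) (b : Y ⟶ Z), P a → P b → P (a ≫ b))
    (hP : AlgSp.IsLocalOnBase AlgSp.IsFppfCover P)
    (hH : AlgSt.RepByAlgSpWith P H) (hG : AlgSt.RepByAlgSpWith P G) :
    AlgSt.RepByAlgSpWith P (pairK H G) := by
  have hV : IsFibGrpd (overCat V).p := Groth.Agent.FibOver.isFibGrpd_overCat V
  have hU : IsFibGrpd (overCat U).p := Groth.Agent.FibOver.isFibGrpd_overCat U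
  have h1 : AlgSt.RepByAlgSpWith P (prodMapE H G (canIso H G)) :=
    Groth.Agent.S12789.result hV hU h𝒳 h𝒳 P hPb hPc hP H G hH hG (canIso H G)
  have h2 : AlgSt.RepByAlgSpWith P (BasedFunctor.comp (toPrd V U) (prodMapE H G (canIso H G))) :=
    (repByAlgSpWith_precomp_iff P _ (toPrd V U) (toPrd_isEquivOver V U)).1 h1
  exact (repByAlgSpWith_congr P (pairKIso H G)).2 h2

/-- `V ×_𝒳 U ⟶ V × U` is locally of finite type when `G : U ⟶ 𝒳` is -/
theorem lft_fpFst_pairK (hG : AlgSt.RepByAlgSpWith (AlgSp.LocP @LocallyOfFiniteType) G) :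
    AlgSt.RepByAlgSpWith (AlgSp.LocP @LocallyOfFiniteType) (fpFst (pairK H G) (Δ 𝒳)) := by
  have hV : IsFibGrpd (overCat V).p := Groth.Agent.FibOver.isFibGrpd_overCat V
  have hU : IsFibGrpd (overCat U).p := Groth.Agent.FibOver.isFibGrpd_overCat U
  have hVU : IsFibGrpd (overCat (V ⨯ U)).p := Groth.Agent.FibOver.isFibGrpd_overCat _
  have hsq : IsFibGrpd (sq 𝒳).p := isFibGrpd_fp _ _ h𝒳 h𝒳 isFibGrpd_selfOver
  have hfp : IsFibGrpd (fp (pairK H G) (Δ 𝒳)).p := isFibGrpd_fp _ _ hVU h𝒳 hsq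
  have h1 : AlgSt.RepByAlgSpWith (AlgSp.LocP @LocallyOfFiniteType) (fpFst H G) :=
    Groth.Agent.S12779.result hU h𝒳 hV _ G H hG
  have h2 : AlgSt.RepByAlgSpWith (AlgSp.LocP @LocallyOfFiniteType)
      (BasedFunctor.comp (compare H G) (fpFst H G)) :=
    (repByAlgSpWith_precomp_iff _ _ (compare H G) (compare_isEquivOver H G)).1 h1
  have h3 : AlgSt.RepByAlgSpWith (AlgSp.LocP @LocallyOfFiniteType)
      (BasedFunctor.comp (fpFst (pairK H G) (Δ 𝒳)) (prj₁ V U)) := h2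
  have h4 : AlgSt.RepByAlgSp1 (prj₁ V U) :=
    Groth.Agent.S12775.result hVU hV (repByAlgSp_overCat _) (repByAlgSp_overCat _) _
  exact repByAlgSpWith_of_comp hfp hVU hV (fpFst (pairK H G) (Δ 𝒳)) (prj₁ V U) _
    (fun X₁ Y₁ X₂ Y₂ h1 h2 _ h4 a b a' b' sq ha => locP_of_isPullback locPData_lft h1 h2 h4 sq ha)
    (fun X Y Z _ hY _ a b ha hb =>
      Groth.Agent.H1.LocPStable.locP_comp locPData_lft.descend hY a b ha hb)
    (isLocalOnBase_fppf_of_fpqc (Groth.Agent.S10526.result S)) h3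
    (lft_diag_of_repByAlgSp1 _ h4)

end PairK

/-- smooth ⇒ flat -/
theorem flat_of_smooth {𝒳 𝒴 : AlgSt.Cat S} (f : 𝒳 ⥤ᵇ 𝒴)
    (hf : AlgSt.RepByAlgSpWith (AlgSp.LocP @Smooth) f) : AlgSt.RepByAlgSpWith (AlgSp.LocP @Flat) f :=
  repByAlgSpWith_mono f (fun F T π hπ =>
    Groth.Agent.S10265.locP_mono (fun X Y g hg => by
      have : Smooth g := hg
      exact (inferInstance : Flat g)) hπ) hf

/-- smooth ⇒ locally of finite presentation -/
theorem lfp_of_smooth {𝒳 𝒴 : AlgSt.Cat S} (f : 𝒳 ⥤ᵇ 𝒴)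
    (hf : AlgSt.RepByAlgSpWith (AlgSp.LocP @Smooth) f) :
    AlgSt.RepByAlgSpWith (AlgSp.LocP @LocallyOfFinitePresentation) f :=
  repByAlgSpWith_mono f (fun F T π hπ =>
    Groth.Agent.S10265.locP_mono (fun X Y g hg => by
      have : Smooth g := hg
      exact (inferInstance : LocallyOfFinitePresentation g)) hπ) hf

/-- smooth ⇒ locally of finite type -/
theorem lft_of_smooth {𝒳 𝒴 : AlgSt.Cat S} (f : 𝒳 ⥤ᵇ 𝒴)
    (hf : AlgSt.RepByAlgSpWith (AlgSp.LocP @Smooth) f) :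
    AlgSt.RepByAlgSpWith (AlgSp.LocP @LocallyOfFiniteType) f :=
  repByAlgSpWith_mono f (fun F T π hπ =>
    Groth.Agent.S10265.locP_mono (fun X Y g hg => by
      have : Smooth g := hg
      exact (inferInstance : LocallyOfFiniteType g)) hπ) hf

/-- S12938: the diagonal of an algebraic stack is locally of finite type -/
theorem lft_diag_toSelf {𝒳 : AlgSt.Cat S} (h𝒳 : AlgSt.IsAlgStack Scheme.fppfPrecoverage 𝒳) :
    AlgSt.RepByAlgSpWith (AlgSp.LocP @LocallyOfFiniteType) (FibCat.diag (toSelf 𝒳)) := by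
  obtain ⟨U, x, hx, hxs⟩ := h𝒳.atlas
  have h𝒳' : IsFibGrpd 𝒳.p := h𝒳.isStack.1
  have hsq : IsFibGrpd (sq 𝒳).p := isFibGrpd_fp _ _ h𝒳' h𝒳' isFibGrpd_selfOver
  have hUU : IsFibGrpd (overCat (U ⨯ U)).p := Groth.Agent.FibOver.isFibGrpd_overCat _
  have hz₁ : AlgSt.RepByAlgSpWith (AlgSp.LocP @Flat) (pairK x x) :=
    repByAlgSpWith_pairK h𝒳' x x _
      (fun X₁ Y₁ X₂ Y₂ h1 h2 _ h4 a b a' b' sq ha => locP_of_isPullback locPData_flat h1 h2 h4 sq ha)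
      (fun X Y Z _ hY _ a b ha hb =>
        Groth.Agent.H1.LocPStable.locP_comp locPData_flat.descend hY a b ha hb)
      (isLocalOnBase_fppf_of_fpqc (Groth.Agent.S10530.result S))
      (flat_of_smooth x hx) (flat_of_smooth x hx)
  have hz₂ : AlgSt.RepByAlgSpWith (AlgSp.LocP @LocallyOfFinitePresentation) (pairK x x) :=
    repByAlgSpWith_pairK h𝒳' x x _
      (fun X₁ Y₁ X₂ Y₂ h1 h2 _ h4 a b a' b' sq ha => locP_of_isPullback locPData_lfp h1 h2 h4 sq ha)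
      (fun X Y Z _ hY _ a b ha hb =>
        Groth.Agent.H1.LocPStable.locP_comp locPData_lfp.descend hY a b ha hb)
      (isLocalOnBase_fppf_of_fpqc (Groth.Agent.S10527.result S))
      (lfp_of_smooth x hx) (lfp_of_smooth x hx)
  have hz₃ : AlgSt.RepByAlgSpWith AlgSp.IsSurjectiveMor (pairK x x) :=
    repByAlgSpWith_pairK h𝒳' x x _
      (fun X₁ Y₁ X₂ Y₂ _ _ _ _ a b a' b' sq ha z => by
        obtain ⟨x, hx⟩ := ha (AlgSp.Points.map b z)
        obtain ⟨w, -, hw⟩ := Groth.Agent.Lib.helper10.exists_point_of_isPullback sq x z hx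
        exact ⟨w, hw⟩)
      (fun X Y Z _ _ _ a b ha hb z => by
        obtain ⟨y, hy⟩ := hb z
        obtain ⟨x, hx⟩ := ha y
        exact ⟨x, by rw [AlgSp.Points.map_comp, hx, hy]⟩)
      isLocalOnBase_isSurjectiveMor hxs hxs
  exact Groth.Agent.Lib.helper4.AlgStDescent.descent h𝒳' hsq hUU _
    (fun X₁ Y₁ X₂ Y₂ h1 h2 _ h4 a b a' b' sq ha => locP_of_isPullback locPData_lft h1 h2 h4 sq ha)
    (isLocalOnBase_fppf_of_fpqc (Groth.Agent.S10526.result S)) (FibCat.diag (toSelf 𝒳)) h𝒳.diag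
    (pairK x x) hz₁ hz₂ hz₃ (lft_fpFst_pairK h𝒳' x x (lft_of_smooth x hx))

/-- S12939: the diagonal of a morphism of algebraic stacks is locally of finite type -/
theorem lft_diag {𝒳 𝒴 : AlgSt.Cat S} (h𝒳 : AlgSt.IsAlgStack Scheme.fppfPrecoverage 𝒳)
    (h𝒴 : AlgSt.IsAlgStack Scheme.fppfPrecoverage 𝒴) (f : 𝒳 ⥤ᵇ 𝒴) :
    AlgSt.RepByAlgSpWith (AlgSp.LocP @LocallyOfFiniteType) (FibCat.diag f) := by
  have hι : AlgSt.RepByAlgSp1 (MagicSq.ι f f (toSelf 𝒴) (compIso f (toSelf 𝒴))) :=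
    (repByAlgSp1_iff_top _).2 (Groth.Agent.Lib.helper4.AlgStMagic.repByAlgSpWith_fpComparison ⊤ f f (toSelf 𝒴)
      (compIso f (toSelf 𝒴)) (compIso_app f (toSelf 𝒴)) ((repByAlgSp1_iff_top _).1 h𝒴.diag))
  have e : BasedFunctor.comp f (toSelf 𝒴) = toSelf 𝒳 := Groth.Agent.Lib.helper4.FibRep.toSelf_unique _ _
  have h1 : AlgSt.RepByAlgSpWith (AlgSp.LocP @LocallyOfFiniteType)
      (FibCat.diag (BasedFunctor.comp f (toSelf 𝒴))) := by
    rw [e]; exact lft_diag_toSelf h𝒳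
  exact diag_of_comp f (toSelf 𝒴) h𝒳.isStack.1 h𝒴.isStack.1 isFibGrpd_selfOver _
    (fun X₁ Y₁ X₂ Y₂ h1 h2 _ h4 a b a' b' sq ha => locP_of_isPullback locPData_lft h1 h2 h4 sq ha)
    (fun X Y Z _ hY _ a b ha hb =>
      Groth.Agent.H1.LocPStable.locP_comp locPData_lft.descend hY a b ha hb)
    (isLocalOnBase_fppf_of_fpqc (Groth.Agent.S10526.result S)) h1
    (lft_diag_of_repByAlgSp1 _ hι)

/-- S12964: a section of a morphism of algebraic stacks is locally of finite type -/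
theorem lft_section {𝒳 𝒯 : AlgSt.Cat S} (h𝒳 : AlgSt.IsAlgStack Scheme.fppfPrecoverage 𝒳)
    (h𝒯 : AlgSt.IsAlgStack Scheme.fppfPrecoverage 𝒯) (f : 𝒳 ⥤ᵇ 𝒯) (s : 𝒯 ⥤ᵇ 𝒳)
    (e : BasedFunctor.comp s f ≅ BasedFunctor.id 𝒯) :
    AlgSt.RepByAlgSpWith (AlgSp.LocP @LocallyOfFiniteType) s :=
  Groth.Agent.Lib.helper4.AlgStGraph.repByAlgSpWith_section _ f s e (lft_diag h𝒳 h𝒯 f)

end Groth.Agent.Lib.helper4.AlgStDiagLFT
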