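import Groth.Agent.Lib.Helper4.AlgStPts6
set_option autoImplicit false
set_option backward.isDefEq.respectTransparency false
set_option backward.isDefEq.respectTransparency.types false
set_option linter.unusedSectionVars false
set_option linter.style.haveILetI false
set_option linter.unusedVariables false
open CategoryTheory CategoryTheory.Functor CategoryTheory.Limits Opposite AlgebraicGeometry
universe u

/-! Morphisms of schemes as functors of slices; lifting atlases along morphisms of algebraic stacks. -/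

namespace Groth.Agent.Lib.helper4.AlgStPts
open Groth.Agent.FibEquiv Groth.Agent.FibYoneda Groth.Agent.FibFpProj Stk FibCat
open Groth.Agent.Lib.helper4.Descent Groth.Agent.Lib.helper4.PshDict Groth.Agent.Lib.helper4.FibPaste
open Groth.Agent.Lib.helper4.AlgStEquiv Groth.Agent.Lib.helper4.PshRep Groth.Agent.Lib.helper4.PshPB
open Groth.Agent.Lib.helper4.FibSwap Groth.Agent.Lib.helper4.AlgStSetoid Groth.Agent.Lib.helper4.AlgStCoreA
open Groth.Agent.Lib.helper4.AlgStDescent Groth.Agent.Lib.helper4.AlgStSource Groth.Agent.Lib.helper4.AlgStDM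
open Groth.Agent.Lib.helper4.AlgStSmLoc Groth.Agent.Lib.helper4.PointsBasic Groth.Agent.Lib.helper4.AlgStRep
open AlgSt

variable {S : Scheme.{u}}

/-- a morphism of schemes with `P` gives a morphism of sheaves with `P` on all charts -/
theorem locP_yon_map_of {P : MorphismProperty Scheme.{u}} (hP : Groth.Agent.Lib.helper5.LocPBC.LocPData P)
    {U V : Over S} (g : U ⟶ V) (h : P g.left) : AlgSp.LocP P ((AlgSp.yon S).map g) := by
  intro A B a b k ha hb hsq
  obtain ⟨a', rfl⟩ := (AlgSp.yon S).map_surjective a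
  obtain ⟨b', rfl⟩ := (AlgSp.yon S).map_surjective b
  have ha' : Etale a'.left := (AlgSp.repWith_yon_map_iff @Etale a').1 ha
  have hb' : Etale b'.left := (AlgSp.repWith_yon_map_iff @Etale b').1 hb
  have e : a' ≫ g = k ≫ b' := (AlgSp.yon S).map_injective (by simpa using hsq)
  have h1 : P (a'.left ≫ g.left) := hP.pre _ _ ha' h
  have h2 : P (k.left ≫ b'.left) := by
    rw [← Over.comp_left, ← e]; exact h1
  exact hP.cancel _ _ hb' h2

theorem repBySpWith_locP_of {P : MorphismProperty Scheme.{u}} (hP : Groth.Agent.Lib.helper5.LocPBC.LocPData P)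
    {U V : Over S} (g : U ⟶ V) (h : P g.left) : AlgSp.RepBySpWith (AlgSp.LocP P) ((AlgSp.yon S).map g).hom := by
  rw [AlgSp.repBySpWith_hom_iff]
  intro T ξ F' fst snd sq
  have hF' : AlgSp.IsAlgSpace F' :=
    (AlgSp.repBySp_hom_iff _).1 (AlgSp.Representable.repBySp (AlgSp.representable_yon_map g)) ξ fst snd sq
  exact ⟨hF', Groth.Agent.Lib.helper5.LocPBC.locP_of_isPullback hP (AlgSp.IsAlgSpace.yon_obj U)
    (AlgSp.IsAlgSpace.yon_obj V) (AlgSp.IsAlgSpace.yon_obj T) sq (locP_yon_map_of hP g h)⟩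

theorem locP_overMap {P : MorphismProperty Scheme.{u}} (hP : Groth.Agent.Lib.helper5.LocPBC.LocPData P)
    {U V : Over S} (g : U ⟶ V) (h : P g.left) : AlgSt.RepByAlgSpWith (AlgSp.LocP P) (AlgSt.overMap g) :=
  repByAlgSpWith_overMap _ g (repBySpWith_locP_of hP g h)

theorem surj_overMap {U V : Over S} (g : U ⟶ V) (h : Surjective g.left) :
    AlgSt.RepByAlgSpWith AlgSp.IsSurjectiveMor (AlgSt.overMap g) :=
  repByAlgSpWith_overMap _ g (repBySpWith_isSurjectiveMor _ ((AlgSp.repWith_yon_map_iff @Surjective g).2 h))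

/-- S12773: atlases lift along morphisms of algebraic stacks -/
theorem exists_chart_over {𝒳 𝒴 : AlgSt.Cat S} (h𝒳 : IsFibGrpd 𝒳.p) (h𝒴 : IsFibGrpd 𝒴.p)
    (hat : AlgSt.HasAtlas (AlgSp.LocP @Smooth) 𝒳)
    (f : 𝒳 ⥤ᵇ 𝒴) (V : Over S) (y : FibCat.overCat V ⥤ᵇ 𝒴)
    (hy : AlgSt.RepByAlgSpWith (AlgSp.LocP @Smooth) y) (hy' : AlgSt.RepByAlgSpWith AlgSp.IsSurjectiveMor y) :
    ∃ (U : Over S) (a : U ⟶ V) (x : FibCat.overCat U ⥤ᵇ 𝒳),
      AlgSt.RepByAlgSpWith (AlgSp.LocP @Smooth) x ∧ AlgSt.RepByAlgSpWith AlgSp.IsSurjectiveMor x ∧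
        Nonempty (BasedFunctor.comp x f ≅ BasedFunctor.comp (AlgSt.overMap a) y) := by
  obtain ⟨U₀, x₀, hx₀, hxs₀⟩ := hat
  obtain ⟨W, a, b, ⟨i⟩, -, hP, -, hS, -⟩ :=
    exists_chart_fp h𝒴 y (Groth.Agent.Lib.helper4.AlgStFull.repByAlgSp1_of_with _ _ hy) (BasedFunctor.comp x₀ f)
  have hb1 : Smooth b.left := hP _ hy
  have hb2 : Surjective b.left := hS hy'
  have hW : IsFibGrpd (overCat W).p := Groth.Agent.FibOver.isFibGrpd_overCat W
  have hU₀ : IsFibGrpd (overCat U₀).p := Groth.Agent.FibOver.isFibGrpd_overCat U₀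
  exact ⟨W, a, BasedFunctor.comp (AlgSt.overMap b) x₀,
    smooth_comp hW hU₀ h𝒳 _ _ (locP_overMap Groth.Agent.Lib.helper5.LocPBC.locPData_smooth b hb1) hx₀,
    surj_comp hW hU₀ h𝒳 _ _ (surj_overMap b hb2) hxs₀, ⟨i⟩⟩

end Groth.Agent.Lib.helper4.AlgStPts
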