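import Groth.Agent.Lib.Helper4.DiagBC
set_option autoImplicit false
set_option backward.isDefEq.respectTransparency false
set_option backward.isDefEq.respectTransparency.types false
open CategoryTheory CategoryTheory.Functor CategoryTheory.Limits
universe v₇ u₇ v₆ u₆ v₅ u₅ v₄ u₄ v₃ u₃ v₂ u₂ v u

/-! The swap equivalence `𝒳 ×_𝒮 𝒴 ≃ 𝒴 ×_𝒮 𝒳` over `C`. -/

namespace Groth.Agent.Lib.helper4.FibSwap
open Groth.Agent.FibEquiv Groth.Agent.Lib.helper4.FibPaste Groth.Agent.Lib.helper4.DiagBC FibCat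

variable {C : Type u} [Category.{v} C]
  {𝒳 : BasedCategory.{v₂, u₂} C} {𝒴 : BasedCategory.{v₃, u₃} C} {𝒮 : BasedCategory.{v₄, u₄} C}
  (F : 𝒳 ⥤ᵇ 𝒮) (G : 𝒴 ⥤ᵇ 𝒮)

theorem isEquivOver_id' (𝒲 : BasedCategory.{v₅, u₅} C) : IsEquivOver (BasedFunctor.id 𝒲) :=
  ⟨BasedFunctor.id 𝒲, ⟨Iso.refl _⟩, ⟨Iso.refl _⟩⟩

/-- the swap functor -/
def fpSwap : fp F G ⥤ᵇ fp G F := fpLift (fpSnd F G) (fpFst F G) (fpIso F G).symm

theorem fpSwap_obj_iso_hom (b : (fp F G).obj) :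
    ((fpSwap F G).toFunctor.obj b).obj.iso.hom = b.obj.iso.inv := rfl

instance fpSwap_faithful : (fpSwap F G).toFunctor.Faithful where
  map_injective {b b'} m m' h := by
    have h1 : ((fpSwap F G).toFunctor.map m).hom.snd = ((fpSwap F G).toFunctor.map m').hom.snd := by
      rw [h]
    have h2 : ((fpSwap F G).toFunctor.map m).hom.fst = ((fpSwap F G).toFunctor.map m').hom.fst := by
      rw [h]
    exact fp_hom_ext F G h1 h2

instance fpSwap_full : (fpSwap F G).toFunctor.Full where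
  map_surjective {b b'} n := by
    let n₁ : b.obj.snd ⟶ b'.obj.snd := n.hom.fst
    let n₂ : b.obj.fst ⟶ b'.obj.fst := n.hom.snd
    have hw : G.toFunctor.map n₁ ≫ b'.obj.iso.inv = b.obj.iso.inv ≫ F.toFunctor.map n₂ := n.hom.w
    refine ⟨fpHomMk F G n₂ n₁ ?_, ?_⟩
    · rw [← cancel_epi b.obj.iso.inv, ← Category.assoc, ← hw]
      simp
    · apply fp_hom_ext
      · rfl
      · rfl

theorem fpSwap_isEquivOver : IsEquivOver (fpSwap F G) := by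
  apply isEquivOver_of
  intro c
  have hc : 𝒮.p.IsHomLift (𝟙 (𝒴.p.obj c.obj.fst)) c.obj.iso.hom := fp_iso_isHomLift _ _ c
  have hc' : 𝒮.p.IsHomLift (𝟙 (𝒴.p.obj c.obj.fst)) c.obj.iso.inv := IsHomLift.lift_id_inv _ _ _
  have he : 𝒴.p.obj c.obj.fst = 𝒳.p.obj c.obj.snd := (fp_snd_obj G F c).symm
  have hc'' : 𝒮.p.IsHomLift (𝟙 (𝒳.p.obj c.obj.snd)) c.obj.iso.inv := isHomLift_of_eq 𝒮.p he _
  let b : (fp F G).obj := ⟨⟨c.obj.snd, c.obj.fst, c.obj.iso.symm⟩, hc''⟩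
  refine ⟨b, fpIsoMk G F (Iso.refl c.obj.fst) (Iso.refl c.obj.snd) ?_, ?_⟩
  · change G.toFunctor.map (𝟙 _) ≫ c.obj.iso.hom = c.obj.iso.hom ≫ F.toFunctor.map (𝟙 _)
    simp
  · apply Groth.Agent.FibFp.lift_to
    change 𝒴.p.IsHomLift (𝟙 (𝒴.p.obj c.obj.fst)) (𝟙 c.obj.fst)
    infer_instance

end Groth.Agent.Lib.helper4.FibSwap
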