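import Groth.Agent.Lib.Helper4.PshDict
set_option autoImplicit false
set_option backward.isDefEq.respectTransparency false
set_option backward.isDefEq.respectTransparency.types false
set_option linter.unusedSectionVars false
set_option linter.style.haveILetI false
open CategoryTheory CategoryTheory.Functor CategoryTheory.Limits Opposite
universe w' w v₄ u₄ v₃ u₃ v₂ u₂ v u

/-! The slice `C/U` is the category of the representable presheaf `h_U`; functors `C/U ⥤ᵇ ofPsh G` are sections of `G`. -/

namespace Groth.Agent.Lib.helper4.PshDict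
open Groth.Agent.FibEquiv Groth.Agent.FibYoneda Stk

variable {C : Type u} [Category.{v} C] (U : C)

/-- `C/U ⟶ ofPsh h_U` -/
def toYon : FibCat.overCat U ⥤ᵇ ofPsh (uliftYoneda.{w}.obj U) where
  toFunctor :=
    { obj := fun a => ⟨a.left, ⟨a.hom⟩⟩
      map := fun {a b} k => ⟨k.left, by
        apply ULift.ext
        change k.left ≫ b.hom = a.hom
        exact Over.w k⟩
      map_id := fun a => by apply EltObj.hom_ext; rfl
      map_comp := fun k l => by apply EltObj.hom_ext; rfl }
  w := rfl

theorem toYon_obj (a : Over U) : (toYon.{w} U).obj a = ⟨a.left, ⟨a.hom⟩⟩ := rfl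

instance toYon_full : (toYon.{w} U).toFunctor.Full where
  map_surjective := fun {a b} m => by
    have h : m.hom ≫ b.hom = a.hom := congrArg ULift.down m.map_sec
    exact ⟨Over.homMk m.hom h, by apply EltObj.hom_ext; rfl⟩

instance toYon_faithful : (toYon.{w} U).toFunctor.Faithful where
  map_injective := fun {a b} k l h => by
    apply Over.OverMorphism.ext
    exact congrArg EltObj.Hom.hom h

theorem toYon_isEquivOver : FibCat.IsEquivOver (toYon.{w} U) := by
  apply isEquivOver_of
  intro e
  exact ⟨Over.mk e.sec.down, Iso.refl _, IsHomLift.id rfl⟩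

variable {U}

/-- the map `h_U ⟶ G` of a section -/
def yonMap {G : Cᵒᵖ ⥤ Type (max w v)} (s : G.obj (op U)) : uliftYoneda.{w}.obj U ⟶ G :=
  uliftYonedaEquiv.{w}.symm s

theorem yonMap_app {G : Cᵒᵖ ⥤ Type (max w v)} (s : G.obj (op U)) (T : C) (f : T ⟶ U) :
    (yonMap.{w} s).app (op T) ⟨f⟩ = G.map f.op s := rfl

theorem secOf_toYon (a : Over U) : secOf (toYon.{w} U) a = ⟨a.hom⟩ := by
  unfold secOf
  exact eqToHom_op_refl_apply _ _ _

/-- a functor `C/U ⥤ᵇ ofPsh G` is the functor of the section it names at the identity -/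
def isoYon {G : Cᵒᵖ ⥤ Type (max w v)} (y : FibCat.overCat U ⥤ᵇ ofPsh G) :
    y ≅ BasedFunctor.comp (toYon.{w} U) (ofPshMap (yonMap.{w} (secOf y (Over.mk (𝟙 U))))) :=
  isoOfSecEq _ _ (fun a => by
    rw [secOf_comp, pshMapOf_ofPshMap, secOf_toYon]
    have := secOf_map y (toId a)
    exact this.symm)

/-- sections of the functor of a map `ξ : h_U ⟶ G` -/
theorem secOf_toYon_comp {G : Cᵒᵖ ⥤ Type (max w v)} (ξ : uliftYoneda.{w}.obj U ⟶ G) (a : Over U) :
    secOf (BasedFunctor.comp (toYon.{w} U) (ofPshMap ξ)) a = ξ.app (op a.left) ⟨a.hom⟩ := by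
  rw [secOf_comp, pshMapOf_ofPshMap, secOf_toYon]
  rfl

end Groth.Agent.Lib.helper4.PshDict
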