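import Groth.Agent.Lib.Helper4.PshFp
import Groth.Agent.Lib.Helper4.PshYon
import Groth.Agent.Lib.Helper4.FibSwap
set_option autoImplicit false
set_option backward.isDefEq.respectTransparency false
set_option backward.isDefEq.respectTransparency.types false
set_option linter.unusedSectionVars false
set_option linter.style.haveILetI false
open CategoryTheory CategoryTheory.Functor CategoryTheory.Limits Opposite
universe w v u

/-! In any category with fibre products, the functor `C/X ⥤ C/Y` of a morphism is a representable 1-morphism. -/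

namespace Groth.Agent.Lib.helper4.PshRepGen
open Groth.Agent.FibEquiv Groth.Agent.FibYoneda Groth.Agent.FibFpProj Stk FibCat
open Groth.Agent.Lib.helper4.Descent Groth.Agent.Lib.helper4.PshDict Groth.Agent.Lib.helper4.FibPaste
open Groth.Agent.Lib.helper4.FibSwap

variable {C : Type u} [Category.{v} C]

/-- the category of the fibre product presheaf `h_U ×_G F` is the 2-fibre product `(C/U) ×_G F` -/
theorem exists_equiv {F G X : Cᵒᵖ ⥤ Type (max w v)} (a : F ⟶ G) {U : C} (y : overCat U ⥤ᵇ ofPsh G)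
    (ξ : uliftYoneda.{w}.obj U ⟶ G) {fst : X ⟶ F} {snd : X ⟶ uliftYoneda.{w}.obj U}
    (hy : y ≅ BasedFunctor.comp (toYon.{w} U) (ofPshMap ξ)) (sq : IsPullback fst snd a ξ) :
    ∃ Ξ : ofPsh X ⥤ᵇ fp y (ofPshMap a), IsEquivOver Ξ := by
  let L : ofPsh X ⥤ᵇ fp (ofPshMap ξ) (ofPshMap a) := fpPshLift sq.flip.w
  have hL : IsEquivOver L := fpPshLift_isEquivOver sq.flip
  let P : fp (BasedFunctor.comp (toYon.{w} U) (ofPshMap ξ)) (ofPshMap a) ⥤ᵇ
      fp (ofPshMap ξ) (ofPshMap a) := fpPrecomp (toYon.{w} U) (ofPshMap ξ) (ofPshMap a)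
  have hP : IsEquivOver P := fpPrecomp_isEquivOver _ _ _ (toYon_isEquivOver U)
  obtain ⟨Pi, ⟨α⟩, ⟨β⟩⟩ := hP
  have hPi : IsEquivOver Pi := isEquivOver_symm α β
  let M : fp (BasedFunctor.comp (toYon.{w} U) (ofPshMap ξ)) (ofPshMap a) ⥤ᵇ fp y (ofPshMap a) :=
    fpMap (BasedFunctor.comp (toYon.{w} U) (ofPshMap ξ)) y (ofPshMap a) (ofPshMap a)
      (BasedFunctor.id _) (BasedFunctor.id _) hy.symm (Iso.refl _)
  have hM : IsEquivOver M := fpMap_isEquivOver _ _ _ _ _ _ _ _ (isEquivOver_id' _) (isEquivOver_id' _)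
  exact ⟨BasedFunctor.comp L (BasedFunctor.comp Pi M),
    isEquivOver_comp _ _ hL (isEquivOver_comp _ _ hPi hM)⟩

theorem yonMap_eq {U Y : C} (s : (uliftYoneda.{w}.obj Y).obj (op U)) :
    yonMap.{w} s = uliftYoneda.{w}.map s.down := by
  ext T g
  apply ULift.ext
  rfl

/-- `C/X ⥤ C/Y` corresponds to `h_X ⟶ h_Y` -/
def overMapIso {X Y : C} (f : X ⟶ Y) :
    BasedFunctor.comp (⟨Over.map f, Over.mapForget_eq f⟩ : overCat X ⥤ᵇ overCat Y) (toYon.{w} Y) ≅
      BasedFunctor.comp (toYon.{w} X) (ofPshMap (uliftYoneda.{w}.map f)) :=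
  isoOfSecEq _ _ (fun a => by
    refine Eq.trans ?_ (secOf_toYon_comp (uliftYoneda.{w}.map f) a).symm
    unfold secOf
    exact eqToHom_op_refl_apply _ _ _)

theorem isRepresentable1_overMap [HasPullbacks C] {X Y : C} (f : X ⟶ Y) :
    FibCat.IsRepresentable1 (⟨Over.map f, Over.mapForget_eq f⟩ : FibCat.overCat X ⥤ᵇ FibCat.overCat Y) := by
  intro U G
  let F : overCat X ⥤ᵇ overCat Y := ⟨Over.map f, Over.mapForget_eq f⟩
  let y : overCat U ⥤ᵇ ofPsh (uliftYoneda.{v}.obj Y) := BasedFunctor.comp G (toYon.{v} Y)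
  let s := secOf y (Over.mk (𝟙 U))
  let g : U ⟶ Y := s.down
  have hy : y ≅ BasedFunctor.comp (toYon.{v} U) (ofPshMap (uliftYoneda.{v}.map g)) := by
    have := isoYon.{v} y
    rw [yonMap_eq] at this
    exact this
  have sq : IsPullback (uliftYoneda.{v}.map (pullback.fst f g)) (uliftYoneda.{v}.map (pullback.snd f g))
      (uliftYoneda.{v}.map f) (uliftYoneda.{v}.map g) :=
    (IsPullback.of_hasPullback f g).map uliftYoneda.{v}
  obtain ⟨Ξ, hΞ⟩ := exists_equiv (uliftYoneda.{v}.map f) y (uliftYoneda.{v}.map g) hy sq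
  let M : fp G F ⥤ᵇ fp y (ofPshMap (uliftYoneda.{v}.map f)) :=
    fpMap G y F (ofPshMap (uliftYoneda.{v}.map f)) (toYon.{v} X) (toYon.{v} Y) (Iso.refl _) (overMapIso f)
  have hM : IsEquivOver M :=
    fpMap_isEquivOver _ _ _ _ _ _ _ _ (toYon_isEquivOver X) (toYon_isEquivOver Y)
  apply isRepresentable_of_isEquivOver M hM
  apply isRepresentable_of_isEquivOver' (BasedFunctor.comp (toYon.{v} (pullback f g)) Ξ)
    (isEquivOver_comp _ _ (toYon_isEquivOver _) hΞ)
  exact ⟨pullback f g, BasedFunctor.id _, isEquivOver_id' _⟩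

end Groth.Agent.Lib.helper4.PshRepGen
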