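import Groth.Agent.Lib.Helper4.AlgStDescent
import Groth.Agent.Lib.Helper4.AlgStPts7
import Groth.Agent.Lib.Helper4.PshRepGen
import Groth.Agent.Lib.Helper5.AlgSpLocPInst
import Groth.Agent.Lib.Helper5.AlgSpLocPInst2
set_option autoImplicit false
set_option backward.isDefEq.respectTransparency false
set_option backward.isDefEq.respectTransparency.types false
set_option linter.unusedSectionVars false
set_option linter.style.haveILetI false
set_option linter.unusedVariables false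
open CategoryTheory CategoryTheory.Functor CategoryTheory.Limits Opposite AlgebraicGeometry
universe u

/-! Descent of properties of morphisms representable by algebraic spaces along a family of flat, locally finitely
presented, jointly surjective morphisms of schemes (the family version of `AlgStDescent.descent`). -/

namespace Groth.Agent.Lib.helper4.AlgStDescentFam
open Groth.Agent.FibEquiv Groth.Agent.FibYoneda Groth.Agent.FibFpProj Stk FibCat
open Groth.Agent.Lib.helper4.Descent Groth.Agent.Lib.helper4.PshDict Groth.Agent.Lib.helper4.FibPaste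
open Groth.Agent.Lib.helper4.AlgStEquiv Groth.Agent.Lib.helper4.PshRep Groth.Agent.Lib.helper4.PshPB
open Groth.Agent.Lib.helper4.FibSwap Groth.Agent.Lib.helper4.AlgStSetoid Groth.Agent.Lib.helper4.AlgStCoreA
open Groth.Agent.Lib.helper4.AlgStDescent

variable {S : Scheme.{u}}

/-- the pullback square of sheaves attached to the restriction of a chart along a morphism of schemes -/
theorem isPullback_overMap {𝒳 𝒴 : AlgSt.Cat S} (f : 𝒳 ⥤ᵇ 𝒴) {U V : Over S} (h : V ⟶ U) (y : overCat U ⥤ᵇ 𝒴)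
    {X T : AlgSp.Sp S} (eX : AlgSt.ofSp X ⥤ᵇ fp y f) (heX : IsEquivOver eX)
    (eT : AlgSt.ofSp T ⥤ᵇ fp (BasedFunctor.comp (AlgSt.overMap h) y) f) (heT : IsEquivOver eT) :
    ∃ q : T ⟶ X, IsPullback q
      (AlgSt.spMapOfOver (BasedFunctor.comp eT (fpFst (BasedFunctor.comp (AlgSt.overMap h) y) f)))
      (AlgSt.spMapOfOver (BasedFunctor.comp eX (fpFst y f))) ((AlgSp.yon S).map h) := by
  obtain ⟨eXi, ⟨αX⟩, ⟨βX⟩⟩ := id heX
  have heXi : IsEquivOver eXi := isEquivOver_symm αX βX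
  obtain ⟨PLi, ⟨αL⟩, ⟨βL⟩⟩ := pasteL_isEquivOver (AlgSt.overMap h) y f
  have hPLi : IsEquivOver PLi := isEquivOver_symm αL βL
  let α : ((AlgSp.yon S).obj V).obj ⟶ ((AlgSp.yon S).obj U).obj := ((AlgSp.yon S).map h).hom
  let B : AlgSt.ofSp X ⥤ᵇ overCat U := BasedFunctor.comp eX (fpFst y f)
  let β : X.obj ⟶ ((AlgSp.yon S).obj U).obj := pshMapOf (BasedFunctor.comp B (toYon.{u + 1} U))
  let θ : BasedFunctor.comp (AlgSt.overMap h) (toYon.{u + 1} U) ≅
      BasedFunctor.comp (toYon.{u + 1} V) (ofPshMap α) :=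
    Groth.Agent.Lib.helper4.PshRepGen.overMapIso.{u + 1} h
  let ε : BasedFunctor.comp (fpFst y f) (toYon.{u + 1} U) ≅ BasedFunctor.comp eXi (ofPshMap β) :=
    (Groth.Agent.Lib.helper4.AlgStRep.whiskerRightIso βX
      (BasedFunctor.comp (fpFst y f) (toYon.{u + 1} U))).symm ≪≫
      whiskerLeftIso eXi (isoOfPshMap (BasedFunctor.comp B (toYon.{u + 1} U)))
  let M : fp (AlgSt.overMap h) (fpFst y f) ⥤ᵇ
      fp (BasedFunctor.comp (toYon.{u + 1} V) (ofPshMap α)) (ofPshMap β) :=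
    fpMap (AlgSt.overMap h) (BasedFunctor.comp (toYon.{u + 1} V) (ofPshMap α)) (fpFst y f) (ofPshMap β)
      eXi (toYon.{u + 1} U) θ ε
  have hM : IsEquivOver M := fpMap_isEquivOver _ _ _ _ _ _ _ _ heXi (toYon_isEquivOver U)
  let PC : fp (BasedFunctor.comp (toYon.{u + 1} V) (ofPshMap α)) (ofPshMap β) ⥤ᵇ
      fp (ofPshMap α) (ofPshMap β) := fpPrecomp (toYon.{u + 1} V) (ofPshMap α) (ofPshMap β)
  have hPC : IsEquivOver PC := fpPrecomp_isEquivOver _ _ _ (toYon_isEquivOver V)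
  let Ξ : AlgSt.ofSp T ⥤ᵇ fp (ofPshMap α) (ofPshMap β) :=
    BasedFunctor.comp eT (BasedFunctor.comp PLi (BasedFunctor.comp M PC))
  have hΞ : IsEquivOver Ξ :=
    isEquivOver_comp _ _ heT (isEquivOver_comp _ _ hPLi (isEquivOver_comp _ _ hM hPC))
  have sq := isPullback_of_isEquivOver Ξ hΞ
  have hfst : pshMapOf (BasedFunctor.comp Ξ (fpFst (ofPshMap α) (ofPshMap β))) =
      pshMapOf (BasedFunctor.comp (BasedFunctor.comp eT (fpFst (BasedFunctor.comp (AlgSt.overMap h) y) f))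
        (toYon.{u + 1} V)) := by
    apply pshMapOf_congr
    exact whiskerLeftIso eT (Groth.Agent.Lib.helper4.AlgStRep.whiskerRightIso βL
      (BasedFunctor.comp (fpFst (BasedFunctor.comp (AlgSt.overMap h) y) f) (toYon.{u + 1} V)))
  rw [hfst] at sq
  refine ⟨ObjectProperty.homMk (pshMapOf (BasedFunctor.comp Ξ (fpSnd (ofPshMap α) (ofPshMap β)))), ?_⟩
  apply IsPullback.of_map_of_faithful (sheafToPresheaf (AlgSp.J S) (Type (u + 1)))
  change IsPullback (pshMapOf (BasedFunctor.comp Ξ (fpSnd (ofPshMap α) (ofPshMap β))))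
    (AlgSt.spMapOfOver (BasedFunctor.comp eT (fpFst (BasedFunctor.comp (AlgSt.overMap h) y) f))).hom
    (AlgSt.spMapOfOver (BasedFunctor.comp eX (fpFst y f))).hom ((AlgSp.yon S).map h).hom
  rw [spMapOfOver_hom, spMapOfOver_hom]
  exact sq.flip

/-- a covering sieve of the fppf topology contains, through every point, a flat locally finitely presented
morphism -/
theorem exists_fppf_mem_of_mem_fppfTopology {X : Scheme.{u}} (R : Sieve X)
    (hR : R ∈ Scheme.fppfTopology X) (x : ↥X) :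
    ∃ (Y : Scheme.{u}) (f : Y ⟶ X) (y : ↥Y), R f ∧ Flat f ∧ LocallyOfFinitePresentation f ∧ f y = x := by
  have : Scheme.fppfPrecoverage.{u}.HasIsos :=
    ⟨fun f _ => f.singleton_mem_fppfPrecoverage⟩
  have : Scheme.fppfPrecoverage.{u}.HasPullbacks := ⟨fun f _ => inferInstance⟩
  obtain ⟨R', hR', hle⟩ := Precoverage.mem_toGrothendieck_iff_of_isStableUnderComposition.1 hR
  obtain ⟨𝒰, rfl⟩ := R'.exists_eq_preZeroHypercover
  rw [Scheme.fppfPrecoverage, Scheme.ofArrows_mem_precoverage_iff] at hR'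
  obtain ⟨i, y, hy⟩ := hR'.1 x
  exact ⟨_, 𝒰.f i, y, hle _ _ (Presieve.ofArrows.mk i), (hR'.2 i).1, (hR'.2 i).2, hy⟩

/-- the same over `S` -/
theorem exists_fppf_mem_of_mem_J {T : Over S} (R : Sieve T)
    (hR : R ∈ QuotSh.J Scheme.fppfPrecoverage S T) (t : ↥T.left) :
    ∃ (T' : Over S) (f : T' ⟶ T) (t' : ↥T'.left), R f ∧ Flat f.left ∧ LocallyOfFinitePresentation f.left ∧
      f.left t' = t := by
  rw [GrothendieckTopology.mem_over_iff] at hR
  obtain ⟨Y, f, y, h1, h2, h3, hy⟩ := exists_fppf_mem_of_mem_fppfTopology _ hR t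
  rw [Sieve.overEquiv_iff] at h1
  exact ⟨Over.mk (f ≫ T.hom), Over.homMk f, y, h1, h2, h3, hy⟩

/-- a jointly surjective family of flat, locally finitely presented morphisms of schemes is an fppf covering of
sheaves -/
theorem isFppfCover_of_family {U : Over S} {ι : Type u} (V : ι → Over S) (h : ∀ i, V i ⟶ U)
    (h1 : ∀ i, Flat (h i).left) (h2 : ∀ i, LocallyOfFinitePresentation (h i).left)
    (h3 : ∀ u : ↥U.left, ∃ (i : ι) (v : ↥(V i).left), (h i).left v = u) :
    AlgSp.IsFppfCover (fun i => (AlgSp.yon S).obj (V i)) (fun i => (AlgSp.yon S).map (h i)) := by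
  refine ⟨fun i => ⟨Groth.Agent.Lib.helper4.AlgStPts.locP_yon_map_of
      Groth.Agent.Lib.helper5.LocPBC.locPData_flat (h i) (h1 i),
    Groth.Agent.Lib.helper4.AlgStPts.locP_yon_map_of
      Groth.Agent.Lib.helper5.LocPBC.locPData_lfp (h i) (h2 i)⟩, fun x => ?_⟩
  obtain ⟨u, rfl⟩ := (AlgSp.Points.schemeHomeo U).surjective x
  obtain ⟨i, v, hv⟩ := h3 u
  exact ⟨i, AlgSp.Points.schemeHomeo (V i) v, by rw [AlgSp.Points.map_yon_map_apply, hv]⟩

/-- **Descent along a family**: if the restrictions of a chart of `f` along a jointly surjective family of flat,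
locally finitely presented morphisms of schemes have `P`, the chart has `P` -/
theorem descent_family {𝒳 𝒴 : AlgSt.Cat S} (P : MorphismProperty (AlgSp.Sp S))
    (hP : AlgSp.IsLocalOnBase AlgSp.IsFppfCover P) (f : 𝒳 ⥤ᵇ 𝒴) {U : Over S} (y : overCat U ⥤ᵇ 𝒴)
    (X : AlgSp.Space S) (eX : AlgSt.ofSp X.obj ⥤ᵇ fp y f) (heX : IsEquivOver eX)
    {ι : Type u} (V : ι → Over S) (h : ∀ i, V i ⟶ U)
    (hcov : AlgSp.IsFppfCover (fun i => (AlgSp.yon S).obj (V i)) (fun i => (AlgSp.yon S).map (h i)))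
    (hloc : ∀ i, ∃ (T : AlgSp.Space S)
      (eT : AlgSt.ofSp T.obj ⥤ᵇ fp (BasedFunctor.comp (AlgSt.overMap (h i)) y) f), IsEquivOver eT ∧
        P (AlgSt.spMapOfOver (BasedFunctor.comp eT (fpFst (BasedFunctor.comp (AlgSt.overMap (h i)) y) f)))) :
    P (AlgSt.spMapOfOver (BasedFunctor.comp eX (fpFst y f))) := by
  choose T eT heT hPT using hloc
  have hsq := fun i => isPullback_overMap f (h i) y eX heX (eT i) (heT i)
  choose q hq using hsq
  exact (hP (fun i => (AlgSp.yon S).obj (V i)) (fun i => (AlgSp.yon S).map (h i))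
    (AlgSp.IsAlgSpace.yon_obj U) (fun i => AlgSp.IsAlgSpace.yon_obj (V i)) hcov
    (AlgSt.spMapOfOver (BasedFunctor.comp eX (fpFst y f))) X.property (fun i => (T i).obj)
    (fun i => AlgSt.spMapOfOver (BasedFunctor.comp (eT i) (fpFst (BasedFunctor.comp (AlgSt.overMap (h i)) y) f)))
    q (fun i => (T i).property) hq).2 hPT

/-- the same for a covering sieve of the fppf topology -/
theorem descent_sieve {𝒳 𝒴 : AlgSt.Cat S} (P : MorphismProperty (AlgSp.Sp S))
    (hP : AlgSp.IsLocalOnBase AlgSp.IsFppfCover P) (f : 𝒳 ⥤ᵇ 𝒴) {U : Over S} (y : overCat U ⥤ᵇ 𝒴)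
    (X : AlgSp.Space S) (eX : AlgSt.ofSp X.obj ⥤ᵇ fp y f) (heX : IsEquivOver eX)
    (R : Sieve U) (hR : R ∈ QuotSh.J Scheme.fppfPrecoverage S U)
    (hloc : ∀ ⦃V : Over S⦄ (h : V ⟶ U), R.arrows h → ∃ (T : AlgSp.Space S)
      (eT : AlgSt.ofSp T.obj ⥤ᵇ fp (BasedFunctor.comp (AlgSt.overMap h) y) f), IsEquivOver eT ∧
        P (AlgSt.spMapOfOver (BasedFunctor.comp eT (fpFst (BasedFunctor.comp (AlgSt.overMap h) y) f)))) :
    P (AlgSt.spMapOfOver (BasedFunctor.comp eX (fpFst y f))) := by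
  have hex := fun u : ↥U.left => exists_fppf_mem_of_mem_J R hR u
  choose V h v hRh h1 h2 hv using hex
  exact descent_family P hP f y X eX heX V h
    (isFppfCover_of_family V h h1 h2 (fun u => ⟨u, v u, hv u⟩)) (fun u => hloc (h u) (hRh u))

end Groth.Agent.Lib.helper4.AlgStDescentFam
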