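import Groth.Agent.Lib.Helper4.FibPaste
import Groth.Agent.FibFp
set_option autoImplicit false
set_option backward.isDefEq.respectTransparency false
set_option backward.isDefEq.respectTransparency.types false
open CategoryTheory CategoryTheory.Functor CategoryTheory.Limits
universe v₇ u₇ v₆ u₆ v₅ u₅ v₄ u₄ v₃ u₃ v₂ u₂ v u

/-! The diagonal of a base change is a base change of the diagonal (over `C`). -/

namespace Groth.Agent.Lib.helper4.DiagBC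
open Groth.Agent.FibEquiv Groth.Agent.Lib.helper4.FibPaste FibCat

variable {C : Type u} [Category.{v} C]

section Constructors

variable {𝒳 : BasedCategory.{v₂, u₂} C} {𝒴 : BasedCategory.{v₃, u₃} C} {𝒮 : BasedCategory.{v₄, u₄} C}
  (F : 𝒳 ⥤ᵇ 𝒮) (G : 𝒴 ⥤ᵇ 𝒮)

theorem fp_hom_ext {X Y : (fp F G).obj} {m m' : X ⟶ Y} (h1 : m.hom.fst = m'.hom.fst)
    (h2 : m.hom.snd = m'.hom.snd) : m = m' := by
  apply ObjectProperty.hom_ext
  apply CategoricalPullback.hom_ext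
  · exact h1
  · exact h2

/-- constructor for morphisms of `fp F G` -/
def fpHomMk {X Y : (fp F G).obj} (a : X.obj.fst ⟶ Y.obj.fst) (b : X.obj.snd ⟶ Y.obj.snd)
    (w : F.toFunctor.map a ≫ Y.obj.iso.hom = X.obj.iso.hom ≫ G.toFunctor.map b) : X ⟶ Y :=
  ObjectProperty.homMk ⟨a, b, w⟩

@[simp] theorem fpHomMk_fst {X Y : (fp F G).obj} (a : X.obj.fst ⟶ Y.obj.fst) (b : X.obj.snd ⟶ Y.obj.snd)
    (w : F.toFunctor.map a ≫ Y.obj.iso.hom = X.obj.iso.hom ≫ G.toFunctor.map b) :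
    (fpHomMk F G a b w).hom.fst = a := rfl

@[simp] theorem fpHomMk_snd {X Y : (fp F G).obj} (a : X.obj.fst ⟶ Y.obj.fst) (b : X.obj.snd ⟶ Y.obj.snd)
    (w : F.toFunctor.map a ≫ Y.obj.iso.hom = X.obj.iso.hom ≫ G.toFunctor.map b) :
    (fpHomMk F G a b w).hom.snd = b := rfl

theorem fp_comp_fst {X Y Z : (fp F G).obj} (m : X ⟶ Y) (n : Y ⟶ Z) : (m ≫ n).hom.fst = m.hom.fst ≫ n.hom.fst := rfl
theorem fp_comp_snd {X Y Z : (fp F G).obj} (m : X ⟶ Y) (n : Y ⟶ Z) : (m ≫ n).hom.snd = m.hom.snd ≫ n.hom.snd := rfl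
theorem fp_id_fst (X : (fp F G).obj) : (𝟙 X : X ⟶ X).hom.fst = 𝟙 X.obj.fst := rfl
theorem fp_id_snd (X : (fp F G).obj) : (𝟙 X : X ⟶ X).hom.snd = 𝟙 X.obj.snd := rfl

/-- constructor for isomorphisms of `fp F G` -/
def fpIsoMk {X Y : (fp F G).obj} (a : X.obj.fst ≅ Y.obj.fst) (b : X.obj.snd ≅ Y.obj.snd)
    (w : F.toFunctor.map a.hom ≫ Y.obj.iso.hom = X.obj.iso.hom ≫ G.toFunctor.map b.hom) : X ≅ Y where
  hom := fpHomMk F G a.hom b.hom w
  inv := fpHomMk F G a.inv b.inv (by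
    rw [← cancel_epi (F.toFunctor.map a.hom), ← Category.assoc, ← CategoryTheory.Functor.map_comp,
      a.hom_inv_id, CategoryTheory.Functor.map_id, Category.id_comp, ← Category.assoc, w,
      Category.assoc, ← CategoryTheory.Functor.map_comp, b.hom_inv_id,
      CategoryTheory.Functor.map_id, Category.comp_id])
  hom_inv_id := by
    apply fp_hom_ext
    · rw [fp_comp_fst, fp_id_fst, fpHomMk_fst, fpHomMk_fst, a.hom_inv_id]
    · rw [fp_comp_snd, fp_id_snd, fpHomMk_snd, fpHomMk_snd, b.hom_inv_id]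
  inv_hom_id := by
    apply fp_hom_ext
    · rw [fp_comp_fst, fp_id_fst, fpHomMk_fst, fpHomMk_fst, a.inv_hom_id]
    · rw [fp_comp_snd, fp_id_snd, fpHomMk_snd, fpHomMk_snd, b.inv_hom_id]

/-- the first component of an isomorphism of `fp F G` -/
def isoFst {X Y : (fp F G).obj} (τ : X ≅ Y) : X.obj.fst ≅ Y.obj.fst :=
  (fpFst F G).toFunctor.mapIso τ

/-- the second component of an isomorphism of `fp F G` -/
def isoSnd {X Y : (fp F G).obj} (τ : X ≅ Y) : X.obj.snd ≅ Y.obj.snd :=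
  (fpSnd F G).toFunctor.mapIso τ

@[simp] theorem isoFst_hom {X Y : (fp F G).obj} (τ : X ≅ Y) : (isoFst F G τ).hom = τ.hom.hom.fst := rfl
@[simp] theorem isoSnd_hom {X Y : (fp F G).obj} (τ : X ≅ Y) : (isoSnd F G τ).hom = τ.hom.hom.snd := rfl

end Constructors

section Psi

variable {𝒳 : BasedCategory.{v₂, u₂} C} {𝒴 : BasedCategory.{v₃, u₃} C} {𝒴' : BasedCategory.{v₄, u₄} C}
  (g : 𝒴' ⥤ᵇ 𝒴) (f : 𝒳 ⥤ᵇ 𝒴)

/-- the 2-isomorphism defining `Ψ` -/
def psiIso : BasedFunctor.comp (BasedFunctor.comp (fpFst (fpFst g f) (fpFst g f)) (fpSnd g f)) f ≅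
    BasedFunctor.comp (BasedFunctor.comp (fpSnd (fpFst g f) (fpFst g f)) (fpSnd g f)) f :=
  BasedNatIso.mkNatIso
    (NatIso.ofComponents
      (fun w => w.obj.fst.obj.iso.symm ≪≫ g.toFunctor.mapIso w.obj.iso ≪≫ w.obj.snd.obj.iso)
      (fun {w w'} m => by
        have h1 : g.toFunctor.map m.hom.fst.hom.fst ≫ w'.obj.fst.obj.iso.hom =
          w.obj.fst.obj.iso.hom ≫ f.toFunctor.map m.hom.fst.hom.snd := m.hom.fst.hom.w
        have h2 : g.toFunctor.map m.hom.snd.hom.fst ≫ w'.obj.snd.obj.iso.hom =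
          w.obj.snd.obj.iso.hom ≫ f.toFunctor.map m.hom.snd.hom.snd := m.hom.snd.hom.w
        have h3 : m.hom.fst.hom.fst ≫ w'.obj.iso.hom = w.obj.iso.hom ≫ m.hom.snd.hom.fst := m.hom.w
        change f.toFunctor.map m.hom.fst.hom.snd ≫ (w'.obj.fst.obj.iso.inv ≫
          g.toFunctor.map w'.obj.iso.hom ≫ w'.obj.snd.obj.iso.hom) =
          (w.obj.fst.obj.iso.inv ≫ g.toFunctor.map w.obj.iso.hom ≫ w.obj.snd.obj.iso.hom) ≫
            f.toFunctor.map m.hom.snd.hom.snd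
        rw [← cancel_epi w.obj.fst.obj.iso.hom]
        simp only [Category.assoc, Iso.hom_inv_id_assoc]
        rw [← Category.assoc, ← h1, Category.assoc, Iso.hom_inv_id_assoc,
          ← CategoryTheory.Functor.map_comp_assoc, h3, CategoryTheory.Functor.map_comp_assoc, h2]))
    (fun w => by
      have h1 : 𝒴.p.IsHomLift (𝟙 (𝒴'.p.obj w.obj.fst.obj.fst)) w.obj.fst.obj.iso.hom :=
        fp_iso_isHomLift _ _ w.obj.fst
      have h1' : 𝒴.p.IsHomLift (𝟙 (𝒴'.p.obj w.obj.fst.obj.fst)) w.obj.fst.obj.iso.inv :=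
        IsHomLift.lift_id_inv _ _ _
      have h2 : 𝒴'.p.IsHomLift (𝟙 (𝒴'.p.obj w.obj.fst.obj.fst)) w.obj.iso.hom :=
        fp_iso_isHomLift _ _ w
      have h3 : 𝒴.p.IsHomLift (𝟙 (𝒴'.p.obj w.obj.fst.obj.fst)) (g.toFunctor.map w.obj.iso.hom) :=
        inferInstance
      have h4 : 𝒴.p.IsHomLift (𝟙 (𝒴'.p.obj w.obj.snd.obj.fst)) w.obj.snd.obj.iso.hom :=
        fp_iso_isHomLift _ _ w.obj.snd
      have e : 𝒴'.p.obj w.obj.snd.obj.fst = 𝒴'.p.obj w.obj.fst.obj.fst :=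
        IsHomLift.codomain_eq 𝒴'.p (𝟙 (𝒴'.p.obj w.obj.fst.obj.fst)) w.obj.iso.hom
      have h5 : 𝒴.p.IsHomLift (𝟙 (𝒴'.p.obj w.obj.fst.obj.fst)) w.obj.snd.obj.iso.hom :=
        isHomLift_of_eq 𝒴.p e _
      change 𝒴.p.IsHomLift (𝟙 (𝒴'.p.obj w.obj.fst.obj.fst)) (w.obj.fst.obj.iso.inv ≫
          g.toFunctor.map w.obj.iso.hom ≫ w.obj.snd.obj.iso.hom)
      infer_instance)

/-- `Ψ : 𝒳' ×_{𝒴'} 𝒳' ⟶ 𝒳 ×_𝒴 𝒳` -/
def Ψ : fp (fpFst g f) (fpFst g f) ⥤ᵇ fp f f :=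
  fpLift (BasedFunctor.comp (fpFst (fpFst g f) (fpFst g f)) (fpSnd g f))
    (BasedFunctor.comp (fpSnd (fpFst g f) (fpFst g f)) (fpSnd g f)) (psiIso g f)

theorem Ψ_obj_iso_hom (w : (fp (fpFst g f) (fpFst g f)).obj) :
    ((Ψ g f).toFunctor.obj w).obj.iso.hom =
      w.obj.fst.obj.iso.inv ≫ g.toFunctor.map w.obj.iso.hom ≫ w.obj.snd.obj.iso.hom := rfl

theorem Ψ_map_fst {w w' : (fp (fpFst g f) (fpFst g f)).obj} (m : w ⟶ w') :
    ((Ψ g f).toFunctor.map m).hom.fst = m.hom.fst.hom.snd := rfl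

theorem Ψ_map_snd {w w' : (fp (fpFst g f) (fpFst g f)).obj} (m : w ⟶ w') :
    ((Ψ g f).toFunctor.map m).hom.snd = m.hom.snd.hom.snd := rfl

end Psi

section Comparison

variable {𝒳 : BasedCategory.{v₂, u₂} C} {𝒴 : BasedCategory.{v₃, u₃} C} {𝒴' : BasedCategory.{v₄, u₄} C}
  (g : 𝒴' ⥤ᵇ 𝒴) (f : 𝒳 ⥤ᵇ 𝒴)

/-- the 2-isomorphism of the diagonal square -/
def kappa : BasedFunctor.comp (FibCat.diag (fpFst g f)) (Ψ g f) ≅
    BasedFunctor.comp (fpSnd g f) (FibCat.diag f) :=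
  BasedNatIso.mkNatIso
    (NatIso.ofComponents
      (fun t => fpIsoMk f f (Iso.refl t.obj.snd) (Iso.refl t.obj.snd) (by
        change f.toFunctor.map (𝟙 t.obj.snd) ≫ 𝟙 _ =
          (t.obj.iso.inv ≫ g.toFunctor.map (𝟙 _) ≫ t.obj.iso.hom) ≫ f.toFunctor.map (𝟙 t.obj.snd)
        simp))
      (fun {t t'} m => by
        apply fp_hom_ext
        · change m.hom.snd ≫ 𝟙 _ = 𝟙 _ ≫ m.hom.snd
          simp
        · change m.hom.snd ≫ 𝟙 _ = 𝟙 _ ≫ m.hom.snd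
          simp))
    (fun t => by
      apply Groth.Agent.FibFp.lift_to
      change 𝒳.p.IsHomLift (𝟙 (𝒴'.p.obj t.obj.fst)) (𝟙 t.obj.snd)
      exact IsHomLift.id (fp_snd_obj g f t))

/-- the comparison functor of the diagonal square -/
def cmp : fp g f ⥤ᵇ fp (Ψ g f) (FibCat.diag f) :=
  fpLift (FibCat.diag (fpFst g f)) (fpSnd g f) (kappa g f)

instance cmp_faithful : (cmp g f).toFunctor.Faithful where
  map_injective {t t'} m m' h := by
    have h1 : ((cmp g f).toFunctor.map m).hom.fst.hom.fst =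
        ((cmp g f).toFunctor.map m').hom.fst.hom.fst := by rw [h]
    exact h1

instance cmp_full : (cmp g f).toFunctor.Full where
  map_surjective {t t'} n := by
    let m₁ : t ⟶ t' := n.hom.fst.hom.fst
    let m₂ : t ⟶ t' := n.hom.fst.hom.snd
    let mx : t.obj.snd ⟶ t'.obj.snd := n.hom.snd
    have e1 : m₁.hom.fst = m₂.hom.fst := by
      have := n.hom.fst.hom.w
      change m₁.hom.fst ≫ 𝟙 _ = 𝟙 _ ≫ m₂.hom.fst at this
      simpa using this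
    have e2 := n.hom.w
    have e3 : m₁.hom.snd = mx := by
      have := congrArg (fun k => k.hom.fst) e2
      change m₁.hom.snd ≫ 𝟙 _ = 𝟙 _ ≫ mx at this
      simpa using this
    have e4 : m₂.hom.snd = mx := by
      have := congrArg (fun k => k.hom.snd) e2
      change m₂.hom.snd ≫ 𝟙 _ = 𝟙 _ ≫ mx at this
      simpa using this
    refine ⟨m₁, ?_⟩
    apply fp_hom_ext
    · apply fp_hom_ext
      · rfl
      · change m₁ = m₂
        exact fp_hom_ext g f e1 (e3.trans e4.symm)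
    · exact e3

theorem cmp_isEquivOver : IsEquivOver (cmp g f) := by
  apply isEquivOver_of
  intro z
  let w : (fp (fpFst g f) (fpFst g f)).obj := z.obj.fst
  let x : 𝒳.obj := z.obj.snd
  let τ : (Ψ g f).toFunctor.obj w ≅ (FibCat.diag f).toFunctor.obj x := z.obj.iso
  let t₁ : (fp g f).obj := w.obj.fst
  let t₂ : (fp g f).obj := w.obj.snd
  let σ : t₁.obj.fst ≅ t₂.obj.fst := w.obj.iso
  let τ₁ : t₁.obj.snd ≅ x := isoFst f f τ
  let τ₂ : t₂.obj.snd ≅ x := isoSnd f f τ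
  have hτ : f.toFunctor.map τ₁.hom ≫ 𝟙 _ =
      (t₁.obj.iso.inv ≫ g.toFunctor.map σ.hom ≫ t₂.obj.iso.hom) ≫ f.toFunctor.map τ₂.hom :=
    τ.hom.hom.w
  let θ : t₁ ≅ t₂ := fpIsoMk g f σ (τ₁ ≪≫ τ₂.symm) (by
    change g.toFunctor.map σ.hom ≫ t₂.obj.iso.hom =
      t₁.obj.iso.hom ≫ f.toFunctor.map (τ₁.hom ≫ τ₂.inv)
    rw [CategoryTheory.Functor.map_comp, ← Category.assoc, ← cancel_mono (f.toFunctor.map τ₂.hom)]
    simp only [Category.assoc, ← CategoryTheory.Functor.map_comp, Iso.inv_hom_id, Category.comp_id]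
    rw [Category.comp_id] at hτ
    rw [hτ]
    simp)
  let ea : (FibCat.diag (fpFst g f)).toFunctor.obj t₁ ≅ w :=
    fpIsoMk (fpFst g f) (fpFst g f) (Iso.refl t₁) θ (by
      change 𝟙 _ ≫ σ.hom = 𝟙 _ ≫ σ.hom
      rfl)
  refine ⟨t₁, fpIsoMk (Ψ g f) (FibCat.diag f) ea τ₁ ?_, ?_⟩
  · apply fp_hom_ext
    · change 𝟙 _ ≫ τ₁.hom = 𝟙 _ ≫ τ₁.hom
      rfl
    · change (τ₁.hom ≫ τ₂.inv) ≫ τ₂.hom = 𝟙 _ ≫ τ₁.hom
      simp
  · apply Groth.Agent.FibFp.lift_to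
    apply Groth.Agent.FibFp.lift_to
    apply Groth.Agent.FibFp.lift_to
    change 𝒴'.p.IsHomLift (𝟙 (𝒴'.p.obj t₁.obj.fst)) (𝟙 t₁.obj.fst)
    infer_instance

end Comparison

end Groth.Agent.Lib.helper4.DiagBC
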