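import Groth.Agent.Lib.Helper4.AlgStEquiv
import Groth.Agent.Lib.Helper4.DiagBC
set_option autoImplicit false
set_option backward.isDefEq.respectTransparency false
set_option backward.isDefEq.respectTransparency.types false
open CategoryTheory CategoryTheory.Functor CategoryTheory.Limits AlgebraicGeometry
universe u

/-! Base change of "the diagonal is representable by algebraic spaces with property `P`". -/

namespace Groth.Agent.Lib.helper4.AlgStDiagBC
open Groth.Agent.FibEquiv Groth.Agent.Lib.helper4.FibPaste Groth.Agent.Lib.helper4.AlgStRep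
open Groth.Agent.Lib.helper4.AlgStEquiv Groth.Agent.Lib.helper4.DiagBC FibCat

variable {S : Scheme.{u}}

/-- General form of S12779 (no fibred-in-groupoids hypotheses). -/
theorem repByAlgSpWith_fpFst {𝒳 𝒴 𝒵 : AlgSt.Cat S} (P : MorphismProperty (AlgSp.Sp S))
    (f : 𝒳 ⥤ᵇ 𝒴) (g : 𝒵 ⥤ᵇ 𝒴) (hf : AlgSt.RepByAlgSpWith P f) :
    AlgSt.RepByAlgSpWith P (fpFst g f) := by
  intro U y
  exact (repData_transfer P (pasteL y g f) (pasteL_isEquivOver y g f)
    (fpFst y (fpFst g f)) (fpFst (BasedFunctor.comp y g) f)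
    (Iso.refl _)).mpr (hf U (BasedFunctor.comp y g))

/-- If the diagonal of `f` is representable by algebraic spaces with property `P`, so is the
diagonal of any base change of `f` (for every property `P`). -/
theorem repByAlgSpWith_diag_fpFst {𝒳 𝒴 𝒴' : AlgSt.Cat S} (P : MorphismProperty (AlgSp.Sp S))
    (f : 𝒳 ⥤ᵇ 𝒴) (g : 𝒴' ⥤ᵇ 𝒴) (h : AlgSt.RepByAlgSpWith P (FibCat.diag f)) :
    AlgSt.RepByAlgSpWith P (FibCat.diag (fpFst g f)) := by
  have h1 : AlgSt.RepByAlgSpWith P (fpFst (Ψ g f) (FibCat.diag f)) :=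
    repByAlgSpWith_fpFst P (FibCat.diag f) (Ψ g f) h
  exact (repByAlgSpWith_iff_of_square P (fpFst (Ψ g f) (FibCat.diag f)) (FibCat.diag (fpFst g f))
    (cmp g f) (BasedFunctor.id _) (cmp_isEquivOver g f) (isEquivOver_id _) (Iso.refl _)).mp h1

end Groth.Agent.Lib.helper4.AlgStDiagBC
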