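import Groth.Agent.Lib.Helper4.DiagBC
import Groth.Agent.Lib.Helper4.AlgStRep
set_option autoImplicit false
set_option backward.isDefEq.respectTransparency false
set_option backward.isDefEq.respectTransparency.types false
open CategoryTheory CategoryTheory.Functor CategoryTheory.Limits
universe v₇ u₇ v₆ u₆ v₅ u₅ v₄ u₄ v₃ u₃ v₂ u₂ v u

/-! Isomorphisms between functors into a 2-fibre product. -/

namespace Groth.Agent.Lib.helper4.FibLiftIso
open Groth.Agent.FibEquiv Groth.Agent.Lib.helper4.FibPaste Groth.Agent.Lib.helper4.DiagBC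
open Groth.Agent.Lib.helper4.AlgStRep FibCat

variable {C : Type u} [Category.{v} C] {𝒳 : BasedCategory.{v₂, u₂} C} {𝒴 : BasedCategory.{v₃, u₃} C}
  {𝒮 : BasedCategory.{v₄, u₄} C} {𝒲 : BasedCategory.{v₅, u₅} C} (F : 𝒳 ⥤ᵇ 𝒮) (G : 𝒴 ⥤ᵇ 𝒮)

/-- isomorphic data give isomorphic functors into the 2-fibre product -/
def fpLiftIso {a a' : 𝒲 ⥤ᵇ 𝒳} {b b' : 𝒲 ⥤ᵇ 𝒴} (e : BasedFunctor.comp a F ≅ BasedFunctor.comp b G)
    (e' : BasedFunctor.comp a' F ≅ BasedFunctor.comp b' G) (ia : a ≅ a') (ib : b ≅ b')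
    (hc : ∀ w, F.toFunctor.map (appIso ia w).hom ≫ (appIso e' w).hom =
      (appIso e w).hom ≫ G.toFunctor.map (appIso ib w).hom) :
    fpLift a b e ≅ fpLift a' b' e' :=
  BasedNatIso.mkNatIso
    (NatIso.ofComponents (fun w => fpIsoMk F G (appIso ia w) (appIso ib w) (hc w))
      (fun {w w'} m => by
        apply fp_hom_ext
        · exact appIso_naturality ia m
        · exact appIso_naturality ib m))
    (fun w => by
      apply Groth.Agent.FibFp.lift_to
      exact appIso_isHomLift ia w)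

/-- every functor into the 2-fibre product is the lift of its components -/
def fpLiftEta (u : 𝒲 ⥤ᵇ fp F G) :
    u ≅ fpLift (BasedFunctor.comp u (fpFst F G)) (BasedFunctor.comp u (fpSnd F G))
      (whiskerLeftIso u (fpIso F G)) :=
  BasedNatIso.mkNatIso
    (NatIso.ofComponents (fun w => fpIsoMk F G (Iso.refl _) (Iso.refl _) (by
        change F.toFunctor.map (𝟙 _) ≫ (u.toFunctor.obj w).obj.iso.hom =
          (u.toFunctor.obj w).obj.iso.hom ≫ G.toFunctor.map (𝟙 _)
        simp))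
      (fun {w w'} m => by
        apply fp_hom_ext
        · change (u.toFunctor.map m).hom.fst ≫ 𝟙 _ = 𝟙 _ ≫ (u.toFunctor.map m).hom.fst
          simp
        · change (u.toFunctor.map m).hom.snd ≫ 𝟙 _ = 𝟙 _ ≫ (u.toFunctor.map m).hom.snd
          simp))
    (fun w => by
      apply Groth.Agent.FibFp.lift_to
      change 𝒳.p.IsHomLift (𝟙 (𝒲.p.obj w)) (𝟙 (u.toFunctor.obj w).obj.fst)
      have h1 : 𝒳.p.obj (u.toFunctor.obj w).obj.fst = 𝒲.p.obj w := u.w_obj w
      exact IsHomLift.id h1)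

/-- a functor into the 2-fibre product whose second component is isomorphic to `b` is the lift of its first component
and `b` -/
def fpLiftOfSnd (u : 𝒲 ⥤ᵇ fp F G) {b : 𝒲 ⥤ᵇ 𝒴} (ψ : BasedFunctor.comp u (fpSnd F G) ≅ b) :
    fpLift (BasedFunctor.comp u (fpFst F G)) b
      (whiskerLeftIso u (fpIso F G) ≪≫ whiskerRightIso ψ G) ≅ u :=
  (fpLiftIso F G _ _ (Iso.refl _) ψ.symm (fun w => by
    change F.toFunctor.map (𝟙 _) ≫ (u.toFunctor.obj w).obj.iso.hom =
      ((u.toFunctor.obj w).obj.iso.hom ≫ G.toFunctor.map (appIso ψ w).hom) ≫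
        G.toFunctor.map (appIso ψ w).inv
    rw [CategoryTheory.Functor.map_id, Category.id_comp, Category.assoc,
      ← CategoryTheory.Functor.map_comp, Iso.hom_inv_id, CategoryTheory.Functor.map_id,
      Category.comp_id])) ≪≫ (fpLiftEta F G u).symm

end Groth.Agent.Lib.helper4.FibLiftIso
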