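import Groth.Agent.Lib.Helper4.AlgStUniv
import Groth.Agent.Lib.Helper4.FibLiftIso
set_option autoImplicit false
set_option backward.isDefEq.respectTransparency false
set_option backward.isDefEq.respectTransparency.types false
set_option linter.unusedSectionVars false
set_option linter.style.haveILetI false
set_option linter.unusedVariables false
open CategoryTheory CategoryTheory.Functor CategoryTheory.Limits Opposite AlgebraicGeometry
universe u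

/-! Properties of morphisms of algebraic stacks read on smooth chart squares (`AlgSt.LocQ`): the dictionary
between functors over the base and maps of sheaves, and the independence of the chart square. -/

namespace Groth.Agent.Lib.helper4.AlgStLocQ
open Groth.Agent.FibEquiv Groth.Agent.FibYoneda FibCat Groth.Agent.Lib.helper4.FibPaste
open Groth.Agent.Lib.helper4.AlgStEquiv Groth.Agent.Lib.helper4.AlgStRep
open Groth.Agent.Lib.helper4.AlgStSetoid Groth.Agent.FibFpProj Groth.Agent.Lib.helper4.FibRep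
open Groth.Agent.Lib.helper4.AlgStFpAlg Groth.Agent.Lib.helper4.AlgStDM Groth.Agent.Lib.helper4.AlgStSelf
open Groth.Agent.Lib.helper4.AlgStPts Groth.Agent.Lib.helper4.FibSwap Groth.Agent.Lib.helper4.AlgStSmLoc
open Groth.Agent.Lib.helper4.AlgStQC Groth.Agent.Lib.helper4.PshDict Groth.Agent.Lib.helper4.PshRep
open Groth.Agent.Lib.helper4.PshPB Groth.Agent.Lib.helper4.AlgStQCMor Groth.Agent.Lib.helper4.PointsBasic
open Groth.Agent.Lib.helper4.AlgStDescent Groth.Agent.Lib.helper4.AlgStCoreA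
open Groth.Agent.Lib.helper4.AlgStSource Groth.Agent.Lib.helper4.AlgStGraph
open Stk AlgSt

variable {S : Scheme.{u}}

section Dict

/-- a functor to a slice which is representable by algebraic spaces with `Q`: the source is representable and the
map of sheaves of any representation has `Q` -/
theorem spMapOfOver_of_repByAlgSpWith (Q : MorphismProperty (AlgSp.Sp S)) (hQ : IsoInv Q) {𝒜 : AlgSt.Cat S}
    {T : Over S} (Φ : 𝒜 ⥤ᵇ overCat T) (h : AlgSt.RepByAlgSpWith Q Φ) (F : AlgSp.Space S)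
    (e : AlgSt.ofSp F.obj ⥤ᵇ 𝒜) (he : IsEquivOver e) :
    Q (AlgSt.spMapOfOver (BasedFunctor.comp e Φ)) := by
  obtain ⟨F₁, e₁, he₁, hQ₁⟩ := h T (BasedFunctor.id _)
  have he₂ : IsEquivOver (BasedFunctor.comp e₁ (fpSnd (BasedFunctor.id (overCat T)) Φ)) :=
    isEquivOver_comp _ _ he₁ (fpSnd_id_isEquivOver Φ)
  have i : BasedFunctor.comp (BasedFunctor.comp e₁ (fpSnd (BasedFunctor.id (overCat T)) Φ)) Φ ≅
      BasedFunctor.comp e₁ (fpFst (BasedFunctor.id (overCat T)) Φ) :=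
    whiskerLeftIso e₁ (fpIso (BasedFunctor.id (overCat T)) Φ).symm
  have h2 : Q (AlgSt.spMapOfOver
      (BasedFunctor.comp (BasedFunctor.comp e₁ (fpSnd (BasedFunctor.id (overCat T)) Φ)) Φ)) := by
    rw [spMapOfOver_congr i]
    exact hQ₁
  obtain ⟨j, hj⟩ := change_rep Φ _ e he₂ he
  rw [hj] at h2
  exact hQ j _ F₁.property F.property h2

/-- a functor to a slice which is representable by algebraic spaces has representable source -/
theorem exists_rep_of_repByAlgSpWith (Q : MorphismProperty (AlgSp.Sp S)) {𝒜 : AlgSt.Cat S}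
    {T : Over S} (Φ : 𝒜 ⥤ᵇ overCat T) (h : AlgSt.RepByAlgSpWith Q Φ) :
    ∃ (F : AlgSp.Space S) (e : AlgSt.ofSp F.obj ⥤ᵇ 𝒜), IsEquivOver e := by
  obtain ⟨F₁, e₁, he₁, -⟩ := h T (BasedFunctor.id _)
  exact ⟨F₁, _, isEquivOver_comp _ _ he₁ (fpSnd_id_isEquivOver Φ)⟩

/-- a functor between representable categories which is representable by algebraic spaces with `Q` induces a map of
sheaves with `Q` (for `Q` fppf local on the base) -/
theorem pshMapOf_of_repByAlgSpWith (Q : MorphismProperty (AlgSp.Sp S)) (hQ : IsoInv Q)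
    (hloc : AlgSp.IsLocalOnBase AlgSp.IsFppfCover Q) {𝒜 ℬ : AlgSt.Cat S} (Φ : 𝒜 ⥤ᵇ ℬ)
    (hΦ : AlgSt.RepByAlgSpWith Q Φ) (F G : AlgSp.Space S) (eA : AlgSt.ofSp F.obj ⥤ᵇ 𝒜) (heA : IsEquivOver eA)
    (eB : AlgSt.ofSp G.obj ⥤ᵇ ℬ) (eBi : ℬ ⥤ᵇ AlgSt.ofSp G.obj)
    (β : BasedFunctor.comp eBi eB ≅ BasedFunctor.id ℬ) (heB : IsEquivOver eB) :
    Q (ObjectProperty.homMk (pshMapOf (BasedFunctor.comp (BasedFunctor.comp eA Φ) eBi)) : F.obj ⟶ G.obj) :=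
  of_repBySpWith Q hloc F.property G.property _ (repBySpWith_pshMapOf Q hQ Φ eA heA eB eBi β heB hΦ)

/-- a pullback square of sheaves over a representable sheaf gives an equivalence with the 2-fibre product of the
categories, compatible with both projections -/
theorem exists_equiv_of_isPullback {T : Over S} {Z X Z' : AlgSp.Sp S} (A : AlgSt.ofSp Z ⥤ᵇ overCat T)
    (B : AlgSt.ofSp X ⥤ᵇ overCat T) (fst : Z' ⟶ X) (snd : Z' ⟶ Z)
    (sq : IsPullback fst snd (AlgSt.spMapOfOver B) (AlgSt.spMapOfOver A)) :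
    ∃ Ξ : AlgSt.ofSp Z' ⥤ᵇ fp A B, IsEquivOver Ξ ∧
      Nonempty (BasedFunctor.comp Ξ (fpFst A B) ≅ AlgSt.ofSpMap snd) ∧
      Nonempty (BasedFunctor.comp Ξ (fpSnd A B) ≅ AlgSt.ofSpMap fst) := by
  let M : fp A B ⥤ᵇ fp (ofPshMap (pshMapOf (BasedFunctor.comp A (toYon.{u + 1} T))))
      (ofPshMap (pshMapOf (BasedFunctor.comp B (toYon.{u + 1} T)))) :=
    fpMap A (ofPshMap (pshMapOf (BasedFunctor.comp A (toYon.{u + 1} T)))) B
      (ofPshMap (pshMapOf (BasedFunctor.comp B (toYon.{u + 1} T)))) (BasedFunctor.id _) (toYon.{u + 1} T)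
      (isoOfPshMap _) (isoOfPshMap (BasedFunctor.comp B (toYon.{u + 1} T)))
  have hM : IsEquivOver M := fpMap_isEquivOver _ _ _ _ _ _ _ _ (isEquivOver_id' _) (toYon_isEquivOver T)
  obtain ⟨Mi, ⟨αM⟩, ⟨βM⟩⟩ := id hM
  have hMi : IsEquivOver Mi := isEquivOver_symm αM βM
  have sqP : IsPullback snd.hom fst.hom (pshMapOf (BasedFunctor.comp A (toYon.{u + 1} T)))
      (pshMapOf (BasedFunctor.comp B (toYon.{u + 1} T))) := by
    rw [← spMapOfOver_hom, ← spMapOfOver_hom]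
    exact (sq.map (sheafToPresheaf (AlgSp.J S) (Type (u + 1)))).flip
  let L0 := Groth.Agent.Lib.helper4.PshDict.fpPshLift sqP.w
  have hL0 : IsEquivOver L0 := Groth.Agent.Lib.helper4.PshDict.fpPshLift_isEquivOver sqP
  refine ⟨BasedFunctor.comp L0 Mi, isEquivOver_comp _ _ hL0 hMi, ⟨?_⟩, ⟨?_⟩⟩
  · exact whiskerLeftIso L0 (whiskerRightIso βM
      (fpFst (ofPshMap (pshMapOf (BasedFunctor.comp A (toYon.{u + 1} T))))
        (ofPshMap (pshMapOf (BasedFunctor.comp B (toYon.{u + 1} T))))))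
  · exact whiskerLeftIso L0 (whiskerRightIso βM
      (fpSnd (ofPshMap (pshMapOf (BasedFunctor.comp A (toYon.{u + 1} T))))
        (ofPshMap (pshMapOf (BasedFunctor.comp B (toYon.{u + 1} T))))))

theorem spMapOfOver_comp_pshMapOf {F G : AlgSp.Sp S} {T : Over S} (Φ : AlgSt.ofSp F ⥤ᵇ AlgSt.ofSp G)
    (Ψ : AlgSt.ofSp G ⥤ᵇ overCat T) :
    AlgSt.spMapOfOver (BasedFunctor.comp Φ Ψ) =
      (ObjectProperty.homMk (pshMapOf Φ) : F ⟶ G) ≫ AlgSt.spMapOfOver Ψ := by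
  apply ObjectProperty.hom_ext
  rw [spMapOfOver_hom]
  change _ = pshMapOf Φ ≫ (AlgSt.spMapOfOver Ψ).hom
  rw [spMapOfOver_hom]
  exact pshMapOf_comp (P := F.obj) (Q := G.obj) Φ (BasedFunctor.comp Ψ (toYon.{u + 1} T))

theorem spMapOfOver_ofSpMap_comp {F G : AlgSp.Sp S} {T : Over S} (c : F ⟶ G)
    (Ψ : AlgSt.ofSp G ⥤ᵇ overCat T) :
    AlgSt.spMapOfOver (BasedFunctor.comp (AlgSt.ofSpMap c) Ψ) = c ≫ AlgSt.spMapOfOver Ψ := by
  rw [spMapOfOver_comp_pshMapOf]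
  congr 1
  apply ObjectProperty.hom_ext
  exact pshMapOf_ofPshMap c.hom

theorem spMapOfOver_comp_overMap {F : AlgSp.Sp S} {U V : Over S} (Ψ : AlgSt.ofSp F ⥤ᵇ overCat U)
    (h : U ⟶ V) :
    AlgSt.spMapOfOver (BasedFunctor.comp Ψ (AlgSt.overMap h)) =
      AlgSt.spMapOfOver Ψ ≫ (AlgSp.yon S).map h := by
  apply ObjectProperty.hom_ext
  rw [spMapOfOver_hom]
  change _ = (AlgSt.spMapOfOver Ψ).hom ≫ uliftYoneda.{u + 1}.map h
  rw [spMapOfOver_hom]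
  have i1 : BasedFunctor.comp (BasedFunctor.comp Ψ (AlgSt.overMap h)) (toYon.{u + 1} V) ≅
      BasedFunctor.comp (BasedFunctor.comp Ψ (toYon.{u + 1} U)) (ofPshMap (uliftYoneda.{u + 1}.map h)) :=
    whiskerLeftIso Ψ (Groth.Agent.Lib.helper4.PshRepGen.overMapIso.{u + 1} h)
  rw [pshMapOf_congr i1]
  refine Eq.trans (pshMapOf_comp (P := F.obj) _ _) ?_
  rw [pshMapOf_ofPshMap]

end Dict

section Core

variable {𝒳 𝒴 : AlgSt.Cat S} (h𝒳 : IsFibGrpd 𝒳.p) (h𝒴 : IsFibGrpd 𝒴.p) (f : 𝒳 ⥤ᵇ 𝒴)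
  (P : MorphismProperty (AlgSp.Sp S)) (hP : AlgSp.IsSmoothLocalST P)
include h𝒳 h𝒴 hP

theorem isLocalOnBase_smooth : AlgSp.IsLocalOnBase (AlgSp.IsFppfCover (S := S)) (AlgSp.LocP @Smooth) :=
  isLocalOnBase_fppf_of_fpqc (Groth.Agent.S10542.result S)

/-- **Independence of the chart square**: if `P` holds on one smooth chart square with surjective source chart, it
holds on every smooth chart square for which `U' ⟶ 𝒳 ×_𝒴 V'` is smooth -/
theorem core_gen {U V U' V' : Over S} (x : overCat U ⥤ᵇ 𝒳) (y : overCat V ⥤ᵇ 𝒴) (h : U ⟶ V)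
    (α : BasedFunctor.comp x f ≅ BasedFunctor.comp (AlgSt.overMap h) y)
    (hx : AlgSt.RepByAlgSpWith (AlgSp.LocP @Smooth) x) (hxs : AlgSt.RepByAlgSpWith AlgSp.IsSurjectiveMor x)
    (hy : AlgSt.RepByAlgSpWith (AlgSp.LocP @Smooth) y)
    (x' : overCat U' ⥤ᵇ 𝒳) (y' : overCat V' ⥤ᵇ 𝒴) (h' : U' ⟶ V')
    (α' : BasedFunctor.comp x' f ≅ BasedFunctor.comp (AlgSt.overMap h') y')
    (hbc : ∀ (F' : AlgSp.Space S) (e' : AlgSt.ofSp F'.obj ⥤ᵇ fp y y'), IsEquivOver e' →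
      ∀ {X' : AlgSp.Sp S}, AlgSp.IsAlgSpace X' → ∀ (f' : X' ⟶ F'.obj) (g' : X' ⟶ (AlgSp.yon S).obj U),
        IsPullback g' f' ((AlgSp.yon S).map h) (AlgSt.spMapOfOver (BasedFunctor.comp e' (fpFst y y'))) → P f')
    (hl' : AlgSt.RepByAlgSpWith (AlgSp.LocP @Smooth) (fpLift x' (AlgSt.overMap h') α')) :
    P ((AlgSp.yon S).map h') := by
  have hUf : IsFibGrpd (overCat U).p := Groth.Agent.FibOver.isFibGrpd_overCat U
  have hVf : IsFibGrpd (overCat V).p := Groth.Agent.FibOver.isFibGrpd_overCat V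
  have hU'f : IsFibGrpd (overCat U').p := Groth.Agent.FibOver.isFibGrpd_overCat U'
  have hV'f : IsFibGrpd (overCat V').p := Groth.Agent.FibOver.isFibGrpd_overCat V'
  have h𝒬 : IsFibGrpd (fp f y').p := isFibGrpd_fp _ _ h𝒳 hV'f h𝒴
  have hℳ₂ : IsFibGrpd (fp (fpFst f y') x).p := isFibGrpd_fp _ _ h𝒬 hUf h𝒳
  -- step 1
  have hπ_sm : AlgSt.RepByAlgSpWith (AlgSp.LocP @Smooth) (fpFst (fpFst f y') x) :=
    Groth.Agent.Lib.helper4.AlgStDiagBC.repByAlgSpWith_fpFst _ x (fpFst f y') hx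
  have hπ_su : AlgSt.RepByAlgSpWith AlgSp.IsSurjectiveMor (fpFst (fpFst f y') x) :=
    Groth.Agent.Lib.helper4.AlgStDiagBC.repByAlgSpWith_fpFst _ x (fpFst f y') hxs
  have ha_sm : AlgSt.RepByAlgSpWith (AlgSp.LocP @Smooth)
      (fpFst (fpLift x' (AlgSt.overMap h') α') (fpFst (fpFst f y') x)) :=
    Groth.Agent.Lib.helper4.AlgStDiagBC.repByAlgSpWith_fpFst _ _ _ hπ_sm
  have ha_su : AlgSt.RepByAlgSpWith AlgSp.IsSurjectiveMor
      (fpFst (fpLift x' (AlgSt.overMap h') α') (fpFst (fpFst f y') x)) :=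
    Groth.Agent.Lib.helper4.AlgStDiagBC.repByAlgSpWith_fpFst _ _ _ hπ_su
  have hm_sm : AlgSt.RepByAlgSpWith (AlgSp.LocP @Smooth)
      (fpSnd (fpLift x' (AlgSt.overMap h') α') (fpFst (fpFst f y') x)) :=
    repByAlgSpWith_fpSnd hℳ₂ h𝒬 hU'f _ _ _ hl'
  -- step 2
  obtain ⟨F₀, e₀, he₀⟩ := exists_rep_of_repByAlgSpWith _ _ ha_sm
  have ha1 := spMapOfOver_of_repByAlgSpWith _ (isoInv_locP _) _ ha_sm F₀ e₀ he₀
  have ha2 := spMapOfOver_of_repByAlgSpWith _ isoInv_isSurjectiveMor _ ha_su F₀ e₀ he₀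
  have hb_sm : AlgSt.RepByAlgSpWith (AlgSp.LocP @Smooth) (fpSnd y y') :=
    repByAlgSpWith_fpSnd hV'f h𝒴 hVf _ y y' hy
  obtain ⟨F', e', he'⟩ := exists_rep_of_repByAlgSpWith _ _ hb_sm
  have hb := spMapOfOver_of_repByAlgSpWith _ (isoInv_locP _) _ hb_sm F' e' he'
  -- step 3
  have sq : IsPullback (pullback.fst ((AlgSp.yon S).map h) (AlgSt.spMapOfOver (BasedFunctor.comp e' (fpFst y y'))))
      (pullback.snd ((AlgSp.yon S).map h) (AlgSt.spMapOfOver (BasedFunctor.comp e' (fpFst y y'))))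
      ((AlgSp.yon S).map h) (AlgSt.spMapOfOver (BasedFunctor.comp e' (fpFst y y'))) :=
    IsPullback.of_hasPullback _ _
  have hFℳ : AlgSp.IsAlgSpace (pullback ((AlgSp.yon S).map h)
      (AlgSt.spMapOfOver (BasedFunctor.comp e' (fpFst y y')))) :=
    Groth.Agent.Lib.helper5.isAlgSpace_of_isPullback (AlgSp.IsAlgSpace.yon_obj V).diag F'.property
      (AlgSp.IsAlgSpace.yon_obj U) sq.flip
  have hPq₂ : P (pullback.snd ((AlgSp.yon S).map h) (AlgSt.spMapOfOver (BasedFunctor.comp e' (fpFst y y')))) :=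
    hbc F' e' he' hFℳ _ _ sq
  -- step 4
  obtain ⟨YiU, ⟨αU⟩, ⟨βU⟩⟩ := toYon_isEquivOver.{u + 1} U
  have hYiU : IsEquivOver YiU := isEquivOver_symm αU βU
  have hA : AlgSt.spMapOfOver (BasedFunctor.comp YiU (AlgSt.overMap h)) = (AlgSp.yon S).map h := by
    rw [spMapOfOver_comp_overMap]
    have : AlgSt.spMapOfOver YiU = 𝟙 _ := by
      apply ObjectProperty.hom_ext
      rw [spMapOfOver_hom, pshMapOf_congr βU, pshMapOf_id]
      rfl
    rw [this, Category.id_comp]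
  have sq' : IsPullback (pullback.snd ((AlgSp.yon S).map h) (AlgSt.spMapOfOver (BasedFunctor.comp e' (fpFst y y'))))
      (pullback.fst ((AlgSp.yon S).map h) (AlgSt.spMapOfOver (BasedFunctor.comp e' (fpFst y y'))))
      (AlgSt.spMapOfOver (BasedFunctor.comp e' (fpFst y y')))
      (AlgSt.spMapOfOver (BasedFunctor.comp YiU (AlgSt.overMap h))) := by
    rw [hA]
    exact sq.flip
  obtain ⟨Ξ, hΞ, ⟨i₁⟩, ⟨i₂⟩⟩ := exists_equiv_of_isPullback _ _ _ _ sq'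
  let E2 := fpMap (BasedFunctor.comp YiU (AlgSt.overMap h)) (BasedFunctor.comp YiU (AlgSt.overMap h))
    (BasedFunctor.comp e' (fpFst y y')) (fpFst y y') e' (BasedFunctor.id _) (Iso.refl _) (Iso.refl _)
  have hE2 : IsEquivOver E2 := fpMap_isEquivOver _ _ _ _ _ _ _ _ he' (isEquivOver_id' _)
  let E1 := pasteL (BasedFunctor.comp YiU (AlgSt.overMap h)) y y'
  have hE1 : IsEquivOver E1 := pasteL_isEquivOver _ _ _
  let E0 := fpPrecomp YiU (BasedFunctor.comp (AlgSt.overMap h) y) y'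
  have hE0 : IsEquivOver E0 := fpPrecomp_isEquivOver _ _ _ hYiU
  let Ω : AlgSt.ofSp (pullback ((AlgSp.yon S).map h)
      (AlgSt.spMapOfOver (BasedFunctor.comp e' (fpFst y y')))) ⥤ᵇ fp (BasedFunctor.comp (AlgSt.overMap h) y) y' :=
    BasedFunctor.comp Ξ (BasedFunctor.comp E2 (BasedFunctor.comp E1 E0))
  have hΩ : IsEquivOver Ω := isEquivOver_comp _ _ hΞ (isEquivOver_comp _ _ hE2 (isEquivOver_comp _ _ hE1 hE0))
  have iΩ : BasedFunctor.comp Ω (fpSnd (BasedFunctor.comp (AlgSt.overMap h) y) y') ≅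
      BasedFunctor.comp (AlgSt.ofSpMap (pullback.snd ((AlgSp.yon S).map h)
        (AlgSt.spMapOfOver (BasedFunctor.comp e' (fpFst y y'))))) (BasedFunctor.comp e' (fpSnd y y')) :=
    whiskerRightIso i₂ (BasedFunctor.comp e' (fpSnd y y'))
  obtain ⟨Ωi, ⟨αΩ⟩, ⟨βΩ⟩⟩ := id hΩ
  -- step 5
  let J : fp (fpFst f y') x ⥤ᵇ fp (BasedFunctor.comp (AlgSt.overMap h) y) y' :=
    BasedFunctor.comp (fpSwap (fpFst f y') x) (BasedFunctor.comp (pasteL x f y')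
      (fpMap (BasedFunctor.comp x f) (BasedFunctor.comp (AlgSt.overMap h) y) y' y' (BasedFunctor.id _)
        (BasedFunctor.id _) α (Iso.refl _)))
  have hJ : IsEquivOver J := isEquivOver_comp _ _ (fpSwap_isEquivOver _ _)
    (isEquivOver_comp _ _ (pasteL_isEquivOver _ _ _)
      (fpMap_isEquivOver _ _ _ _ _ _ _ _ (isEquivOver_id' _) (isEquivOver_id' _)))
  -- step 6
  have hΦm : AlgSt.RepByAlgSpWith (AlgSp.LocP @Smooth)
      (BasedFunctor.comp (fpSnd (fpLift x' (AlgSt.overMap h') α') (fpFst (fpFst f y') x)) J) :=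
    (repByAlgSpWith_iff_of_square _ (BasedFunctor.comp (fpSnd (fpLift x' (AlgSt.overMap h') α')
      (fpFst (fpFst f y') x)) J) (fpSnd (fpLift x' (AlgSt.overMap h') α') (fpFst (fpFst f y') x))
      (BasedFunctor.id _) J (isEquivOver_id' _) hJ (Iso.refl _)).2 hm_sm
  -- step 7
  have hm := pshMapOf_of_repByAlgSpWith _ (isoInv_locP _) (isLocalOnBase_smooth h𝒳 h𝒴 P hP) _ hΦm F₀
    ⟨_, hFℳ⟩ e₀ he₀ Ω Ωi βΩ hΩ
  -- step 8
  have hPk := hP.precomp F₀.property hFℳ F'.property _ _ hm hPq₂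
  -- step 9
  have comm : AlgSt.spMapOfOver (BasedFunctor.comp e₀
        (fpFst (fpLift x' (AlgSt.overMap h') α') (fpFst (fpFst f y') x))) ≫ (AlgSp.yon S).map h' =
      ((ObjectProperty.homMk (pshMapOf (BasedFunctor.comp (BasedFunctor.comp e₀
        (BasedFunctor.comp (fpSnd (fpLift x' (AlgSt.overMap h') α') (fpFst (fpFst f y') x)) J)) Ωi)) :
          F₀.obj ⟶ pullback ((AlgSp.yon S).map h) (AlgSt.spMapOfOver (BasedFunctor.comp e' (fpFst y y')))) ≫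
        pullback.snd ((AlgSp.yon S).map h) (AlgSt.spMapOfOver (BasedFunctor.comp e' (fpFst y y')))) ≫
          AlgSt.spMapOfOver (BasedFunctor.comp e' (fpSnd y y')) := by
    rw [← spMapOfOver_comp_overMap, Category.assoc, ← spMapOfOver_ofSpMap_comp, ← spMapOfOver_comp_pshMapOf]
    apply spMapOfOver_congr
    have j1 : BasedFunctor.comp (BasedFunctor.comp (BasedFunctor.comp e₀
          (BasedFunctor.comp (fpSnd (fpLift x' (AlgSt.overMap h') α') (fpFst (fpFst f y') x)) J)) Ωi)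
          (BasedFunctor.comp (AlgSt.ofSpMap (pullback.snd ((AlgSp.yon S).map h)
            (AlgSt.spMapOfOver (BasedFunctor.comp e' (fpFst y y'))))) (BasedFunctor.comp e' (fpSnd y y'))) ≅
        BasedFunctor.comp (BasedFunctor.comp (BasedFunctor.comp e₀
          (BasedFunctor.comp (fpSnd (fpLift x' (AlgSt.overMap h') α') (fpFst (fpFst f y') x)) J)) Ωi)
          (BasedFunctor.comp Ω (fpSnd (BasedFunctor.comp (AlgSt.overMap h) y) y')) :=
      whiskerLeftIso _ iΩ.symm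
    have j2 : BasedFunctor.comp (BasedFunctor.comp (BasedFunctor.comp e₀
          (BasedFunctor.comp (fpSnd (fpLift x' (AlgSt.overMap h') α') (fpFst (fpFst f y') x)) J)) Ωi)
          (BasedFunctor.comp Ω (fpSnd (BasedFunctor.comp (AlgSt.overMap h) y) y')) ≅
        BasedFunctor.comp (BasedFunctor.comp e₀
          (BasedFunctor.comp (fpSnd (fpLift x' (AlgSt.overMap h') α') (fpFst (fpFst f y') x)) J))
          (fpSnd (BasedFunctor.comp (AlgSt.overMap h) y) y') :=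
      whiskerLeftIso (BasedFunctor.comp e₀
          (BasedFunctor.comp (fpSnd (fpLift x' (AlgSt.overMap h') α') (fpFst (fpFst f y') x)) J))
        (whiskerRightIso βΩ (fpSnd (BasedFunctor.comp (AlgSt.overMap h) y) y'))
    have j3 : BasedFunctor.comp (BasedFunctor.comp e₀
          (BasedFunctor.comp (fpSnd (fpLift x' (AlgSt.overMap h') α') (fpFst (fpFst f y') x)) J))
          (fpSnd (BasedFunctor.comp (AlgSt.overMap h) y) y') ≅
        BasedFunctor.comp (BasedFunctor.comp e₀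
          (fpFst (fpLift x' (AlgSt.overMap h') α') (fpFst (fpFst f y') x))) (AlgSt.overMap h') :=
      whiskerLeftIso e₀ (whiskerRightIso (fpIso (fpLift x' (AlgSt.overMap h') α')
        (fpFst (fpFst f y') x)).symm (fpSnd f y'))
    exact (j1 ≪≫ j2 ≪≫ j3).symm
  -- step 10
  refine (hP.locality (AlgSp.IsAlgSpace.yon_obj U') (AlgSp.IsAlgSpace.yon_obj V') _).2 (fun pt => ?_)
  obtain ⟨v, hv⟩ := ha2 pt
  exact ⟨F₀.obj, F'.obj, _, _, _, v, F₀.property, F'.property, ha1, hb, comm, hv, hPk⟩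

/-- **Independence of the chart square**: if `P` holds on one smooth chart square with surjective source chart, it
holds on every smooth chart square for which `U' ⟶ 𝒳 ×_𝒴 V'` is smooth -/
theorem core {U V U' V' : Over S} (x : overCat U ⥤ᵇ 𝒳) (y : overCat V ⥤ᵇ 𝒴) (h : U ⟶ V)
    (α : BasedFunctor.comp x f ≅ BasedFunctor.comp (AlgSt.overMap h) y)
    (hx : AlgSt.RepByAlgSpWith (AlgSp.LocP @Smooth) x) (hxs : AlgSt.RepByAlgSpWith AlgSp.IsSurjectiveMor x)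
    (hy : AlgSt.RepByAlgSpWith (AlgSp.LocP @Smooth) y) (hPh : P ((AlgSp.yon S).map h))
    (x' : overCat U' ⥤ᵇ 𝒳) (y' : overCat V' ⥤ᵇ 𝒴) (h' : U' ⟶ V')
    (α' : BasedFunctor.comp x' f ≅ BasedFunctor.comp (AlgSt.overMap h') y')
    (hy' : AlgSt.RepByAlgSpWith (AlgSp.LocP @Smooth) y')
    (hl' : AlgSt.RepByAlgSpWith (AlgSp.LocP @Smooth) (fpLift x' (AlgSt.overMap h') α')) :
    P ((AlgSp.yon S).map h') := by
  have hpV_sm : AlgSt.RepByAlgSpWith (AlgSp.LocP @Smooth) (fpFst y y') :=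
    Groth.Agent.Lib.helper4.AlgStDiagBC.repByAlgSpWith_fpFst _ y' y hy'
  refine core_gen h𝒳 h𝒴 f P hP x y h α hx hxs hy x' y' h' α' ?_ hl'
  intro F' e' he' X' hX' f' g' sq
  exact hP.baseChange (AlgSp.IsAlgSpace.yon_obj U) (AlgSp.IsAlgSpace.yon_obj V) hX' F'.property _ _ _ _ sq
    (spMapOfOver_of_repByAlgSpWith _ (isoInv_locP _) _ hpV_sm F' e' he') hPh

/-- variant of `core` for `P` stable under arbitrary base change: the target chart of the second square need not be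
smooth -/
theorem core' (hPb : ∀ ⦃X₁ Y₁ X₂ Y₂ : AlgSp.Sp S⦄, AlgSp.IsAlgSpace X₁ → AlgSp.IsAlgSpace Y₁ → AlgSp.IsAlgSpace X₂ →
      AlgSp.IsAlgSpace Y₂ → ∀ (a : X₁ ⟶ Y₁) (b : Y₂ ⟶ Y₁) (a' : X₂ ⟶ Y₂) (b' : X₂ ⟶ X₁),
      IsPullback b' a' a b → P a → P a')
    {U V U' V' : Over S} (x : overCat U ⥤ᵇ 𝒳) (y : overCat V ⥤ᵇ 𝒴) (h : U ⟶ V)
    (α : BasedFunctor.comp x f ≅ BasedFunctor.comp (AlgSt.overMap h) y)
    (hx : AlgSt.RepByAlgSpWith (AlgSp.LocP @Smooth) x) (hxs : AlgSt.RepByAlgSpWith AlgSp.IsSurjectiveMor x)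
    (hy : AlgSt.RepByAlgSpWith (AlgSp.LocP @Smooth) y) (hPh : P ((AlgSp.yon S).map h))
    (x' : overCat U' ⥤ᵇ 𝒳) (y' : overCat V' ⥤ᵇ 𝒴) (h' : U' ⟶ V')
    (α' : BasedFunctor.comp x' f ≅ BasedFunctor.comp (AlgSt.overMap h') y')
    (hl' : AlgSt.RepByAlgSpWith (AlgSp.LocP @Smooth) (fpLift x' (AlgSt.overMap h') α')) :
    P ((AlgSp.yon S).map h') := by
  refine core_gen h𝒳 h𝒴 f P hP x y h α hx hxs hy x' y' h' α' ?_ hl'
  intro F' e' he' X' hX' f' g' sq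
  exact hPb (AlgSp.IsAlgSpace.yon_obj U) (AlgSp.IsAlgSpace.yon_obj V) hX' F'.property _ _ _ _ sq hPh

end Core

section Squares

/-- every functor between slices is composition with a morphism -/
theorem exists_overMap_iso {U V : Over S} (Ψ : overCat U ⥤ᵇ overCat V) :
    ∃ h : U ⟶ V, Nonempty (Ψ ≅ AlgSt.overMap h) := by
  obtain ⟨ξ, ⟨i⟩⟩ := exists_map_of_chart (F := (AlgSp.yon S).obj V) (BasedFunctor.comp Ψ (toYon.{u + 1} V))
  obtain ⟨h, hh⟩ := (AlgSp.yon S).map_surjective ξ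
  refine ⟨h, ?_⟩
  apply iso_of_comp_equiv _ _ (toYon.{u + 1} V) (toYon_isEquivOver V)
  have i2 : BasedFunctor.comp (AlgSt.overMap h) (toYon.{u + 1} V) ≅ ofMap ((AlgSp.yon S).map h) :=
    Groth.Agent.Lib.helper4.PshRepGen.overMapIso.{u + 1} h
  rw [hh] at i2
  exact i ≪≫ i2.symm

variable {𝒳 𝒴 : AlgSt.Cat S} (h𝒳 : AlgSt.IsAlgStack Scheme.fppfPrecoverage 𝒳)
  (h𝒴 : AlgSt.IsAlgStack Scheme.fppfPrecoverage 𝒴) (f : 𝒳 ⥤ᵇ 𝒴)
include h𝒳 h𝒴

/-- over every smooth chart of the target there is a chart square whose comparison functor is smooth and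
surjective -/
theorem exists_good_square {V : Over S} (y : overCat V ⥤ᵇ 𝒴)
    (hy : AlgSt.RepByAlgSpWith (AlgSp.LocP @Smooth) y) :
    ∃ (U : Over S) (x : overCat U ⥤ᵇ 𝒳) (h : U ⟶ V)
      (α : BasedFunctor.comp x f ≅ BasedFunctor.comp (AlgSt.overMap h) y),
      AlgSt.RepByAlgSpWith (AlgSp.LocP @Smooth) x ∧
      AlgSt.RepByAlgSpWith (AlgSp.LocP @Smooth) (fpLift x (AlgSt.overMap h) α) ∧
      AlgSt.RepByAlgSpWith AlgSp.IsSurjectiveMor (fpLift x (AlgSt.overMap h) α) ∧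
      (AlgSt.RepByAlgSpWith AlgSp.IsSurjectiveMor y → AlgSt.RepByAlgSpWith AlgSp.IsSurjectiveMor x) := by
  have hVa : AlgSt.IsAlgStack Scheme.fppfPrecoverage (overCat V) := isAlgStack_overCat V
  have hfp : AlgSt.IsAlgStack Scheme.fppfPrecoverage (fp f y) := isAlgStack_fp' h𝒳 hVa h𝒴 f y
  obtain ⟨U, u, hu, hus⟩ := hfp.atlas
  have hUf : IsFibGrpd (overCat U).p := Groth.Agent.FibOver.isFibGrpd_overCat U
  obtain ⟨h, ⟨ψ⟩⟩ := exists_overMap_iso (BasedFunctor.comp u (fpSnd f y))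
  have hπ : AlgSt.RepByAlgSpWith (AlgSp.LocP @Smooth) (fpFst f y) :=
    Groth.Agent.Lib.helper4.AlgStDiagBC.repByAlgSpWith_fpFst _ y f hy
  have il := Groth.Agent.Lib.helper4.FibLiftIso.fpLiftOfSnd f y u ψ
  refine ⟨U, BasedFunctor.comp u (fpFst f y), h,
    whiskerLeftIso u (fpIso f y) ≪≫ whiskerRightIso ψ y, ?_, ?_, ?_, ?_⟩
  · exact smooth_comp hUf hfp.isStack.1 h𝒳.isStack.1 _ _ hu hπ
  · exact (repByAlgSpWith_congr _ il).2 hu
  · exact (repByAlgSpWith_congr _ il).2 hus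
  · intro hys
    exact surj_comp hUf hfp.isStack.1 h𝒳.isStack.1 _ _ hus
      (Groth.Agent.Lib.helper4.AlgStDiagBC.repByAlgSpWith_fpFst _ y f hys)

/-- S12990 -/
theorem locQ_iff_forall (P : MorphismProperty (AlgSp.Sp S)) (hP : AlgSp.IsSmoothLocalST P) :
    AlgSt.LocQ P f ↔
      ∀ (U V : Over S) (x : FibCat.overCat U ⥤ᵇ 𝒳) (y : FibCat.overCat V ⥤ᵇ 𝒴) (h : U ⟶ V)
        (α : BasedFunctor.comp x f ≅ BasedFunctor.comp (AlgSt.overMap h) y),
        AlgSt.RepByAlgSpWith (AlgSp.LocP @Smooth) x → AlgSt.RepByAlgSpWith (AlgSp.LocP @Smooth) y →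
        AlgSt.RepByAlgSpWith (AlgSp.LocP @Smooth) (FibCat.fpLift x (AlgSt.overMap h) α) →
          P ((AlgSp.yon S).map h) := by
  constructor
  · rintro ⟨U₀, V₀, x₀, y₀, h₀, α₀, hx₀, hxs₀, hy₀, hP₀⟩ U V x y h α hx hy hl
    exact core h𝒳.isStack.1 h𝒴.isStack.1 f P hP x₀ y₀ h₀ α₀ hx₀ hxs₀ hy₀ hP₀ x y h α hy hl
  · intro H
    obtain ⟨V, y, hy, hys⟩ := h𝒴.atlas
    obtain ⟨U, x, h, α, hx, hl, -, hxs⟩ := exists_good_square h𝒳 h𝒴 f y hy
    exact ⟨U, V, x, y, h, α, hx, hxs hys, hy, H U V x y h α hx hy hl⟩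

end Squares

section Comp

/-- composition of morphisms of schemes, on slices -/
def overMapCompIso {U V W : Over S} (h : U ⟶ V) (k : V ⟶ W) :
    BasedFunctor.comp (AlgSt.overMap h) (AlgSt.overMap k) ≅ AlgSt.overMap (h ≫ k) :=
  BasedNatIso.mkNatIso (Over.mapComp h k).symm
    (fun a => by
      have h1 := Groth.Agent.FibYoneda.hom_isHomLift (U := W) ((Over.mapComp h k).symm.hom.app a)
      have h2 : ((Over.mapComp h k).symm.hom.app a).left = 𝟙 _ := by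
        simp [Over.mapComp]
      rw [h2] at h1
      exact h1)

variable {𝒳 𝒴 𝒵 : AlgSt.Cat S} (h𝒳 : AlgSt.IsAlgStack Scheme.fppfPrecoverage 𝒳)
  (h𝒴 : AlgSt.IsAlgStack Scheme.fppfPrecoverage 𝒴) (h𝒵 : AlgSt.IsAlgStack Scheme.fppfPrecoverage 𝒵)
  (f : 𝒳 ⥤ᵇ 𝒴) (g : 𝒴 ⥤ᵇ 𝒵)
include h𝒳 h𝒴 h𝒵

/-- S13038 -/
theorem locQ_comp (P : MorphismProperty (AlgSp.Sp S)) (hP : AlgSp.IsSmoothLocalST P)
    (hPc : ∀ ⦃X₁ Y₁ Z₁ : AlgSp.Sp S⦄, AlgSp.IsAlgSpace X₁ → AlgSp.IsAlgSpace Y₁ → AlgSp.IsAlgSpace Z₁ →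
      ∀ (a : X₁ ⟶ Y₁) (b : Y₁ ⟶ Z₁), P a → P b → P (a ≫ b))
    (hf : AlgSt.LocQ P f) (hg : AlgSt.LocQ P g) : AlgSt.LocQ P (BasedFunctor.comp f g) := by
  obtain ⟨W, z, hz, hzs⟩ := h𝒵.atlas
  obtain ⟨V, y, k, β, hy, hly, -, hys⟩ := exists_good_square h𝒴 h𝒵 g z hz
  obtain ⟨U, x, h, α, hx, hlx, -, hxs⟩ := exists_good_square h𝒳 h𝒴 f y hy
  have hPh : P ((AlgSp.yon S).map h) := (locQ_iff_forall h𝒳 h𝒴 f P hP).1 hf U V x y h α hx hy hlx
  have hPk : P ((AlgSp.yon S).map k) := (locQ_iff_forall h𝒴 h𝒵 g P hP).1 hg V W y z k β hy hz hly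
  have hPhk : P ((AlgSp.yon S).map (h ≫ k)) := by
    rw [Functor.map_comp]
    exact hPc (AlgSp.IsAlgSpace.yon_obj U) (AlgSp.IsAlgSpace.yon_obj V) (AlgSp.IsAlgSpace.yon_obj W) _ _ hPh hPk
  have γ : BasedFunctor.comp x (BasedFunctor.comp f g) ≅ BasedFunctor.comp (AlgSt.overMap (h ≫ k)) z :=
    whiskerRightIso α g ≪≫ whiskerLeftIso (AlgSt.overMap h) β ≪≫ whiskerRightIso (overMapCompIso h k) z
  exact ⟨U, W, x, z, h ≫ k, γ, hx, hxs (hys hzs), hz, hPhk⟩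

end Comp

section BaseChange

variable {𝒳 𝒴 𝒴' : AlgSt.Cat S} (h𝒳 : AlgSt.IsAlgStack Scheme.fppfPrecoverage 𝒳)
  (h𝒴 : AlgSt.IsAlgStack Scheme.fppfPrecoverage 𝒴) (h𝒴' : AlgSt.IsAlgStack Scheme.fppfPrecoverage 𝒴')
  (f : 𝒳 ⥤ᵇ 𝒴) (g : 𝒴' ⥤ᵇ 𝒴)
include h𝒳 h𝒴 h𝒴'

/-- S13039 -/
theorem locQ_fpFst (P : MorphismProperty (AlgSp.Sp S)) (hP : AlgSp.IsSmoothLocalST P)
    (hPb : ∀ ⦃X₁ Y₁ X₂ Y₂ : AlgSp.Sp S⦄, AlgSp.IsAlgSpace X₁ → AlgSp.IsAlgSpace Y₁ → AlgSp.IsAlgSpace X₂ →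
      AlgSp.IsAlgSpace Y₂ → ∀ (a : X₁ ⟶ Y₁) (b : Y₂ ⟶ Y₁) (a' : X₂ ⟶ Y₂) (b' : X₂ ⟶ X₁),
      IsPullback b' a' a b → P a → P a')
    (hf : AlgSt.LocQ P f) : AlgSt.LocQ P (fpFst g f) := by
  obtain ⟨U₀, V₀, x₀, y₀, h₀, α₀, hx₀, hxs₀, hy₀, hP₀⟩ := hf
  obtain ⟨V', y', hy', hys'⟩ := h𝒴'.atlas
  have h𝒳' : AlgSt.IsAlgStack Scheme.fppfPrecoverage (fp g f) := isAlgStack_fp' h𝒴' h𝒳 h𝒴 g f
  obtain ⟨T, x'', h'', α'', hx'', hl'', -, hxs''⟩ := exists_good_square h𝒳' h𝒴' (fpFst g f) y' hy'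
  refine ⟨T, V', x'', y', h'', α'', hx'', hxs'' hys', hy', ?_⟩
  let Θ : fp (fpFst g f) y' ⥤ᵇ fp f (BasedFunctor.comp y' g) :=
    BasedFunctor.comp (fpSwap (fpFst g f) y') (BasedFunctor.comp (pasteL y' g f)
      (fpSwap (BasedFunctor.comp y' g) f))
  have hΘ : IsEquivOver Θ := isEquivOver_comp _ _ (fpSwap_isEquivOver _ _)
    (isEquivOver_comp _ _ (pasteL_isEquivOver _ _ _) (fpSwap_isEquivOver _ _))
  have hlΘ : AlgSt.RepByAlgSpWith (AlgSp.LocP @Smooth)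
      (BasedFunctor.comp (fpLift x'' (AlgSt.overMap h'') α'') Θ) :=
    (repByAlgSpWith_iff_of_square _ (BasedFunctor.comp (fpLift x'' (AlgSt.overMap h'') α'') Θ)
      (fpLift x'' (AlgSt.overMap h'') α'') (BasedFunctor.id _) Θ (isEquivOver_id' _) hΘ (Iso.refl _)).2 hl''
  refine core' h𝒳.isStack.1 h𝒴.isStack.1 f P hP hPb x₀ y₀ h₀ α₀ hx₀ hxs₀ hy₀ hP₀
    (BasedFunctor.comp x'' (fpSnd g f)) (BasedFunctor.comp y' g) h''
    (whiskerLeftIso x'' (fpIso g f).symm ≪≫ whiskerRightIso α'' g) ?_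
  exact hlΘ

end BaseChange

section SpaceSquares

/-- functors between categories of presheaves with the same map of presheaves are isomorphic -/
def isoOfPshMapOfEq {A B : AlgSp.PSp S} {Φ Ψ : ofPsh A ⥤ᵇ ofPsh B} (h : pshMapOf Φ = pshMapOf Ψ) : Φ ≅ Ψ :=
  isoOfPshMap Φ ≪≫ eqToIso (by rw [h]) ≪≫ (isoOfPshMap Ψ).symm

theorem locP_smooth_of_etale {F G : AlgSp.Sp S} (p : F ⟶ G) (hp : AlgSp.RepWith @Etale p) :
    AlgSp.LocP @Smooth p := by
  have h1 : AlgSp.IsEtaleMor p := fun U φ hφ => (AlgSp.RepWith (S := S) @Etale).comp_mem _ _ hφ hp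
  refine Groth.Agent.S10265.locP_mono ?_ (Groth.Agent.S10265.locP_etale_of_isEtaleMor p h1)
  intro X Y f hf
  have : Etale f := hf
  exact inferInstanceAs (Smooth f)

theorem locP_smooth_comp {F G H : AlgSp.Sp S} (hG : AlgSp.IsAlgSpace G) (a : F ⟶ G) (b : G ⟶ H)
    (ha : AlgSp.LocP @Smooth a) (hb : AlgSp.LocP @Smooth b) : AlgSp.LocP @Smooth (a ≫ b) :=
  Groth.Agent.H1.LocPStable.locP_comp Groth.Agent.Lib.helper5.LocPBC.locPData_smooth.descend hG a b ha hb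

theorem smooth_ofSpMap {F G : AlgSp.Sp S} (hF : AlgSp.IsAlgSpace F) (hG : AlgSp.IsAlgSpace G) (c : F ⟶ G)
    (hc : AlgSp.LocP @Smooth c) : AlgSt.RepByAlgSpWith (AlgSp.LocP @Smooth) (AlgSt.ofSpMap c) :=
  repByAlgSpWith_of_repBySpWith _ c.hom (repBySpWith_of_stable _
    (fun X₁ Y₁ X₂ Y₂ h1 h2 _ h4 a b a' b' sq ha =>
      Groth.Agent.Lib.helper5.LocPBC.locP_of_isPullback Groth.Agent.Lib.helper5.LocPBC.locPData_smooth h1 h2 h4 sq ha)
    hF hG c hc)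

theorem surj_ofSpMap {F G : AlgSp.Sp S} (hF : AlgSp.IsAlgSpace F) (hG : AlgSp.IsAlgSpace G) (c : F ⟶ G)
    (hc : AlgSp.IsSurjectiveMor c) : AlgSt.RepByAlgSpWith AlgSp.IsSurjectiveMor (AlgSt.ofSpMap c) :=
  repByAlgSpWith_of_repBySpWith _ c.hom (repBySpWith_of_stable _
    (fun X₁ Y₁ X₂ Y₂ _ _ _ _ a b a' b' sq ha z => by
      obtain ⟨x, hx⟩ := ha (AlgSp.Points.map b z)
      obtain ⟨w, -, hw⟩ := Groth.Agent.Lib.helper10.exists_point_of_isPullback sq x z hx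
      exact ⟨w, hw⟩)
    hF hG c hc)

/-- a functor of a map of algebraic spaces with `Q` (fppf local on the base) : the map has `Q` -/
theorem prop_of_repByAlgSpWith_ofSpMap (Q : MorphismProperty (AlgSp.Sp S)) (hQ : IsoInv Q)
    (hloc : AlgSp.IsLocalOnBase AlgSp.IsFppfCover Q) {F G : AlgSp.Sp S} (hF : AlgSp.IsAlgSpace F)
    (hG : AlgSp.IsAlgSpace G) (c : F ⟶ G) (h : AlgSt.RepByAlgSpWith Q (AlgSt.ofSpMap c)) : Q c := by
  have h1 := pshMapOf_of_repByAlgSpWith Q hQ hloc (AlgSt.ofSpMap c) h ⟨F, hF⟩ ⟨G, hG⟩ (BasedFunctor.id _)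
    (isEquivOver_id' _) (BasedFunctor.id _) (BasedFunctor.id _) (Iso.refl _) (isEquivOver_id' _)
  have h2 : (ObjectProperty.homMk (pshMapOf (BasedFunctor.comp (BasedFunctor.comp (BasedFunctor.id _)
      (AlgSt.ofSpMap c)) (BasedFunctor.id _))) : F ⟶ G) = c := by
    apply ObjectProperty.hom_ext
    exact pshMapOf_ofPshMap c.hom
  rwa [h2] at h1

variable {𝒳 𝒴 : AlgSt.Cat S} (h𝒳 : IsFibGrpd 𝒳.p) (h𝒴 : IsFibGrpd 𝒴.p) (f : 𝒳 ⥤ᵇ 𝒴)
include h𝒳 h𝒴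

/-- a chart square of algebraic spaces with `P` gives a chart square of schemes with `P` (S12991, one direction) -/
theorem locQ_of_space_square_gen (P : MorphismProperty (AlgSp.Sp S))
    (F G : AlgSp.Space S) (x : AlgSt.ofSp F.obj ⥤ᵇ 𝒳) (y : AlgSt.ofSp G.obj ⥤ᵇ 𝒴) (c : F ⟶ G)
    (hbc : ∀ {V₀ : Over S} (q : (AlgSp.yon S).obj V₀ ⟶ G.obj), AlgSp.RepWith @Etale q →
      ∀ {W : AlgSp.Sp S}, AlgSp.IsAlgSpace W → ∀ (pr₁ : W ⟶ F.obj) (pr₂ : W ⟶ (AlgSp.yon S).obj V₀),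
        IsPullback pr₁ pr₂ c.hom q → P pr₂)
    (hpre : ∀ {U₀ V₀ : Over S} {W : AlgSp.Sp S}, AlgSp.IsAlgSpace W →
      ∀ (p : (AlgSp.yon S).obj U₀ ⟶ W) (g : W ⟶ (AlgSp.yon S).obj V₀), AlgSp.RepWith @Etale p → P g → P (p ≫ g))
    (α : BasedFunctor.comp x f ≅ BasedFunctor.comp (AlgSt.ofSpMap c.hom) y)
    (hx : AlgSt.RepByAlgSpWith (AlgSp.LocP @Smooth) x) (hxs : AlgSt.RepByAlgSpWith AlgSp.IsSurjectiveMor x)
    (hy : AlgSt.RepByAlgSpWith (AlgSp.LocP @Smooth) y) : AlgSt.LocQ P f := by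
  obtain ⟨V₀, q, hq1, hq2⟩ := G.property.atlas
  have sq : IsPullback (pullback.fst c.hom q) (pullback.snd c.hom q) c.hom q := IsPullback.of_hasPullback _ _
  have hW : AlgSp.IsAlgSpace (pullback c.hom q) :=
    Groth.Agent.Lib.helper5.isAlgSpace_of_isPullback G.property.diag F.property (AlgSp.IsAlgSpace.yon_obj V₀) sq
  obtain ⟨U₀, p, hp1, hp2⟩ := hW.atlas
  obtain ⟨h₀, hh₀⟩ := (AlgSp.yon S).map_surjective (p ≫ pullback.snd c.hom q)
  have hq_sm : AlgSp.LocP @Smooth q := locP_smooth_of_etale q hq1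
  have hp_sm : AlgSp.LocP @Smooth p := locP_smooth_of_etale p hp1
  have hpr₂ : P (pullback.snd c.hom q) := hbc q hq1 hW _ _ sq
  have hPh₀ : P ((AlgSp.yon S).map h₀) := by
    rw [hh₀]
    exact hpre hW p _ hp1 hpr₂
  have hpr₁_sm : AlgSp.LocP @Smooth (pullback.fst c.hom q) :=
    Groth.Agent.Lib.helper5.LocPBC.locP_of_isPullback Groth.Agent.Lib.helper5.LocPBC.locPData_smooth
      (AlgSp.IsAlgSpace.yon_obj V₀) G.property F.property sq.flip hq_sm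
  have hpr₁_su : AlgSp.IsSurjectiveMor (pullback.fst c.hom q) := by
    intro z
    obtain ⟨v, hv⟩ := Groth.Agent.Lib.helper5.surjective_map_of_repWith_surjective q hq2 (AlgSp.Points.map c.hom z)
    obtain ⟨w, hw, -⟩ := Groth.Agent.Lib.helper10.exists_point_of_isPullback sq z v hv.symm
    exact ⟨w, hw⟩
  have hp_su : AlgSp.IsSurjectiveMor p := Groth.Agent.Lib.helper5.surjective_map_of_repWith_surjective p hp2
  have hU₀f : IsFibGrpd (overCat U₀).p := Groth.Agent.FibOver.isFibGrpd_overCat U₀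
  have hV₀f : IsFibGrpd (overCat V₀).p := Groth.Agent.FibOver.isFibGrpd_overCat V₀
  have hWf : IsFibGrpd (AlgSt.ofSp (pullback c.hom q)).p := isFibGrpd_ofPsh _
  have hFf : IsFibGrpd (AlgSt.ofSp F.obj).p := isFibGrpd_ofPsh _
  have hGf : IsFibGrpd (AlgSt.ofSp G.obj).p := isFibGrpd_ofPsh _
  -- the source chart
  have hx₁ : AlgSt.RepByAlgSpWith (AlgSp.LocP @Smooth)
      (BasedFunctor.comp (ofMap p) (AlgSt.ofSpMap (pullback.fst c.hom q))) :=
    smooth_comp hU₀f hWf hFf _ _ (smooth_ofMap p hp1) (smooth_ofSpMap hW F.property _ hpr₁_sm)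
  have hx₁s : AlgSt.RepByAlgSpWith AlgSp.IsSurjectiveMor
      (BasedFunctor.comp (ofMap p) (AlgSt.ofSpMap (pullback.fst c.hom q))) :=
    surj_comp hU₀f hWf hFf _ _ (surj_ofMap p hp2) (surj_ofSpMap hW F.property _ hpr₁_su)
  have hx₀ : AlgSt.RepByAlgSpWith (AlgSp.LocP @Smooth) (BasedFunctor.comp
      (BasedFunctor.comp (ofMap p) (AlgSt.ofSpMap (pullback.fst c.hom q))) x) :=
    smooth_comp hU₀f hFf h𝒳 _ _ hx₁ hx
  have hx₀s : AlgSt.RepByAlgSpWith AlgSp.IsSurjectiveMor (BasedFunctor.comp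
      (BasedFunctor.comp (ofMap p) (AlgSt.ofSpMap (pullback.fst c.hom q))) x) :=
    surj_comp hU₀f hFf h𝒳 _ _ hx₁s hxs
  have hy₀ : AlgSt.RepByAlgSpWith (AlgSp.LocP @Smooth) (BasedFunctor.comp (ofMap q) y) :=
    smooth_comp hV₀f hGf h𝒴 _ _ (smooth_ofMap q hq1) hy
  -- the 2-isomorphism
  have hcomm : (p.hom ≫ (pullback.fst c.hom q).hom) ≫ c.hom.hom = ((AlgSp.yon S).map h₀).hom ≫ q.hom := by
    have : (p ≫ pullback.fst c.hom q) ≫ c.hom = (AlgSp.yon S).map h₀ ≫ q := by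
      rw [hh₀, Category.assoc, Category.assoc, sq.w]
    exact congrArg (fun m => m.hom) this
  have e2 : BasedFunctor.comp (BasedFunctor.comp (ofMap p) (AlgSt.ofSpMap (pullback.fst c.hom q)))
        (AlgSt.ofSpMap c.hom) ≅ BasedFunctor.comp (AlgSt.overMap h₀) (ofMap q) :=
    whiskerLeftIso (toYon.{u + 1} U₀) (isoOfPshMapOfEq (by
      have h1 : pshMapOf (BasedFunctor.comp (BasedFunctor.comp (AlgSt.ofSpMap p)
          (AlgSt.ofSpMap (pullback.fst c.hom q))) (AlgSt.ofSpMap c.hom)) =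
          (p.hom ≫ (pullback.fst c.hom q).hom) ≫ c.hom.hom := by
        refine (pshMapOf_comp _ _).trans ?_
        rw [pshMapOf_ofPshMap]
        refine congrArg (· ≫ c.hom.hom) ?_
        refine (pshMapOf_comp _ _).trans ?_
        rw [pshMapOf_ofPshMap, pshMapOf_ofPshMap]
      have h2 : pshMapOf (BasedFunctor.comp (AlgSt.ofSpMap ((AlgSp.yon S).map h₀)) (AlgSt.ofSpMap q)) =
          ((AlgSp.yon S).map h₀).hom ≫ q.hom := by
        refine (pshMapOf_comp _ _).trans ?_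
        rw [pshMapOf_ofPshMap, pshMapOf_ofPshMap]
      rw [h1, h2]
      exact hcomm) :
      BasedFunctor.comp (BasedFunctor.comp (AlgSt.ofSpMap p) (AlgSt.ofSpMap (pullback.fst c.hom q)))
        (AlgSt.ofSpMap c.hom) ≅
      BasedFunctor.comp (AlgSt.ofSpMap ((AlgSp.yon S).map h₀)) (AlgSt.ofSpMap q)) ≪≫
    whiskerRightIso (Groth.Agent.Lib.helper4.PshRepGen.overMapIso.{u + 1} h₀).symm (AlgSt.ofSpMap q)
  have α₀ : BasedFunctor.comp (BasedFunctor.comp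
        (BasedFunctor.comp (ofMap p) (AlgSt.ofSpMap (pullback.fst c.hom q))) x) f ≅
      BasedFunctor.comp (AlgSt.overMap h₀) (BasedFunctor.comp (ofMap q) y) :=
    whiskerLeftIso (BasedFunctor.comp (ofMap p) (AlgSt.ofSpMap (pullback.fst c.hom q))) α ≪≫
      whiskerRightIso e2 y
  exact ⟨U₀, V₀, _, _, h₀, α₀, hx₀, hx₀s, hy₀, hPh₀⟩

/-- a chart square of algebraic spaces with `P` gives a chart square of schemes with `P` (S12991, one direction) -/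
theorem locQ_of_space_square (P : MorphismProperty (AlgSp.Sp S)) (hP : AlgSp.IsSmoothLocalST P)
    (F G : AlgSp.Space S) (x : AlgSt.ofSp F.obj ⥤ᵇ 𝒳) (y : AlgSt.ofSp G.obj ⥤ᵇ 𝒴) (c : F ⟶ G)
    (α : BasedFunctor.comp x f ≅ BasedFunctor.comp (AlgSt.ofSpMap c.hom) y)
    (hx : AlgSt.RepByAlgSpWith (AlgSp.LocP @Smooth) x) (hxs : AlgSt.RepByAlgSpWith AlgSp.IsSurjectiveMor x)
    (hy : AlgSt.RepByAlgSpWith (AlgSp.LocP @Smooth) y) (hPc : P c.hom) : AlgSt.LocQ P f :=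
  locQ_of_space_square_gen h𝒳 h𝒴 f P F G x y c
    (fun {V₀} q hq {W} hW pr₁ pr₂ sq =>
      hP.baseChange F.property G.property hW (AlgSp.IsAlgSpace.yon_obj V₀) c.hom q _ _ sq
        (locP_smooth_of_etale q hq) hPc)
    (fun {U₀ V₀ W} hW p g hp hg =>
      hP.precomp (AlgSp.IsAlgSpace.yon_obj U₀) hW (AlgSp.IsAlgSpace.yon_obj V₀) p g (locP_smooth_of_etale p hp) hg)
    α hx hxs hy

end SpaceSquares

end Groth.Agent.Lib.helper4.AlgStLocQ
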