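import Groth.Agent.Lib.Helper4.AlgStSmLoc
set_option autoImplicit false
set_option backward.isDefEq.respectTransparency false
set_option backward.isDefEq.respectTransparency.types false
set_option linter.unusedSectionVars false
set_option linter.style.haveILetI false
set_option linter.unusedVariables false
open CategoryTheory CategoryTheory.Functor CategoryTheory.Limits Opposite AlgebraicGeometry
universe u

/-! Quasi-compact algebraic stacks: affine, quasi-compact scheme and quasi-compact space atlases. -/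

namespace Groth.Agent.Lib.helper4.AlgStQC
open Groth.Agent.FibEquiv Groth.Agent.FibYoneda Groth.Agent.FibFpProj Stk FibCat
open Groth.Agent.Lib.helper4.Descent Groth.Agent.Lib.helper4.PshDict Groth.Agent.Lib.helper4.FibPaste
open Groth.Agent.Lib.helper4.AlgStEquiv Groth.Agent.Lib.helper4.PshRep Groth.Agent.Lib.helper4.PshPB
open Groth.Agent.Lib.helper4.FibSwap Groth.Agent.Lib.helper4.AlgStSetoid Groth.Agent.Lib.helper4.AlgStCoreA
open Groth.Agent.Lib.helper4.AlgStDescent Groth.Agent.Lib.helper4.AlgStSource Groth.Agent.Lib.helper4.AlgStDM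
open Groth.Agent.Lib.helper4.AlgStSmLoc

variable {S : Scheme.{u}}

/-- precompose a smooth surjective chart from an algebraic space with an etale surjective chart of that space -/
theorem chart_of_space_chart {𝒳 : AlgSt.Cat S} (h𝒳 : IsFibGrpd 𝒳.p) {F : AlgSp.Sp S} (x : AlgSt.ofSp F ⥤ᵇ 𝒳)
    (hx : AlgSt.RepByAlgSpWith (AlgSp.LocP @Smooth) x) (hxs : AlgSt.RepByAlgSpWith AlgSp.IsSurjectiveMor x)
    {W : Over S} (p : (AlgSp.yon S).obj W ⟶ F) (hp1 : AlgSp.RepWith @Etale p) (hp2 : AlgSp.RepWith @Surjective p) :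
    AlgSt.RepByAlgSpWith (AlgSp.LocP @Smooth) (BasedFunctor.comp (ofMap p) x) ∧
      AlgSt.RepByAlgSpWith AlgSp.IsSurjectiveMor (BasedFunctor.comp (ofMap p) x) := by
  have h1 : IsFibGrpd (overCat W).p := Groth.Agent.FibOver.isFibGrpd_overCat W
  have h2 : IsFibGrpd (AlgSt.ofSp F).p := isFibGrpd_ofPsh _
  exact ⟨smooth_comp h1 h2 h𝒳 _ _ (smooth_ofMap p hp1) hx, surj_comp h1 h2 h𝒳 _ _ (surj_ofMap p hp2) hxs⟩

/-- a smooth surjective chart from a scheme gives one from the sheaf of the scheme -/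
theorem exists_space_chart {𝒳 : AlgSt.Cat S} {U : Over S} (x : overCat U ⥤ᵇ 𝒳)
    (hx : AlgSt.RepByAlgSpWith (AlgSp.LocP @Smooth) x) (hxs : AlgSt.RepByAlgSpWith AlgSp.IsSurjectiveMor x) :
    ∃ x' : AlgSt.ofSp ((AlgSp.yon S).obj U) ⥤ᵇ 𝒳, AlgSt.RepByAlgSpWith (AlgSp.LocP @Smooth) x' ∧
      AlgSt.RepByAlgSpWith AlgSp.IsSurjectiveMor x' := by
  obtain ⟨Yi, ⟨α⟩, ⟨β⟩⟩ := toYon_isEquivOver.{u + 1} U
  have hYi : IsEquivOver Yi := isEquivOver_symm α β
  exact ⟨BasedFunctor.comp Yi x, (repByAlgSpWith_precomp_iff _ x Yi hYi).1 hx,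
    (repByAlgSpWith_precomp_iff _ x Yi hYi).1 hxs⟩

/-- S12857 -/
theorem isQuasiCompact_iff_exists_compact_chart {𝒳 : AlgSt.Cat S} (h𝒳 : IsFibGrpd 𝒳.p) :
    AlgSt.IsQuasiCompact 𝒳 ↔
      ∃ (U : Over S) (x : FibCat.overCat U ⥤ᵇ 𝒳), CompactSpace ↥U.left ∧
        AlgSt.RepByAlgSpWith (AlgSp.LocP @Smooth) x ∧ AlgSt.RepByAlgSpWith AlgSp.IsSurjectiveMor x := by
  constructor
  · rintro ⟨U, x, hU, hx, hxs⟩
    exact ⟨U, x, inferInstance, hx, hxs⟩
  · rintro ⟨U, x, hU, hx, hxs⟩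
    obtain ⟨Y, p, hp1, hp2, hY⟩ := Scheme.exists_hom_isAffine_of_isZariskiLocalAtSource @Etale U.left
    obtain ⟨x', hx', hxs'⟩ := exists_space_chart x hx hxs
    let V : Over S := Over.mk (p ≫ U.hom)
    let g : V ⟶ U := Over.homMk p rfl
    have hg1 : AlgSp.RepWith @Etale ((AlgSp.yon S).map g) := (AlgSp.repWith_yon_map_iff @Etale g).2 hp2
    have hg2 : AlgSp.RepWith @Surjective ((AlgSp.yon S).map g) := (AlgSp.repWith_yon_map_iff @Surjective g).2 hp1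
    obtain ⟨h1, h2⟩ := chart_of_space_chart h𝒳 x' hx' hxs' ((AlgSp.yon S).map g) hg1 hg2
    exact ⟨V, _, hY, h1, h2⟩

/-- S12856 -/
theorem isQuasiCompact_iff_exists_qc_space_chart {𝒳 : AlgSt.Cat S} (h𝒳 : IsFibGrpd 𝒳.p) :
    AlgSt.IsQuasiCompact 𝒳 ↔
      ∃ (U : AlgSp.Space S) (x : AlgSt.ofSp U.obj ⥤ᵇ 𝒳), AlgSp.IsQuasiCompactSp U.obj ∧
        AlgSt.RepByAlgSpWith (AlgSp.LocP @Smooth) x ∧ AlgSt.RepByAlgSpWith AlgSp.IsSurjectiveMor x := by
  constructor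
  · rintro ⟨U, x, hU, hx, hxs⟩
    obtain ⟨x', hx', hxs'⟩ := exists_space_chart x hx hxs
    exact ⟨⟨(AlgSp.yon S).obj U, AlgSp.IsAlgSpace.yon_obj U⟩, x',
      ⟨U, 𝟙 _, AlgSp.repWith_id _ U, AlgSp.repWith_id _ U, inferInstance⟩, hx', hxs'⟩
  · rintro ⟨U, x, ⟨W, p, hp1, hp2, hW⟩, hx, hxs⟩
    obtain ⟨h1, h2⟩ := chart_of_space_chart h𝒳 x hx hxs p hp1 hp2
    exact (isQuasiCompact_iff_exists_compact_chart h𝒳).2 ⟨W, _, hW, h1, h2⟩

end Groth.Agent.Lib.helper4.AlgStQC
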