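import Groth.Agent.Lib.Helper4.AlgStPts4
import Groth.Agent.Lib.Helper4.AlgStQC
set_option autoImplicit false
set_option backward.isDefEq.respectTransparency false
set_option backward.isDefEq.respectTransparency.types false
set_option linter.unusedSectionVars false
set_option linter.style.haveILetI false
set_option linter.unusedVariables false
open CategoryTheory CategoryTheory.Functor CategoryTheory.Limits Opposite AlgebraicGeometry
universe u

/-! Charts from algebraic spaces; local quasi-compactness; quasi-compact stacks. -/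

namespace Groth.Agent.Lib.helper4.AlgStPts
open Groth.Agent.FibEquiv Groth.Agent.FibYoneda Groth.Agent.FibFpProj Stk FibCat
open Groth.Agent.Lib.helper4.Descent Groth.Agent.Lib.helper4.PshDict Groth.Agent.Lib.helper4.FibPaste
open Groth.Agent.Lib.helper4.AlgStEquiv Groth.Agent.Lib.helper4.PshRep Groth.Agent.Lib.helper4.PshPB
open Groth.Agent.Lib.helper4.FibSwap Groth.Agent.Lib.helper4.AlgStSetoid Groth.Agent.Lib.helper4.AlgStCoreA
open Groth.Agent.Lib.helper4.AlgStDescent Groth.Agent.Lib.helper4.AlgStSource Groth.Agent.Lib.helper4.AlgStDM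
open Groth.Agent.Lib.helper4.AlgStSmLoc Groth.Agent.Lib.helper4.PointsBasic Groth.Agent.Lib.helper4.AlgStRep
open AlgSt

variable {S : Scheme.{u}}

section Comp

variable {𝒳 𝒴 𝒵 : AlgSt.Cat S} (h𝒳 : IsFibGrpd 𝒳.p) (h𝒴 : IsFibGrpd 𝒴.p) (h𝒵 : IsFibGrpd 𝒵.p)
  (f : 𝒳 ⥤ᵇ 𝒴) (g : 𝒴 ⥤ᵇ 𝒵)
include h𝒳 h𝒴 h𝒵

/-- composition of functors representable by algebraic spaces with a property of schemes local on source and
target -/
theorem locP_comp (P : MorphismProperty Scheme.{u}) (hP : Groth.Agent.Lib.helper5.LocPBC.LocPData P)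
    [P.IsStableUnderComposition] (hloc : AlgSp.IsLocalOnBase (AlgSp.IsFpqcCover (S := S)) (AlgSp.LocP P))
    (hf : AlgSt.RepByAlgSpWith (AlgSp.LocP P) f) (hg : AlgSt.RepByAlgSpWith (AlgSp.LocP P) g) :
    AlgSt.RepByAlgSpWith (AlgSp.LocP P) (BasedFunctor.comp f g) :=
  Groth.Agent.S12780.result h𝒳 h𝒴 h𝒵 (AlgSp.LocP P)
    (fun X₁ Y₁ X₂ Y₂ h1 h2 _ h4 a b a' b' sq ha =>
      Groth.Agent.Lib.helper5.LocPBC.locP_of_isPullback hP h1 h2 h4 sq ha)
    (fun X Y Z _ hY _ a b ha hb => Groth.Agent.H1.LocPStable.locP_comp hP.descend hY a b ha hb)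
    (isLocalOnBase_fppf_of_fpqc hloc) f g hf hg

theorem flat_comp (hf : AlgSt.RepByAlgSpWith (AlgSp.LocP @Flat) f)
    (hg : AlgSt.RepByAlgSpWith (AlgSp.LocP @Flat) g) :
    AlgSt.RepByAlgSpWith (AlgSp.LocP @Flat) (BasedFunctor.comp f g) :=
  locP_comp h𝒳 h𝒴 h𝒵 f g @Flat Groth.Agent.Lib.helper5.LocPBC.locPData_flat (Groth.Agent.S10530.result S) hf hg

theorem lfp_comp (hf : AlgSt.RepByAlgSpWith (AlgSp.LocP @LocallyOfFinitePresentation) f)
    (hg : AlgSt.RepByAlgSpWith (AlgSp.LocP @LocallyOfFinitePresentation) g) :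
    AlgSt.RepByAlgSpWith (AlgSp.LocP @LocallyOfFinitePresentation) (BasedFunctor.comp f g) :=
  locP_comp h𝒳 h𝒴 h𝒵 f g @LocallyOfFinitePresentation Groth.Agent.Lib.helper5.LocPBC.locPData_lfp
    (Groth.Agent.S10527.result S) hf hg

end Comp

/-- an etale chart of a sheaf has every property of schemes that etale morphisms have -/
theorem locP_ofMap (P : MorphismProperty Scheme.{u}) (hP : ∀ {X Y : Scheme.{u}} (f : X ⟶ Y), Etale f → P f)
    {F : AlgSp.Sp S} {U : Over S} (p : (AlgSp.yon S).obj U ⟶ F) (hp : AlgSp.RepWith @Etale p) :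
    AlgSt.RepByAlgSpWith (AlgSp.LocP P) (ofMap p) := by
  apply repByAlgSpWith_ofMap
  rw [AlgSp.repBySpWith_hom_iff]
  intro V ξ F' fst snd sq
  obtain ⟨h1, h2⟩ := (AlgSp.repBySpWith_hom_iff _ p).1 (repBySpWith_isEtaleMor p hp) ξ fst snd sq
  exact ⟨h1, Groth.Agent.S10265.locP_mono (fun X Y f hf => hP f hf)
    (Groth.Agent.S10265.locP_etale_of_isEtaleMor snd h2)⟩

section Space

variable {𝒳 : AlgSt.Cat S} (h𝒳 : IsFibGrpd 𝒳.p)
include h𝒳

/-- S12821: a flat, locally finitely presented morphism from an algebraic space is open on points -/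
theorem isOpenMap_map_space (U : AlgSp.Space S) (u : AlgSt.ofSp U.obj ⥤ᵇ 𝒳)
    (hu₁ : AlgSt.RepByAlgSpWith (AlgSp.LocP @Flat) u)
    (hu₂ : AlgSt.RepByAlgSpWith (AlgSp.LocP @LocallyOfFinitePresentation) u) :
    IsOpenMap (Points.map u) := by
  obtain ⟨T, p, hp1, hp2⟩ := U.property.atlas
  have hT : IsFibGrpd (overCat T).p := Groth.Agent.FibOver.isFibGrpd_overCat T
  have hU : IsFibGrpd (AlgSt.ofSp U.obj).p := isFibGrpd_ofPsh _
  have hc₁ : AlgSt.RepByAlgSpWith (AlgSp.LocP @Flat) (BasedFunctor.comp (ofMap p) u) :=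
    flat_comp hT hU h𝒳 _ _ (locP_ofMap @Flat (fun f hf => by have := hf; infer_instance) p hp1) hu₁
  have hc₂ : AlgSt.RepByAlgSpWith (AlgSp.LocP @LocallyOfFinitePresentation) (BasedFunctor.comp (ofMap p) u) :=
    lfp_comp hT hU h𝒳 _ _
      (locP_ofMap @LocallyOfFinitePresentation (fun f hf => by have := hf; infer_instance) p hp1) hu₂
  intro O hO
  have h1 : Points.map u '' O =
      Points.ofChart (BasedFunctor.comp (ofMap p) u) '' (Points.ofChart (ofMap p) ⁻¹' O) := by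
    ext z
    constructor
    · rintro ⟨w, hw, rfl⟩
      obtain ⟨t, rfl⟩ := exists_ofChart_ofMap_eq U.obj p hp2 w
      exact ⟨t, hw, rfl⟩
    · rintro ⟨t, ht, rfl⟩
      exact ⟨Points.ofChart (ofMap p) t, ht, rfl⟩
  rw [h1]
  exact isOpenMap_ofChart_fppf h𝒳 _ hc₁ hc₂ _ ((Points.isOpen_iff.1 hO) T (ofMap p) (smooth_ofMap p hp1))

/-- S12823 -/
theorem isOpen_iff_preimage_space (hat : AlgSt.HasAtlas (AlgSp.LocP @Smooth) 𝒳) (U : AlgSp.Space S)
    (p : AlgSt.ofSp U.obj ⥤ᵇ 𝒳)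
    (hp₁ : AlgSt.RepByAlgSpWith (AlgSp.LocP @Flat) p)
    (hp₂ : AlgSt.RepByAlgSpWith (AlgSp.LocP @LocallyOfFinitePresentation) p)
    (hp₃ : AlgSt.RepByAlgSpWith AlgSp.IsSurjectiveMor p) (W : Set (AlgSt.Points 𝒳)) :
    IsOpen W ↔ IsOpen (AlgSt.Points.map p ⁻¹' W) := by
  constructor
  · intro hW
    exact (continuous_map h𝒳 hat p).isOpen_preimage W hW
  · intro hW
    have h1 := isOpenMap_map_space h𝒳 U p hp₁ hp₂ _ hW
    rwa [Set.image_preimage_eq _ (isSurjective_of_repByAlgSpWith h𝒳 p hp₃)] at h1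

/-- a surjective chart from a scheme is surjective on points -/
theorem ofChart_surjective {U : Over S} (x : overCat U ⥤ᵇ 𝒳)
    (hxs : AlgSt.RepByAlgSpWith AlgSp.IsSurjectiveMor x) : Function.Surjective (Points.ofChart x) := by
  intro z
  obtain ⟨w, rfl⟩ := isSurjective_of_repByAlgSpWith h𝒳 x hxs z
  refine ⟨slicePt U w, ?_⟩
  have h1 : w = Points.ofChart (BasedFunctor.id (overCat U)) (slicePt U w) := by
    rw [← slicePt_symm_apply, Equiv.symm_apply_apply]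
  conv_rhs => rw [h1]
  rfl

/-- S12824 -/
theorem exists_isOpen_isCompact_nhd (hat : AlgSt.HasAtlas (AlgSp.LocP @Smooth) 𝒳) (x : AlgSt.Points 𝒳)
    (W : Set (AlgSt.Points 𝒳)) (hW : IsOpen W) (hx : x ∈ W) :
    ∃ V : Set (AlgSt.Points 𝒳), IsOpen V ∧ IsCompact V ∧ x ∈ V ∧ V ⊆ W := by
  obtain ⟨U, x₀, hx₀, hxs⟩ := id hat
  obtain ⟨u, rfl⟩ := ofChart_surjective h𝒳 x₀ hxs x
  have hc : Continuous (Points.ofChart x₀) := continuous_ofChart h𝒳 hat x₀
  have ho : IsOpenMap (Points.ofChart x₀) := isOpenMap_ofChart_smooth h𝒳 x₀ hx₀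
  have hO : IsOpen (Points.ofChart x₀ ⁻¹' W) := hc.isOpen_preimage W hW
  obtain ⟨_, ⟨A, hA, rfl⟩, huA, hAW⟩ := U.left.isBasis_affineOpens.exists_subset_of_mem_open hx hO
  have hA' : IsAffineOpen A := hA
  refine ⟨Points.ofChart x₀ '' (A : Set ↥U.left), ho _ A.2, hA'.isCompact.image hc, ⟨u, huA, rfl⟩, ?_⟩
  rintro _ ⟨a, ha, rfl⟩
  exact hAW ha

end Space

end Groth.Agent.Lib.helper4.AlgStPts
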