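import Groth.Agent.Lib.Helper4.AlgStDiagComp
import Groth.Agent.Lib.Helper4.AlgStPts5
import Groth.Agent.S10543
import Groth.Agent.S10541
import Groth.Agent.S10275
import Groth.Agent.S10276
import Groth.Agent.S10536
import Groth.Agent.S10519
import Groth.Agent.S10520
import Groth.Agent.Lib.Helper5.AlgSpQCFam
set_option autoImplicit false
set_option backward.isDefEq.respectTransparency false
set_option backward.isDefEq.respectTransparency.types false
set_option linter.unusedSectionVars false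
set_option linter.unusedVariables false
open CategoryTheory CategoryTheory.Functor CategoryTheory.Limits AlgebraicGeometry
universe u

/-! Compositions of DM / quasi-DM / separated / quasi-separated morphisms of stacks. -/

namespace Groth.Agent.Lib.helper4.AlgStDiagComp
open Groth.Agent.FibEquiv Groth.Agent.Lib.helper4.FibPaste FibCat
open Groth.Agent.Lib.helper4.AlgStSource

variable {S : Scheme.{u}}

/-- quasi-separated morphisms of sheaves are those whose diagonal is representable and quasi-compact -/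
theorem isQuasiSeparatedMor_eq :
    (AlgSp.IsQuasiSeparatedMor (S := S)) = (AlgSp.RepWith (S := S) @QuasiCompact).diagonal := rfl

theorem isQuasiSeparatedMor_of_isPullback {F G F' G' : AlgSp.Sp S} {a : F' ⟶ F} {s : F' ⟶ G'} {t : F ⟶ G}
    {b : G' ⟶ G} (sq : IsPullback a s t b) (ht : AlgSp.IsQuasiSeparatedMor t) :
    AlgSp.IsQuasiSeparatedMor s := by
  have : (AlgSp.RepWith (S := S) @QuasiCompact).IsStableUnderBaseChange :=
    MorphismProperty.relative_isStableUnderBaseChange _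
  rw [isQuasiSeparatedMor_eq] at ht ⊢
  exact MorphismProperty.of_isPullback sq ht

theorem isQuasiSeparatedMor_comp {F G H : AlgSp.Sp S} (a : F ⟶ G) (b : G ⟶ H)
    (ha : AlgSp.IsQuasiSeparatedMor a) (hb : AlgSp.IsQuasiSeparatedMor b) :
    AlgSp.IsQuasiSeparatedMor (a ≫ b) := by
  have : (AlgSp.RepWith (S := S) @QuasiCompact).IsStableUnderBaseChange :=
    MorphismProperty.relative_isStableUnderBaseChange _
  rw [isQuasiSeparatedMor_eq] at ha hb ⊢
  exact MorphismProperty.comp_mem _ a b ha hb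

section Comp
variable {𝒳 𝒴 𝒵 : AlgSt.Cat S} (h𝒳 : IsFibGrpd 𝒳.p) (h𝒴 : IsFibGrpd 𝒴.p) (h𝒵 : IsFibGrpd 𝒵.p)
  (f : 𝒳 ⥤ᵇ 𝒴) (g : 𝒴 ⥤ᵇ 𝒵)
include h𝒳 h𝒴 h𝒵

theorem locP_diag_comp (P : MorphismProperty Scheme.{u}) (hP : Groth.Agent.Lib.helper5.LocPBC.LocPData P)
    [P.IsStableUnderComposition] (hloc : AlgSp.IsLocalOnBase (AlgSp.IsFpqcCover (S := S)) (AlgSp.LocP P))
    (hf : AlgSt.RepByAlgSpWith (AlgSp.LocP P) (FibCat.diag f))
    (hg : AlgSt.RepByAlgSpWith (AlgSp.LocP P) (FibCat.diag g)) :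
    AlgSt.RepByAlgSpWith (AlgSp.LocP P) (FibCat.diag (BasedFunctor.comp f g)) :=
  repByAlgSpWith_diag_comp h𝒳 h𝒴 h𝒵 (AlgSp.LocP P)
    (fun X₁ Y₁ X₂ Y₂ h1 h2 _ h4 a b a' b' sq ha =>
      Groth.Agent.Lib.helper5.LocPBC.locP_of_isPullback hP h1 h2 h4 sq ha)
    (fun X Y Z _ hY _ a b ha hb => Groth.Agent.H1.LocPStable.locP_comp hP.descend hY a b ha hb)
    (isLocalOnBase_fppf_of_fpqc hloc) f g hf hg

theorem isDMMor_comp (hf : AlgSt.IsDMMor f) (hg : AlgSt.IsDMMor g) :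
    AlgSt.IsDMMor (BasedFunctor.comp f g) :=
  locP_diag_comp h𝒳 h𝒴 h𝒵 f g _ Groth.Agent.Lib.helper5.LocPBC.locPData_unramified
    (Groth.Agent.S10543.result S) hf hg

theorem isQuasiDMMor_comp (hf : AlgSt.IsQuasiDMMor f) (hg : AlgSt.IsQuasiDMMor g) :
    AlgSt.IsQuasiDMMor (BasedFunctor.comp f g) :=
  locP_diag_comp h𝒳 h𝒴 h𝒵 f g _ Groth.Agent.Lib.helper5.LocPBC.locPData_lqf
    (Groth.Agent.S10541.result S).1 hf hg

theorem isSeparatedMor_comp (hf : AlgSt.IsSeparatedMor f) (hg : AlgSt.IsSeparatedMor g) :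
    AlgSt.IsSeparatedMor (BasedFunctor.comp f g) :=
  repByAlgSpWith_diag_comp h𝒳 h𝒴 h𝒵 AlgSp.IsProperMor
    (fun X₁ Y₁ X₂ Y₂ h1 h2 h3 h4 a b a' b' sq ha =>
      Groth.Agent.S10275.result (X := ⟨X₁, h1⟩) (Y := ⟨Y₁, h2⟩) (Y' := ⟨Y₂, h4⟩) (X' := ⟨X₂, h3⟩)
        (ObjectProperty.homMk a) (ObjectProperty.homMk b) (ObjectProperty.homMk b') (ObjectProperty.homMk a')
        sq ha)
    (fun X Y Z hX hY hZ a b ha hb =>
      Groth.Agent.S10276.result (X := ⟨X, hX⟩) (Y := ⟨Y, hY⟩) (Z := ⟨Z, hZ⟩)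
        (ObjectProperty.homMk a) (ObjectProperty.homMk b) ha hb)
    (isLocalOnBase_fppf_of_fpqc (Groth.Agent.S10536.result S)) f g hf hg

theorem isQuasiSeparatedMor_comp' (hf : AlgSt.IsQuasiSeparatedMor f) (hg : AlgSt.IsQuasiSeparatedMor g) :
    AlgSt.IsQuasiSeparatedMor (BasedFunctor.comp f g) :=
  repByAlgSpWith_diag_comp h𝒳 h𝒴 h𝒵 (AlgSp.IsQuasiCompactMor ⊓ AlgSp.IsQuasiSeparatedMor)
    (fun X₁ Y₁ X₂ Y₂ h1 h2 h3 h4 a b a' b' sq ha =>
      ⟨Groth.Agent.Lib.helper5.isQuasiCompactMor_of_isPullback sq ha.1,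
        isQuasiSeparatedMor_of_isPullback sq ha.2⟩)
    (fun X Y Z hX hY hZ a b ha hb =>
      ⟨Groth.Agent.Lib.helper5.isQuasiCompactMor_comp hY hZ.diag ha.1 hb.1,
        isQuasiSeparatedMor_comp a b ha.2 hb.2⟩)
    (isLocalOnBase_fppf_of_fpqc
      (isLocalOnBase_and (Groth.Agent.S10519.result S) (Groth.Agent.S10520.result S))) f g hf hg

end Comp

end Groth.Agent.Lib.helper4.AlgStDiagComp
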