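import Groth.Agent.Lib.Helper4.AlgStPts5
set_option autoImplicit false
set_option backward.isDefEq.respectTransparency false
set_option backward.isDefEq.respectTransparency.types false
set_option linter.unusedSectionVars false
set_option linter.style.haveILetI false
set_option linter.unusedVariables false
open CategoryTheory CategoryTheory.Functor CategoryTheory.Limits Opposite AlgebraicGeometry
universe u

/-! Quasi-compact algebraic stacks and their spaces of points. -/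

namespace Groth.Agent.Lib.helper4.AlgStPts
open Groth.Agent.FibEquiv Groth.Agent.FibYoneda Groth.Agent.FibFpProj Stk FibCat
open Groth.Agent.Lib.helper4.Descent Groth.Agent.Lib.helper4.PshDict Groth.Agent.Lib.helper4.FibPaste
open Groth.Agent.Lib.helper4.AlgStEquiv Groth.Agent.Lib.helper4.PshRep Groth.Agent.Lib.helper4.PshPB
open Groth.Agent.Lib.helper4.FibSwap Groth.Agent.Lib.helper4.AlgStSetoid Groth.Agent.Lib.helper4.AlgStCoreA
open Groth.Agent.Lib.helper4.AlgStDescent Groth.Agent.Lib.helper4.AlgStSource Groth.Agent.Lib.helper4.AlgStDM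
open Groth.Agent.Lib.helper4.AlgStSmLoc Groth.Agent.Lib.helper4.PointsBasic Groth.Agent.Lib.helper4.AlgStRep
open AlgSt

variable {S : Scheme.{u}}

/-- composition with a morphism of schemes, as a functor representable by algebraic spaces -/
theorem repByAlgSpWith_overMap (Q : MorphismProperty (AlgSp.Sp S)) {V U : Over S} (g : V ⟶ U)
    (h : AlgSp.RepBySpWith Q ((AlgSp.yon S).map g).hom) : AlgSt.RepByAlgSpWith Q (AlgSt.overMap g) :=
  (repByAlgSpWith_iff_of_square Q (ofPshMap ((AlgSp.yon S).map g).hom) (AlgSt.overMap g) (toYon.{u + 1} V)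
    (toYon.{u + 1} U) (toYon_isEquivOver V) (toYon_isEquivOver U)
    (Groth.Agent.Lib.helper4.PshRepGen.overMapIso.{u + 1} g)).1
    (repByAlgSpWith_of_repBySpWith Q ((AlgSp.yon S).map g).hom h)

variable {𝒳 : AlgSt.Cat S} (h𝒳 : IsFibGrpd 𝒳.p)
include h𝒳

/-- restrict a smooth chart along an etale morphism of schemes -/
theorem smooth_overMap_comp {V U : Over S} (g : V ⟶ U) (hg : Etale g.left) (x : overCat U ⥤ᵇ 𝒳)
    (hx : AlgSt.RepByAlgSpWith (AlgSp.LocP @Smooth) x) :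
    AlgSt.RepByAlgSpWith (AlgSp.LocP @Smooth) (BasedFunctor.comp (AlgSt.overMap g) x) :=
  smooth_comp (Groth.Agent.FibOver.isFibGrpd_overCat V) (Groth.Agent.FibOver.isFibGrpd_overCat U) h𝒳 _ _
    (repByAlgSpWith_overMap _ g (repBySpWith_locP_smooth _ ((AlgSp.repWith_yon_map_iff @Etale g).2 hg))) hx

theorem compactSpace_points_of_isQuasiCompact (h : AlgSt.IsQuasiCompact 𝒳) : CompactSpace (AlgSt.Points 𝒳) := by
  obtain ⟨U, x, hU, hx, hxs⟩ := h
  have hc : Continuous (Points.ofChart x) := continuous_ofChart h𝒳 ⟨U, x, hx, hxs⟩ x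
  exact (ofChart_surjective h𝒳 x hxs).compactSpace hc

theorem isQuasiCompact_of_compactSpace_points (hat : AlgSt.HasAtlas (AlgSp.LocP @Smooth) 𝒳)
    [CompactSpace (AlgSt.Points 𝒳)] : AlgSt.IsQuasiCompact 𝒳 := by
  obtain ⟨U, x₀, hx₀, hxs⟩ := id hat
  have hc : Continuous (Points.ofChart x₀) := continuous_ofChart h𝒳 hat x₀
  have ho : IsOpenMap (Points.ofChart x₀) := isOpenMap_ofChart_smooth h𝒳 x₀ hx₀
  have hsur := ofChart_surjective h𝒳 x₀ hxs
  -- the open cover by images of affine opens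
  have hcov : (Set.univ : Set (AlgSt.Points 𝒳)) ⊆
      ⋃ A : U.left.affineOpens, Points.ofChart x₀ '' (A.1 : Set ↥U.left) := by
    intro z _
    obtain ⟨u, rfl⟩ := hsur z
    obtain ⟨_, ⟨A, hA, rfl⟩, huA, -⟩ :=
      U.left.isBasis_affineOpens.exists_subset_of_mem_open (Set.mem_univ u) isOpen_univ
    exact Set.mem_iUnion.2 ⟨⟨A, hA⟩, u, huA, rfl⟩
  obtain ⟨t, ht⟩ := isCompact_univ.elim_finite_subcover _ (fun A : U.left.affineOpens => ho _ A.1.2) hcov
  -- the finite union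
  let O : U.left.Opens := ⨆ A ∈ t, (A : U.left.affineOpens).1
  have hOc : IsCompact (O : Set ↥U.left) := by
    have : (O : Set ↥U.left) = ⋃ A ∈ t, ((A : U.left.affineOpens).1 : Set ↥U.left) := by
      simp [O]
    rw [this]
    exact t.isCompact_biUnion (fun A _ => A.2.isCompact)
  have : CompactSpace ↥(O : Scheme) := isCompact_iff_compactSpace.1 hOc
  obtain ⟨Y, p, hp1, hp2, hY⟩ := Scheme.exists_hom_isAffine_of_isZariskiLocalAtSource @Etale (O : Scheme)
  have hp2' : Etale p := hp2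
  let g₀ : Y ⟶ U.left := p ≫ O.ι
  have hg₀ : Etale g₀ := inferInstance
  let V : Over S := Over.mk (g₀ ≫ U.hom)
  let g : V ⟶ U := Over.homMk g₀ rfl
  have hV : IsFibGrpd (overCat V).p := Groth.Agent.FibOver.isFibGrpd_overCat V
  have hsm : AlgSt.RepByAlgSpWith (AlgSp.LocP @Smooth) (BasedFunctor.comp (AlgSt.overMap g) x₀) :=
    smooth_overMap_comp h𝒳 g hg₀ x₀ hx₀
  refine ⟨V, BasedFunctor.comp (AlgSt.overMap g) x₀, hY, hsm, ?_⟩
  apply repByAlgSpWith_of_isSurjective hV h𝒳 _ (Groth.Agent.Lib.helper4.AlgStFull.repByAlgSp1_of_with _ _ hsm)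
  intro z
  obtain ⟨A, hA, u, huA, rfl⟩ : ∃ A ∈ t, z ∈ Points.ofChart x₀ '' ((A : U.left.affineOpens).1 : Set ↥U.left) := by
    have := ht (Set.mem_univ z)
    simpa using this
  have huO : u ∈ O := by
    simp only [O]
    exact TopologicalSpace.Opens.mem_iSup.2 ⟨A, TopologicalSpace.Opens.mem_iSup.2 ⟨hA, huA⟩⟩
  obtain ⟨y, hy⟩ := hp1.surj ⟨u, huO⟩
  refine ⟨Points.ofChart (BasedFunctor.id (overCat V)) y, ?_⟩
  have h1 : g.left y = u := by
    change (p ≫ O.ι) y = u
    rw [Scheme.Hom.comp_apply, hy]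
    rfl
  rw [← h1, ← ofChart_overMap g x₀ y]
  rfl

/-- S12847 -/
theorem isQuasiCompact_iff_compactSpace_points (hat : AlgSt.HasAtlas (AlgSp.LocP @Smooth) 𝒳) :
    AlgSt.IsQuasiCompact 𝒳 ↔ CompactSpace (AlgSt.Points 𝒳) :=
  ⟨compactSpace_points_of_isQuasiCompact h𝒳, fun _ => isQuasiCompact_of_compactSpace_points h𝒳 hat⟩

omit h𝒳 in
/-- S12858 -/
theorem isQuasiCompact_of_isSurjective {𝒰 : AlgSt.Cat S} (h𝒰 : IsFibGrpd 𝒰.p) (h𝒳 : IsFibGrpd 𝒳.p)
    (hat : AlgSt.HasAtlas (AlgSp.LocP @Smooth) 𝒳) (f : 𝒰 ⥤ᵇ 𝒳) (hf : AlgSt.IsSurjective f)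
    (h𝒰' : AlgSt.IsQuasiCompact 𝒰) : AlgSt.IsQuasiCompact 𝒳 := by
  have := compactSpace_points_of_isQuasiCompact h𝒰 h𝒰'
  have : CompactSpace (AlgSt.Points 𝒳) := (show Function.Surjective (Points.map f) from hf).compactSpace (continuous_map h𝒳 hat f)
  exact isQuasiCompact_of_compactSpace_points h𝒳 hat

end Groth.Agent.Lib.helper4.AlgStPts
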