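import Mathlib
set_option autoImplicit false

/-! A continuous surjective image of a Noetherian quasi-sober space is quasi-sober. -/

namespace Groth.Agent.Lib.helper4.TopQuasiSober

theorem quasiSober_of_surjective_noetherian {α β : Type*} [TopologicalSpace α] [TopologicalSpace β]
    [TopologicalSpace.NoetherianSpace α] [QuasiSober α] (f : α → β) (hf : Continuous f)
    (hs : Function.Surjective f) : QuasiSober β := by
  classical
  constructor
  intro T hT hTc
  obtain ⟨Ss, hfin, hcl, hirr, hU⟩ :=
    TopologicalSpace.NoetherianSpace.exists_finite_set_isClosed_irreducible (hTc.preimage hf)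
  let F : Finset (Set β) := hfin.toFinset.image (fun t => closure (f '' t))
  have hcov : T ⊆ ⋃₀ (F : Set (Set β)) := by
    intro b hb
    obtain ⟨a, rfl⟩ := hs b
    have ha : a ∈ f ⁻¹' T := hb
    rw [hU] at ha
    obtain ⟨t, ht, hat⟩ := ha
    refine ⟨closure (f '' t), ?_, subset_closure ⟨a, hat, rfl⟩⟩
    simp only [F, Finset.coe_image, Set.Finite.coe_toFinset]
    exact ⟨t, ht, rfl⟩
  obtain ⟨Z, hZ, hTZ⟩ := (isIrreducible_iff_sUnion_isClosed.1 hT) F (by
    intro z hz
    simp only [F, Finset.mem_image, Set.Finite.mem_toFinset] at hz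
    obtain ⟨t, -, rfl⟩ := hz
    exact isClosed_closure) hcov
  simp only [F, Finset.mem_image, Set.Finite.mem_toFinset] at hZ
  obtain ⟨t, ht, rfl⟩ := hZ
  obtain ⟨η, hη⟩ := QuasiSober.sober (hirr t ht) (hcl t ht)
  refine ⟨f η, ?_⟩
  have hηt : η ∈ t := by
    rw [← hη.def]
    exact subset_closure (Set.mem_singleton η)
  apply subset_antisymm
  · have hηT : f η ∈ T := by
      have h1 : η ∈ f ⁻¹' T := by
        rw [hU]
        exact ⟨t, ht, hηt⟩
      exact h1
    exact closure_minimal (Set.singleton_subset_iff.2 hηT) hTc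
  · refine hTZ.trans ?_
    apply closure_minimal _ isClosed_closure
    rw [← hη.def]
    calc f '' closure {η} ⊆ closure (f '' {η}) := image_closure_subset_closure_image hf
      _ = closure {f η} := by rw [Set.image_singleton]

end Groth.Agent.Lib.helper4.TopQuasiSober
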