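import Groth.Agent.Lib.Helper4.AlgStLocQ3
import Groth.Agent.Lib.Helper4.AlgStPts6
import Groth.Agent.Lib.Helper4.TopQuasiSober
set_option autoImplicit false
set_option backward.isDefEq.respectTransparency false
set_option backward.isDefEq.respectTransparency.types false
set_option linter.unusedSectionVars false
set_option linter.style.haveILetI false
set_option linter.unusedVariables false
open CategoryTheory CategoryTheory.Functor CategoryTheory.Limits Opposite AlgebraicGeometry
universe u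

/-! The space of points of a locally Noetherian algebraic stack. -/

namespace Groth.Agent.Lib.helper4.AlgStNoeth
open Groth.Agent.Lib.helper4.AlgStLocQ
open Groth.Agent.FibEquiv Groth.Agent.FibYoneda FibCat Groth.Agent.Lib.helper4.FibPaste
open Groth.Agent.Lib.helper4.AlgStEquiv Groth.Agent.Lib.helper4.AlgStRep
open Groth.Agent.Lib.helper4.AlgStSetoid Groth.Agent.FibFpProj Groth.Agent.Lib.helper4.FibRep
open Groth.Agent.Lib.helper4.AlgStFpAlg Groth.Agent.Lib.helper4.AlgStDM Groth.Agent.Lib.helper4.AlgStSelf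
open Groth.Agent.Lib.helper4.AlgStPts Groth.Agent.Lib.helper4.FibSwap Groth.Agent.Lib.helper4.AlgStSmLoc
open Groth.Agent.Lib.helper4.AlgStQC Groth.Agent.Lib.helper4.PshDict Groth.Agent.Lib.helper4.PshRep
open Groth.Agent.Lib.helper4.PshPB Groth.Agent.Lib.helper4.AlgStQCMor Groth.Agent.Lib.helper4.PointsBasic
open Groth.Agent.Lib.helper4.AlgStDescent Groth.Agent.Lib.helper4.AlgStCoreA
open Groth.Agent.Lib.helper4.AlgStSource Groth.Agent.Lib.helper4.AlgStGraph
open Stk AlgSt

variable {S : Scheme.{u}}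

variable {𝒳 : AlgSt.Cat S} (h𝒳 : AlgSt.IsAlgStack Scheme.fppfPrecoverage 𝒳)
include h𝒳

/-- every point of a locally Noetherian algebraic stack lies in the image of a smooth chart from a Noetherian
affine scheme -/
theorem exists_noetherian_chart (hN : AlgSt.SmoothLocally (fun T ↦ IsLocallyNoetherian T) 𝒳)
    (z : AlgSt.Points 𝒳) :
    ∃ (V : Over S) (x : overCat V ⥤ᵇ 𝒳), AlgebraicGeometry.IsNoetherian V.left ∧
      AlgSt.RepByAlgSpWith (AlgSp.LocP @Smooth) x ∧ z ∈ Set.range (Points.ofChart x) := by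
  obtain ⟨U, x₀, hx₀, hxs⟩ := h𝒳.atlas
  obtain ⟨u, rfl⟩ := ofChart_surjective h𝒳.isStack.1 x₀ hxs z
  obtain ⟨_, ⟨A, hA, rfl⟩, huA, -⟩ :=
    U.left.isBasis_affineOpens.exists_subset_of_mem_open (Set.mem_univ u) isOpen_univ
  let V : Over S := Over.mk (Scheme.Opens.ι A ≫ U.hom)
  let g : V ⟶ U := Over.homMk (Scheme.Opens.ι A) rfl
  have hg : Etale g.left := by
    change Etale (Scheme.Opens.ι A)
    infer_instance
  have hx : AlgSt.RepByAlgSpWith (AlgSp.LocP @Smooth) (BasedFunctor.comp (AlgSt.overMap g) x₀) :=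
    smooth_overMap_comp h𝒳.isStack.1 g hg x₀ hx₀
  have hLN : IsLocallyNoetherian V.left := hN V _ hx
  have hAff : IsAffine V.left := hA
  have hC : CompactSpace ↥V.left := inferInstance
  refine ⟨V, BasedFunctor.comp (AlgSt.overMap g) x₀, @AlgebraicGeometry.IsNoetherian.mk _ hLN hC, hx, ?_⟩
  refine ⟨(⟨u, huA⟩ : ↥((A : U.left.Opens) : Scheme)), ?_⟩
  rw [ofChart_overMap g x₀]
  rfl

/-- S13019 -/
theorem exists_isOpen_noetherianSpace (hN : AlgSt.SmoothLocally (fun T ↦ IsLocallyNoetherian T) 𝒳)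
    (z : AlgSt.Points 𝒳) :
    ∃ U : Set (AlgSt.Points 𝒳), IsOpen U ∧ z ∈ U ∧ TopologicalSpace.NoetherianSpace U := by
  obtain ⟨V, x, hV, hx, hz⟩ := exists_noetherian_chart h𝒳 hN z
  have hc : Continuous (Points.ofChart x) := continuous_ofChart h𝒳.isStack.1 h𝒳.atlas x
  exact ⟨Set.range (Points.ofChart x), (isOpenMap_ofChart_smooth h𝒳.isStack.1 x hx).isOpen_range, hz,
    TopologicalSpace.NoetherianSpace.range _ hc⟩

/-- S13020 -/
theorem noetherianSpace_points (hqc : AlgSt.IsQuasiCompact 𝒳)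
    (hN : AlgSt.SmoothLocally (fun T ↦ IsLocallyNoetherian T) 𝒳) :
    TopologicalSpace.NoetherianSpace (AlgSt.Points 𝒳) := by
  obtain ⟨U, x, hU, hx, hxs⟩ := hqc
  have hLN : IsLocallyNoetherian U.left := hN U x hx
  have hC : CompactSpace ↥U.left := inferInstance
  have : AlgebraicGeometry.IsNoetherian U.left := @AlgebraicGeometry.IsNoetherian.mk _ hLN hC
  have hc : Continuous (Points.ofChart x) := continuous_ofChart h𝒳.isStack.1 h𝒳.atlas x
  exact TopologicalSpace.noetherianSpace_of_surjective _ hc (ofChart_surjective h𝒳.isStack.1 x hxs)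

/-- S13021 -/
theorem quasiSober_points (hN : AlgSt.SmoothLocally (fun T ↦ IsLocallyNoetherian T) 𝒳) :
    QuasiSober (AlgSt.Points 𝒳) := by
  let ι := {p : Σ V : Over S, overCat V ⥤ᵇ 𝒳 // AlgebraicGeometry.IsNoetherian p.1.left ∧
    AlgSt.RepByAlgSpWith (AlgSp.LocP @Smooth) p.2}
  let W : ι → TopologicalSpace.Opens (AlgSt.Points 𝒳) := fun i =>
    ⟨Set.range (Points.ofChart i.1.2), (isOpenMap_ofChart_smooth h𝒳.isStack.1 i.1.2 i.2.2).isOpen_range⟩
  have hW : TopologicalSpace.IsOpenCover W := by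
    apply TopologicalSpace.IsOpenCover.mk
    rw [eq_top_iff]
    intro z _
    obtain ⟨V, x, hV, hx, hz⟩ := exists_noetherian_chart h𝒳 hN z
    exact TopologicalSpace.Opens.mem_iSup.2 ⟨⟨⟨V, x⟩, hV, hx⟩, hz⟩
  have hQ : ∀ i, QuasiSober (W i) := by
    intro i
    have hV : AlgebraicGeometry.IsNoetherian i.1.1.left := i.2.1
    have hc : Continuous (Points.ofChart i.1.2) := continuous_ofChart h𝒳.isStack.1 h𝒳.atlas i.1.2
    exact Groth.Agent.Lib.helper4.TopQuasiSober.quasiSober_of_surjective_noetherian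
      (Set.rangeFactorization (Points.ofChart i.1.2)) (hc.subtype_mk _) Set.rangeFactorization_surjective
  exact hW.quasiSober

end Groth.Agent.Lib.helper4.AlgStNoeth
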