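import Groth.Agent.Lib.Helper4.PshRep2
set_option autoImplicit false
set_option backward.isDefEq.respectTransparency false
set_option backward.isDefEq.respectTransparency.types false
set_option linter.unusedSectionVars false
set_option linter.style.haveILetI false
open CategoryTheory CategoryTheory.Functor CategoryTheory.Limits Opposite AlgebraicGeometry
universe w v u₀ u

/-! From equivalences with 2-fibre products to pullback squares of presheaves. -/

namespace Groth.Agent.Lib.helper4.PshPB
open Groth.Agent.FibEquiv Groth.Agent.FibYoneda Groth.Agent.FibFpProj Stk FibCat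
open Groth.Agent.Lib.helper4.Descent Groth.Agent.Lib.helper4.PshDict Groth.Agent.Lib.helper4.FibPaste
open Groth.Agent.Lib.helper4.PshRep Groth.Agent.Lib.helper4.FibSwap

section General

variable {C : Type u₀} [Category.{v} C] {F H G T : Cᵒᵖ ⥤ Type w} {a : F ⟶ G} {b : H ⟶ G}

/-- an equivalence from the category of a presheaf to the 2-fibre product of the categories of presheaves comes from a
pullback square of presheaves -/
theorem isPullback_of_isEquivOver (Ξ : ofPsh T ⥤ᵇ fp (ofPshMap a) (ofPshMap b)) (hΞ : IsEquivOver Ξ) :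
    IsPullback (pshMapOf (BasedFunctor.comp Ξ (fpFst (ofPshMap a) (ofPshMap b))))
      (pshMapOf (BasedFunctor.comp Ξ (fpSnd (ofPshMap a) (ofPshMap b)))) a b := by
  have sq : IsPullback (pullback.fst a b) (pullback.snd a b) a b := IsPullback.of_hasPullback a b
  obtain ⟨Li, ⟨α⟩, ⟨β⟩⟩ := fpPshLift_isEquivOver sq
  have hLi : IsEquivOver Li := isEquivOver_symm α β
  obtain ⟨i, hi⟩ := exists_iso_of_isEquivOver (BasedFunctor.comp Ξ Li) (isEquivOver_comp _ _ hΞ hLi)
  have h1 : i.hom ≫ pullback.fst a b =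
      pshMapOf (BasedFunctor.comp Ξ (fpFst (ofPshMap a) (ofPshMap b))) := by
    rw [hi, ← pshMapOf_ofPshMap (pullback.fst a b), ← pshMapOf_comp]
    apply pshMapOf_congr
    have i2 : BasedFunctor.comp (BasedFunctor.comp Ξ (BasedFunctor.comp Li (fpPshLift sq.w)))
          (fpFst (ofPshMap a) (ofPshMap b)) ≅
        BasedFunctor.comp (BasedFunctor.comp Ξ (BasedFunctor.id _)) (fpFst (ofPshMap a) (ofPshMap b)) :=
      Groth.Agent.Lib.helper4.AlgStRep.whiskerRightIso (whiskerLeftIso Ξ β) _
    exact i2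
  have h2 : i.hom ≫ pullback.snd a b =
      pshMapOf (BasedFunctor.comp Ξ (fpSnd (ofPshMap a) (ofPshMap b))) := by
    rw [hi, ← pshMapOf_ofPshMap (pullback.snd a b), ← pshMapOf_comp]
    apply pshMapOf_congr
    have i2 : BasedFunctor.comp (BasedFunctor.comp Ξ (BasedFunctor.comp Li (fpPshLift sq.w)))
          (fpSnd (ofPshMap a) (ofPshMap b)) ≅
        BasedFunctor.comp (BasedFunctor.comp Ξ (BasedFunctor.id _)) (fpSnd (ofPshMap a) (ofPshMap b)) :=
      Groth.Agent.Lib.helper4.AlgStRep.whiskerRightIso (whiskerLeftIso Ξ β) _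
    exact i2
  exact IsPullback.of_iso sq i.symm (Iso.refl _) (Iso.refl _) (Iso.refl _)
    (by rw [Iso.symm_hom, Iso.refl_hom, Category.comp_id, ← h1, Iso.inv_hom_id_assoc])
    (by rw [Iso.symm_hom, Iso.refl_hom, Category.comp_id, ← h2, Iso.inv_hom_id_assoc])
    (by simp) (by simp)

end General

section OverS

variable {S : Scheme.{u}} {Z X T : AlgSp.PSp S} {U : Over S}

/-- an equivalence from the category of a presheaf to a 2-fibre product over a slice gives a pullback square of
presheaves over the representable presheaf -/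
theorem isPullback_of_isEquivOver_over (A : ofPsh Z ⥤ᵇ overCat U) (B : ofPsh X ⥤ᵇ overCat U)
    (Ξ : ofPsh T ⥤ᵇ fp A B) (hΞ : IsEquivOver Ξ) :
    IsPullback (pshMapOf (BasedFunctor.comp Ξ (fpFst A B))) (pshMapOf (BasedFunctor.comp Ξ (fpSnd A B)))
      (pshMapOf (BasedFunctor.comp A (toYon.{u + 1} U))) (pshMapOf (BasedFunctor.comp B (toYon.{u + 1} U))) := by
  let M : fp A B ⥤ᵇ fp (ofPshMap (pshMapOf (BasedFunctor.comp A (toYon.{u + 1} U))))
      (ofPshMap (pshMapOf (BasedFunctor.comp B (toYon.{u + 1} U)))) :=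
    fpMap A (ofPshMap (pshMapOf (BasedFunctor.comp A (toYon.{u + 1} U)))) B
      (ofPshMap (pshMapOf (BasedFunctor.comp B (toYon.{u + 1} U)))) (BasedFunctor.id _) (toYon.{u + 1} U)
      (isoOfPshMap _) (isoOfPshMap (BasedFunctor.comp B (toYon.{u + 1} U)))
  have hM : IsEquivOver M := fpMap_isEquivOver _ _ _ _ _ _ _ _ (isEquivOver_id' _) (toYon_isEquivOver U)
  exact isPullback_of_isEquivOver (BasedFunctor.comp Ξ M) (isEquivOver_comp _ _ hΞ hM)

end OverS

end Groth.Agent.Lib.helper4.PshPB
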