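import Groth.Agent.Lib.Helper4.AlgStQCMor
import Groth.Agent.Lib.Helper4.PshPB
import Groth.Agent.Lib.Helper7.AlgSpQC
import Groth.Agent.Lib.Helper5.AlgSpFibreProduct
import Groth.Agent.S9917
import Groth.Agent.S12982
import Groth.Agent.Lib.Helper4.AlgStGraph
set_option autoImplicit false
set_option backward.isDefEq.respectTransparency false
set_option backward.isDefEq.respectTransparency.types false
set_option linter.unusedSectionVars false
set_option linter.style.haveILetI false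
set_option linter.unusedVariables false
open CategoryTheory CategoryTheory.Functor CategoryTheory.Limits Opposite AlgebraicGeometry
universe u

/-! Quasi-compact morphisms of algebraic stacks which are representable by algebraic spaces. -/

namespace Groth.Agent.Lib.helper4.AlgStQCMor
open Groth.Agent.FibEquiv FibCat Groth.Agent.Lib.helper4.FibPaste Groth.Agent.Lib.helper4.AlgStEquiv
open Groth.Agent.Lib.helper4.AlgStSetoid Groth.Agent.FibFpProj Groth.Agent.Lib.helper4.FibRep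
open Groth.Agent.Lib.helper4.AlgStFpAlg Groth.Agent.Lib.helper4.AlgStDM Groth.Agent.Lib.helper4.AlgStSelf
open Groth.Agent.Lib.helper4.AlgStPts Groth.Agent.Lib.helper4.FibSwap Groth.Agent.Lib.helper4.AlgStSmLoc
open Groth.Agent.Lib.helper4.AlgStQC Groth.Agent.Lib.helper4.PshDict Groth.Agent.Lib.helper4.PshRep
open Groth.Agent.Lib.helper4.PshPB Stk

variable {S : Scheme.{u}}

/-- every functor from a slice to the category of a sheaf is the functor of a map of sheaves -/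
theorem exists_map_of_chart {F : AlgSp.Sp S} {T : Over S} (y : overCat T ⥤ᵇ AlgSt.ofSp F) :
    ∃ ξ : (AlgSp.yon S).obj T ⟶ F, Nonempty (y ≅ ofMap ξ) :=
  ⟨⟨yonMap.{u + 1} (secOf y (Over.mk (𝟙 T)))⟩, ⟨isoYon.{u + 1} y⟩⟩

theorem continuous_ptsEquiv (F : AlgSp.Sp S) : Continuous (ptsEquiv F) := by
  rw [continuous_def]
  intro W hW
  rw [AlgSt.Points.isOpen_iff]
  intro U x hx
  obtain ⟨ξ, ⟨α⟩⟩ := exists_map_of_chart x
  have : AlgSt.Points.ofChart x ⁻¹' (ptsEquiv F ⁻¹' W) = AlgSp.Points.ofPt ξ ⁻¹' W := by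
    ext t
    simp only [Set.mem_preimage]
    rw [ofChart_congr α t, ptsEquiv_ofChart_ofMap]
  rw [this]
  exact AlgSp.Points.isOpen_iff.1 hW U ξ

/-- a quasi-compact algebraic space is quasi-compact as a stack -/
theorem isQuasiCompact_ofSp (G : AlgSp.Sp S) (h : AlgSp.IsQuasiCompactSp G) :
    AlgSt.IsQuasiCompact (AlgSt.ofSp G) := by
  obtain ⟨W, p, hp1, hp2, hW⟩ := h
  exact (isQuasiCompact_iff_exists_compact_chart (isFibGrpd_ofPsh _)).2
    ⟨W, ofMap p, hW, smooth_ofMap p hp1, surj_ofMap p hp2⟩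

/-- an algebraic space which is quasi-compact as a stack is quasi-compact -/
theorem isQuasiCompactSp_of_isQuasiCompact {G : AlgSp.Sp S} (hG : AlgSp.IsAlgSpace G)
    (h : AlgSt.IsQuasiCompact (AlgSt.ofSp G)) : AlgSp.IsQuasiCompactSp G := by
  have hc : CompactSpace (AlgSt.Points (AlgSt.ofSp G)) :=
    compactSpace_points_of_isQuasiCompact (isFibGrpd_ofPsh _) h
  have : CompactSpace (AlgSp.Points G) := (ptsEquiv G).surjective.compactSpace (continuous_ptsEquiv G)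
  exact Groth.Agent.Lib.helper7.AlgSpFibre.isQuasiCompactSp_of_compactSpace hG.atlas

section

variable {𝒳 𝒴 : AlgSt.Cat S} (h𝒳 : IsFibGrpd 𝒳.p) (h𝒴 : IsFibGrpd 𝒴.p) (f : 𝒳 ⥤ᵇ 𝒴)
include h𝒳 h𝒴

/-- S12981, forward direction -/
theorem isQuasiCompactMor_of_repByAlgSpWith (hf : AlgSt.RepByAlgSpWith AlgSp.IsQuasiCompactMor f) :
    AlgSt.IsQuasiCompactMor Scheme.fppfPrecoverage f := by
  intro 𝒲 h𝒲 hqc g
  obtain ⟨U, x, hU, hx, hxs⟩ := hqc
  have h𝒲' : IsFibGrpd 𝒲.p := h𝒲.isStack.1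
  have hUf : IsFibGrpd (overCat U).p := Groth.Agent.FibOver.isFibGrpd_overCat U
  obtain ⟨F, e, he, hπ⟩ := hf U (BasedFunctor.comp x g)
  have : IsAffine U.left := hU
  have hFqc : AlgSp.IsQuasiCompactSp F.obj :=
    hπ (AlgSp.IsAlgSpace.yon_obj U) (Groth.Agent.Lib.helper7.AlgSpQC.isQuasiCompactSp_yon U) (𝟙 _) (𝟙 _)
      (AlgSt.spMapOfOver (e.comp (fpFst (x.comp g) f)))
      (IsPullback.of_horiz_isIso ⟨by rw [Category.id_comp, Category.comp_id]⟩)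
  have hfp : IsFibGrpd (fp g f).p := isFibGrpd_fp _ _ h𝒲' h𝒳 h𝒴
  obtain ⟨Einv, ⟨α⟩, ⟨β⟩⟩ := pasteL_isEquivOver x g f
  have hEinv : IsEquivOver Einv := isEquivOver_symm α β
  have hc1 : AlgSt.RepByAlgSpWith (AlgSp.LocP @Smooth) (fpSnd x (fpFst g f)) :=
    repByAlgSpWith_fpSnd hfp h𝒲' hUf _ x (fpFst g f) hx
  have hc2 : AlgSt.RepByAlgSpWith AlgSp.IsSurjectiveMor (fpSnd x (fpFst g f)) :=
    repByAlgSpWith_fpSnd hfp h𝒲' hUf _ x (fpFst g f) hxs
  have hE : IsEquivOver (BasedFunctor.comp e Einv) := isEquivOver_comp _ _ he hEinv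
  exact (isQuasiCompact_iff_exists_qc_space_chart hfp).2
    ⟨F, BasedFunctor.comp (BasedFunctor.comp e Einv) (fpSnd x (fpFst g f)), hFqc,
      (repByAlgSpWith_precomp_iff _ _ _ hE).1 hc1, (repByAlgSpWith_precomp_iff _ _ _ hE).1 hc2⟩

end

section Backward

variable {𝒳 𝒴 : AlgSt.Cat S} (f : 𝒳 ⥤ᵇ 𝒴)

/-- S12981, backward direction -/
theorem repByAlgSpWith_of_isQuasiCompactMor (hf : AlgSt.RepByAlgSp1 f)
    (hq : AlgSt.IsQuasiCompactMor Scheme.fppfPrecoverage f) :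
    AlgSt.RepByAlgSpWith AlgSp.IsQuasiCompactMor f := by
  intro T y
  obtain ⟨F, e, he⟩ := hf T y
  refine ⟨F, e, he, ?_⟩
  have key := (Groth.Agent.S9917.result (X := F)
    (Y := ⟨(AlgSp.yon S).obj T, AlgSp.IsAlgSpace.yon_obj T⟩)
    (ObjectProperty.homMk (AlgSt.spMapOfOver (BasedFunctor.comp e (fpFst y f))))).2 ?_
  · exact key
  intro Z hZ g P' fst snd sq
  have : IsAffine Z.left := hZ
  have hGqc : AlgSt.IsQuasiCompact (AlgSt.ofSp ((AlgSp.yon S).obj Z)) :=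
    isQuasiCompact_ofSp _ (Groth.Agent.Lib.helper7.AlgSpQC.isQuasiCompactSp_yon Z)
  obtain ⟨Yi, ⟨α⟩, ⟨β⟩⟩ := toYon_isEquivOver.{u + 1} T
  let A : AlgSt.ofSp ((AlgSp.yon S).obj Z) ⥤ᵇ overCat T := BasedFunctor.comp (AlgSt.ofSpMap g) Yi
  let B : AlgSt.ofSp F.obj ⥤ᵇ overCat T := BasedFunctor.comp e (fpFst y f)
  have h1 : AlgSt.IsQuasiCompact (fp (BasedFunctor.comp A y) f) :=
    hq _ (isAlgStack_ofSp ⟨(AlgSp.yon S).obj Z, AlgSp.IsAlgSpace.yon_obj Z⟩) hGqc (BasedFunctor.comp A y)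
  have h2 : AlgSt.IsQuasiCompact (fp A (fpFst y f)) :=
    isQuasiCompact_of_isEquivOver' (pasteL A y f) (pasteL_isEquivOver A y f) h1
  have h3 : AlgSt.IsQuasiCompact (fp A B) :=
    isQuasiCompact_of_isEquivOver' (fpMap A A B (fpFst y f) e (BasedFunctor.id _) (Iso.refl _) (Iso.refl _))
      (fpMap_isEquivOver _ _ _ _ _ _ _ _ he (isEquivOver_id' _)) h2
  let M : fp A B ⥤ᵇ fp (ofPshMap (pshMapOf (BasedFunctor.comp A (toYon.{u + 1} T))))
      (ofPshMap (pshMapOf (BasedFunctor.comp B (toYon.{u + 1} T)))) :=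
    fpMap A (ofPshMap (pshMapOf (BasedFunctor.comp A (toYon.{u + 1} T)))) B
      (ofPshMap (pshMapOf (BasedFunctor.comp B (toYon.{u + 1} T)))) (BasedFunctor.id _) (toYon.{u + 1} T)
      (isoOfPshMap _) (isoOfPshMap (BasedFunctor.comp B (toYon.{u + 1} T)))
  have hM : IsEquivOver M := fpMap_isEquivOver _ _ _ _ _ _ _ _ (isEquivOver_id' _) (toYon_isEquivOver T)
  have h4 := isQuasiCompact_of_isEquivOver M hM h3
  have ha : pshMapOf (BasedFunctor.comp A (toYon.{u + 1} T)) = g.hom := by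
    have i1 : BasedFunctor.comp A (toYon.{u + 1} T) ≅
        BasedFunctor.comp (AlgSt.ofSpMap g) (BasedFunctor.id _) := whiskerLeftIso (AlgSt.ofSpMap g) β
    rw [pshMapOf_congr i1]
    exact pshMapOf_ofPshMap g.hom
  have hb : pshMapOf (BasedFunctor.comp B (toYon.{u + 1} T)) =
      (AlgSt.spMapOfOver (BasedFunctor.comp e (fpFst y f))).hom := (spMapOfOver_hom _).symm
  have sqP : IsPullback snd.hom fst.hom (pshMapOf (BasedFunctor.comp A (toYon.{u + 1} T)))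
      (pshMapOf (BasedFunctor.comp B (toYon.{u + 1} T))) := by
    rw [ha, hb]
    exact (sq.map (sheafToPresheaf (AlgSp.J S) (Type (u + 1)))).flip
  have h5 : AlgSt.IsQuasiCompact (AlgSt.ofSp P') :=
    isQuasiCompact_of_isEquivOver' (Groth.Agent.Lib.helper4.PshDict.fpPshLift sqP.w)
      (Groth.Agent.Lib.helper4.PshDict.fpPshLift_isEquivOver sqP) h4
  have hP' : AlgSp.IsAlgSpace P' :=
    Groth.Agent.Lib.helper5.isAlgSpace_of_isPullback (AlgSp.IsAlgSpace.yon_obj T).diag F.property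
      (AlgSp.IsAlgSpace.yon_obj Z) sq
  exact isQuasiCompactSp_of_isQuasiCompact hP' h5

/-- S12981 -/
theorem repByAlgSpWith_isQuasiCompactMor_iff (h𝒳 : IsFibGrpd 𝒳.p) (h𝒴 : IsFibGrpd 𝒴.p)
    (hf : AlgSt.RepByAlgSp1 f) :
    AlgSt.RepByAlgSpWith AlgSp.IsQuasiCompactMor f ↔ AlgSt.IsQuasiCompactMor Scheme.fppfPrecoverage f :=
  ⟨isQuasiCompactMor_of_repByAlgSpWith h𝒳 h𝒴 f, repByAlgSpWith_of_isQuasiCompactMor f hf⟩

end Backward

end Groth.Agent.Lib.helper4.AlgStQCMor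

namespace Groth.Agent.Lib.helper4.AlgStQCMor
open Groth.Agent.FibEquiv FibCat Groth.Agent.Lib.helper4.FibPaste Groth.Agent.Lib.helper4.AlgStEquiv
open Groth.Agent.Lib.helper4.AlgStSetoid Groth.Agent.FibFpProj Groth.Agent.Lib.helper4.FibRep
open Groth.Agent.Lib.helper4.AlgStFpAlg Groth.Agent.Lib.helper4.AlgStDM Groth.Agent.Lib.helper4.AlgStSelf
open Groth.Agent.Lib.helper4.AlgStPts Groth.Agent.Lib.helper4.FibSwap Groth.Agent.Lib.helper4.AlgStSmLoc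
open Groth.Agent.Lib.helper4.AlgStQC Groth.Agent.Lib.helper4.PshDict Groth.Agent.Lib.helper4.PshRep
open Groth.Agent.Lib.helper4.PshPB Stk

variable {S : Scheme.{u}}

section Cancel

variable {𝒳 𝒴 𝒵 : AlgSt.Cat S} (h𝒳 : AlgSt.IsAlgStack Scheme.fppfPrecoverage 𝒳)
  (h𝒴 : AlgSt.IsAlgStack Scheme.fppfPrecoverage 𝒴) (h𝒵 : AlgSt.IsAlgStack Scheme.fppfPrecoverage 𝒵)
include h𝒳 h𝒴 h𝒵

/-- the second projection `𝒳 ×_𝒵 𝒴 ⟶ 𝒴` is quasi-compact when `p : 𝒳 ⟶ 𝒵` is -/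
theorem isQuasiCompactMor_fpSnd (p : 𝒳 ⥤ᵇ 𝒵) (q : 𝒴 ⥤ᵇ 𝒵)
    (hp : AlgSt.IsQuasiCompactMor Scheme.fppfPrecoverage p) :
    AlgSt.IsQuasiCompactMor Scheme.fppfPrecoverage (fpSnd p q) := by
  have h1 : AlgSt.IsQuasiCompactMor Scheme.fppfPrecoverage (fpFst q p) :=
    Groth.Agent.S12982.result S 𝒳 𝒵 𝒴 h𝒳 h𝒵 h𝒴 p q hp
  intro 𝒲 h𝒲 hqc a
  exact isQuasiCompact_of_isEquivOver'
    (fpMap a a (fpSnd p q) (fpFst q p) (fpSwap p q) (BasedFunctor.id _) (Iso.refl _) (Iso.refl _))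
    (fpMap_isEquivOver _ _ _ _ _ _ _ _ (fpSwap_isEquivOver p q) (isEquivOver_id' _)) (h1 𝒲 h𝒲 hqc a)

/-- S12986 -/
theorem isQuasiCompactMor_of_comp (f : 𝒳 ⥤ᵇ 𝒴) (g : 𝒴 ⥤ᵇ 𝒵)
    (hfg : AlgSt.IsQuasiCompactMor Scheme.fppfPrecoverage (BasedFunctor.comp f g))
    (hg : AlgSt.RepByAlgSpWith AlgSp.IsQuasiCompactMor (FibCat.diag g)) :
    AlgSt.IsQuasiCompactMor Scheme.fppfPrecoverage f := by
  have hΓ : AlgSt.RepByAlgSpWith AlgSp.IsQuasiCompactMor
      (fpLift (F := BasedFunctor.comp f g) (G := g) (BasedFunctor.id 𝒳) f (Iso.refl _)) :=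
    Groth.Agent.Lib.helper4.AlgStGraph.repByAlgSpWith_graph _ (BasedFunctor.comp f g) g f (Iso.refl _) hg
  have hfp : AlgSt.IsAlgStack Scheme.fppfPrecoverage (fp (BasedFunctor.comp f g) g) :=
    isAlgStack_fp' h𝒳 h𝒴 h𝒵 _ _
  have hΓ' := isQuasiCompactMor_of_repByAlgSpWith h𝒳.isStack.1 hfp.isStack.1 _ hΓ
  have hsnd := isQuasiCompactMor_fpSnd h𝒳 h𝒴 h𝒵 (BasedFunctor.comp f g) g hfg
  exact isQuasiCompactMor_comp h𝒳 hfp h𝒴 _ _ hΓ' hsnd

end Cancel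

end Groth.Agent.Lib.helper4.AlgStQCMor
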