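import Groth.Agent.Lib.Helper4.AlgStLocQ7
import Groth.Agent.Lib.Helper4.AlgStNoeth
import Groth.Agent.Lib.Helper4.AlgStQCMor2
import Groth.Agent.Lib.Helper4.AlgStDiagK4
import Groth.Agent.Lib.Helper4.AlgStDiagComp2
import Groth.Agent.S12868
set_option autoImplicit false
set_option backward.isDefEq.respectTransparency false
set_option backward.isDefEq.respectTransparency.types false
set_option linter.unusedSectionVars false
set_option linter.style.haveILetI false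
set_option linter.unusedVariables false
open CategoryTheory CategoryTheory.Functor CategoryTheory.Limits Opposite AlgebraicGeometry
universe u

/-! Immersions into locally Noetherian algebraic stacks. -/

namespace Groth.Agent.Lib.helper4.AlgStNoethImm
open Groth.Agent.Lib.helper4.AlgStLocQ
open Groth.Agent.FibEquiv Groth.Agent.FibYoneda FibCat Groth.Agent.Lib.helper4.FibPaste
open Groth.Agent.Lib.helper4.AlgStEquiv Groth.Agent.Lib.helper4.AlgStRep
open Groth.Agent.Lib.helper4.AlgStSetoid Groth.Agent.FibFpProj Groth.Agent.Lib.helper4.FibRep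
open Groth.Agent.Lib.helper4.AlgStFpAlg Groth.Agent.Lib.helper4.AlgStDM Groth.Agent.Lib.helper4.AlgStSelf
open Groth.Agent.Lib.helper4.AlgStPts Groth.Agent.Lib.helper4.FibSwap Groth.Agent.Lib.helper4.AlgStSmLoc
open Groth.Agent.Lib.helper4.AlgStQC Groth.Agent.Lib.helper4.PshDict Groth.Agent.Lib.helper4.PshRep
open Groth.Agent.Lib.helper4.PshPB Groth.Agent.Lib.helper4.AlgStQCMor Groth.Agent.Lib.helper4.PointsBasic
open Groth.Agent.Lib.helper4.AlgStDescent Groth.Agent.Lib.helper4.AlgStCoreA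
open Groth.Agent.Lib.helper4.AlgStSource Groth.Agent.Lib.helper4.AlgStGraph
open Groth.Agent.Lib.helper4.SmLocalST Groth.Agent.Lib.helper5.LocPBC
open Stk AlgSt

variable {S : Scheme.{u}}

/-- an immersion into a locally Noetherian scheme is quasi-compact -/
theorem quasiCompact_of_isImmersion {X Y : Scheme.{u}} [IsLocallyNoetherian Y] (f : X ⟶ Y) [IsImmersion f] :
    QuasiCompact f := by
  rw [← f.liftCoborder_ι]
  infer_instance

/-- an immersion into a locally Noetherian scheme is quasi-compact, for sheaves -/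
theorem repWith_quasiCompact_of_isImmersion {F : AlgSp.Sp S} {V : Over S} (hV : IsLocallyNoetherian V.left)
    (p : F ⟶ (AlgSp.yon S).obj V) (hp : AlgSp.RepWith @IsImmersion p) : AlgSp.RepWith @QuasiCompact p := by
  have hrep := hp.rep
  have sq₀ := hrep.isPullback (𝟙 ((AlgSp.yon S).obj V))
  have hi : IsImmersion (hrep.snd (𝟙 ((AlgSp.yon S).obj V))).left := hp.property_snd (𝟙 _)
  have hqc : QuasiCompact (hrep.snd (𝟙 ((AlgSp.yon S).obj V))).left := quasiCompact_of_isImmersion _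
  have hiso : IsIso (hrep.fst (𝟙 ((AlgSp.yon S).obj V))) := sq₀.isIso_fst_of_isIso
  have h1 : AlgSp.RepWith @QuasiCompact ((AlgSp.yon S).map (hrep.snd (𝟙 ((AlgSp.yon S).obj V)))) :=
    (AlgSp.repWith_yon_map_iff @QuasiCompact _).2 hqc
  have h2 : p = inv (hrep.fst (𝟙 ((AlgSp.yon S).obj V))) ≫
      (AlgSp.yon S).map (hrep.snd (𝟙 ((AlgSp.yon S).obj V))) := by
    rw [IsIso.eq_inv_comp]
    have := sq₀.w
    rw [Category.comp_id] at this
    exact this
  rw [h2]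
  exact MorphismProperty.RespectsIso.precomp _ _ _ h1

/-- a functor to a slice is representable with a base change stable `Q` as soon as the map of sheaves of one
representation has `Q` -/
theorem repByAlgSpWith_of_spMapOfOver (Q : MorphismProperty (AlgSp.Sp S))
    (hQb : ∀ ⦃X₁ Y₁ X₂ Y₂ : AlgSp.Sp S⦄, AlgSp.IsAlgSpace X₁ → AlgSp.IsAlgSpace Y₁ → AlgSp.IsAlgSpace X₂ →
      AlgSp.IsAlgSpace Y₂ → ∀ (a : X₁ ⟶ Y₁) (b : Y₂ ⟶ Y₁) (a' : X₂ ⟶ Y₂) (b' : X₂ ⟶ X₁),
      IsPullback b' a' a b → Q a → Q a')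
    {𝒜 : AlgSt.Cat S} {V : Over S} (Φ : 𝒜 ⥤ᵇ overCat V) (F : AlgSp.Space S) (e : AlgSt.ofSp F.obj ⥤ᵇ 𝒜)
    (he : IsEquivOver e) (h : Q (AlgSt.spMapOfOver (BasedFunctor.comp e Φ))) : AlgSt.RepByAlgSpWith Q Φ := by
  obtain ⟨YiV, ⟨αV⟩, ⟨βV⟩⟩ := toYon_isEquivOver.{u + 1} V
  have hYiV : IsEquivOver YiV := isEquivOver_symm αV βV
  have i0 : AlgSt.ofSpMap (AlgSt.spMapOfOver (BasedFunctor.comp e Φ)) ≅
      BasedFunctor.comp (BasedFunctor.comp e Φ) (toYon.{u + 1} V) := by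
    have := (isoOfPshMap (BasedFunctor.comp (BasedFunctor.comp e Φ) (toYon.{u + 1} V))).symm
    rw [← spMapOfOver_hom] at this
    exact this
  have i1 : BasedFunctor.comp (AlgSt.ofSpMap (AlgSt.spMapOfOver (BasedFunctor.comp e Φ))) YiV ≅
      BasedFunctor.comp e Φ :=
    whiskerRightIso i0 YiV ≪≫ whiskerLeftIso (BasedFunctor.comp e Φ) αV
  have h1 : AlgSt.RepByAlgSpWith Q (AlgSt.ofSpMap (AlgSt.spMapOfOver (BasedFunctor.comp e Φ))) :=
    repByAlgSpWith_of_repBySpWith Q (AlgSt.spMapOfOver (BasedFunctor.comp e Φ)).hom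
      (repBySpWith_of_stable Q hQb F.property (AlgSp.IsAlgSpace.yon_obj V) _ h)
  exact (repByAlgSpWith_iff_of_square Q Φ (AlgSt.ofSpMap (AlgSt.spMapOfOver (BasedFunctor.comp e Φ))) e YiV he
    hYiV i1).2 h1

section Main

variable {𝒳 𝒴 : AlgSt.Cat S} (h𝒳 : AlgSt.IsAlgStack Scheme.fppfPrecoverage 𝒳)
  (h𝒴 : AlgSt.IsAlgStack Scheme.fppfPrecoverage 𝒴) (j : 𝒳 ⥤ᵇ 𝒴)
include h𝒳 h𝒴

/-- an immersion into a locally Noetherian algebraic stack is quasi-compact -/
theorem isQuasiCompactMor_of_isImm (hj : AlgSt.IsImm j)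
    (hN : AlgSt.SmoothLocally (fun T ↦ IsLocallyNoetherian T) 𝒴) :
    AlgSt.IsQuasiCompactMor Scheme.fppfPrecoverage j := by
  obtain ⟨V, y, hy, hys⟩ := h𝒴.atlas
  have hV : IsLocallyNoetherian V.left := hN V y hy
  have hVa : AlgSt.IsAlgStack Scheme.fppfPrecoverage (overCat V) := isAlgStack_overCat V
  have hVf : IsFibGrpd (overCat V).p := Groth.Agent.FibOver.isFibGrpd_overCat V
  have hy₁ : AlgSt.LocQ (AlgSp.LocP @Flat) y :=
    locQ_locP_of_repByAlgSpWith hVa h𝒴 y locPData_flat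
      (Groth.Agent.Lib.helper4.AlgStCancel.repByAlgSpWith_mono y
        (fun F T π hπ => locP_mono smooth_le_flat hπ) hy)
  have hy₂ : AlgSt.LocQ (AlgSp.LocP @LocallyOfFinitePresentation) y :=
    locQ_locP_of_repByAlgSpWith hVa h𝒴 y locPData_lfp
      (Groth.Agent.Lib.helper4.AlgStCancel.repByAlgSpWith_mono y
        (fun F T π hπ => locP_mono smooth_le_lfp hπ) hy)
  have hy₃ : AlgSt.IsSurjective y := isSurjective_of_repByAlgSpWith h𝒴.isStack.1 y hys
  apply isQuasiCompactMor_of_fpFst_fppf h𝒳 h𝒴 hVa j y hy₁ hy₂ hy₃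
  have hΦ : AlgSt.IsImm (fpFst y j) := Groth.Agent.Lib.helper4.AlgStDiagBC.repByAlgSpWith_fpFst _ j y hj
  have hfp : IsFibGrpd (fp y j).p := isFibGrpd_fp _ _ hVf h𝒳.isStack.1 h𝒴.isStack.1
  apply isQuasiCompactMor_of_repByAlgSpWith hfp hVf (fpFst y j)
  obtain ⟨F, e, he⟩ := exists_rep_of_repByAlgSpWith _ (fpFst y j) hΦ
  have hp := spMapOfOver_of_repByAlgSpWith (AlgSp.RepWith @IsImmersion) (isoInv_of_respectsIso _) (fpFst y j) hΦ
    F e he
  have hq : AlgSp.IsQuasiCompactMor (AlgSt.spMapOfOver (BasedFunctor.comp e (fpFst y j))) :=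
    Groth.Agent.Lib.helper7.AlgSpQC.isQuasiCompactMor_of_repWith (repWith_quasiCompact_of_isImmersion hV _ hp)
  exact repByAlgSpWith_of_spMapOfOver AlgSp.IsQuasiCompactMor
    (fun X₁ Y₁ X₂ Y₂ _ _ _ _ a b a' b' sq ha => Groth.Agent.Lib.helper5.isQuasiCompactMor_of_isPullback sq ha)
    (fpFst y j) F e he hq

/-- S13017 -/
theorem locallyNoetherian_and_isQuasiCompactMor_of_isImm (hj : AlgSt.IsImm j)
    (hN : AlgSt.SmoothLocally (fun T ↦ IsLocallyNoetherian T) 𝒴) :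
    AlgSt.SmoothLocally (fun T ↦ IsLocallyNoetherian T) 𝒳 ∧
      AlgSt.IsQuasiCompactMor Scheme.fppfPrecoverage j :=
  ⟨smoothLocally_isLocallyNoetherian h𝒳 h𝒴 j (locQ_lft_of_isImm h𝒳 h𝒴 j hj) hN,
    isQuasiCompactMor_of_isImm h𝒳 h𝒴 j hj hN⟩

/-- an immersion of algebraic stacks is quasi-separated -/
theorem isQuasiSeparatedMor_of_isImm (hj : AlgSt.IsImm j) : AlgSt.IsQuasiSeparatedMor j := by
  have hmono : AlgSt.IsMono j := Groth.Agent.S12868.result j hj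
  have hj1 : AlgSt.RepByAlgSp1 j :=
    (repByAlgSp1_iff_top j).2 (Groth.Agent.Lib.helper4.AlgStCancel.repByAlgSpWith_mono j
      (fun _ _ _ _ => trivial) hmono)
  have hqs : AlgSt.RepByAlgSpWith AlgSp.IsQuasiSeparatedMor j :=
    Groth.Agent.Lib.helper4.AlgStCancel.repByAlgSpWith_mono j (fun F T π (hπ : Mono π) =>
      (MorphismProperty.of_isIso _ _ : AlgSp.RepWith @QuasiCompact (pullback.diagonal π))) hmono
  exact (Groth.Agent.Lib.helper4.AlgStDiagK.isQuasiSeparatedMor_iff j hj1).2 hqs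

/-- S13018 -/
theorem noetherian_of_isImm (hj : AlgSt.IsImm j) (hqc : AlgSt.IsQuasiCompact 𝒴)
    (hqs : AlgSt.IsQuasiSeparatedOver 𝒴) (hN : AlgSt.SmoothLocally (fun T ↦ IsLocallyNoetherian T) 𝒴) :
    AlgSt.IsQuasiCompact 𝒳 ∧ AlgSt.IsQuasiSeparatedOver 𝒳 ∧
      AlgSt.SmoothLocally (fun T ↦ IsLocallyNoetherian T) 𝒳 := by
  obtain ⟨h1, h2⟩ := locallyNoetherian_and_isQuasiCompactMor_of_isImm h𝒳 h𝒴 j hj hN
  refine ⟨?_, ?_, h1⟩
  · have h3 : AlgSt.IsQuasiCompact (fp (BasedFunctor.id 𝒴) j) := h2 𝒴 h𝒴 hqc (BasedFunctor.id 𝒴)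
    exact isQuasiCompact_of_isEquivOver _ (fpSnd_id_isEquivOver j) h3
  · have h3 : AlgSt.IsQuasiSeparatedMor (BasedFunctor.comp j (toSelf 𝒴)) :=
      Groth.Agent.Lib.helper4.AlgStDiagComp.isQuasiSeparatedMor_comp' h𝒳.isStack.1 h𝒴.isStack.1
        isFibGrpd_selfOver j (toSelf 𝒴) (isQuasiSeparatedMor_of_isImm h𝒳 h𝒴 j hj) hqs
    have h4 : BasedFunctor.comp j (toSelf 𝒴) = toSelf 𝒳 := Groth.Agent.Lib.helper4.FibRep.toSelf_unique _ _
    rw [h4] at h3
    exact h3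

end Main

end Groth.Agent.Lib.helper4.AlgStNoethImm
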