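import Groth.Agent.Lib.Helper4.AlgStDiagLFT
import Groth.Agent.Lib.Helper4.AlgStPts5
set_option autoImplicit false
set_option backward.isDefEq.respectTransparency false
set_option backward.isDefEq.respectTransparency.types false
set_option linter.unusedSectionVars false
set_option linter.style.haveILetI false
set_option linter.unusedVariables false
open CategoryTheory CategoryTheory.Functor CategoryTheory.Limits Opposite AlgebraicGeometry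
universe u

/-! Properties of the diagonal of an algebraic stack read on an fppf cover by a scheme or an algebraic space. -/

namespace Groth.Agent.Lib.helper4.AlgStDiagCover
open Groth.Agent.FibEquiv FibCat Groth.Agent.Lib.helper4.FibPaste Groth.Agent.Lib.helper4.AlgStEquiv
open Groth.Agent.Lib.helper4.AlgStSetoid Groth.Agent.Lib.helper4.FibSwap Groth.Agent.FibFpProj
open Groth.Agent.Lib.helper4.AlgStFpAlg Groth.Agent.Lib.helper4.AlgStDiagComp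
open Groth.Agent.Lib.helper4.AlgStDiagK Groth.Agent.Lib.helper4.AlgStSource
open Groth.Agent.Lib.helper4.FibRep Groth.Agent.Lib.helper4.FibProd Groth.Agent.Lib.helper4.FibOverProd
open Groth.Agent.Lib.helper4.AlgStCancel Groth.Agent.Lib.helper4.AlgStDiagLFT
open Groth.Agent.Lib.helper4.AlgStSmLoc Groth.Agent.Lib.helper4.AlgStDM
open Groth.Agent.Lib.helper5.LocPBC

variable {S : Scheme.{u}}

section PairK

variable {𝒳 : AlgSt.Cat S} (h𝒳 : IsFibGrpd 𝒳.p) {V U : Over S}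
  (H : overCat V ⥤ᵇ 𝒳) (G : overCat U ⥤ᵇ 𝒳)
include h𝒳

/-- `V ×_𝒳 U ⟶ V × U` has `P` when `G : U ⟶ 𝒳` has `P` and the diagonal of `V × U ⟶ V` has `P` -/
theorem fpFst_pairK (P : MorphismProperty (AlgSp.Sp S))
    (hPb : ∀ ⦃X₁ Y₁ X₂ Y₂ : AlgSp.Sp S⦄, AlgSp.IsAlgSpace X₁ → AlgSp.IsAlgSpace Y₁ → AlgSp.IsAlgSpace X₂ →
      AlgSp.IsAlgSpace Y₂ → ∀ (a : X₁ ⟶ Y₁) (b : Y₂ ⟶ Y₁) (a' : X₂ ⟶ Y₂) (b' : X₂ ⟶ X₁),
      IsPullback b' a' a b → P a → P a')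
    (hPc : ∀ ⦃X Y Z : AlgSp.Sp S⦄, AlgSp.IsAlgSpace X → AlgSp.IsAlgSpace Y → AlgSp.IsAlgSpace Z →
      ∀ (a : X ⟶ Y) (b : Y ⟶ Z), P a → P b → P (a ≫ b))
    (hP : AlgSp.IsLocalOnBase AlgSp.IsFppfCover P)
    (hΔ : AlgSt.RepByAlgSpWith P (FibCat.diag (prj₁ V U)))
    (hG : AlgSt.RepByAlgSpWith P G) :
    AlgSt.RepByAlgSpWith P (fpFst (pairK H G) (Δ 𝒳)) := by
  have hV : IsFibGrpd (overCat V).p := Groth.Agent.FibOver.isFibGrpd_overCat V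
  have hU : IsFibGrpd (overCat U).p := Groth.Agent.FibOver.isFibGrpd_overCat U
  have hVU : IsFibGrpd (overCat (V ⨯ U)).p := Groth.Agent.FibOver.isFibGrpd_overCat _
  have hsq : IsFibGrpd (sq 𝒳).p := isFibGrpd_fp _ _ h𝒳 h𝒳 isFibGrpd_selfOver
  have hfp : IsFibGrpd (fp (pairK H G) (Δ 𝒳)).p := isFibGrpd_fp _ _ hVU h𝒳 hsq
  have h1 : AlgSt.RepByAlgSpWith P (fpFst H G) := Groth.Agent.S12779.result hU h𝒳 hV _ G H hG
  have h2 : AlgSt.RepByAlgSpWith P (BasedFunctor.comp (compare H G) (fpFst H G)) :=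
    (repByAlgSpWith_precomp_iff _ _ (compare H G) (compare_isEquivOver H G)).1 h1
  have h3 : AlgSt.RepByAlgSpWith P (BasedFunctor.comp (fpFst (pairK H G) (Δ 𝒳)) (prj₁ V U)) := h2
  exact repByAlgSpWith_of_comp hfp hVU hV (fpFst (pairK H G) (Δ 𝒳)) (prj₁ V U) _ hPb hPc hP h3 hΔ

end PairK

theorem repByAlgSp1_prj₁ (V U : Over S) : AlgSt.RepByAlgSp1 (prj₁ V U) :=
  Groth.Agent.S12775.result (Groth.Agent.FibOver.isFibGrpd_overCat _) (Groth.Agent.FibOver.isFibGrpd_overCat _)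
    (repByAlgSp_overCat _) (repByAlgSp_overCat _) _

/-- a property of the diagonal of an algebraic stack can be read on an fppf cover by a scheme -/
theorem diag_of_scheme_cover {𝒳 : AlgSt.Cat S} (h𝒳 : AlgSt.IsAlgStack Scheme.fppfPrecoverage 𝒳)
    (P : MorphismProperty (AlgSp.Sp S))
    (hPb : ∀ ⦃X₁ Y₁ X₂ Y₂ : AlgSp.Sp S⦄, AlgSp.IsAlgSpace X₁ → AlgSp.IsAlgSpace Y₁ → AlgSp.IsAlgSpace X₂ →
      AlgSp.IsAlgSpace Y₂ → ∀ (a : X₁ ⟶ Y₁) (b : Y₂ ⟶ Y₁) (a' : X₂ ⟶ Y₂) (b' : X₂ ⟶ X₁),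
      IsPullback b' a' a b → P a → P a')
    (hPc : ∀ ⦃X Y Z : AlgSp.Sp S⦄, AlgSp.IsAlgSpace X → AlgSp.IsAlgSpace Y → AlgSp.IsAlgSpace Z →
      ∀ (a : X ⟶ Y) (b : Y ⟶ Z), P a → P b → P (a ≫ b))
    (hP : AlgSp.IsLocalOnBase AlgSp.IsFppfCover P)
    {U : Over S} (x : overCat U ⥤ᵇ 𝒳)
    (hx₁ : AlgSt.RepByAlgSpWith (AlgSp.LocP @Flat) x)
    (hx₂ : AlgSt.RepByAlgSpWith (AlgSp.LocP @LocallyOfFinitePresentation) x)
    (hx₃ : AlgSt.RepByAlgSpWith AlgSp.IsSurjectiveMor x)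
    (hx₄ : AlgSt.RepByAlgSpWith P x)
    (hΔ : AlgSt.RepByAlgSpWith P (FibCat.diag (prj₁ U U))) :
    AlgSt.RepByAlgSpWith P (FibCat.diag (toSelf 𝒳)) := by
  have h𝒳' : IsFibGrpd 𝒳.p := h𝒳.isStack.1
  have hsq : IsFibGrpd (sq 𝒳).p := isFibGrpd_fp _ _ h𝒳' h𝒳' isFibGrpd_selfOver
  have hUU : IsFibGrpd (overCat (U ⨯ U)).p := Groth.Agent.FibOver.isFibGrpd_overCat _
  have hz₁ : AlgSt.RepByAlgSpWith (AlgSp.LocP @Flat) (pairK x x) :=
    repByAlgSpWith_pairK h𝒳' x x _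
      (fun X₁ Y₁ X₂ Y₂ h1 h2 _ h4 a b a' b' sq ha => locP_of_isPullback locPData_flat h1 h2 h4 sq ha)
      (fun X Y Z _ hY _ a b ha hb =>
        Groth.Agent.H1.LocPStable.locP_comp locPData_flat.descend hY a b ha hb)
      (isLocalOnBase_fppf_of_fpqc (Groth.Agent.S10530.result S)) hx₁ hx₁
  have hz₂ : AlgSt.RepByAlgSpWith (AlgSp.LocP @LocallyOfFinitePresentation) (pairK x x) :=
    repByAlgSpWith_pairK h𝒳' x x _
      (fun X₁ Y₁ X₂ Y₂ h1 h2 _ h4 a b a' b' sq ha => locP_of_isPullback locPData_lfp h1 h2 h4 sq ha)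
      (fun X Y Z _ hY _ a b ha hb =>
        Groth.Agent.H1.LocPStable.locP_comp locPData_lfp.descend hY a b ha hb)
      (isLocalOnBase_fppf_of_fpqc (Groth.Agent.S10527.result S)) hx₂ hx₂
  have hz₃ : AlgSt.RepByAlgSpWith AlgSp.IsSurjectiveMor (pairK x x) :=
    repByAlgSpWith_pairK h𝒳' x x _
      (fun X₁ Y₁ X₂ Y₂ _ _ _ _ a b a' b' sq ha z => by
        obtain ⟨x, hx⟩ := ha (AlgSp.Points.map b z)
        obtain ⟨w, -, hw⟩ := Groth.Agent.Lib.helper10.exists_point_of_isPullback sq x z hx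
        exact ⟨w, hw⟩)
      (fun X Y Z _ _ _ a b ha hb z => by
        obtain ⟨y, hy⟩ := hb z
        obtain ⟨x, hx⟩ := ha y
        exact ⟨x, by rw [AlgSp.Points.map_comp, hx, hy]⟩)
      isLocalOnBase_isSurjectiveMor hx₃ hx₃
  exact Groth.Agent.Lib.helper4.AlgStDescent.descent h𝒳' hsq hUU _ hPb hP (FibCat.diag (toSelf 𝒳)) h𝒳.diag
    (pairK x x) hz₁ hz₂ hz₃ (fpFst_pairK h𝒳' x x P hPb hPc hP hΔ hx₄)

/-- composing a cover by an algebraic space with an etale atlas of the space -/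
theorem exists_scheme_cover {𝒳 : AlgSt.Cat S} (h𝒳 : IsFibGrpd 𝒳.p) (W : AlgSp.Space S)
    (w : AlgSt.ofSp W.obj ⥤ᵇ 𝒳)
    (hw₁ : AlgSt.RepByAlgSpWith (AlgSp.LocP @Flat) w)
    (hw₂ : AlgSt.RepByAlgSpWith (AlgSp.LocP @LocallyOfFinitePresentation) w)
    (hw₃ : AlgSt.RepByAlgSpWith AlgSp.IsSurjectiveMor w) :
    ∃ (U : Over S) (p : (AlgSp.yon S).obj U ⟶ W.obj), AlgSp.RepWith @Etale p ∧ AlgSp.RepWith @Surjective p ∧
      AlgSt.RepByAlgSpWith (AlgSp.LocP @Flat) (BasedFunctor.comp (ofMap p) w) ∧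
      AlgSt.RepByAlgSpWith (AlgSp.LocP @LocallyOfFinitePresentation) (BasedFunctor.comp (ofMap p) w) ∧
      AlgSt.RepByAlgSpWith AlgSp.IsSurjectiveMor (BasedFunctor.comp (ofMap p) w) := by
  obtain ⟨U, p, hp1, hp2⟩ := W.property.atlas
  have hU : IsFibGrpd (overCat U).p := Groth.Agent.FibOver.isFibGrpd_overCat U
  have hW : IsFibGrpd (AlgSt.ofSp W.obj).p := Stk.isFibGrpd_ofPsh _
  refine ⟨U, p, hp1, hp2, ?_, ?_, ?_⟩
  · exact Groth.Agent.Lib.helper4.AlgStPts.flat_comp hU hW h𝒳 _ _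
      (Groth.Agent.Lib.helper4.AlgStPts.locP_ofMap _ (fun f hf => by
        have : Etale f := hf
        exact (inferInstance : Flat f)) p hp1) hw₁
  · exact Groth.Agent.Lib.helper4.AlgStPts.lfp_comp hU hW h𝒳 _ _
      (Groth.Agent.Lib.helper4.AlgStPts.locP_ofMap _ (fun f hf => by
        have : Etale f := hf
        exact (inferInstance : LocallyOfFinitePresentation f)) p hp1) hw₂
  · exact surj_comp hU hW h𝒳 _ _ (surj_ofMap p hp2) hw₃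

/-- S12969 -/
theorem isDMOver_of_cover {𝒳 : AlgSt.Cat S} (h𝒳 : AlgSt.IsAlgStack Scheme.fppfPrecoverage 𝒳)
    (W : AlgSp.Space S) (w : AlgSt.ofSp W.obj ⥤ᵇ 𝒳)
    (hw₁ : AlgSt.RepByAlgSpWith (AlgSp.LocP @Flat) w)
    (hw₂ : AlgSt.RepByAlgSpWith (AlgSp.LocP @LocallyOfFinitePresentation) w)
    (hw₃ : AlgSt.RepByAlgSpWith AlgSp.IsSurjectiveMor w)
    (hw₄ : AlgSt.RepByAlgSpWith (AlgSp.LocP (@LocallyOfFiniteType ⊓ @FormallyUnramified)) w) :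
    AlgSt.IsDMOver 𝒳 := by
  have h𝒳' : IsFibGrpd 𝒳.p := h𝒳.isStack.1
  obtain ⟨U, p, hp1, hp2, hx₁, hx₂, hx₃⟩ := exists_scheme_cover h𝒳' W w hw₁ hw₂ hw₃
  have hU : IsFibGrpd (overCat U).p := Groth.Agent.FibOver.isFibGrpd_overCat U
  have hW : IsFibGrpd (AlgSt.ofSp W.obj).p := Stk.isFibGrpd_ofPsh _
  have hx₄ : AlgSt.RepByAlgSpWith (AlgSp.LocP (@LocallyOfFiniteType ⊓ @FormallyUnramified))
      (BasedFunctor.comp (ofMap p) w) :=
    Groth.Agent.Lib.helper4.AlgStPts.locP_comp hU hW h𝒳' _ _ _ locPData_unramified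
      (Groth.Agent.S10543.result S)
      (Groth.Agent.Lib.helper4.AlgStPts.locP_ofMap _ (fun f hf => by
        have : Etale f := hf
        exact ⟨(inferInstance : LocallyOfFiniteType f), (inferInstance : FormallyUnramified f)⟩) p hp1) hw₄
  exact diag_of_scheme_cover h𝒳 _
    (fun X₁ Y₁ X₂ Y₂ h1 h2 _ h4 a b a' b' sq ha => locP_of_isPullback locPData_unramified h1 h2 h4 sq ha)
    (fun X Y Z _ hY _ a b ha hb =>
      Groth.Agent.H1.LocPStable.locP_comp locPData_unramified.descend hY a b ha hb)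
    (isLocalOnBase_fppf_of_fpqc (Groth.Agent.S10543.result S)) _ hx₁ hx₂ hx₃ hx₄
    (isDMMor_of_repByAlgSp1 _ (repByAlgSp1_prj₁ U U))

/-- S12970 -/
theorem isQuasiDMOver_of_cover {𝒳 : AlgSt.Cat S} (h𝒳 : AlgSt.IsAlgStack Scheme.fppfPrecoverage 𝒳)
    (W : AlgSp.Space S) (w : AlgSt.ofSp W.obj ⥤ᵇ 𝒳)
    (hw₁ : AlgSt.RepByAlgSpWith (AlgSp.LocP @Flat) w)
    (hw₂ : AlgSt.RepByAlgSpWith (AlgSp.LocP @LocallyOfFinitePresentation) w)
    (hw₃ : AlgSt.RepByAlgSpWith AlgSp.IsSurjectiveMor w)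
    (hw₄ : AlgSt.RepByAlgSpWith (AlgSp.LocP (@LocallyQuasiFinite ⊓ @LocallyOfFiniteType)) w) :
    AlgSt.IsQuasiDMOver 𝒳 := by
  have h𝒳' : IsFibGrpd 𝒳.p := h𝒳.isStack.1
  obtain ⟨U, p, hp1, hp2, hx₁, hx₂, hx₃⟩ := exists_scheme_cover h𝒳' W w hw₁ hw₂ hw₃
  have hU : IsFibGrpd (overCat U).p := Groth.Agent.FibOver.isFibGrpd_overCat U
  have hW : IsFibGrpd (AlgSt.ofSp W.obj).p := Stk.isFibGrpd_ofPsh _
  have hx₄ : AlgSt.RepByAlgSpWith (AlgSp.LocP (@LocallyQuasiFinite ⊓ @LocallyOfFiniteType))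
      (BasedFunctor.comp (ofMap p) w) :=
    Groth.Agent.Lib.helper4.AlgStPts.locP_comp hU hW h𝒳' _ _ _ locPData_lqf
      (Groth.Agent.S10541.result S).1
      (Groth.Agent.Lib.helper4.AlgStPts.locP_ofMap _ (fun f hf => by
        have : Etale f := hf
        exact ⟨Groth.Agent.S10265.lqf_of_etale f, (inferInstance : LocallyOfFiniteType f)⟩) p hp1) hw₄
  exact diag_of_scheme_cover h𝒳 _
    (fun X₁ Y₁ X₂ Y₂ h1 h2 _ h4 a b a' b' sq ha => locP_of_isPullback locPData_lqf h1 h2 h4 sq ha)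
    (fun X Y Z _ hY _ a b ha hb =>
      Groth.Agent.H1.LocPStable.locP_comp locPData_lqf.descend hY a b ha hb)
    (isLocalOnBase_fppf_of_fpqc (Groth.Agent.S10541.result S).1) _ hx₁ hx₂ hx₃ hx₄
    (isQuasiDMMor_of_repByAlgSp1 _ (repByAlgSp1_prj₁ U U))

end Groth.Agent.Lib.helper4.AlgStDiagCover
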