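import Groth.Agent.Lib.Helper4.AlgStDiagCover
import Groth.Agent.Lib.Helper4.AlgStBootFppf
import Groth.Agent.Lib.Helper5.AlgSpQAffDesc2
set_option autoImplicit false
set_option backward.isDefEq.respectTransparency false
set_option backward.isDefEq.respectTransparency.types false
set_option linter.unusedSectionVars false
set_option linter.style.haveILetI false
set_option linter.unusedVariables false
open CategoryTheory CategoryTheory.Functor CategoryTheory.Limits Opposite AlgebraicGeometry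
universe u

/-! Composition / cancellation with three properties (`P₁ ∘ P₂ ⊆ P₃`), and reading a property of the diagonal of a
stack in groupoids on an fppf cover by a scheme, without assuming the stack algebraic. -/

namespace Groth.Agent.Lib.helper4.AlgStDiagCover3
open Groth.Agent.FibEquiv FibCat Groth.Agent.Lib.helper4.FibPaste Groth.Agent.Lib.helper4.AlgStEquiv
open Groth.Agent.Lib.helper4.AlgStSetoid Groth.Agent.Lib.helper4.FibSwap Groth.Agent.FibFpProj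
open Groth.Agent.Lib.helper4.AlgStFpAlg Groth.Agent.Lib.helper4.AlgStDiagComp
open Groth.Agent.Lib.helper4.AlgStDiagK Groth.Agent.Lib.helper4.AlgStSource
open Groth.Agent.Lib.helper4.FibRep Groth.Agent.Lib.helper4.FibProd Groth.Agent.Lib.helper4.FibOverProd
open Groth.Agent.Lib.helper4.AlgStCancel Groth.Agent.Lib.helper4.AlgStDiagLFT
open Groth.Agent.Lib.helper4.AlgStSmLoc Groth.Agent.Lib.helper4.AlgStDM
open Groth.Agent.Lib.helper4.AlgStCoreA Groth.Agent.Lib.helper4.PshRep Groth.Agent.Lib.helper4.PshDict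
open Groth.Agent.Lib.helper5.LocPBC Groth.Agent.Lib.helper4.AlgStDiagCover

variable {S : Scheme.{u}}

section Comp3

variable (P₁ P₂ P₃ : MorphismProperty (AlgSp.Sp S))
  (hPb : ∀ ⦃X₁ Y₁ X₂ Y₂ : AlgSp.Sp S⦄, AlgSp.IsAlgSpace X₁ → AlgSp.IsAlgSpace Y₁ → AlgSp.IsAlgSpace X₂ →
    AlgSp.IsAlgSpace Y₂ → ∀ (a : X₁ ⟶ Y₁) (b : Y₂ ⟶ Y₁) (a' : X₂ ⟶ Y₂) (b' : X₂ ⟶ X₁),
    IsPullback b' a' a b → P₁ a → P₁ a')
  (hP : AlgSp.IsLocalOnBase AlgSp.IsFppfCover P₁)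
  (hPc : ∀ ⦃X Y Z : AlgSp.Sp S⦄, AlgSp.IsAlgSpace X → AlgSp.IsAlgSpace Y → AlgSp.IsAlgSpace Z →
    ∀ (a : X ⟶ Y) (b : Y ⟶ Z), P₁ a → P₂ b → P₃ (a ≫ b))
include hPb hP hPc

/-- composition: `f` with `P₁` (fppf local on the base), `g` with `P₂`, and `P₁ ∘ P₂ ⊆ P₃` -/
theorem comp3 {𝒳 𝒴 𝒵 : AlgSt.Cat S}
    (h𝒳 : FibCat.IsFibGrpd 𝒳.p) (h𝒴 : FibCat.IsFibGrpd 𝒴.p) (h𝒵 : FibCat.IsFibGrpd 𝒵.p)
    (f : 𝒳 ⥤ᵇ 𝒴) (g : 𝒴 ⥤ᵇ 𝒵) (hf : AlgSt.RepByAlgSpWith P₁ f) (hg : AlgSt.RepByAlgSpWith P₂ g) :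
    AlgSt.RepByAlgSpWith P₃ (BasedFunctor.comp f g) := by
  have hQ : IsoInv P₁ := isoInv_of_baseChange P₁ hPb
  intro U z
  obtain ⟨G, eG, heG, hPG⟩ := hg U z
  obtain ⟨H, e, he, hPH⟩ := coreA h𝒳 h𝒴 P₁ hQ hP f hf G (BasedFunctor.comp eG (FibCat.fpSnd z g))
  refine ⟨H, BasedFunctor.comp e (BasedFunctor.comp (fpPrecomp eG (FibCat.fpSnd z g) f) (pasteR z g f)),
    isEquivOver_comp _ _ he (isEquivOver_comp _ _ (fpPrecomp_isEquivOver _ _ _ heG) (pasteR_isEquivOver z g f)), ?_⟩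
  have key : AlgSt.spMapOfOver (BasedFunctor.comp (BasedFunctor.comp e
        (BasedFunctor.comp (fpPrecomp eG (FibCat.fpSnd z g) f) (pasteR z g f))) (FibCat.fpFst z (BasedFunctor.comp f g))) =
      (ObjectProperty.homMk (pshMapOf (BasedFunctor.comp e (FibCat.fpFst (BasedFunctor.comp eG (FibCat.fpSnd z g)) f))) :
        H.obj ⟶ G.obj) ≫ AlgSt.spMapOfOver (BasedFunctor.comp eG (FibCat.fpFst z g)) := by
    apply ObjectProperty.hom_ext
    rw [spMapOfOver_hom]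
    change _ = pshMapOf (BasedFunctor.comp e (FibCat.fpFst (BasedFunctor.comp eG (FibCat.fpSnd z g)) f)) ≫
      (AlgSt.spMapOfOver (BasedFunctor.comp eG (FibCat.fpFst z g))).hom
    rw [spMapOfOver_hom]
    refine Eq.trans ?_ (pshMapOf_comp (P := H.obj.obj) (Q := G.obj.obj)
      (BasedFunctor.comp e (FibCat.fpFst (BasedFunctor.comp eG (FibCat.fpSnd z g)) f))
      (BasedFunctor.comp (BasedFunctor.comp eG (FibCat.fpFst z g)) (toYon.{u + 1} U)))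
    rfl
  rw [key]
  exact hPc H.property G.property (AlgSp.IsAlgSpace.yon_obj U) _ _ hPH hPG

/-- cancellation: if `b ∘ a` has `P₂` and the diagonal of `b` has `P₁`, then `a` has `P₃` -/
theorem of_comp3 {𝒜 ℬ 𝒞 : AlgSt.Cat S} (h𝒜 : IsFibGrpd 𝒜.p) (hℬ : IsFibGrpd ℬ.p) (h𝒞 : IsFibGrpd 𝒞.p)
    (a : 𝒜 ⥤ᵇ ℬ) (b : ℬ ⥤ᵇ 𝒞)
    (hab : AlgSt.RepByAlgSpWith P₂ (BasedFunctor.comp a b)) (hΔ : AlgSt.RepByAlgSpWith P₁ (FibCat.diag b)) :
    AlgSt.RepByAlgSpWith P₃ a := by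
  have hfp : IsFibGrpd (fp (BasedFunctor.comp a b) b).p := isFibGrpd_fp _ _ h𝒜 hℬ h𝒞
  have h1 : AlgSt.RepByAlgSpWith P₁
      (fpLift (F := BasedFunctor.comp a b) (G := b) (BasedFunctor.id 𝒜) a (Iso.refl _)) :=
    Groth.Agent.Lib.helper4.AlgStGraph.repByAlgSpWith_graph P₁ (BasedFunctor.comp a b) b a (Iso.refl _) hΔ
  have h2 : AlgSt.RepByAlgSpWith P₂ (fpSnd (BasedFunctor.comp a b) b) :=
    repByAlgSpWith_fpSnd hℬ h𝒞 h𝒜 P₂ (BasedFunctor.comp a b) b hab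
  exact comp3 P₁ P₂ P₃ hPb hP hPc h𝒜 hfp hℬ _ _ h1 h2

/-- `V ×_𝒳 U ⟶ V × U` has `P₃` when `G : U ⟶ 𝒳` has `P₂` and the diagonal of `V × U ⟶ V` has `P₁` -/
theorem fpFst_pairK3 {𝒳 : AlgSt.Cat S} (h𝒳 : IsFibGrpd 𝒳.p) {V U : Over S}
    (H : overCat V ⥤ᵇ 𝒳) (G : overCat U ⥤ᵇ 𝒳)
    (hΔ : AlgSt.RepByAlgSpWith P₁ (FibCat.diag (prj₁ V U)))
    (hG : AlgSt.RepByAlgSpWith P₂ G) :
    AlgSt.RepByAlgSpWith P₃ (fpFst (pairK H G) (Δ 𝒳)) := by
  have hV : IsFibGrpd (overCat V).p := Groth.Agent.FibOver.isFibGrpd_overCat V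
  have hU : IsFibGrpd (overCat U).p := Groth.Agent.FibOver.isFibGrpd_overCat U
  have hVU : IsFibGrpd (overCat (V ⨯ U)).p := Groth.Agent.FibOver.isFibGrpd_overCat _
  have hsq : IsFibGrpd (sq 𝒳).p := isFibGrpd_fp _ _ h𝒳 h𝒳 isFibGrpd_selfOver
  have hfp : IsFibGrpd (fp (pairK H G) (Δ 𝒳)).p := isFibGrpd_fp _ _ hVU h𝒳 hsq
  have h1 : AlgSt.RepByAlgSpWith P₂ (fpFst H G) := Groth.Agent.S12779.result hU h𝒳 hV _ G H hG
  have h2 : AlgSt.RepByAlgSpWith P₂ (BasedFunctor.comp (compare H G) (fpFst H G)) :=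
    (repByAlgSpWith_precomp_iff _ _ (compare H G) (compare_isEquivOver H G)).1 h1
  have h3 : AlgSt.RepByAlgSpWith P₂ (BasedFunctor.comp (fpFst (pairK H G) (Δ 𝒳)) (prj₁ V U)) := h2
  exact of_comp3 P₁ P₂ P₃ hPb hP hPc hfp hVU hV (fpFst (pairK H G) (Δ 𝒳)) (prj₁ V U) h3 hΔ

end Comp3

/-- a property of the diagonal of a stack in groupoids can be read on an fppf cover by a scheme, once the diagonal
is known to be representable by algebraic spaces -/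
theorem diag_of_pair {𝒳 : AlgSt.Cat S} (h𝒳' : IsFibGrpd 𝒳.p)
    (hdiag : AlgSt.RepByAlgSp1 (FibCat.diag (toSelf 𝒳)))
    (P : MorphismProperty (AlgSp.Sp S))
    (hPb : ∀ ⦃X₁ Y₁ X₂ Y₂ : AlgSp.Sp S⦄, AlgSp.IsAlgSpace X₁ → AlgSp.IsAlgSpace Y₁ → AlgSp.IsAlgSpace X₂ →
      AlgSp.IsAlgSpace Y₂ → ∀ (a : X₁ ⟶ Y₁) (b : Y₂ ⟶ Y₁) (a' : X₂ ⟶ Y₂) (b' : X₂ ⟶ X₁),
      IsPullback b' a' a b → P a → P a')
    (hP : AlgSp.IsLocalOnBase AlgSp.IsFppfCover P)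
    {U : Over S} (x : overCat U ⥤ᵇ 𝒳)
    (hx₁ : AlgSt.RepByAlgSpWith (AlgSp.LocP @Flat) x)
    (hx₂ : AlgSt.RepByAlgSpWith (AlgSp.LocP @LocallyOfFinitePresentation) x)
    (hx₃ : AlgSt.RepByAlgSpWith AlgSp.IsSurjectiveMor x)
    (hπ : AlgSt.RepByAlgSpWith P (fpFst (pairK x x) (Δ 𝒳))) :
    AlgSt.RepByAlgSpWith P (FibCat.diag (toSelf 𝒳)) := by
  have hsq : IsFibGrpd (sq 𝒳).p := isFibGrpd_fp _ _ h𝒳' h𝒳' isFibGrpd_selfOver
  have hUU : IsFibGrpd (overCat (U ⨯ U)).p := Groth.Agent.FibOver.isFibGrpd_overCat _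
  have hz₁ : AlgSt.RepByAlgSpWith (AlgSp.LocP @Flat) (pairK x x) :=
    repByAlgSpWith_pairK h𝒳' x x _
      (fun X₁ Y₁ X₂ Y₂ h1 h2 _ h4 a b a' b' sq ha => locP_of_isPullback locPData_flat h1 h2 h4 sq ha)
      (fun X Y Z _ hY _ a b ha hb =>
        Groth.Agent.H1.LocPStable.locP_comp locPData_flat.descend hY a b ha hb)
      (isLocalOnBase_fppf_of_fpqc (Groth.Agent.S10530.result S)) hx₁ hx₁
  have hz₂ : AlgSt.RepByAlgSpWith (AlgSp.LocP @LocallyOfFinitePresentation) (pairK x x) :=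
    repByAlgSpWith_pairK h𝒳' x x _
      (fun X₁ Y₁ X₂ Y₂ h1 h2 _ h4 a b a' b' sq ha => locP_of_isPullback locPData_lfp h1 h2 h4 sq ha)
      (fun X Y Z _ hY _ a b ha hb =>
        Groth.Agent.H1.LocPStable.locP_comp locPData_lfp.descend hY a b ha hb)
      (isLocalOnBase_fppf_of_fpqc (Groth.Agent.S10527.result S)) hx₂ hx₂
  have hz₃ : AlgSt.RepByAlgSpWith AlgSp.IsSurjectiveMor (pairK x x) :=
    repByAlgSpWith_pairK h𝒳' x x _
      (fun X₁ Y₁ X₂ Y₂ _ _ _ _ a b a' b' sq ha z => by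
        obtain ⟨x, hx⟩ := ha (AlgSp.Points.map b z)
        obtain ⟨w, -, hw⟩ := Groth.Agent.Lib.helper10.exists_point_of_isPullback sq x z hx
        exact ⟨w, hw⟩)
      (fun X Y Z _ _ _ a b ha hb z => by
        obtain ⟨y, hy⟩ := hb z
        obtain ⟨x, hx⟩ := ha y
        exact ⟨x, by rw [AlgSp.Points.map_comp, hx, hy]⟩)
      isLocalOnBase_isSurjectiveMor hx₃ hx₃
  exact Groth.Agent.Lib.helper4.AlgStDescent.descent h𝒳' hsq hUU _ hPb hP (FibCat.diag (toSelf 𝒳)) hdiag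
    (pairK x x) hz₁ hz₂ hz₃ hπ

section QAff

/-- affine after quasi-affine is quasi-affine -/
theorem isQuasiAffineMor_comp_affine {A B C : AlgSp.Sp S} (a : A ⟶ B) (b : B ⟶ C)
    (ha : AlgSp.IsQuasiAffineMor a) (hb : AlgSp.IsAffineMor b) : AlgSp.IsQuasiAffineMor (a ≫ b) := by
  intro Z hZ g
  obtain ⟨W₁, i₁, fst₁, sq₁, hW₁⟩ := hb hZ g
  obtain ⟨W₂, i₂, fst₂, sq₂, hW₂⟩ := ha hW₁ fst₁
  refine ⟨W₂, i₂ ≫ i₁, fst₂, ?_, hW₂⟩
  rw [CategoryTheory.Functor.map_comp]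
  exact sq₂.paste_vert sq₁

/-- quasi-compact immersions, as a property of morphisms of schemes -/
def qcImm : MorphismProperty Scheme.{u} := fun _ _ f => QuasiCompact f ∧ IsImmersion f

instance qcImm_isStableUnderBaseChange : qcImm.{u}.IsStableUnderBaseChange where
  of_isPullback sq h :=
    ⟨MorphismProperty.of_isPullback (P := @QuasiCompact) sq h.1,
      MorphismProperty.of_isPullback (P := @IsImmersion) sq h.2⟩

/-- a morphism representable by quasi-compact immersions is quasi-affine -/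
theorem isQuasiAffineMor_of_repWith_qcImm {F G : AlgSp.Sp S} (f : F ⟶ G) (h : AlgSp.RepWith qcImm f) :
    AlgSp.IsQuasiAffineMor f := by
  intro Z hZ g
  obtain ⟨W, snd, fst, sq⟩ := h.1 g
  have hq := h.2 g fst snd sq
  refine ⟨W, snd, fst, sq, ?_⟩
  have : IsAffine Z.left := hZ
  have : QuasiCompact snd.left := hq.1
  have : IsImmersion snd.left := hq.2
  have : CompactSpace W.left := QuasiCompact.compactSpace_of_compactSpace snd.left
  exact Scheme.IsQuasiAffine.of_isImmersion snd.left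

end QAff

end Groth.Agent.Lib.helper4.AlgStDiagCover3
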