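import Groth.Agent.Lib.Helper4.AlgStDiagK2
set_option autoImplicit false
set_option backward.isDefEq.respectTransparency false
set_option backward.isDefEq.respectTransparency.types false
set_option linter.unusedSectionVars false
set_option linter.style.haveILetI false
set_option linter.unusedVariables false
open CategoryTheory CategoryTheory.Functor CategoryTheory.Limits Opposite AlgebraicGeometry
universe w v u

/-! The diagonal of a morphism representable by algebraic spaces is representable by schemes. -/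

namespace Groth.Agent.Lib.helper4.AlgStDiagK
open Groth.Agent.FibEquiv FibCat Stk Groth.Agent.Lib.helper4.FibPaste Groth.Agent.Lib.helper4.AlgStEquiv
open Groth.Agent.Lib.helper4.PshDict Groth.Agent.Lib.helper4.FibSwap

/-- the functor of an isomorphism of presheaves is an equivalence -/
theorem isEquivOver_ofPshMap_of_iso {C : Type u} [Category.{v} C] {P Q : Cᵒᵖ ⥤ Type w} (i : P ≅ Q) :
    IsEquivOver (ofPshMap i.hom) :=
  ⟨ofPshMap i.inv,
    ⟨isoOfPshMapEq _ _ (by
      rw [pshMapOf_comp, pshMapOf_ofPshMap, pshMapOf_ofPshMap, pshMapOf_id, Iso.hom_inv_id])⟩,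
    ⟨isoOfPshMapEq _ _ (by
      rw [pshMapOf_comp, pshMapOf_ofPshMap, pshMapOf_ofPshMap, pshMapOf_id, Iso.inv_hom_id])⟩⟩

variable {S : Scheme.{u}}

/-- S12940: the diagonal of a morphism representable by algebraic spaces is representable (by schemes) -/
theorem isRepresentable1_diag_of_repByAlgSp1 {𝒳 𝒴 : AlgSt.Cat S} (f : 𝒳 ⥤ᵇ 𝒴) (hf : AlgSt.RepByAlgSp1 f) :
    FibCat.IsRepresentable1 (FibCat.diag f) := by
  have h1 : AlgSt.RepByAlgSpWith (AlgSp.Representable (S := S)) (FibCat.diag f) := by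
    apply repByAlgSpWith_diag_of_diagonal (AlgSp.Representable (S := S))
      (fun X₁ Y₁ X₂ Y₂ _ _ _ _ a b a' b' sq ha =>
        (AlgSp.Representable (S := S)).of_isPullback sq ha)
    intro T y
    obtain ⟨F, e, he⟩ := hf T y
    exact ⟨F, e, he, (Groth.Agent.Lib.helper15.AlgSpDiag.repWith_diagonal_properties F.property _).1⟩
  intro U G
  obtain ⟨F, e, he, hπ⟩ := h1 U G
  obtain ⟨V, g, fst, sq⟩ := hπ (𝟙 ((AlgSp.yon S).obj U))
  have hiso : IsIso fst := sq.isIso_fst_of_isIso
  let i : (AlgSp.yon S).obj V ≅ F.obj := asIso fst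
  let ip : ((AlgSp.yon S).obj V).obj ≅ F.obj.obj := (sheafToPresheaf (AlgSp.J S) (Type (u + 1))).mapIso i
  have h2 : IsEquivOver (ofPshMap ip.hom) := isEquivOver_ofPshMap_of_iso ip
  have h3 : IsEquivOver (Groth.Agent.Lib.helper4.PshDict.toYon.{u + 1} V) :=
    Groth.Agent.Lib.helper4.PshDict.toYon_isEquivOver V
  obtain ⟨Ei, ⟨α⟩, ⟨β⟩⟩ := isEquivOver_comp _ _ h3 (isEquivOver_comp _ _ h2 he)
  exact ⟨V, Ei, isEquivOver_symm α β⟩

end Groth.Agent.Lib.helper4.AlgStDiagK
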