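import Groth.Agent.Lib.Helper4.AlgStDiagCover
import Groth.Agent.Lib.Helper4.AlgStDiagK4
import Groth.Agent.Lib.Helper4.AlgStDiagK3
import Groth.Agent.Lib.Helper4.AlgStPts6
import Groth.Agent.S10271
import Groth.Agent.S10275
import Groth.Agent.S10276
import Groth.Agent.S10536
import Groth.Agent.S10541
import Groth.Agent.S10265
import Groth.Prelude.Def_W4stkstmodspWNA
set_option autoImplicit false
set_option backward.isDefEq.respectTransparency false
set_option backward.isDefEq.respectTransparency.types false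
set_option linter.unusedSectionVars false
set_option linter.style.haveILetI false
set_option linter.unusedVariables false
open CategoryTheory CategoryTheory.Functor CategoryTheory.Limits Opposite AlgebraicGeometry
universe u

/-! Well-nigh affine algebraic stacks are quasi-compact, quasi-DM and separated. -/

namespace Groth.Agent.Lib.helper4.AlgStWNA
open Groth.Agent.FibEquiv FibCat Groth.Agent.Lib.helper4.FibPaste Groth.Agent.Lib.helper4.AlgStEquiv
open Groth.Agent.Lib.helper4.AlgStSetoid Groth.Agent.Lib.helper4.FibSwap Groth.Agent.FibFpProj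
open Groth.Agent.Lib.helper4.AlgStFpAlg Groth.Agent.Lib.helper4.AlgStDiagComp
open Groth.Agent.Lib.helper4.AlgStDiagK Groth.Agent.Lib.helper4.AlgStSource
open Groth.Agent.Lib.helper4.FibRep Groth.Agent.Lib.helper4.FibProd Groth.Agent.Lib.helper4.FibOverProd
open Groth.Agent.Lib.helper4.AlgStCancel Groth.Agent.Lib.helper4.AlgStDiagLFT
open Groth.Agent.Lib.helper4.AlgStSmLoc Groth.Agent.Lib.helper4.AlgStDM
open Groth.Agent.Lib.helper4.AlgStDiagCover Groth.Agent.Lib.helper4.AlgStPts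
open Groth.Agent.Lib.helper5.LocPBC

variable {S : Scheme.{u}}

/-- a finite morphism is locally quasi-finite -/
theorem locP_lqf_of_isFiniteMor {F G : AlgSp.Sp S} (f : F ⟶ G) (h : AlgSp.IsFiniteMor f) :
    AlgSp.LocP (@LocallyQuasiFinite ⊓ @LocallyOfFiniteType) f := by
  refine Groth.Agent.S10271.locP_of_affine_base_change (P := @LocallyQuasiFinite ⊓ @LocallyOfFiniteType)
    (fun m hm => by
      have := hm
      exact ⟨Groth.Agent.S10265.lqf_of_etale m, (inferInstance : LocallyOfFiniteType m)⟩) f ?_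
  intro Z hZ g
  obtain ⟨W, i, fst, sq, hW, hi⟩ := h hZ g
  have := hi
  exact ⟨W, i, fst, sq, ⟨(inferInstance : LocallyQuasiFinite i.left), (inferInstance : LocallyOfFiniteType i.left)⟩⟩

/-- a finite morphism to a scheme is proper -/
theorem isProperMor_of_isFiniteMor (F : AlgSp.Space S) (T : Over S) (π : F.obj ⟶ (AlgSp.yon S).obj T)
    (h : AlgSp.IsFiniteMor π) : AlgSp.IsProperMor π :=
  ((Groth.Agent.S10271.result (X := F) (Y := ⟨(AlgSp.yon S).obj T, AlgSp.IsAlgSpace.yon_obj T⟩)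
    (ObjectProperty.homMk π)).1 h).2

theorem prj₁_eq_overMap (V U : Over S) : prj₁ V U = AlgSt.overMap (prod.fst : V ⨯ U ⟶ V) := rfl

/-- the projection `V × U ⟶ V` is separated when `U ⟶ S` is -/
theorem isSeparatedMor_prj₁ (V U : Over S) (hU : IsSeparated U.hom) : AlgSt.IsSeparatedMor (prj₁ V U) := by
  have h1 : AlgSp.IsSeparatedMor ((AlgSp.yon S).map (prod.fst : V ⨯ U ⟶ V)) := by
    rw [AlgSp.isSeparatedMor_yon_map_iff, ← Over.prodLeftIsoPullback_hom_fst]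
    infer_instance
  have h2 : AlgSt.RepByAlgSpWith AlgSp.IsSeparatedMor (prj₁ V U) := by
    rw [prj₁_eq_overMap]
    exact repByAlgSpWith_overMap _ _ (Groth.Agent.Lib.helper4.AlgStDescent.repBySpWith_of_stable _
      (fun X₁ Y₁ X₂ Y₂ h1 h2 _ h4 a b a' b' sq ha => isSeparatedMor_of_isPullback sq ha)
      (AlgSp.IsAlgSpace.yon_obj _) (AlgSp.IsAlgSpace.yon_obj _) _ h1)
  exact ((tfae_separated (prj₁ V U) (repByAlgSp1_prj₁ V U)).out 0 2).1 h2

/-- S16697 -/
theorem wna_main (𝒳 : AlgSt.Cat S) (h𝒳 : AlgSt.IsAlgStack Scheme.fppfPrecoverage 𝒳)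
    (hw : AlgSt.IsWellNighAffine 𝒳) :
    AlgSt.IsQuasiCompact 𝒳 ∧ AlgSt.IsQuasiDMOver 𝒳 ∧ AlgSt.IsSeparatedOver 𝒳 := by
  obtain ⟨U, x, hU, hx⟩ := hw
  have h𝒳' : IsFibGrpd 𝒳.p := h𝒳.isStack.1
  have hx₃ : AlgSt.RepByAlgSpWith AlgSp.IsSurjectiveMor x :=
    repByAlgSpWith_mono x (fun _ _ _ h => h.1.1.1) hx
  have hx₁ : AlgSt.RepByAlgSpWith (AlgSp.LocP @Flat) x :=
    repByAlgSpWith_mono x (fun _ _ _ h => h.1.1.2) hx
  have hxf : AlgSt.RepByAlgSpWith AlgSp.IsFiniteMor x :=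
    repByAlgSpWith_mono x (fun _ _ _ h => h.1.2) hx
  have hx₂ : AlgSt.RepByAlgSpWith (AlgSp.LocP @LocallyOfFinitePresentation) x :=
    repByAlgSpWith_mono x (fun _ _ _ h => h.2) hx
  refine ⟨?_, ?_, ?_⟩
  · have hc : Continuous (AlgSt.Points.ofChart x) := continuous_ofChart h𝒳' h𝒳.atlas x
    have : CompactSpace U.left := inferInstance
    have : CompactSpace (AlgSt.Points 𝒳) := (ofChart_surjective h𝒳' x hx₃).compactSpace hc
    exact isQuasiCompact_of_compactSpace_points h𝒳' h𝒳.atlas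
  · exact diag_of_scheme_cover h𝒳 _
      (fun X₁ Y₁ X₂ Y₂ h1 h2 _ h4 a b a' b' sq ha => locP_of_isPullback locPData_lqf h1 h2 h4 sq ha)
      (fun X Y Z _ hY _ a b ha hb =>
        Groth.Agent.H1.LocPStable.locP_comp locPData_lqf.descend hY a b ha hb)
      (isLocalOnBase_fppf_of_fpqc (Groth.Agent.S10541.result S).1) x hx₁ hx₂ hx₃
      (repByAlgSpWith_mono x (fun F T π h => locP_lqf_of_isFiniteMor π h) hxf)
      (isQuasiDMMor_of_repByAlgSp1 _ (repByAlgSp1_prj₁ U U))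
  · exact diag_of_scheme_cover h𝒳 AlgSp.IsProperMor
      (fun X₁ Y₁ X₂ Y₂ h1 h2 h3 h4 a b a' b' sq ha =>
        Groth.Agent.S10275.result (X := ⟨X₁, h1⟩) (Y := ⟨Y₁, h2⟩) (Y' := ⟨Y₂, h4⟩) (X' := ⟨X₂, h3⟩)
          (ObjectProperty.homMk a) (ObjectProperty.homMk b) (ObjectProperty.homMk b') (ObjectProperty.homMk a')
          sq ha)
      (fun X Y Z hX hY hZ a b ha hb =>
        Groth.Agent.S10276.result (X := ⟨X, hX⟩) (Y := ⟨Y, hY⟩) (Z := ⟨Z, hZ⟩)
          (ObjectProperty.homMk a) (ObjectProperty.homMk b) ha hb)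
      (isLocalOnBase_fppf_of_fpqc (Groth.Agent.S10536.result S)) x hx₁ hx₂ hx₃
      (repByAlgSpWith_mono x (fun F T π h => isProperMor_of_isFiniteMor F T π h) hxf)
      (isSeparatedMor_prj₁ U U inferInstance)

/-- S16699 -/
theorem wna_of_affine (𝒳 𝒳' : AlgSt.Cat S) (h𝒳 : IsFibGrpd 𝒳.p) (h𝒳' : IsFibGrpd 𝒳'.p)
    (hw : AlgSt.IsWellNighAffine 𝒳) (f : 𝒳' ⥤ᵇ 𝒳) (hf : AlgSt.RepByAlgSpWith AlgSp.IsAffineMor f) :
    AlgSt.IsWellNighAffine 𝒳' := by
  obtain ⟨U, x, hU, hx⟩ := hw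
  obtain ⟨F, e, he, hπ⟩ := hf U x
  obtain ⟨W, i, fst, sq, hW⟩ := hπ hU (𝟙 _)
  have hiso : IsIso fst := sq.isIso_fst_of_isIso
  let i' : (AlgSp.yon S).obj W ≅ F.obj := asIso fst
  let ip : ((AlgSp.yon S).obj W).obj ≅ F.obj.obj := (sheafToPresheaf (AlgSp.J S) (Type (u + 1))).mapIso i'
  have h2 : IsEquivOver (Stk.ofPshMap ip.hom) := isEquivOver_ofPshMap_of_iso ip
  have h3 : IsEquivOver (Groth.Agent.Lib.helper4.PshDict.toYon.{u + 1} W) :=
    Groth.Agent.Lib.helper4.PshDict.toYon_isEquivOver W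
  have hE := isEquivOver_comp _ _ h3 (isEquivOver_comp _ _ (isEquivOver_comp _ _ h2 he) (fpSwap_isEquivOver x f))
  refine ⟨W, BasedFunctor.comp ((Groth.Agent.Lib.helper4.PshDict.toYon.{u + 1} W).comp
    (((Stk.ofPshMap ip.hom).comp e).comp (fpSwap x f))) (fpFst f x), hW, ?_⟩
  exact (repByAlgSpWith_precomp_iff _ _ _ hE).1
    (Groth.Agent.S12779.result (Groth.Agent.FibOver.isFibGrpd_overCat U) h𝒳 h𝒳' _ x f hx)

end Groth.Agent.Lib.helper4.AlgStWNA
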