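import Groth.Agent.Lib.Helper4.AlgStBoot5
import Groth.Agent.S12765
import Groth.Agent.S12766
import Groth.Agent.S12775
set_option autoImplicit false
set_option backward.isDefEq.respectTransparency false
set_option backward.isDefEq.respectTransparency.types false
set_option linter.unusedSectionVars false
set_option linter.style.haveILetI false
set_option linter.unusedVariables false
open CategoryTheory CategoryTheory.Functor CategoryTheory.Limits Opposite AlgebraicGeometry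
universe u

/-! Bootstrapping the diagonal: a stack in groupoids with a smooth surjective cover, representable by algebraic spaces,
from an algebraic space is an algebraic stack (helper4). -/

namespace Groth.Agent.Lib.helper4.AlgStBootDiag
open Groth.Agent.FibEquiv Groth.Agent.FibYoneda Groth.Agent.FibFpProj Stk FibCat
open Groth.Agent.Lib.helper4.Descent Groth.Agent.Lib.helper4.PshDict Groth.Agent.Lib.helper4.FibPaste
open Groth.Agent.Lib.helper4.AlgStEquiv Groth.Agent.Lib.helper4.PshRep Groth.Agent.Lib.helper4.PshPB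
open Groth.Agent.Lib.helper4.FibSwap Groth.Agent.Lib.helper4.AlgStSetoid Groth.Agent.Lib.helper4.AlgStCoreA
open Groth.Agent.Lib.helper4.AlgStDescent Groth.Agent.Lib.helper4.AlgStSource Groth.Agent.Lib.helper4.AlgStDM
open Groth.Agent.Lib.helper4.AlgStSmLoc Groth.Agent.Lib.helper4.PointsBasic Groth.Agent.Lib.helper4.AlgStRep
open Groth.Agent.Lib.helper4.AlgStPts Groth.Agent.Lib.helper4.AlgStFpAlg
open Groth.Agent.Lib.helper4.PshOfSetoid Groth.Agent.Lib.Helper4.AlgStGlue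
open Groth.Agent.Lib.helper4.AlgStCancel Groth.Agent.Lib.helper4.AlgStBoot
open AlgSt

variable {S : Scheme.{u}}

/-- a stack fibred in setoids with a smooth surjective atlas from a scheme is representable by an algebraic space -/
theorem repByAlgSp_of_isFibSetoid_of_atlas {𝒳 : AlgSt.Cat S}
    (hst : Stk.IsStack (QuotSh.J Scheme.fppfPrecoverage S) 𝒳) (hset : IsFibSetoid 𝒳.p)
    (hat : AlgSt.HasAtlas (AlgSp.LocP @Smooth) 𝒳) : AlgSt.RepByAlgSp 𝒳 := by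
  have hsh : Presieve.IsSheaf (AlgSp.J S) (clsPsh hset.1) := isSheaf_clsPsh _ hset hst
  let F : AlgSp.Sp S := ⟨clsPsh hset.1, (isSheaf_iff_isSheaf_of_type _ _).2 hsh⟩
  obtain ⟨Ei, ⟨γ⟩, ⟨δ⟩⟩ := toCls_isEquivOver hset
  have hEi : IsEquivOver Ei := isEquivOver_symm γ δ
  obtain ⟨U, x, hx1, hx2⟩ := hat
  have hxQ := repByAlgSpWith_Qfppf x hx1 hx2
  obtain ⟨G, ⟨α⟩, ⟨β⟩⟩ := toYon_isEquivOver.{u + 1} U
  have hG : IsEquivOver G := isEquivOver_symm α β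
  have hrep := repBySpWith_pshMapOf Qfppf isoInv_Qfppf x G hG Ei (toCls hset.1) γ hEi hxQ
  let p : (AlgSp.yon S).obj U ⟶ F :=
    ObjectProperty.homMk (pshMapOf (BasedFunctor.comp (BasedFunctor.comp G x) (toCls hset.1)))
  have hp := (AlgSp.repBySpWith_hom_iff Qfppf p).1 hrep
  have hF : AlgSp.IsAlgSpace F :=
    Groth.Agent.Lib.helper5.FppfBoot.isAlgSpace_of_repBySpWith_fppf (AlgSp.IsAlgSpace.yon_obj U) p
      (fun T ξ F' fst snd sq => by
        obtain ⟨h1, h2⟩ := hp ξ fst snd sq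
        exact ⟨h1, ⟨⟨h2.1.1, h2.1.2⟩, h2.2⟩⟩)
  exact ⟨⟨F, hF⟩, Ei, hEi⟩

/-- a smooth surjective atlas from a scheme, out of a smooth surjective cover by a category representable by an algebraic
space -/
theorem hasAtlas_of_cover {𝒲 𝒲' : AlgSt.Cat S} (h𝒲 : IsFibGrpd 𝒲.p) (h𝒲' : IsFibGrpd 𝒲'.p)
    (hrep : AlgSt.RepByAlgSp 𝒲') (q : 𝒲' ⥤ᵇ 𝒲)
    (hq1 : AlgSt.RepByAlgSpWith (AlgSp.LocP @Smooth) q) (hq2 : AlgSt.RepByAlgSpWith AlgSp.IsSurjectiveMor q) :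
    AlgSt.HasAtlas (AlgSp.LocP @Smooth) 𝒲 := by
  obtain ⟨J, e, he⟩ := hrep
  obtain ⟨V, v, hv1, hv2⟩ := (hasAtlas_ofSp J).2
  have hJ : IsFibGrpd (AlgSt.ofSp J.obj).p := isFibGrpd_ofPsh _
  have hV : IsFibGrpd (overCat V).p := Groth.Agent.FibOver.isFibGrpd_overCat V
  have h1 : AlgSt.RepByAlgSpWith (AlgSp.LocP @Smooth) (BasedFunctor.comp e q) :=
    (repByAlgSpWith_precomp_iff _ q e he).1 hq1
  have h2 : AlgSt.RepByAlgSpWith AlgSp.IsSurjectiveMor (BasedFunctor.comp e q) :=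
    (repByAlgSpWith_precomp_iff _ q e he).1 hq2
  exact ⟨V, BasedFunctor.comp v (BasedFunctor.comp e q), smooth_comp hV hJ h𝒲 _ _ hv1 h1,
    surj_comp hV hJ h𝒲 _ _ hv2 h2⟩

/-- a stack fibred in setoids with a smooth surjective cover by a category representable by an algebraic space is
representable by an algebraic space -/
theorem repByAlgSp_of_isFibSetoid_of_cover {𝒲 𝒲' : AlgSt.Cat S}
    (hst : Stk.IsStack (QuotSh.J Scheme.fppfPrecoverage S) 𝒲) (hset : IsFibSetoid 𝒲.p) (h𝒲' : IsFibGrpd 𝒲'.p)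
    (hrep : AlgSt.RepByAlgSp 𝒲') (q : 𝒲' ⥤ᵇ 𝒲)
    (hq1 : AlgSt.RepByAlgSpWith (AlgSp.LocP @Smooth) q) (hq2 : AlgSt.RepByAlgSpWith AlgSp.IsSurjectiveMor q) :
    AlgSt.RepByAlgSp 𝒲 :=
  repByAlgSp_of_isFibSetoid_of_atlas hst hset (hasAtlas_of_cover hst.1 h𝒲' hrep q hq1 hq2)

section D

variable {𝒳 : AlgSt.Cat S} (h𝒳 : Stk.IsStack (QuotSh.J Scheme.fppfPrecoverage S) 𝒳)
  (F : AlgSp.Space S) (u : AlgSt.ofSp F.obj ⥤ᵇ 𝒳)
  (hsm : AlgSt.RepByAlgSpWith (AlgSp.LocP @Smooth) u) (hsurj : AlgSt.RepByAlgSpWith AlgSp.IsSurjectiveMor u)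
include h𝒳 hsm hsurj

/-- **bootstrapping the diagonal**: fibre products of schemes over a stack with a smooth surjective cover by an
algebraic space are algebraic spaces -/
theorem repByAlgSp_fp_of_cover {T' T : Over S} (x' : overCat T' ⥤ᵇ 𝒳) (x : overCat T ⥤ᵇ 𝒳) :
    AlgSt.RepByAlgSp (fp x' x) := by
  have hX := h𝒳.1
  have hT' : IsFibGrpd (overCat T').p := Groth.Agent.FibOver.isFibGrpd_overCat T'
  have hT : IsFibGrpd (overCat T).p := Groth.Agent.FibOver.isFibGrpd_overCat T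
  have hF : IsFibGrpd (AlgSt.ofSp F.obj).p := isFibGrpd_ofPsh _
  have h𝒲st : Stk.IsStack (QuotSh.J Scheme.fppfPrecoverage S) (fp x' x) :=
    Groth.Agent.StkFp.isStack_fp x' x _ (Groth.Agent.Lib.helper4.AlgStSelf.isAlgStack_overCat T').isStack
      (Groth.Agent.Lib.helper4.AlgStSelf.isAlgStack_overCat T).isStack
      (Groth.Agent.StkFp.isPrestack_of_isStack _ h𝒳)
  have hset : IsFibSetoid (fp x' x).p :=
    ⟨h𝒲st.1, Groth.Agent.StkFp.thin_fp x' x (thin_overCat T') (thin_overCat T)⟩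
  have hE' : IsFibGrpd (fp x' u).p := isFibGrpd_fp x' u hT' hF hX
  have hE'rep : AlgSt.RepByAlgSp (fp x' u) := by
    obtain ⟨Z, e, he, -⟩ := hsm T' x'
    exact ⟨Z, e, he⟩
  have hp1 : AlgSt.RepByAlgSpWith (AlgSp.LocP @Smooth) (fpFst x' u) :=
    Groth.Agent.S12779.result hF hX hT' _ u x' hsm
  have hp2 : AlgSt.RepByAlgSpWith AlgSp.IsSurjectiveMor (fpFst x' u) :=
    Groth.Agent.S12779.result hF hX hT' _ u x' hsurj
  have h𝒲' : IsFibGrpd (fp (fpFst x' x) (fpFst x' u)).p := isFibGrpd_fp _ _ h𝒲st.1 hE' hT'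
  have hq1 : AlgSt.RepByAlgSpWith (AlgSp.LocP @Smooth) (fpFst (fpFst x' x) (fpFst x' u)) :=
    Groth.Agent.S12779.result hE' hT' h𝒲st.1 _ (fpFst x' u) (fpFst x' x) hp1
  have hq2 : AlgSt.RepByAlgSpWith AlgSp.IsSurjectiveMor (fpFst (fpFst x' x) (fpFst x' u)) :=
    Groth.Agent.S12779.result hE' hT' h𝒲st.1 _ (fpFst x' u) (fpFst x' x) hp2
  have hux : AlgSt.RepByAlgSp (fp u x) := by
    obtain ⟨Z, e, he, -⟩ := hsm T x
    exact repByAlgSp_of_isEquivOver (fpSwap x u) (fpSwap_isEquivOver x u) ⟨Z, e, he⟩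
  have hfux : IsFibGrpd (fp u x).p := isFibGrpd_fp u x hF hT hX
  have h1 : AlgSt.RepByAlgSp1 (fpFst u x) :=
    Groth.Agent.S12775.result hfux hF hux ⟨F, BasedFunctor.id _, isEquivOver_id' _⟩ _
  have h2 : AlgSt.RepByAlgSp (fp (fpSnd x' u) (fpFst u x)) :=
    Groth.Agent.S12766.result hfux hF hE' (fpFst u x) (fpSnd x' u) h1 hE'rep
  have h3 : AlgSt.RepByAlgSp (fp (BasedFunctor.comp (fpSnd x' u) u) x) :=
    repByAlgSp_of_isEquivOver (pasteL (fpSnd x' u) u x) (pasteL_isEquivOver (fpSnd x' u) u x) h2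
  have h4 : AlgSt.RepByAlgSp (fp (BasedFunctor.comp (fpFst x' u) x') x) :=
    repByAlgSp_of_isEquivOver
      (fpMap (BasedFunctor.comp (fpSnd x' u) u) (BasedFunctor.comp (fpFst x' u) x') x x
        (BasedFunctor.id _) (BasedFunctor.id _) (fpIso x' u).symm (Iso.refl _))
      (fpMap_isEquivOver _ _ _ _ _ _ _ _ (isEquivOver_id' _) (isEquivOver_id' _)) h3
  obtain ⟨Gi, ⟨α⟩, ⟨β⟩⟩ := pasteL_isEquivOver (fpFst x' u) x' x
  have h5 : AlgSt.RepByAlgSp (fp (fpFst x' u) (fpFst x' x)) :=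
    repByAlgSp_of_isEquivOver Gi (isEquivOver_symm α β) h4
  have h6 : AlgSt.RepByAlgSp (fp (fpFst x' x) (fpFst x' u)) :=
    repByAlgSp_of_isEquivOver (fpSwap _ _) (fpSwap_isEquivOver _ _) h5
  exact repByAlgSp_of_isFibSetoid_of_cover h𝒲st hset h𝒲' h6 _ hq1 hq2

/-- the diagonal of a stack with a smooth surjective cover by an algebraic space is representable by algebraic spaces -/
theorem repByAlgSp1_diag_of_cover : AlgSt.RepByAlgSp1 (FibCat.diag (FibCat.toSelf 𝒳)) :=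
  (Groth.Agent.S12765.result h𝒳.1).2 (fun T x T' x' => repByAlgSp_fp_of_cover h𝒳 F u hsm hsurj x' x)

/-- a stack with a smooth surjective cover by an algebraic space is an algebraic stack -/
theorem isAlgStack_of_cover : AlgSt.IsAlgStack Scheme.fppfPrecoverage 𝒳 :=
  ⟨h𝒳, repByAlgSp1_diag_of_cover h𝒳 F u hsm hsurj,
    hasAtlas_of_cover h𝒳.1 (isFibGrpd_ofPsh _) ⟨F, BasedFunctor.id _, isEquivOver_id' _⟩ u hsm hsurj⟩

end D

/-- S12760 -/
theorem isAlgStack_of_cover' {𝒰 𝒳 : AlgSt.Cat S} (h𝒳 : Stk.IsStack (QuotSh.J Scheme.fppfPrecoverage S) 𝒳)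
    (hU : AlgSt.RepByAlgSp 𝒰) (u : 𝒰 ⥤ᵇ 𝒳) (hsm : AlgSt.RepByAlgSpWith (AlgSp.LocP @Smooth) u)
    (hsurj : AlgSt.RepByAlgSpWith AlgSp.IsSurjectiveMor u) : AlgSt.IsAlgStack Scheme.fppfPrecoverage 𝒳 := by
  obtain ⟨F, e, he⟩ := hU
  exact isAlgStack_of_cover h𝒳 F (BasedFunctor.comp e u) ((repByAlgSpWith_precomp_iff _ u e he).1 hsm)
    ((repByAlgSpWith_precomp_iff _ u e he).1 hsurj)

/-- S16213 -/
theorem isAlgStack_of_fp_cover {𝒳 𝒴 : AlgSt.Cat S} (h𝒳 : Stk.IsStack (QuotSh.J Scheme.fppfPrecoverage S) 𝒳)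
    (h𝒴 : FibCat.IsFibGrpd 𝒴.p) (f : 𝒳 ⥤ᵇ 𝒴) (Z : AlgSp.Space S) (z : AlgSt.ofSp Z.obj ⥤ᵇ 𝒴)
    (hsm : AlgSt.RepByAlgSpWith (AlgSp.LocP @Smooth) z) (hsurj : AlgSt.RepByAlgSpWith AlgSp.IsSurjectiveMor z)
    (hfp : AlgSt.IsAlgStack Scheme.fppfPrecoverage (FibCat.fp z f)) :
    AlgSt.IsAlgStack Scheme.fppfPrecoverage 𝒳 := by
  obtain ⟨V, v, hv1, hv2⟩ := hfp.atlas
  have hZ : IsFibGrpd (AlgSt.ofSp Z.obj).p := isFibGrpd_ofPsh _
  have hV : IsFibGrpd (overCat V).p := Groth.Agent.FibOver.isFibGrpd_overCat V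
  have hp1 : AlgSt.RepByAlgSpWith (AlgSp.LocP @Smooth) (fpSnd z f) := repByAlgSpWith_fpSnd h𝒳.1 h𝒴 hZ _ z f hsm
  have hp2 : AlgSt.RepByAlgSpWith AlgSp.IsSurjectiveMor (fpSnd z f) := repByAlgSpWith_fpSnd h𝒳.1 h𝒴 hZ _ z f hsurj
  exact isAlgStack_of_cover' h𝒳 (repByAlgSp_overCat V) (BasedFunctor.comp v (fpSnd z f))
    (smooth_comp hV hfp.isStack.1 h𝒳.1 _ _ hv1 hp1) (surj_comp hV hfp.isStack.1 h𝒳.1 _ _ hv2 hp2)

end Groth.Agent.Lib.helper4.AlgStBootDiag
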