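import Mathlib
import Groth.Prelude.Def_AlgSt5
import Groth.Agent.S12838
import Groth.Agent.Lib.Helper4.DiagBC
set_option autoImplicit false
set_option backward.isDefEq.respectTransparency false
set_option backward.isDefEq.respectTransparency.types false
set_option linter.unusedSimpArgs false
universe u
open CategoryTheory AlgebraicGeometry MonoidalCategory CartesianMonoidalCategory MonObj GrpObj
open AlgSt

/-! Basic facts on the quotient category `[X/G]` (torsor description): morphisms over
isomorphisms are isomorphisms, right multiplication morphisms between trivial torsors. -/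

namespace Groth.Agent.Lib.helper4.QuotSt1
open Groth.Agent.S12838

variable {S : Scheme.{u}} {K : Precoverage Scheme.{u}} {G : Over S} [GrpObj G] {X : Over S}
  {aX : AlgGrp.Action G X}

/-- a morphism of `[X/G]` over an isomorphism is an isomorphism -/
theorem isIso_of_isIso_base {A B : QuotObj K G aX} (h : A ⟶ B) [IsIso h.base] : IsIso h := by
  have htop : IsIso h.top := h.cart.isIso_fst_of_isIso
  have heqv : B.act.act ≫ inv h.top = (G ◁ inv h.top) ≫ A.act.act := by
    rw [IsIso.comp_inv_eq, Category.assoc, h.eqv, ← MonoidalCategory.whiskerLeft_comp_assoc,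
      IsIso.inv_hom_id, MonoidalCategory.whiskerLeft_id, Category.id_comp]
  have hcart : IsPullback (inv h.top) B.π A.π (inv h.base) := by
    refine IsPullback.of_horiz_isIso ⟨?_⟩
    rw [IsIso.inv_comp_eq, ← Category.assoc, IsIso.eq_comp_inv]
    exact h.cart.w.symm
  have hφ : inv h.top ≫ A.φ = B.φ := by
    rw [IsIso.inv_comp_eq, h.wφ]
  let k : B ⟶ A := ⟨inv h.base, inv h.top, heqv, hcart, hφ⟩
  refine ⟨k, ?_, ?_⟩
  · apply QuotObj.hom_ext
    · change h.base ≫ inv h.base = 𝟙 _
      simp
    · change h.top ≫ inv h.top = 𝟙 _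
      simp
  · apply QuotObj.hom_ext
    · change inv h.base ≫ h.base = 𝟙 _
      simp
    · change inv h.top ≫ h.top = 𝟙 _
      simp

variable [K.HasIsos]

/-- right multiplication by `g` over `f`, between trivial torsors -/
noncomputable def rmulHom (aX : AlgGrp.Action G X) (a b : (ofSch X).obj) (f : a.base ⟶ b.base)
    (g : a.base ⟶ G) (hg : lift g (f ≫ b.sec.down) ≫ aX.act = a.sec.down) :
    (quotMap K G aX).obj a ⟶ (quotMap K G aX).obj b :=
  ⟨f, lift (fst G a.base * (snd G a.base ≫ g)) (snd G a.base ≫ f), part2_eqv f g, part2_cart f g, by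
    have := part2_w aX f b.sec.down g
    rw [hg] at this
    exact this⟩

@[simp] theorem rmulHom_base (a b : (ofSch X).obj) (f : a.base ⟶ b.base)
    (g : a.base ⟶ G) (hg : lift g (f ≫ b.sec.down) ≫ aX.act = a.sec.down) :
    (rmulHom (K := K) aX a b f g hg).base = f := rfl

@[simp] theorem rmulHom_top (a b : (ofSch X).obj) (f : a.base ⟶ b.base)
    (g : a.base ⟶ G) (hg : lift g (f ≫ b.sec.down) ≫ aX.act = a.sec.down) :
    (rmulHom (K := K) aX a b f g hg).top =
      lift (fst G a.base * (snd G a.base ≫ g)) (snd G a.base ≫ f) := rfl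

/-- every morphism between trivial torsors is a right multiplication -/
theorem exists_rmul (a b : (ofSch X).obj) (h : (quotMap K G aX).obj a ⟶ (quotMap K G aX).obj b) :
    ∃ g : a.base ⟶ G, lift g (h.base ≫ b.sec.down) ≫ aX.act = a.sec.down ∧
      h.top = lift (fst G a.base * (snd G a.base ≫ g)) (snd G a.base ≫ h.base) :=
  part1 aX h.base a.sec.down b.sec.down h.top h.eqv h.cart.w h.wφ

/-- the group element of a right multiplication is determined by the top map -/
theorem rmul_elt_eq {T T' : Over S} (f f' : T ⟶ T') (g g' : T ⟶ G)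
    (h : lift (fst G T * (snd G T ≫ g)) (snd G T ≫ f) = lift (fst G T * (snd G T ≫ g')) (snd G T ≫ f')) :
    g = g' := by
  have h1 := congrArg (fun k => esec G T ≫ k ≫ fst G T') h
  simp only [lift_fst, comp_mul, esec, lift_fst, lift_snd_assoc, Category.id_comp] at h1
  have h2 : (toUnit T ≫ η[G]) = (1 : T ⟶ G) := one_eq G T
  rw [h2, _root_.one_mul, _root_.one_mul] at h1
  exact h1

theorem quotMap_map_top {a b : (ofSch X).obj} (ψ : a ⟶ b) :
    ((quotMap K G aX).map ψ).top = G ◁ ψ.hom := rfl

theorem quotMap_map_base {a b : (ofSch X).obj} (ψ : a ⟶ b) :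
    ((quotMap K G aX).map ψ).base = ψ.hom := rfl

omit [K.HasIsos] in
theorem whisker_rmul {T' T T'' : Over S} (h : T' ⟶ T) (g : T ⟶ G) (f : T ⟶ T'') :
    (G ◁ h) ≫ lift (fst G T * (snd G T ≫ g)) (snd G T ≫ f) =
      lift (fst G T' * (snd G T' ≫ h ≫ g)) (snd G T' ≫ h ≫ f) := by
  apply CartesianMonoidalCategory.hom_ext
  · simp only [Category.assoc, lift_fst, comp_mul, whiskerLeft_fst, whiskerLeft_snd_assoc]
  · simp only [Category.assoc, lift_snd, whiskerLeft_snd_assoc]

omit [K.HasIsos] in
theorem rmul_whisker {T' T T'' : Over S} (g : T' ⟶ G) (f : T' ⟶ T'') (h : T'' ⟶ T) :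
    lift (fst G T' * (snd G T' ≫ g)) (snd G T' ≫ f) ≫ (G ◁ h) =
      lift (fst G T' * (snd G T' ≫ g)) (snd G T' ≫ f ≫ h) := by
  apply CartesianMonoidalCategory.hom_ext
  · simp only [Category.assoc, lift_fst, whiskerLeft_fst]
  · simp only [Category.assoc, lift_snd, whiskerLeft_snd, lift_snd_assoc]

end Groth.Agent.Lib.helper4.QuotSt1
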