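import Mathlib
import Groth.Agent.Lib.Helper4.QuotSt1
import Groth.Agent.S12839
set_option autoImplicit false
set_option backward.isDefEq.respectTransparency false
set_option backward.isDefEq.respectTransparency.types false
set_option linter.unusedSimpArgs false
universe u
open CategoryTheory AlgebraicGeometry MonoidalCategory CartesianMonoidalCategory MonObj GrpObj
open AlgSt

/-! Every morphism of the quotient category `[X/G]` is strongly cartesian; trivialisations. -/

namespace Groth.Agent.Lib.helper4.QuotSt2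
open Groth.Agent.S12838 Groth.Agent.Lib.helper4.QuotSt1

variable {S : Scheme.{u}} {K : Precoverage Scheme.{u}} {G : Over S} [GrpObj G] {X : Over S}
  {aX : AlgGrp.Action G X}

/-- the universal property of every morphism of `[X/G]` -/
noncomputable def liftHom {A B C : QuotObj K G aX} (h : B ⟶ A) (h' : C ⟶ A) (g : C.base ⟶ B.base)
    (hg : g ≫ h.base = h'.base) : C ⟶ B :=
  have w : h'.top ≫ A.π = (C.π ≫ g) ≫ h.base := by
    rw [Category.assoc, hg]; exact h'.cart.w
  have h1 : h.cart.lift h'.top (C.π ≫ g) w ≫ h.top = h'.top := h.cart.lift_fst _ _ _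
  have h2 : h.cart.lift h'.top (C.π ≫ g) w ≫ B.π = C.π ≫ g := h.cart.lift_snd _ _ _
  ⟨g, h.cart.lift h'.top (C.π ≫ g) w, by
    apply h.cart.hom_ext
    · rw [Category.assoc, Category.assoc, h1, h'.eqv, h.eqv, ← MonoidalCategory.whiskerLeft_comp_assoc, h1]
    · rw [Category.assoc, Category.assoc, h2, B.cart.w, whiskerLeft_snd_assoc, h2,
        reassoc_of% C.cart.w], by
    refine IsPullback.of_right ?_ h2 h.cart
    rw [h1, hg]
    exact h'.cart, by
    rw [← h.wφ, ← Category.assoc, h1, h'.wφ]⟩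

@[simp] theorem liftHom_base {A B C : QuotObj K G aX} (h : B ⟶ A) (h' : C ⟶ A) (g : C.base ⟶ B.base)
    (hg : g ≫ h.base = h'.base) : (liftHom h h' g hg).base = g := rfl

theorem liftHom_comp {A B C : QuotObj K G aX} (h : B ⟶ A) (h' : C ⟶ A) (g : C.base ⟶ B.base)
    (hg : g ≫ h.base = h'.base) : liftHom h h' g hg ≫ h = h' := by
  apply QuotObj.hom_ext
  · exact hg
  · exact h.cart.lift_fst _ _ _

theorem hom_ext_of_comp {A B C : QuotObj K G aX} (h : B ⟶ A) (k k' : C ⟶ B) (hb : k.base = k'.base)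
    (hk : k ≫ h = k' ≫ h) : k = k' := by
  apply QuotObj.hom_ext hb
  apply h.cart.hom_ext
  · exact congrArg (fun m => m.top) hk
  · rw [k.cart.w, k'.cart.w, hb]

instance isStronglyCartesian {R T : Over S} (f : R ⟶ T) {B A : QuotObj K G aX} (h : B ⟶ A)
    [hh : (QuotSt K G aX).p.IsHomLift f h] : (QuotSt K G aX).p.IsStronglyCartesian f h := by
  subst_hom_lift (QuotSt K G aX).p f h
  refine ⟨fun {C} g h' hh' => ?_⟩
  have hb : g ≫ h.base = h'.base :=
    IsHomLift.fac (QuotSt K G aX).p (g ≫ (QuotSt K G aX).p.map h) h'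
  refine ⟨liftHom h h' g hb, ⟨?_, liftHom_comp h h' g hb⟩, ?_⟩
  · exact IsHomLift.of_fac _ _ _ rfl rfl (by
      rw [eqToHom_refl, eqToHom_refl, Category.id_comp, Category.comp_id]; rfl)
  · rintro k ⟨hk1, hk2⟩
    have hkb : k.base = g := (IsHomLift.fac (QuotSt K G aX).p g k).symm
    apply hom_ext_of_comp h
    · rw [hkb]; rfl
    · rw [hk2, liftHom_comp]

variable [K.HasIsos]

/-- the trivialisation of a torsor given by a section `s : T ⟶ P` -/
noncomputable def triv (A : QuotObj K G aX) {T : Over S} (s : T ⟶ A.P) :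
    (quotMap K G aX).obj (⟨T, ⟨s ≫ A.φ⟩⟩ : (ofSch X).obj) ⟶ A :=
  ⟨s ≫ A.π, (G ◁ s) ≫ A.act.act, Groth.Agent.S12839.triv_eqv A.act s,
    (isPullback_whiskerLeft (G := G) s).paste_horiz A.cart, by
      change ((G ◁ s) ≫ A.act.act) ≫ A.φ = (G ◁ (s ≫ A.φ)) ≫ aX.act
      rw [Category.assoc, A.eqv, MonoidalCategory.whiskerLeft_comp, Category.assoc]⟩

@[simp] theorem triv_base (A : QuotObj K G aX) {T : Over S} (s : T ⟶ A.P) : (triv A s).base = s ≫ A.π := rfl
@[simp] theorem triv_top (A : QuotObj K G aX) {T : Over S} (s : T ⟶ A.P) :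
    (triv A s).top = (G ◁ s) ≫ A.act.act := rfl

omit [K.HasIsos] in
theorem whisker_esec_leftMul (T : Over S) : (G ◁ esec G T) ≫ (leftMul G T).act = 𝟙 (G ⊗ T) := by
  apply CartesianMonoidalCategory.hom_ext
  · simp only [leftMul, esec, Category.assoc, lift_fst, comp_mul, whiskerLeft_fst, whiskerLeft_snd_assoc,
      lift_fst, Category.id_comp]
    have h2 : (toUnit T ≫ η[G]) = (1 : T ⟶ G) := one_eq G T
    rw [h2]
    simp
  · simp only [leftMul, esec, Category.assoc, lift_snd, whiskerLeft_snd_assoc, lift_snd, Category.id_comp,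
      Category.comp_id]

/-- every morphism from a trivial torsor is the trivialisation attached to its unit section -/
theorem top_eq_of_trivial (A : QuotObj K G aX) (a : (ofSch X).obj) (k : (quotMap K G aX).obj a ⟶ A) :
    k.top = (G ◁ (esec G a.base ≫ k.top)) ≫ A.act.act := by
  have h1 : (leftMul G a.base).act ≫ k.top = (G ◁ k.top) ≫ A.act.act := k.eqv
  rw [MonoidalCategory.whiskerLeft_comp, Category.assoc, ← h1, ← Category.assoc, whisker_esec_leftMul,
    Category.id_comp]

theorem esec_top_pi (A : QuotObj K G aX) (a : (ofSch X).obj) (k : (quotMap K G aX).obj a ⟶ A) :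
    (esec G a.base ≫ k.top) ≫ A.π = k.base := by
  have h1 : k.top ≫ A.π = snd G a.base ≫ k.base := k.cart.w
  rw [Category.assoc, h1, esec, lift_snd_assoc, Category.id_comp]

theorem esec_top_phi (A : QuotObj K G aX) (a : (ofSch X).obj) (k : (quotMap K G aX).obj a ⟶ A) :
    (esec G a.base ≫ k.top) ≫ A.φ = a.sec.down := by
  have h1 : k.top ≫ A.φ = (G ◁ a.sec.down) ≫ aX.act := k.wφ
  rw [Category.assoc, h1, act_one]

theorem section_of_triv (A : QuotObj K G aX) {T : Over S} (s : T ⟶ A.P) :
    esec G T ≫ (triv A s).top = s := by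
  rw [triv_top, act_one]

end Groth.Agent.Lib.helper4.QuotSt2
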