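import Mathlib
import Groth.Agent.Lib.Helper4.QuotSt2
set_option autoImplicit false
set_option backward.isDefEq.respectTransparency false
set_option backward.isDefEq.respectTransparency.types false
set_option linter.unusedSimpArgs false
set_option linter.unusedSectionVars false
universe u
open CategoryTheory AlgebraicGeometry MonoidalCategory CartesianMonoidalCategory MonObj GrpObj
open AlgSt

namespace Groth.Agent.Lib.helper4.QuotSt3
open Groth.Agent.S12838 Groth.Agent.Lib.helper4.QuotSt1 Groth.Agent.Lib.helper4.QuotSt2 FibCat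

variable {S : Scheme.{u}} {K : Precoverage Scheme.{u}} [K.HasIsos] {G : Over S} [GrpObj G] {X : Over S}
  {aX : AlgGrp.Action G X} {U : Over S} (y : FibCat.overCat U ⥤ᵇ QuotSt K G aX)

/-- the torsor classified by `y` -/
noncomputable abbrev A₀ : QuotObj K G aX := y.obj (Over.mk (𝟙 U))

theorem hU : (A₀ y).base = U := y.w_obj (Over.mk (𝟙 U))

/-- the structure map of the torsor, to `U` -/
noncomputable def πU : (A₀ y).P ⟶ U := (A₀ y).π ≫ eqToHom (hU y)

/-- the terminal map in the slice -/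
def toTerm (t : Over U) : t ⟶ Over.mk (𝟙 U) := Over.homMk t.hom (by simp)

/-- the cartesian morphism from `y t` to the torsor -/
noncomputable def mt (t : Over U) : y.obj t ⟶ A₀ y := y.map (toTerm t)

instance mt_lift (t : Over U) : (QuotSt K G aX).p.IsHomLift t.hom (mt y t) := by
  have : (overCat U).p.IsHomLift t.hom (toTerm t) := by
    change (overCat U).p.IsHomLift ((overCat U).p.map (toTerm t)) (toTerm t)
    infer_instance
  exact BasedFunctor.preserves_isHomLift y _ _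

instance mt_lift' {T : Over S} (f : T ⟶ U) : (QuotSt K G aX).p.IsHomLift f (mt y (Over.mk f)) :=
  mt_lift y (Over.mk f)

instance triv_lift {T : Over S} (s : T ⟶ (A₀ y).P) :
    (QuotSt K G aX).p.IsHomLift (s ≫ πU y) (triv (A₀ y) s) :=
  IsHomLift.of_fac' _ _ _ rfl (hU y) (by
    change s ≫ (A₀ y).π = _
    simp [πU])

theorem map_mt {t' t : Over U} (m : t' ⟶ t) : y.map m ≫ mt y t = mt y t' := by
  unfold mt
  rw [← y.toFunctor.map_comp]
  congr 1
  apply Over.OverMorphism.ext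
  change m.left ≫ t.hom = t'.hom
  exact Over.w m

/-- the canonical trivialisation of the pull back of the torsor along `s ≫ π` -/
noncomputable def αIso {T : Over S} (s : T ⟶ (A₀ y).P) :
    y.obj (Over.mk (s ≫ πU y)) ≅ (quotMap K G aX).obj (⟨T, ⟨s ≫ (A₀ y).φ⟩⟩ : (ofSch X).obj) :=
  Functor.IsCartesian.domainUniqueUpToIso (QuotSt K G aX).p (s ≫ πU y) (triv (A₀ y) s)
    (mt y (Over.mk (s ≫ πU y)))

theorem αIso_hom_triv {T : Over S} (s : T ⟶ (A₀ y).P) :
    (αIso y s).hom ≫ triv (A₀ y) s = mt y (Over.mk (s ≫ πU y)) :=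
  Functor.IsCartesian.fac (QuotSt K G aX).p (s ≫ πU y) (triv (A₀ y) s) (mt y (Over.mk (s ≫ πU y)))

instance αIso_lift {T : Over S} (s : T ⟶ (A₀ y).P) :
    (QuotSt K G aX).p.IsHomLift (𝟙 T) (αIso y s).hom :=
  Functor.IsCartesian.domainUniqueUpToIso_inv_isHomLift (QuotSt K G aX).p (s ≫ πU y) (triv (A₀ y) s)
    (mt y (Over.mk (s ≫ πU y)))

/-- `P ⟶ U` as a functor to the slice -/
noncomputable def πF : ofSp ((AlgSp.yon S).obj (A₀ y).P) ⥤ᵇ overCat U :=
  BasedFunctor.comp (ofSpMap ((AlgSp.yon S).map (πU y))) (toOverCat U)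

/-- `P ⟶ X` as a functor to the slice -/
noncomputable def φF : ofSp ((AlgSp.yon S).obj (A₀ y).P) ⥤ᵇ overCat X :=
  BasedFunctor.comp (ofSpMap ((AlgSp.yon S).map (A₀ y).φ)) (toOverCat X)

variable (K aX) in
/-- the canonical map `X ⟶ [X/G]` on the slice -/
noncomputable abbrev fQ : overCat X ⥤ᵇ QuotSt K G aX := BasedFunctor.comp (ofOverCat X) (quotMap K G aX)

theorem πF_obj (w : (ofSp ((AlgSp.yon S).obj (A₀ y).P)).obj) :
    (πF y).obj w = Over.mk (w.sec.down ≫ πU y) := rfl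

theorem fQ_φF_obj (w : (ofSp ((AlgSp.yon S).obj (A₀ y).P)).obj) :
    (fQ K aX).obj ((φF y).obj w) =
      (quotMap K G aX).obj (⟨w.base, ⟨w.sec.down ≫ (A₀ y).φ⟩⟩ : (ofSch X).obj) := rfl

theorem πF_map_left {w' w : (ofSp ((AlgSp.yon S).obj (A₀ y).P)).obj} (ψ : w' ⟶ w) :
    ((πF y).map ψ).left = ψ.hom := rfl

theorem φF_map_left {w' w : (ofSp ((AlgSp.yon S).obj (A₀ y).P)).obj} (ψ : w' ⟶ w) :
    ((φF y).map ψ).left = ψ.hom := rfl

/-- pulling back a trivialisation -/
theorem map_triv {T' T : Over S} (h : T' ⟶ T) (s : T ⟶ (A₀ y).P) (s' : T' ⟶ (A₀ y).P) (hs : h ≫ s = s')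
    (m : (⟨T', ⟨s' ≫ (A₀ y).φ⟩⟩ : (ofSch X).obj) ⟶ ⟨T, ⟨s ≫ (A₀ y).φ⟩⟩) (hm : m.hom = h) :
    (quotMap K G aX).map m ≫ triv (A₀ y) s = triv (A₀ y) s' := by
  apply QuotObj.hom_ext
  · rw [QuotObj.comp_base, quotMap_map_base, triv_base, triv_base, hm, ← hs]
    simp only [Category.assoc]
  · rw [QuotObj.comp_top, quotMap_map_top, triv_top, triv_top, hm, ← hs,
      MonoidalCategory.whiskerLeft_comp]
    simp only [Category.assoc]

theorem α_naturality {w' w : (ofSp ((AlgSp.yon S).obj (A₀ y).P)).obj} (ψ : w' ⟶ w) :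
    y.map ((πF y).map ψ) ≫ (αIso y w.sec.down).hom =
      (αIso y w'.sec.down).hom ≫ (fQ K aX).map ((φF y).map ψ) := by
  have hψ : ψ.hom ≫ w.sec.down = w'.sec.down := congrArg ULift.down ψ.map_sec
  have l1 : (QuotSt K G aX).p.IsHomLift ψ.hom (y.map ((πF y).map ψ)) := by
    have : (overCat U).p.IsHomLift ψ.hom ((πF y).map ψ) := by
      change (overCat U).p.IsHomLift ((overCat U).p.map ((πF y).map ψ)) ((πF y).map ψ)
      infer_instance
    exact BasedFunctor.preserves_isHomLift y _ _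
  have l2 : (QuotSt K G aX).p.IsHomLift ψ.hom ((fQ K aX).map ((φF y).map ψ)) := by
    change (QuotSt K G aX).p.IsHomLift ((QuotSt K G aX).p.map ((fQ K aX).map ((φF y).map ψ))) _
    infer_instance
  have l3 : (QuotSt K G aX).p.IsHomLift ψ.hom (y.map ((πF y).map ψ) ≫ (αIso y w.sec.down).hom) :=
    inferInstance
  have l4 : (QuotSt K G aX).p.IsHomLift ψ.hom
      ((αIso y w'.sec.down).hom ≫ (fQ K aX).map ((φF y).map ψ)) := inferInstance
  apply Functor.IsStronglyCartesian.ext (QuotSt K G aX).p (w.sec.down ≫ πU y) (triv (A₀ y) w.sec.down)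
    ψ.hom
  rw [Category.assoc, Category.assoc, αIso_hom_triv]
  have e1 : y.map ((πF y).map ψ) ≫ mt y (Over.mk (w.sec.down ≫ πU y)) =
      mt y (Over.mk (w'.sec.down ≫ πU y)) := map_mt y ((πF y).map ψ)
  rw [e1]
  have e2 : (fQ K aX).map ((φF y).map ψ) ≫ triv (A₀ y) w.sec.down = triv (A₀ y) w'.sec.down :=
    map_triv y ψ.hom w.sec.down w'.sec.down hψ _ rfl
  rw [e2, αIso_hom_triv]

/-- the 2-isomorphism of the square `P ⟶ U`, `P ⟶ X` over `[X/G]` -/
noncomputable def αNat : BasedFunctor.comp (πF y) y ≅ BasedFunctor.comp (φF y) (fQ K aX) :=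
  BasedNatIso.mkNatIso
    (NatIso.ofComponents (fun w => αIso y w.sec.down) (fun ψ => α_naturality y ψ))
    (fun w => αIso_lift y w.sec.down)

theorem αNat_app (w : (ofSp ((AlgSp.yon S).obj (A₀ y).P)).obj) :
    ((FibCat.fpLift (πF y) (φF y) (αNat y)).obj w).obj.iso = αIso y w.sec.down := rfl

theorem base_unique {𝒳 : Type*} [Category 𝒳] {𝒮 : Type*} [Category 𝒮] (p : 𝒳 ⥤ 𝒮) {R T : 𝒮}
    (f f' : R ⟶ T) {a b : 𝒳} (φ : a ⟶ b) [p.IsHomLift f φ] [p.IsHomLift f' φ] : f = f' := by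
  have h1 := IsHomLift.fac' p f φ
  have h2 := IsHomLift.fac' p f' φ
  rw [h1] at h2
  have h3 := congrArg (fun k => eqToHom (IsHomLift.domain_eq p f φ).symm ≫ k ≫
    eqToHom (IsHomLift.codomain_eq p f φ)) h2
  simpa using h3

instance faithful_fpLift : (FibCat.fpLift (πF y) (φF y) (αNat y)).toFunctor.Faithful where
  map_injective {a b} m m' h := by
    apply Stk.EltObj.hom_ext
    have h1 := congrArg (fun k => k.hom.fst.left) h
    exact h1

instance full_fpLift : (FibCat.fpLift (πF y) (φF y) (αNat y)).toFunctor.Full where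
  map_surjective {w' w} n := by
    have hw : y.map n.hom.fst ≫ (αIso y w.sec.down).hom =
        (αIso y w'.sec.down).hom ≫ (fQ K aX).map n.hom.snd := n.hom.w
    have l1 : (QuotSt K G aX).p.IsHomLift n.hom.fst.left (y.map n.hom.fst) := by
      have : (overCat U).p.IsHomLift n.hom.fst.left n.hom.fst := by
        change (overCat U).p.IsHomLift ((overCat U).p.map n.hom.fst) n.hom.fst
        infer_instance
      exact BasedFunctor.preserves_isHomLift y _ _
    have l2 : (QuotSt K G aX).p.IsHomLift n.hom.snd.left ((fQ K aX).map n.hom.snd) := by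
      change (QuotSt K G aX).p.IsHomLift ((QuotSt K G aX).p.map ((fQ K aX).map n.hom.snd)) _
      infer_instance
    have l3 : (QuotSt K G aX).p.IsHomLift n.hom.fst.left
        (y.map n.hom.fst ≫ (αIso y w.sec.down).hom) := inferInstance
    have l4 : (QuotSt K G aX).p.IsHomLift n.hom.snd.left
        ((αIso y w'.sec.down).hom ≫ (fQ K aX).map n.hom.snd) := inferInstance
    have e1 : n.hom.fst.left = n.hom.snd.left := by
      rw [← hw] at l4
      exact base_unique (QuotSt K G aX).p _ _ (y.map n.hom.fst ≫ (αIso y w.sec.down).hom)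
    have e2 : (fQ K aX).map n.hom.snd ≫ triv (A₀ y) w.sec.down = triv (A₀ y) w'.sec.down := by
      rw [← cancel_epi (αIso y w'.sec.down).hom, ← Category.assoc, ← hw, Category.assoc,
        αIso_hom_triv, αIso_hom_triv]
      exact map_mt y n.hom.fst
    have e3 : n.hom.snd.left ≫ w.sec.down = w'.sec.down := by
      have h1 := congrArg (fun k => esec G w'.base ≫ k.top) e2
      simp only [QuotObj.comp_top, triv_top] at h1
      have h2 : ((fQ K aX).map n.hom.snd).top = G ◁ n.hom.snd.left := rfl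
      rw [h2, ← MonoidalCategory.whiskerLeft_comp_assoc, act_one, act_one] at h1
      exact h1
    refine ⟨⟨n.hom.fst.left, congrArg ULift.up (e1 ▸ e3)⟩, ?_⟩
    apply Groth.Agent.Lib.helper4.DiagBC.fp_hom_ext
    · apply Over.OverMorphism.ext
      rfl
    · apply Over.OverMorphism.ext
      exact e1

theorem ess_surj (z : (FibCat.fp y (fQ K aX)).obj) :
    ∃ (ξ : (ofSp ((AlgSp.yon S).obj (A₀ y).P)).obj)
      (e : (FibCat.fpLift (πF y) (φF y) (αNat y)).toFunctor.obj ξ ≅ z),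
      (FibCat.fp y (fQ K aX)).p.IsHomLift (𝟙 ((FibCat.fp y (fQ K aX)).p.obj z)) e.hom := by
  obtain ⟨⟨t, x, iso⟩, hprop⟩ := z
  obtain ⟨T, ⟨⟨⟩⟩, th⟩ := t
  obtain ⟨T', ⟨⟨⟩⟩, xh⟩ := x
  change T ⟶ U at th
  change T' ⟶ X at xh
  have hprop' : (QuotSt K G aX).p.IsHomLift (𝟙 T) iso.hom := hprop
  have hT : T' = T := IsHomLift.codomain_eq (QuotSt K G aX).p (𝟙 T) iso.hom
  subst hT
  let t : Over U := Over.mk th
  let a : (ofSch X).obj := ⟨T', ⟨xh⟩⟩
  have l0 : (QuotSt K G aX).p.IsHomLift (𝟙 T') iso.inv := IsHomLift.lift_id_inv _ _ _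
  let k : (quotMap K G aX).obj a ⟶ A₀ y := iso.inv ≫ mt y t
  have lk : (QuotSt K G aX).p.IsHomLift th k := by
    have : (QuotSt K G aX).p.IsHomLift th (mt y t) := mt_lift y t
    exact IsHomLift.comp_lift_id_left (QuotSt K G aX).p th (mt y t) iso.inv
  let s : T' ⟶ (A₀ y).P := esec G T' ≫ k.top
  have hπ0 : s ≫ (A₀ y).π = k.base := esec_top_pi (A₀ y) a k
  have hkb : k.base ≫ eqToHom (hU y) = th := by
    have := IsHomLift.fac' (QuotSt K G aX).p th k
    change k.base = _ at this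
    rw [this]
    simp
  have hπ : s ≫ πU y = th := by
    unfold πU
    rw [← Category.assoc, hπ0, hkb]
  have hφ : s ≫ (A₀ y).φ = xh := esec_top_phi (A₀ y) a k
  let ξ : (ofSp ((AlgSp.yon S).obj (A₀ y).P)).obj := ⟨T', ⟨s⟩⟩
  let i1 : (πF y).obj ξ ≅ t := Over.isoMk (Iso.refl T') (by
    change 𝟙 T' ≫ th = s ≫ πU y
    rw [Category.id_comp, hπ])
  let i2 : (φF y).obj ξ ≅ (Over.mk xh : Over X) := Over.isoMk (Iso.refl T') (by
    change 𝟙 T' ≫ xh = s ≫ (A₀ y).φ
    rw [Category.id_comp, hφ])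
  have e2 : (fQ K aX).map i2.hom ≫ k = triv (A₀ y) s := by
    apply QuotObj.hom_ext
    · rw [QuotObj.comp_base, triv_base, hπ0]
      change 𝟙 T' ≫ k.base = k.base
      rw [Category.id_comp]
    · rw [QuotObj.comp_top, triv_top]
      change (G ◁ 𝟙 T') ≫ k.top = (G ◁ (esec G T' ≫ k.top)) ≫ (A₀ y).act.act
      rw [MonoidalCategory.whiskerLeft_id, Category.id_comp]
      exact top_eq_of_trivial (A₀ y) a k
  have hw : y.map i1.hom ≫ iso.hom = (αIso y s).hom ≫ (fQ K aX).map i2.hom := by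
    have l1 : (QuotSt K G aX).p.IsHomLift (𝟙 T') (y.map i1.hom) := by
      have : (overCat U).p.IsHomLift (𝟙 T') i1.hom := by
        change (overCat U).p.IsHomLift ((overCat U).p.map i1.hom) i1.hom
        infer_instance
      exact BasedFunctor.preserves_isHomLift y _ _
    have l2 : (QuotSt K G aX).p.IsHomLift (𝟙 T') ((fQ K aX).map i2.hom) := by
      change (QuotSt K G aX).p.IsHomLift ((QuotSt K G aX).p.map ((fQ K aX).map i2.hom)) _
      infer_instance
    have l3 : (QuotSt K G aX).p.IsHomLift (𝟙 T') (y.map i1.hom ≫ iso.hom) := inferInstance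
    have l4 : (QuotSt K G aX).p.IsHomLift (𝟙 T') ((αIso y s).hom ≫ (fQ K aX).map i2.hom) :=
      inferInstance
    apply Functor.IsStronglyCartesian.ext (QuotSt K G aX).p th k (𝟙 T')
    rw [Category.assoc, Category.assoc, e2, αIso_hom_triv]
    change y.map i1.hom ≫ iso.hom ≫ iso.inv ≫ mt y t = _
    rw [Iso.hom_inv_id_assoc]
    exact map_mt y i1.hom
  refine ⟨ξ, Groth.Agent.Lib.helper4.DiagBC.fpIsoMk y (fQ K aX) i1 i2 hw, ?_⟩
  apply Groth.Agent.FibFp.lift_to
  change (overCat U).p.IsHomLift (𝟙 T') i1.hom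
  change (overCat U).p.IsHomLift ((overCat U).p.map i1.hom) i1.hom
  infer_instance

theorem isEquivOver_fpLift : IsEquivOver (FibCat.fpLift (πF y) (φF y) (αNat y)) :=
  Groth.Agent.FibEquiv.isEquivOver_of _ (ess_surj y)

end Groth.Agent.Lib.helper4.QuotSt3
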