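import Mathlib
import Groth.Prelude.Def_AlgSt6

/-!
# Generic facts on group objects acting in a cartesian monoidal category (helper4)

The algebra of trivial torsors `G ⊗ T` in any cartesian monoidal category (used for `Over B`, `B` a sheaf).
-/

set_option backward.isDefEq.respectTransparency false
set_option backward.isDefEq.respectTransparency.types false
set_option autoImplicit false
set_option linter.style.haveILetI false
set_option linter.unusedSectionVars false
set_option linter.unusedVariables false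
set_option linter.unusedSimpArgs false

universe v u

open CategoryTheory CategoryTheory.Limits MonoidalCategory CartesianMonoidalCategory MonObj GrpObj

namespace Groth.Agent.Lib.helper4.SpQuot

variable {C : Type u} [Category.{v} C] [CartesianMonoidalCategory C] {G : C} [GrpObj G]

variable (G) in
/-- the unit section `t ↦ (1, t)` -/
def esec (T : C) : T ⟶ G ⊗ T := lift (toUnit T ≫ η[G]) (𝟙 T)

variable (G) in
/-- left multiplication on the first factor of `G ⊗ T` -/
def lmul (T : C) : G ⊗ (G ⊗ T) ⟶ G ⊗ T :=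
  lift (fst G (G ⊗ T) * (snd G (G ⊗ T) ≫ fst G T)) (snd G (G ⊗ T) ≫ snd G T)

variable (G) in
lemma one_eq (T : C) : toUnit T ≫ η[G] = (1 : T ⟶ G) := by
  rw [Hom.one_def]

@[reassoc (attr := simp)]
lemma esec_snd (T : C) : esec G T ≫ snd G T = 𝟙 T := by
  simp [esec]

lemma esec_fst (T : C) : esec G T ≫ fst G T = 1 := by
  simp [esec, one_eq]

lemma comp_esec {T' T : C} (h : T' ⟶ T) : h ≫ esec G T = esec G T' ≫ (G ◁ h) := by
  apply CartesianMonoidalCategory.hom_ext
  · simp only [esec, Category.assoc, lift_fst, whiskerLeft_fst]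
    rw [← Category.assoc, toUnit_unique (h ≫ toUnit T) (toUnit T')]
  · simp only [esec, Category.assoc, lift_snd, whiskerLeft_snd, lift_snd_assoc, Category.comp_id,
      Category.id_comp]

lemma top_fst {T T' : C} (t : G ⊗ T ⟶ G ⊗ T')
    (heqv : lmul G T ≫ t = (G ◁ t) ≫ lmul G T') :
    t ≫ fst G T' = fst G T * (snd G T ≫ esec G T ≫ t ≫ fst G T') := by
  have hk : lift (fst G T) (snd G T ≫ esec G T) ≫ lmul G T = 𝟙 _ := by
    apply CartesianMonoidalCategory.hom_ext
    · simp only [lmul, esec, Category.assoc, lift_fst, lift_snd, lift_fst_assoc, lift_snd_assoc, comp_lift,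
        comp_mul, Category.id_comp, one_eq, Category.comp_id]
      simp
    · simp only [lmul, esec, Category.assoc, lift_fst, lift_snd, lift_fst_assoc, lift_snd_assoc, comp_lift,
        comp_mul, Category.id_comp, Category.comp_id]
  calc t ≫ fst G T' = (lift (fst G T) (snd G T ≫ esec G T) ≫ lmul G T) ≫ t ≫ fst G T' := by
        rw [hk, Category.id_comp]
    _ = _ := by
        rw [Category.assoc, reassoc_of% heqv]
        simp only [lmul, Category.assoc, lift_fst, lift_snd, lift_fst_assoc, lift_snd_assoc, comp_lift, comp_mul,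
          whiskerLeft_fst, whiskerLeft_snd, whiskerLeft_fst_assoc, whiskerLeft_snd_assoc]

section Action

variable {X : C} (act : G ⊗ X ⟶ X) (h1 : (η[G] ▷ X) ≫ act = (λ_ X).hom)
  (hm : (μ[G] ▷ X) ≫ act = (α_ G G X).hom ≫ (G ◁ act) ≫ act)

include h1 in
lemma act_one {T : C} (x : T ⟶ X) : esec G T ≫ (G ◁ x) ≫ act = x := by
  have h : esec G T ≫ (G ◁ x) = lift (toUnit T) x ≫ (η[G] ▷ X) := by
    apply CartesianMonoidalCategory.hom_ext
    · simp only [esec, Category.assoc, lift_fst, lift_snd, lift_fst_assoc, lift_snd_assoc, whiskerLeft_fst,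
        whiskerLeft_snd, whiskerRight_fst, whiskerRight_snd]
    · simp only [esec, Category.assoc, lift_fst, lift_snd, lift_fst_assoc, lift_snd_assoc, whiskerLeft_fst,
        whiskerLeft_snd, whiskerRight_fst, whiskerRight_snd, Category.id_comp]
  rw [reassoc_of% h, h1, leftUnitor_hom, lift_snd]

include hm in
lemma act_mul {T : C} (a b : T ⟶ G) (y : T ⟶ X) :
    lift (a * b) y ≫ act = lift a (lift b y ≫ act) ≫ act := by
  have hμ : fst (G ⊗ G) X ≫ μ[G] = (fst _ _ ≫ fst G G) * (fst _ _ ≫ snd G G) := by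
    rw [Hom.mul_def, ← comp_lift, lift_fst_snd, Category.comp_id]
  have h1 : lift (a * b) y = lift (lift a b) y ≫ (μ[G] ▷ X) := by
    apply CartesianMonoidalCategory.hom_ext
    · simp only [Category.assoc, lift_fst, lift_snd, lift_fst_assoc, lift_snd_assoc, whiskerRight_fst,
        whiskerRight_snd, hμ, comp_mul]
    · simp only [Category.assoc, lift_fst, lift_snd, lift_fst_assoc, lift_snd_assoc, whiskerRight_fst,
        whiskerRight_snd]
  have h2' : lift (lift a b) y ≫ (α_ G G X).hom = lift a (lift b y) := by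
    apply CartesianMonoidalCategory.hom_ext
    · simp only [Category.assoc, lift_fst, lift_snd, lift_fst_assoc, lift_snd_assoc, associator_hom_fst]
    · apply CartesianMonoidalCategory.hom_ext
      · simp only [Category.assoc, lift_fst, lift_snd, lift_fst_assoc, lift_snd_assoc, associator_hom_snd_fst]
      · simp only [Category.assoc, lift_fst, lift_snd, lift_fst_assoc, lift_snd_assoc, associator_hom_snd_snd]
  have h2 : lift (lift a b) y ≫ (α_ G G X).hom ≫ (G ◁ act) = lift a (lift b y ≫ act) := by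
    rw [reassoc_of% h2']
    apply CartesianMonoidalCategory.hom_ext
    · simp only [Category.assoc, lift_fst, lift_snd, lift_fst_assoc, lift_snd_assoc, whiskerLeft_fst,
        whiskerLeft_snd]
    · simp only [Category.assoc, lift_fst, lift_snd, lift_fst_assoc, lift_snd_assoc, whiskerLeft_fst,
        whiskerLeft_snd]
  rw [h1, Category.assoc, hm, ← h2]
  simp only [Category.assoc]

include h1 in
/-- every equivariant map between trivial torsors compatible with the maps to `X` is a right multiplication -/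
lemma part1 {T T' : C} (f : T ⟶ T') (x : T ⟶ X) (x' : T' ⟶ X)
    (t : G ⊗ T ⟶ G ⊗ T')
    (heqv : lmul G T ≫ t = (G ◁ t) ≫ lmul G T')
    (hsnd : t ≫ snd G T' = snd G T ≫ f)
    (hw : t ≫ (G ◁ x') ≫ act = (G ◁ x) ≫ act) :
    ∃ g : T ⟶ G, lift g (f ≫ x') ≫ act = x ∧
          t = lift (fst G T * (snd G T ≫ g)) (snd G T ≫ f) := by
  have hfst : t ≫ fst G T' = fst G T * (snd G T ≫ esec G T ≫ t ≫ fst G T') :=
    top_fst t heqv
  refine ⟨esec G T ≫ t ≫ fst G T', ?_, ?_⟩
  · have h1' : lift (esec G T ≫ t ≫ fst G T') (f ≫ x') = esec G T ≫ t ≫ (G ◁ x') := by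
      apply CartesianMonoidalCategory.hom_ext
      · simp only [Category.assoc, lift_fst, whiskerLeft_fst]
      · simp only [Category.assoc, lift_snd, whiskerLeft_snd, reassoc_of% hsnd, esec, lift_snd_assoc,
          Category.id_comp]
    rw [h1', Category.assoc, Category.assoc, hw, act_one act h1]
  · apply CartesianMonoidalCategory.hom_ext
    · rw [lift_fst]; exact hfst
    · rw [lift_snd]; exact hsnd

lemma part2_eqv {T T' : C} (f : T ⟶ T') (g : T ⟶ G) :
    lmul G T ≫ lift (fst G T * (snd G T ≫ g)) (snd G T ≫ f) =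
      (G ◁ lift (fst G T * (snd G T ≫ g)) (snd G T ≫ f)) ≫ lmul G T' := by
  apply CartesianMonoidalCategory.hom_ext
  · simp only [lmul, Category.assoc, lift_fst, lift_snd, lift_fst_assoc, lift_snd_assoc, comp_lift, comp_mul,
      whiskerLeft_fst, whiskerLeft_snd, whiskerLeft_fst_assoc, whiskerLeft_snd_assoc]
    rw [_root_.mul_assoc]
  · simp only [lmul, Category.assoc, lift_fst, lift_snd, lift_fst_assoc, lift_snd_assoc, comp_lift, comp_mul,
      whiskerLeft_fst, whiskerLeft_snd, whiskerLeft_fst_assoc, whiskerLeft_snd_assoc]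

/-- right multiplication by `g` on `G ⊗ T` is an isomorphism -/
def rmulIso {T : C} (g : T ⟶ G) : G ⊗ T ≅ G ⊗ T where
  hom := lift (fst G T * (snd G T ≫ g)) (snd G T)
  inv := lift (fst G T * (snd G T ≫ g)⁻¹) (snd G T)
  hom_inv_id := by
    simp only [comp_lift, comp_mul, comp_inv, lift_fst, lift_snd, lift_snd_assoc, mul_inv_cancel_right,
      lift_fst_snd]
  inv_hom_id := by
    simp only [comp_lift, comp_mul, comp_inv, lift_fst, lift_snd, lift_snd_assoc, inv_mul_cancel_right,
      lift_fst_snd]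

lemma rmul_eq {T T' : C} (f : T ⟶ T') (g : T ⟶ G) :
    lift (fst G T * (snd G T ≫ g)) (snd G T ≫ f) = (rmulIso g).hom ≫ (G ◁ f) := by
  apply CartesianMonoidalCategory.hom_ext
  · simp only [rmulIso, Category.assoc, lift_fst, whiskerLeft_fst]
  · simp only [rmulIso, Category.assoc, lift_snd, whiskerLeft_snd, lift_snd_assoc]

include hm in
lemma part2_w {T T' : C} (f : T ⟶ T') (x' : T' ⟶ X) (g : T ⟶ G) :
    lift (fst G T * (snd G T ≫ g)) (snd G T ≫ f) ≫ (G ◁ x') ≫ act =
      (G ◁ (lift g (f ≫ x') ≫ act)) ≫ act := by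
  have h1 : lift (fst G T * (snd G T ≫ g)) (snd G T ≫ f) ≫ (G ◁ x') =
      lift (fst G T * (snd G T ≫ g)) (snd G T ≫ f ≫ x') := by
    apply CartesianMonoidalCategory.hom_ext
    · simp only [Category.assoc, lift_fst, whiskerLeft_fst]
    · simp only [Category.assoc, lift_snd, whiskerLeft_snd, lift_snd_assoc]
  have h2 : (G ◁ (lift g (f ≫ x') ≫ act)) =
      lift (fst G T) (lift (snd G T ≫ g) (snd G T ≫ f ≫ x') ≫ act) := by
    apply CartesianMonoidalCategory.hom_ext
    · simp only [Category.assoc, lift_fst, whiskerLeft_fst]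
    · simp only [Category.assoc, lift_snd, whiskerLeft_snd, comp_lift_assoc]
  rw [reassoc_of% h1, act_mul act hm, h2]

include hm in
lemma triv_eqv {T : C} (s : T ⟶ X) :
    lmul G T ≫ (G ◁ s) ≫ act = (G ◁ ((G ◁ s) ≫ act)) ≫ act := by
  have h1 : lmul G T ≫ (G ◁ s) =
      lift (fst G (G ⊗ T) * (snd G (G ⊗ T) ≫ fst G T)) (snd G (G ⊗ T) ≫ snd G T ≫ s) := by
    apply CartesianMonoidalCategory.hom_ext
    · simp only [lmul, Category.assoc, lift_fst, whiskerLeft_fst]
    · simp only [lmul, Category.assoc, lift_snd, whiskerLeft_snd, lift_snd_assoc]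
  have h2 : (G ◁ ((G ◁ s) ≫ act)) =
      lift (fst G (G ⊗ T)) (lift (snd G (G ⊗ T) ≫ fst G T) (snd G (G ⊗ T) ≫ snd G T ≫ s) ≫ act) := by
    apply CartesianMonoidalCategory.hom_ext
    · simp only [Category.assoc, lift_fst, whiskerLeft_fst]
    · have h3 : snd G (G ⊗ T) ≫ (G ◁ s) = lift (snd G (G ⊗ T) ≫ fst G T) (snd G (G ⊗ T) ≫ snd G T ≫ s) := by
        apply CartesianMonoidalCategory.hom_ext
        · simp only [Category.assoc, lift_fst, whiskerLeft_fst]
        · simp only [Category.assoc, lift_snd, whiskerLeft_snd]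
      simp only [Category.assoc, lift_snd, whiskerLeft_snd]
      rw [reassoc_of% h3]
  rw [reassoc_of% h1, act_mul act hm, h2]

end Action

lemma whisker_esec_lmul (T : C) : (G ◁ esec G T) ≫ lmul G T = 𝟙 (G ⊗ T) := by
  apply CartesianMonoidalCategory.hom_ext
  · simp only [lmul, esec, Category.assoc, lift_fst, comp_mul, whiskerLeft_fst, whiskerLeft_snd_assoc,
      lift_fst, Category.id_comp]
    rw [one_eq]
    simp
  · simp only [lmul, esec, Category.assoc, lift_snd, whiskerLeft_snd_assoc, lift_snd, Category.id_comp,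
      Category.comp_id]

/-- the group element of a right multiplication is determined by the map -/
lemma rmul_elt_eq {T T' : C} (f f' : T ⟶ T') (g g' : T ⟶ G)
    (h : lift (fst G T * (snd G T ≫ g)) (snd G T ≫ f) = lift (fst G T * (snd G T ≫ g')) (snd G T ≫ f')) :
    g = g' := by
  have h1 := congrArg (fun k => esec G T ≫ k ≫ fst G T') h
  simp only [lift_fst, comp_mul, esec, lift_fst, lift_snd_assoc, Category.id_comp] at h1
  rw [one_eq, _root_.one_mul, _root_.one_mul] at h1
  exact h1

lemma whisker_rmul {T' T T'' : C} (h : T' ⟶ T) (g : T ⟶ G) (f : T ⟶ T'') :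
    (G ◁ h) ≫ lift (fst G T * (snd G T ≫ g)) (snd G T ≫ f) =
      lift (fst G T' * (snd G T' ≫ h ≫ g)) (snd G T' ≫ h ≫ f) := by
  apply CartesianMonoidalCategory.hom_ext
  · simp only [Category.assoc, lift_fst, comp_mul, whiskerLeft_fst, whiskerLeft_snd_assoc]
  · simp only [Category.assoc, lift_snd, whiskerLeft_snd_assoc]

lemma rmul_whisker {T' T T'' : C} (g : T' ⟶ G) (f : T' ⟶ T'') (h : T'' ⟶ T) :
    lift (fst G T' * (snd G T' ≫ g)) (snd G T' ≫ f) ≫ (G ◁ h) =
      lift (fst G T' * (snd G T' ≫ g)) (snd G T' ≫ f ≫ h) := by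
  apply CartesianMonoidalCategory.hom_ext
  · simp only [Category.assoc, lift_fst, whiskerLeft_fst]
  · simp only [Category.assoc, lift_snd, whiskerLeft_snd, lift_snd_assoc]

end Groth.Agent.Lib.helper4.SpQuot
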