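import Mathlib
import Groth.Agent.Lib.Helper4.SpQuot1

/-!
# The quotient category `[X/G]` with sheaf torsors: every morphism is strongly cartesian; trivialisations (helper4)
-/

set_option backward.isDefEq.respectTransparency false
set_option backward.isDefEq.respectTransparency.types false
set_option autoImplicit false
set_option linter.style.haveILetI false
set_option linter.unusedSectionVars false
set_option linter.unusedVariables false
set_option linter.unusedSimpArgs false

universe u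

open CategoryTheory CategoryTheory.Limits MonoidalCategory CartesianMonoidalCategory MonObj GrpObj AlgebraicGeometry
open AlgSt

namespace Groth.Agent.Lib.helper4.SpQuot

variable {S : Scheme.{u}} {K : Precoverage Scheme.{u}} {B : AlgSp.Sp S} {G : Over B} [GrpObj G] {X : Over B}
  {aX : AlgSp.GAction G X}

theorem spLeftMul_act (T : Over B) : (spLeftMul G T).act = lmul G T := rfl

theorem bHom_comp' {T T' T'' : Over S} {b : (AlgSp.yon S).obj T ⟶ B} {b' : (AlgSp.yon S).obj T' ⟶ B}
    {b'' : (AlgSp.yon S).obj T'' ⟶ B} (f : T ⟶ T') (g : T' ⟶ T'') (k : T ⟶ T'') (hk : f ≫ g = k)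
    (w : (AlgSp.yon S).map f ≫ b' = b)
    (w' : (AlgSp.yon S).map g ≫ b'' = b') (w'' : (AlgSp.yon S).map k ≫ b'' = b) :
    bHom f w ≫ bHom g w' = bHom k w'' := by
  subst hk
  exact (bHom_comp f g w w' w'').symm

theorem bHom_congr {T T' : Over S} {b : (AlgSp.yon S).obj T ⟶ B} {b' : (AlgSp.yon S).obj T' ⟶ B}
    (f f' : T ⟶ T') (h : f = f') (w : (AlgSp.yon S).map f ≫ b' = b) (w' : (AlgSp.yon S).map f' ≫ b' = b) :
    bHom f w = bHom f' w' := by
  subst h; rfl

/-- the universal property of every morphism of `[X/G]` -/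
noncomputable def liftHom {A A' C : SpQuotObj K G aX} (h : A' ⟶ A) (h' : C ⟶ A) (g : C.base ⟶ A'.base)
    (hg : g ≫ h.base = h'.base) : C ⟶ A' :=
  have wb' : (AlgSp.yon S).map g ≫ A'.b = C.b := by
    rw [← h.wb, ← Category.assoc, ← CategoryTheory.Functor.map_comp, hg, h'.wb]
  have hb : bHom g wb' ≫ bHom h.base h.wb = bHom h'.base h'.wb := bHom_comp' g h.base h'.base hg _ _ _
  have w : h'.top ≫ A.π = (C.π ≫ bHom g wb') ≫ bHom h.base h.wb := by
    rw [Category.assoc, hb]; exact h'.cart.w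
  have h1 : h.cart.lift h'.top (C.π ≫ bHom g wb') w ≫ h.top = h'.top := h.cart.lift_fst _ _ _
  have h2 : h.cart.lift h'.top (C.π ≫ bHom g wb') w ≫ A'.π = C.π ≫ bHom g wb' := h.cart.lift_snd _ _ _
  ⟨g, wb', h.cart.lift h'.top (C.π ≫ bHom g wb') w, by
    apply h.cart.hom_ext
    · rw [Category.assoc, Category.assoc, h1, h'.eqv, h.eqv, ← MonoidalCategory.whiskerLeft_comp_assoc, h1]
    · rw [Category.assoc, Category.assoc, h2, A'.cart.w, whiskerLeft_snd_assoc, h2,
        reassoc_of% C.cart.w], by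
    refine IsPullback.of_right ?_ h2 h.cart
    rw [h1, hb]
    exact h'.cart, by
    rw [← h.wφ, ← Category.assoc, h1, h'.wφ]⟩

@[simp] theorem liftHom_base {A A' C : SpQuotObj K G aX} (h : A' ⟶ A) (h' : C ⟶ A) (g : C.base ⟶ A'.base)
    (hg : g ≫ h.base = h'.base) : (liftHom h h' g hg).base = g := rfl

theorem liftHom_comp {A A' C : SpQuotObj K G aX} (h : A' ⟶ A) (h' : C ⟶ A) (g : C.base ⟶ A'.base)
    (hg : g ≫ h.base = h'.base) : liftHom h h' g hg ≫ h = h' := by
  apply SpQuotObj.hom_ext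
  · exact hg
  · exact h.cart.lift_fst _ _ _

theorem hom_ext_of_comp {A A' C : SpQuotObj K G aX} (h : A' ⟶ A) (k k' : C ⟶ A') (hb : k.base = k'.base)
    (hk : k ≫ h = k' ≫ h) : k = k' := by
  apply SpQuotObj.hom_ext hb
  apply h.cart.hom_ext
  · exact congrArg (fun m => m.top) hk
  · rw [k.cart.w, k'.cart.w]
    congr 1
    exact bHom_congr _ _ hb _ _

instance isStronglyCartesian {R T : Over S} (f : R ⟶ T) {A' A : SpQuotObj K G aX} (h : A' ⟶ A)
    [hh : (SpQuotSt K G aX).p.IsHomLift f h] : (SpQuotSt K G aX).p.IsStronglyCartesian f h := by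
  subst_hom_lift (SpQuotSt K G aX).p f h
  refine ⟨fun {C} g h' hh' => ?_⟩
  have hb : g ≫ h.base = h'.base :=
    IsHomLift.fac (SpQuotSt K G aX).p (g ≫ (SpQuotSt K G aX).p.map h) h'
  refine ⟨liftHom h h' g hb, ⟨?_, liftHom_comp h h' g hb⟩, ?_⟩
  · exact IsHomLift.of_fac _ _ _ rfl rfl (by
      rw [eqToHom_refl, eqToHom_refl, Category.id_comp, Category.comp_id]; rfl)
  · rintro k ⟨hk1, hk2⟩
    have hkb : k.base = g := (IsHomLift.fac (SpQuotSt K G aX).p g k).symm
    apply hom_ext_of_comp h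
    · rw [hkb]; rfl
    · rw [hk2, liftHom_comp]

/-- a morphism of `[X/G]` over an isomorphism is an isomorphism -/
theorem isIso_of_isIso_base {A A' : SpQuotObj K G aX} (h : A ⟶ A') [IsIso h.base] : IsIso h := by
  have hbi : IsIso (bHom h.base h.wb) := by
    have : IsIso ((Over.forget B).map (bHom h.base h.wb)) := by
      change IsIso ((AlgSp.yon S).map h.base)
      infer_instance
    exact isIso_of_reflects_iso _ (Over.forget B)
  have htop : IsIso h.top := h.cart.isIso_fst_of_isIso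
  have heqv : A'.act.act ≫ inv h.top = (G ◁ inv h.top) ≫ A.act.act := by
    rw [IsIso.comp_inv_eq, Category.assoc, h.eqv, ← MonoidalCategory.whiskerLeft_comp_assoc,
      IsIso.inv_hom_id, MonoidalCategory.whiskerLeft_id, Category.id_comp]
  have wb' : (AlgSp.yon S).map (inv h.base) ≫ A.b = A'.b := by
    rw [← h.wb, ← Category.assoc, ← CategoryTheory.Functor.map_comp, IsIso.inv_hom_id,
      CategoryTheory.Functor.map_id, Category.id_comp]
  have hinv : bHom (inv h.base) wb' = inv (bHom h.base h.wb) := by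
    rw [← cancel_mono (bHom h.base h.wb), IsIso.inv_hom_id]
    have w1 : (AlgSp.yon S).map (𝟙 A'.base) ≫ A'.b = A'.b := by
      rw [CategoryTheory.Functor.map_id, Category.id_comp]
    rw [bHom_comp' (inv h.base) h.base (𝟙 _) (IsIso.inv_hom_id _) wb' h.wb w1]
    exact bHom_id _
  have hcart : IsPullback (inv h.top) A'.π A.π (bHom (inv h.base) wb') := by
    rw [hinv]
    refine IsPullback.of_horiz_isIso ⟨?_⟩
    rw [IsIso.inv_comp_eq, ← Category.assoc, IsIso.eq_comp_inv]
    exact h.cart.w.symm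
  have hφ : inv h.top ≫ A.φ = A'.φ := by
    rw [IsIso.inv_comp_eq, h.wφ]
  let k : A' ⟶ A := ⟨inv h.base, wb', inv h.top, heqv, hcart, hφ⟩
  refine ⟨k, ?_, ?_⟩
  · apply SpQuotObj.hom_ext
    · change h.base ≫ inv h.base = 𝟙 _
      simp
    · change h.top ≫ inv h.top = 𝟙 _
      simp
  · apply SpQuotObj.hom_ext
    · change inv h.base ≫ h.base = 𝟙 _
      simp
    · change inv h.top ≫ h.top = 𝟙 _
      simp

end Groth.Agent.Lib.helper4.SpQuot
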