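import Mathlib
import Groth.Agent.Lib.Helper4.SpQuot2
import Groth.Agent.Lib.Helper4.QuotSt3

/-!
# Trivialisations of sheaf torsors (helper4)
-/

set_option backward.isDefEq.respectTransparency false
set_option backward.isDefEq.respectTransparency.types false
set_option autoImplicit false
set_option linter.style.haveILetI false
set_option linter.unusedSectionVars false
set_option linter.unusedVariables false
set_option linter.unusedSimpArgs false

universe u

open CategoryTheory CategoryTheory.Limits MonoidalCategory CartesianMonoidalCategory MonObj GrpObj AlgebraicGeometry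
open AlgSt Opposite

namespace Groth.Agent.Lib.helper4.SpQuot

variable {S : Scheme.{u}}

section SecY

/-- the Yoneda bijection with its universe fixed -/
noncomputable abbrev yEq {T : Over S} {F : AlgSp.Sp S} : ((AlgSp.yon S).obj T ⟶ F) ≃ F.obj.obj (op T) :=
  (AlgSp.J S).uliftYonedaEquiv

/-- a section of a sheaf as a map from the representable sheaf -/
noncomputable abbrev secY {F : AlgSp.Sp S} (w : (ofSp F).obj) : (AlgSp.yon S).obj w.base ⟶ F :=
  ((AlgSp.J S).uliftYonedaEquiv).symm w.sec

theorem secY_map {F F' : AlgSp.Sp S} (g : F ⟶ F') (w : (ofSp F).obj) :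
    secY ((ofSpMap g).obj w) = secY w ≫ g :=
  ((AlgSp.J S).uliftYonedaEquiv_symm_naturality_right w.base g w.sec).symm

theorem secY_comp {F : AlgSp.Sp S} {w' w : (ofSp F).obj} (ψ : w' ⟶ w) :
    (AlgSp.yon S).map ψ.hom ≫ secY w = secY w' := by
  change (AlgSp.J S).uliftYoneda.map ψ.hom ≫ ((AlgSp.J S).uliftYonedaEquiv).symm w.sec = _
  rw [GrothendieckTopology.uliftYonedaEquiv_symm_naturality_left, ψ.map_sec]

theorem secY_yon {U : Over S} (w : (ofSch U).obj) : secY w = (AlgSp.yon S).map w.sec.down := by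
  apply (AlgSp.J S).uliftYonedaEquiv.injective
  rw [Equiv.apply_symm_apply]
  exact ((AlgSp.J S).uliftYonedaEquiv_uliftYoneda_map w.sec.down).symm

/-- the object of `ofSp F` given by a map from a representable sheaf -/
noncomputable def ofSec {F : AlgSp.Sp S} {T : Over S} (s : (AlgSp.yon S).obj T ⟶ F) : (ofSp F).obj :=
  ⟨T, (AlgSp.J S).uliftYonedaEquiv s⟩

@[simp] theorem ofSec_base {F : AlgSp.Sp S} {T : Over S} (s : (AlgSp.yon S).obj T ⟶ F) : (ofSec s).base = T := rfl

theorem secY_ofSec {F : AlgSp.Sp S} {T : Over S} (s : (AlgSp.yon S).obj T ⟶ F) : secY (ofSec s) = s :=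
  Equiv.symm_apply_apply _ _

end SecY

variable {K : Precoverage Scheme.{u}} {B : AlgSp.Sp S} {G : Over B} [GrpObj G] {X : Over B}
  {aX : AlgSp.GAction G X} [K.HasIsos]

/-- the trivialisation of a torsor given by a section -/
noncomputable def triv (A : SpQuotObj K G aX) (a : (ofSp X.left).obj) (s : Over.mk (secYon a ≫ X.hom) ⟶ A.P)
    (hs : s ≫ A.φ = secOver a) : (spQuotMap K G aX).obj a ⟶ A :=
  have wb : (AlgSp.yon S).map ((AlgSp.yon S).preimage (s.left ≫ A.π.left)) ≫ A.b = secYon a ≫ X.hom := by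
    rw [Functor.map_preimage, Category.assoc]
    have h1 : A.π.left ≫ A.b = A.P.hom := Over.w A.π
    rw [h1]
    exact Over.w s
  have hb : bHom ((AlgSp.yon S).preimage (s.left ≫ A.π.left)) wb = s ≫ A.π := by
    apply Over.OverMorphism.ext
    change (AlgSp.yon S).map ((AlgSp.yon S).preimage (s.left ≫ A.π.left)) = s.left ≫ A.π.left
    rw [Functor.map_preimage]
  { base := (AlgSp.yon S).preimage (s.left ≫ A.π.left)
    wb := wb
    top := (G ◁ s) ≫ A.act.act
    eqv := triv_eqv A.act.act A.act.mul_act s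
    cart := by
      rw [hb]
      exact (isPullback_whiskerLeft' (G := G) s).paste_horiz A.cart
    wφ := by
      change ((G ◁ s) ≫ A.act.act) ≫ A.φ = (G ◁ secOver a) ≫ aX.act
      rw [Category.assoc, A.eqv, ← hs, MonoidalCategory.whiskerLeft_comp, Category.assoc] }

@[simp] theorem triv_base (A : SpQuotObj K G aX) (a : (ofSp X.left).obj) (s : Over.mk (secYon a ≫ X.hom) ⟶ A.P)
    (hs : s ≫ A.φ = secOver a) : (triv A a s hs).base = (AlgSp.yon S).preimage (s.left ≫ A.π.left) := rfl

@[simp] theorem triv_top (A : SpQuotObj K G aX) (a : (ofSp X.left).obj) (s : Over.mk (secYon a ≫ X.hom) ⟶ A.P)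
    (hs : s ≫ A.φ = secOver a) : (triv A a s hs).top = (G ◁ s) ≫ A.act.act := rfl

theorem yon_map_triv_base (A : SpQuotObj K G aX) (a : (ofSp X.left).obj)
    (s : Over.mk (secYon a ≫ X.hom) ⟶ A.P) (hs : s ≫ A.φ = secOver a) :
    (AlgSp.yon S).map (triv A a s hs).base = s.left ≫ A.π.left := by
  rw [triv_base, Functor.map_preimage]

/-- the point of `X` below a point of the torsor -/
noncomputable abbrev aW (A : SpQuotObj K G aX) (w : (ofSp A.P.left).obj) : (ofSp X.left).obj :=
  (ofSpMap A.φ.left).obj w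

theorem secYon_aW (A : SpQuotObj K G aX) (w : (ofSp A.P.left).obj) : secYon (aW A w) = secY w ≫ A.φ.left :=
  secY_map A.φ.left w

/-- a point of the torsor as a morphism over `B` -/
noncomputable def sW (A : SpQuotObj K G aX) (w : (ofSp A.P.left).obj) :
    Over.mk (secYon (aW A w) ≫ X.hom) ⟶ A.P :=
  Over.homMk (secY w) (by
    change secY w ≫ A.P.hom = secYon (aW A w) ≫ X.hom
    rw [secYon_aW, Category.assoc, Over.w A.φ])

@[simp] theorem sW_left (A : SpQuotObj K G aX) (w : (ofSp A.P.left).obj) : (sW A w).left = secY w := rfl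

theorem sW_φ (A : SpQuotObj K G aX) (w : (ofSp A.P.left).obj) : sW A w ≫ A.φ = secOver (aW A w) := by
  apply Over.OverMorphism.ext
  change secY w ≫ A.φ.left = secYon (aW A w)
  rw [secYon_aW]

/-- the trivialisation attached to a point of the torsor -/
noncomputable def trivW (A : SpQuotObj K G aX) (w : (ofSp A.P.left).obj) :
    (spQuotMap K G aX).obj (aW A w) ⟶ A :=
  triv A (aW A w) (sW A w) (sW_φ A w)

theorem yon_map_trivW_base (A : SpQuotObj K G aX) (w : (ofSp A.P.left).obj) :
    (AlgSp.yon S).map (trivW A w).base = secY w ≫ A.π.left :=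
  yon_map_triv_base A _ _ _

theorem trivW_top (A : SpQuotObj K G aX) (w : (ofSp A.P.left).obj) :
    (trivW A w).top = (G ◁ sW A w) ≫ A.act.act := rfl

theorem spQuotMap_map_top {a b : (ofSp X.left).obj} (ψ : a ⟶ b) :
    ((spQuotMap K G aX).map ψ).top = G ◁ bHom ψ.hom (show (AlgSp.yon S).map ψ.hom ≫ secYon b ≫ X.hom =
      secYon a ≫ X.hom by rw [← Category.assoc, secYon_comp]) := rfl

theorem spQuotMap_map_base {a b : (ofSp X.left).obj} (ψ : a ⟶ b) :
    ((spQuotMap K G aX).map ψ).base = ψ.hom := rfl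

/-- pulling back a trivialisation -/
theorem map_trivW (A : SpQuotObj K G aX) {w' w : (ofSp A.P.left).obj} (ψ : w' ⟶ w) :
    (spQuotMap K G aX).map ((ofSpMap A.φ.left).map ψ) ≫ trivW A w = trivW A w' := by
  apply SpQuotObj.hom_ext
  · apply (AlgSp.yon S).map_injective
    rw [SpQuotObj.comp_base, Functor.map_comp, yon_map_trivW_base, yon_map_trivW_base, spQuotMap_map_base,
      ← Category.assoc]
    congr 1
    exact secY_comp ψ
  · rw [SpQuotObj.comp_top, trivW_top, trivW_top, spQuotMap_map_top, ← MonoidalCategory.whiskerLeft_comp_assoc]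
    congr 2
    apply Over.OverMorphism.ext
    exact secY_comp ψ

end Groth.Agent.Lib.helper4.SpQuot
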