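import Mathlib
import Groth.Agent.Lib.Helper4.SpQuot3
import Groth.Agent.Lib.Helper5.AlgSpInf2

/-!
# Generalized elements of fppf sheaves (helper4)

Tools for arguing with maps `h_T ⟶ F` from representable sheaves: extensionality, separation and gluing along covering
sieves, construction of morphisms, isomorphisms and pullback squares from their values on such points.
-/

set_option backward.isDefEq.respectTransparency false
set_option backward.isDefEq.respectTransparency.types false
set_option autoImplicit false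
set_option linter.style.haveILetI false
set_option linter.unusedSectionVars false
set_option linter.unusedVariables false
set_option linter.unusedSimpArgs false

universe u

open CategoryTheory CategoryTheory.Limits AlgebraicGeometry Opposite

namespace Groth.Agent.Lib.helper4.SpYon

open AlgSp Groth.Agent.Lib.helper4.SpQuot

variable {S : Scheme.{u}}

theorem hom_ext_yon {F G : Sp S} (l l' : F ⟶ G)
    (h : ∀ (T : Over S) (s : (yon S).obj T ⟶ F), s ≫ l = s ≫ l') : l = l' :=
  Groth.Agent.Lib.helper5.hom_ext_yon l l' h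

theorem yon_hom_ext_of_cover {G : Sp S} {T : Over S} (m m' : (yon S).obj T ⟶ G) (R : Sieve T)
    (hR : R ∈ (AlgSp.J S) T)
    (h : ∀ ⦃T' : Over S⦄ (t : T' ⟶ T), R t → (yon S).map t ≫ m = (yon S).map t ≫ m') :
    m = m' :=
  Groth.Agent.Lib.helper5.yon_hom_ext_of_cover m m' R hR h

theorem yEq_map_comp {G : Sp S} {T' T : Over S} (k : T' ⟶ T) (m : (yon S).obj T ⟶ G) :
    yEq ((yon S).map k ≫ m) = G.obj.map k.op (yEq m) :=
  ((AlgSp.J S).uliftYonedaEquiv_naturality m k).symm

/-- gluing of maps from representable sheaves along a covering sieve -/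
theorem yon_glue {G : Sp S} {T : Over S} (R : Sieve T) (hR : R ∈ (AlgSp.J S) T)
    (m : ∀ ⦃T' : Over S⦄ (t : T' ⟶ T), R t → ((yon S).obj T' ⟶ G))
    (hm : ∀ ⦃T' T'' : Over S⦄ (t : T' ⟶ T) (ht : R t) (k : T'' ⟶ T'),
      (yon S).map k ≫ m t ht = m (k ≫ t) (R.downward_closed ht k)) :
    ∃ m' : (yon S).obj T ⟶ G, ∀ ⦃T' : Over S⦄ (t : T' ⟶ T) (ht : R t), (yon S).map t ≫ m' = m t ht := by
  have hG : Presieve.IsSheafFor G.obj (R : Presieve T) :=
    ((isSheaf_iff_isSheaf_of_type _ _).1 G.property) R hR
  let x : Presieve.FamilyOfElements G.obj (R : Presieve T) := fun T' t ht => yEq (m t ht)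
  have hx : x.Compatible := by
    rw [Presieve.compatible_iff_sieveCompatible]
    intro T' T'' t k ht
    change yEq (m (k ≫ t) _) = G.obj.map k.op (yEq (m t ht))
    rw [← yEq_map_comp, hm t ht k]
  obtain ⟨a, ha, -⟩ := hG x hx
  refine ⟨yEq.symm a, fun T' t ht => ?_⟩
  apply yEq.injective
  rw [yEq_map_comp, Equiv.apply_symm_apply]
  exact ha t ht

/-- a morphism of sheaves from a natural family of maps on generalized points -/
noncomputable def homOfYon {F G : Sp S}
    (φ : ∀ (T : Over S), ((yon S).obj T ⟶ F) → ((yon S).obj T ⟶ G))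
    (hφ : ∀ ⦃T' T : Over S⦄ (k : T' ⟶ T) (s : (yon S).obj T ⟶ F),
      (yon S).map k ≫ φ T s = φ T' ((yon S).map k ≫ s)) : F ⟶ G :=
  ObjectProperty.homMk
    { app := fun T => ↾fun x => yEq (φ T.unop (yEq.symm x))
      naturality := fun T T' g => by
        ext x
        change yEq (φ T'.unop (yEq.symm (F.obj.map g x))) = G.obj.map g (yEq (φ T.unop (yEq.symm x)))
        have h1 : yEq.symm (F.obj.map g x) = (yon S).map g.unop ≫ yEq.symm x :=
          ((AlgSp.J S).uliftYonedaEquiv_symm_naturality_left g.unop F x).symm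
        rw [h1, ← hφ g.unop (yEq.symm x)]
        exact yEq_map_comp g.unop _ }

theorem comp_homOfYon {F G : Sp S}
    (φ : ∀ (T : Over S), ((yon S).obj T ⟶ F) → ((yon S).obj T ⟶ G))
    (hφ : ∀ ⦃T' T : Over S⦄ (k : T' ⟶ T) (s : (yon S).obj T ⟶ F),
      (yon S).map k ≫ φ T s = φ T' ((yon S).map k ≫ s)) {T : Over S} (s : (yon S).obj T ⟶ F) :
    s ≫ homOfYon φ hφ = φ T s := by
  apply yEq.injective
  rw [(AlgSp.J S).uliftYonedaEquiv_comp]
  change yEq (φ T (yEq.symm (yEq s))) = _
  rw [Equiv.symm_apply_apply]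

/-- a morphism of sheaves which is bijective on generalized points is an isomorphism -/
theorem isIso_of_yon_bijective {F G : Sp S} (f : F ⟶ G)
    (h : ∀ T : Over S, Function.Bijective (fun s : (yon S).obj T ⟶ F => s ≫ f)) : IsIso f := by
  choose ψ hψ using fun T => (h T).2
  have hψ' : ∀ T (s : (yon S).obj T ⟶ G), ψ T s ≫ f = s := hψ
  let g : G ⟶ F := homOfYon ψ (fun T' T k s => by
    apply (h T').1
    change ((yon S).map k ≫ ψ T s) ≫ f = ψ T' ((yon S).map k ≫ s) ≫ f
    rw [Category.assoc, hψ', hψ'])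
  refine ⟨g, ?_, ?_⟩
  · apply hom_ext_yon
    intro T s
    rw [Category.comp_id, ← Category.assoc, comp_homOfYon]
    apply (h T).1
    change ψ T (s ≫ f) ≫ f = s ≫ f
    rw [hψ']
  · apply hom_ext_yon
    intro T s
    rw [Category.comp_id, ← Category.assoc, comp_homOfYon, hψ']

/-- a commutative square of sheaves which is cartesian on generalized points is cartesian -/
theorem isPullback_of_yon {P X Y Z : Sp S} {fst : P ⟶ X} {snd : P ⟶ Y} {f : X ⟶ Z} {g : Y ⟶ Z}
    (w : fst ≫ f = snd ≫ g)
    (hex : ∀ (T : Over S) (a : (yon S).obj T ⟶ X) (b : (yon S).obj T ⟶ Y), a ≫ f = b ≫ g →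
      ∃ l : (yon S).obj T ⟶ P, l ≫ fst = a ∧ l ≫ snd = b)
    (huniq : ∀ (T : Over S) (l l' : (yon S).obj T ⟶ P), l ≫ fst = l' ≫ fst → l ≫ snd = l' ≫ snd → l = l') :
    IsPullback fst snd f g := by
  let c : P ⟶ pullback f g := pullback.lift fst snd w
  have hc : IsIso c := by
    apply isIso_of_yon_bijective
    intro T
    constructor
    · intro l l' hll
      have hll' : l ≫ c = l' ≫ c := hll
      apply huniq T
      · have := congrArg (fun k => k ≫ pullback.fst f g) hll'
        simpa [c] using this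
      · have := congrArg (fun k => k ≫ pullback.snd f g) hll'
        simpa [c] using this
    · intro s
      obtain ⟨l, h1, h2⟩ := hex T (s ≫ pullback.fst f g) (s ≫ pullback.snd f g) (by
        rw [Category.assoc, Category.assoc, pullback.condition])
      refine ⟨l, ?_⟩
      change l ≫ c = s
      apply pullback.hom_ext
      · rw [Category.assoc, pullback.lift_fst, h1]
      · rw [Category.assoc, pullback.lift_snd, h2]
  exact IsPullback.of_iso_pullback ⟨w⟩ (asIso c) (by simp [c]) (by simp [c])

end Groth.Agent.Lib.helper4.SpYon
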