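import Mathlib
import Groth.Agent.Lib.Helper4.SpYon

/-!
# Maps out of a sheaf over `h_V` are determined by, and can be defined on, the points lying over a covering sieve (helper4)
-/

set_option backward.isDefEq.respectTransparency false
set_option backward.isDefEq.respectTransparency.types false
set_option autoImplicit false
set_option linter.style.haveILetI false
set_option linter.unusedSectionVars false
set_option linter.unusedVariables false
set_option linter.unusedSimpArgs false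

universe u

open CategoryTheory CategoryTheory.Limits AlgebraicGeometry Opposite

namespace Groth.Agent.Lib.helper4.SpYon

open AlgSp Groth.Agent.Lib.helper4.SpQuot

variable {S : Scheme.{u}} {F Z : Sp S} {V : Over S} (ϖ : F ⟶ (yon S).obj V) (R : Sieve V)
  (hR : R ∈ (AlgSp.J S) V)

include hR in
/-- two maps out of `F` which agree on the points lying over a covering sieve of `V` are equal -/
theorem hom_ext_over_sieve (m m' : F ⟶ Z)
    (h : ∀ ⦃T' : Over S⦄ (f : T' ⟶ V), R f → ∀ p : (yon S).obj T' ⟶ F, p ≫ ϖ = (yon S).map f →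
      p ≫ m = p ≫ m') : m = m' := by
  apply hom_ext_yon
  intro T s
  obtain ⟨t, ht⟩ := (yon S).map_surjective (s ≫ ϖ)
  apply yon_hom_ext_of_cover _ _ (R.pullback t) ((AlgSp.J S).pullback_stable t hR)
  intro T' k hk
  rw [← Category.assoc, ← Category.assoc]
  exact h (k ≫ t) hk ((yon S).map k ≫ s) (by rw [Category.assoc, ← ht, Functor.map_comp])

include hR in
/-- a natural family of values on the points lying over a covering sieve of `V` defines a map out of `F` -/
theorem exists_hom_over_sieve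
    (M : ∀ ⦃T' : Over S⦄ (f : T' ⟶ V), R f → ∀ p : (yon S).obj T' ⟶ F, p ≫ ϖ = (yon S).map f →
      ((yon S).obj T' ⟶ Z))
    (hM : ∀ ⦃T' T'' : Over S⦄ (f : T' ⟶ V) (hf : R f) (p : (yon S).obj T' ⟶ F)
      (hp : p ≫ ϖ = (yon S).map f) (k : T'' ⟶ T') (f' : T'' ⟶ V) (hf' : R f') (hk : k ≫ f = f')
      (hp' : ((yon S).map k ≫ p) ≫ ϖ = (yon S).map f'),
      M f' hf' ((yon S).map k ≫ p) hp' = (yon S).map k ≫ M f hf p hp) :
    ∃ m : F ⟶ Z, ∀ ⦃T' : Over S⦄ (f : T' ⟶ V) (hf : R f) (p : (yon S).obj T' ⟶ F)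
      (hp : p ≫ ϖ = (yon S).map f), p ≫ m = M f hf p hp := by
  -- the value on an arbitrary point
  have key : ∀ (T : Over S) (s : (yon S).obj T ⟶ F), ∃ z : (yon S).obj T ⟶ Z,
      ∀ ⦃T' : Over S⦄ (k : T' ⟶ T) (f : T' ⟶ V) (hf : R f)
        (hp : ((yon S).map k ≫ s) ≫ ϖ = (yon S).map f), (yon S).map k ≫ z = M f hf ((yon S).map k ≫ s) hp := by
    intro T s
    obtain ⟨t, ht⟩ := (yon S).map_surjective (s ≫ ϖ)
    have hpk : ∀ ⦃T' : Over S⦄ (k : T' ⟶ T), ((yon S).map k ≫ s) ≫ ϖ = (yon S).map (k ≫ t) := by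
      intro T' k
      rw [Category.assoc, ← ht, Functor.map_comp]
    obtain ⟨z, hz⟩ := yon_glue (R.pullback t) ((AlgSp.J S).pullback_stable t hR)
      (fun T' k hk => M (k ≫ t) hk ((yon S).map k ≫ s) (hpk k)) (by
        intro T' T'' k hk k'
        have e : (yon S).map (k' ≫ k) ≫ s = (yon S).map k' ≫ (yon S).map k ≫ s := by
          rw [Functor.map_comp, Category.assoc]
        have h1 := hM (k ≫ t) hk ((yon S).map k ≫ s) (hpk k) k' ((k' ≫ k) ≫ t)
          ((R.pullback t).downward_closed hk k') (by rw [Category.assoc]) (by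
            rw [← e]; exact hpk (k' ≫ k))
        rw [← h1]
        congr 1)
    refine ⟨z, ?_⟩
    intro T' k f hf hp
    have hf' : f = k ≫ t := by
      apply (yon S).map_injective
      rw [← hp, hpk]
    subst hf'
    exact hz k hf
  choose φ hφ using key
  have hφ_uniq : ∀ (T : Over S) (s : (yon S).obj T ⟶ F) (z : (yon S).obj T ⟶ Z),
      (∀ ⦃T' : Over S⦄ (k : T' ⟶ T) (f : T' ⟶ V) (hf : R f)
        (hp : ((yon S).map k ≫ s) ≫ ϖ = (yon S).map f),
        (yon S).map k ≫ z = M f hf ((yon S).map k ≫ s) hp) → z = φ T s := by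
    intro T s z hz
    obtain ⟨t, ht⟩ := (yon S).map_surjective (s ≫ ϖ)
    apply yon_hom_ext_of_cover _ _ (R.pullback t) ((AlgSp.J S).pullback_stable t hR)
    intro T' k hk
    have hp : ((yon S).map k ≫ s) ≫ ϖ = (yon S).map (k ≫ t) := by
      rw [Category.assoc, ← ht, Functor.map_comp]
    rw [hz k (k ≫ t) hk hp, hφ T s k (k ≫ t) hk hp]
  refine ⟨homOfYon φ ?_, ?_⟩
  · intro T₁ T h s
    apply hφ_uniq
    intro T' k f hf hp
    have e : (yon S).map k ≫ (yon S).map h ≫ s = (yon S).map (k ≫ h) ≫ s := by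
      rw [Functor.map_comp, Category.assoc]
    have hp' : ((yon S).map (k ≫ h) ≫ s) ≫ ϖ = (yon S).map f := by rw [← e]; exact hp
    have h1 := hφ T s (k ≫ h) f hf hp'
    rw [← Category.assoc, ← Functor.map_comp, h1]
    congr 1
  · intro T' f hf p hp
    rw [comp_homOfYon]
    have e : (yon S).map (𝟙 T') ≫ p = p := by
      rw [CategoryTheory.Functor.map_id, Category.id_comp]
    have h1 := hφ T' p (𝟙 T') f hf (by rw [e]; exact hp)
    have h2 : (yon S).map (𝟙 T') ≫ φ T' p = φ T' p := by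
      rw [CategoryTheory.Functor.map_id, Category.id_comp]
    rw [← h2, h1]
    congr 1

omit ϖ R hR in
/-- a commutative square of sheaves in which pairs of points lift uniquely, locally, is cartesian -/
theorem isPullback_of_yon_local {P X Y Z : Sp S} {fst : P ⟶ X} {snd : P ⟶ Y} {f : X ⟶ Z} {g : Y ⟶ Z}
    (w : fst ≫ f = snd ≫ g)
    (hex : ∀ (T : Over S) (a : (yon S).obj T ⟶ X) (b : (yon S).obj T ⟶ Y), a ≫ f = b ≫ g →
      ∃ Rc : Sieve T, Rc ∈ (AlgSp.J S) T ∧ ∀ ⦃T' : Over S⦄ (k : T' ⟶ T), Rc k →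
        ∃ l : (yon S).obj T' ⟶ P, l ≫ fst = (yon S).map k ≫ a ∧ l ≫ snd = (yon S).map k ≫ b)
    (huniq : ∀ (T : Over S) (l l' : (yon S).obj T ⟶ P), l ≫ fst = l' ≫ fst → l ≫ snd = l' ≫ snd → l = l') :
    IsPullback fst snd f g := by
  refine isPullback_of_yon w ?_ huniq
  intro T a b hab
  obtain ⟨Rc, hRc, hl⟩ := hex T a b hab
  choose l hl1 hl2 using hl
  obtain ⟨m, hm⟩ := yon_glue Rc hRc l (by
    intro T' T'' k hk k'
    apply huniq
    · rw [Category.assoc, hl1, hl1, Functor.map_comp, Category.assoc]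
    · rw [Category.assoc, hl2, hl2, Functor.map_comp, Category.assoc])
  refine ⟨m, ?_, ?_⟩
  · apply yon_hom_ext_of_cover _ _ Rc hRc
    intro T' k hk
    rw [← Category.assoc, hm k hk, hl1]
  · apply yon_hom_ext_of_cover _ _ Rc hRc
    intro T' k hk
    rw [← Category.assoc, hm k hk, hl2]

end Groth.Agent.Lib.helper4.SpYon
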