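import Mathlib
import Groth.Agent.Lib.Helper4.SpYon2

/-!
# Gluing sheaves over representables along a sieve: the presheaf of local points (helper4)

For a sieve `R` on `U` (a scheme over `S`), a functor `Qd` from the category of the sieve to fppf sheaves with an equifibered
family of maps `ϖ s : Qd.obj s ⟶ h_{s}`: the presheaf `Ppre` whose sections over `T` are the pairs of an arrow `t : T ⟶ U` of the
sieve and a section of `Qd (t)` over `T`.
-/

set_option backward.isDefEq.respectTransparency false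
set_option backward.isDefEq.respectTransparency.types false
set_option autoImplicit false
set_option linter.style.haveILetI false
set_option linter.unusedSectionVars false
set_option linter.unusedVariables false
set_option linter.unusedSimpArgs false

universe u

open CategoryTheory CategoryTheory.Limits AlgebraicGeometry Opposite

namespace Groth.Agent.Lib.helper4.ShGlue

open AlgSp Groth.Agent.Lib.helper4.SpQuot Groth.Agent.Lib.helper4.SpYon

variable {S : Scheme.{u}} {U : Over S} {R : Sieve U}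

/-- the object of the sieve category given by an arrow of the sieve -/
abbrev sOf {T : Over S} (t : T ⟶ U) (ht : R t) : R.arrows.category := Presieve.categoryMk R.arrows t ht

/-- the morphism of the sieve category given by a morphism to the source of an object -/
def mTo {T₁ : Over S} (s : R.arrows.category) (j : T₁ ⟶ s.obj.left) (t₁ : T₁ ⟶ U) (ht₁ : R t₁)
    (e : j ≫ s.obj.hom = t₁) : sOf t₁ ht₁ ⟶ s :=
  ObjectProperty.homMk (Over.homMk j e)

@[simp] theorem mTo_left {T₁ : Over S} (s : R.arrows.category) (j : T₁ ⟶ s.obj.left) (t₁ : T₁ ⟶ U) (ht₁ : R t₁)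
    (e : j ≫ s.obj.hom = t₁) : (mTo s j t₁ ht₁ e).hom.left = j := rfl

theorem sieve_hom_ext {s s' : R.arrows.category} (a b : s ⟶ s') (h : a.hom.left = b.hom.left) : a = b := by
  apply ObjectProperty.hom_ext
  apply Over.OverMorphism.ext
  exact h

theorem sieve_hom_w {s s' : R.arrows.category} (a : s ⟶ s') : a.hom.left ≫ s'.obj.hom = s.obj.hom := Over.w a.hom

variable (Qd : R.arrows.category ⥤ Sp S) (ϖ : ∀ s : R.arrows.category, Qd.obj s ⟶ (yon S).obj s.obj.left)

/-- a local point: an arrow of the sieve and a section over it -/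
structure PreEl (T : Over S) where
  t : T ⟶ U
  ht : R t
  p : (yon S).obj T ⟶ Qd.obj (sOf t ht)
  hp : p ≫ ϖ (sOf t ht) = 𝟙 _

variable {Qd ϖ}

theorem PreEl.ext' {T : Over S} (x y : PreEl Qd ϖ T) (e : x.t = y.t)
    (h : x.p ≫ Qd.map (mTo (sOf y.t y.ht) (𝟙 T) x.t x.ht ((Category.id_comp _).trans e.symm)) = y.p) :
    x = y := by
  obtain ⟨t, ht, p, hp⟩ := x
  obtain ⟨t', ht', p', hp'⟩ := y
  dsimp only at e
  subst e
  have h1 : mTo (sOf t ht) (𝟙 T) t ht (Category.id_comp _) = 𝟙 (sOf t ht) := by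
    apply sieve_hom_ext
    rfl
  dsimp only at h
  rw [h1, CategoryTheory.Functor.map_id, Category.comp_id] at h
  rw [PreEl.mk.injEq]
  exact ⟨rfl, heq_of_eq h⟩

theorem PreEl.map_congr {T : Over S} (x y : PreEl Qd ϖ T) (e : x = y) (s : R.arrows.category)
    (a : sOf x.t x.ht ⟶ s) (b : sOf y.t y.ht ⟶ s) (h : a.hom.left = b.hom.left) :
    x.p ≫ Qd.map a = y.p ≫ Qd.map b := by
  subst e
  rw [sieve_hom_ext a b h]

variable (hcart : ∀ {s s' : R.arrows.category} (k : s ⟶ s'),
  IsPullback (Qd.map k) (ϖ s) (ϖ s') ((yon S).map k.hom.left))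

include hcart in
/-- local points are determined by their image in any member of the diagram -/
theorem PreEl.ext_of_map {T : Over S} (x y : PreEl Qd ϖ T) (s : R.arrows.category)
    (a : sOf x.t x.ht ⟶ s) (b : sOf y.t y.ht ⟶ s) (h : a.hom.left = b.hom.left)
    (hp : x.p ≫ Qd.map a = y.p ≫ Qd.map b) : x = y := by
  have e : x.t = y.t := by
    have h1 := sieve_hom_w a
    have h2 := sieve_hom_w b
    change a.hom.left ≫ s.obj.hom = x.t at h1
    change b.hom.left ≫ s.obj.hom = y.t at h2
    rw [← h1, ← h2, h]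
  apply PreEl.ext' x y e
  apply (hcart b).hom_ext
  · rw [Category.assoc, ← CategoryTheory.Functor.map_comp, ← hp]
    congr 2
    apply sieve_hom_ext
    change 𝟙 T ≫ b.hom.left = a.hom.left
    rw [Category.id_comp, h]
  · rw [Category.assoc, (hcart _).w, ← Category.assoc, x.hp, y.hp]
    change 𝟙 _ ≫ (yon S).map (𝟙 T) = 𝟙 _
    rw [CategoryTheory.Functor.map_id, Category.id_comp]

/-- restriction of local points -/
noncomputable def PreEl.res {T₁ T : Over S} (j : T₁ ⟶ T) (x : PreEl Qd ϖ T) : PreEl Qd ϖ T₁ where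
  t := j ≫ x.t
  ht := R.downward_closed x.ht j
  p := (hcart (mTo (sOf x.t x.ht) j (j ≫ x.t) (R.downward_closed x.ht j) rfl)).lift ((yon S).map j ≫ x.p) (𝟙 _) (by
    rw [Category.assoc, x.hp, Category.comp_id, Category.id_comp]
    rfl)
  hp := (hcart _).lift_snd _ _ _

/-- the morphism of the sieve category under a restriction -/
abbrev PreEl.mRes {T₁ T : Over S} (j : T₁ ⟶ T) (x : PreEl Qd ϖ T) :
    sOf (PreEl.res hcart j x).t (PreEl.res hcart j x).ht ⟶ sOf x.t x.ht :=
  mTo (sOf x.t x.ht) j (j ≫ x.t) (R.downward_closed x.ht j) rfl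

theorem PreEl.res_p {T₁ T : Over S} (j : T₁ ⟶ T) (x : PreEl Qd ϖ T) :
    (PreEl.res hcart j x).p ≫ Qd.map (PreEl.mRes hcart j x) = (yon S).map j ≫ x.p :=
  (hcart _).lift_fst _ _ _

theorem PreEl.res_id {T : Over S} (x : PreEl Qd ϖ T) : PreEl.res hcart (𝟙 T) x = x := by
  apply PreEl.ext_of_map hcart (PreEl.res hcart (𝟙 T) x) x (sOf x.t x.ht) (PreEl.mRes hcart (𝟙 T) x) (𝟙 _) rfl
  rw [PreEl.res_p, CategoryTheory.Functor.map_id, Category.id_comp, CategoryTheory.Functor.map_id, Category.comp_id]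

theorem PreEl.res_comp {T₂ T₁ T : Over S} (j' : T₂ ⟶ T₁) (j : T₁ ⟶ T) (x : PreEl Qd ϖ T) :
    PreEl.res hcart (j' ≫ j) x = PreEl.res hcart j' (PreEl.res hcart j x) := by
  apply PreEl.ext_of_map hcart (PreEl.res hcart (j' ≫ j) x) (PreEl.res hcart j' (PreEl.res hcart j x)) (sOf x.t x.ht)
    (PreEl.mRes hcart (j' ≫ j) x) (PreEl.mRes hcart j' (PreEl.res hcart j x) ≫ PreEl.mRes hcart j x) rfl
  have h1 := PreEl.res_p hcart j' (PreEl.res hcart j x)
  have h2 := PreEl.res_p hcart j x
  have h3 := PreEl.res_p hcart (j' ≫ j) x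
  rw [h3, Qd.map_comp, ← Category.assoc, h1, Category.assoc, h2, (yon S).map_comp, Category.assoc]

/-- the presheaf of local points -/
noncomputable def Ppre : (Over S)ᵒᵖ ⥤ Type (u + 1) where
  obj T := PreEl Qd ϖ T.unop
  map j := ↾fun x => PreEl.res hcart j.unop x
  map_id T := by
    ext x
    exact PreEl.res_id hcart x
  map_comp j j' := by
    ext x
    exact PreEl.res_comp hcart j'.unop j.unop x

/-- the map from the presheaf of local points to (the presheaf of) `h_U` -/
noncomputable def rhoPre : Ppre hcart ⟶ ((yon S).obj U).obj where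
  app T := ↾fun x => ULift.up x.t
  naturality T T' j := by
    ext x
    rfl

/-- the local point given by a point of a member of the diagram -/
noncomputable def lamEl' (s : R.arrows.category) {T : Over S} (q : (yon S).obj T ⟶ Qd.obj s) (v : T ⟶ s.obj.left)
    (hq : q ≫ ϖ s = (yon S).map v) : PreEl Qd ϖ T where
  t := v ≫ s.obj.hom
  ht := R.downward_closed s.property v
  p := (hcart (mTo s v (v ≫ s.obj.hom) (R.downward_closed s.property v) rfl)).lift q (𝟙 _) (by
    rw [Category.id_comp]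
    exact hq)
  hp := (hcart _).lift_snd _ _ _

abbrev lamM (s : R.arrows.category) {T : Over S} (q : (yon S).obj T ⟶ Qd.obj s) (v : T ⟶ s.obj.left)
    (hq : q ≫ ϖ s = (yon S).map v) : sOf (lamEl' hcart s q v hq).t (lamEl' hcart s q v hq).ht ⟶ s :=
  mTo s v (v ≫ s.obj.hom) (R.downward_closed s.property v) rfl

theorem lamEl'_p (s : R.arrows.category) {T : Over S} (q : (yon S).obj T ⟶ Qd.obj s) (v : T ⟶ s.obj.left)
    (hq : q ≫ ϖ s = (yon S).map v) : (lamEl' hcart s q v hq).p ≫ Qd.map (lamM hcart s q v hq) = q :=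
  (hcart _).lift_fst _ _ _

theorem lamEl'_res (s : R.arrows.category) {T₁ T : Over S} (j : T₁ ⟶ T) (q : (yon S).obj T ⟶ Qd.obj s)
    (v : T ⟶ s.obj.left) (hq : q ≫ ϖ s = (yon S).map v) (v₁ : T₁ ⟶ s.obj.left) (hv : v₁ = j ≫ v)
    (hq₁ : ((yon S).map j ≫ q) ≫ ϖ s = (yon S).map v₁) :
    lamEl' hcart s ((yon S).map j ≫ q) v₁ hq₁ = PreEl.res hcart j (lamEl' hcart s q v hq) := by
  subst hv
  apply PreEl.ext_of_map hcart _ _ s (lamM hcart s ((yon S).map j ≫ q) (j ≫ v) hq₁)
    (PreEl.mRes hcart j (lamEl' hcart s q v hq) ≫ lamM hcart s q v hq) rfl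
  rw [lamEl'_p, Qd.map_comp, ← Category.assoc, PreEl.res_p, Category.assoc, lamEl'_p]

theorem lamEl'_map {s s' : R.arrows.category} (k : s ⟶ s') {T : Over S} (q : (yon S).obj T ⟶ Qd.obj s)
    (v : T ⟶ s.obj.left) (hq : q ≫ ϖ s = (yon S).map v) (v' : T ⟶ s'.obj.left) (hv : v' = v ≫ k.hom.left)
    (hq' : (q ≫ Qd.map k) ≫ ϖ s' = (yon S).map v') :
    lamEl' hcart s' (q ≫ Qd.map k) v' hq' = lamEl' hcart s q v hq := by
  subst hv
  apply PreEl.ext_of_map hcart _ _ s' (lamM hcart s' (q ≫ Qd.map k) (v ≫ k.hom.left) hq')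
    (lamM hcart s q v hq ≫ k) rfl
  rw [lamEl'_p, Qd.map_comp, ← Category.assoc, lamEl'_p]

/-- the local point given by a point of a member of the diagram -/
noncomputable def lamEl (s : R.arrows.category) {T : Over S} (q : (yon S).obj T ⟶ Qd.obj s) : PreEl Qd ϖ T :=
  lamEl' hcart s q ((yon S).preimage (q ≫ ϖ s)) (by rw [Functor.map_preimage])

theorem lamEl_eq (s : R.arrows.category) {T : Over S} (q : (yon S).obj T ⟶ Qd.obj s) (v : T ⟶ s.obj.left)
    (hq : q ≫ ϖ s = (yon S).map v) : lamEl hcart s q = lamEl' hcart s q v hq := by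
  have e : (yon S).preimage (q ≫ ϖ s) = v := by
    apply (yon S).map_injective
    rw [Functor.map_preimage, hq]
  subst e
  rfl

/-- the map from a member of the diagram to the presheaf of local points -/
noncomputable def lamPre (s : R.arrows.category) : (Qd.obj s).obj ⟶ Ppre hcart where
  app T := ↾fun q => lamEl hcart s (yEq.symm q)
  naturality T T' j := by
    ext q
    change lamEl hcart s (yEq.symm ((Qd.obj s).obj.map j q)) = PreEl.res hcart j.unop (lamEl hcart s (yEq.symm q))
    have h1 : yEq.symm ((Qd.obj s).obj.map j q) = (yon S).map j.unop ≫ yEq.symm q :=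
      ((AlgSp.J S).uliftYonedaEquiv_symm_naturality_left j.unop (Qd.obj s) q).symm
    rw [h1]
    obtain ⟨v, hv⟩ := (yon S).map_surjective (yEq.symm q ≫ ϖ s)
    have hq₁ : ((yon S).map j.unop ≫ yEq.symm q) ≫ ϖ s = (yon S).map (j.unop ≫ v) := by
      rw [Category.assoc, ← hv, (yon S).map_comp]
    rw [lamEl_eq hcart s _ v hv.symm, lamEl_eq hcart s _ (j.unop ≫ v) hq₁]
    exact lamEl'_res hcart s j.unop _ v hv.symm _ rfl hq₁

theorem lamPre_map {s s' : R.arrows.category} (k : s ⟶ s') : (Qd.map k).hom ≫ lamPre hcart s' = lamPre hcart s := by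
  ext T q
  change lamEl hcart s' (yEq.symm ((Qd.map k).hom.app T q)) = lamEl hcart s (yEq.symm q)
  have h1 : yEq.symm ((Qd.map k).hom.app T q) = yEq.symm q ≫ Qd.map k :=
    ((AlgSp.J S).uliftYonedaEquiv_symm_naturality_right T.unop (Qd.map k) q).symm
  rw [h1]
  obtain ⟨v, hv⟩ := (yon S).map_surjective (yEq.symm q ≫ ϖ s)
  have hq' : (yEq.symm q ≫ Qd.map k) ≫ ϖ s' = (yon S).map (v ≫ k.hom.left) := by
    rw [Category.assoc, (hcart k).w, ← Category.assoc, ← hv, (yon S).map_comp]
  rw [lamEl_eq hcart s _ v hv.symm, lamEl_eq hcart s' _ (v ≫ k.hom.left) hq']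
  exact lamEl'_map hcart k _ v hv.symm _ rfl hq'

omit hcart in
theorem yEq_symm_down {V T : Over S} (w : ((yon S).obj V).obj.obj (op T)) : yEq.symm w = (yon S).map w.down := by
  apply yEq.injective
  rw [Equiv.apply_symm_apply]
  exact ((AlgSp.J S).uliftYonedaEquiv_uliftYoneda_map w.down).symm

omit hcart in
theorem yEq_symm_comp {F : Sp S} {V T : Over S} (q : F.obj.obj (op T)) (g : F ⟶ (yon S).obj V) :
    yEq.symm q ≫ g = (yon S).map (g.hom.app (op T) q).down := by
  rw [← yEq_symm_down]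
  exact (AlgSp.J S).uliftYonedaEquiv_symm_naturality_right T g q

theorem lamPre_rho_app (s : R.arrows.category) (T : (Over S)ᵒᵖ) (q : (Qd.obj s).obj.obj T) :
    ((lamPre hcart s).app T q).t = ((ϖ s).hom.app T q).down ≫ s.obj.hom := by
  change (lamEl hcart s (yEq.symm q)).t = _
  rw [lamEl_eq hcart s _ _ (yEq_symm_comp q (ϖ s))]
  rfl

/-- the square of presheaves over `h_s ⟶ h_U` is cartesian -/
theorem isPullback_lamPre (s : R.arrows.category) :
    IsPullback (lamPre hcart s) (ϖ s).hom (rhoPre hcart) ((yon S).map s.obj.hom).hom := by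
  apply IsPullback.of_forall_isPullback_app
  intro T
  rw [Types.isPullback_iff]
  refine ⟨?_, ?_, ?_⟩
  · ext q
    change ULift.up ((lamPre hcart s).app T q).t = _
    rw [lamPre_rho_app]
    rfl
  · rintro q q' ⟨h1, h2⟩
    change lamEl hcart s (yEq.symm q) = lamEl hcart s (yEq.symm q') at h1
    have e1 := yEq_symm_comp q (ϖ s)
    have e2 := yEq_symm_comp q' (ϖ s)
    rw [lamEl_eq hcart s _ _ e1, lamEl_eq hcart s _ _ e2] at h1
    have h3 := PreEl.map_congr _ _ h1 s (lamM hcart s _ _ e1) (lamM hcart s _ _ e2) (by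
      change ((ϖ s).hom.app T q).down = ((ϖ s).hom.app T q').down
      rw [h2])
    rw [lamEl'_p, lamEl'_p] at h3
    exact yEq.symm.injective h3
  · intro x v hxv
    have e : v.down ≫ s.obj.hom = x.t := by
      have := congrArg ULift.down hxv
      exact this.symm
    let q : (yon S).obj T.unop ⟶ Qd.obj s := x.p ≫ Qd.map (mTo s v.down x.t x.ht e)
    have hq : q ≫ ϖ s = (yon S).map v.down := by
      rw [Category.assoc, (hcart _).w, ← Category.assoc, x.hp, Category.id_comp]
      rfl
    refine ⟨yEq q, ?_, ?_⟩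
    · change lamEl hcart s (yEq.symm (yEq q)) = x
      rw [Equiv.symm_apply_apply, lamEl_eq hcart s q v.down hq]
      apply PreEl.ext_of_map hcart _ _ s (lamM hcart s q v.down hq) (mTo s v.down x.t x.ht e) rfl
      rw [lamEl'_p]
    · have h1 := yEq_symm_comp (yEq q) (ϖ s)
      rw [Equiv.symm_apply_apply, hq] at h1
      have h2 := (yon S).map_injective h1
      apply ULift.ext
      exact h2.symm

end Groth.Agent.Lib.helper4.ShGlue
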