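import Mathlib
import Groth.Agent.Lib.Helper4.ShGlue1

/-!
# Gluing sheaves over representables along a sieve: existence (helper4)
-/

set_option backward.isDefEq.respectTransparency false
set_option backward.isDefEq.respectTransparency.types false
set_option autoImplicit false
set_option linter.style.haveILetI false
set_option linter.unusedSectionVars false
set_option linter.unusedVariables false
set_option linter.unusedSimpArgs false

universe u

open CategoryTheory CategoryTheory.Limits AlgebraicGeometry Opposite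

namespace Groth.Agent.Lib.helper4.ShGlue

open AlgSp Groth.Agent.Lib.helper4.SpQuot Groth.Agent.Lib.helper4.SpYon

variable {S : Scheme.{u}} {U : Over S} {R : Sieve U}
  {Qd : R.arrows.category ⥤ Sp S} {ϖ : ∀ s : R.arrows.category, Qd.obj s ⟶ (yon S).obj s.obj.left}
  (hcart : ∀ {s s' : R.arrows.category} (k : s ⟶ s'),
    IsPullback (Qd.map k) (ϖ s) (ϖ s') ((yon S).map k.hom.left))

include hcart in
/-- an equifibered diagram of sheaves over the representables of a sieve on `U` is the restriction of a sheaf over `h_U` -/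
theorem exists_glue : ∃ (Q : Sp S) (ϖQ : Q ⟶ (yon S).obj U) (lam : ∀ s : R.arrows.category, Qd.obj s ⟶ Q),
    (∀ s : R.arrows.category, IsPullback (lam s) (ϖ s) ϖQ ((yon S).map s.obj.hom)) ∧
    ∀ {s s' : R.arrows.category} (k : s ⟶ s'), Qd.map k ≫ lam s' = lam s := by
  let a := presheafToSheaf (AlgSp.J S) (Type (u + 1))
  let adj := sheafificationAdjunction (AlgSp.J S) (Type (u + 1))
  let ε : ∀ F : Sp S, a.obj F.obj ⟶ F := fun F => adj.counit.app F
  have hε : ∀ F : Sp S, IsIso (ε F) := fun F => inferInstance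
  have hnat : ∀ {F F' : Sp S} (g : F ⟶ F'), a.map g.hom ≫ ε F' = ε F ≫ g := fun g => adj.counit.naturality g
  refine ⟨a.obj (Ppre hcart), a.map (rhoPre hcart) ≫ ε ((yon S).obj U),
    fun s => inv (ε (Qd.obj s)) ≫ a.map (lamPre hcart s), ?_, ?_⟩
  · intro s
    have h1 := (isPullback_lamPre hcart s).map a
    refine h1.of_iso (asIso (ε (Qd.obj s))) (Iso.refl _) (asIso (ε ((yon S).obj s.obj.left)))
      (asIso (ε ((yon S).obj U))) ?_ ?_ ?_ ?_
    · simp
    · exact hnat (ϖ s)
    · simp
    · exact hnat ((yon S).map s.obj.hom)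
  · intro s s' k
    change Qd.map k ≫ inv (ε (Qd.obj s')) ≫ a.map (lamPre hcart s') = inv (ε (Qd.obj s)) ≫ a.map (lamPre hcart s)
    have h2 : Qd.map k ≫ inv (ε (Qd.obj s')) = inv (ε (Qd.obj s)) ≫ a.map (Qd.map k).hom := by
      rw [IsIso.eq_inv_comp, ← Category.assoc, ← hnat, Category.assoc, IsIso.hom_inv_id, Category.comp_id]
    rw [← Category.assoc, h2, Category.assoc, ← a.map_comp, lamPre_map]

end Groth.Agent.Lib.helper4.ShGlue
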