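import Mathlib
import Groth.Agent.Lib.Helper4.ShGlue2

/-!
# A cartesian cocone over a covering sieve is a colimit (helper4)
-/

set_option backward.isDefEq.respectTransparency false
set_option backward.isDefEq.respectTransparency.types false
set_option autoImplicit false
set_option linter.style.haveILetI false
set_option linter.unusedSectionVars false
set_option linter.unusedVariables false
set_option linter.unusedSimpArgs false

universe u

open CategoryTheory CategoryTheory.Limits AlgebraicGeometry Opposite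

namespace Groth.Agent.Lib.helper4.ShGlue

open AlgSp Groth.Agent.Lib.helper4.SpQuot Groth.Agent.Lib.helper4.SpYon

variable {S : Scheme.{u}} {U : Over S} {R : Sieve U}
  {Qd : R.arrows.category ⥤ Sp S} {ϖ : ∀ s : R.arrows.category, Qd.obj s ⟶ (yon S).obj s.obj.left}
  {Q : Sp S} {ϖQ : Q ⟶ (yon S).obj U} {lam : ∀ s : R.arrows.category, Qd.obj s ⟶ Q}
  (hlam : ∀ s : R.arrows.category, IsPullback (lam s) (ϖ s) ϖQ ((yon S).map s.obj.hom))
  (hco : ∀ {s s' : R.arrows.category} (k : s ⟶ s'), Qd.map k ≫ lam s' = lam s)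
  (hϖ : ∀ {s s' : R.arrows.category} (k : s ⟶ s'), Qd.map k ≫ ϖ s' = ϖ s ≫ (yon S).map k.hom.left)

/-- the lift of a point of `Q` lying over an arrow of the sieve -/
noncomputable def qLift {T : Over S} (f : T ⟶ U) (hf : R f) (p : (yon S).obj T ⟶ Q)
    (hp : p ≫ ϖQ = (yon S).map f) : (yon S).obj T ⟶ Qd.obj (sOf f hf) :=
  (hlam (sOf f hf)).lift p (𝟙 _) (by rw [hp, Category.id_comp]; rfl)

@[reassoc]
theorem qLift_lam {T : Over S} (f : T ⟶ U) (hf : R f) (p : (yon S).obj T ⟶ Q)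
    (hp : p ≫ ϖQ = (yon S).map f) : qLift hlam f hf p hp ≫ lam (sOf f hf) = p :=
  (hlam (sOf f hf)).lift_fst _ _ _

@[reassoc]
theorem qLift_ϖ {T : Over S} (f : T ⟶ U) (hf : R f) (p : (yon S).obj T ⟶ Q)
    (hp : p ≫ ϖQ = (yon S).map f) : qLift hlam f hf p hp ≫ ϖ (sOf f hf) = 𝟙 _ :=
  (hlam (sOf f hf)).lift_snd _ _ _

include hco hϖ in
theorem qLift_map {T : Over S} (s : R.arrows.category) (v : T ⟶ s.obj.left) (q : (yon S).obj T ⟶ Qd.obj s)
    (hq : q ≫ ϖ s = (yon S).map v) (f : T ⟶ U) (hf : R f) (e : v ≫ s.obj.hom = f)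
    (hp : (q ≫ lam s) ≫ ϖQ = (yon S).map f) :
    qLift hlam f hf (q ≫ lam s) hp ≫ Qd.map (mTo s v f hf e) = q := by
  apply (hlam s).hom_ext
  · rw [Category.assoc, hco, qLift_lam]
  · rw [Category.assoc, hϖ, qLift_ϖ_assoc, hq]
    rfl

include hco hϖ in
theorem qLift_res {T' T : Over S} (k : T' ⟶ T) (f : T ⟶ U) (hf : R f) (p : (yon S).obj T ⟶ Q)
    (hp : p ≫ ϖQ = (yon S).map f) (f' : T' ⟶ U) (hf' : R f') (e : k ≫ f = f')
    (hp' : ((yon S).map k ≫ p) ≫ ϖQ = (yon S).map f') :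
    qLift hlam f' hf' ((yon S).map k ≫ p) hp' ≫ Qd.map (mTo (sOf f hf) k f' hf' e) =
      (yon S).map k ≫ qLift hlam f hf p hp := by
  apply (hlam (sOf f hf)).hom_ext
  · rw [Category.assoc, hco, qLift_lam, Category.assoc, qLift_lam]
  · rw [Category.assoc, hϖ, qLift_ϖ_assoc, Category.assoc, qLift_ϖ, Category.comp_id]
    rfl

variable (hR : R ∈ (AlgSp.J S) U)

include hR hlam in
theorem desc_ext {Z : Sp S} (d d' : Q ⟶ Z) (h : ∀ s : R.arrows.category, lam s ≫ d = lam s ≫ d') : d = d' := by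
  apply hom_ext_over_sieve ϖQ R hR
  intro T' f hf p hp
  rw [← qLift_lam hlam f hf p hp, Category.assoc, Category.assoc, h]

include hR hlam hco hϖ in
theorem exists_desc {Z : Sp S} (m : ∀ s : R.arrows.category, Qd.obj s ⟶ Z)
    (hm : ∀ {s s' : R.arrows.category} (k : s ⟶ s'), Qd.map k ≫ m s' = m s) :
    ∃ d : Q ⟶ Z, ∀ s : R.arrows.category, lam s ≫ d = m s := by
  obtain ⟨d, hd⟩ := exists_hom_over_sieve ϖQ R hR
    (fun T' f hf p hp => qLift hlam f hf p hp ≫ m (sOf f hf)) (by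
      intro T' T'' f hf p hp k f' hf' hk hp'
      rw [← hm (mTo (sOf f hf) k f' hf' hk), ← Category.assoc, qLift_res hlam hco hϖ k f hf p hp f' hf' hk hp',
        Category.assoc])
  refine ⟨d, fun s => ?_⟩
  apply hom_ext_yon
  intro T q
  obtain ⟨v, hv⟩ := (yon S).map_surjective (q ≫ ϖ s)
  have hp : (q ≫ lam s) ≫ ϖQ = (yon S).map (v ≫ s.obj.hom) := by
    rw [Category.assoc, (hlam s).w, ← Category.assoc, ← hv, (yon S).map_comp]
  rw [← Category.assoc, hd (v ≫ s.obj.hom) (R.downward_closed s.property v) (q ≫ lam s) hp,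
    ← hm (mTo s v (v ≫ s.obj.hom) (R.downward_closed s.property v) rfl), ← Category.assoc,
    qLift_map hlam hco hϖ s v q hv.symm _ _ rfl hp]

section OverB

variable {B : Sp S} {Pd : R.arrows.category ⥤ Over B}
  {ϖ' : ∀ s : R.arrows.category, (Pd.obj s).left ⟶ (yon S).obj s.obj.left}
  {Pt : Over B} {ϖt : Pt.left ⟶ (yon S).obj U} {c : ∀ s : R.arrows.category, Pd.obj s ⟶ Pt}
  (hc : ∀ s : R.arrows.category, IsPullback (c s).left (ϖ' s) ϖt ((yon S).map s.obj.hom))
  (hcc : ∀ {s s' : R.arrows.category} (k : s ⟶ s'), Pd.map k ≫ c s' = c s)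
  (hϖ' : ∀ {s s' : R.arrows.category} (k : s ⟶ s'), (Pd.map k).left ≫ ϖ' s' = ϖ' s ≫ (yon S).map k.hom.left)

include hR hc in
omit hlam hco hϖ in
theorem descB_ext {Y : Over B} (d d' : Pt ⟶ Y) (h : ∀ s : R.arrows.category, c s ≫ d = c s ≫ d') : d = d' := by
  apply Over.OverMorphism.ext
  refine desc_ext (Qd := Pd ⋙ Over.forget B) (ϖ := ϖ') (lam := fun s => (c s).left) hc hR d.left d'.left ?_
  intro s
  exact congrArg (fun k => k.left) (h s)

include hR hc hcc hϖ' in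
omit hlam hco hϖ in
theorem exists_descB {Y : Over B} (m : ∀ s : R.arrows.category, Pd.obj s ⟶ Y)
    (hm : ∀ {s s' : R.arrows.category} (k : s ⟶ s'), Pd.map k ≫ m s' = m s) :
    ∃ d : Pt ⟶ Y, ∀ s : R.arrows.category, c s ≫ d = m s := by
  have hcc' : ∀ {s s' : R.arrows.category} (k : s ⟶ s'),
      (Pd ⋙ Over.forget B).map k ≫ (c s').left = (c s).left := fun k => congrArg (fun k => k.left) (hcc k)
  obtain ⟨d, hd⟩ := exists_desc (Qd := Pd ⋙ Over.forget B) (ϖ := ϖ') (lam := fun s => (c s).left) hc hcc' hϖ' hR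
    (fun s => (m s).left) (fun k => congrArg (fun k => k.left) (hm k))
  have w : d ≫ Y.hom = Pt.hom := by
    refine desc_ext (Qd := Pd ⋙ Over.forget B) (ϖ := ϖ') (lam := fun s => (c s).left) hc hR _ _ ?_
    intro s
    rw [← Category.assoc, hd s, Over.w, Over.w]
  refine ⟨Over.homMk d w, fun s => ?_⟩
  apply Over.OverMorphism.ext
  exact hd s

end OverB

end Groth.Agent.Lib.helper4.ShGlue
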