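import Mathlib
import Groth.Agent.Lib.Helper4.QuotSt3
import Groth.Agent.Lib.Helper4.FppfFamDescent
import Groth.Agent.Lib.Helper4.AlgStLocQ
set_option autoImplicit false
set_option backward.isDefEq.respectTransparency false
set_option backward.isDefEq.respectTransparency.types false
set_option linter.unusedSimpArgs false
set_option linter.unusedSectionVars false
universe u
open CategoryTheory CategoryTheory.Limits AlgebraicGeometry MonoidalCategory CartesianMonoidalCategory MonObj GrpObj
open AlgSt

/-! The canonical map `X ⟶ [X/G]`: the fibre product with `y : U ⟶ [X/G]` is the torsor classified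
by `y`; properties of `G ⟶ S` which descend along fppf coverings pass to the torsor. -/

namespace Groth.Agent.Lib.helper4.QuotSt4
open Groth.Agent.S12838 Groth.Agent.Lib.helper4.QuotSt1 Groth.Agent.Lib.helper4.QuotSt2
  Groth.Agent.Lib.helper4.QuotSt3 Groth.Agent.Lib.helper4.FppfFamDescent FibCat

variable {S : Scheme.{u}} {G : Over S} [GrpObj G] {X : Over S} {aX : AlgGrp.Action G X}

/-- the second projection of `G ×_S T` is a base change of `G ⟶ S` -/
theorem prop_snd (P : MorphismProperty Scheme.{u}) [P.IsStableUnderBaseChange] (hG : P G.hom) (T : Over S) :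
    P (snd G T).left := by
  have sq : IsPullback (fst G T).left (snd G T).left (toUnit G).left (toUnit T).left :=
    (isPullback_fst_snd G T).map (Over.forget S)
  have e : (toUnit G).left = G.hom := by simp
  rw [e] at sq
  exact P.of_isPullback sq hG

/-- a property of `G ⟶ S`, stable under base change and descending along fppf coverings, holds for
the structure map of every fppf torsor -/
theorem prop_pi (P : MorphismProperty Scheme.{u}) [IsZariskiLocalAtTarget P] [P.IsStableUnderBaseChange]
    [P.DescendsAlong (@Surjective ⊓ @Flat ⊓ @LocallyOfFinitePresentation)] (hG : P G.hom)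
    (A : QuotObj Scheme.fppfPrecoverage G aX) : P A.π.left := by
  obtain ⟨R, hR, hsec⟩ := A.loc
  apply of_fppf_presieve P A.π.left R hR
  intro T' f hf
  obtain ⟨s, hs⟩ := hsec f hf
  have hs' : s ≫ A.π.left = f := hs
  have hw : s ≫ A.P.hom = f ≫ A.base.hom := by
    rw [← hs', Category.assoc, Over.w A.π]
  let T : Over S := Over.mk (f ≫ A.base.hom)
  let s' : T ⟶ A.P := Over.homMk s hw
  have sq := ((isPullback_whiskerLeft (G := G) s').paste_horiz A.cart).map (Over.forget S)
  have e : (Over.forget S).map (s' ≫ A.π) = f := hs'
  rw [e] at sq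
  exact ⟨_, _, _, sq, prop_snd P hG T⟩

end Groth.Agent.Lib.helper4.QuotSt4
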