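import Mathlib
import Groth.Agent.Lib.Helper4.QuotSt4
import Groth.Agent.Lib.Helper4.AlgStPts7
import Groth.Agent.Lib.Helper5.AlgSpLocPInst2
import Groth.Agent.Lib.Helper5.AlgSpLocPInst
set_option autoImplicit false
set_option backward.isDefEq.respectTransparency false
set_option backward.isDefEq.respectTransparency.types false
set_option linter.unusedSimpArgs false
set_option linter.unusedSectionVars false
universe u
open CategoryTheory CategoryTheory.Limits AlgebraicGeometry MonoidalCategory CartesianMonoidalCategory MonObj GrpObj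
open AlgSt

/-! `X ⟶ [X/G]` is representable by algebraic spaces, with the properties of `G ⟶ S` which descend along
fppf coverings. -/

namespace Groth.Agent.Lib.helper4.QuotSt5
open Groth.Agent.S12838 Groth.Agent.Lib.helper4.QuotSt1 Groth.Agent.Lib.helper4.QuotSt2
  Groth.Agent.Lib.helper4.QuotSt3 Groth.Agent.Lib.helper4.QuotSt4 FibCat
  Groth.Agent.Lib.helper4.FppfFamDescent

variable {S : Scheme.{u}} {G : Over S} [GrpObj G] {X : Over S} {aX : AlgGrp.Action G X}

theorem spMapOfOver_toOverCat (U : Over S) : spMapOfOver (toOverCat U) = 𝟙 _ := by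
  apply ObjectProperty.hom_ext
  ext T x
  apply ULift.ext
  change secHom (toOverCat U) ⟨T.unop, x⟩ = x.down
  simp [secHom, toOverCat]

variable {K : Precoverage Scheme.{u}} [K.HasIsos] {U : Over S} (y : FibCat.overCat U ⥤ᵇ QuotSt K G aX)

theorem spMapOfOver_πF : spMapOfOver (πF y) = (AlgSp.yon S).map (πU y) := by
  unfold πF
  rw [Groth.Agent.Lib.helper4.AlgStLocQ.spMapOfOver_ofSpMap_comp, spMapOfOver_toOverCat, Category.comp_id]

theorem fpLift_fst : BasedFunctor.comp (FibCat.fpLift (πF y) (φF y) (αNat y)) (FibCat.fpFst y (fQ K aX)) =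
    πF y := rfl

theorem πU_left (P : MorphismProperty Scheme.{u}) [P.RespectsIso] (h : P (A₀ y).π.left) :
    P (πU y).left := by
  unfold πU
  have : ∀ (V : Over S) (e : (A₀ y).base = V), P ((A₀ y).π ≫ eqToHom e).left := by
    intro V e
    subst e
    simpa using h
  exact this U (hU y)

/-- the general statement: the canonical map is representable with every property of sheaf maps that holds
for the structure maps of the torsors -/
theorem repByAlgSpWith_quotMap (Q : MorphismProperty (AlgSp.Sp S))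
    (hQ : ∀ {U : Over S} (y : FibCat.overCat U ⥤ᵇ QuotSt K G aX), Q ((AlgSp.yon S).map (πU y))) :
    AlgSt.RepByAlgSpWith Q (BasedFunctor.comp (AlgSt.ofOverCat X) (AlgSt.quotMap K G aX)) := by
  intro U y
  refine ⟨⟨(AlgSp.yon S).obj (A₀ y).P, AlgSp.IsAlgSpace.yon_obj _⟩,
    FibCat.fpLift (πF y) (φF y) (αNat y), isEquivOver_fpLift y, ?_⟩
  rw [fpLift_fst, spMapOfOver_πF]
  exact hQ y

/-- properties local on source and target -/
theorem repByAlgSpWith_locP_quotMap (P : MorphismProperty Scheme.{u})
    (hP : Groth.Agent.Lib.helper5.LocPBC.LocPData P) [IsZariskiLocalAtTarget P] [P.IsStableUnderBaseChange]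
    [P.DescendsAlong (@Surjective ⊓ @Flat ⊓ @LocallyOfFinitePresentation)] (hG : P G.hom) :
    AlgSt.RepByAlgSpWith (AlgSp.LocP P)
      (BasedFunctor.comp (AlgSt.ofOverCat X) (AlgSt.quotMap Scheme.fppfPrecoverage G aX)) := by
  apply repByAlgSpWith_quotMap
  intro U y
  exact Groth.Agent.Lib.helper4.AlgStPts.locP_yon_map_of hP (πU y) (πU_left y P (prop_pi P hG (A₀ y)))

/-- surjectivity -/
theorem repByAlgSpWith_surjective_quotMap (hG : Surjective G.hom) :
    AlgSt.RepByAlgSpWith AlgSp.IsSurjectiveMor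
      (BasedFunctor.comp (AlgSt.ofOverCat X) (AlgSt.quotMap Scheme.fppfPrecoverage G aX)) := by
  apply repByAlgSpWith_quotMap
  intro U y
  have h1 : Surjective (πU y).left := πU_left y @Surjective (prop_pi @Surjective hG (A₀ y))
  change Function.Surjective (AlgSp.Points.map ((AlgSp.yon S).map (πU y)))
  rw [AlgSp.Points.map_yon_map_eq]
  exact (AlgSp.Points.schemeHomeo U).surjective.comp
    (h1.surj.comp (AlgSp.Points.schemeHomeo (A₀ y).P).symm.surjective)

/-- the unit section shows that `G ⟶ S` is surjective -/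
theorem surjective_hom : Surjective G.hom := by
  refine ⟨fun s => ?_⟩
  have h : (η[G]).left ≫ G.hom = 𝟙 S := by
    rw [Over.w (η[G])]
    rfl
  refine ⟨(η[G]).left s, ?_⟩
  rw [← Scheme.Hom.comp_apply, h]
  rfl

theorem smooth_quotMap (hG : Smooth G.hom) :
    AlgSt.RepByAlgSpWith (AlgSp.LocP @Smooth)
      (BasedFunctor.comp (AlgSt.ofOverCat X) (AlgSt.quotMap Scheme.fppfPrecoverage G aX)) :=
  repByAlgSpWith_locP_quotMap (@Smooth : MorphismProperty Scheme.{u})
    Groth.Agent.Lib.helper5.LocPBC.locPData_smooth hG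

theorem flat_quotMap (hG : Flat G.hom) :
    AlgSt.RepByAlgSpWith (AlgSp.LocP @Flat)
      (BasedFunctor.comp (AlgSt.ofOverCat X) (AlgSt.quotMap Scheme.fppfPrecoverage G aX)) := by
  have := flat_descendsAlong_fppf.{u}
  exact repByAlgSpWith_locP_quotMap (@Flat : MorphismProperty Scheme.{u})
    Groth.Agent.Lib.helper5.LocPBC.locPData_flat hG

theorem lfp_quotMap (hG : LocallyOfFinitePresentation G.hom) :
    AlgSt.RepByAlgSpWith (AlgSp.LocP @LocallyOfFinitePresentation)
      (BasedFunctor.comp (AlgSt.ofOverCat X) (AlgSt.quotMap Scheme.fppfPrecoverage G aX)) :=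
  repByAlgSpWith_locP_quotMap (@LocallyOfFinitePresentation : MorphismProperty Scheme.{u})
    Groth.Agent.Lib.helper5.LocPBC.locPData_lfp hG

theorem surjective_quotMap :
    AlgSt.RepByAlgSpWith AlgSp.IsSurjectiveMor
      (BasedFunctor.comp (AlgSt.ofOverCat X) (AlgSt.quotMap Scheme.fppfPrecoverage G aX)) :=
  repByAlgSpWith_surjective_quotMap surjective_hom

end Groth.Agent.Lib.helper4.QuotSt5
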