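import Mathlib
import Groth.Agent.Lib.Helper4.SpQuot3

/-!
# The fibre product of `y : U ⟶ [X/G]` with `X ⟶ [X/G]` is the torsor classified by `y` (sheaf torsors) (helper4)
-/

set_option backward.isDefEq.respectTransparency false
set_option backward.isDefEq.respectTransparency.types false
set_option autoImplicit false
set_option linter.style.haveILetI false
set_option linter.unusedSectionVars false
set_option linter.unusedVariables false
set_option linter.unusedSimpArgs false

universe u

open CategoryTheory CategoryTheory.Limits MonoidalCategory CartesianMonoidalCategory MonObj GrpObj AlgebraicGeometry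
open AlgSt Opposite FibCat

namespace Groth.Agent.Lib.helper4.SpQuot

open Groth.Agent.Lib.helper4.QuotSt3 (toTerm base_unique)

variable {S : Scheme.{u}} {K : Precoverage Scheme.{u}} {B : AlgSp.Sp S} {G : Over B} [GrpObj G] {X : Over B}
  {aX : AlgSp.GAction G X} [K.HasIsos] {U : Over S} (y : FibCat.overCat U ⥤ᵇ SpQuotSt K G aX)

/-- the torsor classified by `y` -/
noncomputable abbrev A₀ : SpQuotObj K G aX := y.obj (Over.mk (𝟙 U))

theorem hU : (A₀ y).base = U := y.w_obj (Over.mk (𝟙 U))

/-- the structure map of the torsor, to `h_U` -/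
noncomputable def πU : (A₀ y).P.left ⟶ (AlgSp.yon S).obj U :=
  (A₀ y).π.left ≫ (AlgSp.yon S).map (eqToHom (hU y))

/-- the cartesian morphism from `y t` to the torsor -/
noncomputable def mt (t : Over U) : y.obj t ⟶ A₀ y := y.map (toTerm t)

instance mt_lift (t : Over U) : (SpQuotSt K G aX).p.IsHomLift t.hom (mt y t) := by
  have : (overCat U).p.IsHomLift t.hom (toTerm t) := by
    change (overCat U).p.IsHomLift ((overCat U).p.map (toTerm t)) (toTerm t)
    infer_instance
  exact BasedFunctor.preserves_isHomLift y _ _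

theorem map_mt {t' t : Over U} (m : t' ⟶ t) : y.map m ≫ mt y t = mt y t' := by
  unfold mt
  rw [← y.toFunctor.map_comp]
  congr 1
  apply Over.OverMorphism.ext
  change m.left ≫ t.hom = t'.hom
  exact Over.w m

/-- `P ⟶ U` as a functor to the slice -/
noncomputable def πF : ofSp (A₀ y).P.left ⥤ᵇ overCat U :=
  BasedFunctor.comp (ofSpMap (πU y)) (toOverCat U)

/-- `P ⟶ X` as a functor -/
noncomputable abbrev φF : ofSp (A₀ y).P.left ⥤ᵇ ofSp X.left := ofSpMap (A₀ y).φ.left

/-- the morphism `T ⟶ U` below a point of the torsor -/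
noncomputable def τ (w : (ofSp (A₀ y).P.left).obj) : w.base ⟶ U := ((ofSpMap (πU y)).obj w).sec.down

theorem πF_obj (w : (ofSp (A₀ y).P.left).obj) : (πF y).obj w = Over.mk (τ y w) := rfl

theorem yon_map_τ (w : (ofSp (A₀ y).P.left).obj) :
    (AlgSp.yon S).map (τ y w) = secY w ≫ πU y := by
  change (AlgSp.yon S).map ((ofSpMap (πU y)).obj w).sec.down = _
  rw [← secY_yon, secY_map]

instance trivW_lift (w : (ofSp (A₀ y).P.left).obj) :
    (SpQuotSt K G aX).p.IsHomLift (τ y w) (trivW (A₀ y) w) :=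
  IsHomLift.of_commsq _ _ _ rfl (hU y) (by
    apply (AlgSp.yon S).map_injective
    rw [eqToHom_refl, Category.id_comp, yon_map_τ, Functor.map_comp]
    change (AlgSp.yon S).map (trivW (A₀ y) w).base ≫ _ = _
    rw [yon_map_trivW_base, Category.assoc]
    rfl)

instance mt_lift' (w : (ofSp (A₀ y).P.left).obj) :
    (SpQuotSt K G aX).p.IsHomLift (τ y w) (mt y (Over.mk (τ y w))) :=
  mt_lift y (Over.mk (τ y w))

/-- the canonical trivialisation of the pull back of the torsor along a point of the torsor -/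
noncomputable def αIso (w : (ofSp (A₀ y).P.left).obj) :
    y.obj (Over.mk (τ y w)) ≅ (spQuotMap K G aX).obj ((φF y).obj w) :=
  Functor.IsCartesian.domainUniqueUpToIso (SpQuotSt K G aX).p (τ y w) (trivW (A₀ y) w)
    (mt y (Over.mk (τ y w)))

theorem αIso_hom_triv (w : (ofSp (A₀ y).P.left).obj) :
    (αIso y w).hom ≫ trivW (A₀ y) w = mt y (Over.mk (τ y w)) :=
  Functor.IsCartesian.fac (SpQuotSt K G aX).p (τ y w) (trivW (A₀ y) w) (mt y (Over.mk (τ y w)))

instance αIso_lift (w : (ofSp (A₀ y).P.left).obj) :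
    (SpQuotSt K G aX).p.IsHomLift (𝟙 w.base) (αIso y w).hom :=
  Functor.IsCartesian.domainUniqueUpToIso_inv_isHomLift (SpQuotSt K G aX).p (τ y w)
    (trivW (A₀ y) w) (mt y (Over.mk (τ y w)))

theorem πF_map_left {w' w : (ofSp (A₀ y).P.left).obj} (ψ : w' ⟶ w) :
    ((πF y).map ψ).left = ψ.hom := rfl

theorem φF_map_hom {w' w : (ofSp (A₀ y).P.left).obj} (ψ : w' ⟶ w) :
    ((φF y).map ψ).hom = ψ.hom := rfl

theorem α_naturality {w' w : (ofSp (A₀ y).P.left).obj} (ψ : w' ⟶ w) :
    y.map ((πF y).map ψ) ≫ (αIso y w).hom =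
      (αIso y w').hom ≫ (spQuotMap K G aX).map ((φF y).map ψ) := by
  have l1 : (SpQuotSt K G aX).p.IsHomLift ψ.hom (y.map ((πF y).map ψ)) := by
    have : (overCat U).p.IsHomLift ψ.hom ((πF y).map ψ) := by
      change (overCat U).p.IsHomLift ((overCat U).p.map ((πF y).map ψ)) ((πF y).map ψ)
      infer_instance
    exact BasedFunctor.preserves_isHomLift y _ _
  have l2 : (SpQuotSt K G aX).p.IsHomLift ψ.hom ((spQuotMap K G aX).map ((φF y).map ψ)) := by
    change (SpQuotSt K G aX).p.IsHomLift ((SpQuotSt K G aX).p.map ((spQuotMap K G aX).map ((φF y).map ψ))) _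
    infer_instance
  have l3 : (SpQuotSt K G aX).p.IsHomLift ψ.hom (y.map ((πF y).map ψ) ≫ (αIso y w).hom) :=
    inferInstance
  have l4 : (SpQuotSt K G aX).p.IsHomLift ψ.hom
      ((αIso y w').hom ≫ (spQuotMap K G aX).map ((φF y).map ψ)) := inferInstance
  apply Functor.IsStronglyCartesian.ext (SpQuotSt K G aX).p (τ y w) (trivW (A₀ y) w) ψ.hom
  rw [Category.assoc, Category.assoc, αIso_hom_triv]
  have e1 : y.map ((πF y).map ψ) ≫ mt y (Over.mk (τ y w)) = mt y (Over.mk (τ y w')) :=
    map_mt y ((πF y).map ψ)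
  rw [e1]
  have e2 : (spQuotMap K G aX).map ((φF y).map ψ) ≫ trivW (A₀ y) w = trivW (A₀ y) w' :=
    map_trivW (A₀ y) ψ
  rw [e2, αIso_hom_triv]

/-- the 2-isomorphism of the square `P ⟶ U`, `P ⟶ X` over `[X/G]` -/
noncomputable def αNat : BasedFunctor.comp (πF y) y ≅ BasedFunctor.comp (φF y) (spQuotMap K G aX) :=
  BasedNatIso.mkNatIso
    (NatIso.ofComponents (fun w => αIso y w) (fun ψ => α_naturality y ψ))
    (fun w => αIso_lift y w)

end Groth.Agent.Lib.helper4.SpQuot
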