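import Mathlib
import Groth.Agent.Lib.Helper4.SpQuot4

/-!
# The fibre product of `y : U ⟶ [X/G]` with `X ⟶ [X/G]` is the torsor classified by `y`: the equivalence (helper4)
-/

set_option backward.isDefEq.respectTransparency false
set_option backward.isDefEq.respectTransparency.types false
set_option autoImplicit false
set_option linter.style.haveILetI false
set_option linter.unusedSectionVars false
set_option linter.unusedVariables false
set_option linter.unusedSimpArgs false

universe u

open CategoryTheory CategoryTheory.Limits MonoidalCategory CartesianMonoidalCategory MonObj GrpObj AlgebraicGeometry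
open AlgSt Opposite FibCat

namespace Groth.Agent.Lib.helper4.SpQuot

open Groth.Agent.Lib.helper4.QuotSt3 (toTerm base_unique)

variable {S : Scheme.{u}} {K : Precoverage Scheme.{u}} {B : AlgSp.Sp S} {G : Over B} [GrpObj G] {X : Over B}
  {aX : AlgSp.GAction G X} [K.HasIsos]

/-- every morphism from a trivial torsor is the trivialisation attached to its unit section -/
theorem top_eq_of_trivial (A : SpQuotObj K G aX) (a : (ofSp X.left).obj) (k : (spQuotMap K G aX).obj a ⟶ A) :
    k.top = (G ◁ (esec G _ ≫ k.top)) ≫ A.act.act := by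
  have h1 : lmul G _ ≫ k.top = (G ◁ k.top) ≫ A.act.act := k.eqv
  rw [MonoidalCategory.whiskerLeft_comp, Category.assoc, ← h1, ← Category.assoc, whisker_esec_lmul,
    Category.id_comp]

theorem esec_top_pi (A : SpQuotObj K G aX) (a : (ofSp X.left).obj) (k : (spQuotMap K G aX).obj a ⟶ A) :
    (esec G _ ≫ k.top) ≫ A.π = bHom k.base k.wb := by
  have h1 : k.top ≫ A.π = snd G (Over.mk (secYon a ≫ X.hom)) ≫ bHom k.base k.wb := k.cart.w
  rw [Category.assoc, h1, esec_snd_assoc]

theorem esec_top_phi (A : SpQuotObj K G aX) (a : (ofSp X.left).obj) (k : (spQuotMap K G aX).obj a ⟶ A) :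
    (esec G _ ≫ k.top) ≫ A.φ = secOver a := by
  have h1 : k.top ≫ A.φ = (G ◁ secOver a) ≫ aX.act := k.wφ
  rw [Category.assoc, h1, act_one aX.act aX.one_act]

variable {U : Over S} (y : FibCat.overCat U ⥤ᵇ SpQuotSt K G aX)

instance faithful_fpLift : (FibCat.fpLift (πF y) (φF y) (αNat y)).toFunctor.Faithful where
  map_injective {a b} m m' h := by
    apply Stk.EltObj.hom_ext
    have h1 := congrArg (fun k => k.hom.fst.left) h
    exact h1

instance full_fpLift : (FibCat.fpLift (πF y) (φF y) (αNat y)).toFunctor.Full where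
  map_surjective {w' w} n := by
    have hw : y.map n.hom.fst ≫ (αIso y w).hom =
        (αIso y w').hom ≫ (spQuotMap K G aX).map n.hom.snd := n.hom.w
    let f1 : w'.base ⟶ w.base := n.hom.fst.left
    let f2 : w'.base ⟶ w.base := n.hom.snd.hom
    have l1 : (SpQuotSt K G aX).p.IsHomLift f1 (y.map n.hom.fst) := by
      have : (overCat U).p.IsHomLift f1 n.hom.fst := by
        change (overCat U).p.IsHomLift ((overCat U).p.map n.hom.fst) n.hom.fst
        infer_instance
      exact BasedFunctor.preserves_isHomLift y _ _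
    have l2 : (SpQuotSt K G aX).p.IsHomLift f2 ((spQuotMap K G aX).map n.hom.snd) := by
      change (SpQuotSt K G aX).p.IsHomLift ((SpQuotSt K G aX).p.map ((spQuotMap K G aX).map n.hom.snd)) _
      infer_instance
    have l3 : (SpQuotSt K G aX).p.IsHomLift f1
        (y.map n.hom.fst ≫ (αIso y w).hom) := inferInstance
    have l4 : (SpQuotSt K G aX).p.IsHomLift f2
        ((αIso y w').hom ≫ (spQuotMap K G aX).map n.hom.snd) := inferInstance
    have e1 : f1 = f2 := by
      rw [← hw] at l4
      exact base_unique (SpQuotSt K G aX).p _ _ (y.map n.hom.fst ≫ (αIso y w).hom)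
    have e2 : (spQuotMap K G aX).map n.hom.snd ≫ trivW (A₀ y) w = trivW (A₀ y) w' := by
      rw [← cancel_epi (αIso y w').hom, ← Category.assoc, ← hw, Category.assoc,
        αIso_hom_triv, αIso_hom_triv]
      exact map_mt y n.hom.fst
    have e3 : (AlgSp.yon S).map f2 ≫ secY w = secY w' := by
      have h1 := congrArg (fun k => (esec G _ ≫ k.top).left) e2
      simp only [SpQuotObj.comp_top, trivW_top] at h1
      rw [spQuotMap_map_top, ← MonoidalCategory.whiskerLeft_comp_assoc, act_one _ (A₀ y).act.one_act,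
        act_one _ (A₀ y).act.one_act] at h1
      exact h1
    refine ⟨⟨f1, ?_⟩, ?_⟩
    · apply yEq.symm.injective
      rw [← GrothendieckTopology.uliftYonedaEquiv_symm_naturality_left, e1]
      exact e3
    · apply Groth.Agent.Lib.helper4.DiagBC.fp_hom_ext
      · apply Over.OverMorphism.ext
        rfl
      · apply Stk.EltObj.hom_ext
        exact e1

theorem ess_surj (z : (FibCat.fp y (spQuotMap K G aX)).obj) :
    ∃ (ξ : (ofSp (A₀ y).P.left).obj)
      (e : (FibCat.fpLift (πF y) (φF y) (αNat y)).toFunctor.obj ξ ≅ z),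
      (FibCat.fp y (spQuotMap K G aX)).p.IsHomLift (𝟙 ((FibCat.fp y (spQuotMap K G aX)).p.obj z)) e.hom := by
  obtain ⟨⟨t, x, iso⟩, hprop⟩ := z
  obtain ⟨T, ⟨⟨⟩⟩, th⟩ := t
  obtain ⟨T', xs⟩ := x
  change T ⟶ U at th
  have hprop' : (SpQuotSt K G aX).p.IsHomLift (𝟙 T) iso.hom := hprop
  have hT : T' = T := IsHomLift.codomain_eq (SpQuotSt K G aX).p (𝟙 T) iso.hom
  subst hT
  let t : Over U := Over.mk th
  let a : (ofSp X.left).obj := ⟨T', xs⟩
  have l0 : (SpQuotSt K G aX).p.IsHomLift (𝟙 T') iso.inv := IsHomLift.lift_id_inv _ _ _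
  let k : (spQuotMap K G aX).obj a ⟶ A₀ y := iso.inv ≫ mt y t
  have lk : (SpQuotSt K G aX).p.IsHomLift th k := by
    have : (SpQuotSt K G aX).p.IsHomLift th (mt y t) := mt_lift y t
    exact IsHomLift.comp_lift_id_left (SpQuotSt K G aX).p th (mt y t) iso.inv
  let s : Over.mk (secYon a ≫ X.hom) ⟶ (A₀ y).P := esec G _ ≫ k.top
  have hπ0 : s ≫ (A₀ y).π = bHom k.base k.wb := esec_top_pi (A₀ y) a k
  have hkb : k.base ≫ eqToHom (hU y) = th := by
    have := IsHomLift.fac' (SpQuotSt K G aX).p th k
    change k.base = _ at this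
    rw [this]
    simp
  have hφ : s ≫ (A₀ y).φ = secOver a := esec_top_phi (A₀ y) a k
  let ξ : (ofSp (A₀ y).P.left).obj := ofSec s.left
  have hsY : secY ξ = s.left := secY_ofSec s.left
  have hτ : τ y ξ = th := by
    apply (AlgSp.yon S).map_injective
    rw [yon_map_τ, hsY, ← hkb, Functor.map_comp]
    unfold πU
    rw [← Category.assoc]
    congr 1
    exact congrArg (fun m => m.left) hπ0
  have hsec : (A₀ y).φ.left.hom.app (op T') ξ.sec = xs := by
    apply yEq.symm.injective
    have h1 := secY_map (A₀ y).φ.left ξ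
    have h2 : secY ξ ≫ (A₀ y).φ.left = secYon a := by
      rw [hsY]
      exact congrArg (fun m => m.left) hφ
    exact h1.trans h2
  let i1 : (πF y).obj ξ ≅ t := Over.isoMk (Iso.refl T') (by
    change 𝟙 T' ≫ th = τ y ξ
    rw [Category.id_comp, hτ])
  let i2 : (φF y).obj ξ ≅ a :=
    { hom := ⟨𝟙 T', by
        change X.left.obj.map (𝟙 T').op xs = (A₀ y).φ.left.hom.app (op T') ξ.sec
        rw [hsec]; simp⟩
      inv := ⟨𝟙 T', by
        change X.left.obj.map (𝟙 T').op ((A₀ y).φ.left.hom.app (op T') ξ.sec) = xs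
        rw [hsec]; simp⟩
      hom_inv_id := by
        apply Stk.EltObj.hom_ext
        change 𝟙 T' ≫ 𝟙 T' = 𝟙 T'
        simp
      inv_hom_id := by
        apply Stk.EltObj.hom_ext
        change 𝟙 T' ≫ 𝟙 T' = 𝟙 T'
        simp }
  have e2 : (spQuotMap K G aX).map i2.hom ≫ k = trivW (A₀ y) ξ := by
    apply SpQuotObj.hom_ext
    · apply (AlgSp.yon S).map_injective
      rw [yon_map_trivW_base, hsY, SpQuotObj.comp_base]
      change (AlgSp.yon S).map (𝟙 T' ≫ k.base) = _
      rw [Category.id_comp]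
      exact (congrArg (fun m => m.left) hπ0).symm
    · rw [SpQuotObj.comp_top, trivW_top, spQuotMap_map_top]
      rw [top_eq_of_trivial (A₀ y) a k, ← MonoidalCategory.whiskerLeft_comp_assoc]
      congr 2
      apply Over.OverMorphism.ext
      change (AlgSp.yon S).map (𝟙 T') ≫ s.left = secY ξ
      rw [hsY, CategoryTheory.Functor.map_id, Category.id_comp]
  have hw : y.map i1.hom ≫ iso.hom = (αIso y ξ).hom ≫ (spQuotMap K G aX).map i2.hom := by
    have l1 : (SpQuotSt K G aX).p.IsHomLift (𝟙 T') (y.map i1.hom) := by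
      have : (overCat U).p.IsHomLift (𝟙 T') i1.hom := by
        change (overCat U).p.IsHomLift ((overCat U).p.map i1.hom) i1.hom
        infer_instance
      exact BasedFunctor.preserves_isHomLift y _ _
    have l2 : (SpQuotSt K G aX).p.IsHomLift (𝟙 T') ((spQuotMap K G aX).map i2.hom) := by
      change (SpQuotSt K G aX).p.IsHomLift ((SpQuotSt K G aX).p.map ((spQuotMap K G aX).map i2.hom)) _
      infer_instance
    have l3 : (SpQuotSt K G aX).p.IsHomLift (𝟙 T') (y.map i1.hom ≫ iso.hom) := inferInstance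
    have l5 : (SpQuotSt K G aX).p.IsHomLift (𝟙 T') (αIso y ξ).hom := αIso_lift y ξ
    have l4 : (SpQuotSt K G aX).p.IsHomLift (𝟙 T') ((αIso y ξ).hom ≫ (spQuotMap K G aX).map i2.hom) :=
      inferInstance
    apply Functor.IsStronglyCartesian.ext (SpQuotSt K G aX).p th k (𝟙 T')
    rw [Category.assoc, Category.assoc, e2, αIso_hom_triv]
    change y.map i1.hom ≫ iso.hom ≫ iso.inv ≫ mt y t = _
    rw [Iso.hom_inv_id_assoc]
    exact map_mt y i1.hom
  refine ⟨ξ, Groth.Agent.Lib.helper4.DiagBC.fpIsoMk y (spQuotMap K G aX) i1 i2 hw, ?_⟩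
  apply Groth.Agent.FibFp.lift_to
  change (overCat U).p.IsHomLift (𝟙 T') i1.hom
  change (overCat U).p.IsHomLift ((overCat U).p.map i1.hom) i1.hom
  infer_instance

theorem isEquivOver_fpLift : IsEquivOver (FibCat.fpLift (πF y) (φF y) (αNat y)) :=
  Groth.Agent.FibEquiv.isEquivOver_of _ (ess_surj y)

end Groth.Agent.Lib.helper4.SpQuot
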