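import Mathlib
import Groth.Agent.Lib.Helper5.FppfBoot4

/-!
# Being an algebraic space is fppf local on a representable target (helper4)

* `isAlgSpace_of_fppf_cover_target`: if `π : F ⟶ h_T` is a map of fppf sheaves and `t i : T i ⟶ T` is a jointly
  surjective family of flat, locally finitely presented morphisms of schemes such that every base change
  `F ×_{h_T} h_{T i}` is an algebraic space, then `F` is an algebraic space.
-/

set_option backward.isDefEq.respectTransparency false
set_option backward.isDefEq.respectTransparency.types false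
set_option autoImplicit false
set_option linter.style.haveILetI false
set_option linter.unusedSectionVars false
set_option linter.unusedVariables false

universe u

open AlgebraicGeometry CategoryTheory CategoryTheory.Limits

namespace Groth.Agent.Lib.helper4.SpTorsor

open AlgSp Groth.Agent.Lib.helper5.Coprod Groth.Agent.Lib.helper5.FppfBoot

variable {S : Scheme.{u}}

instance hasCoproducts_Sp {ι : Type u} (F : ι → Sp S) : HasCoproduct F := inferInstance

theorem isAlgSpace_of_fppf_cover_target {F : Sp S} {T : Over S} (π : F ⟶ (yon S).obj T)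
    {ι : Type u} (Ti : ι → Over S) (t : ∀ i, Ti i ⟶ T)
    (hfl : ∀ i, Flat (t i).left) (hfp : ∀ i, LocallyOfFinitePresentation (t i).left)
    (hsurj : ∀ x : ↥T.left, ∃ (i : ι) (y : ↥(Ti i).left), (t i).left.base y = x)
    (Fi : ι → Sp S) (a : ∀ i, Fi i ⟶ F) (q : ∀ i, Fi i ⟶ (yon S).obj (Ti i))
    (sq : ∀ i, IsPullback (a i) (q i) π ((yon S).map (t i)))
    (halg : ∀ i, IsAlgSpace (Fi i)) : IsAlgSpace F := by
  classical
  let c : Cofan Fi := Cofan.mk (∐ Fi) (Sigma.ι Fi)
  have hc : IsColimit c := coproductIsCoproduct Fi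
  have hcop : IsAlgSpace c.pt := isAlgSpace_cofan_pt Fi halg c hc
  let p : c.pt ⟶ F := Cofan.IsColimit.desc hc a
  have hp_inj : ∀ i, c.inj i ≫ p = a i := fun i => Cofan.IsColimit.fac hc _ i
  refine isAlgSpace_of_repBySpWith_fppf hcop p ?_
  intro T' ξ F' fst snd sq'
  -- the morphism of schemes `T' ⟶ T`
  let τ : T' ⟶ T := (yon S).preimage (ξ ≫ π)
  have hτ : (yon S).map τ = ξ ≫ π := Functor.map_preimage _ _
  -- the pieces `T'_i = T_i ×_T T'`
  let T'i : ι → Over S := fun i => Limits.pullback (t i) τ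
  let π₁ : ∀ i, T'i i ⟶ Ti i := fun i => pullback.fst (t i) τ
  let π₂ : ∀ i, T'i i ⟶ T' := fun i => pullback.snd (t i) τ
  have hO : ∀ i, IsPullback (π₁ i) (π₂ i) (t i) τ := fun i => IsPullback.of_hasPullback _ _
  have hY : ∀ i, IsPullback ((yon S).map (π₁ i)) ((yon S).map (π₂ i)) ((yon S).map (t i)) ((yon S).map τ) :=
    fun i => (hO i).map (yon S)
  -- the map `h_{T'_i} ⟶ F_i`
  have wb : ∀ i, ((yon S).map (π₂ i) ≫ ξ) ≫ π = (yon S).map (π₁ i) ≫ (yon S).map (t i) := by
    intro i
    rw [Category.assoc, ← hτ, (hY i).w]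
  let b : ∀ i, (yon S).obj (T'i i) ⟶ Fi i := fun i =>
    (sq i).lift ((yon S).map (π₂ i) ≫ ξ) ((yon S).map (π₁ i)) (wb i)
  have hb1 : ∀ i, b i ≫ a i = (yon S).map (π₂ i) ≫ ξ := fun i => (sq i).lift_fst _ _ _
  have hb2 : ∀ i, b i ≫ q i = (yon S).map (π₁ i) := fun i => (sq i).lift_snd _ _ _
  have wa : ∀ i, (b i ≫ c.inj i) ≫ p = (yon S).map (π₂ i) ≫ ξ := by
    intro i
    rw [Category.assoc, hp_inj, hb1]
  let a' : ∀ i, (yon S).obj (T'i i) ⟶ F' := fun i => sq'.lift (b i ≫ c.inj i) ((yon S).map (π₂ i)) (wa i)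
  have ha1 : ∀ i, a' i ≫ fst = b i ≫ c.inj i := fun i => sq'.lift_fst _ _ _
  have ha2 : ∀ i, a' i ≫ snd = (yon S).map (π₂ i) := fun i => sq'.lift_snd _ _ _
  have sqi : ∀ i, IsPullback (a' i) (b i) fst (c.inj i) := by
    intro i
    apply Groth.Agent.Lib.helper5.isPullback_of_exists_lift (ha1 i)
    · intro Z x y hxy
      -- `x : Z ⟶ F'`, `y : Z ⟶ F_i`
      have w1 : (y ≫ q i) ≫ (yon S).map (t i) = (x ≫ snd) ≫ (yon S).map τ := by
        rw [Category.assoc, ← (sq i).w, ← Category.assoc, ← hp_inj i, ← Category.assoc,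
          ← hxy, hτ]
        simp only [Category.assoc]
        rw [← Category.assoc fst, sq'.w, Category.assoc]
      let l : Z ⟶ (yon S).obj (T'i i) := (hY i).lift (y ≫ q i) (x ≫ snd) w1
      have hl1 : l ≫ (yon S).map (π₁ i) = y ≫ q i := (hY i).lift_fst _ _ _
      have hl2 : l ≫ (yon S).map (π₂ i) = x ≫ snd := (hY i).lift_snd _ _ _
      have hlb : l ≫ b i = y := by
        apply (sq i).hom_ext
        · rw [Category.assoc, hb1, ← Category.assoc, hl2, Category.assoc, ← sq'.w,
            ← Category.assoc, hxy, Category.assoc, hp_inj]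
        · rw [Category.assoc, hb2, hl1]
      refine ⟨l, ?_, hlb⟩
      apply sq'.hom_ext
      · rw [Category.assoc, ha1, ← Category.assoc, hlb, hxy]
      · rw [Category.assoc, ha2, hl2]
    · intro Z l l' h1 h2
      apply (hY i).hom_ext
      · have := congrArg (fun k => k ≫ q i) h2
        simpa only [Category.assoc, hb2] using this
      · have := congrArg (fun k => k ≫ snd) h1
        simpa only [Category.assoc, ha2] using this
  obtain ⟨hQ⟩ := nonempty_isColimit_of_isPullback' _ c hc fst (fun i => (yon S).obj (T'i i)) a' b sqi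
  let hYon := isColimitYonSigma T'i
  let e := hYon.coconePointUniqueUpToIso hQ
  have he : ∀ i, (yon S).map (sigmaOverι T'i i) ≫ e.hom = a' i :=
    fun i => hYon.comp_coconePointUniqueUpToIso_hom hQ ⟨i⟩
  let d : sigmaOver T'i ⟶ T' := sigmaOverDesc T'i π₂
  have hed : e.hom ≫ snd = (yon S).map d := by
    apply hYon.hom_ext
    rintro ⟨i⟩
    simp only [Cofan.mk_pt, Cofan.mk_ι_app]
    rw [← Category.assoc, he i, ha2, ← Functor.map_comp, sigmaOverι_desc]
  -- properties of `d`
  have hπ₂pb : ∀ i, IsPullback (π₁ i).left (π₂ i).left (t i).left τ.left :=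
    fun i => (hO i).map (Over.forget S)
  haveI hπf : ∀ i, Flat (π₂ i).left := fun i =>
    MorphismProperty.of_isPullback (P := @Flat) (hπ₂pb i) (hfl i)
  haveI hπl : ∀ i, LocallyOfFinitePresentation (π₂ i).left := fun i =>
    MorphismProperty.of_isPullback (P := @LocallyOfFinitePresentation) (hπ₂pb i) (hfp i)
  haveI : Flat d.left := by
    change Flat (Sigma.desc (fun i => (π₂ i).left))
    infer_instance
  haveI : LocallyOfFinitePresentation d.left := by
    change LocallyOfFinitePresentation (Sigma.desc (fun i => (π₂ i).left))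
    exact IsZariskiLocalAtSource.sigmaDesc (fun i => hπl i)
  haveI : Surjective d.left := by
    refine ⟨fun t' => ?_⟩
    obtain ⟨i, y, hy⟩ := hsurj (τ.left t')
    obtain ⟨z0, -, hz2⟩ := Scheme.Pullback.exists_preimage_pullback
      (f := (t i).left) (g := τ.left) y t' hy
    have hz2' : (π₂ i).left ((hπ₂pb i).isoPullback.inv z0) = t' := by
      rw [← Scheme.Hom.comp_apply, IsPullback.isoPullback_inv_snd]
      exact hz2
    refine ⟨(Sigma.ι (fun i => (T'i i).left) i) ((hπ₂pb i).isoPullback.inv z0), ?_⟩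
    change (Sigma.desc (fun i => (π₂ i).left)) ((Sigma.ι (fun i => (T'i i).left) i) _) = t'
    rw [← Scheme.Hom.comp_apply, Sigma.ι_desc]
    exact hz2'
  exact fppf_of_iso_yon e snd d hed

end Groth.Agent.Lib.helper4.SpTorsor
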