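import Mathlib
import Groth.Agent.Lib.Helper4.SpQuot5
import Groth.Agent.Lib.Helper4.SpTorsor1
import Groth.Agent.Lib.Helper4.QuotSt5
import Groth.Agent.Lib.Helper4.AlgStDescentFam
import Groth.Agent.Lib.Helper5.AlgSpFibreProduct

/-!
# Sheaf torsors under a group algebraic space are algebraic spaces; `X ⟶ [X/G]` is representable (helper4)
-/

set_option backward.isDefEq.respectTransparency false
set_option backward.isDefEq.respectTransparency.types false
set_option autoImplicit false
set_option linter.style.haveILetI false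
set_option linter.unusedSectionVars false
set_option linter.unusedVariables false
set_option linter.unusedSimpArgs false

universe u

open CategoryTheory CategoryTheory.Limits MonoidalCategory CartesianMonoidalCategory MonObj GrpObj AlgebraicGeometry
open AlgSt Opposite FibCat

namespace Groth.Agent.Lib.helper4.SpQuot

variable {S : Scheme.{u}} {B : AlgSp.Sp S} {G : Over B} [GrpObj G] {X : Over B}
  {aX : AlgSp.GAction G X}

/-- a covering family of the base of a torsor over the members of which the torsor has sections -/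
theorem exists_cover (A : SpQuotObj Scheme.fppfPrecoverage G aX) :
    ∃ (Ti : A.base.left → Over S) (ft : ∀ t, Ti t ⟶ A.base), (∀ t, Flat (ft t).left) ∧
      (∀ t, LocallyOfFinitePresentation (ft t).left) ∧
      (∀ x : A.base.left, ∃ (t : A.base.left) (z : (Ti t).left), (ft t).left.base z = x) ∧
      ∀ t, ∃ s : (AlgSp.yon S).obj (Ti t) ⟶ A.P.left, s ≫ A.π.left = (AlgSp.yon S).map (ft t) := by
  obtain ⟨R, hR, hsec⟩ := A.loc
  obtain ⟨𝒰, rfl⟩ := R.exists_eq_preZeroHypercover
  unfold AlgebraicGeometry.Scheme.fppfPrecoverage at hR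
  rw [Scheme.ofArrows_mem_precoverage_iff] at hR
  choose i hi using hR.1
  refine ⟨fun t => Over.mk (𝒰.f (i t) ≫ A.base.hom), fun t => Over.homMk (𝒰.f (i t)) rfl,
    fun t => (hR.2 (i t)).1, fun t => (hR.2 (i t)).2, fun x => ?_, fun t => ?_⟩
  · obtain ⟨z, hz⟩ := hi x
    exact ⟨x, z, hz⟩
  · exact hsec (𝒰.f (i t)) (Presieve.ofArrows.mk (i t))

omit [GrpObj G] in
/-- the trivial torsor over a scheme is the fibre product `G ×_B h_T` -/
theorem isPullback_fst_snd_left (T : Over B) :
    IsPullback (fst G T).left (snd G T).left G.hom T.hom := by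
  have sq := (isPullback_fst_snd' G T).map (Over.forget B)
  have e1 : (Over.forget B).map (toUnit G) = G.hom := by
    have := Over.w (toUnit G)
    simpa using this
  have e2 : (Over.forget B).map (toUnit T) = T.hom := by
    have := Over.w (toUnit T)
    simpa using this
  rw [e1, e2] at sq
  exact sq

omit [GrpObj G] in
theorem isAlgSpace_tensor (hB : AlgSp.IsAlgSpace B) (hG : AlgSp.IsAlgSpace G.left) {T : Over S}
    (b : (AlgSp.yon S).obj T ⟶ B) : AlgSp.IsAlgSpace (G ⊗ Over.mk b).left :=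
  Groth.Agent.Lib.helper5.isAlgSpace_of_isPullback hB.diag hG (AlgSp.IsAlgSpace.yon_obj T)
    (isPullback_fst_snd_left (G := G) (Over.mk b))

/-- the cartesian square of the trivialisation given by a section, in sheaves -/
theorem isPullback_triv_left {K : Precoverage Scheme.{u}} (A : SpQuotObj K G aX) {T : Over B} (s : T ⟶ A.P) :
    IsPullback ((G ◁ s) ≫ A.act.act).left (snd G T).left A.π.left (s ≫ A.π).left :=
  ((isPullback_whiskerLeft' (G := G) s).paste_horiz A.cart).map (Over.forget B)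

/-- **Sheaf torsors under a group algebraic space over an algebraic space are algebraic spaces** -/
theorem isAlgSpace_torsor (hB : AlgSp.IsAlgSpace B) (hG : AlgSp.IsAlgSpace G.left)
    (A : SpQuotObj Scheme.fppfPrecoverage G aX) : AlgSp.IsAlgSpace A.P.left := by
  obtain ⟨Ti, ft, h1, h2, h3, hs⟩ := exists_cover A
  choose s hs using hs
  let s' : ∀ t, Over.mk (s t ≫ A.P.hom) ⟶ A.P := fun t => Over.homMk (s t) rfl
  refine Groth.Agent.Lib.helper4.SpTorsor.isAlgSpace_of_fppf_cover_target A.π.left Ti ft h1 h2 h3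
    (fun t => (G ⊗ Over.mk (s t ≫ A.P.hom)).left) (fun t => ((G ◁ s' t) ≫ A.act.act).left)
    (fun t => (snd G (Over.mk (s t ≫ A.P.hom))).left) (fun t => ?_)
    (fun t => isAlgSpace_tensor hB hG _)
  have sq := isPullback_triv_left A (s' t)
  have e : (s' t ≫ A.π).left = (AlgSp.yon S).map (ft t) := hs t
  rw [e] at sq
  exact sq

/-- a property of `G ⟶ B`, stable under base change and fppf local on the base, holds for the structure map
of every sheaf torsor -/
theorem prop_π (hB : AlgSp.IsAlgSpace B) (hG : AlgSp.IsAlgSpace G.left)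
    (P : MorphismProperty (AlgSp.Sp S))
    (hPb : ∀ ⦃X₁ Y₁ X₂ Y₂ : AlgSp.Sp S⦄, AlgSp.IsAlgSpace X₁ → AlgSp.IsAlgSpace Y₁ → AlgSp.IsAlgSpace X₂ →
      AlgSp.IsAlgSpace Y₂ → ∀ (a : X₁ ⟶ Y₁) (b : Y₂ ⟶ Y₁) (a' : X₂ ⟶ Y₂) (b' : X₂ ⟶ X₁),
      IsPullback b' a' a b → P a → P a')
    (hP : AlgSp.IsLocalOnBase AlgSp.IsFppfCover P) (hPG : P G.hom)
    (A : SpQuotObj Scheme.fppfPrecoverage G aX) : P A.π.left := by
  obtain ⟨Ti, ft, h1, h2, h3, hs⟩ := exists_cover A
  choose s hs using hs
  let s' : ∀ t, Over.mk (s t ≫ A.P.hom) ⟶ A.P := fun t => Over.homMk (s t) rfl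
  have hcov := Groth.Agent.Lib.helper4.AlgStDescentFam.isFppfCover_of_family Ti ft h1 h2
    (fun x => by obtain ⟨t, z, hz⟩ := h3 x; exact ⟨t, z, hz⟩)
  refine (hP (fun t => (AlgSp.yon S).obj (Ti t)) (fun t => (AlgSp.yon S).map (ft t))
    (AlgSp.IsAlgSpace.yon_obj A.base) (fun t => AlgSp.IsAlgSpace.yon_obj (Ti t)) hcov
    A.π.left (isAlgSpace_torsor hB hG A) (fun t => (G ⊗ Over.mk (s t ≫ A.P.hom)).left)
    (fun t => (snd G (Over.mk (s t ≫ A.P.hom))).left) (fun t => ((G ◁ s' t) ≫ A.act.act).left)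
    (fun t => isAlgSpace_tensor hB hG _) (fun t => ?_)).2 (fun t => ?_)
  · have sq := isPullback_triv_left A (s' t)
    have e : (s' t ≫ A.π).left = (AlgSp.yon S).map (ft t) := hs t
    rw [e] at sq
    exact sq
  · exact hPb hG hB (isAlgSpace_tensor hB hG _) (AlgSp.IsAlgSpace.yon_obj (Ti t)) G.hom
      (s t ≫ A.P.hom) _ _ (isPullback_fst_snd_left (G := G) (Over.mk (s t ≫ A.P.hom))) hPG

section Rep

variable {U : Over S} (y : FibCat.overCat U ⥤ᵇ SpQuotSt Scheme.fppfPrecoverage G aX)

theorem spMapOfOver_πF : spMapOfOver (πF y) = πU y := by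
  unfold πF
  rw [Groth.Agent.Lib.helper4.AlgStLocQ.spMapOfOver_ofSpMap_comp,
    Groth.Agent.Lib.helper4.QuotSt5.spMapOfOver_toOverCat, Category.comp_id]

theorem fpLift_fst : BasedFunctor.comp (FibCat.fpLift (πF y) (φF y) (αNat y))
    (FibCat.fpFst y (spQuotMap Scheme.fppfPrecoverage G aX)) = πF y := rfl

end Rep

/-- the general statement: the canonical map is representable with every property of sheaf maps that holds
for the structure maps of the torsors -/
theorem repByAlgSpWith_spQuotMap (hB : AlgSp.IsAlgSpace B) (hG : AlgSp.IsAlgSpace G.left)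
    (Q : MorphismProperty (AlgSp.Sp S))
    (hQ : ∀ {U : Over S} (y : FibCat.overCat U ⥤ᵇ SpQuotSt Scheme.fppfPrecoverage G aX), Q (πU y)) :
    AlgSt.RepByAlgSpWith Q (spQuotMap Scheme.fppfPrecoverage G aX) := by
  intro U y
  refine ⟨⟨(A₀ y).P.left, isAlgSpace_torsor hB hG (A₀ y)⟩,
    FibCat.fpLift (πF y) (φF y) (αNat y), isEquivOver_fpLift y, ?_⟩
  rw [fpLift_fst, spMapOfOver_πF]
  exact hQ y

/-- transport along the identification of the base -/
theorem πU_of_π (Q : MorphismProperty (AlgSp.Sp S)) [Q.RespectsIso] {U : Over S}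
    (y : FibCat.overCat U ⥤ᵇ SpQuotSt Scheme.fppfPrecoverage G aX) (h : Q (A₀ y).π.left) : Q (πU y) := by
  unfold πU
  have : IsIso ((AlgSp.yon S).map (eqToHom (hU y))) := inferInstance
  exact (Q.cancel_right_of_respectsIso _ _).2 h

end Groth.Agent.Lib.helper4.SpQuot
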