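import Mathlib
import Groth.Agent.Lib.Helper4.SpQuot3

/-!
# Pullbacks of sheaf torsors: `[X/G]` is fibred in groupoids (helper4)
-/

set_option backward.isDefEq.respectTransparency false
set_option backward.isDefEq.respectTransparency.types false
set_option autoImplicit false
set_option linter.style.haveILetI false
set_option linter.unusedSectionVars false
set_option linter.unusedVariables false
set_option linter.unusedSimpArgs false

universe u

open CategoryTheory CategoryTheory.Limits MonoidalCategory CartesianMonoidalCategory MonObj GrpObj AlgebraicGeometry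
open AlgSt Opposite

namespace Groth.Agent.Lib.helper4.SpQuot

variable {S : Scheme.{u}} {K : Precoverage Scheme.{u}} {B : AlgSp.Sp S} {G : Over B} [GrpObj G] {X : Over B}
  {aX : AlgSp.GAction G X}

section Pullback

variable (A : SpQuotObj K G aX) {V : Over S} (f : V ⟶ A.base)

/-- the section of `B` over the new base -/
noncomputable abbrev pbB : (AlgSp.yon S).obj V ⟶ B := (AlgSp.yon S).map f ≫ A.b

/-- the map of bases over `B` -/
noncomputable abbrev pbBase : Over.mk (pbB A f) ⟶ Over.mk A.b := bHom f rfl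

/-- the pulled back torsor -/
noncomputable def pbP : Over B := Limits.pullback A.π (pbBase A f)

noncomputable def pbTop : pbP A f ⟶ A.P := pullback.fst _ _

noncomputable def pbπ : pbP A f ⟶ Over.mk (pbB A f) := pullback.snd _ _

theorem pb_sq : IsPullback (pbTop A f) (pbπ A f) A.π (pbBase A f) := IsPullback.of_hasPullback _ _

theorem pbAct_aux : ((G ◁ pbTop A f) ≫ A.act.act) ≫ A.π = (snd G (pbP A f) ≫ pbπ A f) ≫ pbBase A f := by
  rw [Category.assoc, A.cart.w, whiskerLeft_snd_assoc, Category.assoc, (pb_sq A f).w]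

noncomputable def pbAct : G ⊗ pbP A f ⟶ pbP A f :=
  (pb_sq A f).lift ((G ◁ pbTop A f) ≫ A.act.act) (snd G (pbP A f) ≫ pbπ A f) (pbAct_aux A f)

@[reassoc (attr := simp)]
theorem pbAct_top : pbAct A f ≫ pbTop A f = (G ◁ pbTop A f) ≫ A.act.act := (pb_sq A f).lift_fst _ _ _

@[reassoc (attr := simp)]
theorem pbAct_π : pbAct A f ≫ pbπ A f = snd G (pbP A f) ≫ pbπ A f := (pb_sq A f).lift_snd _ _ _

noncomputable def pbGAction : AlgSp.GAction G (pbP A f) where
  act := pbAct A f
  one_act := by
    apply (pb_sq A f).hom_ext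
    · rw [Category.assoc, pbAct_top, ← whisker_exchange_assoc, A.act.one_act, leftUnitor_naturality]
    · rw [Category.assoc, pbAct_π, whiskerRight_snd_assoc, leftUnitor_hom]
  mul_act := by
    apply (pb_sq A f).hom_ext
    · simp only [Category.assoc, pbAct_top]
      rw [← whisker_exchange_assoc, A.act.mul_act, ← MonoidalCategory.whiskerLeft_comp_assoc, pbAct_top,
        MonoidalCategory.whiskerLeft_comp, Category.assoc, associator_naturality_right_assoc]
    · simp only [Category.assoc, pbAct_π]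
      rw [whiskerRight_snd_assoc, whiskerLeft_snd_assoc, pbAct_π, associator_hom_snd_snd_assoc]

theorem pb_cart : IsPullback (pbAct A f) (snd G (pbP A f)) (pbπ A f) (pbπ A f) := by
  refine IsPullback.of_right ?_ (pbAct_π A f) (pb_sq A f)
  rw [pbAct_top, ← (pb_sq A f).w]
  exact (isPullback_whiskerLeft' (G := G) (pbTop A f)).paste_horiz A.cart

theorem pb_sq_left :
    IsPullback (pbTop A f).left (pbπ A f).left A.π.left ((AlgSp.yon S).map f) :=
  (pb_sq A f).map (Over.forget B)

variable [K.IsStableUnderBaseChange]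

theorem pb_loc : HasSecLoc K (pbπ A f).left := by
  obtain ⟨R, hR, hsec⟩ := A.loc
  obtain ⟨𝒰, rfl⟩ := R.exists_eq_preZeroHypercover
  let Pi : 𝒰.I₀ → Scheme.{u} := fun i => Limits.pullback f.left (𝒰.f i)
  let p₁ : ∀ i, Pi i ⟶ V.left := fun i => pullback.fst _ _
  let p₂ : ∀ i, Pi i ⟶ 𝒰.X i := fun i => pullback.snd _ _
  have hcov : Presieve.ofArrows Pi p₁ ∈ K V.left :=
    Precoverage.IsStableUnderBaseChange.mem_coverings_of_isPullback 𝒰.f hR f.left p₁ p₂
      (fun i => IsPullback.of_hasPullback _ _)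
  refine ⟨Presieve.ofArrows Pi p₁, hcov, ?_⟩
  rintro T' g' ⟨i⟩
  obtain ⟨s, hs⟩ := hsec (𝒰.f i) (Presieve.ofArrows.mk i)
  have hw : p₂ i ≫ 𝒰.f i ≫ A.base.hom = p₁ i ≫ V.hom := by
    rw [← Category.assoc, ← pullback.condition, Category.assoc, Over.w f]
  let q₂ : Over.mk (p₁ i ≫ V.hom) ⟶ Over.mk (𝒰.f i ≫ A.base.hom) := Over.homMk (p₂ i) hw
  let q₁ : Over.mk (p₁ i ≫ V.hom) ⟶ V := Over.homMk (p₁ i) rfl
  have hq : q₂ ≫ (Over.homMk (𝒰.f i) rfl : Over.mk (𝒰.f i ≫ A.base.hom) ⟶ A.base) = q₁ ≫ f := by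
    apply Over.OverMorphism.ext
    exact pullback.condition.symm
  refine ⟨(pb_sq_left A f).lift ((AlgSp.yon S).map q₂ ≫ s) ((AlgSp.yon S).map q₁) ?_, ?_⟩
  · rw [Category.assoc, hs, ← Functor.map_comp, ← Functor.map_comp, hq]
  · exact (pb_sq_left A f).lift_snd _ _ _

/-- the pull back of a torsor along a morphism of schemes -/
noncomputable def pbObj : SpQuotObj K G aX where
  base := V
  b := pbB A f
  P := pbP A f
  act := pbGAction A f
  π := pbπ A f
  cart := pb_cart A f
  loc := pb_loc A f
  φ := pbTop A f ≫ A.φ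
  eqv := by
    change pbAct A f ≫ pbTop A f ≫ A.φ = _
    rw [pbAct_top_assoc, A.eqv, MonoidalCategory.whiskerLeft_comp, Category.assoc]

/-- the cartesian morphism from the pull back -/
noncomputable def pbHom : pbObj A f ⟶ A where
  base := f
  wb := rfl
  top := pbTop A f
  eqv := pbAct_top A f
  cart := pb_sq A f
  wφ := rfl

instance pbHom_lift : (SpQuotSt K G aX).p.IsHomLift f (pbHom A f) := by
  change (SpQuotSt K G aX).p.IsHomLift ((SpQuotSt K G aX).p.map (pbHom A f)) (pbHom A f)
  infer_instance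

end Pullback

/-- `[X/G]` (sheaf torsors) is fibred in groupoids -/
theorem isFibGrpd_spQuotSt [K.IsStableUnderBaseChange] : FibCat.IsFibGrpd (SpQuotSt K G aX).p where
  exists_lift := fun {x V} f => ⟨pbObj x f, pbHom x f, pbHom_lift x f⟩
  isStronglyCartesian := fun {y x} φ => inferInstance

end Groth.Agent.Lib.helper4.SpQuot
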