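import Mathlib
import Groth.Agent.Lib.Helper4.SpQuot8
import Groth.Agent.Lib.Helper4.SpQuot6
import Groth.Agent.Lib.Helper4.SpYon

/-!
# Sheaf torsors: the action is free and transitive on points; equivariant maps are cartesian (helper4)
-/

set_option backward.isDefEq.respectTransparency false
set_option backward.isDefEq.respectTransparency.types false
set_option autoImplicit false
set_option linter.style.haveILetI false
set_option linter.unusedSectionVars false
set_option linter.unusedVariables false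
set_option linter.unusedSimpArgs false

universe u

open CategoryTheory CategoryTheory.Limits MonoidalCategory CartesianMonoidalCategory MonObj GrpObj AlgebraicGeometry
open AlgSt Opposite

namespace Groth.Agent.Lib.helper4.SpQuot

open Groth.Agent.Lib.helper4.SpYon

variable {S : Scheme.{u}} {K : Precoverage Scheme.{u}} {B : AlgSp.Sp S} {G : Over B} [GrpObj G] {X : Over B}
  {aX : AlgSp.GAction G X}

section Points

variable (A : SpQuotObj K G aX) {Z : Over B}

theorem lift_one_act (p : Z ⟶ A.P) : lift (1 : Z ⟶ G) p ≫ A.act.act = p := by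
  have h := act_one A.act.act A.act.one_act p
  have e : esec G Z ≫ (G ◁ p) = lift (1 : Z ⟶ G) p := by
    apply CartesianMonoidalCategory.hom_ext
    · simp only [esec, Category.assoc, whiskerLeft_fst, lift_fst, one_eq]
    · simp only [esec, Category.assoc, whiskerLeft_snd, lift_snd, lift_snd_assoc, Category.id_comp]
  rw [← e, Category.assoc]
  exact h

/-- transitivity -/
theorem exists_act (p₁ p₂ : Z ⟶ A.P) (h : p₁ ≫ A.π = p₂ ≫ A.π) :
    ∃ gm : Z ⟶ G, lift gm p₂ ≫ A.act.act = p₁ := by
  refine ⟨A.cart.lift p₁ p₂ h ≫ fst G A.P, ?_⟩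
  have e : lift (A.cart.lift p₁ p₂ h ≫ fst G A.P) p₂ = A.cart.lift p₁ p₂ h := by
    apply CartesianMonoidalCategory.hom_ext
    · rw [lift_fst]
    · rw [lift_snd, A.cart.lift_snd]
  rw [e, A.cart.lift_fst]

/-- freeness -/
theorem act_cancel (gm gm' : Z ⟶ G) (p : Z ⟶ A.P) (h : lift gm p ≫ A.act.act = lift gm' p ≫ A.act.act) :
    gm = gm' := by
  have e : lift gm p = lift gm' p := by
    apply A.cart.hom_ext
    · exact h
    · rw [lift_snd, lift_snd]
  have := congrArg (fun k => k ≫ fst G A.P) e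
  simpa using this

theorem act_free (gm : Z ⟶ G) (p : Z ⟶ A.P) (h : lift gm p ≫ A.act.act = p) : gm = 1 :=
  act_cancel A gm 1 p (h.trans (lift_one_act A p).symm)

theorem act_π (gm : Z ⟶ G) (p : Z ⟶ A.P) : (lift gm p ≫ A.act.act) ≫ A.π = p ≫ A.π := by
  rw [Category.assoc, A.cart.w, lift_snd_assoc]

end Points

/-- the sieve of the morphisms to the base of a torsor over which the torsor has a section -/
def secSieve (A : SpQuotObj K G aX) : Sieve A.base where
  arrows := fun T' k => ∃ σ : (AlgSp.yon S).obj T' ⟶ A.P.left, σ ≫ A.π.left = (AlgSp.yon S).map k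
  downward_closed := by
    rintro T' T'' k ⟨σ, hσ⟩ k'
    exact ⟨(AlgSp.yon S).map k' ≫ σ, by rw [Category.assoc, hσ, ← Functor.map_comp]⟩

theorem secSieve_mem (A : SpQuotObj Scheme.fppfPrecoverage G aX) : secSieve A ∈ (AlgSp.J S) A.base := by
  obtain ⟨Ti, ft, h1, h2, h3, hs⟩ := exists_cover A
  refine (AlgSp.J S).superset_covering ?_
    (Groth.Agent.S10510.cover_mem_family Ti ft h1 h2 (fun x => by
      obtain ⟨t, z, hz⟩ := h3 x
      exact ⟨t, z, hz⟩))
  rintro T' k ⟨W, a, b, ⟨t⟩, rfl⟩
  obtain ⟨σ, hσ⟩ := hs t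
  exact (secSieve A).downward_closed ⟨σ, hσ⟩ a

/-- a point of a sheaf over `B`, from a point of its underlying sheaf -/
noncomputable abbrev ptOver {P : Over B} {T : Over S} (l : (AlgSp.yon S).obj T ⟶ P.left) :
    Over.mk (l ≫ P.hom) ⟶ P := Over.homMk l rfl

section Cart

variable {A A' : SpQuotObj Scheme.fppfPrecoverage G aX} (g : A.base ⟶ A'.base)
  (wb : (AlgSp.yon S).map g ≫ A'.b = A.b) (top : A.P ⟶ A'.P)
  (heqv : A.act.act ≫ top = (G ◁ top) ≫ A'.act.act)
  (hπ : top ≫ A'.π = A.π ≫ bHom g wb)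
include heqv hπ

theorem lift_act_top {Z : Over B} (gm : Z ⟶ G) (p : Z ⟶ A.P) :
    (lift gm p ≫ A.act.act) ≫ top = lift gm (p ≫ top) ≫ A'.act.act := by
  rw [Category.assoc, heqv, ← Category.assoc]
  congr 1
  apply CartesianMonoidalCategory.hom_ext
  · simp only [Category.assoc, whiskerLeft_fst, lift_fst]
  · simp only [Category.assoc, whiskerLeft_snd, lift_snd, lift_snd_assoc]

/-- an equivariant map of torsors is injective on points over the same point of the base -/
theorem top_injective {Z : Over B} (p₁ p₂ : Z ⟶ A.P) (h1 : p₁ ≫ top = p₂ ≫ top)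
    (h2 : p₁ ≫ A.π = p₂ ≫ A.π) : p₁ = p₂ := by
  obtain ⟨gm, hgm⟩ := exists_act A p₁ p₂ h2
  have h3 : lift gm (p₂ ≫ top) ≫ A'.act.act = p₂ ≫ top := by
    rw [← lift_act_top g wb top heqv hπ, hgm, h1]
  have h4 : gm = 1 := act_free A' gm (p₂ ≫ top) h3
  rw [← hgm, h4, lift_one_act]

theorem top_injective_left {T : Over S} (l l' : (AlgSp.yon S).obj T ⟶ A.P.left)
    (h1 : l ≫ top.left = l' ≫ top.left) (h2 : l ≫ A.π.left = l' ≫ A.π.left) : l = l' := by
  have hb : l ≫ A.P.hom = l' ≫ A.P.hom := by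
    have e : A.π.left ≫ A.b = A.P.hom := Over.w A.π
    rw [← e, ← Category.assoc, h2, Category.assoc]
  let p₁ : Over.mk (l ≫ A.P.hom) ⟶ A.P := Over.homMk l rfl
  let p₂ : Over.mk (l ≫ A.P.hom) ⟶ A.P := Over.homMk l' hb.symm
  have := top_injective g wb top heqv hπ p₁ p₂ (by
    apply Over.OverMorphism.ext
    exact h1) (by
    apply Over.OverMorphism.ext
    exact h2)
  exact congrArg (fun m => m.left) this

/-- an equivariant map of torsors over a map of bases is cartesian -/
theorem cart_of_eqv : IsPullback top A.π A'.π (bHom g wb) := by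
  have hcomm : top ≫ A'.π = A.π ≫ bHom g wb := hπ
  refine IsPullback.of_map (Over.forget B) hcomm ?_
  change IsPullback top.left A.π.left A'.π.left ((AlgSp.yon S).map g)
  have hw : top.left ≫ A'.π.left = A.π.left ≫ (AlgSp.yon S).map g := congrArg (fun m => m.left) hπ
  refine isPullback_of_yon hw ?_ (fun T l l' h1 h2 => top_injective_left g wb top heqv hπ l l' h1 h2)
  intro T a b hab
  obtain ⟨t, rfl⟩ := (AlgSp.yon S).map_surjective b
  -- local lifts
  have hloc : ∀ ⦃T' : Over S⦄ (k : T' ⟶ T), (secSieve A).pullback t k →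
      ∃ l : (AlgSp.yon S).obj T' ⟶ A.P.left, l ≫ top.left = (AlgSp.yon S).map k ≫ a ∧
        l ≫ A.π.left = (AlgSp.yon S).map (k ≫ t) := by
    rintro T' k ⟨σ, hσ⟩
    -- `σ` is a section of `A` over `k ≫ t`
    have hb1 : (σ ≫ top.left) ≫ A'.P.hom = σ ≫ A.P.hom := by
      rw [Category.assoc, Over.w top]
    let q₁ : Over.mk (σ ≫ A.P.hom) ⟶ A'.P := Over.homMk ((AlgSp.yon S).map k ≫ a) (by
      change ((AlgSp.yon S).map k ≫ a) ≫ A'.P.hom = σ ≫ A.P.hom
      have e1 : A'.π.left ≫ A'.b = A'.P.hom := Over.w A'.π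
      have e2 : A.π.left ≫ A.b = A.P.hom := Over.w A.π
      rw [← e1, ← e2, Category.assoc, ← Category.assoc a, hab, ← Category.assoc σ, hσ, ← wb]
      simp only [Functor.map_comp, Category.assoc])
    let q₂ : Over.mk (σ ≫ A.P.hom) ⟶ A'.P := ptOver σ ≫ top
    have hq : q₁ ≫ A'.π = q₂ ≫ A'.π := by
      apply Over.OverMorphism.ext
      change ((AlgSp.yon S).map k ≫ a) ≫ A'.π.left = (σ ≫ top.left) ≫ A'.π.left
      rw [Category.assoc, hab, Category.assoc, hw, ← Category.assoc σ, hσ]
      simp only [Functor.map_comp, Category.assoc]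
    obtain ⟨gm, hgm⟩ := exists_act A' q₁ q₂ hq
    refine ⟨(lift gm (ptOver σ) ≫ A.act.act).left, ?_, ?_⟩
    · have h1 := lift_act_top g wb top heqv hπ gm (ptOver σ)
      have h2 := congrArg (fun m => m.left) (h1.trans hgm)
      exact h2
    · have h1 := congrArg (fun m => m.left) (act_π A gm (ptOver σ))
      exact h1.trans hσ
  choose l hl1 hl2 using hloc
  have hR : (secSieve A).pullback t ∈ (AlgSp.J S) T := (AlgSp.J S).pullback_stable t (secSieve_mem A)
  obtain ⟨m, hm⟩ := yon_glue ((secSieve A).pullback t) hR l (by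
    intro T' T'' k hk k'
    apply top_injective_left g wb top heqv hπ
    · rw [Category.assoc, hl1, hl1, Functor.map_comp, Category.assoc]
    · rw [Category.assoc, hl2, hl2, ← Functor.map_comp, Category.assoc])
  refine ⟨m, ?_, ?_⟩
  · apply yon_hom_ext_of_cover _ _ _ hR
    intro T' k hk
    rw [← Category.assoc, hm k hk, hl1]
  · apply yon_hom_ext_of_cover _ _ _ hR
    intro T' k hk
    rw [← Category.assoc, hm k hk, hl2, Functor.map_comp]

end Cart

end Groth.Agent.Lib.helper4.SpQuot
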