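import Mathlib
import Groth.Agent.Lib.Helper4.SpQuot9
import Groth.Agent.Lib.Helper4.SpYon2
import Groth.Agent.Lib.Helper27.StkElem1

/-!
# `[X/G]` (sheaf torsors, fppf) is a prestack: separation and gluing of morphisms (helper4)
-/

set_option backward.isDefEq.respectTransparency false
set_option backward.isDefEq.respectTransparency.types false
set_option autoImplicit false
set_option linter.style.haveILetI false
set_option linter.unusedSectionVars false
set_option linter.unusedVariables false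
set_option linter.unusedSimpArgs false

universe u

open CategoryTheory CategoryTheory.Limits MonoidalCategory CartesianMonoidalCategory MonObj GrpObj AlgebraicGeometry
open AlgSt Opposite

namespace Groth.Agent.Lib.helper4.SpQuot

open Groth.Agent.Lib.helper4.SpYon Groth.Agent.Lib.helper27.StkElem1

variable {S : Scheme.{u}} {K : Precoverage Scheme.{u}} {B : AlgSp.Sp S} {G : Over B} [GrpObj G] {X : Over B}
  {aX : AlgSp.GAction G X}

theorem isHomLift_base {A' A : SpQuotObj K G aX} (χ : A' ⟶ A) : (SpQuotSt K G aX).p.IsHomLift χ.base χ := by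
  change (SpQuotSt K G aX).p.IsHomLift ((SpQuotSt K G aX).p.map χ) χ
  infer_instance

theorem base_eq_of_isHomLift {A' A : SpQuotObj K G aX} (f : A'.base ⟶ A.base) (χ : A' ⟶ A)
    (h : (SpQuotSt K G aX).p.IsHomLift f χ) : χ.base = f := by
  have h2 := IsHomLift.fac' (SpQuotSt K G aX).p f χ
  simp only [eqToHom_refl, Category.id_comp, Category.comp_id] at h2
  exact h2

section PtLift

variable {A' A : SpQuotObj K G aX} (χ : A' ⟶ A)

theorem cart_left : IsPullback χ.top.left A'.π.left A.π.left ((AlgSp.yon S).map χ.base) :=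
  χ.cart.map (Over.forget B)

variable {T : Over S} (p : (AlgSp.yon S).obj T ⟶ A.P.left) (t : T ⟶ A'.base)
  (hp : p ≫ A.π.left = (AlgSp.yon S).map (t ≫ χ.base))

/-- the lift of a point of the target torsor to the source of a morphism of `[X/G]` -/
noncomputable def ptLift : (AlgSp.yon S).obj T ⟶ A'.P.left :=
  (cart_left χ).lift p ((AlgSp.yon S).map t) (by rw [hp, CategoryTheory.Functor.map_comp])

@[reassoc]
theorem ptLift_top : ptLift χ p t hp ≫ χ.top.left = p := (cart_left χ).lift_fst _ _ _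

@[reassoc]
theorem ptLift_π : ptLift χ p t hp ≫ A'.π.left = (AlgSp.yon S).map t := (cart_left χ).lift_snd _ _ _

theorem ptLift_uniq (s : (AlgSp.yon S).obj T ⟶ A'.P.left) (h1 : s ≫ χ.top.left = p)
    (h2 : s ≫ A'.π.left = (AlgSp.yon S).map t) : s = ptLift χ p t hp := by
  apply (cart_left χ).hom_ext
  · rw [h1, ptLift_top]
  · rw [h2, ptLift_π]

end PtLift

section HomExt

variable [K.IsStableUnderBaseChange] (x : SpQuotObj K G aX) (R : Sieve x.base) (hR : R ∈ (AlgSp.J S) x.base)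
include hR

/-- maps out of `Z ×_B P` are determined by their restrictions to the pullbacks of `P` along a covering sieve of the base -/
theorem hom_ext_whisker (Z : Over B) {Y : Over B} (m m' : Z ⊗ x.P ⟶ Y)
    (h : ∀ ⦃V : Over S⦄ (f : V ⟶ x.base), R f → (Z ◁ pbTop x f) ≫ m = (Z ◁ pbTop x f) ≫ m') : m = m' := by
  apply Over.OverMorphism.ext
  apply hom_ext_over_sieve (snd Z x.P ≫ x.π).left R hR
  intro T' f hf q hq
  have hsq : IsPullback (Z ◁ pbTop x f).left (snd Z (pbP x f)).left (snd Z x.P).left (pbTop x f).left :=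
    (isPullback_whiskerLeft' (G := Z) (pbTop x f)).map (Over.forget B)
  have hq' : (q ≫ (snd Z x.P).left) ≫ x.π.left = (AlgSp.yon S).map (𝟙 T' ≫ (pbHom x f).base) := by
    rw [Category.id_comp, Category.assoc]
    exact hq
  let q' := hsq.lift q (ptLift (pbHom x f) (q ≫ (snd Z x.P).left) (𝟙 _) hq')
    (ptLift_top (pbHom x f) _ _ hq').symm
  have e : q' ≫ (Z ◁ pbTop x f).left = q := hsq.lift_fst _ _ _
  rw [← e, Category.assoc, Category.assoc]
  congr 1
  exact congrArg (fun k => k.left) (h f hf)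

theorem hom_ext_pb {Y : Over B} (m m' : x.P ⟶ Y)
    (h : ∀ ⦃V : Over S⦄ (f : V ⟶ x.base), R f → pbTop x f ≫ m = pbTop x f ≫ m') : m = m' := by
  apply Over.OverMorphism.ext
  apply hom_ext_over_sieve x.π.left R hR
  intro T' f hf p hp
  have hp' : p ≫ x.π.left = (AlgSp.yon S).map (𝟙 T' ≫ (pbHom x f).base) := by
    rw [Category.id_comp]
    exact hp
  rw [← ptLift_top (pbHom x f) p (𝟙 _) hp', Category.assoc, Category.assoc]
  congr 1
  exact congrArg (fun k => k.left) (h f hf)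

end HomExt

section Glue

variable {x y : SpQuotObj Scheme.fppfPrecoverage G aX} (g : x.base ⟶ y.base) (R : Sieve x.base)
  (hR : R ∈ (AlgSp.J S) x.base)
  (ψ : ∀ (x' : SpQuotObj Scheme.fppfPrecoverage G aX) (χ : x' ⟶ x), R χ.base → (x' ⟶ y))
  (hψb : ∀ (x' : SpQuotObj Scheme.fppfPrecoverage G aX) (χ : x' ⟶ x) (h : R χ.base), (ψ x' χ h).base = χ.base ≫ g)
  (hψc : ∀ (x' : SpQuotObj Scheme.fppfPrecoverage G aX) (χ : x' ⟶ x) (h : R χ.base)
    (x'' : SpQuotObj Scheme.fppfPrecoverage G aX) (κ : x'' ⟶ x') (h' : R (κ ≫ χ).base),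
    ψ x'' (κ ≫ χ) h' = κ ≫ ψ x' χ h)

theorem ψ_congr {x' : SpQuotObj Scheme.fppfPrecoverage G aX} (χ χ' : x' ⟶ x) (e : χ = χ') (h : R χ.base)
    (h' : R χ'.base) : ψ x' χ h = ψ x' χ' h' := by
  subst e
  rfl

/-- the value of the glued map on a point, computed through a morphism to `x` over the sieve -/
noncomputable def gval {x' : SpQuotObj Scheme.fppfPrecoverage G aX} (χ : x' ⟶ x) (h : R χ.base) {T : Over S}
    (t : T ⟶ x'.base) (p : (AlgSp.yon S).obj T ⟶ x.P.left)
    (hp : p ≫ x.π.left = (AlgSp.yon S).map (t ≫ χ.base)) : (AlgSp.yon S).obj T ⟶ y.P.left :=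
  ptLift χ p t hp ≫ (ψ x' χ h).top.left

theorem gval_congr {x' : SpQuotObj Scheme.fppfPrecoverage G aX} (χ χ' : x' ⟶ x) (e : χ = χ') (h : R χ.base)
    (h' : R χ'.base) {T : Over S} (t : T ⟶ x'.base) (p : (AlgSp.yon S).obj T ⟶ x.P.left)
    (hp : p ≫ x.π.left = (AlgSp.yon S).map (t ≫ χ.base))
    (hp' : p ≫ x.π.left = (AlgSp.yon S).map (t ≫ χ'.base)) :
    gval R ψ χ h t p hp = gval R ψ χ' h' t p hp' := by
  subst e
  rfl

include hψc in
theorem gval_comp {x' : SpQuotObj Scheme.fppfPrecoverage G aX} (χ : x' ⟶ x) (h : R χ.base)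
    {x'' : SpQuotObj Scheme.fppfPrecoverage G aX} (κ : x'' ⟶ x') (h' : R (κ ≫ χ).base) {T : Over S}
    (t : T ⟶ x'.base) (t' : T ⟶ x''.base) (ht : t' ≫ κ.base = t) (p : (AlgSp.yon S).obj T ⟶ x.P.left)
    (hp : p ≫ x.π.left = (AlgSp.yon S).map (t ≫ χ.base))
    (hp' : p ≫ x.π.left = (AlgSp.yon S).map (t' ≫ (κ ≫ χ).base)) :
    gval R ψ (κ ≫ χ) h' t' p hp' = gval R ψ χ h t p hp := by
  unfold gval
  rw [hψc x' χ h x'' κ h']
  change ptLift (κ ≫ χ) p t' hp' ≫ κ.top.left ≫ (ψ x' χ h).top.left = _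
  rw [← Category.assoc]
  congr 1
  apply ptLift_uniq
  · rw [Category.assoc]
    exact ptLift_top (κ ≫ χ) p t' hp'
  · rw [Category.assoc, (cart_left κ).w, ptLift_π_assoc, ← CategoryTheory.Functor.map_comp, ht]

/-- the value of the glued map on a point lying over the sieve -/
noncomputable def gM ⦃T' : Over S⦄ (f : T' ⟶ x.base) (hf : R f) (p : (AlgSp.yon S).obj T' ⟶ x.P.left)
    (hp : p ≫ x.π.left = (AlgSp.yon S).map f) : (AlgSp.yon S).obj T' ⟶ y.P.left :=
  gval R ψ (pbHom x f) hf (𝟙 T') p (by rw [Category.id_comp]; exact hp)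

include hψc in
theorem gval_eq_gM {x' : SpQuotObj Scheme.fppfPrecoverage G aX} (χ : x' ⟶ x) (h : R χ.base) {T : Over S}
    (t : T ⟶ x'.base) (p : (AlgSp.yon S).obj T ⟶ x.P.left)
    (hp : p ≫ x.π.left = (AlgSp.yon S).map (t ≫ χ.base)) :
    gval R ψ χ h t p hp = gM R ψ (t ≫ χ.base) (R.downward_closed h t) p hp := by
  let κ : pbObj x (t ≫ χ.base) ⟶ x' := liftHom χ (pbHom x (t ≫ χ.base)) t rfl
  have hκ : κ ≫ χ = pbHom x (t ≫ χ.base) := liftHom_comp _ _ _ _
  have h' : R (κ ≫ χ).base := R.downward_closed h t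
  have hp' : p ≫ x.π.left = (AlgSp.yon S).map (𝟙 T ≫ (κ ≫ χ).base) := by
    rw [Category.id_comp]
    exact hp
  rw [← gval_comp R ψ hψc χ h κ h' t (𝟙 T) (Category.id_comp _) p hp hp']
  exact gval_congr R ψ _ _ hκ _ _ _ _ _ _

include hψc in
theorem gM_nat ⦃T' T'' : Over S⦄ (f : T' ⟶ x.base) (hf : R f) (p : (AlgSp.yon S).obj T' ⟶ x.P.left)
    (hp : p ≫ x.π.left = (AlgSp.yon S).map f) (k : T'' ⟶ T') (f' : T'' ⟶ x.base) (hf' : R f') (hk : k ≫ f = f')
    (hp' : ((AlgSp.yon S).map k ≫ p) ≫ x.π.left = (AlgSp.yon S).map f') :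
    gM R ψ f' hf' ((AlgSp.yon S).map k ≫ p) hp' = (AlgSp.yon S).map k ≫ gM R ψ f hf p hp := by
  subst hk
  have hp1 : p ≫ x.π.left = (AlgSp.yon S).map (𝟙 T' ≫ (pbHom x f).base) := by
    rw [Category.id_comp]; exact hp
  have hp2 : ((AlgSp.yon S).map k ≫ p) ≫ x.π.left = (AlgSp.yon S).map (k ≫ (pbHom x f).base) := hp'
  have h1 := gval_eq_gM R ψ hψc (pbHom x f) hf k ((AlgSp.yon S).map k ≫ p) hp2
  change gval R ψ (pbHom x f) hf k ((AlgSp.yon S).map k ≫ p) hp2 = gM R ψ (k ≫ f) _ _ _ at h1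
  rw [← h1]
  unfold gM gval
  rw [← Category.assoc]
  congr 1
  symm
  apply ptLift_uniq
  · rw [Category.assoc, ptLift_top]
  · rw [Category.assoc, ptLift_π, ← CategoryTheory.Functor.map_comp, Category.comp_id]

include hR hψb hψc in
/-- gluing of morphisms of `[X/G]` along a covering sieve of the base -/
theorem glue_core : ∃ a : x ⟶ y, a.base = g ∧
    ∀ (x' : SpQuotObj Scheme.fppfPrecoverage G aX) (χ : x' ⟶ x) (h : R χ.base), χ ≫ a = ψ x' χ h := by
  -- the section of `B`
  have wb : (AlgSp.yon S).map g ≫ y.b = x.b := by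
    apply yon_hom_ext_of_cover _ _ R hR
    intro T' f hf
    have h1 := (ψ _ (pbHom x f) hf).wb
    rw [hψb _ (pbHom x f) hf] at h1
    change (AlgSp.yon S).map (f ≫ g) ≫ y.b = (AlgSp.yon S).map f ≫ x.b at h1
    rw [← h1, CategoryTheory.Functor.map_comp, Category.assoc]
  -- the map of total sheaves
  obtain ⟨m, hm⟩ := exists_hom_over_sieve x.π.left R hR (gM R ψ) (gM_nat R ψ hψc)
  have key : ∀ (x' : SpQuotObj Scheme.fppfPrecoverage G aX) (χ : x' ⟶ x) (h : R χ.base),
      χ.top.left ≫ m = (ψ x' χ h).top.left := by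
    intro x' χ h
    apply hom_ext_yon
    intro T s
    obtain ⟨t, ht⟩ := (AlgSp.yon S).map_surjective (s ≫ x'.π.left)
    have hp : (s ≫ χ.top.left) ≫ x.π.left = (AlgSp.yon S).map (t ≫ χ.base) := by
      rw [Category.assoc, (cart_left χ).w, ← Category.assoc, ← ht, CategoryTheory.Functor.map_comp]
    rw [← Category.assoc, hm (t ≫ χ.base) (R.downward_closed h t) (s ≫ χ.top.left) hp,
      ← gval_eq_gM R ψ hψc χ h t (s ≫ χ.top.left) hp]
    unfold gval
    congr 1
    symm
    exact ptLift_uniq χ _ t hp s rfl ht.symm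
  have w : m ≫ y.P.hom = x.P.hom := by
    apply hom_ext_over_sieve x.π.left R hR
    intro T' f hf p hp
    have hp' : p ≫ x.π.left = (AlgSp.yon S).map (𝟙 T' ≫ (pbHom x f).base) := by
      rw [Category.id_comp]; exact hp
    rw [← ptLift_top (pbHom x f) p (𝟙 _) hp', Category.assoc, Category.assoc, ← Category.assoc _ m,
      key _ (pbHom x f) hf, Over.w, Over.w]
  let top : x.P ⟶ y.P := Over.homMk m w
  have keyB : ∀ (x' : SpQuotObj Scheme.fppfPrecoverage G aX) (χ : x' ⟶ x) (h : R χ.base),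
      χ.top ≫ top = (ψ x' χ h).top := by
    intro x' χ h
    apply Over.OverMorphism.ext
    exact key x' χ h
  have heqv : x.act.act ≫ top = (G ◁ top) ≫ y.act.act := by
    apply hom_ext_whisker x R hR G
    intro V f hf
    have h1 := (pbHom x f).eqv
    change (pbObj x f).act.act ≫ pbTop x f = (G ◁ pbTop x f) ≫ x.act.act at h1
    rw [← Category.assoc, ← h1, Category.assoc]
    have h2 := keyB _ (pbHom x f) hf
    change pbTop x f ≫ top = _ at h2
    rw [h2, (ψ _ (pbHom x f) hf).eqv, ← h2, MonoidalCategory.whiskerLeft_comp, Category.assoc]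
  have hπ : top ≫ y.π = x.π ≫ bHom g wb := by
    apply hom_ext_pb x R hR
    intro V f hf
    have h2 := keyB _ (pbHom x f) hf
    change pbTop x f ≫ top = _ at h2
    have e3 := (pb_sq x f).w
    rw [← Category.assoc, h2, (ψ _ (pbHom x f) hf).cart.w, reassoc_of% e3]
    change pbπ x f ≫ _ = pbπ x f ≫ _
    congr 1
    exact (bHom_comp' f g (ψ _ (pbHom x f) hf).base (hψb _ (pbHom x f) hf).symm rfl wb _).symm
  have hφ : top ≫ y.φ = x.φ := by
    apply hom_ext_pb x R hR
    intro V f hf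
    have h2 := keyB _ (pbHom x f) hf
    change pbTop x f ≫ top = _ at h2
    rw [← Category.assoc, h2, (ψ _ (pbHom x f) hf).wφ]
    rfl
  let a : x ⟶ y := ⟨g, wb, top, heqv, cart_of_eqv g wb top heqv hπ, hφ⟩
  refine ⟨a, rfl, ?_⟩
  intro x' χ h
  apply SpQuotObj.hom_ext
  · exact (hψb x' χ h).symm
  · exact keyB x' χ h

end Glue

section Prestack

variable (G aX)

theorem sepFor_spQuotSt {V : Over S} (R : Sieve V) (hR : R ∈ (AlgSp.J S) V) :
    SepFor (SpQuotSt Scheme.fppfPrecoverage G aX) R := by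
  intro W g x y a b ha hb h
  have hV : x.base = V := IsHomLift.domain_eq (SpQuotSt Scheme.fppfPrecoverage G aX).p g a
  have hW : y.base = W := IsHomLift.codomain_eq (SpQuotSt Scheme.fppfPrecoverage G aX).p g a
  subst hV hW
  have ea : a.base = g := base_eq_of_isHomLift g a ha
  have eb : b.base = g := base_eq_of_isHomLift g b hb
  apply SpQuotObj.hom_ext (ea.trans eb.symm)
  apply Over.OverMorphism.ext
  apply hom_ext_over_sieve x.π.left R hR
  intro T' f hf p hp
  obtain ⟨x', χ, hχ, e⟩ := h f hf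
  have hV' : x'.base = T' := IsHomLift.domain_eq (SpQuotSt Scheme.fppfPrecoverage G aX).p f χ
  subst hV'
  have eχ : χ.base = f := base_eq_of_isHomLift f χ hχ
  subst eχ
  have hp' : p ≫ x.π.left = (AlgSp.yon S).map (𝟙 _ ≫ χ.base) := by
    rw [Category.id_comp]; exact hp
  rw [← ptLift_top χ p (𝟙 _) hp', Category.assoc, Category.assoc]
  congr 1
  exact congrArg (fun k => k.top.left) e

theorem glueFor_spQuotSt {V : Over S} (R : Sieve V) (hR : R ∈ (AlgSp.J S) V) :
    GlueFor (SpQuotSt Scheme.fppfPrecoverage G aX) R := by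
  intro W g x y hV hW φ hφ hc
  change x.base = V at hV
  change y.base = W at hW
  subst hV hW
  obtain ⟨a, ha, h⟩ := glue_core g R hR (fun x' χ h => φ χ.base h x' χ (isHomLift_base χ)) (by
      intro x' χ h
      exact base_eq_of_isHomLift _ _ (hφ χ.base h x' χ (isHomLift_base χ))) (by
      intro x' χ h x'' κ h'
      exact hc χ.base h x' χ (isHomLift_base χ) κ.base x'' κ (isHomLift_base κ) (isHomLift_base (κ ≫ χ)))
  refine ⟨a, ?_, ?_⟩
  · rw [← ha]
    exact isHomLift_base a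
  · intro V' f hf x' χ hχ
    have hV' : x'.base = V' := IsHomLift.domain_eq (SpQuotSt Scheme.fppfPrecoverage G aX).p f χ
    subst hV'
    have eχ : χ.base = f := base_eq_of_isHomLift f χ hχ
    subst eχ
    exact h x' χ hf

end Prestack

end Groth.Agent.Lib.helper4.SpQuot
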