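import Mathlib
import Groth.Agent.Lib.Helper4.SpQuot10
import Groth.Agent.Lib.Helper4.ShGlue3

/-!
# Effectivity of descent data for `[X/G]` (sheaf torsors, fppf): the glued torsor (helper4)
-/

set_option backward.isDefEq.respectTransparency false
set_option backward.isDefEq.respectTransparency.types false
set_option autoImplicit false
set_option linter.style.haveILetI false
set_option linter.unusedSectionVars false
set_option linter.unusedVariables false
set_option linter.unusedSimpArgs false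

universe u

open CategoryTheory CategoryTheory.Limits MonoidalCategory CartesianMonoidalCategory MonObj GrpObj AlgebraicGeometry
open AlgSt Opposite

namespace Groth.Agent.Lib.helper4.SpQuot

open Groth.Agent.Lib.helper4.SpYon Groth.Agent.Lib.helper27.StkElem1 Groth.Agent.Lib.helper4.ShGlue

variable {S : Scheme.{u}} {B : AlgSp.Sp S} {G : Over B} [GrpObj G] {X : Over B}
  {aX : AlgSp.GAction G X}

/-- the total sheaf of a torsor, over `B`, as a functor -/
def topOverF (K : Precoverage Scheme.{u}) (G : Over B) [GrpObj G] (aX : AlgSp.GAction G X) :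
    SpQuotObj K G aX ⥤ Over B where
  obj A := A.P
  map χ := χ.top
  map_id _ := rfl
  map_comp _ _ := rfl

section Eff

variable {U : Over S} {R : Sieve U} (D : Stk.sieveCat R ⥤ᵇ SpQuotSt Scheme.fppfPrecoverage G aX)

/-- the torsors of the descent datum -/
abbrev dA (s : R.arrows.category) : SpQuotObj Scheme.fppfPrecoverage G aX := D.toFunctor.obj s

theorem dA_base (s : R.arrows.category) : (dA D s).base = s.obj.left := D.w_obj s

abbrev dMap {s s' : R.arrows.category} (k : s ⟶ s') : dA D s ⟶ dA D s' := D.toFunctor.map k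

theorem dMap_base {s s' : R.arrows.category} (k : s ⟶ s') :
    (dMap D k).base ≫ eqToHom (dA_base D s') = eqToHom (dA_base D s) ≫ k.hom.left := by
  have := sieve_map_isHomLift D k
  exact (IsHomLift.commSq (SpQuotSt Scheme.fppfPrecoverage G aX).p k.hom.left (D.toFunctor.map k)).w

/-- the diagram of total sheaves over `B` -/
abbrev dPd : R.arrows.category ⥤ Over B := D.toFunctor ⋙ topOverF Scheme.fppfPrecoverage G aX

/-- the structure maps to the representables of the sieve -/
noncomputable def dϖ (s : R.arrows.category) : (dA D s).P.left ⟶ (AlgSp.yon S).obj s.obj.left :=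
  (dA D s).π.left ≫ (AlgSp.yon S).map (eqToHom (dA_base D s))

theorem dϖ_cart {s s' : R.arrows.category} (k : s ⟶ s') :
    IsPullback (dMap D k).top.left (dϖ D s) (dϖ D s') ((AlgSp.yon S).map k.hom.left) := by
  refine (cart_left (dMap D k)).of_iso (Iso.refl _) (Iso.refl _) ((AlgSp.yon S).mapIso (eqToIso (dA_base D s)))
    ((AlgSp.yon S).mapIso (eqToIso (dA_base D s'))) ?_ ?_ ?_ ?_
  · simp
  · simp [dϖ]
  · simp [dϖ]
  · change (AlgSp.yon S).map (dMap D k).base ≫ (AlgSp.yon S).map (eqToHom (dA_base D s')) =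
      (AlgSp.yon S).map (eqToHom (dA_base D s)) ≫ (AlgSp.yon S).map k.hom.left
    rw [← Functor.map_comp, ← Functor.map_comp, dMap_base]

omit D in
/-- a flat, locally finitely presented neighbourhood of a point of the base over which a torsor has a section -/
theorem exists_cover_of_eq (A : SpQuotObj Scheme.fppfPrecoverage G aX) {V : Over S} (e : A.base = V) (v : V.left) :
    ∃ (W : Over S) (g : W ⟶ V) (w : W.left), Flat g.left ∧ LocallyOfFinitePresentation g.left ∧ g.left w = v ∧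
      ∃ σ : (AlgSp.yon S).obj W ⟶ A.P.left,
        σ ≫ A.π.left ≫ (AlgSp.yon S).map (eqToHom e) = (AlgSp.yon S).map g := by
  subst e
  obtain ⟨Ti, ft, h1, h2, h3, hs⟩ := exists_cover A
  obtain ⟨t, z, hz⟩ := h3 v
  obtain ⟨σ, hσ⟩ := hs t
  refine ⟨Ti t, ft t, z, h1 t, h2 t, hz, σ, ?_⟩
  rw [eqToHom_refl, CategoryTheory.Functor.map_id]
  erw [Category.comp_id]
  exact hσ

/-- a sheaf over `h_U` glued from the total sheaves of a descent datum -/
structure GlueCtx where
  hR : R ∈ (AlgSp.J S) U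
  Q : AlgSp.Sp S
  ϖQ : Q ⟶ (AlgSp.yon S).obj U
  lam : ∀ s : R.arrows.category, (dA D s).P.left ⟶ Q
  hlam : ∀ s : R.arrows.category, IsPullback (lam s) (dϖ D s) ϖQ ((AlgSp.yon S).map s.obj.hom)
  hco : ∀ {s s' : R.arrows.category} (k : s ⟶ s'), (dMap D k).top.left ≫ lam s' = lam s

theorem exists_glueCtx (hR : R ∈ (AlgSp.J S) U) : Nonempty (GlueCtx D) := by
  obtain ⟨Q, ϖQ, lam, hlam, hco⟩ := exists_glue (Qd := dPd D ⋙ Over.forget B) (ϖ := dϖ D) (fun k => dϖ_cart D k)
  exact ⟨⟨hR, Q, ϖQ, lam, hlam, hco⟩⟩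

namespace GlueCtx

variable {D} (c : GlueCtx D)

theorem hϖ {s s' : R.arrows.category} (k : s ⟶ s') :
    (dMap D k).top.left ≫ dϖ D s' = dϖ D s ≫ (AlgSp.yon S).map k.hom.left := (dϖ_cart D k).w

theorem exists_β : ∃ β : c.Q ⟶ B, ∀ s : R.arrows.category, c.lam s ≫ β = (dA D s).P.hom :=
  exists_desc (Qd := dPd D ⋙ Over.forget B) (ϖ := dϖ D) (lam := c.lam) c.hlam c.hco (fun k => (dϖ_cart D k).w) c.hR
    (fun s => (dA D s).P.hom) (fun k => Over.w (dMap D k).top)

/-- the structure map of the glued sheaf to `B` -/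
noncomputable def β : c.Q ⟶ B := c.exists_β.choose

@[reassoc]
theorem lam_β (s : R.arrows.category) : c.lam s ≫ c.β = (dA D s).P.hom := c.exists_β.choose_spec s

/-- the local sections of `B` -/
noncomputable def bLoc ⦃T' : Over S⦄ (f : T' ⟶ U) (hf : R f) : (AlgSp.yon S).obj T' ⟶ B :=
  (AlgSp.yon S).map (eqToHom (dA_base D (sOf f hf)).symm) ≫ (dA D (sOf f hf)).b

theorem bLoc_eq (s : R.arrows.category) :
    (AlgSp.yon S).map (eqToHom (dA_base D s)) ≫ bLoc (D := D) s.obj.hom s.property = (dA D s).b := by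
  unfold bLoc
  rw [← Category.assoc, ← Functor.map_comp, eqToHom_trans, eqToHom_refl, CategoryTheory.Functor.map_id,
    Category.id_comp]
  rfl

theorem bLoc_comp ⦃T' T'' : Over S⦄ (f : T' ⟶ U) (hf : R f) (k : T'' ⟶ T') :
    (AlgSp.yon S).map k ≫ bLoc (D := D) f hf = bLoc (D := D) (k ≫ f) (R.downward_closed hf k) := by
  let κ : sOf (k ≫ f) (R.downward_closed hf k) ⟶ sOf f hf := mTo (sOf f hf) k (k ≫ f) (R.downward_closed hf k) rfl
  have h1 := (dMap D κ).wb
  have h2 : (dMap D κ).base ≫ eqToHom (dA_base D (sOf f hf)) = eqToHom (dA_base D _) ≫ k := dMap_base D κ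
  have h3 : (dMap D κ).base = eqToHom (dA_base D _) ≫ k ≫ eqToHom (dA_base D (sOf f hf)).symm := by
    rw [← Category.assoc, ← h2, Category.assoc, eqToHom_trans, eqToHom_refl, Category.comp_id]
  unfold bLoc
  rw [← h1, h3]
  simp only [Functor.map_comp, Category.assoc]
  rw [← Category.assoc ((AlgSp.yon S).map (eqToHom _)), ← Functor.map_comp, eqToHom_trans, eqToHom_refl,
    CategoryTheory.Functor.map_id, Category.id_comp]

include c in
theorem exists_b : ∃ b : (AlgSp.yon S).obj U ⟶ B, ∀ ⦃T' : Over S⦄ (f : T' ⟶ U) (hf : R f),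
    (AlgSp.yon S).map f ≫ b = bLoc (D := D) f hf :=
  yon_glue R c.hR (fun T' f hf => bLoc (D := D) f hf) (fun T' T'' f hf k => bLoc_comp f hf k)

/-- the section of `B` over `U` -/
noncomputable def b : (AlgSp.yon S).obj U ⟶ B := c.exists_b.choose

theorem map_b ⦃T' : Over S⦄ (f : T' ⟶ U) (hf : R f) : (AlgSp.yon S).map f ≫ c.b = bLoc (D := D) f hf :=
  c.exists_b.choose_spec f hf

theorem ϖQ_b : c.ϖQ ≫ c.b = c.β := by
  refine desc_ext (Qd := dPd D ⋙ Over.forget B) (ϖ := dϖ D) (lam := c.lam) c.hlam c.hR _ _ ?_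
  intro s
  rw [c.lam_β, ← Category.assoc, (c.hlam s).w, Category.assoc, c.map_b s.obj.hom s.property]
  unfold dϖ
  rw [Category.assoc, bLoc_eq]
  exact Over.w (dA D s).π

/-- the glued total sheaf over `B` -/
noncomputable def P : Over B := Over.mk c.β

/-- the structure map of the glued torsor -/
noncomputable def π : c.P ⟶ Over.mk c.b := Over.homMk c.ϖQ c.ϖQ_b

/-- the maps from the members of the descent datum -/
noncomputable def lamB (s : R.arrows.category) : (dA D s).P ⟶ c.P := Over.homMk (c.lam s) (c.lam_β s)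

@[simp] theorem lamB_left (s : R.arrows.category) : (c.lamB s).left = c.lam s := rfl

@[simp] theorem π_left : c.π.left = c.ϖQ := rfl

theorem lamB_co {s s' : R.arrows.category} (k : s ⟶ s') : (dMap D k).top ≫ c.lamB s' = c.lamB s := by
  apply Over.OverMorphism.ext
  exact c.hco k

/-- the diagram `Z ×_B P_s` -/
noncomputable abbrev dPdZ (D : Stk.sieveCat R ⥤ᵇ SpQuotSt Scheme.fppfPrecoverage G aX) (Z : Over B) :
    R.arrows.category ⥤ Over B := dPd D ⋙ tensorLeft Z

/-- the structure maps of `Z ×_B P_s` to the representables of the sieve -/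
noncomputable abbrev dϖZ (D : Stk.sieveCat R ⥤ᵇ SpQuotSt Scheme.fppfPrecoverage G aX) (Z : Over B)
    (s : R.arrows.category) : (Z ⊗ (dA D s).P).left ⟶ (AlgSp.yon S).obj s.obj.left :=
  (snd Z (dA D s).P).left ≫ dϖ D s

theorem hcZ (Z : Over B) (s : R.arrows.category) :
    IsPullback (Z ◁ c.lamB s).left (dϖZ D Z s) ((snd Z c.P).left ≫ c.ϖQ) ((AlgSp.yon S).map s.obj.hom) :=
  ((isPullback_whiskerLeft' (G := Z) (c.lamB s)).map (Over.forget B)).paste_vert (c.hlam s)

theorem hcoZ (Z : Over B) {s s' : R.arrows.category} (k : s ⟶ s') :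
    (dPdZ D Z).map k ≫ (Z ◁ c.lamB s') = Z ◁ c.lamB s := by
  change (Z ◁ (dMap D k).top) ≫ (Z ◁ c.lamB s') = Z ◁ c.lamB s
  rw [← MonoidalCategory.whiskerLeft_comp, c.lamB_co]

theorem hϖZ (Z : Over B) {s s' : R.arrows.category} (k : s ⟶ s') :
    ((dPdZ D Z).map k).left ≫ dϖZ D Z s' = dϖZ D Z s ≫ (AlgSp.yon S).map k.hom.left := by
  change (Z ◁ (dMap D k).top).left ≫ (snd Z (dA D s').P).left ≫ dϖ D s' = _
  have h1 : (Z ◁ (dMap D k).top).left ≫ (snd Z (dA D s').P).left = (snd Z (dA D s).P).left ≫ (dMap D k).top.left :=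
    congrArg (fun m => m.left) (whiskerLeft_snd Z (dMap D k).top)
  rw [← Category.assoc, h1, Category.assoc, hϖ, Category.assoc]

/-- maps out of `Z ×_B P` are determined by their restrictions to the members of the descent datum -/
theorem extZ (Z : Over B) {Y : Over B} (d d' : Z ⊗ c.P ⟶ Y)
    (h : ∀ s : R.arrows.category, (Z ◁ c.lamB s) ≫ d = (Z ◁ c.lamB s) ≫ d') : d = d' :=
  descB_ext c.hR (Pd := dPdZ D Z) (ϖ' := dϖZ D Z) (c := fun s => Z ◁ c.lamB s) (c.hcZ Z) d d' h

theorem exists_descZ (Z : Over B) {Y : Over B} (m : ∀ s : R.arrows.category, Z ⊗ (dA D s).P ⟶ Y)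
    (hm : ∀ {s s' : R.arrows.category} (k : s ⟶ s'), (Z ◁ (dMap D k).top) ≫ m s' = m s) :
    ∃ d : Z ⊗ c.P ⟶ Y, ∀ s : R.arrows.category, (Z ◁ c.lamB s) ≫ d = m s :=
  exists_descB c.hR (Pd := dPdZ D Z) (ϖ' := dϖZ D Z) (c := fun s => Z ◁ c.lamB s) (c.hcZ Z) (c.hcoZ Z) (hϖZ Z) m hm

theorem ext1 {Y : Over B} (d d' : c.P ⟶ Y) (h : ∀ s : R.arrows.category, c.lamB s ≫ d = c.lamB s ≫ d') : d = d' :=
  descB_ext c.hR (Pd := dPd D) (ϖ' := dϖ D) (c := fun s => c.lamB s) c.hlam d d' h

theorem exists_desc1 {Y : Over B} (m : ∀ s : R.arrows.category, (dA D s).P ⟶ Y)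
    (hm : ∀ {s s' : R.arrows.category} (k : s ⟶ s'), (dMap D k).top ≫ m s' = m s) :
    ∃ d : c.P ⟶ Y, ∀ s : R.arrows.category, c.lamB s ≫ d = m s :=
  exists_descB c.hR (Pd := dPd D) (ϖ' := dϖ D) (c := fun s => c.lamB s) c.hlam c.lamB_co hϖ m hm

theorem exists_act : ∃ a : G ⊗ c.P ⟶ c.P, ∀ s : R.arrows.category,
    (G ◁ c.lamB s) ≫ a = (dA D s).act.act ≫ c.lamB s :=
  c.exists_descZ G (fun s => (dA D s).act.act ≫ c.lamB s) (by
    intro s s' k
    rw [← Category.assoc, ← (dMap D k).eqv, Category.assoc, c.lamB_co])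

/-- the action on the glued torsor -/
noncomputable def act : G ⊗ c.P ⟶ c.P := c.exists_act.choose

@[reassoc]
theorem lamB_act (s : R.arrows.category) : (G ◁ c.lamB s) ≫ c.act = (dA D s).act.act ≫ c.lamB s :=
  c.exists_act.choose_spec s

/-- the action of `G` on the glued torsor -/
noncomputable def gAction : AlgSp.GAction G c.P where
  act := c.act
  one_act := by
    apply c.extZ
    intro s
    rw [whisker_exchange_assoc, c.lamB_act, ← Category.assoc, (dA D s).act.one_act, leftUnitor_naturality]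
  mul_act := by
    apply c.extZ
    intro s
    rw [whisker_exchange_assoc, c.lamB_act, ← Category.assoc, (dA D s).act.mul_act,
      associator_naturality_right_assoc, ← MonoidalCategory.whiskerLeft_comp_assoc, c.lamB_act,
      MonoidalCategory.whiskerLeft_comp_assoc, c.lamB_act]
    simp only [Category.assoc]

theorem exists_φ : ∃ φ : c.P ⟶ X, ∀ s : R.arrows.category, c.lamB s ≫ φ = (dA D s).φ :=
  c.exists_desc1 (fun s => (dA D s).φ) (fun k => (dMap D k).wφ)

/-- the equivariant map of the glued torsor -/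
noncomputable def φ : c.P ⟶ X := c.exists_φ.choose

@[reassoc]
theorem lamB_φ (s : R.arrows.category) : c.lamB s ≫ c.φ = (dA D s).φ := c.exists_φ.choose_spec s

theorem eqv : c.act ≫ c.φ = (G ◁ c.φ) ≫ aX.act := by
  apply c.extZ
  intro s
  rw [c.lamB_act_assoc, c.lamB_φ, (dA D s).eqv, ← MonoidalCategory.whiskerLeft_comp_assoc, c.lamB_φ]

theorem wb (s : R.arrows.category) :
    (AlgSp.yon S).map (eqToHom (dA_base D s) ≫ s.obj.hom) ≫ c.b = (dA D s).b := by
  rw [Functor.map_comp, Category.assoc, c.map_b s.obj.hom s.property, bLoc_eq]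

theorem lamB_π (s : R.arrows.category) :
    c.lamB s ≫ c.π = (dA D s).π ≫ bHom (eqToHom (dA_base D s) ≫ s.obj.hom) (c.wb s) := by
  apply Over.OverMorphism.ext
  change c.lam s ≫ c.ϖQ = (dA D s).π.left ≫ (AlgSp.yon S).map (eqToHom (dA_base D s) ≫ s.obj.hom)
  rw [(c.hlam s).w, Functor.map_comp, ← Category.assoc]
  rfl

theorem act_π : c.act ≫ c.π = snd G c.P ≫ c.π := by
  apply c.extZ
  intro s
  have h1 := (dA D s).cart.w
  rw [c.lamB_act_assoc, c.lamB_π, ← Category.assoc, h1, Category.assoc, ← c.lamB_π,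
    whiskerLeft_snd_assoc]

theorem lamB_act_left (s : R.arrows.category) :
    (G ◁ c.lamB s).left ≫ c.act.left = (dA D s).act.act.left ≫ c.lam s :=
  congrArg (fun m => m.left) (c.lamB_act s)

theorem lamB_snd_left (s : R.arrows.category) :
    (G ◁ c.lamB s).left ≫ (snd G c.P).left = (snd G (dA D s).P).left ≫ c.lam s :=
  congrArg (fun m => m.left) (whiskerLeft_snd G (c.lamB s))

omit c in
theorem cart_left_s (s : R.arrows.category) :
    IsPullback (dA D s).act.act.left (snd G (dA D s).P).left (dA D s).π.left (dA D s).π.left :=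
  (dA D s).cart.map (Over.forget B)

omit c in
theorem act_dϖ (s : R.arrows.category) :
    (dA D s).act.act.left ≫ dϖ D s = (snd G (dA D s).P).left ≫ dϖ D s := by
  unfold dϖ
  rw [← Category.assoc, (cart_left_s (D := D) s).w, Category.assoc]

/-- the lift of a point of the glued sheaf over an arrow of the sieve -/
noncomputable def qL {T : Over S} (f : T ⟶ U) (hf : R f) (p : (AlgSp.yon S).obj T ⟶ c.Q)
    (hp : p ≫ c.ϖQ = (AlgSp.yon S).map f) : (AlgSp.yon S).obj T ⟶ (dA D (sOf f hf)).P.left :=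
  qLift (Qd := dPd D ⋙ Over.forget B) (ϖ := dϖ D) (lam := c.lam) c.hlam f hf p hp

theorem qL_lam {T : Over S} (f : T ⟶ U) (hf : R f) (p : (AlgSp.yon S).obj T ⟶ c.Q)
    (hp : p ≫ c.ϖQ = (AlgSp.yon S).map f) : c.qL f hf p hp ≫ c.lam (sOf f hf) = p :=
  qLift_lam (Qd := dPd D ⋙ Over.forget B) (ϖ := dϖ D) (lam := c.lam) c.hlam f hf p hp

theorem qL_ϖ {T : Over S} (f : T ⟶ U) (hf : R f) (p : (AlgSp.yon S).obj T ⟶ c.Q)
    (hp : p ≫ c.ϖQ = (AlgSp.yon S).map f) : c.qL f hf p hp ≫ dϖ D (sOf f hf) = 𝟙 _ :=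
  qLift_ϖ (Qd := dPd D ⋙ Over.forget B) (ϖ := dϖ D) (lam := c.lam) c.hlam f hf p hp

theorem cart : IsPullback c.act (snd G c.P) c.π c.π := by
  refine IsPullback.of_map (Over.forget B) c.act_π ?_
  change IsPullback c.act.left (snd G c.P).left c.ϖQ c.ϖQ
  have hw : c.act.left ≫ c.ϖQ = (snd G c.P).left ≫ c.ϖQ := congrArg (fun m => m.left) c.act_π
  refine isPullback_of_yon_local hw ?_ ?_
  · -- existence, locally
    intro T a b hab
    obtain ⟨t, ht⟩ := (AlgSp.yon S).map_surjective (b ≫ c.ϖQ)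
    refine ⟨R.pullback t, (AlgSp.J S).pullback_stable t c.hR, ?_⟩
    intro T' k hk
    have hb' : ((AlgSp.yon S).map k ≫ b) ≫ c.ϖQ = (AlgSp.yon S).map (k ≫ t) := by
      rw [Category.assoc, ← ht, Functor.map_comp]
    have ha' : ((AlgSp.yon S).map k ≫ a) ≫ c.ϖQ = (AlgSp.yon S).map (k ≫ t) := by
      rw [Category.assoc, hab, ← ht, Functor.map_comp]
    let s : R.arrows.category := sOf (k ≫ t) hk
    let a_s := c.qL (k ≫ t) hk _ ha'
    let b_s := c.qL (k ≫ t) hk _ hb'
    have hab_s : a_s ≫ (dA D s).π.left = b_s ≫ (dA D s).π.left := by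
      have h1 : a_s ≫ dϖ D s = b_s ≫ dϖ D s := by
        rw [c.qL_ϖ, c.qL_ϖ]
      unfold dϖ at h1
      rw [← Category.assoc, ← Category.assoc] at h1
      exact (cancel_mono ((AlgSp.yon S).map (eqToHom (dA_base D s)))).1 h1
    let z := (cart_left_s (D := D) s).lift a_s b_s hab_s
    refine ⟨z ≫ (G ◁ c.lamB s).left, ?_, ?_⟩
    · rw [Category.assoc, c.lamB_act_left, ← Category.assoc, (cart_left_s (D := D) s).lift_fst]
      exact c.qL_lam (k ≫ t) hk _ ha'
    · rw [Category.assoc, c.lamB_snd_left, ← Category.assoc, (cart_left_s (D := D) s).lift_snd]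
      exact c.qL_lam (k ≫ t) hk _ hb'
  · -- uniqueness
    intro T l l' h1 h2
    obtain ⟨t, ht⟩ := (AlgSp.yon S).map_surjective (l ≫ (snd G c.P).left ≫ c.ϖQ)
    apply yon_hom_ext_of_cover _ _ (R.pullback t) ((AlgSp.J S).pullback_stable t c.hR)
    intro T' k hk
    let s : R.arrows.category := sOf (k ≫ t) hk
    have hl : ((AlgSp.yon S).map k ≫ l) ≫ (snd G c.P).left ≫ c.ϖQ = 𝟙 _ ≫ (AlgSp.yon S).map s.obj.hom := by
      rw [Category.assoc, ← ht, Category.id_comp, ← Functor.map_comp]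
      rfl
    have hl' : ((AlgSp.yon S).map k ≫ l') ≫ (snd G c.P).left ≫ c.ϖQ = 𝟙 _ ≫ (AlgSp.yon S).map s.obj.hom := by
      rw [Category.assoc, ← Category.assoc l', ← h2, Category.assoc, ← ht, Category.id_comp, ← Functor.map_comp]
      rfl
    let z := (c.hcZ G s).lift ((AlgSp.yon S).map k ≫ l) (𝟙 _) hl
    let z' := (c.hcZ G s).lift ((AlgSp.yon S).map k ≫ l') (𝟙 _) hl'
    have hz1 : z ≫ (G ◁ c.lamB s).left = (AlgSp.yon S).map k ≫ l := (c.hcZ G s).lift_fst _ _ _
    have hz2 : z ≫ dϖZ D G s = 𝟙 _ := (c.hcZ G s).lift_snd _ _ _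
    have hz1' : z' ≫ (G ◁ c.lamB s).left = (AlgSp.yon S).map k ≫ l' := (c.hcZ G s).lift_fst _ _ _
    have hz2' : z' ≫ dϖZ D G s = 𝟙 _ := (c.hcZ G s).lift_snd _ _ _
    have hzz : z = z' := by
      apply (cart_left_s (D := D) s).hom_ext
      · apply (c.hlam s).hom_ext
        · rw [Category.assoc, Category.assoc, ← c.lamB_act_left, ← Category.assoc, ← Category.assoc, hz1, hz1',
            Category.assoc, Category.assoc, h1]
        · rw [Category.assoc, Category.assoc, act_dϖ (D := D)]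
          exact hz2.trans hz2'.symm
      · apply (c.hlam s).hom_ext
        · rw [Category.assoc, Category.assoc, ← c.lamB_snd_left, ← Category.assoc, ← Category.assoc, hz1, hz1',
            Category.assoc, Category.assoc, h2]
        · rw [Category.assoc, Category.assoc]
          exact hz2.trans hz2'.symm
    rw [← hz1, ← hz1', hzz]

theorem loc : HasSecLoc Scheme.fppfPrecoverage c.π.left := by
  have key : ∀ u : U.left, ∃ (W : Over S) (h : W ⟶ U) (w : W.left), Flat h.left ∧
      LocallyOfFinitePresentation h.left ∧ h.left w = u ∧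
      ∃ σ : (AlgSp.yon S).obj W ⟶ c.Q, σ ≫ c.ϖQ = (AlgSp.yon S).map h := by
    intro u
    obtain ⟨T', f, t', hRf, hfl, hlf, hfu⟩ := Groth.Agent.Lib.helper4.AlgStDescentFam.exists_fppf_mem_of_mem_J R c.hR u
    obtain ⟨W, g, w, hgfl, hglf, hgw, σ, hσ⟩ := exists_cover_of_eq (dA D (sOf f hRf)) (dA_base D (sOf f hRf)) t'
    refine ⟨W, g ≫ f, w, ?_, ?_, ?_, σ ≫ c.lam (sOf f hRf), ?_⟩
    · change Flat (g.left ≫ f.left)
      infer_instance
    · change LocallyOfFinitePresentation (g.left ≫ f.left)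
      infer_instance
    · change (g.left ≫ f.left) w = u
      rw [Scheme.Hom.comp_apply, hgw]
      exact hfu
    · rw [Category.assoc, (c.hlam (sOf f hRf)).w, Functor.map_comp, ← hσ]
      unfold dϖ
      simp only [Category.assoc]
      rfl
  choose W h w hfl hlf hw σ hσ using key
  refine ⟨Presieve.ofArrows (fun u => (W u).left) (fun u => (h u).left), ?_, ?_⟩
  · unfold AlgebraicGeometry.Scheme.fppfPrecoverage
    rw [Scheme.ofArrows_mem_precoverage_iff]
    exact ⟨fun x => ⟨x, w x, hw x⟩, fun u => ⟨hfl u, hlf u⟩⟩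
  · rintro T' f ⟨u⟩
    let i : Over.mk ((h u).left ≫ U.hom) ⟶ W u := Over.homMk (𝟙 _) (by
      change 𝟙 _ ≫ (W u).hom = (h u).left ≫ U.hom
      rw [Category.id_comp, Over.w])
    refine ⟨(AlgSp.yon S).map i ≫ σ u, ?_⟩
    change ((AlgSp.yon S).map i ≫ σ u) ≫ c.ϖQ = _
    rw [Category.assoc, hσ, ← Functor.map_comp]
    congr 1

/-- the glued torsor -/
noncomputable def obj : SpQuotObj Scheme.fppfPrecoverage G aX where
  base := U
  b := c.b
  P := c.P
  act := c.gAction
  π := c.π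
  cart := c.cart
  loc := c.loc
  φ := c.φ
  eqv := c.eqv

/-- the cocone from the descent datum to the glued torsor -/
noncomputable def cocone (s : R.arrows.category) : dA D s ⟶ c.obj where
  base := eqToHom (dA_base D s) ≫ s.obj.hom
  wb := c.wb s
  top := c.lamB s
  eqv := (c.lamB_act s).symm
  cart := cart_of_eqv (A := dA D s) (A' := c.obj) (eqToHom (dA_base D s) ≫ s.obj.hom) (c.wb s) (c.lamB s)
    (c.lamB_act s).symm (c.lamB_π s)
  wφ := c.lamB_φ s

theorem cocone_isHomLift (s : R.arrows.category) :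
    (SpQuotSt Scheme.fppfPrecoverage G aX).p.IsHomLift s.obj.hom (c.cocone s) := by
  apply IsHomLift.of_fac' _ _ _ (dA_base D s) rfl
  change eqToHom (dA_base D s) ≫ s.obj.hom = _
  rw [eqToHom_refl, Category.comp_id]

theorem cocone_comp {s s' : R.arrows.category} (k : s ⟶ s') : dMap D k ≫ c.cocone s' = c.cocone s := by
  apply SpQuotObj.hom_ext
  · change (dMap D k).base ≫ eqToHom (dA_base D s') ≫ s'.obj.hom = eqToHom (dA_base D s) ≫ s.obj.hom
    rw [← Category.assoc, dMap_base, Category.assoc, sieve_hom_w]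
  · exact c.lamB_co k

end GlueCtx

variable (G aX) in
/-- descent data for `[X/G]` (sheaf torsors) along fppf covering sieves are effective -/
theorem effFor_spQuotSt {U : Over S} (R : Sieve U) (hR : R ∈ (AlgSp.J S) U) :
    EffFor (SpQuotSt Scheme.fppfPrecoverage G aX) R := by
  intro D
  obtain ⟨c⟩ := exists_glueCtx D hR
  exact ⟨c.obj, rfl, fun s => c.cocone s, fun s => c.cocone_isHomLift s, fun s t k => c.cocone_comp k⟩

end Eff

variable (G aX) in
/-- `[X/G]` with sheaf torsors is a stack for the fppf topology -/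
theorem isStack_spQuotSt : Stk.IsStack (AlgSp.J S) (SpQuotSt Scheme.fppfPrecoverage G aX) :=
  isStack_of_elem (AlgSp.J S) isFibGrpd_spQuotSt (fun V R hR => sepFor_spQuotSt G aX R hR)
    (fun V R hR => glueFor_spQuotSt G aX R hR) (fun V R hR => effFor_spQuotSt G aX R hR)

end Groth.Agent.Lib.helper4.SpQuot
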