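import Mathlib
import Groth.Agent.Lib.Helper4.SpQuot11
import Groth.Agent.Lib.Helper5.AlgSpAffDesc

/-!
# The functor from schemes over `S` to sheaves over the terminal representable sheaf (helper4)

`B₀ S = h_{𝟙}` is the sheaf represented by the terminal `S`-scheme, `Y S : Over S ⥤ Over (B₀ S)` sends `T` to `h_T ⟶ h_𝟙`.
It is fully faithful, preserves finite products (hence is monoidal for the cartesian structures and carries group
schemes to group sheaves) and preserves and reflects pullback squares.
-/

set_option backward.isDefEq.respectTransparency false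
set_option backward.isDefEq.respectTransparency.types false
set_option autoImplicit false
set_option linter.style.haveILetI false
set_option linter.unusedSectionVars false
set_option linter.unusedVariables false
set_option linter.unusedSimpArgs false

universe u

open CategoryTheory CategoryTheory.Limits MonoidalCategory CartesianMonoidalCategory MonObj GrpObj AlgebraicGeometry
open AlgSt Opposite

namespace Groth.Agent.Lib.helper4.QuotCmp

variable (S : Scheme.{u})

/-- the sheaf of the terminal `S`-scheme -/
noncomputable abbrev B₀ : AlgSp.Sp S := (AlgSp.yon S).obj (𝟙_ (Over S))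

/-- schemes over `S` as sheaves over `h_𝟙` -/
noncomputable def Y : Over S ⥤ Over (B₀ S) where
  obj T := Over.mk ((AlgSp.yon S).map (toUnit T))
  map {T T'} f := Over.homMk ((AlgSp.yon S).map f) (by
    change (AlgSp.yon S).map f ≫ (AlgSp.yon S).map (toUnit T') = (AlgSp.yon S).map (toUnit T)
    rw [← Functor.map_comp]
    congr 1
    exact toUnit_unique _ _)
  map_id T := by
    apply Over.OverMorphism.ext
    simp
  map_comp f g := by
    apply Over.OverMorphism.ext
    simp

variable {S}

@[simp] theorem Y_obj_left (T : Over S) : ((Y S).obj T).left = (AlgSp.yon S).obj T := rfl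
@[simp] theorem Y_obj_hom (T : Over S) : ((Y S).obj T).hom = (AlgSp.yon S).map (toUnit T) := rfl
@[simp] theorem Y_map_left {T T' : Over S} (f : T ⟶ T') : ((Y S).map f).left = (AlgSp.yon S).map f := rfl

/-- every map `h_T ⟶ h_𝟙` is the canonical one -/
theorem hom_B₀_eq {T : Over S} (b : (AlgSp.yon S).obj T ⟶ B₀ S) : b = (AlgSp.yon S).map (toUnit T) := by
  obtain ⟨f, rfl⟩ := (AlgSp.yon S).map_surjective b
  congr 1
  exact toUnit_unique _ _

instance : (Y S).Faithful where
  map_injective {T T'} f g h := by
    have h1 : ((Y S).map f).left = ((Y S).map g).left := by rw [h]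
    exact (AlgSp.yon S).map_injective h1

instance : (Y S).Full where
  map_surjective {T T'} g := by
    refine ⟨(AlgSp.yon S).preimage g.left, ?_⟩
    apply Over.OverMorphism.ext
    simp

/-- `Y` preserves pullback squares -/
theorem map_isPullback {P X₁ X₂ Z : Over S} {f : P ⟶ X₁} {g : P ⟶ X₂} {h : X₁ ⟶ Z} {k : X₂ ⟶ Z}
    (sq : IsPullback f g h k) : IsPullback ((Y S).map f) ((Y S).map g) ((Y S).map h) ((Y S).map k) := by
  refine IsPullback.of_map (Over.forget (B₀ S)) ?_ ?_
  · rw [← Functor.map_comp, ← Functor.map_comp, sq.w]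
  · exact sq.map (AlgSp.yon S)

/-- `Y` reflects pullback squares -/
theorem isPullback_of_map {P X₁ X₂ Z : Over S} {f : P ⟶ X₁} {g : P ⟶ X₂} {h : X₁ ⟶ Z} {k : X₂ ⟶ Z}
    (sq : IsPullback ((Y S).map f) ((Y S).map g) ((Y S).map h) ((Y S).map k)) : IsPullback f g h k :=
  Groth.Agent.Lib.helper5.AffDesc.isPullback_of_yon (sq.map (Over.forget (B₀ S)))


/-- a cone in `Over B` whose underlying square over the structure maps is a pullback is a binary product -/
noncomputable def isLimitBinaryFanOfLeft {C : Type*} [Category C] {B : C} {P X X' : Over B} (p₁ : P ⟶ X) (p₂ : P ⟶ X')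
    (h : IsPullback p₁.left p₂.left X.hom X'.hom) : IsLimit (BinaryFan.mk p₁ p₂) :=
  BinaryFan.IsLimit.mk _
    (fun {T} f g => Over.homMk (h.lift f.left g.left (by rw [Over.w f, Over.w g])) (by
      have h1 := h.lift_fst f.left g.left (by rw [Over.w f, Over.w g])
      change _ ≫ P.hom = T.hom
      rw [← Over.w p₁, ← Category.assoc, h1, Over.w f]))
    (fun f g => by
      apply Over.OverMorphism.ext
      exact h.lift_fst _ _ _)
    (fun f g => by
      apply Over.OverMorphism.ext
      exact h.lift_snd _ _ _)
    (fun f g m h1 h2 => by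
      apply Over.OverMorphism.ext
      apply h.hom_ext
      · exact (congrArg Over.Hom.left h1).trans (h.lift_fst _ _ _).symm
      · exact (congrArg Over.Hom.left h2).trans (h.lift_snd _ _ _).symm)

instance (A A' : Over S) : PreservesLimit (pair A A') (Y S) :=
  preservesLimit_of_preserves_limit_cone (tensorProductIsBinaryProduct A A')
    ((isLimitMapConeBinaryFanEquiv (Y S) (fst A A') (snd A A')).symm
      (isLimitBinaryFanOfLeft _ _ ((isPullback_fst_snd A A').map (AlgSp.yon S))))

instance : PreservesLimitsOfShape (Discrete WalkingPair) (Y S) where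
  preservesLimit {K} := preservesLimit_of_iso_diagram (Y S) (diagramIsoPair K).symm

theorem Y_unit_hom : (AlgSp.yon S).map (toUnit (𝟙_ (Over S))) = 𝟙 _ := by
  rw [toUnit_unique (toUnit (𝟙_ (Over S))) (𝟙 _), CategoryTheory.Functor.map_id]

noncomputable def isTerminalYUnit : IsTerminal ((Y S).obj (𝟙_ (Over S))) :=
  IsTerminal.ofUniqueHom (fun Z => Over.homMk Z.hom (by
      change Z.hom ≫ (AlgSp.yon S).map (toUnit (𝟙_ (Over S))) = Z.hom
      rw [Y_unit_hom, Category.comp_id]))
    (fun Z m => by
      apply Over.OverMorphism.ext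
      have h1 : m.left ≫ (AlgSp.yon S).map (toUnit (𝟙_ (Over S))) = Z.hom := Over.w m
      have h2 : m.left ≫ (AlgSp.yon S).map (toUnit (𝟙_ (Over S))) = m.left := by
        rw [Y_unit_hom]; exact Category.comp_id _
      exact h2.symm.trans h1)

instance : PreservesLimit (Functor.empty.{0} (Over S)) (Y S) :=
  preservesLimit_of_preserves_limit_cone isTerminalTensorUnit
    ((isLimitMapConeEmptyConeEquiv (Y S) _).symm isTerminalYUnit)

instance : PreservesLimitsOfShape (Discrete.{0} PEmpty) (Y S) :=
  preservesLimitsOfShape_pempty_of_preservesTerminal (Y S)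

instance : PreservesFiniteProducts (Y S) := .of_preserves_binary_and_terminal _

noncomputable instance : (Y S).Monoidal := .ofChosenFiniteProducts _

noncomputable instance (G : Over S) [GrpObj G] : GrpObj ((Y S).obj G) := (Y S).grpObjObj


section Action

open Functor.LaxMonoidal

variable {G : Over S} [GrpObj G]

/-- the comparison `Y G ⊗ Y X ⟶ Y (G ⊗ X)` -/
noncomputable abbrev mu (A A' : Over S) : (Y S).obj A ⊗ (Y S).obj A' ⟶ (Y S).obj (A ⊗ A') :=
  Functor.LaxMonoidal.μ (Y S) A A'

instance (A A' : Over S) : IsIso (mu A A') := by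
  unfold mu
  infer_instance

@[reassoc]
theorem mu_fst (A A' : Over S) : mu A A' ≫ (Y S).map (fst A A') = fst _ _ := Functor.Monoidal.μ_fst _ _ _
@[reassoc]
theorem mu_snd (A A' : Over S) : mu A A' ≫ (Y S).map (snd A A') = snd _ _ := Functor.Monoidal.μ_snd _ _ _

@[reassoc]
theorem mu_whiskerLeft (A : Over S) {A' A'' : Over S} (f : A' ⟶ A'') :
    ((Y S).obj A ◁ (Y S).map f) ≫ mu A A'' = mu A A' ≫ (Y S).map (A ◁ f) :=
  Functor.LaxMonoidal.μ_natural_right (Y S) A f

@[reassoc]
theorem mu_whiskerRight {A A' : Over S} (f : A ⟶ A') (A'' : Over S) :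
    ((Y S).map f ▷ (Y S).obj A'') ≫ mu A' A'' = mu A A'' ≫ (Y S).map (f ▷ A'') :=
  Functor.LaxMonoidal.μ_natural_left (Y S) f A''

@[reassoc]
theorem lift_mu {T A A' : Over S} (f : T ⟶ A) (g : T ⟶ A') :
    lift ((Y S).map f) ((Y S).map g) ≫ mu A A' = (Y S).map (lift f g) := Functor.Monoidal.lift_μ _ _ _

/-- transport of an action of a group scheme to the sheaf side -/
noncomputable def mapAction {X : Over S} (a : AlgGrp.Action G X) :
    AlgSp.GAction ((Y S).obj G) ((Y S).obj X) where
  act := mu G X ≫ (Y S).map a.act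
  one_act := by
    rw [Functor.obj.η_def, MonoidalCategory.comp_whiskerRight, Category.assoc,
      Functor.LaxMonoidal.μ_natural_left_assoc, ← Functor.map_comp, a.one_act, leftUnitor_hom, leftUnitor_hom,
      Functor.Monoidal.μ_snd, whiskerRight_snd]
  mul_act := by
    rw [Functor.obj.μ_def, MonoidalCategory.comp_whiskerRight, Category.assoc,
      Functor.LaxMonoidal.μ_natural_left_assoc, ← Functor.map_comp, a.mul_act, Functor.map_comp, Functor.map_comp,
      Functor.LaxMonoidal.associativity_assoc, MonoidalCategory.whiskerLeft_comp]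
    simp only [Category.assoc, mu, Functor.LaxMonoidal.μ_natural_right_assoc]

@[simp] theorem mapAction_act {X : Over S} (a : AlgGrp.Action G X) :
    (mapAction a).act = mu G X ≫ (Y S).map a.act := rfl

end Action

end Groth.Agent.Lib.helper4.QuotCmp
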