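import Mathlib
import Groth.Agent.Lib.Helper4.QuotCmp1
import Groth.Agent.Lib.Helper4.QuotSt5

/-!
# The comparison functor from scheme torsors to sheaf torsors (helper4)

`cmp K G aX : QuotSt K G aX ⥤ᵇ SpQuotSt K (Y G) (mapAction aX)` over `(Sch/S)`, fully faithful.
-/

set_option backward.isDefEq.respectTransparency false
set_option backward.isDefEq.respectTransparency.types false
set_option autoImplicit false
set_option linter.style.haveILetI false
set_option linter.unusedSectionVars false
set_option linter.unusedVariables false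
set_option linter.unusedSimpArgs false

universe u

open CategoryTheory CategoryTheory.Limits MonoidalCategory CartesianMonoidalCategory MonObj GrpObj AlgebraicGeometry
open AlgSt Opposite

namespace Groth.Agent.Lib.helper4.QuotCmp

variable {S : Scheme.{u}} (K : Precoverage Scheme.{u}) (G : Over S) [GrpObj G] {X : Over S} (aX : AlgGrp.Action G X)

/-- sections of a scheme torsor give sections of its sheaf -/
theorem hasSecLoc_of_isLocallyTrivialFor {T P : Over S} (π : P ⟶ T)
    (h : NonAbH1.IsLocallyTrivialFor K (Over.mk π.left : Over T.left)) :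
    HasSecLoc K ((Y S).map π).left := by
  obtain ⟨R, hR, hs⟩ := h
  refine ⟨R, hR, fun T' f hf => ?_⟩
  obtain ⟨s, hs'⟩ := hs f hf
  have hs'' : s ≫ π.left = f := hs'
  have w : s ≫ P.hom = f ≫ T.hom := by rw [← Over.w π, ← Category.assoc, hs'']
  refine ⟨(AlgSp.yon S).map (Over.homMk s w : Over.mk (f ≫ T.hom) ⟶ P), ?_⟩
  change (AlgSp.yon S).map _ ≫ (AlgSp.yon S).map π = _
  rw [← Functor.map_comp]
  congr 1
  apply Over.OverMorphism.ext
  exact hs''

/-- the sheaf torsor of a scheme torsor -/
noncomputable def cmpObj (A : QuotObj K G aX) : SpQuotObj K ((Y S).obj G) (mapAction aX) where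
  base := A.base
  b := (AlgSp.yon S).map (toUnit A.base)
  P := (Y S).obj A.P
  act := mapAction A.act
  π := (Y S).map A.π
  cart := by
    have h1 := map_isPullback A.cart
    refine IsPullback.of_iso h1 (asIso (mu G A.P)).symm (Iso.refl _) (Iso.refl _) (Iso.refl _) ?_ ?_ ?_ ?_
    · simp
    · simp [mu_snd]
    · simp
    · simp
  loc := hasSecLoc_of_isLocallyTrivialFor K A.π A.loc
  φ := (Y S).map A.φ
  eqv := by
    rw [mapAction_act, mapAction_act, Category.assoc, ← Functor.map_comp, A.eqv, Functor.map_comp,
      mu_whiskerLeft_assoc]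

variable {K G aX}

/-- the comparison on morphisms -/
noncomputable def cmpMap {A A' : QuotObj K G aX} (h : A ⟶ A') : cmpObj K G aX A ⟶ cmpObj K G aX A' where
  base := h.base
  wb := by
    change (AlgSp.yon S).map h.base ≫ (AlgSp.yon S).map (toUnit A'.base) = (AlgSp.yon S).map (toUnit A.base)
    rw [← Functor.map_comp]
    congr 1
    exact toUnit_unique _ _
  top := (Y S).map h.top
  eqv := by
    change (mu G A.P ≫ (Y S).map A.act.act) ≫ (Y S).map h.top =
      ((Y S).obj G ◁ (Y S).map h.top) ≫ mu G A'.P ≫ (Y S).map A'.act.act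
    rw [Category.assoc, ← Functor.map_comp, h.eqv, Functor.map_comp, mu_whiskerLeft_assoc]
  cart := map_isPullback h.cart
  wφ := by
    change (Y S).map h.top ≫ (Y S).map A'.φ = (Y S).map A.φ
    rw [← Functor.map_comp, h.wφ]

@[simp] theorem cmpMap_base {A A' : QuotObj K G aX} (h : A ⟶ A') : (cmpMap h).base = h.base := rfl
@[simp] theorem cmpMap_top {A A' : QuotObj K G aX} (h : A ⟶ A') : (cmpMap h).top = (Y S).map h.top := rfl

variable (K G aX)

/-- the comparison functor from scheme torsors to sheaf torsors -/
noncomputable def cmp : QuotSt K G aX ⥤ᵇ SpQuotSt K ((Y S).obj G) (mapAction aX) where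
  toFunctor :=
    { obj := cmpObj K G aX
      map := fun h => cmpMap h
      map_id := fun A => SpQuotObj.hom_ext rfl (by
        change (Y S).map (𝟙 A.P) = 𝟙 _
        exact CategoryTheory.Functor.map_id _ _)
      map_comp := fun f g => SpQuotObj.hom_ext rfl (by
        change (Y S).map (f.top ≫ g.top) = (Y S).map f.top ≫ (Y S).map g.top
        exact CategoryTheory.Functor.map_comp _ _ _) }
  w := rfl

variable {K G aX}

instance : (cmp K G aX).toFunctor.Faithful where
  map_injective {A A'} f g h := by
    have h1 : (cmpMap f).base = (cmpMap g).base := congrArg SpQuotObj.Hom.base h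
    have h2 : (cmpMap f).top = (cmpMap g).top := congrArg SpQuotObj.Hom.top h
    exact QuotObj.hom_ext h1 ((Y S).map_injective h2)

instance : (cmp K G aX).toFunctor.Full where
  map_surjective {A A'} k := by
    have hk : (Y S).map ((Y S).preimage k.top) = k.top := Functor.map_preimage _ _
    have hb : bHom k.base k.wb = (Y S).map k.base := rfl
    refine ⟨⟨k.base, (Y S).preimage k.top, ?_, ?_, ?_⟩, ?_⟩
    · apply (Y S).map_injective
      rw [← cancel_epi (mu G A.P), Functor.map_comp, Functor.map_comp, hk, ← mu_whiskerLeft_assoc, hk]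
      exact k.eqv
    · apply isPullback_of_map
      rw [hk]
      exact k.cart
    · apply (Y S).map_injective
      rw [Functor.map_comp, hk]
      exact k.wφ
    · exact SpQuotObj.hom_ext rfl hk

end Groth.Agent.Lib.helper4.QuotCmp
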