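import Mathlib
import Groth.Agent.Lib.Helper4.QuotCmp2

/-!
# Reflecting actions along `Y`; transport of actions along isomorphisms (helper4)
-/

set_option backward.isDefEq.respectTransparency false
set_option backward.isDefEq.respectTransparency.types false
set_option autoImplicit false
set_option linter.style.haveILetI false
set_option linter.unusedSectionVars false
set_option linter.unusedVariables false
set_option linter.unusedSimpArgs false

universe u

open CategoryTheory CategoryTheory.Limits MonoidalCategory CartesianMonoidalCategory MonObj GrpObj AlgebraicGeometry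
open AlgSt Opposite

namespace Groth.Agent.Lib.helper4.QuotCmp

variable {S : Scheme.{u}}

/-- transport of an action along an isomorphism -/
noncomputable def gActionOfIso {B : AlgSp.Sp S} {G P Q : Over B} [GrpObj G] (a : AlgSp.GAction G P) (θ : Q ≅ P) :
    AlgSp.GAction G Q where
  act := (G ◁ θ.hom) ≫ a.act ≫ θ.inv
  one_act := by
    rw [← whisker_exchange_assoc, reassoc_of% a.one_act, leftUnitor_naturality_assoc, Iso.hom_inv_id, Category.comp_id]
  mul_act := by
    rw [← whisker_exchange_assoc, reassoc_of% a.mul_act, MonoidalCategory.whiskerLeft_comp, MonoidalCategory.whiskerLeft_comp]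
    simp only [Category.assoc]
    rw [← MonoidalCategory.whiskerLeft_comp_assoc G θ.inv θ.hom, Iso.inv_hom_id, MonoidalCategory.whiskerLeft_id,
      Category.id_comp, associator_naturality_right_assoc]

@[simp] theorem gActionOfIso_act {B : AlgSp.Sp S} {G P Q : Over B} [GrpObj G] (a : AlgSp.GAction G P) (θ : Q ≅ P) :
    (gActionOfIso a θ).act = (G ◁ θ.hom) ≫ a.act ≫ θ.inv := rfl

variable {G : Over S} [GrpObj G]

/-- an action of `Y G` on `Y W` comes from an action of `G` on `W` -/
noncomputable def reflAction {W : Over S} (a' : AlgSp.GAction ((Y S).obj G) ((Y S).obj W)) : AlgGrp.Action G W where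
  act := (Y S).preimage (inv (mu G W) ≫ a'.act)
  one_act := by
    apply (Y S).map_injective
    rw [Functor.map_comp, Functor.map_preimage]
    have h1 : (Y S).map (η[G] ▷ W) ≫ inv (mu G W) = inv (mu (𝟙_ (Over S)) W) ≫ ((Y S).map η[G] ▷ (Y S).obj W) := by
      rw [IsIso.comp_inv_eq, Category.assoc, mu_whiskerRight, IsIso.inv_hom_id_assoc]
    rw [reassoc_of% h1, IsIso.inv_comp_eq]
    have h2 := a'.one_act
    rw [Functor.obj.η_def, MonoidalCategory.comp_whiskerRight, Category.assoc,
      Functor.LaxMonoidal.left_unitality] at h2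
    exact (cancel_epi _).1 h2
  mul_act := by
    apply (Y S).map_injective
    simp only [Functor.map_comp, Functor.map_preimage]
    have h1 : (Y S).map (μ[G] ▷ W) ≫ inv (mu G W) = inv (mu (G ⊗ G) W) ≫ ((Y S).map μ[G] ▷ (Y S).obj W) := by
      rw [IsIso.comp_inv_eq, Category.assoc, mu_whiskerRight, IsIso.inv_hom_id_assoc]
    have h3 : ∀ {A' A'' : Over S} (f : A' ⟶ A''), (Y S).map (G ◁ f) ≫ inv (mu G A'') =
        inv (mu G A') ≫ ((Y S).obj G ◁ (Y S).map f) := by
      intro A' A'' f
      rw [IsIso.comp_inv_eq, Category.assoc, mu_whiskerLeft, IsIso.inv_hom_id_assoc]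
    have h4 : (Y S).map (α_ G G W).hom = inv (mu (G ⊗ G) W) ≫ inv (mu G G ▷ (Y S).obj W) ≫
        (α_ ((Y S).obj G) ((Y S).obj G) ((Y S).obj W)).hom ≫ ((Y S).obj G ◁ mu G W) ≫ mu G (G ⊗ W) := by
      rw [IsIso.eq_inv_comp, IsIso.eq_inv_comp]
      exact Functor.LaxMonoidal.associativity (Y S) G G W
    have h2 := a'.mul_act
    rw [Functor.obj.μ_def, MonoidalCategory.comp_whiskerRight, Category.assoc] at h2
    rw [reassoc_of% h1, h4, reassoc_of% h3, Functor.map_preimage]
    simp only [Category.assoc, IsIso.hom_inv_id_assoc, MonoidalCategory.whiskerLeft_comp]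
    congr 1
    rw [IsIso.eq_inv_comp, h2]
    congr 1
    rw [← MonoidalCategory.whiskerLeft_comp_assoc, IsIso.hom_inv_id, MonoidalCategory.whiskerLeft_id, Category.id_comp]

theorem mu_reflAction {W : Over S} (a' : AlgSp.GAction ((Y S).obj G) ((Y S).obj W)) :
    mu G W ≫ (Y S).map (reflAction a').act = a'.act := by
  change mu G W ≫ (Y S).map ((Y S).preimage _) = _
  rw [Functor.map_preimage, IsIso.hom_inv_id_assoc]

end Groth.Agent.Lib.helper4.QuotCmp
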