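import Mathlib
import Groth.Agent.Lib.Helper4.QuotCmp3

/-!
# Sheaf torsors with representable total space come from scheme torsors (helper4)
-/

set_option backward.isDefEq.respectTransparency false
set_option backward.isDefEq.respectTransparency.types false
set_option autoImplicit false
set_option linter.style.haveILetI false
set_option linter.unusedSectionVars false
set_option linter.unusedVariables false
set_option linter.unusedSimpArgs false

universe u

open CategoryTheory CategoryTheory.Limits MonoidalCategory CartesianMonoidalCategory MonObj GrpObj AlgebraicGeometry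
open AlgSt Opposite

namespace Groth.Agent.Lib.helper4.QuotCmp

open Groth.Agent.Lib.helper4.SpQuot

variable {S : Scheme.{u}} {K : Precoverage Scheme.{u}} {G : Over S} [GrpObj G] {X : Over S} {aX : AlgGrp.Action G X}

/-- sections of the sheaf of a scheme give sections of the scheme -/
theorem isLocallyTrivialFor_of_hasSecLoc {T P : Over S} (π : P ⟶ T) (h : HasSecLoc K ((Y S).map π).left) :
    NonAbH1.IsLocallyTrivialFor K (Over.mk π.left : Over T.left) := by
  obtain ⟨R, hR, hs⟩ := h
  refine ⟨R, hR, fun T' f hf => ?_⟩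
  obtain ⟨s, hs'⟩ := hs f hf
  have h1 : (AlgSp.yon S).map ((AlgSp.yon S).preimage s ≫ π) =
      (AlgSp.yon S).map (Over.homMk f : Over.mk (f ≫ T.hom) ⟶ T) := by
    rw [Functor.map_comp, Functor.map_preimage]
    exact hs'
  have h2 := (AlgSp.yon S).map_injective h1
  exact ⟨((AlgSp.yon S).preimage s).left, congrArg CommaMorphism.left h2⟩

theorem exists_preimage_of_iso (A' : SpQuotObj K ((Y S).obj G) (mapAction aX)) (W : Over S)
    (θ : (Y S).obj W ≅ A'.P) :
    ∃ (A : QuotObj K G aX) (e : (cmp K G aX).toFunctor.obj A ≅ A'),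
      (SpQuotSt K ((Y S).obj G) (mapAction aX)).p.IsHomLift
        (𝟙 ((SpQuotSt K ((Y S).obj G) (mapAction aX)).p.obj A')) e.hom := by
  obtain ⟨base, b, P', act', π', cart', loc', φ', eqv'⟩ := A'
  obtain rfl := hom_B₀_eq b
  change (Y S).obj W ≅ P' at θ
  let a'' : AlgSp.GAction ((Y S).obj G) ((Y S).obj W) := gActionOfIso act' θ
  let aW : AlgGrp.Action G W := reflAction a''
  have haW : mu G W ≫ (Y S).map aW.act = ((Y S).obj G ◁ θ.hom) ≫ act'.act ≫ θ.inv := mu_reflAction a''
  let π₁ : (Y S).obj W ⟶ (Y S).obj base := θ.hom ≫ π'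
  let πW : W ⟶ base := (Y S).preimage π₁
  have hπW : (Y S).map πW = θ.hom ≫ π' := Functor.map_preimage _ _
  let φW : W ⟶ X := (Y S).preimage (θ.hom ≫ φ')
  have hφW : (Y S).map φW = θ.hom ≫ φ' := Functor.map_preimage _ _
  have hcart : IsPullback aW.act (snd G W) πW πW := by
    apply isPullback_of_map
    refine IsPullback.of_iso cart' ((whiskerLeftIso ((Y S).obj G) θ).symm ≪≫ asIso (mu G W)) θ.symm θ.symm (Iso.refl _)
      ?_ ?_ ?_ ?_
    · simp only [Iso.trans_hom, Iso.symm_hom, whiskerLeftIso_inv, asIso_hom, Category.assoc, haW]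
      rw [← MonoidalCategory.whiskerLeft_comp_assoc, Iso.inv_hom_id, MonoidalCategory.whiskerLeft_id, Category.id_comp]
    · simp only [Iso.trans_hom, Iso.symm_hom, whiskerLeftIso_inv, asIso_hom, Category.assoc, mu_snd, whiskerLeft_snd]
    · rw [hπW, Iso.symm_hom, Iso.inv_hom_id_assoc, Iso.refl_hom, Category.comp_id]
    · rw [hπW, Iso.symm_hom, Iso.inv_hom_id_assoc, Iso.refl_hom, Category.comp_id]
  have hloc : NonAbH1.IsLocallyTrivialFor K (Over.mk πW.left : Over base.left) := by
    apply isLocallyTrivialFor_of_hasSecLoc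
    obtain ⟨R, hR, hs⟩ := loc'
    refine ⟨R, hR, fun T' f hf => ?_⟩
    obtain ⟨s, hs'⟩ := hs f hf
    refine ⟨s ≫ θ.inv.left, ?_⟩
    rw [hπW, Category.assoc]
    change s ≫ θ.inv.left ≫ θ.hom.left ≫ π'.left = _
    rw [← Over.comp_left_assoc, Iso.inv_hom_id, Over.id_left, Category.id_comp]
    exact hs'
  have heqv : aW.act ≫ φW = (G ◁ φW) ≫ aX.act := by
    apply (Y S).map_injective
    rw [← cancel_epi (mu G W), Functor.map_comp, Functor.map_comp, reassoc_of% haW, hφW, Iso.inv_hom_id_assoc,
      eqv', ← mu_whiskerLeft_assoc, hφW, MonoidalCategory.whiskerLeft_comp, Category.assoc]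
    rfl
  let A : QuotObj K G aX :=
    { base := base, P := W, act := aW, π := πW, cart := hcart, loc := hloc, φ := φW, eqv := heqv }
  have hwb : (AlgSp.yon S).map (𝟙 base) ≫ (AlgSp.yon S).map (toUnit base) = (AlgSp.yon S).map (toUnit base) := by
    rw [CategoryTheory.Functor.map_id, Category.id_comp]
  have hsq : θ.hom ≫ π' = (Y S).map πW ≫ bHom (𝟙 base) hwb := by
    rw [bHom_id, hπW]
    exact (Category.comp_id _).symm
  have hiso : IsIso (bHom (𝟙 base) hwb) := by
    rw [bHom_id]
    infer_instance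
  let e : cmpObj K G aX A ⟶
      (⟨base, (AlgSp.yon S).map (toUnit base), P', act', π', cart', loc', φ', eqv'⟩ :
        SpQuotObj K ((Y S).obj G) (mapAction aX)) :=
    { base := 𝟙 base
      wb := hwb
      top := θ.hom
      eqv := by
        change (mu G W ≫ (Y S).map aW.act) ≫ θ.hom = ((Y S).obj G ◁ θ.hom) ≫ act'.act
        rw [haW, Category.assoc, Category.assoc, Iso.inv_hom_id, Category.comp_id]
      cart := IsPullback.of_horiz_isIso ⟨hsq⟩
      wφ := hφW.symm }
  have : IsIso e.base := by change IsIso (𝟙 base); infer_instance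
  have he : IsIso e := isIso_of_isIso_base e
  exact ⟨A, asIso e, isHomLift_base e⟩

end Groth.Agent.Lib.helper4.QuotCmp
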