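import Mathlib
import Groth.Agent.Lib.Helper4.QuotCmp4
import Groth.Agent.Lib.Helper4.AlgStAffine
import Groth.Agent.Lib.Helper5.AlgSpAffDesc5

/-!
# The quotient category `[X/G]` of scheme torsors is an fppf stack for affine `G` (helper4)

* `exists_rep`: the total sheaf of an fppf sheaf torsor under (the sheaf of) an affine group scheme is representable.
* `isEquivOver_cmp`: for `G ⟶ S` affine the comparison from scheme torsors to sheaf torsors is an equivalence.
* `isStack_quotSt`: S12836.
-/

set_option backward.isDefEq.respectTransparency false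
set_option backward.isDefEq.respectTransparency.types false
set_option autoImplicit false
set_option linter.style.haveILetI false
set_option linter.unusedSectionVars false
set_option linter.unusedVariables false
set_option linter.unusedSimpArgs false

universe u

open CategoryTheory CategoryTheory.Limits MonoidalCategory CartesianMonoidalCategory MonObj GrpObj AlgebraicGeometry
open AlgSt Opposite

namespace Groth.Agent.Lib.helper4.QuotCmp

open Groth.Agent.Lib.helper4.SpQuot Groth.Agent.Lib.helper5.AffDesc Groth.Agent.Lib.helper4.AlgStAffine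
  Groth.Agent.Lib.helper4.AlgStSource

variable {S : Scheme.{u}} {G : Over S} [GrpObj G] {X : Over S} {aX : AlgGrp.Action G X}

theorem affineWith_hom [IsAffineHom G.hom] :
    AffineWith (⊤ : MorphismProperty Scheme.{u}) ((Y S).obj G).hom := by
  intro Z hZ g
  obtain rfl := hom_B₀_eq g
  refine ⟨G ⊗ Z, snd G Z, (AlgSp.yon S).map (fst G Z), (isPullback_fst_snd G Z).map (AlgSp.yon S), ?_, trivial⟩
  have h1 : IsAffineHom (snd G Z).left :=
    Groth.Agent.Lib.helper4.QuotSt4.prop_snd (@IsAffineHom : MorphismProperty Scheme.{u}) inferInstance Z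
  have : IsAffine Z.left := hZ
  exact isAffine_of_isAffineHom (snd G Z).left

theorem exists_rep [IsAffineHom G.hom]
    (A' : SpQuotObj Scheme.fppfPrecoverage ((Y S).obj G) (mapAction aX)) :
    ∃ W : Over S, Nonempty ((Y S).obj W ≅ A'.P) := by
  have hB : AlgSp.IsAlgSpace (B₀ S) := AlgSp.IsAlgSpace.yon_obj _
  have hG : AlgSp.IsAlgSpace ((Y S).obj G).left := AlgSp.IsAlgSpace.yon_obj G
  have haff : AffineWith (⊤ : MorphismProperty Scheme.{u}) A'.π.left :=
    prop_π hB hG (AffineWith (⊤ : MorphismProperty Scheme.{u}))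
      (fun X₁ Y₁ X₂ Y₂ _ _ _ _ a b a' b' sq ha => AffineWith.of_isPullback sq ha)
      (isLocalOnBase_fppf_of_fpqc isLocalOnBase_affineWith_top) affineWith_hom A'
  have hrep : AlgSp.RepWith (⊤ : MorphismProperty Scheme.{u}) A'.π.left := repWith_of_affineWith haff
  obtain ⟨W, i, fst, sq⟩ := hrep.1 (𝟙 ((AlgSp.yon S).obj A'.base))
  have hiso : IsIso fst := sq.isIso_fst_of_isIso
  exact ⟨W, ⟨Over.isoMk (asIso fst) (hom_B₀_eq _)⟩⟩

theorem isEquivOver_cmp [IsAffineHom G.hom] : FibCat.IsEquivOver (cmp Scheme.fppfPrecoverage G aX) :=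
  Groth.Agent.FibEquiv.isEquivOver_of _ (fun A' => by
    obtain ⟨W, ⟨θ⟩⟩ := exists_rep A'
    exact exists_preimage_of_iso A' W θ)

/-- S12836 -/
theorem isStack_quotSt [IsAffineHom G.hom] :
    Stk.IsStack (QuotSh.J Scheme.fppfPrecoverage S) (QuotSt Scheme.fppfPrecoverage G aX) :=
  (Groth.Agent.StkLib.isStack_iff_of_isEquivOver' _ (cmp Scheme.fppfPrecoverage G aX) isEquivOver_cmp).2
    (isStack_spQuotSt _ _)

end Groth.Agent.Lib.helper4.QuotCmp
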