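import Mathlib
import Groth.Prelude.Def_QuotSh
import Groth.Agent.Lib.Helper14.RepSh8
import Groth.Agent.Lib.Helper14.QuotRel1

/-!
# Sheaf quotients: sections which become equal in the quotient are locally related (helper4)

`s, t : R ⟶ U` over `S` and `q : U ⟶ M` a quotient of `U` by `(s, t)` for the topology of `K`
(`QuotSh.IsQuotient K s t q`, no assumption on `(s, t)`).

* `PRel s t T x y`: the `T`-points `x, y` of `U` are related by a `T`-point of `R`.
* `relSieve s t x₁ x₂`: the sieve of those `f` along which `x₁, x₂` become related by the equivalence relation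
  generated by `PRel`.
* `relSieve_mem`: if `x₁ ≫ q = x₂ ≫ q`, then `relSieve s t x₁ x₂` is a covering sieve.
* `exists_presieve_of_mem_J`: a covering sieve of the big fppf site of `S` contains an fppf covering family.
-/

set_option autoImplicit false
set_option linter.style.haveILetI false
set_option linter.unusedSectionVars false
set_option backward.isDefEq.respectTransparency false
universe u
open CategoryTheory CategoryTheory.Limits AlgebraicGeometry Opposite

namespace Groth.Agent.Lib.Helper4.QuotGeom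

open Groth.Agent.Lib.Helper14 Groth.Agent.Lib.Helper14.RepSh

variable (K : Precoverage Scheme.{u}) {S : Scheme.{u}} {R U M : Over S} (s t : R ⟶ U) {q : U ⟶ M}

/-- The `T`-points `x, y` of `U` are related by a `T`-point of `R`. -/
def PRel (T : Over S) (x y : T ⟶ U) : Prop := ∃ r : T ⟶ R, r ≫ s = x ∧ r ≫ t = y

theorem PRel.comp {T T' : Over S} (f : T' ⟶ T) {x y : T ⟶ U} (h : PRel s t T x y) :
    PRel s t T' (f ≫ x) (f ≫ y) := by
  obtain ⟨r, rfl, rfl⟩ := h
  exact ⟨f ≫ r, Category.assoc _ _ _, Category.assoc _ _ _⟩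

theorem eqvGen_comp {T T' : Over S} (f : T' ⟶ T) {x y : T ⟶ U}
    (h : Relation.EqvGen (PRel s t T) x y) : Relation.EqvGen (PRel s t T') (f ≫ x) (f ≫ y) := by
  induction h with
  | rel x y h => exact Relation.EqvGen.rel _ _ (h.comp s t f)
  | refl x => exact Relation.EqvGen.refl _
  | symm x y _ ih => exact Relation.EqvGen.symm _ _ ih
  | trans x y z _ _ ih₁ ih₂ => exact Relation.EqvGen.trans _ _ _ ih₁ ih₂

/-- The sieve of those `f` along which `x₁, x₂` become equivalent. -/
def relSieve {W : Over S} (x₁ x₂ : W ⟶ U) : Sieve W where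
  arrows V f := Relation.EqvGen (PRel s t V) (f ≫ x₁) (f ≫ x₂)
  downward_closed := by
    intro V V' f hf g
    have := eqvGen_comp s t g hf
    rwa [← Category.assoc, ← Category.assoc] at this

theorem eqvGen_of_rel {V : Over S} (a b : (CategoryTheory.uliftYoneda.{u + 1}.obj U).obj (op V))
    (h : Relation.EqvGen (QuotRel.Rel (CategoryTheory.uliftYoneda.{u + 1}.map s)
      (CategoryTheory.uliftYoneda.{u + 1}.map t) (op V)) a b) :
    Relation.EqvGen (PRel s t V) a.down b.down := by
  induction h with
  | rel x y h =>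
    obtain ⟨r, rfl, rfl⟩ := h
    exact Relation.EqvGen.rel _ _ ⟨r.down, rfl, rfl⟩
  | refl x => exact Relation.EqvGen.refl _
  | symm x y _ ih => exact Relation.EqvGen.symm _ _ ih
  | trans x y z _ _ ih₁ ih₂ => exact Relation.EqvGen.trans _ _ _ ih₁ ih₂

variable {s t}

/-- The comparison from the presheaf quotient to `h_M` becomes an isomorphism after sheafification. -/
theorem W_quotDesc (hq : QuotSh.IsQuotient K s t q)
    (hz : CategoryTheory.uliftYoneda.{u + 1}.map s ≫ CategoryTheory.uliftYoneda.{u + 1}.map q =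
      CategoryTheory.uliftYoneda.{u + 1}.map t ≫ CategoryTheory.uliftYoneda.{u + 1}.map q) :
    (QuotSh.J K S).W (QuotRel.quotDesc (CategoryTheory.uliftYoneda.{u + 1}.map s)
      (CategoryTheory.uliftYoneda.{u + 1}.map t) (CategoryTheory.uliftYoneda.{u + 1}.map q) hz) := by
  obtain ⟨w, hiso⟩ := hq
  rw [GrothendieckTopology.W_iff]
  set ps := CategoryTheory.uliftYoneda.{u + 1}.map s with hps
  set pt := CategoryTheory.uliftYoneda.{u + 1}.map t with hpt
  set pq := CategoryTheory.uliftYoneda.{u + 1}.map q with hpq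
  set a := presheafToSheaf (QuotSh.J K S) (Type (u + 1)) with ha
  have hcolim : IsColimit (Cofork.ofπ (QuotRel.quotMk ps pt) (QuotRel.quotMk_condition ps pt)) :=
    Cofork.IsColimit.mk _ (fun c => QuotRel.quotDesc ps pt c.π c.condition)
      (fun c => QuotRel.quotMk_desc ps pt c.π c.condition)
      (fun c m hm => by
        rw [← cancel_epi (QuotRel.quotMk ps pt)]
        exact hm.trans (QuotRel.quotMk_desc ps pt c.π c.condition).symm)
  have hcolim' := isColimitCoforkMapOfIsColimit a (QuotRel.quotMk_condition ps pt) hcolim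
  have w' : a.map ps ≫ a.map (QuotRel.quotMk ps pt) = a.map pt ≫ a.map (QuotRel.quotMk ps pt) := by
    rw [← a.map_comp, ← a.map_comp, QuotRel.quotMk_condition]
  have hi1 : IsIso (coequalizer.desc (f := QuotSh.repMap K s) (g := QuotSh.repMap K t)
      (a.map (QuotRel.quotMk ps pt)) w') :=
    isIso_coequalizer_desc (a := QuotSh.repMap K s) (b := QuotSh.repMap K t)
      (a.map (QuotRel.quotMk ps pt)) w' hcolim'
  have hfac : coequalizer.desc (f := QuotSh.repMap K s) (g := QuotSh.repMap K t)
      (a.map (QuotRel.quotMk ps pt)) w' ≫ a.map (QuotRel.quotDesc ps pt pq hz) =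
      QuotSh.quotDesc K q w := by
    apply coequalizer.hom_ext
    rw [coequalizer.π_desc_assoc, ← a.map_comp, QuotRel.quotMk_desc]
    exact (quotπ_quotDesc K q w).symm
  have hi2 : IsIso (coequalizer.desc (f := QuotSh.repMap K s) (g := QuotSh.repMap K t)
      (a.map (QuotRel.quotMk ps pt)) w' ≫ a.map (QuotRel.quotDesc ps pt pq hz)) := by
    rw [hfac]; exact hiso
  exact IsIso.of_isIso_comp_left (coequalizer.desc (f := QuotSh.repMap K s) (g := QuotSh.repMap K t)
      (a.map (QuotRel.quotMk ps pt)) w') _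

/-- Sections of `U` which become equal in the quotient are locally related. -/
theorem relSieve_mem (hq : QuotSh.IsQuotient K s t q) {W : Over S} (x₁ x₂ : W ⟶ U)
    (h : x₁ ≫ q = x₂ ≫ q) : relSieve s t x₁ x₂ ∈ QuotSh.J K S W := by
  have hz : CategoryTheory.uliftYoneda.{u + 1}.map s ≫ CategoryTheory.uliftYoneda.{u + 1}.map q =
      CategoryTheory.uliftYoneda.{u + 1}.map t ≫ CategoryTheory.uliftYoneda.{u + 1}.map q := by
    rw [← Functor.map_comp, ← Functor.map_comp, hq.1]
  have hW := W_quotDesc K hq hz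
  have hinj := hW.isLocallyInjective
  have hmem := hinj.equalizerSieve_mem (X := op W)
    (Quot.mk _ (ULift.up x₁)) (Quot.mk _ (ULift.up x₂)) (by
      show ULift.up (x₁ ≫ q) = ULift.up (x₂ ≫ q)
      rw [h])
  refine (QuotSh.J K S).superset_covering ?_ hmem
  intro V f hf
  have hf' : Quot.mk (QuotRel.Rel (CategoryTheory.uliftYoneda.{u + 1}.map s)
      (CategoryTheory.uliftYoneda.{u + 1}.map t) (op V)) (ULift.up (f ≫ x₁)) =
      Quot.mk _ (ULift.up (f ≫ x₂)) := hf
  exact eqvGen_of_rel s t _ _ (Quot.eqvGen_exact hf')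

/-- A covering sieve of the big fppf site of `S` contains an fppf covering family. -/
theorem exists_presieve_of_mem_J {W : Over S} (R₀ : Sieve W)
    (hR : R₀ ∈ QuotSh.J Scheme.fppfPrecoverage S W) :
    ∃ R' : Presieve W.left, R' ∈ Scheme.fppfPrecoverage W.left ∧
      ∀ ⦃V : Scheme.{u}⦄ (g : V ⟶ W.left), R' g → R₀ (Over.homMk g : Over.mk (g ≫ W.hom) ⟶ W) := by
  rw [GrothendieckTopology.mem_over_iff] at hR
  haveI : Scheme.fppfPrecoverage.{u}.HasIsos := fppf_hasIsos
  haveI : Scheme.fppfPrecoverage.{u}.HasPullbacks := fppf_hasPullbacks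
  rw [Precoverage.mem_toGrothendieck_iff_of_isStableUnderComposition] at hR
  obtain ⟨R', hR', hle⟩ := hR
  refine ⟨R', hR', fun V g hg => ?_⟩
  have h1 := hle V g hg
  rwa [Sieve.overEquiv_iff] at h1

end Groth.Agent.Lib.Helper4.QuotGeom
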