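import Mathlib
import Groth.Prelude.Def_QuotSh
import Groth.Prelude.Def_W4bk4git07Quot
import Groth.Agent.Lib.Helper4.QuotGeom1
import Groth.Agent.Lib.Helper4.ActGrpd
import Groth.Agent.Lib.Helper4.TorsorGeomQuot

/-!
# An fppf sheaf quotient of a group action is a geometric quotient (helper4)

`G` a group scheme over `S` acting on `X`, `q : X ⟶ Y` with `QuotSh.IsQuotient fppf act snd q`.

* `prel_of_eqvGen`: the orbit relation on `T`-points is an equivalence relation.
* `exists_cover_rel`: points of `X` with the same image in `Y` are in the same orbit fppf-locally.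
* `isLocallyTrivialFor_of_isQuotient`: `q` has sections fppf-locally.
* `isUnivSubmersive_of_isLocallyTrivialFor`: a morphism with sections fppf-locally is universally submersive.
* `isGeomQuot_of_isQuotient`: `q` is a geometric quotient.
-/

set_option autoImplicit false
set_option linter.style.haveILetI false
set_option linter.unusedSectionVars false
set_option backward.isDefEq.respectTransparency false
universe u
open CategoryTheory MonoidalCategory CartesianMonoidalCategory MonObj AlgebraicGeometry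
open CategoryTheory.Limits

namespace Groth.Agent.Lib.Helper4.QuotGeom

open Groth.Agent.Lib.Helper14.RepSh Groth.Agent.Lib.Helper4.ActGrpd
  Groth.Agent.Lib.Helper4.TorsorFpqc4 Groth.Agent.Lib.Helper4.TorsorGeomQuot

section Action

variable {S : Scheme.{u}} {G X Y : Over S} [GrpObj G] (a : AlgGrp.Action G X) (q : X ⟶ Y)

theorem prel_iff {T : Over S} (x y : T ⟶ X) :
    PRel a.act (snd G X) T x y ↔ ∃ g : T ⟶ G, ac a g y = x := by
  constructor
  · rintro ⟨r, rfl, rfl⟩
    exact ⟨r ≫ fst G X, (comp_act a r).symm⟩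
  · rintro ⟨g, rfl⟩
    exact ⟨lift g y, rfl, lift_snd _ _⟩

/-- The orbit relation on `T`-points is an equivalence relation. -/
theorem prel_of_eqvGen {T : Over S} {x y : T ⟶ X}
    (h : Relation.EqvGen (PRel a.act (snd G X) T) x y) : PRel a.act (snd G X) T x y := by
  induction h with
  | rel x y h => exact h
  | refl x => exact (prel_iff a x x).2 ⟨1, ac_one a x⟩
  | symm x y _ ih =>
    obtain ⟨g, rfl⟩ := (prel_iff a x y).1 ih
    refine (prel_iff a _ _).2 ⟨g⁻¹, ?_⟩
    rw [← ac_mul, inv_mul_cancel, ac_one]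
  | trans x y z _ _ ih₁ ih₂ =>
    obtain ⟨g, rfl⟩ := (prel_iff a x y).1 ih₁
    obtain ⟨h, rfl⟩ := (prel_iff a y z).1 ih₂
    exact (prel_iff a _ _).2 ⟨g * h, ac_mul a g h z⟩

variable {a q}

/-- Points of `X` with the same image in `Y` are in the same orbit fppf-locally. -/
theorem exists_cover_rel (hq : QuotSh.IsQuotient Scheme.fppfPrecoverage a.act (snd G X) q)
    {W : Scheme.{u}} (x₁ x₂ : W ⟶ X.left) (h : x₁ ≫ q.left = x₂ ≫ q.left) :
    ∃ R' : Presieve W, R' ∈ Scheme.fppfPrecoverage W ∧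
      ∀ ⦃V : Scheme.{u}⦄ (g : V ⟶ W), R' g → ∃ w : V ⟶ (G ⊗ X).left,
        w ≫ a.act.left = g ≫ x₁ ∧ w ≫ (snd G X).left = g ≫ x₂ := by
  have hS : x₂ ≫ X.hom = x₁ ≫ X.hom := by
    rw [← Over.w q, ← Category.assoc, ← h, Category.assoc]
  let W' : Over S := Over.mk (x₁ ≫ X.hom)
  let x₁' : W' ⟶ X := Over.homMk x₁ rfl
  let x₂' : W' ⟶ X := Over.homMk x₂ hS
  have h' : x₁' ≫ q = x₂' ≫ q := by
    apply Over.OverMorphism.ext
    exact h
  have hmem := relSieve_mem Scheme.fppfPrecoverage hq x₁' x₂' h'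
  obtain ⟨R', hR', hle⟩ := exists_presieve_of_mem_J _ hmem
  refine ⟨R', hR', fun V g hg => ?_⟩
  have h1 : Relation.EqvGen (PRel a.act (snd G X) _) ((Over.homMk g : Over.mk (g ≫ W'.hom) ⟶ W') ≫ x₁')
      ((Over.homMk g : Over.mk (g ≫ W'.hom) ⟶ W') ≫ x₂') := hle g hg
  obtain ⟨r, hr1, hr2⟩ := prel_of_eqvGen a h1
  exact ⟨r.left, congrArg CommaMorphism.left hr1, congrArg CommaMorphism.left hr2⟩

/-- `q` has sections fppf-locally. -/
theorem isLocallyTrivialFor_of_isQuotient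
    (hq : QuotSh.IsQuotient Scheme.fppfPrecoverage a.act (snd G X) q) :
    NonAbH1.IsLocallyTrivialFor Scheme.fppfPrecoverage (Over.mk q.left : Over Y.left) := by
  haveI : Epi (QuotSh.repMap Scheme.fppfPrecoverage q) := epi_of_isQuotient Scheme.fppfPrecoverage hq
  obtain ⟨R', hR', hsec⟩ := exists_presieve_of_epi_fppf q
  exact ⟨R', hR', fun V g hg => hsec g hg⟩

end Action

/-- Passing from fppf to fpqc. -/
theorem isLocallyTrivialFor_fpqc_of_fppf {X Y : Scheme.{u}} {φ : X ⟶ Y}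
    (hloc : NonAbH1.IsLocallyTrivialFor Scheme.fppfPrecoverage (Over.mk φ : Over Y)) :
    NonAbH1.IsLocallyTrivialFor Scheme.fpqcPrecoverage (Over.mk φ : Over Y) := by
  obtain ⟨R, hR, hsec⟩ := hloc
  exact ⟨R, Scheme.fppfPrecoverage_le_fpqcPrecoverage _ hR, hsec⟩

/-- A morphism with sections fppf-locally on the target is universally submersive. -/
theorem isUnivSubmersive_of_isLocallyTrivialFor {X Y : Scheme.{u}} (φ : X ⟶ Y)
    (hloc : NonAbH1.IsLocallyTrivialFor Scheme.fppfPrecoverage (Over.mk φ : Over Y)) :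
    GIT.IsUnivSubmersive φ := by
  intro X' Y' i₁ i₂ f' sq
  have hloc' := isLocallyTrivialFor_of_isPullback Scheme.fppfPrecoverage sq hloc
  have hsurj : Function.Surjective f'.base :=
    surjective_of_isLocallyTrivialFor f' (isLocallyTrivialFor_fpqc_of_fppf hloc')
  obtain ⟨R, hR, hsec⟩ := hloc'
  obtain ⟨𝒰, rfl⟩ := R.exists_eq_preZeroHypercover
  choose σ hσ using fun i => hsec (𝒰.f i) (Presieve.ofArrows.mk i)
  have hσ' : ∀ i, σ i ≫ f' = 𝒰.f i := hσ
  have hR' : (∀ x, ∃ i, x ∈ Set.range (𝒰.f i)) ∧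
      ∀ i, (@Flat ⊓ @LocallyOfFinitePresentation : MorphismProperty Scheme.{u}) (𝒰.f i) :=
    (Scheme.ofArrows_mem_precoverage_iff _).1 hR
  show Topology.IsQuotientMap f'
  refine ⟨Topology.isCoinducing_iff.2 fun V => ⟨fun hV => ?_, fun hV => hV.preimage f'.continuous⟩, hsurj⟩
  have hU : V = ⋃ i, (𝒰.f i) '' ((𝒰.f i) ⁻¹' V) := by
    ext y
    constructor
    · intro hy
      obtain ⟨i, t, ht⟩ := hR'.1 y
      refine Set.mem_iUnion.2 ⟨i, t, ?_, ht⟩
      rw [Set.mem_preimage, ht]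
      exact hy
    · intro hy
      obtain ⟨i, t, ht, rfl⟩ := Set.mem_iUnion.1 hy
      exact ht
  rw [hU]
  refine isOpen_iUnion fun i => ?_
  haveI : Flat (𝒰.f i) := (hR'.2 i).1
  haveI : LocallyOfFinitePresentation (𝒰.f i) := (hR'.2 i).2
  apply (𝒰.f i).isOpenMap
  have e : (𝒰.f i) ⁻¹' V = (σ i) ⁻¹' (f' ⁻¹' V) := by
    rw [← hσ' i]
    rfl
  rw [e]
  exact hV.preimage (σ i).continuous

/-- Functions on the base are the functions on the total space equalised by the two projections (local form). -/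
theorem invariants_of_sections' {P B E : Scheme.{u}} (π : P ⟶ B) (p₁ p₂ : E ⟶ P)
    (hp : p₁ ≫ π = p₂ ≫ π)
    (hfac : ∀ (m : P ⟶ A1.{u}), p₁ ≫ m = p₂ ≫ m → ∀ (W : Scheme.{u}) (x₁ x₂ : W ⟶ P),
      x₁ ≫ π = x₂ ≫ π → x₁ ≫ m = x₂ ≫ m)
    (hloc : NonAbH1.IsLocallyTrivialFor Scheme.fpqcPrecoverage (Over.mk π : Over B)) :
    Function.Injective π.appTop.hom ∧
      ∀ s : Γ(P, ⊤), s ∈ Set.range π.appTop.hom ↔ p₁.appTop.hom s = p₂.appTop.hom s := by
  obtain ⟨R, hR, hsec⟩ := hloc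
  obtain ⟨𝒰, rfl⟩ := R.exists_eq_preZeroHypercover
  choose σ hσ using fun i => hsec (𝒰.f i) (Presieve.ofArrows.mk i)
  have hσ' : ∀ i, σ i ≫ π = 𝒰.f i := hσ
  have hdesc : ∀ (m : P ⟶ A1.{u}),
      (∀ (W : Scheme.{u}) (x₁ x₂ : W ⟶ P), x₁ ≫ π = x₂ ≫ π → x₁ ≫ m = x₂ ≫ m) →
      ∃! z : B ⟶ A1.{u}, π ≫ z = m :=
    fun m hm => SheafGlue.existsUnique_desc_of_sections π 𝒰.X 𝒰.f hR σ hσ' m hm
  refine ⟨fun c c' hcc => ?_, fun s => ⟨?_, fun hs => ?_⟩⟩
  · obtain ⟨z, _, huniq⟩ := hdesc (π ≫ toA1 c) (fun W x₁ x₂ hx => by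
      rw [← Category.assoc, hx, Category.assoc])
    have e1 : toA1 c = z := huniq _ rfl
    have e2 : toA1 c' = z := huniq _ (by
      show π ≫ toA1 c' = π ≫ toA1 c
      rw [comp_toA1, comp_toA1, hcc])
    exact toA1_injective (e1.trans e2.symm)
  · rintro ⟨c, rfl⟩
    have h1 : π.appTop ≫ p₁.appTop = π.appTop ≫ p₂.appTop := by
      rw [← Scheme.Hom.comp_appTop, ← Scheme.Hom.comp_appTop, hp]
    exact ConcreteCategory.congr_hom h1 c
  · have hm : ∀ (W : Scheme.{u}) (x₁ x₂ : W ⟶ P), x₁ ≫ π = x₂ ≫ π →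
        x₁ ≫ toA1 s = x₂ ≫ toA1 s :=
      hfac (toA1 s) (by rw [comp_toA1, comp_toA1 p₂, hs])
    obtain ⟨z, hz, -⟩ := hdesc (toA1 s) hm
    obtain ⟨c, hc⟩ := toA1_surjective z
    refine ⟨c, toA1_injective ?_⟩
    rw [← comp_toA1, hc, hz]

section GeomQuot

variable {S : Scheme.{u}} {G X Y : Over S} [GrpObj G] {a : AlgGrp.Action G X} {q : X ⟶ Y}

/-- The orbit clause. -/
theorem psiY_surjective (hq : QuotSh.IsQuotient Scheme.fppfPrecoverage a.act (snd G X) q)
    (hinv : GIT.IsInvariant a q) : Function.Surjective (GIT.PsiY a q hinv).base := by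
  intro z
  let jz : Spec ((pullback q.left q.left).residueField z) ⟶ pullback q.left q.left :=
    (pullback q.left q.left).fromSpecResidueField z
  obtain ⟨R', hR', hrel⟩ := exists_cover_rel hq (jz ≫ pullback.fst q.left q.left)
    (jz ≫ pullback.snd q.left q.left) (by rw [Category.assoc, Category.assoc, pullback.condition])
  obtain ⟨𝒰, rfl⟩ := R'.exists_eq_preZeroHypercover
  have hR'' : (∀ x, ∃ i, x ∈ Set.range (𝒰.f i)) ∧
      ∀ i, (@Flat ⊓ @LocallyOfFinitePresentation : MorphismProperty Scheme.{u}) (𝒰.f i) :=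
    (Scheme.ofArrows_mem_precoverage_iff _).1 hR'
  have w₀ : (Spec ((pullback q.left q.left).residueField z) : Scheme.{u}) :=
    (inferInstance : Nonempty (Spec ((pullback q.left q.left).residueField z))).some
  obtain ⟨i, t, ht⟩ := hR''.1 w₀
  obtain ⟨w, hw1, hw2⟩ := hrel (𝒰.f i) (Presieve.ofArrows.mk i)
  have hcomp : w ≫ GIT.PsiY a q hinv = 𝒰.f i ≫ jz := by
    apply pullback.hom_ext
    · rw [Category.assoc, Category.assoc]
      simp only [GIT.PsiY, pullback.lift_fst]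
      exact hw1
    · rw [Category.assoc, Category.assoc]
      simp only [GIT.PsiY, pullback.lift_snd]
      exact hw2
  refine ⟨w.base t, ?_⟩
  have h1 : (GIT.PsiY a q hinv).base (w.base t) = (w ≫ GIT.PsiY a q hinv).base t := rfl
  rw [h1, hcomp]
  show jz.base ((𝒰.f i).base t) = z
  exact Scheme.fromSpecResidueField_apply z _

/-- The sections clause. -/
theorem sections_of_isQuotient (hq : QuotSh.IsQuotient Scheme.fppfPrecoverage a.act (snd G X) q)
    (U : Y.left.Opens) :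
    Function.Injective (q.left.app U) ∧ Set.range (q.left.app U) = {f | GIT.IsInvSection a q U f} := by
  have hinv : GIT.IsInvariant a q := hq.1
  have hloc := isLocallyTrivialFor_fpqc_of_fppf (isLocallyTrivialFor_of_isQuotient hq)
  set V : X.left.Opens := q.left ⁻¹ᵁ U with hV
  set W₀ : (G ⊗ X).left.Opens := a.act.left ⁻¹ᵁ V ⊓ (snd G X).left ⁻¹ᵁ V with hW₀
  set π : V.toScheme ⟶ U.toScheme := q.left.resLE U V le_rfl with hπ
  set p₁ : W₀.toScheme ⟶ V.toScheme := a.act.left.resLE V W₀ inf_le_left with hp₁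
  set p₂ : W₀.toScheme ⟶ V.toScheme := (snd G X).left.resLE V W₀ inf_le_right with hp₂
  have hπι : π ≫ U.ι = V.ι ≫ q.left := Scheme.Hom.resLE_comp_ι _ _
  have hp₁ι : p₁ ≫ V.ι = W₀.ι ≫ a.act.left := Scheme.Hom.resLE_comp_ι _ _
  have hp₂ι : p₂ ≫ V.ι = W₀.ι ≫ (snd G X).left := Scheme.Hom.resLE_comp_ι _ _
  have hp : p₁ ≫ π = p₂ ≫ π := by
    rw [← cancel_mono U.ι, Category.assoc, Category.assoc, hπι, ← Category.assoc, ← Category.assoc,
      hp₁ι, hp₂ι, Category.assoc, Category.assoc, hinv.left]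
  have hfac : ∀ (m : V.toScheme ⟶ A1.{u}), p₁ ≫ m = p₂ ≫ m → ∀ (W : Scheme.{u})
      (x₁ x₂ : W ⟶ V.toScheme), x₁ ≫ π = x₂ ≫ π → x₁ ≫ m = x₂ ≫ m := by
    intro m hm W x₁ x₂ hx
    have hx' : (x₁ ≫ V.ι) ≫ q.left = (x₂ ≫ V.ι) ≫ q.left := by
      rw [Category.assoc, Category.assoc, ← hπι, ← Category.assoc, ← Category.assoc, hx]
    obtain ⟨R', hR', hrel⟩ := exists_cover_rel hq (x₁ ≫ V.ι) (x₂ ≫ V.ι) hx'
    obtain ⟨𝒰, rfl⟩ := R'.exists_eq_preZeroHypercover
    refine SheafGlue.hom_ext_of_fpqc 𝒰.X 𝒰.f (Scheme.fppfPrecoverage_le_fpqcPrecoverage _ hR') _ _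
      (fun i => ?_)
    obtain ⟨w₀, hw₀1, hw₀2⟩ := hrel (𝒰.f i) (Presieve.ofArrows.mk i)
    have hrange : Set.range w₀.base ⊆ Set.range W₀.ι.base := by
      rintro _ ⟨t, rfl⟩
      rw [Scheme.Opens.range_ι]
      refine ⟨?_, ?_⟩
      · show (a.act.left.base (w₀.base t)) ∈ V
        have : a.act.left.base (w₀.base t) = (𝒰.f i ≫ x₁ ≫ V.ι).base t := by
          rw [← hw₀1]; rfl
        rw [this]
        exact (x₁.base ((𝒰.f i).base t)).2
      · show ((snd G X).left.base (w₀.base t)) ∈ V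
        have : (snd G X).left.base (w₀.base t) = (𝒰.f i ≫ x₂ ≫ V.ι).base t := by
          rw [← hw₀2]; rfl
        rw [this]
        exact (x₂.base ((𝒰.f i).base t)).2
    have e1 : IsOpenImmersion.lift W₀.ι w₀ hrange ≫ p₁ = 𝒰.f i ≫ x₁ := by
      rw [← cancel_mono V.ι, Category.assoc, hp₁ι, ← Category.assoc, IsOpenImmersion.lift_fac, hw₀1,
        Category.assoc]
    have e2 : IsOpenImmersion.lift W₀.ι w₀ hrange ≫ p₂ = 𝒰.f i ≫ x₂ := by
      rw [← cancel_mono V.ι, Category.assoc, hp₂ι, ← Category.assoc, IsOpenImmersion.lift_fac, hw₀2,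
        Category.assoc]
    rw [← Category.assoc, ← e1, ← Category.assoc (𝒰.f i), ← e2, Category.assoc, Category.assoc, hm]
  have hlocπ : NonAbH1.IsLocallyTrivialFor Scheme.fpqcPrecoverage (Over.mk π : Over U.toScheme) := by
    have sq : IsPullback π V.ι U.ι q.left := by
      rw [hπ, Scheme.Hom.resLE_eq_morphismRestrict]
      exact isPullback_morphismRestrict q.left U
    exact isLocallyTrivialFor_of_isPullback Scheme.fpqcPrecoverage sq hloc
  obtain ⟨hinj, hrange⟩ := invariants_of_sections' π p₁ p₂ hp hfac hlocπ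
  have eπ : U.topIso.inv ≫ π.appTop = q.left.app U ≫ V.topIso.inv := by
    rw [Scheme.Hom.appTop, hπ, Scheme.Hom.resLE_app_top, Iso.inv_hom_id_assoc, ← Scheme.Hom.app_eq_appLE]
  have ep₁ : V.topIso.inv ≫ p₁.appTop = a.act.left.appLE V W₀ inf_le_left ≫ W₀.topIso.inv := by
    rw [Scheme.Hom.appTop, hp₁, Scheme.Hom.resLE_app_top, Iso.inv_hom_id_assoc]
  have ep₂ : V.topIso.inv ≫ p₂.appTop = (snd G X).left.appLE V W₀ inf_le_right ≫ W₀.topIso.inv := by
    rw [Scheme.Hom.appTop, hp₂, Scheme.Hom.resLE_app_top, Iso.inv_hom_id_assoc]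
  have kπ : ∀ c : Γ(Y.left, U), π.appTop.hom (U.topIso.inv.hom c) = V.topIso.inv.hom ((q.left.app U).hom c) :=
    fun c => ConcreteCategory.congr_hom eπ c
  have k₁ : ∀ f : Γ(X.left, V), p₁.appTop.hom (V.topIso.inv.hom f) =
      W₀.topIso.inv.hom ((a.act.left.appLE V W₀ inf_le_left).hom f) :=
    fun f => ConcreteCategory.congr_hom ep₁ f
  have k₂ : ∀ f : Γ(X.left, V), p₂.appTop.hom (V.topIso.inv.hom f) =
      W₀.topIso.inv.hom (((snd G X).left.appLE V W₀ inf_le_right).hom f) :=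
    fun f => ConcreteCategory.congr_hom ep₂ f
  have injU : Function.Injective U.topIso.inv.hom :=
    (ConcreteCategory.bijective_of_isIso U.topIso.inv).1
  have injV : Function.Injective V.topIso.inv.hom :=
    (ConcreteCategory.bijective_of_isIso V.topIso.inv).1
  have injW : Function.Injective W₀.topIso.inv.hom :=
    (ConcreteCategory.bijective_of_isIso W₀.topIso.inv).1
  have surjU : Function.Surjective U.topIso.inv.hom :=
    (ConcreteCategory.bijective_of_isIso U.topIso.inv).2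
  refine ⟨fun c c' hcc => ?_, ?_⟩
  · apply injU
    apply hinj
    show π.appTop.hom (U.topIso.inv.hom c) = π.appTop.hom (U.topIso.inv.hom c')
    rw [kπ, kπ]
    exact congrArg _ hcc
  · ext f
    constructor
    · rintro ⟨c, rfl⟩
      show (a.act.left.appLE V W₀ inf_le_left).hom ((q.left.app U).hom c) =
        ((snd G X).left.appLE V W₀ inf_le_right).hom ((q.left.app U).hom c)
      apply injW
      rw [← k₁, ← k₂]
      exact (hrange _).1 ⟨U.topIso.inv.hom c, kπ c⟩
    · intro hf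
      have hf' : (a.act.left.appLE V W₀ inf_le_left).hom f =
        ((snd G X).left.appLE V W₀ inf_le_right).hom f := hf
      have h1 : p₁.appTop.hom (V.topIso.inv.hom f) = p₂.appTop.hom (V.topIso.inv.hom f) := by
        rw [k₁, k₂, hf']
      obtain ⟨c₀, hc₀⟩ := (hrange _).2 h1
      obtain ⟨c, rfl⟩ := surjU c₀
      refine ⟨c, ?_⟩
      apply injV
      rw [← kπ]
      exact hc₀

/-- An fppf sheaf quotient of a group action is a geometric quotient. -/
theorem isGeomQuot_of_isQuotient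
    (hq : QuotSh.IsQuotient Scheme.fppfPrecoverage a.act (snd G X) q) : GIT.IsGeomQuot a q := by
  have hinv : GIT.IsInvariant a q := hq.1
  have hloc := isLocallyTrivialFor_of_isQuotient hq
  exact ⟨hinv, surjective_of_isLocallyTrivialFor q.left (isLocallyTrivialFor_fpqc_of_fppf hloc),
    psiY_surjective hq hinv, isUnivSubmersive_of_isLocallyTrivialFor q.left hloc,
    sections_of_isQuotient hq⟩

end GeomQuot

end Groth.Agent.Lib.Helper4.QuotGeom
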