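import Mathlib
import Groth.Agent.S0412
import Groth.Agent.Lib.Helper4.QuotGeom2
import Groth.Agent.Lib.Helper4.TorsorFpqc2

/-!
# fppf torsors under smooth group schemes are étale-locally trivial (helper4)

* `isLocallyTrivialFor_etale_of_smooth_surjective`: a smooth surjective morphism has sections on an étale covering (S0412).
* `isLocallyTrivialFor_etale_of_isTorsorFor_fppf`: S14276.
-/

set_option autoImplicit false
set_option backward.isDefEq.respectTransparency false
set_option linter.style.haveILetI false
universe u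
open CategoryTheory CategoryTheory.Limits MonoidalCategory CartesianMonoidalCategory MonObj GrpObj AlgebraicGeometry

namespace Groth.Agent.Lib.Helper4.SmoothTorsorEtale

theorem isLocallyTrivialFor_etale_of_smooth_surjective {X : Scheme.{u}} (P : Over X) [Smooth P.hom]
    (hsurj : Function.Surjective P.hom.base) : NonAbH1.IsLocallyTrivialFor Scheme.etalePrecoverage P := by
  have key : ∀ x : X, ∃ (S' : Scheme.{u}) (g : S' ⟶ X) (s' : S'), Etale g ∧ g s' = x ∧
      ∃ h : S' ⟶ P.left, h ≫ P.hom = g :=
    fun x => Groth.Agent.S0412.result P.hom x (hsurj x)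
  choose S' g s' hg hgs hsec using key
  refine ⟨Presieve.ofArrows S' g, ?_, ?_⟩
  · exact (Scheme.ofArrows_mem_precoverage_iff (P := (@Etale : MorphismProperty Scheme.{u}))).mpr
      ⟨fun x => ⟨x, s' x, hgs x⟩, hg⟩
  · rintro T f ⟨x⟩
    exact hsec x

theorem isLocallyTrivialFor_etale_of_isTorsorFor_fppf {X : Scheme.{u}}
    (G : Over X) [GrpObj G] [Smooth G.hom] (P : Over X) (a : AlgGrp.Action G P)
    (h : NonAbH1.IsTorsorFor Scheme.fppfPrecoverage a) :
    NonAbH1.IsLocallyTrivialFor Scheme.etalePrecoverage P := by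
  obtain ⟨hps, hloc⟩ := h
  have hloc' : NonAbH1.IsLocallyTrivialFor Scheme.fpqcPrecoverage (Over.mk P.hom : Over X) :=
    QuotGeom.isLocallyTrivialFor_fpqc_of_fppf hloc
  have hsm : Smooth P.hom :=
    TorsorFpqc2.prop_of_isTorsorFor_fpqc (@Smooth : MorphismProperty Scheme.{u}) G P a
      ⟨hps, hloc'⟩ inferInstance
  have hsurj : Function.Surjective P.hom.base :=
    TorsorGeomQuot.surjective_of_isLocallyTrivialFor P.hom hloc'
  exact isLocallyTrivialFor_etale_of_smooth_surjective P hsurj

end Groth.Agent.Lib.Helper4.SmoothTorsorEtale
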