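import Mathlib
import Groth.Agent.Lib.Helper4.QuotCmp5
import Groth.Agent.Lib.Helper4.SmoothTorsorEtale
import Groth.Agent.Lib.Helper4.AffineDescent
import Groth.Agent.Lib.Helper4.AlgStBootDiag

/-!
# The quotient stack of etale-locally trivial torsors under a smooth affine group scheme (helper4)

* `incl h : QuotSt K G aX ⥤ᵇ QuotSt K' G aX` for `K ≤ K'`, fully faithful.
* `isEquivOver_incl_etale_fppf`: for smooth `G` the inclusion of etale-locally trivial torsors into fppf torsors is an
  equivalence.
* `isAlgStack_quotSt_fppf`, `isAlgStack_quotSt_etale`: `[X/G]` is algebraic for `G` smooth and affine.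
-/

set_option backward.isDefEq.respectTransparency false
set_option backward.isDefEq.respectTransparency.types false
set_option autoImplicit false
set_option linter.style.haveILetI false
set_option linter.unusedSectionVars false
set_option linter.unusedVariables false
set_option linter.unusedSimpArgs false

universe u

open CategoryTheory CategoryTheory.Limits MonoidalCategory CartesianMonoidalCategory MonObj GrpObj AlgebraicGeometry
open AlgSt Opposite

namespace Groth.Agent.Lib.helper4.QuotEt

variable {S : Scheme.{u}} {K K' : Precoverage Scheme.{u}} {G : Over S} [GrpObj G] {X : Over S}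
  {aX : AlgGrp.Action G X}

theorem etale_le_fppf : Scheme.etalePrecoverage.{u} ≤ Scheme.fppfPrecoverage :=
  Scheme.precoverage_mono (fun X Y f hf => by
    have : Etale f := hf
    exact ⟨inferInstance, inferInstance⟩)

theorem isLocallyTrivialFor_mono (h : K ≤ K') {T : Scheme.{u}} {P : Over T}
    (hP : NonAbH1.IsLocallyTrivialFor K P) : NonAbH1.IsLocallyTrivialFor K' P := by
  obtain ⟨R, hR, hs⟩ := hP
  exact ⟨R, h _ hR, hs⟩

/-- a torsor for a coarser topology is a torsor for a finer one -/
def inclObj (h : K ≤ K') (A : QuotObj K G aX) : QuotObj K' G aX where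
  base := A.base
  P := A.P
  act := A.act
  π := A.π
  cart := A.cart
  loc := isLocallyTrivialFor_mono h A.loc
  φ := A.φ
  eqv := A.eqv

/-- the inclusion of the quotient categories -/
def incl (h : K ≤ K') : QuotSt K G aX ⥤ᵇ QuotSt K' G aX where
  toFunctor :=
    { obj := inclObj h
      map := fun {A A'} f => (⟨f.base, f.top, f.eqv, f.cart, f.wφ⟩ : inclObj h A ⟶ inclObj h A')
      map_id := fun _ => rfl
      map_comp := fun _ _ => rfl }
  w := rfl

instance (h : K ≤ K') : (incl (G := G) (aX := aX) h).toFunctor.Faithful where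
  map_injective {A A'} f g hfg := by
    have h1 : ((incl (G := G) (aX := aX) h).toFunctor.map f).base = ((incl (G := G) (aX := aX) h).toFunctor.map g).base := by
      rw [hfg]
    have h2 : ((incl (G := G) (aX := aX) h).toFunctor.map f).top = ((incl (G := G) (aX := aX) h).toFunctor.map g).top := by
      rw [hfg]
    exact QuotObj.hom_ext h1 h2

instance (h : K ≤ K') : (incl (G := G) (aX := aX) h).toFunctor.Full where
  map_surjective {A A'} k := ⟨⟨k.base, k.top, k.eqv, k.cart, k.wφ⟩, rfl⟩


/-- for smooth `G`, fppf torsors are etale-locally trivial: the inclusion is an equivalence -/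
theorem isEquivOver_incl_etale_fppf (hG : Smooth G.hom) :
    FibCat.IsEquivOver (incl (G := G) (aX := aX) etale_le_fppf) :=
  Groth.Agent.FibEquiv.isEquivOver_of _ (fun A => by
    have hsm : Smooth A.π.left :=
      Groth.Agent.Lib.helper4.QuotSt4.prop_pi (@Smooth : MorphismProperty Scheme.{u}) hG A
    have hsurj : Surjective A.π.left :=
      Groth.Agent.Lib.helper4.QuotSt4.prop_pi (@Surjective : MorphismProperty Scheme.{u})
        Groth.Agent.Lib.helper4.QuotSt5.surjective_hom A
    have hsm' : Smooth (Over.mk A.π.left : Over A.base.left).hom := hsm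
    have hloc : NonAbH1.IsLocallyTrivialFor Scheme.etalePrecoverage (Over.mk A.π.left : Over A.base.left) :=
      Groth.Agent.Lib.Helper4.SmoothTorsorEtale.isLocallyTrivialFor_etale_of_smooth_surjective
        (Over.mk A.π.left) hsurj.surj
    let A₀ : QuotObj Scheme.etalePrecoverage G aX := ⟨A.base, A.P, A.act, A.π, A.cart, hloc, A.φ, A.eqv⟩
    exact ⟨A₀, Iso.refl A, IsHomLift.id rfl⟩)

/-- the big topology of a smaller precoverage is coarser -/
theorem J_mono (h : K ≤ K') : QuotSh.J K S ≤ QuotSh.J K' S := by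
  intro T R hR
  rw [GrothendieckTopology.mem_over_iff] at hR ⊢
  exact Precoverage.toGrothendieck_mono h _ hR

theorem isStack_of_le {J J' : GrothendieckTopology (Over S)} (h : J ≤ J') {𝒳 : AlgSt.Cat S}
    (h𝒳 : Stk.IsStack J' 𝒳) : Stk.IsStack J 𝒳 :=
  ⟨h𝒳.1, fun U R hR => h𝒳.2 R (h _ hR)⟩

theorem isAlgStack_of_le (h : K ≤ K') {𝒳 : AlgSt.Cat S} (h𝒳 : AlgSt.IsAlgStack K' 𝒳) : AlgSt.IsAlgStack K 𝒳 :=
  ⟨isStack_of_le (J_mono h) h𝒳.isStack, h𝒳.diag, h𝒳.atlas⟩

/-- `[X/G]` (fppf torsors) is an algebraic stack for `G` smooth and affine -/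
theorem isAlgStack_quotSt_fppf (hGs : Smooth G.hom) (hGa : IsAffineHom G.hom) :
    AlgSt.IsAlgStack Scheme.fppfPrecoverage (QuotSt Scheme.fppfPrecoverage G aX) :=
  Groth.Agent.Lib.helper4.AlgStBootDiag.isAlgStack_of_cover' Groth.Agent.Lib.helper4.QuotCmp.isStack_quotSt
    (Groth.Agent.Lib.helper4.AlgStSetoid.repByAlgSp_overCat X)
    (BasedFunctor.comp (AlgSt.ofOverCat X) (AlgSt.quotMap Scheme.fppfPrecoverage G aX))
    (Groth.Agent.Lib.helper4.QuotSt5.smooth_quotMap hGs) Groth.Agent.Lib.helper4.QuotSt5.surjective_quotMap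

/-- `[X/G]` (etale-locally trivial torsors) is an algebraic stack for the etale topology, for `G` smooth and affine -/
theorem isAlgStack_quotSt_etale (hGs : Smooth G.hom) (hGa : IsAffineHom G.hom) :
    AlgSt.IsAlgStack Scheme.etalePrecoverage (QuotSt Scheme.etalePrecoverage G aX) :=
  (Groth.Agent.Lib.helper4.AlgStEquiv.isAlgStack_iff_of_isEquivOver Scheme.etalePrecoverage
    (incl (G := G) (aX := aX) etale_le_fppf) (isEquivOver_incl_etale_fppf hGs)).2
    (isAlgStack_of_le etale_le_fppf (isAlgStack_quotSt_fppf hGs hGa))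


/-- properties of `G ⟶ S` descending along fppf coverings pass to etale-locally trivial torsors -/
theorem prop_pi_etale (P : MorphismProperty Scheme.{u}) [IsZariskiLocalAtTarget P] [P.IsStableUnderBaseChange]
    [P.DescendsAlong (@Surjective ⊓ @Flat ⊓ @LocallyOfFinitePresentation)] (hG : P G.hom)
    (A : QuotObj Scheme.etalePrecoverage G aX) : P A.π.left :=
  Groth.Agent.Lib.helper4.QuotSt4.prop_pi P hG (inclObj etale_le_fppf A)

/-- a morphism of schemes over `S` which is affine induces an affine morphism of sheaves -/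
theorem isAffineMor_yon_map {U V : Over S} (g : U ⟶ V) [IsAffineHom g.left] :
    AlgSp.IsAffineMor ((AlgSp.yon S).map g) := by
  intro Z hZ k
  obtain ⟨k₀, rfl⟩ := (AlgSp.yon S).map_surjective k
  have sq : IsPullback (pullback.fst g k₀) (pullback.snd g k₀) g k₀ := IsPullback.of_hasPullback _ _
  refine ⟨pullback g k₀, pullback.snd g k₀, (AlgSp.yon S).map (pullback.fst g k₀), sq.map (AlgSp.yon S), ?_⟩
  have sq' := sq.map (Over.forget S)
  have h1 : IsAffineHom (pullback.snd g k₀).left :=
    MorphismProperty.of_isPullback (P := @IsAffineHom) sq' (inferInstance : IsAffineHom g.left)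
  have : IsAffine Z.left := hZ
  exact isAffine_of_isAffineHom (pullback.snd g k₀).left

section Atlas

open Groth.Agent.Lib.helper4.QuotSt3 Groth.Agent.Lib.helper4.QuotSt5

theorem smooth_quotMap_etale (hGs : Smooth G.hom) :
    AlgSt.RepByAlgSpWith (AlgSp.LocP @Smooth)
      (BasedFunctor.comp (AlgSt.ofOverCat X) (AlgSt.quotMap Scheme.etalePrecoverage G aX)) := by
  apply repByAlgSpWith_quotMap
  intro U y
  exact Groth.Agent.Lib.helper4.AlgStPts.locP_yon_map_of Groth.Agent.Lib.helper5.LocPBC.locPData_smooth (πU y)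
    (πU_left y (@Smooth : MorphismProperty Scheme.{u}) (prop_pi_etale _ hGs (A₀ y)))

theorem surjective_quotMap_etale :
    AlgSt.RepByAlgSpWith AlgSp.IsSurjectiveMor
      (BasedFunctor.comp (AlgSt.ofOverCat X) (AlgSt.quotMap Scheme.etalePrecoverage G aX)) := by
  apply repByAlgSpWith_quotMap
  intro U y
  have h1 : Surjective (πU y).left :=
    πU_left y (@Surjective : MorphismProperty Scheme.{u}) (prop_pi_etale _ surjective_hom (A₀ y))
  change Function.Surjective (AlgSp.Points.map ((AlgSp.yon S).map (πU y)))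
  rw [AlgSp.Points.map_yon_map_eq]
  exact (AlgSp.Points.schemeHomeo U).surjective.comp
    (h1.surj.comp (AlgSp.Points.schemeHomeo (A₀ y).P).symm.surjective)

theorem isAffineHom_descendsAlong_fppf :
    MorphismProperty.DescendsAlong (@IsAffineHom : MorphismProperty Scheme.{u})
      (@Surjective ⊓ @Flat ⊓ @LocallyOfFinitePresentation) := by
  have := Groth.Agent.Lib.Helper4.AffineDescent.isAffineHom_descendsAlong_fpqc.{u}
  infer_instance

theorem affine_quotMap_etale (hGa : IsAffineHom G.hom) :
    AlgSt.RepByAlgSpWith AlgSp.IsAffineMor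
      (BasedFunctor.comp (AlgSt.ofOverCat X) (AlgSt.quotMap Scheme.etalePrecoverage G aX)) := by
  apply repByAlgSpWith_quotMap
  intro U y
  have := isAffineHom_descendsAlong_fppf.{u}
  have h1 : IsAffineHom (πU y).left :=
    πU_left y (@IsAffineHom : MorphismProperty Scheme.{u}) (prop_pi_etale _ hGa (A₀ y))
  exact isAffineMor_yon_map (πU y)

end Atlas

end Groth.Agent.Lib.helper4.QuotEt
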