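import Mathlib
import Groth.Agent.Lib.Helper4.QuotEt1
import Groth.Agent.Lib.Helper4.AlgStWNA

/-!
# The diagonal of `[X/G]` is affine when `G` is smooth and affine and `X` has affine diagonal (helper4)
-/

set_option backward.isDefEq.respectTransparency false
set_option backward.isDefEq.respectTransparency.types false
set_option autoImplicit false
set_option linter.style.haveILetI false
set_option linter.unusedSectionVars false
set_option linter.unusedVariables false
set_option linter.unusedSimpArgs false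

universe u

open CategoryTheory CategoryTheory.Limits MonoidalCategory CartesianMonoidalCategory MonObj GrpObj AlgebraicGeometry
open AlgSt Opposite

namespace Groth.Agent.Lib.helper4.QuotEt

open Groth.Agent.Lib.helper5.AffDesc Groth.Agent.Lib.helper4.AlgStAffine Groth.Agent.Lib.helper4.AlgStSource
open Groth.Agent.Lib.helper4.FibRep Groth.Agent.Lib.helper4.AlgStDiagCover Groth.Agent.Lib.helper4.AlgStWNA
open Groth.Agent.Lib.helper4.AlgStDiagK Groth.Agent.Lib.helper5.LocPBC

variable {S : Scheme.{u}}

instance isAffineMor_isStableUnderBaseChange : (AlgSp.IsAffineMor (S := S)).IsStableUnderBaseChange where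
  of_isPullback {X Y Y' T f g f' g'} sq hg := by
    rw [isAffineMor_iff] at hg ⊢
    exact AffineWith.of_isPullback sq hg

instance isAffineMor_respectsIso : (AlgSp.IsAffineMor (S := S)).RespectsIso :=
  MorphismProperty.IsStableUnderBaseChange.respectsIso

theorem isAffineMor_of_repWith {F G : AlgSp.Sp S} (f : F ⟶ G) (h : AlgSp.RepWith @IsAffineHom f) :
    AlgSp.IsAffineMor f := by
  rw [isAffineMor_iff]
  intro Z hZ k
  obtain ⟨W, i, fst, sq, hW, -⟩ := affineWith_of_repWith (P := @IsAffineHom) le_rfl h hZ k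
  exact ⟨W, i, fst, sq, hW, trivial⟩

/-- the diagonal of the projection `V × U ⟶ V` is affine when the diagonal of `U ⟶ S` is -/
theorem isAffineMor_diag_prj₁ (V U : Over S) (hU : IsAffineHom (pullback.diagonal U.hom)) :
    AlgSt.RepByAlgSpWith AlgSp.IsAffineMor (FibCat.diag (prj₁ V U)) := by
  have h2 : MorphismProperty.diagonal (@IsAffineHom : MorphismProperty Scheme.{u}) (pullback.fst V.hom U.hom) :=
    MorphismProperty.pullback_fst (P := MorphismProperty.diagonal (@IsAffineHom : MorphismProperty Scheme.{u})) _ _ hU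
  have h3 : MorphismProperty.diagonal (@IsAffineHom : MorphismProperty Scheme.{u}) (prod.fst : V ⨯ U ⟶ V).left := by
    rw [← Over.prodLeftIsoPullback_hom_fst]
    exact (MorphismProperty.cancel_left_of_respectsIso _ _ _).2 h2
  have h1 : (AlgSp.IsAffineMor (S := S)).diagonal ((AlgSp.yon S).map (prod.fst : V ⨯ U ⟶ V)) :=
    isAffineMor_of_repWith _ ((AlgSp.repWith_diagonal_yon_map_iff @IsAffineHom _).2 h3)
  have hf : AlgSt.RepByAlgSpWith (AlgSp.IsAffineMor (S := S)).diagonal (prj₁ V U) := by
    rw [prj₁_eq_overMap]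
    exact Groth.Agent.Lib.helper4.AlgStPts.repByAlgSpWith_overMap _ _
      (Groth.Agent.Lib.helper4.AlgStDescent.repBySpWith_of_stable _
        (fun X₁ Y₁ X₂ Y₂ _ _ _ _ a b a' b' sq ha =>
          MorphismProperty.of_isPullback (P := (AlgSp.IsAffineMor (S := S)).diagonal) sq ha)
        (AlgSp.IsAlgSpace.yon_obj _) (AlgSp.IsAlgSpace.yon_obj _) _ h1)
  exact repByAlgSpWith_diag_of_diagonal AlgSp.IsAffineMor
    (fun X₁ Y₁ X₂ Y₂ _ _ _ _ a b a' b' sq ha =>
      MorphismProperty.of_isPullback (P := AlgSp.IsAffineMor (S := S)) sq ha) (prj₁ V U) hf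


section Main

open Groth.Agent.Lib.helper4.QuotSt3 Groth.Agent.Lib.helper4.QuotSt5

variable {G : Over S} [GrpObj G] {X : Over S} {aX : AlgGrp.Action G X}

theorem flat_quotMap_etale (hG : Flat G.hom) :
    AlgSt.RepByAlgSpWith (AlgSp.LocP @Flat)
      (BasedFunctor.comp (AlgSt.ofOverCat X) (AlgSt.quotMap Scheme.etalePrecoverage G aX)) := by
  apply repByAlgSpWith_quotMap
  intro U y
  have := Groth.Agent.Lib.helper4.FppfFamDescent.flat_descendsAlong_fppf.{u}
  exact Groth.Agent.Lib.helper4.AlgStPts.locP_yon_map_of locPData_flat (πU y)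
    (πU_left y (@Flat : MorphismProperty Scheme.{u}) (prop_pi_etale _ hG (A₀ y)))

theorem lfp_quotMap_etale (hG : LocallyOfFinitePresentation G.hom) :
    AlgSt.RepByAlgSpWith (AlgSp.LocP @LocallyOfFinitePresentation)
      (BasedFunctor.comp (AlgSt.ofOverCat X) (AlgSt.quotMap Scheme.etalePrecoverage G aX)) := by
  apply repByAlgSpWith_quotMap
  intro U y
  exact Groth.Agent.Lib.helper4.AlgStPts.locP_yon_map_of locPData_lfp (πU y)
    (πU_left y (@LocallyOfFinitePresentation : MorphismProperty Scheme.{u}) (prop_pi_etale _ hG (A₀ y)))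

/-- `[X/G]` (etale-locally trivial torsors) is also an algebraic stack for the fppf topology -/
theorem isAlgStack_fppf_quotSt_etale (hGs : Smooth G.hom) (hGa : IsAffineHom G.hom) :
    AlgSt.IsAlgStack Scheme.fppfPrecoverage (QuotSt Scheme.etalePrecoverage G aX) :=
  (Groth.Agent.Lib.helper4.AlgStEquiv.isAlgStack_iff_of_isEquivOver Scheme.fppfPrecoverage
    (incl (G := G) (aX := aX) etale_le_fppf) (isEquivOver_incl_etale_fppf hGs)).2
    (isAlgStack_quotSt_fppf hGs hGa)

/-- S16823 (no affineness of the base needed) -/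
theorem isAffineMor_diag_quotSt_etale (hGs : Smooth G.hom) (hGa : IsAffineHom G.hom)
    (hX : IsAffineHom (pullback.diagonal X.hom)) :
    AlgSt.RepByAlgSpWith AlgSp.IsAffineMor
      (FibCat.diag (FibCat.toSelf (AlgSt.QuotSt Scheme.etalePrecoverage G aX))) := by
  have hfl : Flat G.hom := inferInstance
  have hfp : LocallyOfFinitePresentation G.hom := inferInstance
  exact diag_of_scheme_cover (isAlgStack_fppf_quotSt_etale hGs hGa) AlgSp.IsAffineMor
    (fun X₁ Y₁ X₂ Y₂ _ _ _ _ a b a' b' sq ha =>
      MorphismProperty.of_isPullback (P := AlgSp.IsAffineMor (S := S)) sq ha)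
    (fun X Y Z _ _ _ a b ha hb => by
      rw [isAffineMor_iff] at ha hb ⊢
      exact AffineWith.comp ha hb)
    (isLocalOnBase_fppf_of_fpqc (Groth.Agent.S10533.result S))
    (BasedFunctor.comp (AlgSt.ofOverCat X) (AlgSt.quotMap Scheme.etalePrecoverage G aX))
    (flat_quotMap_etale hfl) (lfp_quotMap_etale hfp) surjective_quotMap_etale (affine_quotMap_etale hGa)
    (isAffineMor_diag_prj₁ X X hX)

end Main

end Groth.Agent.Lib.helper4.QuotEt
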