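import Mathlib
import Groth.Agent.Lib.Helper4.QuotEt2
import Groth.Agent.Lib.Helper4.AlgStDiagCover3

/-!
# The diagonal of the fppf quotient stack `[X/G]` for `G` affine, flat and locally of finite presentation (helper4)

No smoothness of `G` is assumed: the diagonal is shown to be representable by algebraic spaces through the fppf
bootstrap, and its properties are read on the fppf cover `X ⟶ [X/G]`.
-/

set_option backward.isDefEq.respectTransparency false
set_option backward.isDefEq.respectTransparency.types false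
set_option autoImplicit false
set_option linter.style.haveILetI false
set_option linter.unusedSectionVars false
set_option linter.unusedVariables false
set_option linter.unusedSimpArgs false

universe u

open CategoryTheory CategoryTheory.Limits MonoidalCategory CartesianMonoidalCategory MonObj GrpObj AlgebraicGeometry
open AlgSt Opposite

namespace Groth.Agent.Lib.helper4.QuotDiagFppf

open Groth.Agent.Lib.helper5.AffDesc Groth.Agent.Lib.helper4.AlgStAffine Groth.Agent.Lib.helper4.AlgStSource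
open Groth.Agent.Lib.helper4.FibRep Groth.Agent.Lib.helper4.AlgStDiagCover Groth.Agent.Lib.helper4.AlgStWNA
open Groth.Agent.Lib.helper4.AlgStDiagK Groth.Agent.Lib.helper5.LocPBC Groth.Agent.Lib.helper4.QuotEt
open Groth.Agent.Lib.helper4.AlgStDiagCover3 Groth.Agent.Lib.helper4.QuotSt3 Groth.Agent.Lib.helper4.QuotSt5
open Groth.Agent.Lib.helper4.QuotSt4

variable {S : Scheme.{u}}

instance isQuasiAffineMor_isStableUnderBaseChange :
    (AlgSp.IsQuasiAffineMor (S := S)).IsStableUnderBaseChange where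
  of_isPullback sq hg := Groth.Agent.Lib.helper5.QAffDesc.isQuasiAffineMor_of_isPullback sq hg

instance isQuasiAffineMor_respectsIso : (AlgSp.IsQuasiAffineMor (S := S)).RespectsIso :=
  MorphismProperty.IsStableUnderBaseChange.respectsIso

/-- the diagonal of the projection `V × U ⟶ V` is quasi-affine when `U ⟶ S` is quasi-separated -/
theorem isQuasiAffineMor_diag_prj₁ (V U : Over S) (hU : QuasiSeparated U.hom) :
    AlgSt.RepByAlgSpWith AlgSp.IsQuasiAffineMor (FibCat.diag (prj₁ V U)) := by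
  have h2 : QuasiSeparated (pullback.fst V.hom U.hom) :=
    MorphismProperty.pullback_fst (P := @QuasiSeparated) _ _ hU
  have h3' : QuasiSeparated (prod.fst : V ⨯ U ⟶ V).left := by
    rw [← Over.prodLeftIsoPullback_hom_fst]
    exact (MorphismProperty.cancel_left_of_respectsIso (@QuasiSeparated) _ _).2 h2
  have h3 : qcImm (pullback.diagonal (prod.fst : V ⨯ U ⟶ V).left) := ⟨inferInstance, inferInstance⟩
  have h1 : (AlgSp.IsQuasiAffineMor (S := S)).diagonal ((AlgSp.yon S).map (prod.fst : V ⨯ U ⟶ V)) :=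
    isQuasiAffineMor_of_repWith_qcImm _ ((AlgSp.repWith_diagonal_yon_map_iff qcImm _).2 h3)
  have hf : AlgSt.RepByAlgSpWith (AlgSp.IsQuasiAffineMor (S := S)).diagonal (prj₁ V U) := by
    rw [prj₁_eq_overMap]
    exact Groth.Agent.Lib.helper4.AlgStPts.repByAlgSpWith_overMap _ _
      (Groth.Agent.Lib.helper4.AlgStDescent.repBySpWith_of_stable _
        (fun X₁ Y₁ X₂ Y₂ _ _ _ _ a b a' b' sq ha =>
          MorphismProperty.of_isPullback (P := (AlgSp.IsQuasiAffineMor (S := S)).diagonal) sq ha)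
        (AlgSp.IsAlgSpace.yon_obj _) (AlgSp.IsAlgSpace.yon_obj _) _ h1)
  exact repByAlgSpWith_diag_of_diagonal AlgSp.IsQuasiAffineMor
    (fun X₁ Y₁ X₂ Y₂ _ _ _ _ a b a' b' sq ha =>
      MorphismProperty.of_isPullback (P := AlgSp.IsQuasiAffineMor (S := S)) sq ha) (prj₁ V U) hf

section Main

variable {G : Over S} [GrpObj G] {X : Over S} {aX : AlgGrp.Action G X}

/-- `X ⟶ [X/G]` is affine when `G ⟶ S` is -/
theorem affine_quotMap (hGa : IsAffineHom G.hom) :
    AlgSt.RepByAlgSpWith AlgSp.IsAffineMor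
      (BasedFunctor.comp (AlgSt.ofOverCat X) (AlgSt.quotMap Scheme.fppfPrecoverage G aX)) := by
  apply repByAlgSpWith_quotMap
  intro U y
  have := isAffineHom_descendsAlong_fppf.{u}
  have h1 : IsAffineHom (πU y).left :=
    πU_left y (@IsAffineHom : MorphismProperty Scheme.{u}) (prop_pi _ hGa (A₀ y))
  exact isAffineMor_yon_map (πU y)

variable (hGa : IsAffineHom G.hom) (hfl : Flat G.hom) (hfp : LocallyOfFinitePresentation G.hom)
include hGa hfl hfp

/-- the diagonal of `[X/G]` is representable by algebraic spaces -/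
theorem repByAlgSp1_diag_quotSt :
    AlgSt.RepByAlgSp1 (FibCat.diag (FibCat.toSelf (AlgSt.QuotSt Scheme.fppfPrecoverage G aX))) :=
  Groth.Agent.Lib.helper4.AlgStBootFppf.repByAlgSp1_diag_of_cover'
    (Groth.Agent.Lib.helper4.QuotCmp.isStack_quotSt (G := G) (aX := aX))
    (Groth.Agent.Lib.helper4.AlgStSetoid.repByAlgSp_overCat X)
    (BasedFunctor.comp (AlgSt.ofOverCat X) (AlgSt.quotMap Scheme.fppfPrecoverage G aX))
    (flat_quotMap hfl) (lfp_quotMap hfp) surjective_quotMap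

/-- the diagonal of `[X/G]` is affine when the diagonal of `X ⟶ S` is -/
theorem isAffineMor_diag_quotSt (hX : IsAffineHom (pullback.diagonal X.hom)) :
    AlgSt.RepByAlgSpWith AlgSp.IsAffineMor
      (FibCat.diag (FibCat.toSelf (AlgSt.QuotSt Scheme.fppfPrecoverage G aX))) := by
  have hst := (Groth.Agent.Lib.helper4.QuotCmp.isStack_quotSt (G := G) (aX := aX)).1
  have hPb : ∀ ⦃X₁ Y₁ X₂ Y₂ : AlgSp.Sp S⦄, AlgSp.IsAlgSpace X₁ → AlgSp.IsAlgSpace Y₁ → AlgSp.IsAlgSpace X₂ →
      AlgSp.IsAlgSpace Y₂ → ∀ (a : X₁ ⟶ Y₁) (b : Y₂ ⟶ Y₁) (a' : X₂ ⟶ Y₂) (b' : X₂ ⟶ X₁),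
      IsPullback b' a' a b → AlgSp.IsAffineMor a → AlgSp.IsAffineMor a' :=
    fun X₁ Y₁ X₂ Y₂ _ _ _ _ a b a' b' sq ha =>
      MorphismProperty.of_isPullback (P := AlgSp.IsAffineMor (S := S)) sq ha
  have hP := isLocalOnBase_fppf_of_fpqc (Groth.Agent.S10533.result S)
  exact diag_of_pair hst (repByAlgSp1_diag_quotSt hGa hfl hfp) AlgSp.IsAffineMor hPb hP
    (BasedFunctor.comp (AlgSt.ofOverCat X) (AlgSt.quotMap Scheme.fppfPrecoverage G aX))
    (flat_quotMap hfl) (lfp_quotMap hfp) surjective_quotMap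
    (fpFst_pairK hst _ _ AlgSp.IsAffineMor hPb
      (fun X Y Z _ _ _ a b ha hb => by
        rw [isAffineMor_iff] at ha hb ⊢
        exact AffineWith.comp ha hb)
      hP (isAffineMor_diag_prj₁ X X hX) (affine_quotMap hGa))

/-- the diagonal of `[X/G]` is quasi-affine when `X ⟶ S` is quasi-separated -/
theorem isQuasiAffineMor_diag_quotSt (hX : QuasiSeparated X.hom) :
    AlgSt.RepByAlgSpWith AlgSp.IsQuasiAffineMor
      (FibCat.diag (FibCat.toSelf (AlgSt.QuotSt Scheme.fppfPrecoverage G aX))) := by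
  have hst := (Groth.Agent.Lib.helper4.QuotCmp.isStack_quotSt (G := G) (aX := aX)).1
  have hPb : ∀ ⦃X₁ Y₁ X₂ Y₂ : AlgSp.Sp S⦄, AlgSp.IsAlgSpace X₁ → AlgSp.IsAlgSpace Y₁ → AlgSp.IsAlgSpace X₂ →
      AlgSp.IsAlgSpace Y₂ → ∀ (a : X₁ ⟶ Y₁) (b : Y₂ ⟶ Y₁) (a' : X₂ ⟶ Y₂) (b' : X₂ ⟶ X₁),
      IsPullback b' a' a b → AlgSp.IsQuasiAffineMor a → AlgSp.IsQuasiAffineMor a' :=
    fun X₁ Y₁ X₂ Y₂ _ _ _ _ a b a' b' sq ha =>
      MorphismProperty.of_isPullback (P := AlgSp.IsQuasiAffineMor (S := S)) sq ha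
  have hP := isLocalOnBase_fppf_of_fpqc
    (Groth.Agent.Lib.helper5.QAffDesc.isLocalOnBase_fpqc_isQuasiAffineMor (S := S))
  exact diag_of_pair hst (repByAlgSp1_diag_quotSt hGa hfl hfp) AlgSp.IsQuasiAffineMor hPb hP
    (BasedFunctor.comp (AlgSt.ofOverCat X) (AlgSt.quotMap Scheme.fppfPrecoverage G aX))
    (flat_quotMap hfl) (lfp_quotMap hfp) surjective_quotMap
    (fpFst_pairK3 AlgSp.IsQuasiAffineMor AlgSp.IsAffineMor AlgSp.IsQuasiAffineMor hPb hP
      (fun X Y Z _ _ _ a b ha hb => isQuasiAffineMor_comp_affine a b ha hb)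
      hst _ _ (isQuasiAffineMor_diag_prj₁ X X hX) (affine_quotMap hGa))

end Main

end Groth.Agent.Lib.helper4.QuotDiagFppf
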