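import Mathlib
import Groth.Agent.Lib.Helper4.QuotDiagFppf
import Groth.Agent.Lib.Helper4.AlgStDescentFam
import Groth.Agent.Lib.Helper4.AlgStLocQ
import Groth.Agent.Lib.Helper4.AlgStNoethImm
import Groth.Agent.Lib.Helper4.AlgStDiag
import Groth.Agent.Lib.Helper4.AlgStDiagBC
import Groth.Agent.S9941
import Groth.Agent.S10533

/-!
# Quasi-affine diagonal and quasi-affine charts (helper4)

The diagonal of an algebraic stack over an affine base is quasi-affine if and only if the affine opens of a smooth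
atlas are quasi-affine over the stack.
-/

set_option backward.isDefEq.respectTransparency false
set_option backward.isDefEq.respectTransparency.types false
set_option autoImplicit false
set_option linter.style.haveILetI false
set_option linter.unusedSectionVars false
set_option linter.unusedVariables false
set_option linter.unusedSimpArgs false

universe u

open CategoryTheory CategoryTheory.Limits AlgebraicGeometry
open AlgSt Opposite

namespace Groth.Agent.Lib.helper4.AlgStQAffChart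

open Groth.Agent.FibEquiv FibCat Groth.Agent.Lib.helper4.FibPaste Groth.Agent.Lib.helper4.AlgStEquiv Groth.Agent.FibFpProj
open Groth.Agent.Lib.helper5.AffDesc Groth.Agent.Lib.helper4.AlgStAffine Groth.Agent.Lib.helper4.AlgStSource
open Groth.Agent.Lib.helper4.FibRep Groth.Agent.Lib.helper4.AlgStDiagCover Groth.Agent.Lib.helper4.AlgStWNA
open Groth.Agent.Lib.helper4.AlgStDiagK Groth.Agent.Lib.helper5.LocPBC Groth.Agent.Lib.helper4.QuotEt
open Groth.Agent.Lib.helper4.AlgStDiagCover3 Groth.Agent.Lib.helper4.QuotDiagFppf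
open Groth.Agent.Lib.helper4.AlgStSmLoc Groth.Agent.Lib.helper4.AlgStLocQ Groth.Agent.Lib.helper4.PshRep
open Groth.Agent.Lib.helper4.AlgStCoreA Groth.Agent.Lib.helper4.AlgStDiag Groth.Agent.Lib.helper4.AlgStDiagBC
open Groth.Agent.Lib.helper4.AlgStDescentFam Groth.Agent.Lib.helper4.AlgStFpAlg Groth.Agent.Lib.helper4.FibSwap

variable {S : Scheme.{u}}

/-- quasi-affine after affine is quasi-affine -/
theorem isQuasiAffineMor_affine_comp {A B C : AlgSp.Sp S} (a : A ⟶ B) (b : B ⟶ C)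
    (ha : AlgSp.IsAffineMor a) (hb : AlgSp.IsQuasiAffineMor b) : AlgSp.IsQuasiAffineMor (a ≫ b) := by
  intro Z hZ g
  obtain ⟨W₁, i₁, fst₁, sq₁, hW₁⟩ := hb hZ g
  have hrep : AlgSp.RepWith @IsAffineHom a := Groth.Agent.S9941.main a ha
  obtain ⟨W₂, i₂, fst₂, sq₂⟩ := hrep.1 fst₁
  have haff : IsAffineHom i₂.left := hrep.2 fst₁ fst₂ i₂ sq₂
  refine ⟨W₂, i₂ ≫ i₁, fst₂, ?_, ?_⟩
  · rw [CategoryTheory.Functor.map_comp]
    exact sq₂.paste_vert sq₁
  · have := hW₁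
    exact Scheme.IsQuasiAffine.of_isAffineHom i₂.left

theorem qaff_hPb : ∀ ⦃X₁ Y₁ X₂ Y₂ : AlgSp.Sp S⦄, AlgSp.IsAlgSpace X₁ → AlgSp.IsAlgSpace Y₁ → AlgSp.IsAlgSpace X₂ →
    AlgSp.IsAlgSpace Y₂ → ∀ (a : X₁ ⟶ Y₁) (b : Y₂ ⟶ Y₁) (a' : X₂ ⟶ Y₂) (b' : X₂ ⟶ X₁),
    IsPullback b' a' a b → AlgSp.IsQuasiAffineMor a → AlgSp.IsQuasiAffineMor a' :=
  fun X₁ Y₁ X₂ Y₂ _ _ _ _ a b a' b' sq ha =>
    MorphismProperty.of_isPullback (P := AlgSp.IsQuasiAffineMor (S := S)) sq ha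

theorem aff_hPb : ∀ ⦃X₁ Y₁ X₂ Y₂ : AlgSp.Sp S⦄, AlgSp.IsAlgSpace X₁ → AlgSp.IsAlgSpace Y₁ → AlgSp.IsAlgSpace X₂ →
    AlgSp.IsAlgSpace Y₂ → ∀ (a : X₁ ⟶ Y₁) (b : Y₂ ⟶ Y₁) (a' : X₂ ⟶ Y₂) (b' : X₂ ⟶ X₁),
    IsPullback b' a' a b → AlgSp.IsAffineMor a → AlgSp.IsAffineMor a' :=
  fun X₁ Y₁ X₂ Y₂ _ _ _ _ a b a' b' sq ha =>
    MorphismProperty.of_isPullback (P := AlgSp.IsAffineMor (S := S)) sq ha

theorem qaff_hP : AlgSp.IsLocalOnBase (AlgSp.IsFppfCover (S := S)) AlgSp.IsQuasiAffineMor :=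
  isLocalOnBase_fppf_of_fpqc (Groth.Agent.Lib.helper5.QAffDesc.isLocalOnBase_fpqc_isQuasiAffineMor (S := S))

theorem aff_hP : AlgSp.IsLocalOnBase (AlgSp.IsFppfCover (S := S)) AlgSp.IsAffineMor :=
  isLocalOnBase_fppf_of_fpqc (Groth.Agent.S10533.result S)

/-- a morphism of schemes over `S` which is affine, as a functor of slices -/
theorem affine_overMap {T V : Over S} (g : T ⟶ V) [IsAffineHom g.left] :
    AlgSt.RepByAlgSpWith AlgSp.IsAffineMor (AlgSt.overMap g) :=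
  Groth.Agent.Lib.helper4.AlgStPts.repByAlgSpWith_overMap _ _
    (Groth.Agent.Lib.helper4.AlgStDescent.repBySpWith_of_stable _ aff_hPb
      (AlgSp.IsAlgSpace.yon_obj _) (AlgSp.IsAlgSpace.yon_obj _) _ (isAffineMor_yon_map g))

/-- base change of `fpFst H G` along `E`, up to an isomorphism of the functor to the target -/
theorem repByAlgSpWith_fpFst_of_iso {𝒳 𝒴 𝒲 𝒲' : AlgSt.Cat S} (P : MorphismProperty (AlgSp.Sp S))
    (G : 𝒳 ⥤ᵇ 𝒴) (H : 𝒲 ⥤ᵇ 𝒴) (E : 𝒲' ⥤ᵇ 𝒲) (K : 𝒲' ⥤ᵇ 𝒴) (θ : BasedFunctor.comp E H ≅ K)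
    (h : AlgSt.RepByAlgSpWith P (fpFst H G)) : AlgSt.RepByAlgSpWith P (fpFst K G) := by
  have h1 : AlgSt.RepByAlgSpWith P (fpFst E (fpFst H G)) := repByAlgSpWith_fpFst P (fpFst H G) E h
  have h2 : AlgSt.RepByAlgSpWith P (fpFst (BasedFunctor.comp E H) G) :=
    (repByAlgSpWith_iff_of_square P (fpFst (BasedFunctor.comp E H) G) (fpFst E (fpFst H G)) (pasteL E H G)
      (BasedFunctor.id _) (pasteL_isEquivOver E H G) (isEquivOver_id' _) (Iso.refl _)).2 h1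
  exact (repByAlgSpWith_iff_of_square P (fpFst K G) (fpFst (BasedFunctor.comp E H) G)
    (fpMap (BasedFunctor.comp E H) K G G (BasedFunctor.id _) (BasedFunctor.id _) θ (Iso.refl _))
    (BasedFunctor.id _) (fpMap_isEquivOver _ _ _ _ _ _ _ _ (isEquivOver_id' _) (isEquivOver_id' _))
    (isEquivOver_id' _) (Iso.refl _)).2 h2

section Diag

variable {𝒳 : AlgSt.Cat S} (h𝒳 : IsFibGrpd 𝒳.p)
include h𝒳

/-- if the diagonal is quasi-affine, every functor from a scheme affine over `S` is quasi-affine -/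
theorem qaff_of_diag (hΔ : AlgSt.RepByAlgSpWith AlgSp.IsQuasiAffineMor (FibCat.diag (toSelf 𝒳)))
    {V : Over S} (hV : IsAffineHom V.hom) (z : overCat V ⥤ᵇ 𝒳) :
    AlgSt.RepByAlgSpWith AlgSp.IsQuasiAffineMor z := by
  intro T y
  have hT : IsFibGrpd (overCat T).p := Groth.Agent.FibOver.isFibGrpd_overCat T
  have hTV : IsFibGrpd (overCat (T ⨯ V)).p := Groth.Agent.FibOver.isFibGrpd_overCat _
  have hsq : IsFibGrpd (sq 𝒳).p := isFibGrpd_fp _ _ h𝒳 h𝒳 isFibGrpd_selfOver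
  have hfp : IsFibGrpd (fp (pairK y z) (Δ 𝒳)).p := isFibGrpd_fp _ _ hTV h𝒳 hsq
  have h1 : AlgSt.RepByAlgSpWith AlgSp.IsQuasiAffineMor (fpFst (pairK y z) (Δ 𝒳)) :=
    repByAlgSpWith_fpFst _ (Δ 𝒳) (pairK y z) hΔ
  have haff : IsAffineHom (prod.fst : T ⨯ V ⟶ T).left := by
    rw [← Over.prodLeftIsoPullback_hom_fst]
    have : IsAffineHom (pullback.fst T.hom V.hom) :=
      MorphismProperty.pullback_fst (P := @IsAffineHom) _ _ hV
    infer_instance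
  have h2 : AlgSt.RepByAlgSpWith AlgSp.IsAffineMor (prj₁ T V) := by
    rw [prj₁_eq_overMap]
    exact affine_overMap _
  have h3 : AlgSt.RepByAlgSpWith AlgSp.IsQuasiAffineMor
      (BasedFunctor.comp (fpFst (pairK y z) (Δ 𝒳)) (prj₁ T V)) :=
    comp3 AlgSp.IsQuasiAffineMor AlgSp.IsAffineMor AlgSp.IsQuasiAffineMor qaff_hPb qaff_hP
      (fun X Y Z _ _ _ a b ha hb => isQuasiAffineMor_comp_affine a b ha hb) hfp hTV hT _ _ h1 h2
  have h4 : AlgSt.RepByAlgSpWith AlgSp.IsQuasiAffineMor (fpFst y z) :=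
    (repByAlgSpWith_precomp_iff _ _ (compare y z) (compare_isEquivOver y z)).2 h3
  obtain ⟨F, e, he⟩ := exists_rep_of_repByAlgSpWith _ _ h4
  exact ⟨F, e, he, spMapOfOver_of_repByAlgSpWith _ (isoInv_of_baseChange _ qaff_hPb) _ h4 F e he⟩

/-- the base change of the diagonal to a scheme with affine diagonal over `S` is quasi-affine as soon as the second
component of the functor to `𝒳 × 𝒳` is -/
theorem qaff_fpFst_of_snd {T : Over S} (hT : IsAffineHom (pullback.diagonal T.hom)) (K : overCat T ⥤ᵇ sq 𝒳)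
    (hK : AlgSt.RepByAlgSpWith AlgSp.IsQuasiAffineMor (BasedFunctor.comp K (sqSnd 𝒳))) :
    AlgSt.RepByAlgSpWith AlgSp.IsQuasiAffineMor (fpFst K (Δ 𝒳)) := by
  have h1 : AlgSt.RepByAlgSpWith AlgSp.IsQuasiAffineMor
      (fpFst (pairK (BasedFunctor.comp K (sqFst 𝒳)) (BasedFunctor.comp K (sqSnd 𝒳))) (Δ 𝒳)) :=
    fpFst_pairK3 AlgSp.IsAffineMor AlgSp.IsQuasiAffineMor AlgSp.IsQuasiAffineMor aff_hPb aff_hP
      (fun X Y Z _ _ _ a b ha hb => isQuasiAffineMor_affine_comp a b ha hb) h𝒳 _ _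
      (isAffineMor_diag_prj₁ T T hT) hK
  exact repByAlgSpWith_fpFst_of_iso _ (Δ 𝒳) _ (diagOver T) K (factorIso K).symm h1

/-- restriction of a quasi-affine chart along a morphism of affine schemes -/
theorem qaff_overMap_comp {T V : Over S} (b : T ⟶ V) [IsAffineHom b.left] (z : overCat V ⥤ᵇ 𝒳)
    (hz : AlgSt.RepByAlgSpWith AlgSp.IsQuasiAffineMor z) :
    AlgSt.RepByAlgSpWith AlgSp.IsQuasiAffineMor (BasedFunctor.comp (AlgSt.overMap b) z) :=
  comp3 AlgSp.IsAffineMor AlgSp.IsQuasiAffineMor AlgSp.IsQuasiAffineMor aff_hPb aff_hP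
    (fun X Y Z _ _ _ a b ha hb => isQuasiAffineMor_affine_comp a b ha hb)
    (Groth.Agent.FibOver.isFibGrpd_overCat T) (Groth.Agent.FibOver.isFibGrpd_overCat V) h𝒳 _ _
    (affine_overMap b) hz

end Diag

section Main

variable [IsAffine S] {𝒳 : AlgSt.Cat S} (h𝒳 : AlgSt.IsAlgStack Scheme.fppfPrecoverage 𝒳)
include h𝒳

/-- quasi-affine diagonal from a smooth atlas whose affine opens are quasi-affine over the stack -/
theorem diag_qaff_of_charts {U : Over S} (x : overCat U ⥤ᵇ 𝒳)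
    (hsm : AlgSt.RepByAlgSpWith (AlgSp.LocP @Smooth) x) (hsurj : AlgSt.RepByAlgSpWith AlgSp.IsSurjectiveMor x)
    (hx : ∀ (V : U.left.Opens), IsAffineOpen V →
      AlgSt.RepByAlgSpWith AlgSp.IsQuasiAffineMor
        (BasedFunctor.comp (AlgSt.overMap (Over.homMk V.ι rfl : Over.mk (V.ι ≫ U.hom) ⟶ U)) x)) :
    AlgSt.RepByAlgSpWith AlgSp.IsQuasiAffineMor (FibCat.diag (toSelf 𝒳)) := by
  have h𝒳' : IsFibGrpd 𝒳.p := h𝒳.isStack.1
  apply diag_of_pair h𝒳' h𝒳.diag AlgSp.IsQuasiAffineMor qaff_hPb qaff_hP x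
    (Groth.Agent.Lib.helper4.AlgStDiagLFT.flat_of_smooth x hsm)
    (Groth.Agent.Lib.helper4.AlgStDiagLFT.lfp_of_smooth x hsm) hsurj
  obtain ⟨F, e, he⟩ := h𝒳.diag (U ⨯ U) (pairK x x)
  apply Groth.Agent.Lib.helper4.AlgStNoethImm.repByAlgSpWith_of_spMapOfOver AlgSp.IsQuasiAffineMor qaff_hPb
    (fpFst (pairK x x) (Δ 𝒳)) F e he
  let ι : Type u := {W : (U ⨯ U).left.Opens // IsAffineOpen W ∧ ∃ V' V : U.left.Opens,
    IsAffineOpen V' ∧ IsAffineOpen V ∧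
      W ≤ (prod.fst : U ⨯ U ⟶ U).left ⁻¹ᵁ V' ⊓ (prod.snd : U ⨯ U ⟶ U).left ⁻¹ᵁ V}
  refine descent_family AlgSp.IsQuasiAffineMor qaff_hP (Δ 𝒳) (pairK x x) F e he
    (fun W : ι => Over.mk (W.1.ι ≫ (U ⨯ U).hom))
    (fun W => (Over.homMk W.1.ι rfl : Over.mk (W.1.ι ≫ (U ⨯ U).hom) ⟶ U ⨯ U))
    (isFppfCover_of_family _ _ ?_ ?_ ?_) ?_
  · intro W
    change Flat W.1.ι
    infer_instance
  · intro W
    change LocallyOfFinitePresentation W.1.ι
    infer_instance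
  · intro p
    obtain ⟨V', hV', hp₁, -⟩ := TopologicalSpace.Opens.isBasis_iff_nbhd.1 (Scheme.isBasis_affineOpens U.left)
      (show (prod.fst : U ⨯ U ⟶ U).left p ∈ (⊤ : U.left.Opens) from trivial)
    obtain ⟨V, hV, hp₂, -⟩ := TopologicalSpace.Opens.isBasis_iff_nbhd.1 (Scheme.isBasis_affineOpens U.left)
      (show (prod.snd : U ⨯ U ⟶ U).left p ∈ (⊤ : U.left.Opens) from trivial)
    obtain ⟨W, hW, hpW, hle⟩ := TopologicalSpace.Opens.isBasis_iff_nbhd.1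
      (Scheme.isBasis_affineOpens (U ⨯ U).left)
      (show p ∈ (prod.fst : U ⨯ U ⟶ U).left ⁻¹ᵁ V' ⊓ (prod.snd : U ⨯ U ⟶ U).left ⁻¹ᵁ V from ⟨hp₁, hp₂⟩)
    exact ⟨⟨W, hW, V', V, hV', hV, hle⟩, ⟨p, hpW⟩, rfl⟩
  · rintro ⟨W, hW, V', V, hV', hV, hle⟩
    have : IsAffine W.toScheme := hW
    have : IsAffine V.toScheme := hV
    have hrange : Set.range (W.ι ≫ (prod.snd : U ⨯ U ⟶ U).left) ⊆ Set.range V.ι := by
      rintro _ ⟨w, rfl⟩
      rw [Scheme.Opens.range_ι]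
      exact (hle w.2).2
    let b : Over.mk (W.ι ≫ (U ⨯ U).hom) ⟶ Over.mk (V.ι ≫ U.hom) :=
      Over.homMk (IsOpenImmersion.lift V.ι (W.ι ≫ (prod.snd : U ⨯ U ⟶ U).left) hrange) (by
        change IsOpenImmersion.lift V.ι (W.ι ≫ (prod.snd : U ⨯ U ⟶ U).left) hrange ≫ V.ι ≫ U.hom =
          W.ι ≫ (U ⨯ U).hom
        rw [IsOpenImmersion.lift_fac_assoc, Category.assoc, Over.w])
    have hb : b ≫ (Over.homMk V.ι rfl : Over.mk (V.ι ≫ U.hom) ⟶ U) =
        (Over.homMk W.ι rfl : Over.mk (W.ι ≫ (U ⨯ U).hom) ⟶ U ⨯ U) ≫ prod.snd := by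
      apply Over.OverMorphism.ext
      exact IsOpenImmersion.lift_fac _ _ hrange
    have hbaff : IsAffineHom b.left := by
      change IsAffineHom (IsOpenImmersion.lift V.ι (W.ι ≫ (prod.snd : U ⨯ U ⟶ U).left) hrange)
      infer_instance
    have hT : IsAffineHom (pullback.diagonal (Over.mk (W.ι ≫ (U ⨯ U).hom)).hom) := by
      change IsAffineHom (pullback.diagonal (W.ι ≫ (U ⨯ U).hom))
      infer_instance
    have hKs : AlgSt.RepByAlgSpWith AlgSp.IsQuasiAffineMor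
        (BasedFunctor.comp (BasedFunctor.comp
          (AlgSt.overMap (Over.homMk W.ι rfl : Over.mk (W.ι ≫ (U ⨯ U).hom) ⟶ U ⨯ U)) (pairK x x)) (sqSnd 𝒳)) := by
      have h1 := qaff_overMap_comp h𝒳' b _ (hx V hV)
      refine (repByAlgSpWith_congr _ ?_).1 h1
      have i1 : BasedFunctor.comp (AlgSt.overMap b)
            (BasedFunctor.comp (AlgSt.overMap (Over.homMk V.ι rfl : Over.mk (V.ι ≫ U.hom) ⟶ U)) x) ≅
          BasedFunctor.comp (AlgSt.overMap (b ≫ (Over.homMk V.ι rfl : Over.mk (V.ι ≫ U.hom) ⟶ U))) x :=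
        Groth.Agent.Lib.helper4.AlgStRep.whiskerRightIso (overMapCompIso b _) x
      have i2 : BasedFunctor.comp (AlgSt.overMap
            ((Over.homMk W.ι rfl : Over.mk (W.ι ≫ (U ⨯ U).hom) ⟶ U ⨯ U) ≫ prod.snd)) x ≅
          BasedFunctor.comp (BasedFunctor.comp
            (AlgSt.overMap (Over.homMk W.ι rfl : Over.mk (W.ι ≫ (U ⨯ U).hom) ⟶ U ⨯ U))
            (AlgSt.overMap (prod.snd : U ⨯ U ⟶ U))) x :=
        Groth.Agent.Lib.helper4.AlgStRep.whiskerRightIso (overMapCompIso _ _).symm x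
      rw [hb] at i1
      exact i1 ≪≫ i2 ≪≫ Iso.refl _
    have hKq := qaff_fpFst_of_snd h𝒳' hT _ hKs
    obtain ⟨F', e', he'⟩ := exists_rep_of_repByAlgSpWith _ _ hKq
    exact ⟨F', e', he', spMapOfOver_of_repByAlgSpWith _ (isoInv_of_baseChange _ qaff_hPb) _ hKq F' e' he'⟩

end Main

end Groth.Agent.Lib.helper4.AlgStQAffChart
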