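import Groth.Agent.Lib.Helper4.FibInertiaDiag
import Groth.Agent.Lib.Helper4.AlgStDiagK4
import Groth.Agent.Lib.Helper4.AlgStGraph
import Groth.Agent.Lib.Helper4.AlgStSmLoc
import Groth.Agent.Lib.Helper4.AlgStFull
set_option autoImplicit false
set_option backward.isDefEq.respectTransparency false
set_option backward.isDefEq.respectTransparency.types false
set_option linter.unusedSectionVars false
set_option linter.style.haveILetI false
set_option linter.unusedVariables false
open CategoryTheory CategoryTheory.Functor CategoryTheory.Limits Opposite AlgebraicGeometry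
universe u

/-! The relative inertia of a morphism of algebraic stacks: properties of `I_f ⟶ 𝒳`, of the
diagonal of `f` and of the neutral section. -/

namespace Groth.Agent.Lib.helper4.AlgStInertia
open Groth.Agent.FibEquiv FibCat Groth.Agent.Lib.helper4.FibPaste
open Groth.Agent.Lib.helper4.AlgStEquiv Groth.Agent.Lib.helper4.AlgStRep
open Groth.Agent.Lib.helper4.DiagBC Groth.Agent.Lib.helper4.FibInertiaDiag
open Groth.Agent.Lib.helper4.AlgStDiagK Groth.Agent.Lib.helper4.AlgStCancel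
open Groth.Agent.Lib.helper4.AlgStSmLoc
open AlgSt

variable {S : Scheme.{u}} {𝒳 𝒴 : AlgSt.Cat S} (f : 𝒳 ⥤ᵇ 𝒴)

/-- the relative inertia is a base change of the diagonal: every property of the diagonal
passes to `I_f ⟶ 𝒳` -/
theorem inertiaToBase_of_diag (P : MorphismProperty (AlgSp.Sp S))
    (h : AlgSt.RepByAlgSpWith P (FibCat.diag f)) : AlgSt.RepByAlgSpWith P (inertiaToBase f) := by
  have h1 : AlgSt.RepByAlgSpWith P (fpFst (FibCat.diag f) (FibCat.diag f)) :=
    Groth.Agent.Lib.helper4.AlgStDiagBC.repByAlgSpWith_fpFst P (FibCat.diag f) (FibCat.diag f) h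
  exact (repByAlgSpWith_precomp_iff P _ (Φ f) (Φ_isEquivOver f)).1 h1

/-- the neutral section is the diagonal of the diagonal -/
theorem inertiaNeutral_iff_diag_diag (P : MorphismProperty (AlgSp.Sp S)) :
    AlgSt.RepByAlgSpWith P (FibCat.diag (FibCat.diag f)) ↔ AlgSt.RepByAlgSpWith P (inertiaNeutral f) :=
  repByAlgSpWith_iff_of_square P (FibCat.diag (FibCat.diag f)) (inertiaNeutral f) (BasedFunctor.id 𝒳) (Φ f)
    (isEquivOver_id _) (Φ_isEquivOver f) (neutralIso f)

/-- the neutral section has every property of the diagonal of `I_f ⟶ 𝒳` -/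
theorem inertiaNeutral_of_diag_inertiaToBase (P : MorphismProperty (AlgSp.Sp S))
    (h : AlgSt.RepByAlgSpWith P (FibCat.diag (inertiaToBase f))) :
    AlgSt.RepByAlgSpWith P (inertiaNeutral f) :=
  Groth.Agent.Lib.helper4.AlgStGraph.repByAlgSpWith_section P (inertiaToBase f) (inertiaNeutral f)
    (Iso.refl _) h

section Alg

variable (h𝒳 : AlgSt.IsAlgStack Scheme.fppfPrecoverage 𝒳) (h𝒴 : AlgSt.IsAlgStack Scheme.fppfPrecoverage 𝒴)
include h𝒳 h𝒴

theorem repByAlgSp1_inertiaToBase : AlgSt.RepByAlgSp1 (inertiaToBase f) :=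
  (repByAlgSp1_iff_top _).2 (inertiaToBase_of_diag f ⊤
    ((repByAlgSp1_iff_top _).1 (repByAlgSp1_diag_of_isAlgStack h𝒳 h𝒴 f)))

/-- S12972 -/
theorem tfae_inertia_separated :
    [AlgSt.RepByAlgSpWith AlgSp.IsSeparatedMor (FibCat.inertiaToBase f),
      AlgSt.RepByAlgSpWith AlgSp.IsSeparatedMor (FibCat.diag f),
      AlgSt.IsClosedImm (FibCat.inertiaNeutral f)].TFAE := by
  have hΔ : AlgSt.RepByAlgSp1 (FibCat.diag f) := repByAlgSp1_diag_of_isAlgStack h𝒳 h𝒴 f
  have hI : AlgSt.RepByAlgSp1 (inertiaToBase f) := repByAlgSp1_inertiaToBase f h𝒳 h𝒴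
  tfae_have 1 → 3 := fun h =>
    inertiaNeutral_of_diag_inertiaToBase f _ (((tfae_separated (inertiaToBase f) hI).out 0 1).1 h)
  tfae_have 3 → 2 := fun h =>
    ((tfae_separated (FibCat.diag f) hΔ).out 0 1).2 ((inertiaNeutral_iff_diag_diag f _).2 h)
  tfae_have 2 → 1 := fun h => inertiaToBase_of_diag f _ h
  tfae_finish

/-- S12973 -/
theorem tfae_inertia_quasiSeparated :
    [AlgSt.RepByAlgSpWith AlgSp.IsQuasiSeparatedMor (FibCat.inertiaToBase f),
      AlgSt.RepByAlgSpWith AlgSp.IsQuasiSeparatedMor (FibCat.diag f),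
      AlgSt.RepByAlgSpWith AlgSp.IsQuasiCompactMor (FibCat.inertiaNeutral f)].TFAE := by
  have hΔ : AlgSt.RepByAlgSp1 (FibCat.diag f) := repByAlgSp1_diag_of_isAlgStack h𝒳 h𝒴 f
  have hI : AlgSt.RepByAlgSp1 (inertiaToBase f) := repByAlgSp1_inertiaToBase f h𝒳 h𝒴
  tfae_have 1 → 3 := fun h =>
    inertiaNeutral_of_diag_inertiaToBase f _ (((tfae_quasiSeparated (inertiaToBase f) hI).out 0 1).1 h)
  tfae_have 3 → 2 := fun h =>
    ((tfae_quasiSeparated (FibCat.diag f) hΔ).out 0 1).2 ((inertiaNeutral_iff_diag_diag f _).2 h)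
  tfae_have 2 → 1 := fun h => inertiaToBase_of_diag f _ h
  tfae_finish

end Alg

end Groth.Agent.Lib.helper4.AlgStInertia
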