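import Groth.Agent.Lib.Helper4.AlgStLocQ8
set_option autoImplicit false
set_option backward.isDefEq.respectTransparency false
set_option backward.isDefEq.respectTransparency.types false
set_option linter.unusedSectionVars false
set_option linter.style.haveILetI false
set_option linter.unusedVariables false
open CategoryTheory CategoryTheory.Functor CategoryTheory.Limits Opposite AlgebraicGeometry
universe u

/-! Properties of morphisms of algebraic stacks read on chart squares descend along flat, locally finitely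
presented, surjective morphisms of algebraic stacks. -/

namespace Groth.Agent.Lib.helper4.AlgStLocQ
open Groth.Agent.FibEquiv Groth.Agent.FibYoneda FibCat Groth.Agent.Lib.helper4.FibPaste
open Groth.Agent.Lib.helper4.AlgStEquiv Groth.Agent.Lib.helper4.AlgStRep
open Groth.Agent.Lib.helper4.AlgStSetoid Groth.Agent.FibFpProj Groth.Agent.Lib.helper4.FibRep
open Groth.Agent.Lib.helper4.AlgStFpAlg Groth.Agent.Lib.helper4.AlgStDM Groth.Agent.Lib.helper4.AlgStSelf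
open Groth.Agent.Lib.helper4.AlgStPts Groth.Agent.Lib.helper4.FibSwap Groth.Agent.Lib.helper4.AlgStSmLoc
open Groth.Agent.Lib.helper4.AlgStQC Groth.Agent.Lib.helper4.PshDict Groth.Agent.Lib.helper4.PshRep
open Groth.Agent.Lib.helper4.PshPB Groth.Agent.Lib.helper4.AlgStQCMor Groth.Agent.Lib.helper4.PointsBasic
open Groth.Agent.Lib.helper4.AlgStDescent Groth.Agent.Lib.helper4.AlgStCoreA
open Groth.Agent.Lib.helper4.AlgStSource Groth.Agent.Lib.helper4.AlgStGraph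
open Groth.Agent.Lib.helper4.SmLocalST Groth.Agent.Lib.helper5.LocPBC
open Stk AlgSt

variable {S : Scheme.{u}}

section Transport

variable {𝒳 𝒴 𝒳' 𝒴' : AlgSt.Cat S}

/-- `LocQ` is invariant under equivalences of source and target (equivalences pointing the other way) -/
theorem locQ_of_square_equiv_symm (P : MorphismProperty (AlgSp.Sp S)) (f : 𝒳 ⥤ᵇ 𝒴) (f' : 𝒳' ⥤ᵇ 𝒴')
    (a : 𝒳 ⥤ᵇ 𝒳') (b : 𝒴 ⥤ᵇ 𝒴') (ha : IsEquivOver a) (hb : IsEquivOver b)
    (e : BasedFunctor.comp f b ≅ BasedFunctor.comp a f') (h : AlgSt.LocQ P f') : AlgSt.LocQ P f := by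
  obtain ⟨ai, ⟨αa⟩, ⟨βa⟩⟩ := id ha
  obtain ⟨bi, ⟨αb⟩, ⟨βb⟩⟩ := id hb
  have hai : IsEquivOver ai := isEquivOver_symm αa βa
  have hbi : IsEquivOver bi := isEquivOver_symm αb βb
  have j1 : BasedFunctor.comp f' bi ≅
      BasedFunctor.comp (BasedFunctor.comp ai a) (BasedFunctor.comp f' bi) :=
    (whiskerRightIso βa (BasedFunctor.comp f' bi)).symm
  have j2 : BasedFunctor.comp (BasedFunctor.comp ai a) (BasedFunctor.comp f' bi) ≅
      BasedFunctor.comp ai (BasedFunctor.comp (BasedFunctor.comp f b) bi) :=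
    whiskerLeftIso ai (whiskerRightIso e.symm bi)
  have j3 : BasedFunctor.comp ai (BasedFunctor.comp (BasedFunctor.comp f b) bi) ≅
      BasedFunctor.comp ai f :=
    whiskerLeftIso (BasedFunctor.comp ai f) αb
  exact locQ_of_square_equiv P f f' ai bi hai hbi (j1 ≪≫ j2 ≪≫ j3) h

end Transport

section OverMap

theorem spMapOfOver_yonInv_overMap {U V : Over S} (h : U ⟶ V)
    (YiU : AlgSt.ofSp ((AlgSp.yon S).obj U) ⥤ᵇ overCat U)
    (βU : BasedFunctor.comp YiU (toYon.{u + 1} U) ≅ BasedFunctor.id _) :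
    AlgSt.spMapOfOver (BasedFunctor.comp YiU (AlgSt.overMap h)) = (AlgSp.yon S).map h := by
  rw [spMapOfOver_comp_overMap]
  have : AlgSt.spMapOfOver YiU = 𝟙 _ := by
    apply ObjectProperty.hom_ext
    rw [spMapOfOver_hom, pshMapOf_congr βU, pshMapOf_id]
    rfl
  rw [this, Category.id_comp]

/-- a morphism of schemes whose functor on slices is representable with `Q` has `Q` -/
theorem prop_of_repByAlgSpWith_overMap (Q : MorphismProperty (AlgSp.Sp S)) (hQ : IsoInv Q) {U V : Over S}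
    (h : U ⟶ V) (hh : AlgSt.RepByAlgSpWith Q (AlgSt.overMap h)) : Q ((AlgSp.yon S).map h) := by
  obtain ⟨YiU, ⟨αU⟩, ⟨βU⟩⟩ := toYon_isEquivOver.{u + 1} U
  have hYiU : IsEquivOver YiU := isEquivOver_symm αU βU
  have h1 := spMapOfOver_of_repByAlgSpWith Q hQ (AlgSt.overMap h) hh
    ⟨(AlgSp.yon S).obj U, AlgSp.IsAlgSpace.yon_obj U⟩ YiU hYiU
  rwa [spMapOfOver_yonInv_overMap h YiU βU] at h1

end OverMap

section Precomp

variable {𝒳 𝒴 𝒵 : AlgSt.Cat S} (h𝒳 : AlgSt.IsAlgStack Scheme.fppfPrecoverage 𝒳)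
  (h𝒴 : AlgSt.IsAlgStack Scheme.fppfPrecoverage 𝒴) (h𝒵 : AlgSt.IsAlgStack Scheme.fppfPrecoverage 𝒵)
  (f : 𝒳 ⥤ᵇ 𝒴) (g : 𝒴 ⥤ᵇ 𝒵)
include h𝒳 h𝒴 h𝒵

/-- precomposition with a smooth morphism representable by algebraic spaces preserves `LocQ P` -/
theorem locQ_precomp_smooth (P : MorphismProperty (AlgSp.Sp S)) (hP : AlgSp.IsSmoothLocalST P)
    (hf : AlgSt.RepByAlgSpWith (AlgSp.LocP @Smooth) f) (hg : AlgSt.LocQ P g) :
    AlgSt.LocQ P (BasedFunctor.comp f g) := by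
  obtain ⟨W, z, hz, hzs⟩ := h𝒵.atlas
  obtain ⟨V, y, k, β, U, x, h, α, γ, hy, hly, hys, hx, hlx, hlxs, hxs, hlγ⟩ :=
    exists_tower h𝒳 h𝒴 h𝒵 f g z hz
  have hPk : P ((AlgSp.yon S).map k) := (locQ_iff_forall h𝒴 h𝒵 g P hP).1 hg V W y z k β hy hz hly
  have hVf : IsFibGrpd (overCat V).p := Groth.Agent.FibOver.isFibGrpd_overCat V
  have hUf : IsFibGrpd (overCat U).p := Groth.Agent.FibOver.isFibGrpd_overCat U
  have hfp : IsFibGrpd (fp f y).p := isFibGrpd_fp _ _ h𝒳.isStack.1 hVf h𝒴.isStack.1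
  have hsnd : AlgSt.RepByAlgSpWith (AlgSp.LocP @Smooth) (fpSnd f y) :=
    repByAlgSpWith_fpSnd hVf h𝒴.isStack.1 h𝒳.isStack.1 _ f y hf
  have hh : AlgSt.RepByAlgSpWith (AlgSp.LocP @Smooth) (AlgSt.overMap h) :=
    smooth_comp hUf hfp hVf (fpLift x (AlgSt.overMap h) α) (fpSnd f y) hlx hsnd
  have hPh : AlgSp.LocP @Smooth ((AlgSp.yon S).map h) :=
    prop_of_repByAlgSpWith_overMap _ (isoInv_locP _) h hh
  have hPhk : P ((AlgSp.yon S).map (h ≫ k)) := by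
    rw [Functor.map_comp]
    exact hP.precomp (AlgSp.IsAlgSpace.yon_obj U) (AlgSp.IsAlgSpace.yon_obj V) (AlgSp.IsAlgSpace.yon_obj W) _ _
      hPh hPk
  exact ⟨U, W, x, z, h ≫ k, γ, hx, hxs (hys hzs), hz, hPhk⟩

end Precomp

section SmoothBaseChange

variable {𝒳 𝒴 𝒴' : AlgSt.Cat S} (h𝒳 : AlgSt.IsAlgStack Scheme.fppfPrecoverage 𝒳)
  (h𝒴 : AlgSt.IsAlgStack Scheme.fppfPrecoverage 𝒴) (h𝒴' : AlgSt.IsAlgStack Scheme.fppfPrecoverage 𝒴')
  (f : 𝒳 ⥤ᵇ 𝒴) (g : 𝒴' ⥤ᵇ 𝒴)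
include h𝒳 h𝒴 h𝒴'

/-- base change along a smooth morphism representable by algebraic spaces preserves `LocQ P` -/
theorem locQ_fpFst_of_smooth (P : MorphismProperty (AlgSp.Sp S)) (hP : AlgSp.IsSmoothLocalST P)
    (hg : AlgSt.RepByAlgSpWith (AlgSp.LocP @Smooth) g) (hf : AlgSt.LocQ P f) : AlgSt.LocQ P (fpFst g f) := by
  obtain ⟨U₀, V₀, x₀, y₀, h₀, α₀, hx₀, hxs₀, hy₀, hP₀⟩ := hf
  obtain ⟨V', y', hy', hys'⟩ := h𝒴'.atlas
  have hV'f : IsFibGrpd (overCat V').p := Groth.Agent.FibOver.isFibGrpd_overCat V'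
  have h𝒳' : AlgSt.IsAlgStack Scheme.fppfPrecoverage (fp g f) := isAlgStack_fp' h𝒴' h𝒳 h𝒴 g f
  obtain ⟨T, x'', h'', α'', hx'', hl'', -, hxs''⟩ := exists_good_square h𝒳' h𝒴' (fpFst g f) y' hy'
  refine ⟨T, V', x'', y', h'', α'', hx'', hxs'' hys', hy', ?_⟩
  let Θ : fp (fpFst g f) y' ⥤ᵇ fp f (BasedFunctor.comp y' g) :=
    BasedFunctor.comp (fpSwap (fpFst g f) y') (BasedFunctor.comp (pasteL y' g f)
      (fpSwap (BasedFunctor.comp y' g) f))
  have hΘ : IsEquivOver Θ := isEquivOver_comp _ _ (fpSwap_isEquivOver _ _)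
    (isEquivOver_comp _ _ (pasteL_isEquivOver _ _ _) (fpSwap_isEquivOver _ _))
  have hlΘ : AlgSt.RepByAlgSpWith (AlgSp.LocP @Smooth)
      (BasedFunctor.comp (fpLift x'' (AlgSt.overMap h'') α'') Θ) :=
    (repByAlgSpWith_iff_of_square _ (BasedFunctor.comp (fpLift x'' (AlgSt.overMap h'') α'') Θ)
      (fpLift x'' (AlgSt.overMap h'') α'') (BasedFunctor.id _) Θ (isEquivOver_id' _) hΘ (Iso.refl _)).2 hl''
  have hyg : AlgSt.RepByAlgSpWith (AlgSp.LocP @Smooth) (BasedFunctor.comp y' g) :=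
    smooth_comp hV'f h𝒴'.isStack.1 h𝒴.isStack.1 _ _ hy' hg
  refine core h𝒳.isStack.1 h𝒴.isStack.1 f P hP x₀ y₀ h₀ α₀ hx₀ hxs₀ hy₀ hP₀
    (BasedFunctor.comp x'' (fpSnd g f)) (BasedFunctor.comp y' g) h''
    (whiskerLeftIso x'' (fpIso g f).symm ≪≫ whiskerRightIso α'' g) hyg ?_
  exact hlΘ

end SmoothBaseChange

section Lift

variable {𝒳 : AlgSt.Cat S} (h𝒳 : AlgSt.IsAlgStack Scheme.fppfPrecoverage 𝒳)
include h𝒳

/-- `exists_fppf_lift`, remembering that a smooth chart lifts to a smooth chart -/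
theorem exists_fppf_lift_smooth {𝒳' : AlgSt.Cat S} (h𝒳' : AlgSt.IsAlgStack Scheme.fppfPrecoverage 𝒳')
    (f : 𝒳' ⥤ᵇ 𝒳)
    (hf₁ : AlgSt.LocQ (AlgSp.LocP @Flat) f) (hf₂ : AlgSt.LocQ (AlgSp.LocP @LocallyOfFinitePresentation) f)
    (U : Over S) (x : overCat U ⥤ᵇ 𝒳) :
    ∃ (V : Over S) (g : V ⟶ U) (x' : overCat V ⥤ᵇ 𝒳'), Flat g.left ∧ LocallyOfFinitePresentation g.left ∧
      Nonempty (BasedFunctor.comp x' f ≅ BasedFunctor.comp (AlgSt.overMap g) x) ∧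
      (∀ u : ↥U.left, Points.ofChart x u ∈ Set.range (Points.map f) → u ∈ Set.range g.left) ∧
      (AlgSt.RepByAlgSpWith (AlgSp.LocP @Smooth) x → AlgSt.RepByAlgSpWith (AlgSp.LocP @Smooth) x') := by
  have hUa : AlgSt.IsAlgStack Scheme.fppfPrecoverage (overCat U) := isAlgStack_overCat U
  have hUf : IsFibGrpd (overCat U).p := Groth.Agent.FibOver.isFibGrpd_overCat U
  have h𝒫 : AlgSt.IsAlgStack Scheme.fppfPrecoverage (fp x f) := isAlgStack_fp' hUa h𝒳' h𝒳 x f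
  have hζ₁ : AlgSt.LocQ (AlgSp.LocP @Flat) (fpFst x f) :=
    locQ_fpFst h𝒳' h𝒳 hUa f x _ isSmoothLocalST_flat
      (fun X₁ Y₁ X₂ Y₂ h1 h2 _ h4 a b a' b' sq ha => locP_of_isPullback locPData_flat h1 h2 h4 sq ha) hf₁
  have hζ₂ : AlgSt.LocQ (AlgSp.LocP @LocallyOfFinitePresentation) (fpFst x f) :=
    locQ_fpFst h𝒳' h𝒳 hUa f x _ isSmoothLocalST_lfp
      (fun X₁ Y₁ X₂ Y₂ h1 h2 _ h4 a b a' b' sq ha => locP_of_isPullback locPData_lfp h1 h2 h4 sq ha) hf₂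
  obtain ⟨V, w, g, α, hw, hl, hls, -⟩ :=
    exists_good_square h𝒫 hUa (fpFst x f) (BasedFunctor.id _) (smooth_id_overCat U)
  have hVf : IsFibGrpd (overCat V).p := Groth.Agent.FibOver.isFibGrpd_overCat V
  have h1 : Flat g.left := AlgSp.locP_yon_map
    ((locQ_iff_forall h𝒫 hUa (fpFst x f) _ isSmoothLocalST_flat).1 hζ₁ V U w _ g α hw
      (smooth_id_overCat U) hl)
  have h2 : LocallyOfFinitePresentation g.left := AlgSp.locP_yon_map
    ((locQ_iff_forall h𝒫 hUa (fpFst x f) _ isSmoothLocalST_lfp).1 hζ₂ V U w _ g α hw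
      (smooth_id_overCat U) hl)
  refine ⟨V, g, BasedFunctor.comp w (fpSnd x f), h1, h2, ⟨?_⟩, ?_, ?_⟩
  · exact (whiskerLeftIso w (fpIso x f)).symm ≪≫ whiskerRightIso α x
  · intro u hu
    apply mem_range_of_square h𝒫 hUa (fpFst x f) w (BasedFunctor.id _) g α hls u
    obtain ⟨q, hq⟩ := hu
    obtain ⟨p, hp, -⟩ := exists_points_fp h𝒳'.isStack.1 h𝒳.isStack.1 hUf f x
      (Points.ofChart (BasedFunctor.id (overCat U)) u) q hq.symm
    exact ⟨p, hp⟩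
  · intro hx
    exact smooth_comp hVf h𝒫.isStack.1 h𝒳'.isStack.1 _ _ hw
      (repByAlgSpWith_fpSnd h𝒳'.isStack.1 h𝒳.isStack.1 hUf _ x f hx)

end Lift

section Omega

/-- a property read on chart squares of the projection `W ×_V U ⟶ W` of slices holds for the projection of any
pullback square of the representing sheaves -/
theorem prop_snd_of_locQ_fpFst_overMap (P : MorphismProperty (AlgSp.Sp S)) (hP : AlgSp.IsSmoothLocalST P)
    {U V W : Over S} (h : U ⟶ V) (c : W ⟶ V) {Z' : AlgSp.Sp S} (hZ' : AlgSp.IsAlgSpace Z')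
    (fst : Z' ⟶ (AlgSp.yon S).obj U) (snd : Z' ⟶ (AlgSp.yon S).obj W)
    (sq : IsPullback fst snd ((AlgSp.yon S).map h) ((AlgSp.yon S).map c))
    (H : AlgSt.LocQ P (fpFst (AlgSt.overMap c) (AlgSt.overMap h))) : P snd := by
  obtain ⟨YiU, ⟨αU⟩, ⟨βU⟩⟩ := toYon_isEquivOver.{u + 1} U
  have hYiU : IsEquivOver YiU := isEquivOver_symm αU βU
  obtain ⟨YiW, ⟨αW⟩, ⟨βW⟩⟩ := toYon_isEquivOver.{u + 1} W
  have hYiW : IsEquivOver YiW := isEquivOver_symm αW βW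
  have e1 := spMapOfOver_yonInv_overMap h YiU βU
  have e2 := spMapOfOver_yonInv_overMap c YiW βW
  have sq' : IsPullback fst snd (AlgSt.spMapOfOver (BasedFunctor.comp YiU (AlgSt.overMap h)))
      (AlgSt.spMapOfOver (BasedFunctor.comp YiW (AlgSt.overMap c))) := by
    rw [e1, e2]
    exact sq
  obtain ⟨Ξ, hΞ, ⟨i₁⟩, -⟩ := exists_equiv_of_isPullback _ _ _ _ sq'
  let E2 := fpMap (BasedFunctor.comp YiW (AlgSt.overMap c)) (BasedFunctor.comp YiW (AlgSt.overMap c))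
    (BasedFunctor.comp YiU (AlgSt.overMap h)) (AlgSt.overMap h) YiU (BasedFunctor.id _) (Iso.refl _) (Iso.refl _)
  have hE2 : IsEquivOver E2 := fpMap_isEquivOver _ _ _ _ _ _ _ _ hYiU (isEquivOver_id' _)
  let E0 := fpPrecomp YiW (AlgSt.overMap c) (AlgSt.overMap h)
  have hE0 : IsEquivOver E0 := fpPrecomp_isEquivOver _ _ _ hYiW
  let Ω : AlgSt.ofSp Z' ⥤ᵇ fp (AlgSt.overMap c) (AlgSt.overMap h) :=
    BasedFunctor.comp Ξ (BasedFunctor.comp E2 E0)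
  have hΩ : IsEquivOver Ω := isEquivOver_comp _ _ hΞ (isEquivOver_comp _ _ hE2 hE0)
  have e : BasedFunctor.comp (AlgSt.ofSpMap snd) YiW ≅
      BasedFunctor.comp Ω (fpFst (AlgSt.overMap c) (AlgSt.overMap h)) :=
    (whiskerRightIso i₁ YiW).symm
  have h1 : AlgSt.LocQ P (AlgSt.ofSpMap snd) :=
    locQ_of_square_equiv_symm P (AlgSt.ofSpMap snd) (fpFst (AlgSt.overMap c) (AlgSt.overMap h)) Ω YiW hΩ hYiW e H
  exact prop_of_locQ_ofSpMap P hP ⟨Z', hZ'⟩ ⟨(AlgSp.yon S).obj W, AlgSp.IsAlgSpace.yon_obj W⟩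
    (ObjectProperty.homMk snd) h1

end Omega

section Main

variable {𝒳 𝒴 𝒵 : AlgSt.Cat S} (h𝒳 : AlgSt.IsAlgStack Scheme.fppfPrecoverage 𝒳)
  (h𝒴 : AlgSt.IsAlgStack Scheme.fppfPrecoverage 𝒴) (h𝒵 : AlgSt.IsAlgStack Scheme.fppfPrecoverage 𝒵)
  (f : 𝒳 ⥤ᵇ 𝒴)
include h𝒳 h𝒴 h𝒵

/-- S12994 -/
theorem locQ_of_fpFst_fppf (P : MorphismProperty (AlgSp.Sp S)) (hP : AlgSp.IsSmoothLocalST P)
    (hP₂ : AlgSp.IsLocalOnBase AlgSp.IsFppfCover P) (z : 𝒵 ⥤ᵇ 𝒴)
    (hz₁ : AlgSt.LocQ (AlgSp.LocP @Flat) z) (hz₂ : AlgSt.LocQ (AlgSp.LocP @LocallyOfFinitePresentation) z)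
    (hz₃ : AlgSt.IsSurjective z) (H : AlgSt.LocQ P (fpFst z f)) : AlgSt.LocQ P f := by
  obtain ⟨V, y, hy, hys⟩ := h𝒴.atlas
  obtain ⟨U, x, h, α, hx, hl, hls, hxs⟩ := exists_good_square h𝒳 h𝒴 f y hy
  refine ⟨U, V, x, y, h, α, hx, hxs hys, hy, ?_⟩
  obtain ⟨W, c, w', hc₁, hc₂, ⟨ι⟩, hc₃, hw'⟩ := exists_fppf_lift_smooth h𝒴 h𝒵 z hz₁ hz₂ V y
  have hw's : AlgSt.RepByAlgSpWith (AlgSp.LocP @Smooth) w' := hw' hy
  have hcs : Surjective c.left := ⟨fun u => hc₃ u (hz₃ _)⟩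
  have hUa : AlgSt.IsAlgStack Scheme.fppfPrecoverage (overCat U) := isAlgStack_overCat U
  have hVa : AlgSt.IsAlgStack Scheme.fppfPrecoverage (overCat V) := isAlgStack_overCat V
  have hWa : AlgSt.IsAlgStack Scheme.fppfPrecoverage (overCat W) := isAlgStack_overCat W
  -- smooth base change to `W`
  have h𝒳' : AlgSt.IsAlgStack Scheme.fppfPrecoverage (fp z f) := isAlgStack_fp' h𝒵 h𝒳 h𝒴 z f
  have H2 : AlgSt.LocQ P (fpFst w' (fpFst z f)) :=
    locQ_fpFst_of_smooth h𝒳' h𝒵 hWa (fpFst z f) w' P hP hw's H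
  -- transport to `W ×_V (𝒳 ×_𝒴 V)`
  let E : fp w' (fpFst z f) ⥤ᵇ fp (BasedFunctor.comp (AlgSt.overMap c) y) f :=
    BasedFunctor.comp (pasteL w' z f)
      (fpMap (BasedFunctor.comp w' z) (BasedFunctor.comp (AlgSt.overMap c) y) f f (BasedFunctor.id _)
        (BasedFunctor.id _) ι (Iso.refl _))
  have hE : IsEquivOver E := isEquivOver_comp _ _ (pasteL_isEquivOver _ _ _)
    (fpMap_isEquivOver _ _ _ _ _ _ _ _ (isEquivOver_id' _) (isEquivOver_id' _))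
  have H3 : AlgSt.LocQ P (fpFst (BasedFunctor.comp (AlgSt.overMap c) y) f) :=
    locQ_of_square_equiv P (fpFst (BasedFunctor.comp (AlgSt.overMap c) y) f) (fpFst w' (fpFst z f)) E
      (BasedFunctor.id _) hE (isEquivOver_id' _) (Iso.refl _) H2
  let G' : fp (AlgSt.overMap c) (fpSnd f y) ⥤ᵇ fp (BasedFunctor.comp (AlgSt.overMap c) y) f :=
    BasedFunctor.comp
      (fpMap (AlgSt.overMap c) (AlgSt.overMap c) (fpSnd f y) (fpFst y f) (fpSwap f y) (BasedFunctor.id _)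
        (Iso.refl _) (Iso.refl _))
      (pasteL (AlgSt.overMap c) y f)
  have hG' : IsEquivOver G' := isEquivOver_comp _ _
    (fpMap_isEquivOver _ _ _ _ _ _ _ _ (fpSwap_isEquivOver _ _) (isEquivOver_id' _)) (pasteL_isEquivOver _ _ _)
  have H4 : AlgSt.LocQ P (fpFst (AlgSt.overMap c) (fpSnd f y)) :=
    locQ_of_square_equiv_symm P (fpFst (AlgSt.overMap c) (fpSnd f y))
      (fpFst (BasedFunctor.comp (AlgSt.overMap c) y) f) G' (BasedFunctor.id _) hG' (isEquivOver_id' _)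
      (Iso.refl _) H3
  -- precompose with the base change of the smooth chart `U ⟶ 𝒳 ×_𝒴 V`
  have hfpa : AlgSt.IsAlgStack Scheme.fppfPrecoverage (fp f y) := isAlgStack_fp' h𝒳 hVa h𝒴 f y
  have h𝒬' : AlgSt.IsAlgStack Scheme.fppfPrecoverage (fp (AlgSt.overMap c) (fpSnd f y)) :=
    isAlgStack_fp' hWa hfpa hVa _ _
  have ha : AlgSt.RepByAlgSpWith (AlgSp.LocP @Smooth)
      (fpFst (fpSnd (AlgSt.overMap c) (fpSnd f y)) (fpLift x (AlgSt.overMap h) α)) :=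
    Groth.Agent.Lib.helper4.AlgStDiagBC.repByAlgSpWith_fpFst _ (fpLift x (AlgSt.overMap h) α)
      (fpSnd (AlgSt.overMap c) (fpSnd f y)) hl
  have hN : AlgSt.IsAlgStack Scheme.fppfPrecoverage
      (fp (fpSnd (AlgSt.overMap c) (fpSnd f y)) (fpLift x (AlgSt.overMap h) α)) :=
    isAlgStack_fp' h𝒬' hUa hfpa _ _
  have H5 : AlgSt.LocQ P (BasedFunctor.comp
      (fpFst (fpSnd (AlgSt.overMap c) (fpSnd f y)) (fpLift x (AlgSt.overMap h) α))
      (fpFst (AlgSt.overMap c) (fpSnd f y))) :=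
    locQ_precomp_smooth hN h𝒬' hWa _ _ P hP ha H4
  have H6 : AlgSt.LocQ P (fpFst (AlgSt.overMap c) (AlgSt.overMap h)) :=
    locQ_of_square_equiv P (fpFst (AlgSt.overMap c) (AlgSt.overMap h)) _
      (pasteR (AlgSt.overMap c) (fpSnd f y) (fpLift x (AlgSt.overMap h) α)) (BasedFunctor.id _)
      (pasteR_isEquivOver _ _ _) (isEquivOver_id' _) (Iso.refl _) H5
  -- descend along the fppf covering `W ⟶ V`
  have sq : IsPullback (pullback.fst ((AlgSp.yon S).map h) ((AlgSp.yon S).map c))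
      (pullback.snd ((AlgSp.yon S).map h) ((AlgSp.yon S).map c)) ((AlgSp.yon S).map h) ((AlgSp.yon S).map c) :=
    IsPullback.of_hasPullback _ _
  have hZ' : AlgSp.IsAlgSpace (pullback ((AlgSp.yon S).map h) ((AlgSp.yon S).map c)) :=
    Groth.Agent.Lib.helper5.isAlgSpace_of_isPullback (AlgSp.IsAlgSpace.yon_obj V).diag
      (AlgSp.IsAlgSpace.yon_obj U) (AlgSp.IsAlgSpace.yon_obj W) sq
  have hPsnd : P (pullback.snd ((AlgSp.yon S).map h) ((AlgSp.yon S).map c)) :=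
    prop_snd_of_locQ_fpFst_overMap P hP h c hZ' _ _ sq H6
  have hcov : AlgSp.IsFppfCover (fun _ : PUnit.{u + 1} => (AlgSp.yon S).obj W)
      (fun _ => (AlgSp.yon S).map c) :=
    ⟨fun _ => ⟨locP_yon_map_of locPData_flat c hc₁, locP_yon_map_of locPData_lfp c hc₂⟩,
      fun pt => ⟨PUnit.unit, Groth.Agent.Lib.helper5.surjective_map_of_repWith_surjective _
        ((AlgSp.repWith_yon_map_iff @Surjective c).2 hcs) pt⟩⟩
  exact (hP₂ (fun _ : PUnit.{u + 1} => (AlgSp.yon S).obj W) (fun _ => (AlgSp.yon S).map c)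
    (AlgSp.IsAlgSpace.yon_obj V) (fun _ => AlgSp.IsAlgSpace.yon_obj W) hcov ((AlgSp.yon S).map h)
    (AlgSp.IsAlgSpace.yon_obj U) (fun _ => pullback ((AlgSp.yon S).map h) ((AlgSp.yon S).map c))
    (fun _ => pullback.snd _ _) (fun _ => pullback.fst _ _) (fun _ => hZ') (fun _ => sq)).2 (fun _ => hPsnd)

end Main

end Groth.Agent.Lib.helper4.AlgStLocQ
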