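import Groth.Agent.Lib.Helper4.Descent
import Groth.Prelude.Def_StGerb2
set_option autoImplicit false
set_option backward.isDefEq.respectTransparency false
set_option backward.isDefEq.respectTransparency.types false
set_option linter.unusedSectionVars false
set_option linter.style.haveILetI false
open CategoryTheory CategoryTheory.Functor CategoryTheory.Limits
universe v₄ u₄ v₃ u₃ v₂ u₂ v u

/-! Local-to-global arguments in a gerbe with a global object `x` (an object over a terminal object of the base):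
objects are locally pullbacks of `x`, and morphisms are determined / constructed locally. -/

namespace Groth.Agent.Lib.helper4.GerbLocal
open Groth.Agent.FibEquiv Groth.Agent.FibFiberwise Groth.Agent.FibFpProj Groth.Agent.FibYoneda
open Groth.Agent.Lib.helper4.Descent

variable {C : Type u} [Category.{v} C] (J : GrothendieckTopology C) {𝒳 : BasedCategory.{v₂, u₂} C}
  {𝒴 : BasedCategory.{v₃, u₃} C}

/-- an automorphism over the identity from a morphism over the identity (category fibred in groupoids) -/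
noncomputable def mkAutO (h𝒳 : FibCat.IsFibGrpd 𝒳.p) (y : 𝒳.obj) (a : y ⟶ y)
    (ha : 𝒳.p.IsHomLift (𝟙 (𝒳.p.obj y)) a) : Gerb.AutO y :=
  haveI := isIso_of_lift h𝒳 (𝟙 (𝒳.p.obj y)) a
  fiberIsoMk 𝒳.p (a := Gerb.fib y) (b := Gerb.fib y) (asIso a) ha

theorem mkAutO_hom (h𝒳 : FibCat.IsFibGrpd 𝒳.p) (y : 𝒳.obj) (a : y ⟶ y)
    (ha : 𝒳.p.IsHomLift (𝟙 (𝒳.p.obj y)) a) : (mkAutO h𝒳 y a ha).hom.1 = a := rfl

/-- separation with a flexible base -/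
theorem sepJ (h𝒳 : FibCat.IsFibGrpd 𝒳.p)
    (hpre : ∀ ⦃U : C⦄ (R : Sieve U), R ∈ J U → (Stk.resSieve R 𝒳).Faithful)
    {x y : 𝒳.obj} (a b : x ⟶ y) {V W : C} (g : V ⟶ W) [ha : 𝒳.p.IsHomLift g a] [hb : 𝒳.p.IsHomLift g b]
    (R : Sieve V) (hR : R ∈ J V)
    (h : ∀ ⦃V' : C⦄ (f : V' ⟶ V), R f → ∃ (x' : 𝒳.obj) (χ : x' ⟶ x), 𝒳.p.IsHomLift f χ ∧ χ ≫ a = χ ≫ b) :
    a = b := by
  have hV : 𝒳.p.obj x = V := IsHomLift.domain_eq 𝒳.p g a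
  have hW : 𝒳.p.obj y = W := IsHomLift.codomain_eq 𝒳.p g a
  subst hV hW
  exact sep h𝒳 a b g R (hpre R hR) h

/-- the sieve on the base of `y` of maps along which some pullback of `y` maps to `x` -/
def sieveP (h𝒳 : FibCat.IsFibGrpd 𝒳.p) (x y : 𝒳.obj) : Sieve (𝒳.p.obj y) where
  arrows V f := ∃ (y' : 𝒳.obj) (χ : y' ⟶ y) (_ : y' ⟶ x), 𝒳.p.IsHomLift f χ
  downward_closed := by
    rintro V W f ⟨y', χ, c, hχ⟩ k
    have hV : 𝒳.p.obj y' = V := IsHomLift.domain_eq 𝒳.p f χ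
    subst hV
    obtain ⟨y'', κ, hκ⟩ := h𝒳.exists_lift (x := y') k
    exact ⟨y'', κ ≫ χ, κ ≫ c, inferInstance⟩

theorem sieveP_map_iff (h𝒳 : FibCat.IsFibGrpd 𝒳.p) (x : 𝒳.obj) {y' y : 𝒳.obj} (χ : y' ⟶ y) :
    sieveP h𝒳 x y (𝒳.p.map χ) ↔ Nonempty (y' ⟶ x) := by
  constructor
  · rintro ⟨y'', χ'', c, hχ''⟩
    obtain ⟨κ, -, -⟩ := exists_factor h𝒳 (𝒳.p.map χ) χ'' (𝟙 _) (𝒳.p.map χ) (by simp) χ
    exact ⟨κ ≫ c⟩
  · rintro ⟨c⟩
    exact ⟨y', χ, c, inferInstance⟩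

theorem sieveP_mem (h𝒳 : Gerb.IsGerbe J 𝒳) (x : 𝒳.obj) (hterm : ∀ U : C, Nonempty (U ⟶ 𝒳.p.obj x)) (y : 𝒳.obj) :
    sieveP h𝒳.1.1 x y ∈ J (𝒳.p.obj y) := by
  obtain ⟨t⟩ := hterm (𝒳.p.obj y)
  obtain ⟨xy, γ, hγ⟩ := h𝒳.1.1.exists_lift (x := x) t
  have hxy : 𝒳.p.obj xy = 𝒳.p.obj y := IsHomLift.domain_eq 𝒳.p t γ
  have hb : (FibCat.selfOver C).p.IsHomLift (𝟙 (𝒳.p.obj y))
      (eqToHom hxy.symm : (FibCat.toSelf 𝒳).obj y ⟶ (FibCat.toSelf 𝒳).obj xy) :=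
    IsHomLift.of_fac' _ _ _ rfl hxy (by simp [eqToHom_map])
  obtain ⟨R, hR, hloc⟩ := h𝒳.2.2 y xy (eqToHom hxy.symm) hb
  refine J.superset_covering ?_ hR
  intro V f hf
  obtain ⟨x₀, a₁, a₂, h1, h2, -⟩ := hloc f hf
  exact ⟨x₀, a₁, a₂ ≫ γ, h1⟩

theorem isHomLift_id_of_eqToHom {R S : C} (h : R = S) {a b : 𝒳.obj} (m : a ⟶ b) [hm : 𝒳.p.IsHomLift (eqToHom h) m] :
    𝒳.p.IsHomLift (𝟙 R) m := by
  subst h; simpa using hm

theorem full_of_isStack (h𝒳 : Stk.IsStack J 𝒳) ⦃U : C⦄ (R : Sieve U) (hR : R ∈ J U) : (Stk.resSieve R 𝒳).Full := by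
  have := h𝒳.2 R hR
  unfold Stk.IsStackFor at this
  infer_instance

theorem faithful_of_isStack (h𝒳 : Stk.IsStack J 𝒳) ⦃U : C⦄ (R : Sieve U) (hR : R ∈ J U) :
    (Stk.resSieve R 𝒳).Faithful := by
  have := h𝒳.2 R hR
  unfold Stk.IsStackFor at this
  infer_instance

/-- **Conjugation lemma.** In a gerbe with a global object `x`, an endofunctor `φ` over the base together with an
isomorphism `g : φ x ⟶ x` over the identity whose pullbacks commute with all automorphisms is isomorphic to the identity,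
by a natural transformation `ρ` with components over identities. -/
theorem natIso_of_conj (h𝒳 : Gerb.IsGerbe J 𝒳) (φ : 𝒳 ⥤ᵇ 𝒳) (x : 𝒳.obj)
    (hterm : ∀ U : C, Nonempty (Unique (U ⟶ 𝒳.p.obj x)))
    (g : φ.obj x ⟶ x) (hg : 𝒳.p.IsHomLift (𝟙 (𝒳.p.obj x)) g)
    (hconj : ∀ (x' : 𝒳.obj) (c : x' ⟶ x) (g' : φ.obj x' ⟶ x'), 𝒳.p.IsHomLift (𝟙 (𝒳.p.obj x')) g' →
      φ.map c ≫ g = g' ≫ c → ∀ α : Gerb.AutO x', φ.map α.hom.1 ≫ g' = g' ≫ α.hom.1) :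
    ∃ ρ : ∀ y : 𝒳.obj, φ.obj y ⟶ y,
      (∀ y, IsIso (ρ y) ∧ 𝒳.p.IsHomLift (𝟙 (𝒳.p.obj y)) (ρ y)) ∧
      (∀ (y y' : 𝒳.obj) (f : y ⟶ y'), φ.map f ≫ ρ y' = ρ y ≫ f) := by
  classical
  have hfg : FibCat.IsFibGrpd 𝒳.p := h𝒳.1.1
  have hbase : ∀ {U : C} (f₁ f₂ : U ⟶ 𝒳.p.obj x), f₁ = f₂ := fun {U} f₁ f₂ => by
    obtain ⟨u⟩ := hterm U; exact (u.uniq f₁).trans (u.uniq f₂).symm
  have hne : ∀ U : C, Nonempty (U ⟶ 𝒳.p.obj x) := fun U => by obtain ⟨u⟩ := hterm U; exact ⟨u.default⟩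
  -- Step 1: the local isomorphisms
  have hρex : ∀ (y' : 𝒳.obj) (c : y' ⟶ x), ∃ r : φ.obj y' ⟶ y',
      𝒳.p.IsHomLift (𝟙 (𝒳.p.obj y')) r ∧ r ≫ c = φ.map c ≫ g := by
    intro y' c
    have h1 : 𝒳.p.IsHomLift (𝒳.p.map c) (φ.map c) := inferInstance
    have h2 : 𝒳.p.IsHomLift (𝒳.p.map c ≫ 𝟙 _) (φ.map c ≫ g) := inferInstance
    exact exists_factor hfg (𝒳.p.map c) c (𝟙 _) (𝒳.p.map c ≫ 𝟙 _) (by simp) (φ.map c ≫ g)
  have hρindep : ∀ (y' : 𝒳.obj) (c₁ c₂ : y' ⟶ x) (r : φ.obj y' ⟶ y'), 𝒳.p.IsHomLift (𝟙 (𝒳.p.obj y')) r →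
      r ≫ c₁ = φ.map c₁ ≫ g → r ≫ c₂ = φ.map c₂ ≫ g := by
    intro y' c₁ c₂ r hr h1
    have hc₂ : 𝒳.p.IsHomLift (𝒳.p.map c₁) c₂ := by rw [hbase (𝒳.p.map c₁) (𝒳.p.map c₂)]; infer_instance
    obtain ⟨a, ha, hac⟩ := exists_factor hfg (𝒳.p.map c₁) c₁ (𝟙 _) (𝒳.p.map c₁) (by simp) c₂
    have := hconj y' c₁ r hr h1.symm (mkAutO hfg y' a ha)
    rw [mkAutO_hom] at this
    rw [← hac, ← Category.assoc, ← this, Category.assoc, h1, φ.toFunctor.map_comp, Category.assoc]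
  let ρ' : ∀ y' : 𝒳.obj, Nonempty (y' ⟶ x) → (φ.obj y' ⟶ y') := fun y' h => (hρex y' h.some).choose
  have hρ'lift : ∀ y' h, 𝒳.p.IsHomLift (𝟙 (𝒳.p.obj y')) (ρ' y' h) := fun y' h => (hρex y' h.some).choose_spec.1
  have hρ'fac : ∀ y' h (c : y' ⟶ x), ρ' y' h ≫ c = φ.map c ≫ g := fun y' h c =>
    hρindep y' h.some c _ (hρ'lift y' h) (hρex y' h.some).choose_spec.2
  have hρ'iso : ∀ y' h, IsIso (ρ' y' h) := fun y' h => by
    have := hρ'lift y' h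
    exact isIso_of_lift hfg (𝟙 (𝒳.p.obj y')) (ρ' y' h)
  have hρ'nat : ∀ (y'' y' : 𝒳.obj) (κ : y'' ⟶ y') (h'' : Nonempty (y'' ⟶ x)) (h' : Nonempty (y' ⟶ x)),
      φ.map κ ≫ ρ' y' h' = ρ' y'' h'' ≫ κ := by
    intro y'' y' κ h'' h'
    obtain ⟨c⟩ := id h'
    have h1 := hρ'lift y' h'
    have h2 := hρ'lift y'' h''
    have h3 : 𝒳.p.IsHomLift (𝒳.p.map κ) (φ.map κ) := inferInstance
    have hl1 : 𝒳.p.IsHomLift (𝒳.p.map κ) (φ.map κ ≫ ρ' y' h') := by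
      have : 𝒳.p.IsHomLift (𝒳.p.map κ ≫ 𝟙 _) (φ.map κ ≫ ρ' y' h') := inferInstance
      simpa using this
    have hl2 : 𝒳.p.IsHomLift (𝒳.p.map κ) (ρ' y'' h'' ≫ κ) := by
      have : 𝒳.p.IsHomLift (𝟙 _ ≫ 𝒳.p.map κ) (ρ' y'' h'' ≫ κ) := inferInstance
      simpa using this
    apply cancel_right hfg c (𝒳.p.map κ)
    rw [Category.assoc, Category.assoc, hρ'fac y' h' c, hρ'fac y'' h'' (κ ≫ c), φ.toFunctor.map_comp, Category.assoc]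
  -- Step 2: glue
  have hglue : ∀ y : 𝒳.obj, ∃ a : y ⟶ φ.obj y, 𝒳.p.IsHomLift (𝟙 (𝒳.p.obj y)) a ∧
      ∀ (y' : 𝒳.obj) (χ : y' ⟶ y) (h : Nonempty (y' ⟶ x)), χ ≫ a = inv (ρ' y' h) ≫ φ.map χ := by
    intro y
    obtain ⟨a, ha, hfac⟩ := glue hfg (x := y) (y := φ.obj y) (eqToHom (φ.w_obj y).symm) (sieveP hfg x y)
      (full_of_isStack J h𝒳.1 _ (sieveP_mem J h𝒳 x hne y))
      (fun y' χ h => inv (ρ' y' ((sieveP_map_iff hfg x χ).1 h)) ≫ φ.map χ)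
      (fun y' χ h => by
        have h1 := hρ'lift y' ((sieveP_map_iff hfg x χ).1 h)
        have h2 : 𝒳.p.IsHomLift (𝟙 (𝒳.p.obj y')) (inv (ρ' y' ((sieveP_map_iff hfg x χ).1 h))) := inferInstance
        have h3 : 𝒳.p.IsHomLift (𝒳.p.map χ) (φ.map χ) := inferInstance
        have h4 : 𝒳.p.IsHomLift (𝟙 _ ≫ 𝒳.p.map χ)
            (inv (ρ' y' ((sieveP_map_iff hfg x χ).1 h)) ≫ φ.map χ) := inferInstance
        rw [Category.id_comp] at h4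
        infer_instance)
      (fun y' χ h y'' κ h' => by
        have e := hρ'nat y'' y' κ ((sieveP_map_iff hfg x (κ ≫ χ)).1 h') ((sieveP_map_iff hfg x χ).1 h)
        have e' : inv (ρ' y'' ((sieveP_map_iff hfg x (κ ≫ χ)).1 h')) ≫ φ.map κ =
            κ ≫ inv (ρ' y' ((sieveP_map_iff hfg x χ).1 h)) := by
          rw [IsIso.inv_comp_eq, ← Category.assoc, ← e, Category.assoc, IsIso.hom_inv_id, Category.comp_id]
        rw [φ.toFunctor.map_comp, ← Category.assoc, e', Category.assoc])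
    refine ⟨a, isHomLift_id_of_eqToHom (φ.w_obj y).symm a, fun y' χ h => ?_⟩
    exact hfac y' χ ((sieveP_map_iff hfg x χ).2 h)
  choose σ hσlift hσfac using hglue
  have hσiso : ∀ y, IsIso (σ y) := fun y => by
    have := hσlift y
    exact isIso_of_lift hfg (𝟙 (𝒳.p.obj y)) (σ y)
  -- Step 3: naturality
  have hσnat : ∀ (y y₂ : 𝒳.obj) (f : y ⟶ y₂), σ y ≫ φ.map f = f ≫ σ y₂ := by
    intro y y₂ f
    have h1 := hσlift y
    have h2 := hσlift y₂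
    have h3 : 𝒳.p.IsHomLift (𝒳.p.map f) (φ.map f) := inferInstance
    have hl1 : 𝒳.p.IsHomLift (𝒳.p.map f) (σ y ≫ φ.map f) := by
      have : 𝒳.p.IsHomLift (𝟙 _ ≫ 𝒳.p.map f) (σ y ≫ φ.map f) := inferInstance
      simpa using this
    have hl2 : 𝒳.p.IsHomLift (𝒳.p.map f) (f ≫ σ y₂) := by
      have : 𝒳.p.IsHomLift (𝒳.p.map f ≫ 𝟙 _) (f ≫ σ y₂) := inferInstance
      simpa using this
    apply sepJ J hfg (faithful_of_isStack J h𝒳.1) _ _ (𝒳.p.map f) (sieveP hfg x y) (sieveP_mem J h𝒳 x hne y)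
    rintro V f' ⟨y', χ, c, hχ⟩
    refine ⟨y', χ, hχ, ?_⟩
    rw [← Category.assoc, hσfac y y' χ ⟨c⟩, ← Category.assoc, hσfac y₂ y' (χ ≫ f) ⟨c⟩, φ.toFunctor.map_comp,
      Category.assoc]
  -- Step 4
  refine ⟨fun y => inv (σ y), fun y => ⟨inferInstance, ?_⟩, fun y y₂ f => ?_⟩
  · have := hσlift y
    infer_instance
  · rw [IsIso.comp_inv_eq, Category.assoc, IsIso.eq_inv_comp, hσnat]

end Groth.Agent.Lib.helper4.GerbLocal
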