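import Groth.Agent.Lib.Helper4.AlgSpNoethMono
import Groth.Agent.Lib.Helper4.AlgStNoethImm
import Groth.Agent.Lib.Helper4.AlgStLocQ9
set_option autoImplicit false
set_option backward.isDefEq.respectTransparency false
set_option backward.isDefEq.respectTransparency.types false
set_option linter.unusedSectionVars false
set_option linter.style.haveILetI false
set_option linter.unusedVariables false
open CategoryTheory CategoryTheory.Functor CategoryTheory.Limits Opposite AlgebraicGeometry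
universe u

/-! Monomorphisms into locally Noetherian algebraic stacks: the generic lifting criterion for quasi-compactness. -/

namespace Groth.Agent.Lib.helper4.AlgStNoethMono
open Groth.Agent.Lib.helper4.AlgStLocQ
open Groth.Agent.FibEquiv Groth.Agent.FibYoneda FibCat Groth.Agent.Lib.helper4.FibPaste
open Groth.Agent.Lib.helper4.AlgStEquiv Groth.Agent.Lib.helper4.AlgStRep
open Groth.Agent.Lib.helper4.AlgStSetoid Groth.Agent.FibFpProj Groth.Agent.Lib.helper4.FibRep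
open Groth.Agent.Lib.helper4.AlgStFpAlg Groth.Agent.Lib.helper4.AlgStDM Groth.Agent.Lib.helper4.AlgStSelf
open Groth.Agent.Lib.helper4.AlgStPts Groth.Agent.Lib.helper4.FibSwap Groth.Agent.Lib.helper4.AlgStSmLoc
open Groth.Agent.Lib.helper4.AlgStQC Groth.Agent.Lib.helper4.PshDict Groth.Agent.Lib.helper4.PshRep
open Groth.Agent.Lib.helper4.PshPB Groth.Agent.Lib.helper4.AlgStQCMor Groth.Agent.Lib.helper4.PointsBasic
open Groth.Agent.Lib.helper4.AlgStDescent Groth.Agent.Lib.helper4.AlgStCoreA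
open Groth.Agent.Lib.helper4.AlgStSource Groth.Agent.Lib.helper4.AlgStGraph
open Groth.Agent.Lib.helper4.SmLocalST Groth.Agent.Lib.helper5.LocPBC
open Groth.Agent.Lib.helper4.AlgStNoethImm Groth.Agent.Lib.helper4.AlgSpNoethMono
open Stk AlgSt

variable {S : Scheme.{u}}

/-- the converse of `overMap_iso_of_eq` -/
theorem eq_of_overMap_iso {W V : Over S} {F : AlgSp.Sp S} (p : (AlgSp.yon S).obj W ⟶ F)
    (Φ : AlgSt.ofSp F ⥤ᵇ overCat V) (b : W ⟶ V)
    (i : AlgSt.overMap b ≅ BasedFunctor.comp (ofMap p) Φ) :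
    (AlgSp.yon S).map b = p ≫ AlgSt.spMapOfOver Φ := by
  obtain ⟨YiW, ⟨αW⟩, ⟨βW⟩⟩ := toYon_isEquivOver.{u + 1} W
  rw [← spMapOfOver_yonInv_overMap b YiW βW, ← spMapOfOver_ofSpMap_comp]
  apply spMapOfOver_congr
  have i1 : BasedFunctor.comp YiW (AlgSt.overMap b) ≅
      BasedFunctor.comp YiW (BasedFunctor.comp (ofMap p) Φ) := whiskerLeftIso YiW i
  have i2 : BasedFunctor.comp (BasedFunctor.comp YiW (toYon.{u + 1} W)) (BasedFunctor.comp (ofPshMap p.hom) Φ) ≅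
      BasedFunctor.comp (BasedFunctor.id _) (BasedFunctor.comp (ofPshMap p.hom) Φ) :=
    whiskerRightIso βW _
  exact i1 ≪≫ i2

/-- the generic lifting hypothesis for `f : 𝒴 ⟶ 𝒳` -/
def HC {𝒳 𝒴 : AlgSt.Cat S} (f : 𝒴 ⥤ᵇ 𝒳) : Prop :=
  ∀ (A : Type u) [CommRing A] [IsDomain A] (sA : Spec (CommRingCat.of A) ⟶ S)
    (a : FibCat.overCat (Over.mk sA) ⥤ᵇ 𝒳) (D : Set ↥(Spec (CommRingCat.of A))), Dense D →
    (∀ p ∈ D, ∃ yp : FibCat.overCat (Over.mk ((Spec (CommRingCat.of A)).fromSpecResidueField p ≫ sA)) ⥤ᵇ 𝒴,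
        Nonempty (BasedFunctor.comp yp f ≅ BasedFunctor.comp (AlgSt.overMap (Over.homMk ((Spec (CommRingCat.of A)).fromSpecResidueField p) rfl : Over.mk (((Spec (CommRingCat.of A)).fromSpecResidueField p) ≫ sA) ⟶ Over.mk sA)) a)) →
    ∃ U : (Spec (CommRingCat.of A)).Opens, (U : Set ↥(Spec (CommRingCat.of A))).Nonempty ∧
      ∃ yU : FibCat.overCat (Over.mk (U.ι ≫ sA)) ⥤ᵇ 𝒴,
        Nonempty (BasedFunctor.comp yU f ≅ BasedFunctor.comp (AlgSt.overMap (Over.homMk (U.ι) rfl : Over.mk ((U.ι) ≫ sA) ⟶ Over.mk sA)) a)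

/-- the stack-level lifting hypothesis gives the sheaf-level one on every chart -/
theorem hLift_of_hc {𝒳 𝒴 : AlgSt.Cat S} (f : 𝒴 ⥤ᵇ 𝒳) (hc : HC f) {V : Over S} (y : overCat V ⥤ᵇ 𝒳)
    (F : AlgSp.Space S) (e : AlgSt.ofSp F.obj ⥤ᵇ fp y f) (he : IsEquivOver e) :
    HLift (AlgSt.spMapOfOver (BasedFunctor.comp e (fpFst y f))) := by
  intro A _ _ sA g D hD hl
  obtain ⟨U, hUne, yU, ⟨α⟩⟩ := hc A sA (BasedFunctor.comp (AlgSt.overMap g) y) D hD (by
    intro p hp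
    obtain ⟨σ, hσ⟩ := hl p hp
    obtain ⟨i⟩ := overMap_iso_of_eq σ (BasedFunctor.comp e (fpFst y f)) _ hσ.symm
    refine ⟨BasedFunctor.comp (BasedFunctor.comp (ofMap σ) e) (fpSnd y f), ⟨?_⟩⟩
    have i1 : BasedFunctor.comp (BasedFunctor.comp (ofMap σ) e) (BasedFunctor.comp (fpSnd y f) f) ≅
        BasedFunctor.comp (BasedFunctor.comp (ofMap σ) e) (BasedFunctor.comp (fpFst y f) y) :=
      whiskerLeftIso _ (fpIso y f).symm
    have i2 : BasedFunctor.comp (BasedFunctor.comp (ofMap σ) (BasedFunctor.comp e (fpFst y f))) y ≅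
        BasedFunctor.comp (AlgSt.overMap ((Over.homMk ((Spec (CommRingCat.of A)).fromSpecResidueField p) rfl :
          Over.mk ((Spec (CommRingCat.of A)).fromSpecResidueField p ≫ sA) ⟶ Over.mk sA) ≫ g)) y :=
      whiskerRightIso i.symm y
    have i3 : BasedFunctor.comp (AlgSt.overMap ((Over.homMk ((Spec (CommRingCat.of A)).fromSpecResidueField p) rfl :
          Over.mk ((Spec (CommRingCat.of A)).fromSpecResidueField p ≫ sA) ⟶ Over.mk sA) ≫ g)) y ≅
        BasedFunctor.comp (BasedFunctor.comp (AlgSt.overMap (Over.homMk ((Spec (CommRingCat.of A)).fromSpecResidueField p) rfl :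
          Over.mk ((Spec (CommRingCat.of A)).fromSpecResidueField p ≫ sA) ⟶ Over.mk sA)) (AlgSt.overMap g)) y :=
      whiskerRightIso (overMapCompIso _ g).symm y
    exact i1 ≪≫ i2 ≪≫ i3)
  refine ⟨U, hUne, ?_⟩
  let rU : Over.mk (U.ι ≫ sA) ⟶ Over.mk sA := Over.homMk U.ι rfl
  have iso' : BasedFunctor.comp (AlgSt.overMap (rU ≫ g)) y ≅ BasedFunctor.comp yU f :=
    whiskerRightIso (overMapCompIso rU g).symm y ≪≫ α.symm
  let L : overCat (Over.mk (U.ι ≫ sA)) ⥤ᵇ fp y f := fpLift (AlgSt.overMap (rU ≫ g)) yU iso'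
  obtain ⟨Ei, ⟨α₁⟩, ⟨β₁⟩⟩ := he
  obtain ⟨σ, ⟨i⟩⟩ := exists_map_of_chart (BasedFunctor.comp L Ei)
  refine ⟨σ, (eq_of_overMap_iso σ (BasedFunctor.comp e (fpFst y f)) (rU ≫ g) ?_).symm⟩
  have j1 : BasedFunctor.comp (ofMap σ) (BasedFunctor.comp e (fpFst y f)) ≅
      BasedFunctor.comp (BasedFunctor.comp L Ei) (BasedFunctor.comp e (fpFst y f)) :=
    whiskerRightIso i.symm _
  have j2 : BasedFunctor.comp L (BasedFunctor.comp (BasedFunctor.comp Ei e) (fpFst y f)) ≅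
      BasedFunctor.comp L (BasedFunctor.comp (BasedFunctor.id _) (fpFst y f)) :=
    whiskerLeftIso L (whiskerRightIso β₁ (fpFst y f))
  exact (j1 ≪≫ j2).symm

section Main

variable {𝒳 𝒴 : AlgSt.Cat S} (h𝒳 : AlgSt.IsAlgStack Scheme.fppfPrecoverage 𝒳)
  (h𝒴 : AlgSt.IsAlgStack Scheme.fppfPrecoverage 𝒴) (f : 𝒴 ⥤ᵇ 𝒳)
include h𝒳 h𝒴

/-- **Generic lifting criterion**: a monomorphism into a locally Noetherian algebraic stack satisfying the generic
lifting hypothesis is quasi-compact -/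
theorem isQuasiCompactMor_of_isMono_of_hc
    (hnoeth : AlgSt.SmoothLocally (fun X => IsLocallyNoetherian X) 𝒳) (ha : AlgSt.IsMono f) (hc : HC f) :
    AlgSt.IsQuasiCompactMor Scheme.fppfPrecoverage f := by
  obtain ⟨V, y, hy, hys⟩ := h𝒳.atlas
  have hV : IsLocallyNoetherian V.left := hnoeth V y hy
  have hVa : AlgSt.IsAlgStack Scheme.fppfPrecoverage (overCat V) := isAlgStack_overCat V
  have hVf : IsFibGrpd (overCat V).p := Groth.Agent.FibOver.isFibGrpd_overCat V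
  have hy₁ : AlgSt.LocQ (AlgSp.LocP @Flat) y :=
    locQ_locP_of_repByAlgSpWith hVa h𝒳 y locPData_flat
      (Groth.Agent.Lib.helper4.AlgStCancel.repByAlgSpWith_mono y
        (fun F T π hπ => locP_mono smooth_le_flat hπ) hy)
  have hy₂ : AlgSt.LocQ (AlgSp.LocP @LocallyOfFinitePresentation) y :=
    locQ_locP_of_repByAlgSpWith hVa h𝒳 y locPData_lfp
      (Groth.Agent.Lib.helper4.AlgStCancel.repByAlgSpWith_mono y
        (fun F T π hπ => locP_mono smooth_le_lfp hπ) hy)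
  have hy₃ : AlgSt.IsSurjective y := isSurjective_of_repByAlgSpWith h𝒳.isStack.1 y hys
  apply isQuasiCompactMor_of_fpFst_fppf h𝒴 h𝒳 hVa f y hy₁ hy₂ hy₃
  have hΦ : AlgSt.IsMono (fpFst y f) := Groth.Agent.Lib.helper4.AlgStDiagBC.repByAlgSpWith_fpFst _ f y ha
  have hfp : IsFibGrpd (fp y f).p := isFibGrpd_fp _ _ hVf h𝒴.isStack.1 h𝒳.isStack.1
  apply isQuasiCompactMor_of_repByAlgSpWith hfp hVf (fpFst y f)
  obtain ⟨F, e, he⟩ := exists_rep_of_repByAlgSpWith _ (fpFst y f) hΦ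
  have hp : Mono (AlgSt.spMapOfOver (BasedFunctor.comp e (fpFst y f))) :=
    spMapOfOver_of_repByAlgSpWith (MorphismProperty.monomorphisms (AlgSp.Sp S)) (isoInv_of_respectsIso _)
      (fpFst y f) hΦ F e he
  have hq : AlgSp.IsQuasiCompactMor (AlgSt.spMapOfOver (BasedFunctor.comp e (fpFst y f))) :=
    isQuasiCompactMor_of_mono F.property V _ (hLift_of_hc f hc y F e he)
  exact repByAlgSpWith_of_spMapOfOver AlgSp.IsQuasiCompactMor
    (fun X₁ Y₁ X₂ Y₂ _ _ _ _ a b a' b' sq ha => Groth.Agent.Lib.helper5.isQuasiCompactMor_of_isPullback sq ha)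
    (fpFst y f) F e he hq

/-- S15357 -/
theorem repByAlgSpWith_isQuasiCompactMor_of_isMono_of_hc
    (hnoeth : AlgSt.SmoothLocally (fun X => IsLocallyNoetherian X) 𝒳) (hrep : AlgSt.RepByAlgSp1 f)
    (ha : AlgSt.IsMono f) (hc : HC f) :
    AlgSt.RepByAlgSpWith AlgSp.IsQuasiCompactMor f :=
  repByAlgSpWith_of_isQuasiCompactMor f hrep (isQuasiCompactMor_of_isMono_of_hc h𝒳 h𝒴 f hnoeth ha hc)

end Main

end Groth.Agent.Lib.helper4.AlgStNoethMono
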