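import Groth.Agent.Lib.Helper4.AlgSpNoethQC
import Groth.Agent.Lib.Helper4.AlgStNoethMono
set_option autoImplicit false
set_option backward.isDefEq.respectTransparency false
set_option backward.isDefEq.respectTransparency.types false
set_option linter.unusedSectionVars false
set_option linter.style.haveILetI false
set_option linter.unusedVariables false
open CategoryTheory CategoryTheory.Functor CategoryTheory.Limits Opposite AlgebraicGeometry
universe u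

/-! The diagonal of a locally Noetherian algebraic stack: quasi-compactness from quasi-compact automorphism
groups and generic isomorphisms. -/

namespace Groth.Agent.Lib.helper4.AlgStNoethDiag
open Groth.Agent.Lib.helper4.AlgStLocQ
open Groth.Agent.FibEquiv Groth.Agent.FibYoneda FibCat Groth.Agent.Lib.helper4.FibPaste
open Groth.Agent.Lib.helper4.AlgStEquiv Groth.Agent.Lib.helper4.AlgStRep
open Groth.Agent.Lib.helper4.AlgStSetoid Groth.Agent.FibFpProj Groth.Agent.Lib.helper4.FibRep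
open Groth.Agent.Lib.helper4.AlgStFpAlg Groth.Agent.Lib.helper4.AlgStDM Groth.Agent.Lib.helper4.AlgStSelf
open Groth.Agent.Lib.helper4.AlgStPts Groth.Agent.Lib.helper4.FibSwap Groth.Agent.Lib.helper4.AlgStSmLoc
open Groth.Agent.Lib.helper4.AlgStQC Groth.Agent.Lib.helper4.PshDict Groth.Agent.Lib.helper4.PshRep
open Groth.Agent.Lib.helper4.PshPB Groth.Agent.Lib.helper4.AlgStQCMor Groth.Agent.Lib.helper4.PointsBasic
open Groth.Agent.Lib.helper4.AlgStDescent Groth.Agent.Lib.helper4.AlgStCoreA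
open Groth.Agent.Lib.helper4.AlgStSource Groth.Agent.Lib.helper4.AlgStGraph
open Groth.Agent.Lib.helper4.SmLocalST Groth.Agent.Lib.helper5.LocPBC
open Groth.Agent.Lib.helper4.AlgStNoethImm Groth.Agent.Lib.helper4.AlgSpNoethMono
open Groth.Agent.Lib.helper4.AlgSpNoethQC Groth.Agent.Lib.helper4.AlgStNoethMono
open Stk AlgSt

variable {S : Scheme.{u}}

section Yoneda

variable {𝒳 : AlgSt.Cat S} (h𝒳 : IsFibGrpd 𝒳.p)
include h𝒳

/-- functors out of a slice with isomorphic values at the identity are isomorphic -/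
theorem exists_iso_of_app_id {U : Over S} {G H : overCat U ⥤ᵇ 𝒳}
    (μ : G.toFunctor.obj (Over.mk (𝟙 U)) ≅ H.toFunctor.obj (Over.mk (𝟙 U)))
    (hμ : 𝒳.p.IsHomLift (𝟙 U) μ.hom) : Nonempty (G ≅ H) := by
  have hall : ∀ G : overCat U ⥤ᵇ 𝒳, FibCat.PreservesStronglyCartesian G := by
    intro G R S f a b φ hφ
    have h0 := hφ.toIsHomLift
    exact Groth.Agent.FibFpProj.isStronglyCartesian_of_isFibGrpd 𝒳.p h𝒳 f (G.toFunctor.map φ)
  have hμ' : 𝒳.p.IsHomLift (𝟙 U) μ.inv := IsHomLift.lift_id_inv _ _ _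
  obtain ⟨α, hα⟩ := exists_of_app_id (hall H) μ.hom
  obtain ⟨β, hβ⟩ := exists_of_app_id (hall G) μ.inv
  refine ⟨⟨α, β, ?_, ?_⟩⟩
  · apply ext_of_app_id (hall G)
    change α.toNatTrans.app _ ≫ β.toNatTrans.app _ = 𝟙 _
    rw [hα, hβ, μ.hom_inv_id]
  · apply ext_of_app_id (hall H)
    change β.toNatTrans.app _ ≫ α.toNatTrans.app _ = 𝟙 _
    rw [hα, hβ, μ.inv_hom_id]

/-- two functors out of a slice which become isomorphic at an object `c : V ⟶ U` are isomorphic after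
restriction to `V` -/
theorem exists_iso_overMap_of_obj_iso {U V : Over S} (x y : overCat U ⥤ᵇ 𝒳) (c : V ⟶ U)
    (μ : x.toFunctor.obj (Over.mk c) ≅ y.toFunctor.obj (Over.mk c)) (hμ : 𝒳.p.IsHomLift (𝟙 V) μ.hom) :
    Nonempty (BasedFunctor.comp (AlgSt.overMap c) x ≅ BasedFunctor.comp (AlgSt.overMap c) y) := by
  have e : (Over.map c).obj (Over.mk (𝟙 V)) = Over.mk c := by
    change Over.mk (𝟙 V ≫ c) = Over.mk c
    rw [Category.id_comp]
  refine exists_iso_of_app_id h𝒳 (U := V) (G := BasedFunctor.comp (AlgSt.overMap c) x)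
    (H := BasedFunctor.comp (AlgSt.overMap c) y)
    (x.toFunctor.mapIso (eqToIso e) ≪≫ μ ≪≫ (y.toFunctor.mapIso (eqToIso e)).symm) ?_
  have h1 : 𝒳.p.IsHomLift (𝟙 V) (x.toFunctor.map (eqToHom e)) := by
    have h0 : (overCat U).p.IsHomLift (𝟙 V) (eqToHom e) := by
      have := hom_isHomLift (U := U) (eqToHom e)
      have h2 : (eqToHom e : (Over.map c).obj (Over.mk (𝟙 V)) ⟶ Over.mk c).left = 𝟙 V := by
        rw [← Over.forget_map, eqToHom_map]; rfl
      rwa [h2] at this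
    infer_instance
  have h2 : 𝒳.p.IsHomLift (𝟙 V) (y.toFunctor.map (eqToHom e.symm)) := by
    have h0 : (overCat U).p.IsHomLift (𝟙 V) (eqToHom e.symm) := by
      have := hom_isHomLift (U := U) (eqToHom e.symm)
      have h2 : (eqToHom e.symm : Over.mk c ⟶ (Over.map c).obj (Over.mk (𝟙 V))).left = 𝟙 V := by
        rw [← Over.forget_map, eqToHom_map]; rfl
      rwa [h2] at this
    infer_instance
  change 𝒳.p.IsHomLift (𝟙 V) (x.toFunctor.map (eqToHom e) ≫ μ.hom ≫ y.toFunctor.map (eqToHom e.symm))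
  have : 𝒳.p.IsHomLift (𝟙 V ≫ 𝟙 V ≫ 𝟙 V) (x.toFunctor.map (eqToHom e) ≫ μ.hom ≫ y.toFunctor.map (eqToHom e.symm)) :=
    inferInstance
  simpa using this

end Yoneda

section Pair

variable {𝒳 : AlgSt.Cat S}

theorem sqHomMk_isHomLift {X Y : (sq 𝒳).obj} {R T : Over S} (f : R ⟶ T)
    (a₁ : (sqFst 𝒳).toFunctor.obj X ⟶ (sqFst 𝒳).toFunctor.obj Y)
    (a₂ : (sqSnd 𝒳).toFunctor.obj X ⟶ (sqSnd 𝒳).toFunctor.obj Y)
    (h₁ : 𝒳.p.IsHomLift f a₁) (h₂ : 𝒳.p.IsHomLift f a₂) :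
    (sq 𝒳).p.IsHomLift f (sqHomMk f a₁ a₂ h₁ h₂) := by
  apply (BasedFunctor.isHomLift_iff (sqFst 𝒳) f _).1
  rw [sqFst_map_sqHomMk]
  exact h₁

variable {𝒲 : AlgSt.Cat S} (v : 𝒲 ⥤ᵇ sq 𝒳)
  (ι : BasedFunctor.comp v (sqFst 𝒳) ≅ BasedFunctor.comp v (sqSnd 𝒳))

/-- the pair of the first component with itself -/
noncomputable abbrev pairSelf : 𝒲 ⥤ᵇ sq 𝒳 :=
  fpLift (F := toSelf 𝒳) (G := toSelf 𝒳) (BasedFunctor.comp v (sqFst 𝒳)) (BasedFunctor.comp v (sqFst 𝒳))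
    (Iso.refl _)

theorem id_isHomLift (t : 𝒲.obj) :
    𝒳.p.IsHomLift (𝟙 (𝒲.p.obj t)) (𝟙 ((BasedFunctor.comp v (sqFst 𝒳)).toFunctor.obj t)) :=
  IsHomLift.id ((BasedFunctor.comp v (sqFst 𝒳)).w_obj t)

theorem inv_isHomLift (t : 𝒲.obj) : 𝒳.p.IsHomLift (𝟙 (𝒲.p.obj t)) (appIso ι t).inv := by
  have := appIso_isHomLift ι t
  exact IsHomLift.lift_id_inv _ _ _

/-- component of `isoPairOfIso` -/
noncomputable def pairIsoApp (t : 𝒲.obj) : v.toFunctor.obj t ≅ (pairSelf v).toFunctor.obj t :=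
  sqIsoMk (X := v.toFunctor.obj t) (Y := (pairSelf v).toFunctor.obj t) (𝒲.p.obj t)
    (Iso.refl _) (appIso ι t).symm (id_isHomLift v t) (inv_isHomLift v ι t)

theorem pairIsoApp_isHomLift (t : 𝒲.obj) : (sq 𝒳).p.IsHomLift (𝟙 (𝒲.p.obj t)) (pairIsoApp v ι t).hom :=
  sqHomMk_isHomLift (X := v.toFunctor.obj t) (Y := (pairSelf v).toFunctor.obj t) (𝟙 (𝒲.p.obj t))
    (Iso.refl _).hom (appIso ι t).symm.hom (id_isHomLift v t) (inv_isHomLift v ι t)

theorem sqFst_map_pairIsoApp (t : 𝒲.obj) :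
    (sqFst 𝒳).toFunctor.map (pairIsoApp v ι t).hom = 𝟙 _ := rfl

theorem sqSnd_map_pairIsoApp (t : 𝒲.obj) :
    (sqSnd 𝒳).toFunctor.map (pairIsoApp v ι t).hom = (appIso ι t).inv := rfl

/-- a functor to `𝒳 ×_S 𝒳` whose two components are isomorphic is isomorphic to the pair of the first
component with itself -/
noncomputable def isoPairOfIso : v ≅ pairSelf v :=
  BasedNatIso.mkNatIso
    (NatIso.ofComponents (fun t => pairIsoApp v ι t)
      (fun {t t'} k => by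
        apply sq_hom_ext
        · rw [CategoryTheory.Functor.map_comp, CategoryTheory.Functor.map_comp, sqFst_map_pairIsoApp,
            sqFst_map_pairIsoApp]
          change (sqFst 𝒳).toFunctor.map (v.toFunctor.map k) ≫ 𝟙 _ = 𝟙 _ ≫ (sqFst 𝒳).toFunctor.map (v.toFunctor.map k)
          rw [Category.comp_id, Category.id_comp]
        · rw [CategoryTheory.Functor.map_comp, CategoryTheory.Functor.map_comp, sqSnd_map_pairIsoApp,
            sqSnd_map_pairIsoApp]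
          change (sqSnd 𝒳).toFunctor.map (v.toFunctor.map k) ≫ (appIso ι t').inv =
            (appIso ι t).inv ≫ (sqFst 𝒳).toFunctor.map (v.toFunctor.map k)
          rw [Iso.comp_inv_eq, Category.assoc, Iso.eq_inv_comp]
          exact (appIso_naturality ι k).symm))
    (fun t => pairIsoApp_isHomLift v ι t)

end Pair

section FieldPt

variable {𝒳 : AlgSt.Cat S} (h𝒳 : IsFibGrpd 𝒳.p)

/-- restriction of an isomorphism of restrictions along a further morphism -/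
theorem iso_overMap_comp {T V V' : Over S} (x y : overCat T ⥤ᵇ 𝒳) (c : V ⟶ T) (k : V' ⟶ V)
    (h : Nonempty (BasedFunctor.comp (AlgSt.overMap c) x ≅ BasedFunctor.comp (AlgSt.overMap c) y)) :
    Nonempty (BasedFunctor.comp (AlgSt.overMap (k ≫ c)) x ≅ BasedFunctor.comp (AlgSt.overMap (k ≫ c)) y) := by
  obtain ⟨i⟩ := h
  exact ⟨whiskerRightIso (overMapCompIso k c).symm x ≪≫ whiskerLeftIso (AlgSt.overMap k) i ≪≫
    whiskerRightIso (overMapCompIso k c) y⟩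

include h𝒳 in
/-- a field valued point of the `Isom` space gives an isomorphism over the field -/
theorem exists_field_iso_of_point {T' : Over S} (v : overCat T' ⥤ᵇ sq 𝒳) (p : FPt (fp v (Δ 𝒳))) :
    ∃ c : Over.mk p.str ⟶ T',
      Nonempty (BasedFunctor.comp (AlgSt.overMap c) (BasedFunctor.comp v (sqFst 𝒳)) ≅
        BasedFunctor.comp (AlgSt.overMap c) (BasedFunctor.comp v (sqSnd 𝒳))) := by
  have hl : p.obj.obj.fst.left = Over.mk p.str := p.lies
  have hμ1 := φ₁_isHomLift v p.obj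
  have hμ2 := φ₂_isHomLift v p.obj
  have hμ2' : 𝒳.p.IsHomLift (𝟙 p.obj.obj.fst.left) (φ₂ v p.obj).inv := IsHomLift.lift_id_inv _ _ _
  have hμ : 𝒳.p.IsHomLift (𝟙 p.obj.obj.fst.left) ((φ₁ v p.obj) ≪≫ (φ₂ v p.obj).symm).hom := by
    change 𝒳.p.IsHomLift (𝟙 p.obj.obj.fst.left) ((φ₁ v p.obj).hom ≫ (φ₂ v p.obj).inv)
    have : 𝒳.p.IsHomLift (𝟙 p.obj.obj.fst.left ≫ 𝟙 p.obj.obj.fst.left) ((φ₁ v p.obj).hom ≫ (φ₂ v p.obj).inv) :=
      inferInstance
    simpa using this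
  have h1 := exists_iso_overMap_of_obj_iso h𝒳 (BasedFunctor.comp v (sqFst 𝒳)) (BasedFunctor.comp v (sqSnd 𝒳))
    p.obj.obj.fst.hom ((φ₁ v p.obj) ≪≫ (φ₂ v p.obj).symm) hμ
  exact ⟨eqToHom hl.symm ≫ p.obj.obj.fst.hom, iso_overMap_comp _ _ p.obj.obj.fst.hom (eqToHom hl.symm) h1⟩

end FieldPt

section Pullback

variable {𝒳 𝒴 : AlgSt.Cat S} (f : 𝒴 ⥤ᵇ 𝒳)

/-- a pullback of the sheaf map of a chart of `f` is equivalent to the 2-fibre product -/
theorem exists_equiv_fp_of_isPullback {W T' : Over S} (z : overCat W ⥤ᵇ 𝒳) (F : AlgSp.Space S)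
    (e : AlgSt.ofSp F.obj ⥤ᵇ fp z f) (he : IsEquivOver e) (k : T' ⟶ W) {P : AlgSp.Sp S} (fst : P ⟶ F.obj)
    (snd : P ⟶ (AlgSp.yon S).obj T')
    (sq : IsPullback fst snd (AlgSt.spMapOfOver (BasedFunctor.comp e (fpFst z f))) ((AlgSp.yon S).map k)) :
    ∃ Ξ : AlgSt.ofSp P ⥤ᵇ fp (BasedFunctor.comp (AlgSt.overMap k) z) f, IsEquivOver Ξ := by
  obtain ⟨YiT, ⟨αT⟩, ⟨βT⟩⟩ := toYon_isEquivOver.{u + 1} T'
  have hYiT : IsEquivOver YiT := isEquivOver_symm αT βT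
  have hA : AlgSt.spMapOfOver (BasedFunctor.comp YiT (AlgSt.overMap k)) = (AlgSp.yon S).map k :=
    spMapOfOver_yonInv_overMap k YiT βT
  have sq' : IsPullback fst snd (AlgSt.spMapOfOver (BasedFunctor.comp e (fpFst z f)))
      (AlgSt.spMapOfOver (BasedFunctor.comp YiT (AlgSt.overMap k))) := by rw [hA]; exact sq
  obtain ⟨Ξ₀, hΞ₀, -, -⟩ := exists_equiv_of_isPullback (T := W) (Z := (AlgSp.yon S).obj T') (X := F.obj) (Z' := P)
    (BasedFunctor.comp YiT (AlgSt.overMap k))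
    (BasedFunctor.comp e (fpFst z f)) fst snd sq'
  let M₁ : fp (BasedFunctor.comp YiT (AlgSt.overMap k)) (BasedFunctor.comp e (fpFst z f)) ⥤ᵇ
      fp (BasedFunctor.comp YiT (AlgSt.overMap k)) (fpFst z f) :=
    fpMap (BasedFunctor.comp YiT (AlgSt.overMap k)) (BasedFunctor.comp YiT (AlgSt.overMap k))
      (BasedFunctor.comp e (fpFst z f)) (fpFst z f) e (BasedFunctor.id _) (Iso.refl _) (Iso.refl _)
  have hM₁ : IsEquivOver M₁ := fpMap_isEquivOver _ _ _ _ _ _ _ _ he (isEquivOver_id' _)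
  have hM₂ := fpPrecomp_isEquivOver YiT (AlgSt.overMap k) (fpFst z f) hYiT
  have hM₃ := pasteL_isEquivOver (AlgSt.overMap k) z f
  have h12 : IsEquivOver (BasedFunctor.comp Ξ₀ M₁) := isEquivOver_comp _ _ hΞ₀ hM₁
  have h34 : IsEquivOver (BasedFunctor.comp (fpPrecomp YiT (AlgSt.overMap k) (fpFst z f))
    (pasteL (AlgSt.overMap k) z f)) := isEquivOver_comp _ _ hM₂ hM₃
  exact ⟨BasedFunctor.comp (BasedFunctor.comp Ξ₀ M₁) (BasedFunctor.comp (fpPrecomp YiT (AlgSt.overMap k) (fpFst z f))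
    (pasteL (AlgSt.overMap k) z f)), isEquivOver_comp _ _ h12 h34⟩

end Pullback

section Aut

variable {𝒳 : AlgSt.Cat S}

/-- the automorphism spaces of objects over affine schemes are quasi-compact -/
def HI (𝒳 : AlgSt.Cat S) : Prop :=
  ∀ (U : Over S), IsAffine U.left → ∀ (x : FibCat.overCat U ⥤ᵇ 𝒳),
    ∃ (F : AlgSp.Space S) (e : AlgSt.ofSp F.obj ⥤ᵇ FibCat.fp (FibCat.fpLift x x (Iso.refl _)) (FibCat.diag (FibCat.toSelf 𝒳))),
      FibCat.IsEquivOver e ∧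
        AlgSp.IsQuasiCompactMor (AlgSt.spMapOfOver (BasedFunctor.comp e (FibCat.fpFst _ _)))

/-- the `Isom` space of two isomorphic objects over an affine scheme is quasi-compact -/
theorem isQuasiCompact_fp_of_iso (hi : HI 𝒳) {T' : Over S} (hT' : IsAffine T'.left) (v : overCat T' ⥤ᵇ sq 𝒳)
    (ι : BasedFunctor.comp v (sqFst 𝒳) ≅ BasedFunctor.comp v (sqSnd 𝒳)) :
    AlgSt.IsQuasiCompact (fp v (Δ 𝒳)) := by
  obtain ⟨F, e, he, hq⟩ := hi T' hT' (BasedFunctor.comp v (sqFst 𝒳))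
  have : IsAffine T'.left := hT'
  have hFq : AlgSp.IsQuasiCompactSp F.obj :=
    hq (AlgSp.IsAlgSpace.yon_obj T') (Groth.Agent.Lib.helper7.AlgSpQC.isQuasiCompactSp_yon T') (𝟙 _) (𝟙 _)
      (AlgSt.spMapOfOver (BasedFunctor.comp e (fpFst _ _)))
      (IsPullback.of_horiz_isIso ⟨by rw [Category.id_comp, Category.comp_id]⟩)
  have h1 : AlgSt.IsQuasiCompact (AlgSt.ofSp F.obj) := isQuasiCompact_ofSp _ hFq
  have h2 : AlgSt.IsQuasiCompact (fp (pairSelf v) (Δ 𝒳)) := isQuasiCompact_of_isEquivOver e he h1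
  let M : fp v (Δ 𝒳) ⥤ᵇ fp (pairSelf v) (Δ 𝒳) :=
    fpMap v (pairSelf v) (Δ 𝒳) (Δ 𝒳) (BasedFunctor.id _) (BasedFunctor.id _) (isoPairOfIso v ι) (Iso.refl _)
  have hM : IsEquivOver M := fpMap_isEquivOver _ _ _ _ _ _ _ _ (isEquivOver_id' _) (isEquivOver_id' _)
  exact isQuasiCompact_of_isEquivOver' M hM h2

end Aut

section Generic

variable {𝒳 : AlgSt.Cat S}

/-- generic isomorphisms of objects over integral affine schemes which are isomorphic at a dense set of points -/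
def HII (𝒳 : AlgSt.Cat S) : Prop :=
  ∀ (U : Over S), IsAffine U.left → IsIntegral U.left → ∀ (x y : FibCat.overCat U ⥤ᵇ 𝒳)
      (D : Set ↥U.left), Dense D →
      (∀ t ∈ D, ∃ (L : Type u) (_ : Field L) (g : Spec (CommRingCat.of L) ⟶ U.left), Set.range g.base = {t} ∧
        Nonempty (BasedFunctor.comp (AlgSt.overMap (Over.homMk g rfl : Over.mk (g ≫ U.hom) ⟶ U)) x ≅
          BasedFunctor.comp (AlgSt.overMap (Over.homMk g rfl : Over.mk (g ≫ U.hom) ⟶ U)) y)) →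
      ∃ V : U.left.Opens, Dense (V : Set ↥U.left) ∧
        Nonempty (BasedFunctor.comp (AlgSt.overMap (Over.homMk V.ι rfl : Over.mk (V.ι ≫ U.hom) ⟶ U)) x ≅
          BasedFunctor.comp (AlgSt.overMap (Over.homMk V.ι rfl : Over.mk (V.ι ≫ U.hom) ⟶ U)) y)

/-- the `Isom` space of two isomorphic objects over an affine scheme has a quasi-compact space of points -/
theorem compactSpace_points_of_iso (hi : HI 𝒳) {W T' : Over S} (hT' : IsAffine T'.left) (z : overCat W ⥤ᵇ sq 𝒳)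
    (F : AlgSp.Space S) (e : AlgSt.ofSp F.obj ⥤ᵇ fp z (Δ 𝒳)) (he : IsEquivOver e) (k : T' ⟶ W)
    (ι : Nonempty (BasedFunctor.comp (BasedFunctor.comp (AlgSt.overMap k) z) (sqFst 𝒳) ≅
      BasedFunctor.comp (BasedFunctor.comp (AlgSt.overMap k) z) (sqSnd 𝒳)))
    {P : AlgSp.Sp S} (fst : P ⟶ F.obj) (snd : P ⟶ (AlgSp.yon S).obj T')
    (sq : IsPullback fst snd (AlgSt.spMapOfOver (BasedFunctor.comp e (fpFst z (Δ 𝒳)))) ((AlgSp.yon S).map k)) :
    CompactSpace (AlgSp.Points P) := by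
  obtain ⟨ι⟩ := ι
  obtain ⟨Ξ, hΞ⟩ := exists_equiv_fp_of_isPullback (Δ 𝒳) z F e he k fst snd sq
  have h1 := isQuasiCompact_fp_of_iso hi hT' (BasedFunctor.comp (AlgSt.overMap k) z) ι
  have h2 : AlgSt.IsQuasiCompact (AlgSt.ofSp P) := isQuasiCompact_of_isEquivOver' Ξ hΞ h1
  have hc : CompactSpace (AlgSt.Points (AlgSt.ofSp P)) :=
    compactSpace_points_of_isQuasiCompact (isFibGrpd_ofPsh _) h2
  exact (ptsEquiv P).surjective.compactSpace (continuous_ptsEquiv P)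

/-- the `Isom` space of two objects which are not isomorphic at any field valued point is empty -/
theorem isEmpty_points_of_not_iso (h𝒳 : IsFibGrpd 𝒳.p) {W T' : Over S} (z : overCat W ⥤ᵇ sq 𝒳)
    (F : AlgSp.Space S) (e : AlgSt.ofSp F.obj ⥤ᵇ fp z (Δ 𝒳)) (he : IsEquivOver e) (k : T' ⟶ W)
    {P : AlgSp.Sp S} (fst : P ⟶ F.obj) (snd : P ⟶ (AlgSp.yon S).obj T')
    (sq : IsPullback fst snd (AlgSt.spMapOfOver (BasedFunctor.comp e (fpFst z (Δ 𝒳)))) ((AlgSp.yon S).map k))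
    (H : ∀ (L : Type u) [Field L] (str : Spec (CommRingCat.of L) ⟶ S) (c : Over.mk str ⟶ T'),
      ¬ Nonempty (BasedFunctor.comp (AlgSt.overMap c)
          (BasedFunctor.comp (BasedFunctor.comp (AlgSt.overMap k) z) (sqFst 𝒳)) ≅
        BasedFunctor.comp (AlgSt.overMap c)
          (BasedFunctor.comp (BasedFunctor.comp (AlgSt.overMap k) z) (sqSnd 𝒳)))) :
    IsEmpty (AlgSp.Points P) := by
  obtain ⟨Ξ, hΞ⟩ := exists_equiv_fp_of_isPullback (Δ 𝒳) z F e he k fst snd sq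
  refine ⟨fun pt => ?_⟩
  obtain ⟨p, -⟩ := Points.mk_surjective ((ptsEquiv P).symm pt)
  obtain ⟨c, hc⟩ := exists_field_iso_of_point h𝒳 (BasedFunctor.comp (AlgSt.overMap k) z) (p.map Ξ)
  exact H p.K p.str c hc

/-- **generic quasi-compactness of the `Isom` spaces** -/
theorem hqc_of_hi_hii (h𝒳 : IsFibGrpd 𝒳.p) (hi : HI 𝒳) (hii : HII 𝒳) {W : Over S} (z : overCat W ⥤ᵇ sq 𝒳)
    (F : AlgSp.Space S) (e : AlgSt.ofSp F.obj ⥤ᵇ fp z (Δ 𝒳)) (he : IsEquivOver e) :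
    HQC (AlgSt.spMapOfOver (BasedFunctor.comp e (fpFst z (Δ 𝒳)))) := by
  intro A _ _ sA g
  let T : Over S := Over.mk sA
  let x : overCat T ⥤ᵇ 𝒳 := BasedFunctor.comp (BasedFunctor.comp (AlgSt.overMap g) z) (sqFst 𝒳)
  let y : overCat T ⥤ᵇ 𝒳 := BasedFunctor.comp (BasedFunctor.comp (AlgSt.overMap g) z) (sqSnd 𝒳)
  let D : Set ↥T.left := {t | ∃ (L : Type u) (_ : Field L) (gL : Spec (CommRingCat.of L) ⟶ T.left),
    Set.range gL.base = {t} ∧
      Nonempty (BasedFunctor.comp (AlgSt.overMap (Over.homMk gL rfl : Over.mk (gL ≫ T.hom) ⟶ T)) x ≅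
        BasedFunctor.comp (AlgSt.overMap (Over.homMk gL rfl : Over.mk (gL ≫ T.hom) ⟶ T)) y)}
  have hAff : IsAffine T.left := inferInstanceAs (IsAffine (Spec (CommRingCat.of A)))
  have hInt : IsIntegral T.left := inferInstanceAs (IsIntegral (Spec (CommRingCat.of A)))
  by_cases hD : Dense D
  · obtain ⟨V, hVd, ⟨ιV⟩⟩ := hii T hAff hInt x y D hD (fun t ht => ht)
    obtain ⟨t₀, ht₀⟩ := hVd.nonempty
    obtain ⟨U, hUaff, ht₀U, hUV⟩ := exists_isAffineOpen_mem_and_subset (x := t₀) (U := V) ht₀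
    refine ⟨U, ⟨t₀, ht₀U⟩, ?_⟩
    intro P fst snd sq
    let rU : Over.mk (U.ι ≫ sA) ⟶ Over.mk sA := Over.homMk U.ι rfl
    let rV : Over.mk (V.ι ≫ sA) ⟶ Over.mk sA := Over.homMk V.ι rfl
    let j : Over.mk (U.ι ≫ sA) ⟶ Over.mk (V.ι ≫ sA) := Over.homMk (T.left.homOfLE hUV) (by
      change T.left.homOfLE hUV ≫ V.ι ≫ sA = U.ι ≫ sA
      rw [Scheme.homOfLE_ι_assoc])
    have hj : j ≫ rV = rU := by
      apply Over.OverMorphism.ext
      change T.left.homOfLE hUV ≫ V.ι = U.ι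
      exact Scheme.homOfLE_ι _ _
    have h0 := iso_overMap_comp x y rV j ⟨ιV⟩
    rw [hj] at h0
    obtain ⟨ι₀⟩ := h0
    have hT' : IsAffine (Over.mk (U.ι ≫ sA)).left := hUaff
    refine compactSpace_points_of_iso hi hT' z F e he (rU ≫ g) ⟨?_⟩ fst snd sq
    exact (whiskerRightIso (overMapCompIso rU g) (BasedFunctor.comp z (sqFst 𝒳))).symm ≪≫ ι₀ ≪≫
      whiskerRightIso (overMapCompIso rU g) (BasedFunctor.comp z (sqSnd 𝒳))
  · have hne : ∃ t₀ : ↥T.left, t₀ ∉ closure D := by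
      by_contra hcon
      push Not at hcon
      exact hD (fun t => hcon t)
    obtain ⟨t₀, ht₀⟩ := hne
    let U : T.left.Opens := ⟨(closure D)ᶜ, isClosed_closure.isOpen_compl⟩
    refine ⟨U, ⟨t₀, ht₀⟩, ?_⟩
    intro P fst snd sq
    let rU : Over.mk (U.ι ≫ sA) ⟶ Over.mk sA := Over.homMk U.ι rfl
    have hE := isEmpty_points_of_not_iso h𝒳 z F e he (rU ≫ g) fst snd sq (by
      intro L _ str c ⟨ic⟩
      let gL : Spec (CommRingCat.of L) ⟶ T.left := c.left ≫ U.ι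
      have hw : c.left ≫ U.ι ≫ sA = str := Over.w c
      let θ : Over.mk (gL ≫ T.hom) ⟶ Over.mk str := Over.homMk (𝟙 _) (by
        change 𝟙 _ ≫ str = (c.left ≫ U.ι) ≫ sA
        rw [Category.id_comp, Category.assoc, hw])
      have hθ : θ ≫ c ≫ rU = (Over.homMk gL rfl : Over.mk (gL ≫ T.hom) ⟶ T) := by
        apply Over.OverMorphism.ext
        change 𝟙 _ ≫ c.left ≫ U.ι = c.left ≫ U.ι
        rw [Category.id_comp]
      have i1 : BasedFunctor.comp (AlgSt.overMap (c ≫ rU)) x ≅ BasedFunctor.comp (AlgSt.overMap (c ≫ rU)) y :=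
        (whiskerRightIso (overMapCompIso c rU) x).symm ≪≫
          whiskerLeftIso (AlgSt.overMap c) (whiskerRightIso (overMapCompIso rU g) (BasedFunctor.comp z (sqFst 𝒳))) ≪≫
          ic ≪≫
          (whiskerLeftIso (AlgSt.overMap c) (whiskerRightIso (overMapCompIso rU g) (BasedFunctor.comp z (sqSnd 𝒳)))).symm ≪≫
          whiskerRightIso (overMapCompIso c rU) y
      have i2 := iso_overMap_comp x y (c ≫ rU) θ ⟨i1⟩
      rw [hθ] at i2
      let pt : ↥(Spec (CommRingCat.of L)) := default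
      have hmem : gL.base pt ∈ D := ⟨L, inferInstance, gL, Set.range_unique, i2⟩
      have hU : gL.base pt ∈ (U : Set ↥T.left) := by
        have : gL.base pt = U.ι.base (c.left.base pt) := rfl
        rw [this]
        exact (c.left.base pt).2
      exact hU (subset_closure hmem))
    exact Finite.compactSpace

end Generic

section Main

variable {𝒳 : AlgSt.Cat S} (h𝒳 : AlgSt.IsAlgStack Scheme.fppfPrecoverage 𝒳)
include h𝒳

/-- the hypothesis "locally of finite presentation over `S`" -/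
def HLfp (𝒳 : AlgSt.Cat S) : Prop :=
  ∀ (U : Over S) (x : FibCat.overCat U ⥤ᵇ 𝒳),
    AlgSt.RepByAlgSpWith (AlgSp.LocP @Smooth) x → LocallyOfFinitePresentation U.hom

omit h𝒳 in
theorem smoothLocally_noeth_of_hLfp [IsLocallyNoetherian S] (hlfp : HLfp 𝒳) :
    AlgSt.SmoothLocally (fun T ↦ IsLocallyNoetherian T) 𝒳 := by
  intro U x hx
  have := hlfp U x hx
  exact LocallyOfFiniteType.isLocallyNoetherian U.hom

/-- the structure functor of a stack locally of finite presentation over `S` is locally of finite type -/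
theorem locQ_lft_toSelf (hlfp : HLfp 𝒳) :
    AlgSt.LocQ (AlgSp.LocP @LocallyOfFiniteType) (toSelf 𝒳) := by
  obtain ⟨V, y, hy, hys⟩ := (isAlgStack_selfOver (S := S)).atlas
  obtain ⟨U, x, h, α, hx, -, -, hxs⟩ := exists_good_square h𝒳 isAlgStack_selfOver (toSelf 𝒳) y hy
  have h1 : LocallyOfFinitePresentation U.hom := hlfp U x hx
  have h2 : LocallyOfFiniteType (h.left ≫ V.hom) := by
    rw [Over.w h]
    infer_instance
  have h3 : LocallyOfFiniteType h.left := locallyOfFiniteType_of_comp h.left V.hom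
  exact ⟨U, V, x, y, h, α, hx, hxs hys, hy, locP_yon_map_of locPData_lft h h3⟩

/-- `𝒳 ×_S 𝒳` is locally Noetherian -/
theorem smoothLocally_noeth_sq [IsLocallyNoetherian S] (hlfp : HLfp 𝒳) :
    AlgSt.SmoothLocally (fun T ↦ IsLocallyNoetherian T) (sq 𝒳) := by
  have h𝒫 : AlgSt.IsAlgStack Scheme.fppfPrecoverage (sq 𝒳) :=
    isAlgStack_fp' h𝒳 h𝒳 isAlgStack_selfOver (toSelf 𝒳) (toSelf 𝒳)
  have h1 : AlgSt.LocQ (AlgSp.LocP @LocallyOfFiniteType) (sqFst 𝒳) :=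
    locQ_fpFst h𝒳 isAlgStack_selfOver h𝒳 (toSelf 𝒳) (toSelf 𝒳) _ isSmoothLocalST_lft
      (fun X₁ Y₁ X₂ Y₂ h1 h2 _ h4 a b a' b' sq ha => locP_of_isPullback locPData_lft h1 h2 h4 sq ha)
      (locQ_lft_toSelf h𝒳 hlfp)
  exact smoothLocally_isLocallyNoetherian h𝒫 h𝒳 (sqFst 𝒳) h1
    (smoothLocally_noeth_of_hLfp hlfp)

/-- **S15358**: the diagonal of a stack locally of finite presentation over a locally Noetherian base, with
quasi-compact automorphism spaces and generic isomorphisms, is quasi-compact -/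
theorem repByAlgSpWith_isQuasiCompactMor_diag [IsLocallyNoetherian S] (hlfp : HLfp 𝒳) (hi : HI 𝒳) (hii : HII 𝒳) :
    AlgSt.RepByAlgSpWith AlgSp.IsQuasiCompactMor (Δ 𝒳) := by
  have h𝒫 : AlgSt.IsAlgStack Scheme.fppfPrecoverage (sq 𝒳) :=
    isAlgStack_fp' h𝒳 h𝒳 isAlgStack_selfOver (toSelf 𝒳) (toSelf 𝒳)
  have hN := smoothLocally_noeth_sq h𝒳 hlfp
  refine repByAlgSpWith_of_isQuasiCompactMor (Δ 𝒳) h𝒳.diag ?_
  obtain ⟨W, z, hz, hzs⟩ := h𝒫.atlas
  have hW : IsLocallyNoetherian W.left := hN W z hz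
  have hWa : AlgSt.IsAlgStack Scheme.fppfPrecoverage (overCat W) := isAlgStack_overCat W
  have hWf : IsFibGrpd (overCat W).p := Groth.Agent.FibOver.isFibGrpd_overCat W
  have hz₁ : AlgSt.LocQ (AlgSp.LocP @Flat) z :=
    locQ_locP_of_repByAlgSpWith hWa h𝒫 z locPData_flat
      (Groth.Agent.Lib.helper4.AlgStCancel.repByAlgSpWith_mono z
        (fun F T π hπ => locP_mono smooth_le_flat hπ) hz)
  have hz₂ : AlgSt.LocQ (AlgSp.LocP @LocallyOfFinitePresentation) z :=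
    locQ_locP_of_repByAlgSpWith hWa h𝒫 z locPData_lfp
      (Groth.Agent.Lib.helper4.AlgStCancel.repByAlgSpWith_mono z
        (fun F T π hπ => locP_mono smooth_le_lfp hπ) hz)
  have hz₃ : AlgSt.IsSurjective z := isSurjective_of_repByAlgSpWith h𝒫.isStack.1 z hzs
  apply isQuasiCompactMor_of_fpFst_fppf h𝒳 h𝒫 hWa (Δ 𝒳) z hz₁ hz₂ hz₃
  have hfp : IsFibGrpd (fp z (Δ 𝒳)).p := isFibGrpd_fp _ _ hWf h𝒳.isStack.1 h𝒫.isStack.1
  apply isQuasiCompactMor_of_repByAlgSpWith hfp hWf (fpFst z (Δ 𝒳))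
  obtain ⟨F, e, he⟩ := h𝒳.diag W z
  have hq : AlgSp.IsQuasiCompactMor (AlgSt.spMapOfOver (BasedFunctor.comp e (fpFst z (Δ 𝒳)))) :=
    isQuasiCompactMor_of_hqc F.property W _ (hqc_of_hi_hii h𝒳.isStack.1 hi hii z F e he)
  exact repByAlgSpWith_of_spMapOfOver AlgSp.IsQuasiCompactMor
    (fun X₁ Y₁ X₂ Y₂ _ _ _ _ a b a' b' sq ha => Groth.Agent.Lib.helper5.isQuasiCompactMor_of_isPullback sq ha)
    (fpFst z (Δ 𝒳)) F e he hq

end Main

end Groth.Agent.Lib.helper4.AlgStNoethDiag
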