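import Mathlib
import Groth.Agent.Lib.Helper4.AlgSpRetract
import Groth.Agent.Lib.Helper4.AlgStLocQ9

/-!
# Retracts of categories representable by algebraic spaces (helper4)

If `𝒜` is a retract of `ℬ` over `(Sch/T)`, both are representable by algebraic spaces and the space of `ℬ` is flat
(resp. locally of finite presentation) over `T`, then so is the space of `𝒜`.
-/

set_option backward.isDefEq.respectTransparency false
set_option backward.isDefEq.respectTransparency.types false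
set_option autoImplicit false
set_option linter.style.haveILetI false
set_option linter.unusedSectionVars false
set_option linter.unusedVariables false
set_option linter.unusedSimpArgs false

universe u

open CategoryTheory CategoryTheory.Limits AlgebraicGeometry
open AlgSt Opposite

namespace Groth.Agent.Lib.helper4.AlgStRetract

open Groth.Agent.FibEquiv FibCat Groth.Agent.Lib.helper4.FibPaste Groth.Agent.Lib.helper4.AlgStEquiv
open Groth.Agent.Lib.helper4.AlgStLocQ Groth.Agent.Lib.helper4.PshRep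
open Groth.Agent.Lib.helper4.PshDict Groth.Agent.Lib.helper4.AlgStRep
open Groth.Agent.Lib.helper4.AlgSpRetract Groth.Agent.Lib.helper5.LocPBC

variable {S : Scheme.{u}}

theorem rep_retract {P₀ : MorphismProperty Scheme.{u}} (hP : LocPData P₀) (hR : SchRetractProp P₀)
    {𝒜 ℬ : AlgSt.Cat S} {T : Over S} (qA : 𝒜 ⥤ᵇ overCat T) (qB : ℬ ⥤ᵇ overCat T)
    (I : 𝒜 ⥤ᵇ ℬ) (R : ℬ ⥤ᵇ 𝒜) (hIR : BasedFunctor.comp I R ≅ BasedFunctor.id 𝒜)
    (hRq : BasedFunctor.comp R qA ≅ qB)
    (FA : AlgSp.Space S) (eA : AlgSt.ofSp FA.obj ⥤ᵇ 𝒜) (heA : IsEquivOver eA)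
    (FB : AlgSp.Space S) (eB : AlgSt.ofSp FB.obj ⥤ᵇ ℬ) (heB : IsEquivOver eB)
    (h : AlgSp.LocP P₀ (AlgSt.spMapOfOver (BasedFunctor.comp eB qB))) :
    AlgSp.LocP P₀ (AlgSt.spMapOfOver (BasedFunctor.comp eA qA)) := by
  obtain ⟨eAi, ⟨αA⟩, ⟨βA⟩⟩ := heA
  obtain ⟨eBi, ⟨αB⟩, ⟨βB⟩⟩ := heB
  let Φi : AlgSt.ofSp FA.obj ⥤ᵇ AlgSt.ofSp FB.obj :=
    BasedFunctor.comp (BasedFunctor.comp eA I) eBi
  let Φr : AlgSt.ofSp FB.obj ⥤ᵇ AlgSt.ofSp FA.obj :=
    BasedFunctor.comp (BasedFunctor.comp eB R) eAi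
  let i : FA.obj ⟶ FB.obj := ObjectProperty.homMk (pshMapOf Φi)
  let r : FB.obj ⟶ FA.obj := ObjectProperty.homMk (pshMapOf Φr)
  have hir : i ≫ r = 𝟙 FA.obj := by
    apply ObjectProperty.hom_ext
    change pshMapOf Φi ≫ pshMapOf Φr = 𝟙 _
    rw [← pshMapOf_comp (P := FA.obj.obj) (Q := FB.obj.obj) (R := FA.obj.obj) Φi Φr]
    have j1 : BasedFunctor.comp Φi Φr ≅
        BasedFunctor.comp (BasedFunctor.comp eA I) (BasedFunctor.comp (BasedFunctor.id ℬ)
          (BasedFunctor.comp R eAi)) :=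
      whiskerLeftIso (BasedFunctor.comp eA I) (whiskerRightIso βB (BasedFunctor.comp R eAi))
    have j2 : BasedFunctor.comp eA (BasedFunctor.comp (BasedFunctor.comp I R) eAi) ≅
        BasedFunctor.comp eA (BasedFunctor.comp (BasedFunctor.id 𝒜) eAi) :=
      whiskerLeftIso eA (whiskerRightIso hIR eAi)
    have j : BasedFunctor.comp Φi Φr ≅ BasedFunctor.id (AlgSt.ofSp FA.obj) :=
      j1 ≪≫ (Iso.refl _ : BasedFunctor.comp (BasedFunctor.comp eA I) (BasedFunctor.comp (BasedFunctor.id ℬ)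
          (BasedFunctor.comp R eAi)) ≅
          BasedFunctor.comp eA (BasedFunctor.comp (BasedFunctor.comp I R) eAi)) ≪≫ j2 ≪≫
        (Iso.refl _ : BasedFunctor.comp eA (BasedFunctor.comp (BasedFunctor.id 𝒜) eAi) ≅
          BasedFunctor.comp eA eAi) ≪≫ αA
    rw [pshMapOf_congr j]
    exact pshMapOf_id
  have hrq : r ≫ AlgSt.spMapOfOver (BasedFunctor.comp eA qA) =
      AlgSt.spMapOfOver (BasedFunctor.comp eB qB) := by
    rw [← spMapOfOver_comp_pshMapOf Φr (BasedFunctor.comp eA qA)]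
    apply spMapOfOver_congr
    have k1 : BasedFunctor.comp Φr (BasedFunctor.comp eA qA) ≅
        BasedFunctor.comp (BasedFunctor.comp eB R) (BasedFunctor.comp (BasedFunctor.id 𝒜) qA) :=
      whiskerLeftIso (BasedFunctor.comp eB R) (whiskerRightIso βA qA)
    exact k1 ≪≫ (Iso.refl _ : BasedFunctor.comp (BasedFunctor.comp eB R)
        (BasedFunctor.comp (BasedFunctor.id 𝒜) qA) ≅ BasedFunctor.comp eB (BasedFunctor.comp R qA)) ≪≫
      whiskerLeftIso eB hRq
  refine locP_of_retract hP hR FA.property FB.property i r hir _ ?_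
  rw [hrq]
  exact h

end Groth.Agent.Lib.helper4.AlgStRetract
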