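import Mathlib
import Groth.Agent.Lib.Helper4.AlgStRetract

/-!
# Cancelling a section (helper4)

If `s : 𝒯 ⟶ 𝒵` has a retraction `π` (`s ≫ π ≅ 𝟙`) and `g ≫ s` is flat (resp. locally of finite
presentation) for a representable `g : 𝒲 ⟶ 𝒯`, then `g` is flat (resp. locally of finite presentation).
-/

set_option backward.isDefEq.respectTransparency false
set_option backward.isDefEq.respectTransparency.types false
set_option autoImplicit false
set_option linter.style.haveILetI false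
set_option linter.unusedSectionVars false
set_option linter.unusedVariables false
set_option linter.unusedSimpArgs false

universe u

open CategoryTheory CategoryTheory.Limits AlgebraicGeometry
open AlgSt Opposite

namespace Groth.Agent.Lib.helper4.AlgStSectionR

open Groth.Agent.FibEquiv FibCat Groth.Agent.Lib.helper4.FibPaste Groth.Agent.Lib.helper4.AlgStEquiv
open Groth.Agent.Lib.helper4.AlgStLocQ Groth.Agent.Lib.helper4.PshRep
open Groth.Agent.Lib.helper4.PshDict Groth.Agent.Lib.helper4.AlgStRep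
open Groth.Agent.Lib.helper4.AlgSpRetract Groth.Agent.Lib.helper5.LocPBC
open Groth.Agent.Lib.helper4.AlgStRetract

variable {S : Scheme.{u}}

section Functors

variable {𝒰 𝒲 𝒯 𝒵 : AlgSt.Cat S} (π : 𝒵 ⥤ᵇ 𝒯) (s : 𝒯 ⥤ᵇ 𝒵)
  (e : BasedFunctor.comp s π ≅ BasedFunctor.id 𝒯) (y : 𝒰 ⥤ᵇ 𝒯) (g : 𝒲 ⥤ᵇ 𝒯)

/-- apply `s` to the isomorphism -/
def secIIso : BasedFunctor.comp (fpFst y g) (BasedFunctor.comp y s) ≅
    BasedFunctor.comp (fpSnd y g) (BasedFunctor.comp g s) :=
  whiskerRightIso (fpIso y g) s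

/-- `𝒰 ×_𝒯 𝒲 ⟶ 𝒰 ×_𝒵 𝒲` -/
def secI : fp y g ⥤ᵇ fp (BasedFunctor.comp y s) (BasedFunctor.comp g s) :=
  fpLift (fpFst y g) (fpSnd y g) (secIIso s y g)

/-- apply `π` to the isomorphism and use `e` -/
def secRIso : BasedFunctor.comp (fpFst (BasedFunctor.comp y s) (BasedFunctor.comp g s)) y ≅
    BasedFunctor.comp (fpSnd (BasedFunctor.comp y s) (BasedFunctor.comp g s)) g :=
  whiskerLeftIso (BasedFunctor.comp (fpFst (BasedFunctor.comp y s) (BasedFunctor.comp g s)) y) e.symm ≪≫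
    whiskerRightIso (fpIso (BasedFunctor.comp y s) (BasedFunctor.comp g s)) π ≪≫
    whiskerLeftIso (BasedFunctor.comp (fpSnd (BasedFunctor.comp y s) (BasedFunctor.comp g s)) g) e

/-- `𝒰 ×_𝒵 𝒲 ⟶ 𝒰 ×_𝒯 𝒲` -/
def secR : fp (BasedFunctor.comp y s) (BasedFunctor.comp g s) ⥤ᵇ fp y g :=
  fpLift (fpFst (BasedFunctor.comp y s) (BasedFunctor.comp g s))
    (fpSnd (BasedFunctor.comp y s) (BasedFunctor.comp g s)) (secRIso π s e y g)

theorem secIR_obj_iso (t : (fp y g).obj) :
    ((secR π s e y g).toFunctor.obj ((secI s y g).toFunctor.obj t)).obj.iso.hom = t.obj.iso.hom := by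
  change (appIso e.symm (y.toFunctor.obj t.obj.fst)).hom ≫
    π.toFunctor.map (s.toFunctor.map t.obj.iso.hom) ≫ (appIso e (g.toFunctor.obj t.obj.snd)).hom = _
  have h1 := appIso_naturality e t.obj.iso.hom
  change π.toFunctor.map (s.toFunctor.map t.obj.iso.hom) ≫ (appIso e (g.toFunctor.obj t.obj.snd)).hom =
    (appIso e (y.toFunctor.obj t.obj.fst)).hom ≫ t.obj.iso.hom at h1
  rw [h1, ← Category.assoc]
  have h2 : (appIso e.symm (y.toFunctor.obj t.obj.fst)).hom ≫ (appIso e (y.toFunctor.obj t.obj.fst)).hom =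
      𝟙 _ := by
    change (appIso e (y.toFunctor.obj t.obj.fst)).inv ≫ (appIso e (y.toFunctor.obj t.obj.fst)).hom = 𝟙 _
    exact Iso.inv_hom_id _
  rw [h2, Category.id_comp]

/-- `secI ≫ secR ≅ 𝟙` -/
def secIRIso : BasedFunctor.comp (secI s y g) (secR π s e y g) ≅ BasedFunctor.id (fp y g) :=
  BasedNatIso.mkNatIso
    (NatIso.ofComponents
      (fun t => ObjectProperty.isoMk _ (CategoricalPullback.mkIso (Iso.refl _) (Iso.refl _) (by
        have := secIR_obj_iso π s e y g t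
        change y.toFunctor.map (𝟙 t.obj.fst) ≫ t.obj.iso.hom =
          ((secR π s e y g).toFunctor.obj ((secI s y g).toFunctor.obj t)).obj.iso.hom ≫
            g.toFunctor.map (𝟙 t.obj.snd)
        rw [this]
        have h1 : y.toFunctor.map (𝟙 t.obj.fst) = 𝟙 _ := y.toFunctor.map_id _
        have h2 : g.toFunctor.map (𝟙 t.obj.snd) = 𝟙 _ := g.toFunctor.map_id _
        rw [h1, h2, Category.id_comp]
        exact (Category.comp_id _).symm)))
      (fun {t t'} m => by
        apply ObjectProperty.hom_ext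
        apply CategoricalPullback.hom_ext
        · change m.hom.fst ≫ 𝟙 _ = 𝟙 _ ≫ m.hom.fst
          simp
        · change m.hom.snd ≫ 𝟙 _ = 𝟙 _ ≫ m.hom.snd
          simp))
    (fun t => by
      apply fp_lift_to
      change 𝒰.p.IsHomLift (𝟙 (𝒰.p.obj t.obj.fst)) (𝟙 t.obj.fst)
      infer_instance)

end Functors

/-- **Cancelling a section**: if `g ≫ s` is representable with `LocP P₀` and `s` has a retraction, then the
representable `g` has `LocP P₀` (for `P₀` flat or locally of finite presentation). -/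
theorem repByAlgSpWith_of_comp_section {P₀ : MorphismProperty Scheme.{u}} (hP : LocPData P₀)
    (hR : SchRetractProp P₀) {𝒲 𝒯 𝒵 : AlgSt.Cat S} (π : 𝒵 ⥤ᵇ 𝒯) (s : 𝒯 ⥤ᵇ 𝒵)
    (e : BasedFunctor.comp s π ≅ BasedFunctor.id 𝒯) (g : 𝒲 ⥤ᵇ 𝒯) (hg : AlgSt.RepByAlgSp1 g)
    (h : AlgSt.RepByAlgSpWith (AlgSp.LocP P₀) (BasedFunctor.comp g s)) :
    AlgSt.RepByAlgSpWith (AlgSp.LocP P₀) g := by
  intro T y
  obtain ⟨FA, eA, heA⟩ := hg T y
  obtain ⟨FB, eB, heB, hPB⟩ := h T (BasedFunctor.comp y s)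
  refine ⟨FA, eA, heA, ?_⟩
  exact rep_retract hP hR (fpFst y g) (fpFst (BasedFunctor.comp y s) (BasedFunctor.comp g s))
    (secI s y g) (secR π s e y g) (secIRIso π s e y g) (Iso.refl _) FA eA heA FB eB heB hPB

end Groth.Agent.Lib.helper4.AlgStSectionR
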