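import Groth.Agent.Lib.Helper4.AlgStPts3
set_option autoImplicit false
set_option backward.isDefEq.respectTransparency false
set_option backward.isDefEq.respectTransparency.types false
set_option linter.unusedSectionVars false
set_option linter.style.haveILetI false
set_option linter.unusedVariables false
open CategoryTheory CategoryTheory.Functor CategoryTheory.Limits Opposite AlgebraicGeometry
universe u

/-! Surjectivity on points versus surjectivity of base changes. -/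

namespace Groth.Agent.Lib.helper4.AlgStPts
open Groth.Agent.FibEquiv Groth.Agent.FibYoneda Groth.Agent.FibFpProj Stk FibCat
open Groth.Agent.Lib.helper4.Descent Groth.Agent.Lib.helper4.PshDict Groth.Agent.Lib.helper4.FibPaste
open Groth.Agent.Lib.helper4.AlgStEquiv Groth.Agent.Lib.helper4.PshRep Groth.Agent.Lib.helper4.PshPB
open Groth.Agent.Lib.helper4.FibSwap Groth.Agent.Lib.helper4.AlgStSetoid Groth.Agent.Lib.helper4.AlgStCoreA
open Groth.Agent.Lib.helper4.AlgStDescent Groth.Agent.Lib.helper4.AlgStSource Groth.Agent.Lib.helper4.AlgStDM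
open Groth.Agent.Lib.helper4.AlgStSmLoc Groth.Agent.Lib.helper4.PointsBasic Groth.Agent.Lib.helper4.AlgStRep
open AlgSt

variable {S : Scheme.{u}} {𝒳 𝒴 : AlgSt.Cat S}

/-- the first projection of a point of `(Sch/T) ×_𝒴 𝒳` presented by an algebraic space -/
theorem slicePt_fpFst {T : Over S} (y : overCat T ⥤ᵇ 𝒴) (f : 𝒳 ⥤ᵇ 𝒴) {F : AlgSp.Sp S}
    (e : AlgSt.ofSp F ⥤ᵇ fp y f) (w₁ : Points (AlgSt.ofSp F)) :
    slicePt T (Points.map (fpFst y f) (Points.map e w₁)) =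
      AlgSp.Points.toScheme T
        (AlgSp.Points.map (AlgSt.spMapOfOver (BasedFunctor.comp e (fpFst y f))) (ptsEquiv F w₁)) := by
  rw [← map_comp, slicePt_map]

theorem isSurjective_of_repByAlgSpWith (h𝒴 : IsFibGrpd 𝒴.p) (f : 𝒳 ⥤ᵇ 𝒴)
    (h : AlgSt.RepByAlgSpWith AlgSp.IsSurjectiveMor f) : AlgSt.IsSurjective f := by
  intro z
  obtain ⟨p, rfl⟩ := Points.mk_surjective z
  obtain ⟨T, y, t, ht⟩ := exists_ofChart_eq_mk h𝒴 p
  obtain ⟨F, e, he, hs⟩ := h T y
  obtain ⟨q, hq⟩ := hs (AlgSp.Points.ofScheme T t)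
  let w₁ : Points (AlgSt.ofSp F.obj) := (ptsEquiv F.obj).symm q
  let w : Points (fp y f) := Points.map e w₁
  have h1 : Points.map (fpFst y f) w = Points.ofChart (BasedFunctor.id (overCat T)) t := by
    rw [← slicePt_symm_apply, Equiv.eq_symm_apply, slicePt_fpFst, Equiv.apply_symm_apply, hq,
      AlgSp.Points.toScheme_ofScheme]
  refine ⟨Points.map (fpSnd y f) w, ?_⟩
  rw [← ht, ← map_comp, ← map_congr_iso (fpIso y f), map_comp, h1]
  rfl

theorem repByAlgSpWith_of_isSurjective (h𝒳 : IsFibGrpd 𝒳.p) (h𝒴 : IsFibGrpd 𝒴.p) (f : 𝒳 ⥤ᵇ 𝒴)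
    (hf : AlgSt.RepByAlgSp1 f) (h : AlgSt.IsSurjective f) : AlgSt.RepByAlgSpWith AlgSp.IsSurjectiveMor f := by
  intro T y
  obtain ⟨F, e, he⟩ := hf T y
  refine ⟨F, e, he, ?_⟩
  intro z'
  obtain ⟨ξ, hξ⟩ := h (Points.ofChart y (AlgSp.Points.toScheme T z'))
  have hT : IsFibGrpd (overCat T).p := Groth.Agent.FibOver.isFibGrpd_overCat T
  have h1 : Points.map y (Points.ofChart (BasedFunctor.id (overCat T)) (AlgSp.Points.toScheme T z')) =
      Points.map f ξ := hξ.symm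
  obtain ⟨w, hw1, -⟩ := exists_points_fp h𝒳 h𝒴 hT f y _ ξ h1
  obtain ⟨w₁, rfl⟩ := (map_bijective_of_isEquivOver e he).2 w
  refine ⟨ptsEquiv F.obj w₁, ?_⟩
  have h2 := congrArg (slicePt T) hw1
  rw [slicePt_fpFst, slicePt_ofChart_id] at h2
  have h3 := congrArg (AlgSp.Points.ofScheme T) h2
  rwa [AlgSp.Points.ofScheme_toScheme, AlgSp.Points.ofScheme_toScheme] at h3

/-- S12819 for categories fibred in groupoids -/
theorem isSurjective_iff (h𝒳 : IsFibGrpd 𝒳.p) (h𝒴 : IsFibGrpd 𝒴.p) (f : 𝒳 ⥤ᵇ 𝒴) (hf : AlgSt.RepByAlgSp1 f) :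
    AlgSt.IsSurjective f ↔ AlgSt.RepByAlgSpWith AlgSp.IsSurjectiveMor f :=
  ⟨repByAlgSpWith_of_isSurjective h𝒳 h𝒴 f hf, isSurjective_of_repByAlgSpWith h𝒴 f⟩

end Groth.Agent.Lib.helper4.AlgStPts
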