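import Groth.Agent.Lib.Helper4.AlgStSource
import Groth.Agent.Lib.Helper4.AlgStPts4
import Groth.Agent.S10548
import Groth.Agent.S10549
set_option autoImplicit false
set_option backward.isDefEq.respectTransparency false
set_option backward.isDefEq.respectTransparency.types false
set_option linter.unusedSectionVars false
set_option linter.style.haveILetI false
set_option linter.unusedVariables false
open CategoryTheory CategoryTheory.Functor CategoryTheory.Limits Opposite AlgebraicGeometry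
universe u

/-! Family version of descent along a covering of the source: a jointly surjective family of flat, locally finitely
presented morphisms representable by algebraic spaces detects properties fppf local on the source. -/

namespace Groth.Agent.Lib.helper4.AlgStSourceFam
open Groth.Agent.FibEquiv Groth.Agent.FibYoneda Groth.Agent.FibFpProj Stk FibCat
open Groth.Agent.Lib.helper4.Descent Groth.Agent.Lib.helper4.PshDict Groth.Agent.Lib.helper4.FibPaste
open Groth.Agent.Lib.helper4.AlgStEquiv Groth.Agent.Lib.helper4.PshRep Groth.Agent.Lib.helper4.PshPB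
open Groth.Agent.Lib.helper4.FibSwap Groth.Agent.Lib.helper4.AlgStSetoid Groth.Agent.Lib.helper4.AlgStCoreA
open Groth.Agent.Lib.helper4.AlgStDescent Groth.Agent.Lib.helper4.AlgStSource Groth.Agent.Lib.helper4.AlgStDM
open Groth.Agent.Lib.helper4.AlgStSmLoc Groth.Agent.Lib.helper4.PointsBasic Groth.Agent.Lib.helper4.AlgStRep
open Groth.Agent.Lib.helper4.AlgStPts
open AlgSt

variable {S : Scheme.{u}}

/-- the flat and locally finitely presented morphisms of algebraic spaces -/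
abbrev Fppf : MorphismProperty (AlgSp.Sp S) :=
  fun _ _ f => AlgSp.LocP @Flat f ∧ AlgSp.LocP @LocallyOfFinitePresentation f

theorem isoInv_fppf : IsoInv (Fppf (S := S)) := isoInv_and (isoInv_locP _) (isoInv_locP _)

theorem isLocalOnBase_fppf : AlgSp.IsLocalOnBase (AlgSp.IsFppfCover (S := S)) (Fppf (S := S)) :=
  isLocalOnBase_and (isLocalOnBase_fppf_of_fpqc (Groth.Agent.S10530.result S))
    (isLocalOnBase_fppf_of_fpqc (Groth.Agent.S10527.result S))

/-- flatness is fppf local on the source -/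
theorem isLocalOnSource_fppf_flat : AlgSp.IsLocalOnSource (AlgSp.IsFppfCover (S := S)) (AlgSp.LocP @Flat) := by
  intro ι X Xi g hX hXi hcov Y f hY
  exact Groth.Agent.S10548.result S Xi g hX hXi
    (Groth.Agent.S10505.result ⟨X, hX⟩ (fun i => ⟨Xi i, hXi i⟩) (fun i => ObjectProperty.homMk (g i)) hcov) f hY

theorem isLocalOnSource_and {τ : AlgSp.CovNotion S} {Q₁ Q₂ : MorphismProperty (AlgSp.Sp S)}
    (h₁ : AlgSp.IsLocalOnSource τ Q₁) (h₂ : AlgSp.IsLocalOnSource τ Q₂) :
    AlgSp.IsLocalOnSource τ (fun _ _ f => Q₁ f ∧ Q₂ f) := by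
  intro ι X Xi g hX hXi hcov Y f hY
  have e₁ := h₁ Xi g hX hXi hcov f hY
  have e₂ := h₂ Xi g hX hXi hcov f hY
  change (Q₁ f ∧ Q₂ f) ↔ ∀ i, (Q₁ (g i ≫ f) ∧ Q₂ (g i ≫ f))
  rw [e₁, e₂]
  exact ⟨fun h i => ⟨h.1 i, h.2 i⟩, fun h => ⟨fun i => (h i).1, fun i => (h i).2⟩⟩

theorem isLocalOnSource_fppf : AlgSp.IsLocalOnSource (AlgSp.IsFppfCover (S := S)) (Fppf (S := S)) :=
  isLocalOnSource_and isLocalOnSource_fppf_flat (Groth.Agent.S10549.result S)

/-- naturality of `|ofSp F| ≃ |F|` for arbitrary functors over the base -/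
theorem ptsEquiv_map' {F G : AlgSp.Sp S} (Φ : AlgSt.ofSp F ⥤ᵇ AlgSt.ofSp G) (z : Points (AlgSt.ofSp F)) :
    ptsEquiv G (Points.map Φ z) =
      AlgSp.Points.map (ObjectProperty.homMk (pshMapOf Φ) : F ⟶ G) (ptsEquiv F z) := by
  rw [map_congr_iso (isoOfPshMap Φ), ← ptsEquiv_map]
  rfl

/-- **Descent along a covering family of the source**: if the `x i` are flat and locally finitely presented
(representable by algebraic spaces) and jointly surjective on points, `P` is fppf local on the source and every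
`y ∘ x i` has `P`, then `y` has `P` -/
theorem of_comp_cover_fam {ι : Type u} {𝒳 : ι → AlgSt.Cat S} {𝒴 𝒵 : AlgSt.Cat S}
    (h𝒳 : ∀ i, IsFibGrpd (𝒳 i).p) (h𝒴 : IsFibGrpd 𝒴.p)
    (P : MorphismProperty (AlgSp.Sp S)) (hPiso : IsoInv P)
    (hP' : AlgSp.IsLocalOnSource AlgSp.IsFppfCover P)
    (x : ∀ i, 𝒳 i ⥤ᵇ 𝒴) (y : 𝒴 ⥤ᵇ 𝒵) (hy : AlgSt.RepByAlgSp1 y)
    (hx : ∀ i, AlgSt.RepByAlgSpWith (Fppf (S := S)) (x i))
    (hsurj : ∀ p : AlgSt.Points 𝒴, ∃ i, p ∈ Set.range (AlgSt.Points.map (x i)))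
    (h : ∀ i, AlgSt.RepByAlgSpWith P (BasedFunctor.comp (x i) y)) : AlgSt.RepByAlgSpWith P y := by
  intro U z
  obtain ⟨Y', eY, heY⟩ := hy U z
  refine ⟨Y', eY, heY, ?_⟩
  have hcore := fun i => coreA (h𝒳 i) h𝒴 (Fppf (S := S)) isoInv_fppf isLocalOnBase_fppf (x i) (hx i) Y'
    (BasedFunctor.comp eY (fpSnd z y))
  choose H eH heH hQs using hcore
  have hY'G : IsFibGrpd (AlgSt.ofSp Y'.obj).p := isFibGrpd_ofPsh _
  have hcov : AlgSp.IsFppfCover (fun i => (H i).obj) (fun i => (ObjectProperty.homMk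
      (pshMapOf (BasedFunctor.comp (eH i) (fpFst (BasedFunctor.comp eY (fpSnd z y)) (x i)))) :
        (H i).obj ⟶ Y'.obj)) := by
    refine ⟨hQs, ?_⟩
    intro q
    obtain ⟨i, ξ, hξ⟩ := hsurj (Points.map (BasedFunctor.comp eY (fpSnd z y)) ((ptsEquiv Y'.obj).symm q))
    refine ⟨i, ?_⟩
    obtain ⟨w, hw1, -⟩ := exists_points_fp (h𝒳 i) h𝒴 hY'G (x i) (BasedFunctor.comp eY (fpSnd z y)) _ ξ hξ.symm
    obtain ⟨w₁, rfl⟩ := (map_bijective_of_isEquivOver (eH i) (heH i)).2 w
    refine ⟨ptsEquiv (H i).obj w₁, ?_⟩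
    rw [← ptsEquiv_map', map_comp, hw1, Equiv.apply_symm_apply]
  refine (hP' (fun i => (H i).obj) (fun i => ObjectProperty.homMk
      (pshMapOf (BasedFunctor.comp (eH i) (fpFst (BasedFunctor.comp eY (fpSnd z y)) (x i))))) Y'.property
    (fun i => (H i).property) hcov (AlgSt.spMapOfOver (BasedFunctor.comp eY (fpFst z y)))
    (AlgSp.IsAlgSpace.yon_obj U)).2 (fun i => ?_)
  have he' : IsEquivOver (BasedFunctor.comp (eH i)
      (BasedFunctor.comp (fpPrecomp eY (fpSnd z y) (x i)) (pasteR z y (x i)))) :=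
    isEquivOver_comp _ _ (heH i) (isEquivOver_comp _ _ (fpPrecomp_isEquivOver _ _ _ heY) (pasteR_isEquivOver z y (x i)))
  have key : AlgSt.spMapOfOver (BasedFunctor.comp (BasedFunctor.comp (eH i)
        (BasedFunctor.comp (fpPrecomp eY (fpSnd z y) (x i)) (pasteR z y (x i))))
          (fpFst z (BasedFunctor.comp (x i) y))) =
      (ObjectProperty.homMk (pshMapOf (BasedFunctor.comp (eH i) (fpFst (BasedFunctor.comp eY (fpSnd z y)) (x i)))) :
        (H i).obj ⟶ Y'.obj) ≫ AlgSt.spMapOfOver (BasedFunctor.comp eY (fpFst z y)) := by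
    apply ObjectProperty.hom_ext
    rw [spMapOfOver_hom]
    change _ = pshMapOf (BasedFunctor.comp (eH i) (fpFst (BasedFunctor.comp eY (fpSnd z y)) (x i))) ≫
      (AlgSt.spMapOfOver (BasedFunctor.comp eY (fpFst z y))).hom
    rw [spMapOfOver_hom]
    refine Eq.trans ?_ (pshMapOf_comp (P := (H i).obj.obj) (Q := Y'.obj.obj)
      (BasedFunctor.comp (eH i) (fpFst (BasedFunctor.comp eY (fpSnd z y)) (x i)))
      (BasedFunctor.comp (BasedFunctor.comp eY (fpFst z y)) (toYon.{u + 1} U)))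
    rfl
  rw [← key]
  obtain ⟨F, e'', he'', hP''⟩ := h i U z
  obtain ⟨j, hj⟩ := change_rep (fpFst z (BasedFunctor.comp (x i) y)) _ e'' he' he''
  rw [hj]
  apply hPiso j.symm _ F.property (H i).property
  rw [Iso.symm_hom, Iso.inv_hom_id_assoc]
  exact hP''

end Groth.Agent.Lib.helper4.AlgStSourceFam
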