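import Groth.Agent.Lib.Helper4.GerbBasic
import Groth.Agent.Lib.Helper4.DiagBC
import Groth.Agent.FibFpProj
set_option autoImplicit false
set_option backward.isDefEq.respectTransparency false
set_option backward.isDefEq.respectTransparency.types false
open CategoryTheory CategoryTheory.Functor CategoryTheory.Limits
universe v₅ u₅ v₄ u₄ v₃ u₃ v₂ u₂ v u

/-! Base change of gerbes: if `f : 𝒳 ⟶ 𝒴` makes `𝒳` a gerbe over `𝒴`, then `𝒴' ×_𝒴 𝒳 ⟶ 𝒴'` is a gerbe. -/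

namespace Groth.Agent.Lib.helper4.GerbBC
open Groth.Agent.FibEquiv Groth.Agent.FibFp Groth.Agent.FibFpProj Groth.Agent.Lib.helper4.DiagBC
open Groth.Agent.Lib.helper4.GerbBasic FibCat

variable {C : Type u} [Category.{v} C] (J : GrothendieckTopology C)
variable {𝒳 : BasedCategory.{v₂, u₂} C} {𝒴 : BasedCategory.{v₃, u₃} C} {𝒴' : BasedCategory.{v₄, u₄} C}

theorem isHomLift_of_comp_eqToHom {𝒵 : Type u₅} [Category.{v₅} 𝒵] (p : 𝒵 ⥤ C) {V S S' : C} (e : S = S')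
    (f : V ⟶ S') {a b : 𝒵} (φ : a ⟶ b) (h : p.IsHomLift (f ≫ eqToHom e.symm) φ) : p.IsHomLift f φ := by
  subst e
  simpa using h

theorem locSurjObj_fpFst (g : 𝒴' ⥤ᵇ 𝒴) (f : 𝒳 ⥤ᵇ 𝒴) (h𝒴' : IsFibGrpd 𝒴'.p) (h𝒴 : IsFibGrpd 𝒴.p)
    (h : Gerb.LocSurjObj J f) : Gerb.LocSurjObj J (fpFst g f) := by
  intro y'
  have ey : 𝒴.p.obj (g.toFunctor.obj y') = 𝒴'.p.obj y' := g.w_obj y'
  obtain ⟨R, hR, hloc⟩ := h (g.toFunctor.obj y')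
  refine ⟨R.pullback (eqToHom ey.symm), J.pullback_stable _ hR, fun V f₀ hf₀ => ?_⟩
  obtain ⟨x, k, hk0⟩ := hloc (f₀ ≫ eqToHom ey.symm) hf₀
  have hk : 𝒴.p.IsHomLift f₀ k := isHomLift_of_comp_eqToHom 𝒴.p ey f₀ k hk0
  obtain ⟨y'', c, hc⟩ := h𝒴'.exists_lift f₀
  have hgc : 𝒴.p.IsHomLift f₀ (g.toFunctor.map c) := inferInstance
  have hk' : 𝒴.p.IsStronglyCartesian f₀ k := isStronglyCartesian_of_isFibGrpd 𝒴.p h𝒴 f₀ k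
  have hgc' : 𝒴.p.IsStronglyCartesian f₀ (g.toFunctor.map c) :=
    isStronglyCartesian_of_isFibGrpd 𝒴.p h𝒴 f₀ _
  -- the iso `g y'' ≅ f x`
  let θ : g.toFunctor.obj y'' ≅ f.toFunctor.obj x :=
    Functor.IsCartesian.domainUniqueUpToIso 𝒴.p f₀ k (g.toFunctor.map c)
  have hθ : 𝒴.p.IsHomLift (𝟙 V) θ.hom := inferInstance
  have hV : 𝒴'.p.obj y'' = V := IsHomLift.domain_eq 𝒴'.p f₀ c
  have hθ' : 𝒴.p.IsHomLift (𝟙 (𝒴'.p.obj y'')) θ.hom := isHomLift_of_eq 𝒴.p hV.symm θ.hom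
  let t : (fp g f).obj := ⟨⟨y'', x, θ⟩, hθ'⟩
  exact ⟨t, c, hc⟩

theorem locSurjHom_fpFst (g : 𝒴' ⥤ᵇ 𝒴) (f : 𝒳 ⥤ᵇ 𝒴) (h𝒴' : IsFibGrpd 𝒴'.p) (h𝒴 : IsFibGrpd 𝒴.p)
    (h : Gerb.LocSurjHom J f) : Gerb.LocSurjHom J (fpFst g f) := by
  intro t₁ t₂ b hb
  -- `b : y₁ ⟶ y₂` vertical
  have hb1 : 𝒴'.p.IsHomLift (𝟙 (𝒴'.p.obj t₁.obj.fst)) b := hb
  have e₁ : 𝒳.p.obj t₁.obj.snd = 𝒴'.p.obj t₁.obj.fst := snd_obj g f t₁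
  have e₂ : 𝒴'.p.obj t₂.obj.fst = 𝒴'.p.obj t₁.obj.fst :=
    IsHomLift.codomain_eq 𝒴'.p (𝟙 (𝒴'.p.obj t₁.obj.fst)) b
  have e₂' : 𝒳.p.obj t₂.obj.snd = 𝒴'.p.obj t₁.obj.fst := (snd_obj g f t₂).trans e₂
  let b' : f.toFunctor.obj t₁.obj.snd ⟶ f.toFunctor.obj t₂.obj.snd :=
    t₁.obj.iso.inv ≫ g.toFunctor.map b ≫ t₂.obj.iso.hom
  have h1 : 𝒴.p.IsHomLift (𝟙 (𝒴'.p.obj t₁.obj.fst)) t₁.obj.iso.hom := iso_isHomLift g f t₁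
  have h1' : 𝒴.p.IsHomLift (𝟙 (𝒴'.p.obj t₁.obj.fst)) t₁.obj.iso.inv := IsHomLift.lift_id_inv _ _ _
  have h2 : 𝒴.p.IsHomLift (𝟙 (𝒴'.p.obj t₂.obj.fst)) t₂.obj.iso.hom := iso_isHomLift g f t₂
  have h2' : 𝒴.p.IsHomLift (𝟙 (𝒴'.p.obj t₁.obj.fst)) t₂.obj.iso.hom := isHomLift_of_eq 𝒴.p e₂ _
  have h3 : 𝒴.p.IsHomLift (𝟙 (𝒴'.p.obj t₁.obj.fst)) (g.toFunctor.map b) := inferInstance
  have hb'0 : 𝒴.p.IsHomLift (𝟙 (𝒴'.p.obj t₁.obj.fst)) b' := by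
    have : 𝒴.p.IsHomLift (𝟙 (𝒴'.p.obj t₁.obj.fst) ≫ 𝟙 (𝒴'.p.obj t₁.obj.fst) ≫ 𝟙 (𝒴'.p.obj t₁.obj.fst)) b' :=
      inferInstance
    simpa using this
  have hb' : 𝒴.p.IsHomLift (𝟙 (𝒳.p.obj t₁.obj.snd)) b' := isHomLift_of_eq 𝒴.p e₁.symm b'
  obtain ⟨R, hR, hloc⟩ := h t₁.obj.snd t₂.obj.snd b' hb'
  refine ⟨R.pullback (eqToHom e₁.symm), J.pullback_stable _ hR, fun V f₀ hf₀ => ?_⟩
  obtain ⟨x₀, φ₀, ψ₀, hφ0, hψ0, hc⟩ := hloc (f₀ ≫ eqToHom e₁.symm) hf₀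
  have hφ : 𝒳.p.IsHomLift f₀ φ₀ := isHomLift_of_comp_eqToHom 𝒳.p e₁ f₀ φ₀ hφ0
  have hψ : 𝒳.p.IsHomLift f₀ ψ₀ := isHomLift_of_comp_eqToHom 𝒳.p e₁ f₀ ψ₀ hψ0
  -- pull back `y₁`
  obtain ⟨y₀, c, hc0⟩ := h𝒴'.exists_lift (x := t₁.obj.fst) f₀
  have hFa : 𝒴.p.IsStronglyCartesian f₀ (g.toFunctor.map c) :=
    isStronglyCartesian_of_isFibGrpd 𝒴.p h𝒴 _ _
  have hGb : 𝒴.p.IsStronglyCartesian f₀ (f.toFunctor.map φ₀) :=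
    isStronglyCartesian_of_isFibGrpd 𝒴.p h𝒴 _ _
  obtain ⟨θ₀, hθ₀, hθc⟩ := exists_iso_of_lifts g f t₁ f₀ c φ₀ hFa hGb
  let t₀ : (fp g f).obj := ⟨⟨y₀, x₀, θ₀⟩, hθ₀⟩
  let m₁ : t₀ ⟶ t₁ := fpHomMk g f (X := t₀) (Y := t₁) c φ₀ hθc
  have hcb : 𝒴'.p.IsHomLift f₀ (c ≫ b) := by
    have : 𝒴'.p.IsHomLift (f₀ ≫ 𝟙 _) (c ≫ b) := inferInstance
    simpa using this
  let m₂ : t₀ ⟶ t₂ := fpHomMk g f (X := t₀) (Y := t₂) (c ≫ b) ψ₀ (by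
    change g.toFunctor.map (c ≫ b) ≫ t₂.obj.iso.hom = θ₀.hom ≫ f.toFunctor.map ψ₀
    rw [← hc]
    dsimp only [b']
    rw [← Category.assoc θ₀.hom, ← hθc]
    simp only [Category.assoc, Iso.hom_inv_id_assoc, CategoryTheory.Functor.map_comp])
  refine ⟨t₀, m₁, m₂, ?_, ?_, ?_⟩
  · exact lift_to g f f₀ m₁ hc0
  · exact lift_to g f f₀ m₂ hcb
  · rfl

theorem isGerbeOver_fpFst (g : 𝒴' ⥤ᵇ 𝒴) (f : 𝒳 ⥤ᵇ 𝒴) (h𝒴' : IsFibGrpd 𝒴'.p) (h𝒴 : IsFibGrpd 𝒴.p)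
    (h : Gerb.IsGerbeOver J f) : Gerb.IsGerbeOver J (fpFst g f) :=
  ⟨locSurjObj_fpFst J g f h𝒴' h𝒴 h.1, locSurjHom_fpFst J g f h𝒴' h𝒴 h.2⟩

end Groth.Agent.Lib.helper4.GerbBC
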