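import Mathlib
import Groth.Agent.Lib.Helper4.AlgStDiagCover
import Groth.Agent.Lib.Helper4.AlgStLocQ9
import Groth.Agent.Lib.Helper4.AlgStDiagBC
import Groth.Agent.Lib.Helper14.AlgSpQuot2
import Groth.Agent.FibYoneda
import Groth.Agent.FibFiberwise
import Groth.Prelude.Def_StGerb

/-!
# Flat, locally finitely presented, surjective functors are locally essentially surjective (helper4)
-/

set_option backward.isDefEq.respectTransparency false
set_option backward.isDefEq.respectTransparency.types false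
set_option autoImplicit false
set_option linter.style.haveILetI false
set_option linter.unusedSectionVars false
set_option linter.unusedVariables false
set_option linter.unusedSimpArgs false

universe u

open CategoryTheory CategoryTheory.Limits AlgebraicGeometry
open AlgSt Opposite

namespace Groth.Agent.Lib.helper4.AlgStLocSurj

open Groth.Agent.FibEquiv FibCat Groth.Agent.Lib.helper4.FibPaste Groth.Agent.Lib.helper4.AlgStEquiv
open Groth.Agent.FibFpProj Groth.Agent.FibYoneda Groth.Agent.FibFiberwise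
open Groth.Agent.Lib.helper4.AlgStSource Groth.Agent.Lib.helper4.AlgStDiagCover
open Groth.Agent.Lib.helper4.AlgStSmLoc Groth.Agent.Lib.helper4.AlgStLocQ Groth.Agent.Lib.helper4.PshRep
open Groth.Agent.Lib.helper4.AlgStDiagBC Groth.Agent.Lib.helper4.AlgStFpAlg Groth.Agent.Lib.helper4.AlgStDM
open Groth.Agent.Lib.Helper14.AlgSpQuot

variable {S : Scheme.{u}}

/-- a functor representable by algebraic spaces which is flat, locally of finite presentation and surjective is
locally essentially surjective for the fppf topology -/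
theorem locSurjObj_of_fppf {𝒰 𝒵 : AlgSt.Cat S} (h𝒰 : IsFibGrpd 𝒰.p) (h𝒵 : IsFibGrpd 𝒵.p) (z : 𝒰 ⥤ᵇ 𝒵)
    (hz₁ : AlgSt.RepByAlgSpWith (AlgSp.LocP @Flat) z)
    (hz₂ : AlgSt.RepByAlgSpWith (AlgSp.LocP @LocallyOfFinitePresentation) z)
    (hz₃ : AlgSt.RepByAlgSpWith AlgSp.IsSurjectiveMor z) :
    Gerb.LocSurjObj (QuotSh.J Scheme.fppfPrecoverage S) z := by
  intro y
  haveI : 𝒵.p.IsFibered := isFibered_of_isFibGrpd 𝒵.p h𝒵
  have hT : IsFibGrpd (overCat (𝒵.p.obj y)).p := Groth.Agent.FibOver.isFibGrpd_overCat _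
  have h1 := repByAlgSpWith_fpFst _ z (yBased y) hz₁
  have h2 := repByAlgSpWith_fpFst _ z (yBased y) hz₂
  have h3 := repByAlgSpWith_fpFst _ z (yBased y) hz₃
  obtain ⟨Z, eZ, heZ⟩ := exists_rep_of_repByAlgSpWith _ _ h1
  have k1 := (repByAlgSpWith_precomp_iff _ (fpFst (yBased y) z) eZ heZ).1 h1
  have k2 := (repByAlgSpWith_precomp_iff _ (fpFst (yBased y) z) eZ heZ).1 h2
  have k3 := (repByAlgSpWith_precomp_iff _ (fpFst (yBased y) z) eZ heZ).1 h3
  obtain ⟨W, p, hpe, hps, c1, c2, c3⟩ := exists_scheme_cover hT Z _ k1 k2 k3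
  obtain ⟨w, ⟨α⟩⟩ := exists_overMap_iso
    (BasedFunctor.comp (ofMap p) (BasedFunctor.comp eZ (fpFst (yBased y) z)))
  have hw1 : Flat w.left := AlgSp.locP_yon_map
    (prop_of_repByAlgSpWith_overMap _ (isoInv_locP _) w ((repByAlgSpWith_congr _ α).1 c1))
  have hw2 : LocallyOfFinitePresentation w.left := AlgSp.locP_yon_map
    (prop_of_repByAlgSpWith_overMap _ (isoInv_locP _) w ((repByAlgSpWith_congr _ α).1 c2))
  have hw3 : Function.Surjective (AlgSp.Points.map ((AlgSp.yon S).map w)) :=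
    prop_of_repByAlgSpWith_overMap _ isoInv_isSurjectiveMor w ((repByAlgSpWith_congr _ α).1 c3)
  let R : Sieve (𝒵.p.obj y) :=
    { arrows := fun V g => ∃ (x : 𝒰.obj) (φ : z.obj x ⟶ y), 𝒵.p.IsHomLift g φ
      downward_closed := by
        rintro V V' g ⟨x, φ, hφ⟩ g'
        have hx : 𝒰.p.obj x = V :=
          (z.w_obj x).symm.trans (IsHomLift.domain_eq 𝒵.p g φ)
        subst hx
        obtain ⟨x', ψ, hψ⟩ := h𝒰.exists_lift (x := x) g'
        have : 𝒵.p.IsHomLift g' (z.toFunctor.map ψ) := inferInstance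
        exact ⟨x', z.toFunctor.map ψ ≫ φ, inferInstance⟩ }
  refine ⟨R, mem_J_of_forall_exists_flat R (fun τ => ?_), fun V g hg => hg⟩
  let η : (fp (yBased y) z).obj := (BasedFunctor.comp (ofMap p) eZ).toFunctor.obj (Over.mk (𝟙 W))
  have hη : 𝒵.p.IsHomLift (𝟙 η.obj.fst.left) η.obj.iso.hom := fp_iso_isHomLift _ _ η
  have hη' : 𝒵.p.IsHomLift (𝟙 η.obj.fst.left) η.obj.iso.inv := inferInstance
  have hy : 𝒵.p.IsHomLift η.obj.fst.hom (yMap y η.obj.fst) :=
    (yMap_isStronglyCartesian y η.obj.fst).toIsHomLift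
  have hφ : 𝒵.p.IsHomLift η.obj.fst.hom (η.obj.iso.inv ≫ yMap y η.obj.fst) := by
    have : 𝒵.p.IsHomLift (𝟙 η.obj.fst.left ≫ η.obj.fst.hom) (η.obj.iso.inv ≫ yMap y η.obj.fst) :=
      inferInstance
    simpa using this
  let i : η.obj.fst ≅ (AlgSt.overMap w).toFunctor.obj (Over.mk (𝟙 W)) := appIso α (Over.mk (𝟙 W))
  have hi : i.hom.left ≫ w = η.obj.fst.hom := by
    have := Over.w i.hom
    rw [← this]
    exact congrArg (fun t => i.hom.left ≫ t) (Category.id_comp w).symm
  obtain ⟨ω', hω'⟩ := hw3 (AlgSp.Points.schemeHomeo _ τ)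
  obtain ⟨ω, rfl⟩ := (AlgSp.Points.schemeHomeo W).surjective ω'
  rw [AlgSp.Points.map_yon_map_apply] at hω'
  have hω : w.left ω = τ := (AlgSp.Points.schemeHomeo _).injective hω'
  have hiso : IsIso i.hom.left := inferInstanceAs (IsIso ((Over.forget _).map i.hom))
  have hiso' : IsIso i.hom.left.left := inferInstanceAs (IsIso ((Over.forget _).map i.hom.left))
  refine ⟨η.obj.fst.left, η.obj.fst.hom, ⟨η.obj.snd, η.obj.iso.inv ≫ yMap y η.obj.fst, hφ⟩, ?_, ?_, ?_⟩
  · refine ⟨(inv i.hom.left.left) ω, ?_⟩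
    have h4 : i.hom.left.left ((inv i.hom.left.left) ω) = ω := by
      rw [← Scheme.Hom.comp_apply, IsIso.inv_hom_id]
      rfl
    rw [← hi, Over.comp_left, Scheme.Hom.comp_apply, h4]
    exact hω
  · rw [← hi, Over.comp_left]
    infer_instance
  · rw [← hi, Over.comp_left]
    infer_instance

end Groth.Agent.Lib.helper4.AlgStLocSurj
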