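import Groth.Prelude.Def_StGerb
import Groth.Agent.FibEquiv
import Groth.Agent.StkLib
set_option autoImplicit false
set_option backward.isDefEq.respectTransparency false
set_option backward.isDefEq.respectTransparency.types false
open CategoryTheory CategoryTheory.Functor CategoryTheory.Limits
universe v₅ u₅ v₄ u₄ v₃ u₃ v₂ u₂ v u

/-! Gerbes over a stack: invariance of `Gerb.LocSurjObj`, `Gerb.LocSurjHom` under 2-isomorphism and under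
composition (on either side) with equivalences over the base. -/

namespace Groth.Agent.Lib.helper4.GerbBasic
open Groth.Agent.FibEquiv FibCat

variable {C : Type u} [Category.{v} C] (J : GrothendieckTopology C)
variable {𝒳 : BasedCategory.{v₂, u₂} C} {𝒴 : BasedCategory.{v₃, u₃} C}
  {𝒳' : BasedCategory.{v₄, u₄} C} {𝒴' : BasedCategory.{v₅, u₅} C}

/-- "essentially surjective over identities" -/
def EssSurjOver (E : 𝒳' ⥤ᵇ 𝒳) : Prop :=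
  ∀ x : 𝒳.obj, ∃ (x' : 𝒳'.obj) (e : E.toFunctor.obj x' ≅ x), 𝒳.p.IsHomLift (𝟙 (𝒳.p.obj x)) e.hom

theorem essSurjOver_of_isEquivOver (E : 𝒳' ⥤ᵇ 𝒳) (h : IsEquivOver E) : EssSurjOver E :=
  (of_isEquivOver E h).2

/-! ### invariance under 2-isomorphism -/

theorem locSurjObj_of_iso {F F' : 𝒳 ⥤ᵇ 𝒴} (α : F ≅ F') (h : Gerb.LocSurjObj J F) : Gerb.LocSurjObj J F' := by
  intro y
  obtain ⟨R, hR, hloc⟩ := h y
  refine ⟨R, hR, fun V f hf => ?_⟩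
  obtain ⟨x, g, hg⟩ := hloc f hf
  refine ⟨x, α.inv.toNatTrans.app x ≫ g, ?_⟩
  have h1 : 𝒴.p.IsHomLift (𝟙 V) (α.inv.toNatTrans.app x) := by
    apply BasedNatTrans.isHomLift
    exact (F.w_obj x).symm.trans (IsHomLift.domain_eq 𝒴.p f g)
  have : 𝒴.p.IsHomLift (𝟙 V ≫ f) (α.inv.toNatTrans.app x ≫ g) := inferInstance
  simpa using this

theorem app_hom_inv {F F' : 𝒳 ⥤ᵇ 𝒴} (α : F ≅ F') (x : 𝒳.obj) :
    α.hom.toNatTrans.app x ≫ α.inv.toNatTrans.app x = 𝟙 _ := by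
  have := congrArg (fun t => t.toNatTrans.app x) α.hom_inv_id
  exact this

theorem app_inv_hom {F F' : 𝒳 ⥤ᵇ 𝒴} (α : F ≅ F') (x : 𝒳.obj) :
    α.inv.toNatTrans.app x ≫ α.hom.toNatTrans.app x = 𝟙 _ := by
  have := congrArg (fun t => t.toNatTrans.app x) α.inv_hom_id
  exact this

theorem locSurjHom_of_iso {F F' : 𝒳 ⥤ᵇ 𝒴} (α : F ≅ F') (h : Gerb.LocSurjHom J F) : Gerb.LocSurjHom J F' := by
  intro x x' b' hb'
  have e' : 𝒳.p.obj x' = 𝒳.p.obj x :=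
    (F'.w_obj x').symm.trans (IsHomLift.codomain_eq 𝒴.p (𝟙 (𝒳.p.obj x)) b')
  have h1 : 𝒴.p.IsHomLift (𝟙 (𝒳.p.obj x)) (α.hom.toNatTrans.app x) := inferInstance
  have h2 : 𝒴.p.IsHomLift (𝟙 (𝒳.p.obj x)) (α.inv.toNatTrans.app x') :=
    BasedNatTrans.isHomLift _ e'
  let b : F.toFunctor.obj x ⟶ F.toFunctor.obj x' :=
    α.hom.toNatTrans.app x ≫ b' ≫ α.inv.toNatTrans.app x'
  have hb : 𝒴.p.IsHomLift (𝟙 (𝒳.p.obj x)) b := by
    have : 𝒴.p.IsHomLift (𝟙 (𝒳.p.obj x) ≫ 𝟙 (𝒳.p.obj x) ≫ 𝟙 (𝒳.p.obj x)) b := inferInstance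
    simpa using this
  obtain ⟨R, hR, hloc⟩ := h x x' b hb
  refine ⟨R, hR, fun V f hf => ?_⟩
  obtain ⟨x₀, φ, ψ, hφ, hψ, hc⟩ := hloc f hf
  refine ⟨x₀, φ, ψ, hφ, hψ, ?_⟩
  have n1 := α.hom.toNatTrans.naturality φ
  have n2 := α.hom.toNatTrans.naturality ψ
  -- F' φ = α⁻¹ ≫ F φ ≫ α
  have e1 : F'.toFunctor.map φ = α.inv.toNatTrans.app x₀ ≫ F.toFunctor.map φ ≫ α.hom.toNatTrans.app x := by
    rw [n1, ← Category.assoc, app_inv_hom, Category.id_comp]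
  have e2 : F'.toFunctor.map ψ = α.inv.toNatTrans.app x₀ ≫ F.toFunctor.map ψ ≫ α.hom.toNatTrans.app x' := by
    rw [n2, ← Category.assoc, app_inv_hom, Category.id_comp]
  change F'.toFunctor.map φ ≫ b' = F'.toFunctor.map ψ
  rw [e1, e2, ← hc]
  dsimp only [b]
  simp only [Category.assoc]
  rw [app_inv_hom, Category.comp_id]

theorem isGerbeOver_of_iso {F F' : 𝒳 ⥤ᵇ 𝒴} (α : F ≅ F') (h : Gerb.IsGerbeOver J F) : Gerb.IsGerbeOver J F' :=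
  ⟨locSurjObj_of_iso J α h.1, locSurjHom_of_iso J α h.2⟩

/-! ### precomposition -/

theorem locSurjObj_precomp (E : 𝒳' ⥤ᵇ 𝒳) (hE : EssSurjOver E) (F : 𝒳 ⥤ᵇ 𝒴) (h : Gerb.LocSurjObj J F) :
    Gerb.LocSurjObj J (BasedFunctor.comp E F) := by
  intro y
  obtain ⟨R, hR, hloc⟩ := h y
  refine ⟨R, hR, fun V f hf => ?_⟩
  obtain ⟨x, g, hg⟩ := hloc f hf
  obtain ⟨x', e, he⟩ := hE x
  refine ⟨x', F.toFunctor.map e.hom ≫ g, ?_⟩
  have hx : 𝒳.p.obj x = V := (F.w_obj x).symm.trans (IsHomLift.domain_eq 𝒴.p f g)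
  have h1 : 𝒳.p.IsHomLift (𝟙 V) e.hom := isHomLift_of_eq 𝒳.p hx e.hom
  have h2 : 𝒴.p.IsHomLift (𝟙 V) (F.toFunctor.map e.hom) := inferInstance
  have : 𝒴.p.IsHomLift (𝟙 V ≫ f) (F.toFunctor.map e.hom ≫ g) := inferInstance
  simpa using this

theorem locSurjHom_precomp (E : 𝒳' ⥤ᵇ 𝒳) [E.toFunctor.Full] (hE : EssSurjOver E) (F : 𝒳 ⥤ᵇ 𝒴)
    (h : Gerb.LocSurjHom J F) : Gerb.LocSurjHom J (BasedFunctor.comp E F) := by
  intro x₁ x₂ b hb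
  have e₁ : 𝒳.p.obj (E.toFunctor.obj x₁) = 𝒳'.p.obj x₁ := E.w_obj x₁
  have hb' : 𝒴.p.IsHomLift (𝟙 (𝒳.p.obj (E.toFunctor.obj x₁))) b := isHomLift_of_eq 𝒴.p e₁.symm b
  obtain ⟨R, hR, hloc⟩ := h (E.toFunctor.obj x₁) (E.toFunctor.obj x₂) b hb'
  refine ⟨R.pullback (eqToHom e₁.symm), J.pullback_stable _ hR, fun V f hf => ?_⟩
  obtain ⟨x₀, φ, ψ, hφ, hψ, hc⟩ := hloc (f ≫ eqToHom e₁.symm) hf
  obtain ⟨x₀', e, he⟩ := hE x₀
  have hx₀ : 𝒳.p.obj x₀ = V := IsHomLift.domain_eq 𝒳.p (f ≫ eqToHom e₁.symm) φ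
  have h1 : 𝒳.p.IsHomLift (𝟙 V) e.hom := isHomLift_of_eq 𝒳.p hx₀ e.hom
  have hφ' : 𝒳.p.IsHomLift f φ := by
    have := hφ
    have e2 : 𝒳.p.obj (E.toFunctor.obj x₁) = 𝒳'.p.obj x₁ := e₁
    apply IsHomLift.of_fac' 𝒳.p f φ hx₀ e2
    have := IsHomLift.fac' 𝒳.p (f ≫ eqToHom e₁.symm) φ
    rw [this]
    simp
  have hψ' : 𝒳.p.IsHomLift f ψ := by
    have := hψ
    have e2 : 𝒳.p.obj (E.toFunctor.obj x₂) = 𝒳'.p.obj x₁ :=
      (IsHomLift.codomain_eq 𝒳.p (f ≫ eqToHom e₁.symm) ψ).trans e₁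
    apply IsHomLift.of_fac' 𝒳.p f ψ hx₀ e2
    have := IsHomLift.fac' 𝒳.p (f ≫ eqToHom e₁.symm) ψ
    rw [this]
    simp
  refine ⟨x₀', E.toFunctor.preimage (e.hom ≫ φ), E.toFunctor.preimage (e.hom ≫ ψ), ?_, ?_, ?_⟩
  · have h3 : 𝒳.p.IsHomLift f (E.toFunctor.map (E.toFunctor.preimage (e.hom ≫ φ))) := by
      rw [Functor.map_preimage]
      have : 𝒳.p.IsHomLift (𝟙 V ≫ f) (e.hom ≫ φ) := inferInstance
      simpa using this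
    exact E.isHomLift_map _ _
  · have h3 : 𝒳.p.IsHomLift f (E.toFunctor.map (E.toFunctor.preimage (e.hom ≫ ψ))) := by
      rw [Functor.map_preimage]
      have : 𝒳.p.IsHomLift (𝟙 V ≫ f) (e.hom ≫ ψ) := inferInstance
      simpa using this
    exact E.isHomLift_map _ _
  · change F.toFunctor.map (E.toFunctor.map (E.toFunctor.preimage (e.hom ≫ φ))) ≫ b =
      F.toFunctor.map (E.toFunctor.map (E.toFunctor.preimage (e.hom ≫ ψ)))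
    rw [Functor.map_preimage, Functor.map_preimage, CategoryTheory.Functor.map_comp,
      CategoryTheory.Functor.map_comp, Category.assoc, hc]

theorem isGerbeOver_precomp (E : 𝒳' ⥤ᵇ 𝒳) (hE : IsEquivOver E) (F : 𝒳 ⥤ᵇ 𝒴)
    (h : Gerb.IsGerbeOver J F) : Gerb.IsGerbeOver J (BasedFunctor.comp E F) := by
  obtain ⟨⟨hfull, hfaith⟩, hess⟩ := of_isEquivOver E hE
  exact ⟨locSurjObj_precomp J E hess F h.1, locSurjHom_precomp J E hess F h.2⟩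

/-! ### postcomposition -/

theorem locSurjObj_postcomp (F : 𝒳 ⥤ᵇ 𝒴) (E : 𝒴 ⥤ᵇ 𝒴') (hE : EssSurjOver E) (h : Gerb.LocSurjObj J F) :
    Gerb.LocSurjObj J (BasedFunctor.comp F E) := by
  intro y'
  obtain ⟨y, e, he⟩ := hE y'
  have ey : 𝒴.p.obj y = 𝒴'.p.obj y' :=
    (E.w_obj y).symm.trans (IsHomLift.domain_eq 𝒴'.p (𝟙 (𝒴'.p.obj y')) e.hom)
  obtain ⟨R, hR, hloc⟩ := h y
  refine ⟨R.pullback (eqToHom ey.symm), J.pullback_stable _ hR, fun V f hf => ?_⟩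
  obtain ⟨x, g, hg⟩ := hloc (f ≫ eqToHom ey.symm) hf
  refine ⟨x, E.toFunctor.map g ≫ e.hom, ?_⟩
  have hx : 𝒴.p.obj (F.toFunctor.obj x) = V := IsHomLift.domain_eq 𝒴.p (f ≫ eqToHom ey.symm) g
  have hg' : 𝒴.p.IsHomLift f g := by
    apply IsHomLift.of_fac' 𝒴.p f g hx ey
    have := IsHomLift.fac' 𝒴.p (f ≫ eqToHom ey.symm) g
    rw [this]
    simp
  have h2 : 𝒴'.p.IsHomLift f (E.toFunctor.map g) := inferInstance
  have : 𝒴'.p.IsHomLift (f ≫ 𝟙 _) (E.toFunctor.map g ≫ e.hom) := inferInstance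
  simpa using this

theorem locSurjHom_postcomp (F : 𝒳 ⥤ᵇ 𝒴) (E : 𝒴 ⥤ᵇ 𝒴') [E.toFunctor.Full] [E.toFunctor.Faithful]
    (h : Gerb.LocSurjHom J F) : Gerb.LocSurjHom J (BasedFunctor.comp F E) := by
  intro x₁ x₂ b' hb'
  let b : F.toFunctor.obj x₁ ⟶ F.toFunctor.obj x₂ := E.toFunctor.preimage b'
  have hb : 𝒴.p.IsHomLift (𝟙 (𝒳.p.obj x₁)) b := by
    have h3 : 𝒴'.p.IsHomLift (𝟙 (𝒳.p.obj x₁)) (E.toFunctor.map b) := by
      dsimp only [b]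
      rw [Functor.map_preimage]
      exact hb'
    exact E.isHomLift_map _ _
  obtain ⟨R, hR, hloc⟩ := h x₁ x₂ b hb
  refine ⟨R, hR, fun V f hf => ?_⟩
  obtain ⟨x₀, φ, ψ, hφ, hψ, hc⟩ := hloc f hf
  refine ⟨x₀, φ, ψ, hφ, hψ, ?_⟩
  change E.toFunctor.map (F.toFunctor.map φ) ≫ b' = E.toFunctor.map (F.toFunctor.map ψ)
  rw [← hc, CategoryTheory.Functor.map_comp, Functor.map_preimage]

theorem isGerbeOver_postcomp (F : 𝒳 ⥤ᵇ 𝒴) (E : 𝒴 ⥤ᵇ 𝒴') (hE : IsEquivOver E)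
    (h : Gerb.IsGerbeOver J F) : Gerb.IsGerbeOver J (BasedFunctor.comp F E) := by
  obtain ⟨⟨hfull, hfaith⟩, hess⟩ := of_isEquivOver E hE
  exact ⟨locSurjObj_postcomp J F E hess h.1, locSurjHom_postcomp J F E h.2⟩

end Groth.Agent.Lib.helper4.GerbBasic
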