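import Groth.Agent.Lib.Helper4.GerbFF
import Groth.Agent.Lib.Helper4.GerbBasic
set_option autoImplicit false
set_option backward.isDefEq.respectTransparency false
set_option backward.isDefEq.respectTransparency.types false
set_option linter.unusedSectionVars false
set_option linter.style.haveILetI false
open CategoryTheory CategoryTheory.Functor CategoryTheory.Limits
universe v₅ u₅ v₄ u₄ v₃ u₃ v₂ u₂ v u

/-! Descent of "gerbe over" along a locally essentially surjective base change. -/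

namespace Groth.Agent.Lib.helper4.GerbDesc
open Groth.Agent.FibEquiv Groth.Agent.FibFiberwise Groth.Agent.FibFpProj Groth.Agent.FibYoneda
open Groth.Agent.Lib.helper4.Descent Groth.Agent.Lib.helper4.GerbLocal Groth.Agent.Lib.helper4.GerbFF
open Groth.Agent.Lib.helper4.GerbBasic FibCat

variable {C : Type u} [Category.{v} C] (J : GrothendieckTopology C)
variable {𝒳 : BasedCategory.{v₂, u₂} C} {𝒴 : BasedCategory.{v₃, u₃} C}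
  {𝒳' : BasedCategory.{v₄, u₄} C} {𝒴' : BasedCategory.{v₅, u₅} C}

theorem locSurjObj_of_comp (L : 𝒳' ⥤ᵇ 𝒳) (P : 𝒳 ⥤ᵇ 𝒴) (h : Gerb.LocSurjObj J (BasedFunctor.comp L P)) :
    Gerb.LocSurjObj J P := by
  intro y
  obtain ⟨R, hR, hloc⟩ := h y
  refine ⟨R, hR, fun V f hf => ?_⟩
  obtain ⟨x', g, hg⟩ := hloc f hf
  exact ⟨L.obj x', g, hg⟩

theorem locSurjHom_of_comp (L : 𝒳' ⥤ᵇ 𝒳) (hL : EssSurjOver L) (P : 𝒳 ⥤ᵇ 𝒴)
    (h : Gerb.LocSurjHom J (BasedFunctor.comp L P)) : Gerb.LocSurjHom J P := by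
  intro t₁ t₂ b hb
  obtain ⟨x₁, e₁, he₁⟩ := hL t₁
  obtain ⟨x₂, e₂, he₂⟩ := hL t₂
  have hx₁ : 𝒳'.p.obj x₁ = 𝒳.p.obj t₁ :=
    (L.w_obj x₁).symm.trans (IsHomLift.domain_eq 𝒳.p (𝟙 (𝒳.p.obj t₁)) e₁.hom)
  have e12 : 𝒳.p.obj t₂ = 𝒳.p.obj t₁ :=
    (P.w_obj t₂).symm.trans (IsHomLift.codomain_eq 𝒴.p (𝟙 (𝒳.p.obj t₁)) b)
  have he₂' : 𝒳.p.IsHomLift (𝟙 (𝒳.p.obj t₁)) e₂.hom := isHomLift_of_eq 𝒳.p e12 e₂.hom
  have he₂inv : 𝒳.p.IsHomLift (𝟙 (𝒳.p.obj t₁)) e₂.inv := IsHomLift.lift_id_inv _ _ _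
  have hb' : 𝒴.p.IsHomLift (𝟙 (𝒳'.p.obj x₁)) (P.map e₁.hom ≫ b ≫ P.map e₂.inv) := by
    have h1 : 𝒴.p.IsHomLift (𝟙 (𝒳.p.obj t₁)) (P.map e₁.hom) := inferInstance
    have h2 : 𝒴.p.IsHomLift (𝟙 (𝒳.p.obj t₁)) (P.map e₂.inv) := inferInstance
    have : 𝒴.p.IsHomLift (𝟙 (𝒳.p.obj t₁) ≫ 𝟙 (𝒳.p.obj t₁) ≫ 𝟙 (𝒳.p.obj t₁))
        (P.map e₁.hom ≫ b ≫ P.map e₂.inv) := inferInstance
    simp only [Category.id_comp] at this
    exact isHomLift_of_eq 𝒴.p hx₁.symm _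
  obtain ⟨R, hR, hloc⟩ := h x₁ x₂ (P.map e₁.hom ≫ b ≫ P.map e₂.inv) hb'
  refine ⟨R.pullback (eqToHom hx₁.symm), J.pullback_stable _ hR, fun V f hf => ?_⟩
  obtain ⟨x₀, φ, ψ, hφ, hψ, hc⟩ := hloc _ hf
  have hφ' : 𝒳'.p.IsHomLift f φ := (IsHomLift.lift_comp_eqToHom_iff 𝒳'.p f φ hx₁.symm).1 hφ
  have hψ' : 𝒳'.p.IsHomLift f ψ := (IsHomLift.lift_comp_eqToHom_iff 𝒳'.p f ψ hx₁.symm).1 hψ
  have hLφ : 𝒳.p.IsHomLift f (L.map φ) := inferInstance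
  have hLψ : 𝒳.p.IsHomLift f (L.map ψ) := inferInstance
  refine ⟨L.obj x₀, L.map φ ≫ e₁.hom, L.map ψ ≫ e₂.hom, ?_, ?_, ?_⟩
  · have : 𝒳.p.IsHomLift (f ≫ 𝟙 _) (L.map φ ≫ e₁.hom) := inferInstance
    simpa using this
  · have : 𝒳.p.IsHomLift (f ≫ 𝟙 _) (L.map ψ ≫ e₂.hom) := inferInstance
    simpa using this
  · have hc' : P.map (L.map φ) ≫ P.map e₁.hom ≫ b ≫ P.map e₂.inv = P.map (L.map ψ) := hc
    have h3 : P.map e₂.inv ≫ P.map e₂.hom = 𝟙 _ := by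
      rw [← P.toFunctor.map_comp, Iso.inv_hom_id, P.toFunctor.map_id]
    rw [P.toFunctor.map_comp, P.toFunctor.map_comp, ← hc']
    simp only [Category.assoc, h3, Category.comp_id]

/-- descent along the explicit 2-fibre product -/
theorem isGerbeOver_of_fpFst (h𝒳 : FibCat.IsFibGrpd 𝒳.p) (h𝒴 : FibCat.IsFibGrpd 𝒴.p)
    (h𝒴' : FibCat.IsFibGrpd 𝒴'.p) (F : 𝒳 ⥤ᵇ 𝒴) (G : 𝒴' ⥤ᵇ 𝒴)
    (hG : Gerb.LocSurjObj J G) (hP : Gerb.IsGerbeOver J (FibCat.fpFst G F)) : Gerb.IsGerbeOver J F := by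
  classical
  refine ⟨?_, ?_⟩
  · intro y
    let S : Sieve (𝒴.p.obj y) :=
      { arrows := fun V f => ∃ (x : 𝒳.obj) (t : F.obj x ⟶ y), 𝒴.p.IsHomLift f t
        downward_closed := by
          rintro V W f ⟨x, t, ht⟩ k
          have hV : 𝒳.p.obj x = V := (F.w_obj x).symm.trans (IsHomLift.domain_eq 𝒴.p f t)
          subst hV
          obtain ⟨x', κ, hκ⟩ := h𝒳.exists_lift (x := x) k
          have h1 : 𝒴.p.IsHomLift k (F.map κ) := inferInstance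
          exact ⟨x', F.map κ ≫ t, inferInstance⟩ }
    refine ⟨S, ?_, fun V f hf => hf⟩
    obtain ⟨R₁, hR₁, hloc₁⟩ := hG y
    refine J.transitive hR₁ S (fun V f hf => ?_)
    obtain ⟨y', g, hg⟩ := hloc₁ f hf
    have hyV : 𝒴'.p.obj y' = V := (G.w_obj y').symm.trans (IsHomLift.domain_eq 𝒴.p f g)
    obtain ⟨R₂, hR₂, hloc₂⟩ := hP.1 y'
    subst hyV
    refine J.superset_covering ?_ hR₂
    intro W k hk
    obtain ⟨t, h, hh⟩ := hloc₂ k hk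
    have hh' : 𝒴'.p.IsHomLift k (h : t.obj.fst ⟶ y') := hh
    have h1 : 𝒴.p.IsHomLift k (G.map (h : t.obj.fst ⟶ y')) := inferInstance
    have ht : 𝒴.p.IsHomLift (𝟙 (𝒴'.p.obj t.obj.fst)) t.obj.iso.hom := t.property
    have hW : 𝒴'.p.obj t.obj.fst = W := IsHomLift.domain_eq 𝒴'.p k (h : t.obj.fst ⟶ y')
    have ht' : 𝒴.p.IsHomLift (𝟙 W) t.obj.iso.hom := isHomLift_of_eq 𝒴.p hW _
    have ht'' : 𝒴.p.IsHomLift (𝟙 W) t.obj.iso.inv := IsHomLift.lift_id_inv _ _ _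
    refine ⟨t.obj.snd, t.obj.iso.inv ≫ G.map (h : t.obj.fst ⟶ y') ≫ g, ?_⟩
    have : 𝒴.p.IsHomLift (𝟙 W ≫ k ≫ f) (t.obj.iso.inv ≫ G.map (h : t.obj.fst ⟶ y') ≫ g) := inferInstance
    simpa using this
  · intro x₁ x₂ b hb
    have e' : 𝒳.p.obj x₂ = 𝒳.p.obj x₁ :=
      (F.w_obj x₂).symm.trans (IsHomLift.codomain_eq 𝒴.p (𝟙 (𝒳.p.obj x₁)) b)
    let S : Sieve (𝒳.p.obj x₁) :=
      { arrows := fun V f => ∃ (x₀ : 𝒳.obj) (a : x₀ ⟶ x₁) (a' : x₀ ⟶ x₂),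
          𝒳.p.IsHomLift f a ∧ 𝒳.p.IsHomLift f a' ∧ F.map a ≫ b = F.map a'
        downward_closed := by
          rintro V W f ⟨x₀, a, a', ha, ha', hcc⟩ k
          have hV : 𝒳.p.obj x₀ = V := IsHomLift.domain_eq 𝒳.p f a
          subst hV
          obtain ⟨x₃, κ, hκ⟩ := h𝒳.exists_lift (x := x₀) k
          refine ⟨x₃, κ ≫ a, κ ≫ a', inferInstance, inferInstance, ?_⟩
          rw [F.toFunctor.map_comp, Category.assoc, hcc, ← F.toFunctor.map_comp] }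
    refine ⟨S, ?_, fun V f hf => hf⟩
    have hFx : 𝒴.p.obj (F.obj x₁) = 𝒳.p.obj x₁ := F.w_obj x₁
    obtain ⟨R₁, hR₁, hloc₁⟩ := hG (F.obj x₁)
    refine J.transitive (J.pullback_stable (eqToHom hFx.symm) hR₁) S (fun V f hf => ?_)
    obtain ⟨y', g, hg⟩ := hloc₁ _ hf
    have hg' : 𝒴.p.IsHomLift f g := (IsHomLift.lift_comp_eqToHom_iff 𝒴.p f g hFx.symm).1 hg
    obtain ⟨x₁V, ξ₁, hξ₁⟩ := h𝒳.exists_lift (x := x₁) f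
    obtain ⟨x₂V, ξ₂, hξ₂⟩ := h𝒳.exists_lift (x := x₂) (f ≫ eqToHom e'.symm)
    have hξ₂' : 𝒳.p.IsHomLift f ξ₂ := (IsHomLift.lift_comp_eqToHom_iff 𝒳.p f ξ₂ e'.symm).1 hξ₂
    have hFξ₁ : 𝒴.p.IsHomLift f (F.map ξ₁) := inferInstance
    have hFξ₂ : 𝒴.p.IsHomLift f (F.map ξ₂) := inferInstance
    have hgb : 𝒴.p.IsHomLift (f ≫ 𝟙 _) (g ≫ b) := inferInstance
    obtain ⟨θ₁, hθ₁, hθ₁fac⟩ := exists_factor h𝒴 f (F.map ξ₁) (𝟙 V) f (by simp) g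
    obtain ⟨θ₂, hθ₂, hθ₂fac⟩ := exists_factor h𝒴 f (F.map ξ₂) (𝟙 V) (f ≫ 𝟙 _) (by simp) (g ≫ b)
    have hθ₁iso : IsIso θ₁ := isIso_of_lift h𝒴 (𝟙 V) θ₁
    have hθ₂iso : IsIso θ₂ := isIso_of_lift h𝒴 (𝟙 V) θ₂
    have hy'V : 𝒴'.p.obj y' = V := (G.w_obj y').symm.trans (IsHomLift.domain_eq 𝒴.p f g)
    have hT₁ : 𝒴.p.IsHomLift (𝟙 (𝒴'.p.obj y')) θ₁ := isHomLift_of_eq 𝒴.p hy'V.symm _
    have hT₂ : 𝒴.p.IsHomLift (𝟙 (𝒴'.p.obj y')) θ₂ := isHomLift_of_eq 𝒴.p hy'V.symm _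
    let t₁ : (FibCat.fp G F).obj := ⟨⟨y', x₁V, asIso θ₁⟩, hT₁⟩
    let t₂ : (FibCat.fp G F).obj := ⟨⟨y', x₂V, asIso θ₂⟩, hT₂⟩
    have hid : 𝒴'.p.IsHomLift (𝟙 ((FibCat.fp G F).p.obj t₁))
        (𝟙 y' : (FibCat.fpFst G F).obj t₁ ⟶ (FibCat.fpFst G F).obj t₂) := IsHomLift.id rfl
    obtain ⟨R₂, hR₂, hloc₂⟩ := hP.2 t₁ t₂ (𝟙 y') hid
    refine J.superset_covering ?_ (J.pullback_stable (eqToHom hy'V.symm) hR₂)
    intro W k hk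
    obtain ⟨t₀, μ₁, μ₂, hμ₁, hμ₂, hμ⟩ := hloc₂ _ hk
    have hμ' : μ₁.hom.fst = μ₂.hom.fst := by
      have : μ₁.hom.fst ≫ 𝟙 y' = μ₂.hom.fst := hμ
      exact (Category.comp_id _).symm.trans this
    -- base maps of the second components
    have h1 : 𝒳.p.IsHomLift k μ₁.hom.snd := by
      have h0 : 𝒳.p.IsHomLift ((FibCat.fp G F).p.map μ₁) μ₁.hom.snd := inferInstance
      have e0 := IsHomLift.fac' (FibCat.fp G F).p (k ≫ eqToHom hy'V.symm) μ₁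
      rw [e0] at h0
      simpa using h0
    have h2 : 𝒳.p.IsHomLift k μ₂.hom.snd := by
      have h0 : 𝒳.p.IsHomLift ((FibCat.fp G F).p.map μ₂) μ₂.hom.snd := inferInstance
      have e0 := IsHomLift.fac' (FibCat.fp G F).p (k ≫ eqToHom hy'V.symm) μ₂
      rw [e0] at h0
      simpa using h0
    refine ⟨t₀.obj.snd, μ₁.hom.snd ≫ ξ₁, μ₂.hom.snd ≫ ξ₂, inferInstance, inferInstance, ?_⟩
    have w₁ : G.map μ₁.hom.fst ≫ θ₁ = t₀.obj.iso.hom ≫ F.map μ₁.hom.snd := μ₁.hom.w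
    have w₂ : G.map μ₂.hom.fst ≫ θ₂ = t₀.obj.iso.hom ≫ F.map μ₂.hom.snd := μ₂.hom.w
    have hθ₁fac' : θ₁ ≫ F.map ξ₁ ≫ b = g ≫ b := by rw [← Category.assoc, hθ₁fac]
    apply (cancel_epi t₀.obj.iso.hom).1
    rw [F.toFunctor.map_comp, F.toFunctor.map_comp, ← Category.assoc, ← Category.assoc, ← w₁, ← Category.assoc,
      ← w₂, Category.assoc, Category.assoc, Category.assoc, hθ₁fac', hθ₂fac, hμ']

end Groth.Agent.Lib.helper4.GerbDesc
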