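import Mathlib
import Groth.Agent.Lib.Helper4.AlgStLocSurj
import Groth.Agent.Lib.Helper4.AlgStLocQ9
import Groth.Agent.Lib.Helper4.AlgStPts4
import Groth.Agent.Lib.Helper4.GerbDesc
import Groth.Agent.Lib.Helper4.AlgStDiag

/-!
# Surjective flat locally finitely presented morphisms of algebraic stacks are locally essentially surjective;
descent of gerbes along them (helper4)
-/

set_option backward.isDefEq.respectTransparency false
set_option backward.isDefEq.respectTransparency.types false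
set_option autoImplicit false
set_option linter.style.haveILetI false
set_option linter.unusedSectionVars false
set_option linter.unusedVariables false
set_option linter.unusedSimpArgs false

universe u

open CategoryTheory CategoryTheory.Limits AlgebraicGeometry
open AlgSt Opposite

namespace Groth.Agent.Lib.helper4.GerbDescFppf

open Groth.Agent.FibEquiv FibCat Groth.Agent.Lib.helper4.FibPaste Groth.Agent.Lib.helper4.AlgStEquiv
open Groth.Agent.FibFpProj Groth.Agent.Lib.helper4.AlgStLocQ Groth.Agent.Lib.helper4.SmLocalST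
open Groth.Agent.Lib.helper4.AlgStSource Groth.Agent.Lib.helper4.AlgStSelf
open Groth.Agent.Lib.helper4.AlgStPts Groth.Agent.Lib.helper4.PointsBasic Groth.Agent.Lib.helper5.LocPBC
open Groth.Agent.Lib.helper4.AlgStLocSurj Groth.Agent.Lib.helper4.AlgStDiag

variable {S : Scheme.{u}}

/-- a surjective, flat, locally finitely presented morphism of algebraic stacks is locally essentially surjective -/
theorem locSurjObj_of_locQ {𝒴' 𝒴 : AlgSt.Cat S} (h𝒴' : AlgSt.IsAlgStack Scheme.fppfPrecoverage 𝒴')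
    (h𝒴 : AlgSt.IsAlgStack Scheme.fppfPrecoverage 𝒴) (g : 𝒴' ⥤ᵇ 𝒴)
    (hg₁ : AlgSt.IsSurjective g) (hg₂ : AlgSt.LocQ (AlgSp.LocP @Flat) g)
    (hg₃ : AlgSt.LocQ (AlgSp.LocP @LocallyOfFinitePresentation) g) :
    Gerb.LocSurjObj (QuotSh.J Scheme.fppfPrecoverage S) g := by
  obtain ⟨V, x, hx, hxs⟩ := h𝒴'.atlas
  have hV : AlgSt.IsAlgStack Scheme.fppfPrecoverage (overCat V) := isAlgStack_overCat V
  have hrep : AlgSt.RepByAlgSp1 (BasedFunctor.comp x g) := repByAlgSp1_of_diag h𝒴.diag V _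
  have hfl : AlgSt.RepByAlgSpWith (AlgSp.LocP @Flat) (BasedFunctor.comp x g) :=
    (locQ_iff_repByAlgSpWith hV h𝒴 _ _ isSmoothLocalST_flat
      (fun X₁ Y₁ X₂ Y₂ h1 h2 _ h4 a b a' b' sq ha => locP_of_isPullback locPData_flat h1 h2 h4 sq ha) hrep).1
      (locQ_precomp_smooth hV h𝒴' h𝒴 x g _ isSmoothLocalST_flat hx hg₂)
  have hlfp : AlgSt.RepByAlgSpWith (AlgSp.LocP @LocallyOfFinitePresentation) (BasedFunctor.comp x g) :=
    (locQ_iff_repByAlgSpWith hV h𝒴 _ _ isSmoothLocalST_lfp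
      (fun X₁ Y₁ X₂ Y₂ h1 h2 _ h4 a b a' b' sq ha => locP_of_isPullback locPData_lfp h1 h2 h4 sq ha) hrep).1
      (locQ_precomp_smooth hV h𝒴' h𝒴 x g _ isSmoothLocalST_lfp hx hg₃)
  have hs : AlgSt.IsSurjective (BasedFunctor.comp x g) := by
    intro z
    obtain ⟨y', rfl⟩ := hg₁ z
    obtain ⟨v, rfl⟩ := isSurjective_of_repByAlgSpWith h𝒴'.isStack.1 x hxs y'
    exact ⟨v, map_comp x g v⟩
  have hs' : AlgSt.RepByAlgSpWith AlgSp.IsSurjectiveMor (BasedFunctor.comp x g) :=
    repByAlgSpWith_of_isSurjective hV.isStack.1 h𝒴.isStack.1 _ hrep hs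
  exact Groth.Agent.Lib.helper4.GerbDesc.locSurjObj_of_comp _ x g
    (locSurjObj_of_fppf hV.isStack.1 h𝒴.isStack.1 _ hfl hlfp hs')

end Groth.Agent.Lib.helper4.GerbDescFppf
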