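import Mathlib
import Groth.Agent.Lib.Helper4.AlgStSourceFam
import Groth.Agent.Lib.Helper4.AlgStSectionR
import Groth.Agent.Lib.Helper4.GerbDescFppf
import Groth.Agent.Lib.Helper4.GerbBC
import Groth.Agent.Lib.Helper4.AlgStNoethDiag
import Groth.Agent.Lib.Helper4.AlgStCancel
import Groth.Agent.Lib.Helper4.AlgStGraph
import Groth.Agent.Lib.Helper4.AlgStDiagLFT
import Groth.Agent.Lib.Helper14.AlgSpQuot2

/-!
# Sections of gerbes are flat, locally finitely presented and surjective (helper4)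
-/

set_option backward.isDefEq.respectTransparency false
set_option backward.isDefEq.respectTransparency.types false
set_option autoImplicit false
set_option linter.style.haveILetI false
set_option linter.unusedSectionVars false
set_option linter.unusedVariables false
set_option linter.unusedSimpArgs false

universe u

open CategoryTheory CategoryTheory.Limits AlgebraicGeometry
open AlgSt Opposite

namespace Groth.Agent.Lib.helper4.GerbSection

open Groth.Agent.FibEquiv Groth.Agent.FibYoneda FibCat Groth.Agent.Lib.helper4.FibPaste Groth.Agent.Lib.helper4.AlgStEquiv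
open Groth.Agent.FibFpProj Groth.Agent.Lib.helper4.AlgStLocQ Groth.Agent.Lib.helper4.SmLocalST
open Groth.Agent.Lib.helper4.AlgStSource Groth.Agent.Lib.helper4.AlgStSelf
open Groth.Agent.Lib.helper4.AlgStPts Groth.Agent.Lib.helper4.PointsBasic Groth.Agent.Lib.helper5.LocPBC
open Groth.Agent.Lib.helper4.AlgStLocSurj Groth.Agent.Lib.helper4.AlgStDiag
open Groth.Agent.Lib.helper4.AlgStSourceFam Groth.Agent.Lib.helper4.AlgStSectionR
open Groth.Agent.Lib.helper4.AlgStNoethDiag Groth.Agent.Lib.helper4.GerbBC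

variable {S : Scheme.{u}}

/-- **Local isomorphisms from local surjectivity on morphisms**: two functors out of a slice whose composites with
`π` are isomorphic become isomorphic on the members of a covering sieve. -/
theorem exists_sieve_iso {𝒵 𝒯 : AlgSt.Cat S} (h𝒵 : IsFibGrpd 𝒵.p) (π : 𝒵 ⥤ᵇ 𝒯)
    (hπ : Gerb.LocSurjHom (QuotSh.J Scheme.fppfPrecoverage S) π) {W : Over S} (u v : overCat W ⥤ᵇ 𝒵)
    (β : BasedFunctor.comp u π ≅ BasedFunctor.comp v π) :
    ∃ R ∈ QuotSh.J Scheme.fppfPrecoverage S W, ∀ ⦃V : Over S⦄ (c : V ⟶ W), R c →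
      Nonempty (BasedFunctor.comp (AlgSt.overMap c) u ≅ BasedFunctor.comp (AlgSt.overMap c) v) := by
  have hx : 𝒵.p.obj (u.obj (Over.mk (𝟙 W))) = W := u.w_obj (Over.mk (𝟙 W))
  have hb0 : 𝒯.p.IsHomLift (𝟙 W) (β.hom.toNatTrans.app (Over.mk (𝟙 W))) :=
    β.hom.isHomLift' (Over.mk (𝟙 W))
  have hb : 𝒯.p.IsHomLift (𝟙 (𝒵.p.obj (u.obj (Over.mk (𝟙 W))))) (β.hom.toNatTrans.app (Over.mk (𝟙 W))) :=
    Groth.Agent.Lib.helper4.AlgStPts.isHomLift_id_of_eq 𝒯.p hx.symm _ hb0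
  obtain ⟨R, hR, hRf⟩ := hπ (u.obj (Over.mk (𝟙 W))) (v.obj (Over.mk (𝟙 W)))
    (β.hom.toNatTrans.app (Over.mk (𝟙 W))) hb
  refine ⟨R.pullback (eqToHom hx.symm), (QuotSh.J Scheme.fppfPrecoverage S).pullback_stable _ hR, ?_⟩
  intro V c hc
  obtain ⟨x₀, φ, ψ, hφ, hψ, -⟩ := hRf (c ≫ eqToHom hx.symm) hc
  have hφ' : 𝒵.p.IsHomLift c φ := isHomLift_of_comp_eqToHom 𝒵.p hx c φ hφ
  have hψ' : 𝒵.p.IsHomLift c ψ := isHomLift_of_comp_eqToHom 𝒵.p hx c ψ hψ
  let m : (Over.map c).obj (Over.mk (𝟙 V)) ⟶ Over.mk (𝟙 W) := Over.homMk c (by simp)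
  have hm : (overCat W).p.IsHomLift c m := hom_isHomLift (U := W) m
  have hum : 𝒵.p.IsHomLift c (u.map m) := inferInstance
  have hvm : 𝒵.p.IsHomLift c (v.map m) := inferInstance
  haveI := h𝒵
  obtain ⟨ι₁, hι₁⟩ := exists_iso_of_lifts 𝒵.p c (u.map m) φ
  obtain ⟨ι₂, hι₂⟩ := exists_iso_of_lifts 𝒵.p c ψ (v.map m)
  refine exists_iso_of_app_id h𝒵 (U := V) (G := BasedFunctor.comp (AlgSt.overMap c) u)
    (H := BasedFunctor.comp (AlgSt.overMap c) v) (ι₁ ≪≫ ι₂) ?_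
  have : 𝒵.p.IsHomLift (𝟙 V ≫ 𝟙 V) (ι₁.hom ≫ ι₂.hom) := inferInstance
  simpa using this

/-- every point of an algebraic stack lifts to a point of a chart of a flat, locally finitely presented refinement
of an atlas, through a prescribed family of refinements hitting every point of the atlas -/
theorem exists_chart_point {𝒵 : AlgSt.Cat S} (h𝒵 : IsFibGrpd 𝒵.p) {W : Over S} (w : overCat W ⥤ᵇ 𝒵)
    (hwsurj : AlgSt.RepByAlgSpWith AlgSp.IsSurjectiveMor w) (V : ↥W.left → Over S) (c : ∀ τ, V τ ⟶ W)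
    (t : ∀ τ, ↥(V τ).left) (ht : ∀ τ, (c τ).left (t τ) = τ) (z : AlgSt.Points 𝒵) :
    ∃ τ : ↥W.left, z = Points.map (BasedFunctor.comp (AlgSt.overMap (c τ)) w)
      (Points.ofChart (BasedFunctor.id (overCat (V τ))) (t τ)) := by
  obtain ⟨ω', rfl⟩ := isSurjective_of_repByAlgSpWith h𝒵 w hwsurj z
  have h1 : ω' = Points.ofChart (BasedFunctor.id (overCat W)) (slicePt W ω') := by
    rw [← slicePt_symm_apply, Equiv.symm_apply_apply]
  refine ⟨slicePt W ω', ?_⟩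
  rw [map_ofChart]
  change _ = Points.ofChart (BasedFunctor.comp (AlgSt.overMap (c (slicePt W ω'))) w) (t (slicePt W ω'))
  rw [ofChart_overMap, ht]
  conv_lhs => rw [h1]
  rfl

/-- **Sections of gerbes**: a section `s` of a morphism `π` of algebraic stacks which is locally surjective on
morphisms is flat, locally of finite presentation and surjective. -/
theorem section_fppf {𝒵 𝒯 : AlgSt.Cat S} (h𝒵 : AlgSt.IsAlgStack Scheme.fppfPrecoverage 𝒵)
    (h𝒯 : AlgSt.IsAlgStack Scheme.fppfPrecoverage 𝒯) (π : 𝒵 ⥤ᵇ 𝒯)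
    (hπ : Gerb.LocSurjHom (QuotSh.J Scheme.fppfPrecoverage S) π) (s : 𝒯 ⥤ᵇ 𝒵)
    (e : BasedFunctor.comp s π ≅ BasedFunctor.id 𝒯) :
    AlgSt.RepByAlgSpWith (Fppf (S := S)) s ∧ AlgSt.IsSurjective s := by
  obtain ⟨W, w, hwsm, hwsurj⟩ := h𝒵.atlas
  have hZ : IsFibGrpd 𝒵.p := h𝒵.isStack.1
  have hT : IsFibGrpd 𝒯.p := h𝒯.isStack.1
  have hs1 : AlgSt.RepByAlgSp1 s :=
    (repByAlgSp1_iff_top _).2 (Groth.Agent.Lib.helper4.AlgStGraph.repByAlgSpWith_section ⊤ π s e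
      ((repByAlgSp1_iff_top _).1 (Groth.Agent.Lib.helper4.AlgStCancel.repByAlgSp1_diag_of_isAlgStack h𝒵 h𝒯 π)))
  have β : BasedFunctor.comp w π ≅
      BasedFunctor.comp (BasedFunctor.comp (BasedFunctor.comp w π) s) π :=
    (whiskerLeftIso (BasedFunctor.comp w π) e).symm
  obtain ⟨R, hR, hRc⟩ := exists_sieve_iso hZ π hπ w (BasedFunctor.comp (BasedFunctor.comp w π) s) β
  have hex : ∀ τ : ↥W.left, ∃ (V : Over S) (c : V ⟶ W) (t : ↥V.left), c.left t = τ ∧ Flat c.left ∧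
      LocallyOfFinitePresentation c.left ∧ Nonempty (BasedFunctor.comp (AlgSt.overMap c) w ≅
        BasedFunctor.comp (BasedFunctor.comp (AlgSt.overMap c) (BasedFunctor.comp w π)) s) := by
    intro τ
    obtain ⟨V, c, t, hRc', ht, hfl, hlfp⟩ :=
      Groth.Agent.Lib.Helper14.AlgSpQuot.exists_flat_mem_of_mem_J R hR τ
    exact ⟨V, c, t, ht, hfl, hlfp, hRc c hRc'⟩
  choose V c t ht hfl hlfp hiso using hex
  have hV : ∀ τ, IsFibGrpd (overCat (V τ)).p := fun τ => Groth.Agent.FibOver.isFibGrpd_overCat (V τ)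
  have hW : IsFibGrpd (overCat W).p := Groth.Agent.FibOver.isFibGrpd_overCat W
  -- the composites `V τ ⟶ W ⟶ 𝒵` are flat and locally finitely presented
  have hcw_fl : ∀ τ, AlgSt.RepByAlgSpWith (AlgSp.LocP @Flat) (BasedFunctor.comp (AlgSt.overMap (c τ)) w) :=
    fun τ => flat_comp (hV τ) hW hZ _ _ (locP_overMap locPData_flat (c τ) (hfl τ))
      (Groth.Agent.Lib.helper4.AlgStDiagLFT.flat_of_smooth w hwsm)
  have hcw_lfp : ∀ τ, AlgSt.RepByAlgSpWith (AlgSp.LocP @LocallyOfFinitePresentation)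
      (BasedFunctor.comp (AlgSt.overMap (c τ)) w) :=
    fun τ => lfp_comp (hV τ) hW hZ _ _ (locP_overMap locPData_lfp (c τ) (hlfp τ))
      (Groth.Agent.Lib.helper4.AlgStDiagLFT.lfp_of_smooth w hwsm)
  -- transported along the local isomorphisms
  have hgs_fl : ∀ τ, AlgSt.RepByAlgSpWith (AlgSp.LocP @Flat)
      (BasedFunctor.comp (BasedFunctor.comp (AlgSt.overMap (c τ)) (BasedFunctor.comp w π)) s) :=
    fun τ => (Groth.Agent.Lib.helper4.AlgStFpAlg.repByAlgSpWith_congr _ (hiso τ).some).1 (hcw_fl τ)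
  have hgs_lfp : ∀ τ, AlgSt.RepByAlgSpWith (AlgSp.LocP @LocallyOfFinitePresentation)
      (BasedFunctor.comp (BasedFunctor.comp (AlgSt.overMap (c τ)) (BasedFunctor.comp w π)) s) :=
    fun τ => (Groth.Agent.Lib.helper4.AlgStFpAlg.repByAlgSpWith_congr _ (hiso τ).some).1 (hcw_lfp τ)
  have hg1 : ∀ τ, AlgSt.RepByAlgSp1 (BasedFunctor.comp (AlgSt.overMap (c τ)) (BasedFunctor.comp w π)) :=
    fun τ => repByAlgSp1_of_diag h𝒯.diag (V τ) _
  -- cancelling the section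
  have hg_fl : ∀ τ, AlgSt.RepByAlgSpWith (AlgSp.LocP @Flat)
      (BasedFunctor.comp (AlgSt.overMap (c τ)) (BasedFunctor.comp w π)) :=
    fun τ => repByAlgSpWith_of_comp_section locPData_flat
      Groth.Agent.Lib.helper4.AlgSpRetract.schRetractProp_flat π s e _ (hg1 τ) (hgs_fl τ)
  have hg_lfp : ∀ τ, AlgSt.RepByAlgSpWith (AlgSp.LocP @LocallyOfFinitePresentation)
      (BasedFunctor.comp (AlgSt.overMap (c τ)) (BasedFunctor.comp w π)) :=
    fun τ => repByAlgSpWith_of_comp_section locPData_lfp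
      Groth.Agent.Lib.helper4.AlgSpRetract.schRetractProp_lfp π s e _ (hg1 τ) (hgs_lfp τ)
  -- surjectivity of `s`
  have hsurj : AlgSt.IsSurjective s := by
    intro z
    obtain ⟨τ, rfl⟩ := exists_chart_point hZ w hwsurj V c t ht z
    refine ⟨Points.map (BasedFunctor.comp (AlgSt.overMap (c τ)) (BasedFunctor.comp w π))
      (Points.ofChart (BasedFunctor.id (overCat (V τ))) (t τ)), ?_⟩
    rw [← map_comp, ← map_congr_iso (hiso τ).some]
  refine ⟨?_, hsurj⟩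
  refine of_comp_cover_fam (ι := ↥W.left) (𝒳 := fun τ => overCat (V τ)) hV hT (Fppf (S := S)) isoInv_fppf
    isLocalOnSource_fppf (fun τ => BasedFunctor.comp (AlgSt.overMap (c τ)) (BasedFunctor.comp w π)) s hs1
    (fun τ => repByAlgSpWith_and _ (isoInv_locP _) (hg_fl τ) (hg_lfp τ)) ?_
    (fun τ => repByAlgSpWith_and _ (isoInv_locP _) (hgs_fl τ) (hgs_lfp τ))
  intro p
  obtain ⟨τ, hτ⟩ := exists_chart_point hZ w hwsurj V c t ht (Points.map s p)
  refine ⟨τ, Points.ofChart (BasedFunctor.id (overCat (V τ))) (t τ), ?_⟩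
  have h2 := congrArg (Points.map π) hτ
  rw [← map_comp, map_congr_iso e, map_id] at h2
  rw [h2, ← map_comp]
  rfl

/-- **The diagonal of a gerbe**: if `f` is locally surjective on morphisms then its diagonal is flat, locally of
finite presentation and surjective. -/
theorem diag_fppf {𝒳 𝒴 : AlgSt.Cat S} (h𝒳 : AlgSt.IsAlgStack Scheme.fppfPrecoverage 𝒳)
    (h𝒴 : AlgSt.IsAlgStack Scheme.fppfPrecoverage 𝒴) (f : 𝒳 ⥤ᵇ 𝒴)
    (hf : Gerb.LocSurjHom (QuotSh.J Scheme.fppfPrecoverage S) f) :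
    AlgSt.RepByAlgSpWith (Fppf (S := S)) (FibCat.diag f) ∧ AlgSt.IsSurjective (FibCat.diag f) :=
  section_fppf (isAlgStack_fp' h𝒳 h𝒳 h𝒴 f f) h𝒳 (fpFst f f)
    (locSurjHom_fpFst _ f f h𝒳.isStack.1 h𝒴.isStack.1 hf) (FibCat.diag f)
    (Iso.refl _ : BasedFunctor.comp (FibCat.diag f) (fpFst f f) ≅ BasedFunctor.id 𝒳)

theorem fppf_flat {𝒳 𝒴 : AlgSt.Cat S} {f : 𝒳 ⥤ᵇ 𝒴} (h : AlgSt.RepByAlgSpWith (Fppf (S := S)) f) :
    AlgSt.RepByAlgSpWith (AlgSp.LocP @Flat) f :=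
  Groth.Agent.Lib.helper4.AlgStCancel.repByAlgSpWith_mono f (fun _ _ _ h => h.1) h

theorem fppf_lfp {𝒳 𝒴 : AlgSt.Cat S} {f : 𝒳 ⥤ᵇ 𝒴} (h : AlgSt.RepByAlgSpWith (Fppf (S := S)) f) :
    AlgSt.RepByAlgSpWith (AlgSp.LocP @LocallyOfFinitePresentation) f :=
  Groth.Agent.Lib.helper4.AlgStCancel.repByAlgSpWith_mono f (fun _ _ _ h => h.2) h

end Groth.Agent.Lib.helper4.GerbSection
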