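import Mathlib
import Groth.Agent.Lib.Helper4.GerbSection
import Groth.Agent.Lib.Helper4.AlgStDescentFam
import Groth.Agent.Lib.Helper4.AlgStSmLoc

/-!
# Gerbes are flat and locally of finite presentation (helper4)
-/

set_option backward.isDefEq.respectTransparency false
set_option backward.isDefEq.respectTransparency.types false
set_option autoImplicit false
set_option linter.style.haveILetI false
set_option linter.unusedSectionVars false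
set_option linter.unusedVariables false
set_option linter.unusedSimpArgs false

universe u

open CategoryTheory CategoryTheory.Limits AlgebraicGeometry
open AlgSt Opposite

namespace Groth.Agent.Lib.helper4.GerbSection

open Groth.Agent.FibEquiv Groth.Agent.FibYoneda FibCat Groth.Agent.Lib.helper4.FibPaste Groth.Agent.Lib.helper4.AlgStEquiv
open Groth.Agent.FibFpProj Groth.Agent.Lib.helper4.AlgStLocQ Groth.Agent.Lib.helper4.SmLocalST
open Groth.Agent.Lib.helper4.AlgStSource Groth.Agent.Lib.helper4.AlgStSelf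
open Groth.Agent.Lib.helper4.AlgStPts Groth.Agent.Lib.helper4.PointsBasic Groth.Agent.Lib.helper5.LocPBC
open Groth.Agent.Lib.helper4.AlgStLocSurj Groth.Agent.Lib.helper4.AlgStDiag
open Groth.Agent.Lib.helper4.AlgStSourceFam Groth.Agent.Lib.helper4.AlgStSectionR
open Groth.Agent.Lib.helper4.AlgStNoethDiag Groth.Agent.Lib.helper4.GerbBC

variable {S : Scheme.{u}}

/-- **Local sections from local surjectivity on objects**: every functor out of a slice lifts along `f` on the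
members of a covering sieve. -/
theorem exists_sieve_lift {𝒳 𝒴 : AlgSt.Cat S} (h𝒳 : IsFibGrpd 𝒳.p) (h𝒴 : IsFibGrpd 𝒴.p) (f : 𝒳 ⥤ᵇ 𝒴)
    (hf : Gerb.LocSurjObj (QuotSh.J Scheme.fppfPrecoverage S) f) {T : Over S} (y : overCat T ⥤ᵇ 𝒴) :
    ∃ R ∈ QuotSh.J Scheme.fppfPrecoverage S T, ∀ ⦃V : Over S⦄ (c : V ⟶ T), R c →
      ∃ s' : overCat V ⥤ᵇ 𝒳, Nonempty (BasedFunctor.comp s' f ≅ BasedFunctor.comp (AlgSt.overMap c) y) := by
  have hy₀ : 𝒴.p.obj (y.obj (Over.mk (𝟙 T))) = T := y.w_obj (Over.mk (𝟙 T))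
  obtain ⟨R, hR, hRf⟩ := hf (y.obj (Over.mk (𝟙 T)))
  refine ⟨R.pullback (eqToHom hy₀.symm), (QuotSh.J Scheme.fppfPrecoverage S).pullback_stable _ hR, ?_⟩
  intro V c hc
  obtain ⟨ξ, g, hg⟩ := hRf (c ≫ eqToHom hy₀.symm) hc
  have hg' : 𝒴.p.IsHomLift c g := isHomLift_of_comp_eqToHom 𝒴.p hy₀ c g hg
  have hV : 𝒳.p.obj ξ = V := (f.w_obj ξ).symm.trans (IsHomLift.domain_eq 𝒴.p c g)
  subst hV
  haveI hfib : 𝒳.p.IsFibered := Groth.Agent.FibFiberwise.isFibered_of_isFibGrpd _ h𝒳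
  refine ⟨yBased ξ, ?_⟩
  obtain ⟨e0, he0⟩ := yBased_id_iso ξ
  let m : (Over.map c).obj (Over.mk (𝟙 (𝒳.p.obj ξ))) ⟶ Over.mk (𝟙 T) := Over.homMk c (by simp)
  have hm : (overCat T).p.IsHomLift c m := hom_isHomLift (U := T) m
  have hym : 𝒴.p.IsHomLift c (y.map m) := inferInstance
  haveI := h𝒴
  obtain ⟨ι₁, hι₁⟩ := exists_iso_of_lifts 𝒴.p c g (y.map m)
  have hfe0 : 𝒴.p.IsHomLift (𝟙 (𝒳.p.obj ξ)) (f.map e0.hom) := inferInstance
  refine exists_iso_of_app_id h𝒴 (U := 𝒳.p.obj ξ) (G := BasedFunctor.comp (yBased ξ) f)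
    (H := BasedFunctor.comp (AlgSt.overMap c) y) (f.toFunctor.mapIso e0 ≪≫ ι₁) ?_
  have : 𝒴.p.IsHomLift (𝟙 (𝒳.p.obj ξ) ≫ 𝟙 (𝒳.p.obj ξ)) (f.map e0.hom ≫ ι₁.hom) := inferInstance
  simpa using this

/-- **A gerbe with a section is flat and locally finitely presented on charts**: the composite of a flat, locally
finitely presented morphism `l` to the source with the structure morphism `π` is flat and locally finitely
presented. -/
theorem comp_fppf_of_section {𝒰 𝒵 𝒯 : AlgSt.Cat S} (h𝒰 : IsFibGrpd 𝒰.p)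
    (h𝒵 : AlgSt.IsAlgStack Scheme.fppfPrecoverage 𝒵) (h𝒯 : AlgSt.IsAlgStack Scheme.fppfPrecoverage 𝒯)
    (π : 𝒵 ⥤ᵇ 𝒯) (hπ : Gerb.LocSurjHom (QuotSh.J Scheme.fppfPrecoverage S) π) (σ : 𝒯 ⥤ᵇ 𝒵)
    (e : BasedFunctor.comp σ π ≅ BasedFunctor.id 𝒯) (l : 𝒰 ⥤ᵇ 𝒵)
    (hl : AlgSt.RepByAlgSpWith (Fppf (S := S)) l) (h1 : AlgSt.RepByAlgSp1 (BasedFunctor.comp l π)) :
    AlgSt.RepByAlgSpWith (Fppf (S := S)) (BasedFunctor.comp l π) := by
  have hZ : IsFibGrpd 𝒵.p := h𝒵.isStack.1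
  have hT : IsFibGrpd 𝒯.p := h𝒯.isStack.1
  obtain ⟨hσ, hσs⟩ := section_fppf h𝒵 h𝒯 π hπ σ e
  have hσs' : AlgSt.RepByAlgSpWith AlgSp.IsSurjectiveMor σ :=
    repByAlgSpWith_of_isSurjective hT hZ σ (Groth.Agent.Lib.helper4.AlgStFull.repByAlgSp1_of_with _ _ hσ) hσs
  have hx : AlgSt.RepByAlgSpWith (fun _ _ s => Fppf (S := S) s ∧ AlgSp.IsSurjectiveMor s) (fpFst l σ) :=
    Groth.Agent.Lib.helper4.AlgStDiagBC.repByAlgSpWith_fpFst _ σ l
      (repByAlgSpWith_and σ isoInv_isSurjectiveMor hσ hσs')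
  have hsnd : AlgSt.RepByAlgSpWith (Fppf (S := S)) (fpSnd l σ) :=
    Groth.Agent.Lib.helper4.AlgStFpAlg.repByAlgSpWith_fpSnd hT hZ h𝒰 _ l σ hl
  have i : BasedFunctor.comp (fpFst l σ) (BasedFunctor.comp l π) ≅ fpSnd l σ :=
    Groth.Agent.Lib.helper4.AlgStRep.whiskerRightIso (fpIso l σ) π ≪≫ whiskerLeftIso (fpSnd l σ) e
  exact of_comp_cover (isFibGrpd_fp l σ h𝒰 hT hZ) h𝒰 (Fppf (S := S)) isoInv_fppf AlgSp.IsFppfCover
    isLocalOnSource_fppf (fun _ _ s => Fppf (S := S) s ∧ AlgSp.IsSurjectiveMor s)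
    (isoInv_and isoInv_fppf isoInv_isSurjectiveMor)
    (isLocalOnBase_and isLocalOnBase_fppf isLocalOnBase_isSurjectiveMor)
    (fun s hs => ⟨fun _ => hs.1, fun pt => ⟨PUnit.unit, hs.2 pt⟩⟩)
    (fpFst l σ) (BasedFunctor.comp l π) h1 hx
    ((Groth.Agent.Lib.helper4.AlgStFpAlg.repByAlgSpWith_congr _ i).2 hsnd)

/-- **Gerbes are flat and locally finitely presented on charts**: if `f` makes `𝒳` a gerbe over `𝒴` and `x` is a
flat, locally finitely presented morphism to `𝒳` whose composite with `f` is representable by algebraic spaces, then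
that composite is flat and locally finitely presented. -/
theorem comp_fppf_of_gerbe {𝒰 𝒳 𝒴 : AlgSt.Cat S} (h𝒰 : IsFibGrpd 𝒰.p)
    (h𝒳 : AlgSt.IsAlgStack Scheme.fppfPrecoverage 𝒳) (h𝒴 : AlgSt.IsAlgStack Scheme.fppfPrecoverage 𝒴)
    (f : 𝒳 ⥤ᵇ 𝒴) (hf : Gerb.IsGerbeOver (QuotSh.J Scheme.fppfPrecoverage S) f) (x : 𝒰 ⥤ᵇ 𝒳)
    (hx : AlgSt.RepByAlgSpWith (Fppf (S := S)) x) (hg : AlgSt.RepByAlgSp1 (BasedFunctor.comp x f)) :
    AlgSt.RepByAlgSpWith (Fppf (S := S)) (BasedFunctor.comp x f) := by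
  have hX : IsFibGrpd 𝒳.p := h𝒳.isStack.1
  have hY : IsFibGrpd 𝒴.p := h𝒴.isStack.1
  intro T y
  obtain ⟨X, eX, heX⟩ := hg T y
  refine ⟨X, eX, heX, ?_⟩
  obtain ⟨R, hR, hRl⟩ := exists_sieve_lift hX hY f hf.1 y
  refine Groth.Agent.Lib.helper4.AlgStDescentFam.descent_sieve (Fppf (S := S)) isLocalOnBase_fppf
    (BasedFunctor.comp x f) y X eX heX R hR ?_
  intro V c hc
  obtain ⟨s', ⟨ι⟩⟩ := hRl c hc
  have hVa : AlgSt.IsAlgStack Scheme.fppfPrecoverage (overCat V) := isAlgStack_overCat V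
  have hVf : IsFibGrpd (overCat V).p := Groth.Agent.FibOver.isFibGrpd_overCat V
  have h𝒵' : AlgSt.IsAlgStack Scheme.fppfPrecoverage (fp (BasedFunctor.comp (AlgSt.overMap c) y) f) :=
    isAlgStack_fp' hVa h𝒳 h𝒴 _ f
  have hπ' : Gerb.LocSurjHom (QuotSh.J Scheme.fppfPrecoverage S)
      (fpFst (BasedFunctor.comp (AlgSt.overMap c) y) f) :=
    locSurjHom_fpFst _ (BasedFunctor.comp (AlgSt.overMap c) y) f hVf hY hf.2
  let σ : overCat V ⥤ᵇ fp (BasedFunctor.comp (AlgSt.overMap c) y) f :=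
    fpLift (BasedFunctor.id (overCat V)) s' ι.symm
  have e : BasedFunctor.comp σ (fpFst (BasedFunctor.comp (AlgSt.overMap c) y) f) ≅
      BasedFunctor.id (overCat V) := Iso.refl _
  have hl' : AlgSt.RepByAlgSpWith (Fppf (S := S))
      (fpFst (fpSnd (BasedFunctor.comp (AlgSt.overMap c) y) f) x) :=
    Groth.Agent.Lib.helper4.AlgStDiagBC.repByAlgSpWith_fpFst _ x _ hx
  have hfib : IsFibGrpd (fp (fpSnd (BasedFunctor.comp (AlgSt.overMap c) y) f) x).p :=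
    isFibGrpd_fp _ _ h𝒵'.isStack.1 h𝒰 hX
  have hbc1 : AlgSt.RepByAlgSp1 (fpFst (BasedFunctor.comp (AlgSt.overMap c) y) (BasedFunctor.comp x f)) :=
    (repByAlgSp1_iff_top _).2 (Groth.Agent.Lib.helper4.AlgStDiagBC.repByAlgSpWith_fpFst ⊤
      (BasedFunctor.comp x f) _ ((repByAlgSp1_iff_top _).1 hg))
  have h1 : AlgSt.RepByAlgSp1 (BasedFunctor.comp (fpFst (fpSnd (BasedFunctor.comp (AlgSt.overMap c) y) f) x)
      (fpFst (BasedFunctor.comp (AlgSt.overMap c) y) f)) :=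
    (repByAlgSp1_iff_top _).2 ((Groth.Agent.Lib.helper4.AlgStSmLoc.repByAlgSpWith_precomp_iff ⊤ _
      (pasteR (BasedFunctor.comp (AlgSt.overMap c) y) f x) (pasteR_isEquivOver _ _ _)).1
      ((repByAlgSp1_iff_top _).1 hbc1))
  have h2 := comp_fppf_of_section hfib h𝒵' hVa _ hπ' σ e _ hl' h1
  have h3 : AlgSt.RepByAlgSpWith (Fppf (S := S))
      (fpFst (BasedFunctor.comp (AlgSt.overMap c) y) (BasedFunctor.comp x f)) :=
    (Groth.Agent.Lib.helper4.AlgStSmLoc.repByAlgSpWith_precomp_iff _ _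
      (pasteR (BasedFunctor.comp (AlgSt.overMap c) y) f x) (pasteR_isEquivOver _ _ _)).2 h2
  obtain ⟨F, eF, heF⟩ := exists_rep_of_repByAlgSpWith _ _ h3
  exact ⟨F, eF, heF, spMapOfOver_of_repByAlgSpWith _ isoInv_fppf _ h3 F eF heF⟩

/-- a property read on one chart square passes from `x ≫ f` to `f` when `x` is a smooth surjective chart -/
theorem locQ_of_comp_atlas {𝒳 𝒴 : AlgSt.Cat S} (h𝒳 : IsFibGrpd 𝒳.p) (P : MorphismProperty (AlgSp.Sp S))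
    (f : 𝒳 ⥤ᵇ 𝒴) {U : Over S} (x : overCat U ⥤ᵇ 𝒳) (hx : AlgSt.RepByAlgSpWith (AlgSp.LocP @Smooth) x)
    (hxs : AlgSt.RepByAlgSpWith AlgSp.IsSurjectiveMor x) (h : AlgSt.LocQ P (BasedFunctor.comp x f)) :
    AlgSt.LocQ P f := by
  obtain ⟨U', V, x', y, k, α, hx', hxs', hy, hP⟩ := h
  have hU : IsFibGrpd (overCat U).p := Groth.Agent.FibOver.isFibGrpd_overCat U
  have hU' : IsFibGrpd (overCat U').p := Groth.Agent.FibOver.isFibGrpd_overCat U'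
  exact ⟨U', V, BasedFunctor.comp x' x, y, k, α,
    Groth.Agent.Lib.helper4.AlgStSmLoc.smooth_comp hU' hU h𝒳 x' x hx' hx,
    Groth.Agent.Lib.helper4.AlgStSmLoc.surj_comp hU' hU h𝒳 x' x hxs' hxs, hy, hP⟩

/-- **Gerbes are flat and locally of finite presentation.** -/
theorem locQ_fppf_of_gerbe {𝒳 𝒴 : AlgSt.Cat S}
    (h𝒳 : AlgSt.IsAlgStack Scheme.fppfPrecoverage 𝒳) (h𝒴 : AlgSt.IsAlgStack Scheme.fppfPrecoverage 𝒴)
    (f : 𝒳 ⥤ᵇ 𝒴) (hf : Gerb.IsGerbeOver (QuotSh.J Scheme.fppfPrecoverage S) f) :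
    AlgSt.LocQ (AlgSp.LocP @Flat) f ∧ AlgSt.LocQ (AlgSp.LocP @LocallyOfFinitePresentation) f := by
  obtain ⟨U, x, hx, hxs⟩ := h𝒳.atlas
  have hU : IsFibGrpd (overCat U).p := Groth.Agent.FibOver.isFibGrpd_overCat U
  have hUa : AlgSt.IsAlgStack Scheme.fppfPrecoverage (overCat U) := isAlgStack_overCat U
  have hg1 : AlgSt.RepByAlgSp1 (BasedFunctor.comp x f) := repByAlgSp1_of_diag h𝒴.diag U _
  have hxF : AlgSt.RepByAlgSpWith (Fppf (S := S)) x :=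
    repByAlgSpWith_and x (isoInv_locP _) (Groth.Agent.Lib.helper4.AlgStDiagLFT.flat_of_smooth x hx)
      (Groth.Agent.Lib.helper4.AlgStDiagLFT.lfp_of_smooth x hx)
  have hg := comp_fppf_of_gerbe hU h𝒳 h𝒴 f hf x hxF hg1
  exact ⟨locQ_of_comp_atlas h𝒳.isStack.1 _ f x hx hxs
      (locQ_locP_of_repByAlgSpWith hUa h𝒴 _ locPData_flat (fppf_flat hg)),
    locQ_of_comp_atlas h𝒳.isStack.1 _ f x hx hxs
      (locQ_locP_of_repByAlgSpWith hUa h𝒴 _ locPData_lfp (fppf_lfp hg))⟩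

/-- a morphism locally surjective on objects is surjective on points -/
theorem isSurjective_of_locSurjObj {𝒳 𝒴 : AlgSt.Cat S} (h𝒳 : IsFibGrpd 𝒳.p) (h𝒴 : IsFibGrpd 𝒴.p) (f : 𝒳 ⥤ᵇ 𝒴)
    (hf : Gerb.LocSurjObj (QuotSh.J Scheme.fppfPrecoverage S) f) : AlgSt.IsSurjective f := by
  intro z
  obtain ⟨p, rfl⟩ := Points.mk_surjective z
  obtain ⟨T, y, t, ht⟩ := exists_ofChart_eq_mk h𝒴 p
  obtain ⟨R, hR, hRl⟩ := exists_sieve_lift h𝒳 h𝒴 f hf y
  obtain ⟨V, c, v, hc, hv, -, -⟩ := Groth.Agent.Lib.Helper14.AlgSpQuot.exists_flat_mem_of_mem_J R hR t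
  obtain ⟨s', ⟨ι⟩⟩ := hRl c hc
  refine ⟨Points.ofChart s' v, ?_⟩
  rw [← ht, map_ofChart, ofChart_congr ι, ofChart_overMap, hv]

/-- local surjectivity on objects of the diagonal is local surjectivity on morphisms -/
theorem locSurjHom_of_locSurjObj_diag {𝒳 𝒴 : AlgSt.Cat S} (h𝒴 : IsFibGrpd 𝒴.p) (f : 𝒳 ⥤ᵇ 𝒴)
    (h : Gerb.LocSurjObj (QuotSh.J Scheme.fppfPrecoverage S) (FibCat.diag f)) :
    Gerb.LocSurjHom (QuotSh.J Scheme.fppfPrecoverage S) f := by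
  intro x x' b hb
  haveI : IsIso b := Groth.Agent.Lib.helper4.Descent.isIso_of_lift h𝒴 (𝟙 (𝒳.p.obj x)) b
  let ξ : (fp f f).obj := ⟨⟨x, x', asIso b⟩, hb⟩
  obtain ⟨R, hR, hRf⟩ := h ξ
  refine ⟨R, hR, ?_⟩
  intro V c hc
  obtain ⟨x₀, g, hg⟩ := hRf c hc
  have h1 : 𝒳.p.IsHomLift c ((fpFst f f).map g) := inferInstance
  have h2 : 𝒳.p.IsHomLift c ((fpSnd f f).map g) := inferInstance
  refine ⟨x₀, g.hom.fst, g.hom.snd, h1, h2, ?_⟩
  have hw := g.hom.w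
  have h3 : f.toFunctor.map g.hom.fst ≫ b = 𝟙 _ ≫ f.toFunctor.map g.hom.snd := hw
  rw [Category.id_comp] at h3
  exact h3

/-- **Characterisation of gerbes** (S16860): `f` makes `𝒳` a gerbe over `𝒴` iff `f` and its diagonal are surjective,
flat and locally of finite presentation. -/
theorem isGerbeOver_iff {𝒳 𝒴 : AlgSt.Cat S}
    (h𝒳 : AlgSt.IsAlgStack Scheme.fppfPrecoverage 𝒳) (h𝒴 : AlgSt.IsAlgStack Scheme.fppfPrecoverage 𝒴)
    (f : 𝒳 ⥤ᵇ 𝒴) :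
    Gerb.IsGerbeOver (QuotSh.J Scheme.fppfPrecoverage S) f ↔
      (AlgSt.IsSurjective f ∧ AlgSt.LocQ (AlgSp.LocP @Flat) f ∧
        AlgSt.LocQ (AlgSp.LocP @LocallyOfFinitePresentation) f) ∧
      (AlgSt.IsSurjective (FibCat.diag f) ∧ AlgSt.LocQ (AlgSp.LocP @Flat) (FibCat.diag f) ∧
        AlgSt.LocQ (AlgSp.LocP @LocallyOfFinitePresentation) (FibCat.diag f)) := by
  have hfp : AlgSt.IsAlgStack Scheme.fppfPrecoverage (fp f f) := isAlgStack_fp' h𝒳 h𝒳 h𝒴 f f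
  constructor
  · intro hf
    obtain ⟨h1, h2⟩ := locQ_fppf_of_gerbe h𝒳 h𝒴 f hf
    obtain ⟨h3, h4⟩ := diag_fppf h𝒳 h𝒴 f hf.2
    exact ⟨⟨isSurjective_of_locSurjObj h𝒳.isStack.1 h𝒴.isStack.1 f hf.1, h1, h2⟩, h4,
      locQ_locP_of_repByAlgSpWith h𝒳 hfp _ locPData_flat (fppf_flat h3),
      locQ_locP_of_repByAlgSpWith h𝒳 hfp _ locPData_lfp (fppf_lfp h3)⟩
  · rintro ⟨⟨h1, h2, h3⟩, h4, h5, h6⟩
    exact ⟨Groth.Agent.Lib.helper4.GerbDescFppf.locSurjObj_of_locQ h𝒳 h𝒴 f h1 h2 h3,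
      locSurjHom_of_locSurjObj_diag h𝒴.isStack.1 f
        (Groth.Agent.Lib.helper4.GerbDescFppf.locSurjObj_of_locQ h𝒳 hfp _ h4 h5 h6)⟩

end Groth.Agent.Lib.helper4.GerbSection
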