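import Mathlib
import Groth.Prelude.Def_StGerb2
import Groth.Agent.Lib.Helper4.GerbSection2
import Groth.Agent.Lib.Helper4.AlgStInertia
import Groth.Agent.Lib.Helper4.AlgStLocQ9
import Groth.Agent.Lib.Helper4.GerbLocal

/-!
# The automorphism group scheme of a point as a base change of the inertia (helper4)

For a point `x : (Sch/U) ⟶ 𝒳` whose automorphism presheaf is represented by a group scheme `G` over `U`
(`Gerb.AutRep x (Gerb.ptsGrp U G)`), the slice of the total space of `G` is equivalent over `(Sch/U)` to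
`(Sch/U) ×_𝒳 I_f` for every `f : 𝒳 ⟶ 𝒴` killing all automorphisms over identities.
-/

set_option backward.isDefEq.respectTransparency false
set_option backward.isDefEq.respectTransparency.types false
set_option autoImplicit false
set_option linter.style.haveILetI false
set_option linter.unusedSectionVars false
set_option linter.unusedVariables false
set_option linter.unusedSimpArgs false

universe u

open CategoryTheory CategoryTheory.Limits AlgebraicGeometry
open AlgSt Opposite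

namespace Groth.Agent.Lib.helper4.GerbAut

open Groth.Agent.FibEquiv Groth.Agent.FibYoneda FibCat Groth.Agent.Lib.helper4.FibPaste Groth.Agent.Lib.helper4.AlgStEquiv
open Groth.Agent.FibFpProj Groth.Agent.Lib.helper4.DiagBC

variable {S : Scheme.{u}} {𝒳 𝒴 : AlgSt.Cat S}

/-- the underlying automorphism of an element of `Gerb.AutO` -/
def autIso {y : 𝒳.obj} (α : Gerb.AutO y) : y ≅ y where
  hom := α.hom.1
  inv := α.inv.1
  hom_inv_id := congrArg Subtype.val α.hom_inv_id
  inv_hom_id := congrArg Subtype.val α.inv_hom_id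

theorem autIso_isHomLift {y : 𝒳.obj} (α : Gerb.AutO y) : 𝒳.p.IsHomLift (𝟙 (𝒳.p.obj y)) (autIso α).hom :=
  α.hom.2

variable (U : Over S) (G : Over U.left) [GrpObj G]

/-- the total space of `G` as a scheme over `S` -/
def tot : Over S := Over.mk (G.hom ≫ U.hom)

/-- the structure morphism of the total space -/
def str : tot U G ⟶ U := Over.homMk G.hom rfl

/-- the point of `G` attached to an object of the slice over the total space -/
def pt (T' : Over (tot U G)) : (Over.iteratedSliceForward U).obj ((Over.map (str U G)).obj T') ⟶ G :=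
  Over.homMk T'.hom.left rfl

theorem map_pt {T'₁ T'₂ : Over (tot U G)} (h : T'₁ ⟶ T'₂) :
    (Over.iteratedSliceForward U).map ((Over.map (str U G)).map h) ≫ pt U G T'₂ = pt U G T'₁ := by
  ext
  have := congrArg CommaMorphism.left (Over.w h)
  exact this


variable {U G}
variable (x : FibCat.overCat U ⥤ᵇ 𝒳) (r : Gerb.AutRep x (Gerb.ptsGrp U G)) (f : 𝒳 ⥤ᵇ 𝒴)
  (hker : ∀ (ξ : 𝒳.obj) (α : ξ ⟶ ξ), 𝒳.p.IsHomLift (𝟙 (𝒳.p.obj ξ)) α → f.map α = 𝟙 (f.obj ξ))

/-- the automorphism of `x(T')` attached to the tautological point -/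
noncomputable def tautAut (T' : Over (tot U G)) : x.obj ((Over.map (str U G)).obj T') ≅ x.obj ((Over.map (str U G)).obj T') :=
  autIso (r.iso ((Over.map (str U G)).obj T') (pt U G T'))

theorem tautAut_isHomLift (T' : Over (tot U G)) :
    𝒳.p.IsHomLift (𝟙 (𝒳.p.obj (x.obj ((Over.map (str U G)).obj T')))) (tautAut x r T').hom :=
  autIso_isHomLift _

theorem tautAut_natural {T'₁ T'₂ : Over (tot U G)} (h : T'₁ ⟶ T'₂) :
    (tautAut x r T'₁).hom ≫ x.map ((Over.map (str U G)).map h) =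
      x.map ((Over.map (str U G)).map h) ≫ (tautAut x r T'₂).hom := by
  have h1 := r.natural ((Over.map (str U G)).map h) (pt U G T'₂)
  have h2 : (Gerb.ptsGrp U G).map ((Over.map (str U G)).map h).op (pt U G T'₂) = pt U G T'₁ := map_pt U G h
  rw [h2] at h1
  exact h1

/-- the functor to the inertia -/
noncomputable def toInertia : FibCat.overCat (tot U G) ⥤ᵇ FibCat.inertia f where
  toFunctor :=
    { obj := fun T' => ⟨x.obj ((Over.map (str U G)).obj T'), tautAut x r T', hker _ _ (tautAut_isHomLift x r T')⟩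
      map := fun {T'₁ T'₂} h => ⟨x.map ((Over.map (str U G)).map h), tautAut_natural x r h⟩
      map_id := fun T' => by
        apply FibCat.InertiaObj.hom_ext
        simp
      map_comp := fun h h' => by
        apply FibCat.InertiaObj.hom_ext
        simp }
  w := (BasedFunctor.comp (overMap (str U G)) x).w


/-- the comparison 2-isomorphism (an identity) -/
noncomputable def toInertiaIso :
    BasedFunctor.comp (overMap (str U G)) x ≅
      BasedFunctor.comp (toInertia x r f hker) (FibCat.inertiaToBase f) :=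
  Iso.refl _

/-- the comparison functor `(Sch/G) ⟶ (Sch/U) ×_𝒳 I_f` -/
noncomputable def Ψ : FibCat.overCat (tot U G) ⥤ᵇ FibCat.fp x (FibCat.inertiaToBase f) :=
  FibCat.fpLift (overMap (str U G)) (toInertia x r f hker) (toInertiaIso x r f hker)

/-- the first projection of `Ψ` -/
noncomputable def ΨFst :
    BasedFunctor.comp (Ψ x r f hker) (FibCat.fpFst x (FibCat.inertiaToBase f)) ≅ overMap (str U G) :=
  Iso.refl _


instance Ψ_faithful : (Ψ x r f hker).toFunctor.Faithful where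
  map_injective {T'₁ T'₂} h h' hh := by
    have h1 : ((Ψ x r f hker).toFunctor.map h).hom.fst = ((Ψ x r f hker).toFunctor.map h').hom.fst := by rw [hh]
    have h2 : (Over.map (str U G)).map h = (Over.map (str U G)).map h' := h1
    have h3 := congrArg CommaMorphism.left h2
    exact Over.OverMorphism.ext h3

/-- vertical morphisms with the same composite with a morphism of a category fibred in groupoids agree -/
theorem vert_ext (h𝒳 : FibCat.IsFibGrpd 𝒳.p) {a b : 𝒳.obj} (φ : a ⟶ b) {ψ ψ' : a ⟶ a}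
    (h1 : 𝒳.p.IsHomLift (𝟙 (𝒳.p.obj a)) ψ) (h2 : 𝒳.p.IsHomLift (𝟙 (𝒳.p.obj a)) ψ')
    (h : ψ ≫ φ = ψ' ≫ φ) : ψ = ψ' := by
  haveI := h𝒳.isStronglyCartesian φ
  exact Functor.IsStronglyCartesian.ext 𝒳.p (𝒳.p.map φ) φ (𝟙 (𝒳.p.obj a)) h

theorem autO_ext {y : 𝒳.obj} {α β : Gerb.AutO y} (h : α.hom.1 = β.hom.1) : α = β := by
  apply Aut.ext
  apply Subtype.ext
  exact h

theorem Ψ_full (h𝒳 : FibCat.IsFibGrpd 𝒳.p) : (Ψ x r f hker).toFunctor.Full where
  map_surjective {T'₁ T'₂} m := by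
    -- the components of `m`
    let k : (Over.map (str U G)).obj T'₁ ⟶ (Over.map (str U G)).obj T'₂ := m.hom.fst
    have hw : x.map k = m.hom.snd.hom := by
      have := m.hom.w
      have h2 : x.map k ≫ 𝟙 _ = 𝟙 _ ≫ m.hom.snd.hom := this
      rwa [Category.comp_id, Category.id_comp] at h2
    have hcomm : (tautAut x r T'₁).hom ≫ x.map k = x.map k ≫ (tautAut x r T'₂).hom := by
      rw [hw]; exact m.hom.snd.comm
    have hnat := r.natural k (pt U G T'₂)
    have hpt : (Gerb.ptsGrp U G).map k.op (pt U G T'₂) = pt U G T'₁ := by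
      apply (r.iso ((Over.map (str U G)).obj T'₁)).injective
      apply autO_ext
      refine vert_ext h𝒳 (x.map k) (r.iso _ _).hom.2 (r.iso _ _).hom.2 ?_
      rw [hnat]
      exact hcomm.symm
    have hpt' : (Over.iteratedSliceForward U).map k ≫ pt U G T'₂ = pt U G T'₁ := hpt
    have hl : k.left.left ≫ T'₂.hom.left = T'₁.hom.left := congrArg CommaMorphism.left hpt'
    refine ⟨Over.homMk k.left (by ext; exact hl), ?_⟩
    apply fp_hom_ext
    · change (Over.map (str U G)).map _ = k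
      ext
      rfl
    · apply FibCat.InertiaObj.hom_ext
      change x.map ((Over.map (str U G)).map _) = m.hom.snd.hom
      rw [← hw]
      congr 1


/-- isomorphisms of the inertia from isomorphisms commuting with the automorphisms -/
def inertiaIsoMk {X Y : FibCat.InertiaObj f} (i : X.pt ≅ Y.pt) (comm : X.aut.hom ≫ i.hom = i.hom ≫ Y.aut.hom) :
    X ≅ Y where
  hom := ⟨i.hom, comm⟩
  inv := ⟨i.inv, by
    rw [← cancel_epi i.hom, ← Category.assoc, ← comm, Category.assoc, i.hom_inv_id, Category.comp_id,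
      ← Category.assoc, i.hom_inv_id, Category.id_comp]⟩
  hom_inv_id := FibCat.InertiaObj.hom_ext i.hom_inv_id
  inv_hom_id := FibCat.InertiaObj.hom_ext i.inv_hom_id

theorem map_eq_id_of_ker {ξ : 𝒳.obj} (α : ξ ⟶ ξ) (h : f.map α = 𝟙 (f.obj ξ)) : 𝒳.p.map α = 𝟙 _ := by
  have h1 : 𝒴.p.IsHomLift (𝟙 (𝒳.p.obj ξ)) (f.map α) := by
    rw [h]; exact IsHomLift.id (f.w_obj ξ)
  have h2 : 𝒳.p.IsHomLift (𝟙 (𝒳.p.obj ξ)) α := (BasedFunctor.isHomLift_iff f _ _).1 h1
  have := IsHomLift.fac' 𝒳.p (𝟙 (𝒳.p.obj ξ)) α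
  simpa using this

theorem isHomLift_id_of_map_eq {y : 𝒳.obj} (a : y ⟶ y) (h : 𝒳.p.map a = 𝟙 _) :
    𝒳.p.IsHomLift (𝟙 (𝒳.p.obj y)) a :=
  IsHomLift.of_fac' _ _ _ rfl rfl (by simp [h])

theorem Ψ_essSurj (h𝒳 : FibCat.IsFibGrpd 𝒳.p) (η : (FibCat.fp x (FibCat.inertiaToBase f)).obj) :
    ∃ (T' : (FibCat.overCat (tot U G)).obj) (e : (Ψ x r f hker).toFunctor.obj T' ≅ η),
      (FibCat.fp x (FibCat.inertiaToBase f)).p.IsHomLift
        (𝟙 ((FibCat.fp x (FibCat.inertiaToBase f)).p.obj η)) e.hom := by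
  -- unpack `η`
  let b : Over U := η.obj.fst
  let I : FibCat.InertiaObj f := η.obj.snd
  let φ : x.obj b ≅ I.pt := η.obj.iso
  -- the transported automorphism
  have hα : 𝒳.p.map (φ.hom ≫ I.aut.hom ≫ φ.inv) = 𝟙 _ := by
    rw [Functor.map_comp, Functor.map_comp, map_eq_id_of_ker f I.aut.hom I.map_aut, Category.id_comp,
      ← Functor.map_comp, φ.hom_inv_id]
    exact 𝒳.p.map_id _
  let α' : Gerb.AutO (x.obj b) := Groth.Agent.Lib.helper4.GerbLocal.mkAutO h𝒳 (x.obj b)
    (φ.hom ≫ I.aut.hom ≫ φ.inv) (isHomLift_id_of_map_eq _ hα)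
  let a : (Over.iteratedSliceForward U).obj b ⟶ G := (r.iso b).symm α'
  have ha : a.left ≫ G.hom = b.hom.left := Over.w a
  let t : b.left ⟶ tot U G := Over.homMk a.left (by
    change a.left ≫ G.hom ≫ U.hom = b.left.hom
    rw [← Category.assoc, ha]
    exact Over.w b.hom)
  let T' : Over (tot U G) := Over.mk t
  let i₁ : (Over.map (str U G)).obj T' ≅ b := Over.isoMk (Iso.refl _) (by
    change 𝟙 _ ≫ b.hom = t ≫ str U G
    rw [Category.id_comp]
    ext
    exact ha.symm)
  have hpt : pt U G T' = (Gerb.ptsGrp U G).map i₁.hom.op a := by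
    change pt U G T' = (Over.iteratedSliceForward U).map i₁.hom ≫ a
    ext
    change a.left = 𝟙 _ ≫ a.left
    rw [Category.id_comp]
  have hnat := r.natural i₁.hom a
  rw [← hpt] at hnat
  have hra : (r.iso b a).hom.1 = φ.hom ≫ I.aut.hom ≫ φ.inv := by
    have : r.iso b a = α' := (r.iso b).apply_symm_apply α'
    rw [this]
    rfl
  rw [hra] at hnat
  have hcomm : (tautAut x r T').hom ≫ (x.map i₁.hom ≫ φ.hom) = (x.map i₁.hom ≫ φ.hom) ≫ I.aut.hom := by
    have h1 : (tautAut x r T').hom ≫ x.map i₁.hom = x.map i₁.hom ≫ φ.hom ≫ I.aut.hom ≫ φ.inv := hnat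
    rw [← Category.assoc, h1]
    simp
  let i₂ : (toInertia x r f hker).obj T' ≅ I :=
    inertiaIsoMk f ((x.toFunctor.mapIso i₁) ≪≫ φ) hcomm
  refine ⟨T', fpIsoMk x (FibCat.inertiaToBase f) i₁ i₂ ?_, ?_⟩
  · change x.map i₁.hom ≫ φ.hom = 𝟙 _ ≫ (x.map i₁.hom ≫ φ.hom)
    rw [Category.id_comp]
  · refine IsHomLift.of_fac' _ _ _ rfl rfl ?_
    change (Over.forget U).map i₁.hom = _
    simp [i₁]
    rfl

theorem Ψ_isEquivOver (h𝒳 : FibCat.IsFibGrpd 𝒳.p) : FibCat.IsEquivOver (Ψ x r f hker) := by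
  haveI := Ψ_full x r f hker h𝒳
  exact Groth.Agent.FibEquiv.isEquivOver_of (Ψ x r f hker) (Ψ_essSurj x r f hker h𝒳)


/-- functors to a slice category kill the automorphisms over identities -/
theorem ker_overCat {V : Over S} (π : 𝒳 ⥤ᵇ FibCat.overCat V) (ξ : 𝒳.obj) (α : ξ ⟶ ξ)
    (hα : 𝒳.p.IsHomLift (𝟙 (𝒳.p.obj ξ)) α) : π.map α = 𝟙 (π.obj ξ) := by
  have h1 : (FibCat.overCat V).p.IsHomLift (𝟙 (𝒳.p.obj ξ)) (π.map α) := (BasedFunctor.isHomLift_iff π _ _).2 hα
  have h2 := IsHomLift.fac' (FibCat.overCat V).p (𝟙 (𝒳.p.obj ξ)) (π.map α)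
  apply (Over.forget V).map_injective
  refine Eq.trans (?_ : (Over.forget V).map (π.map α) = 𝟙 _) ((Over.forget V).map_id _).symm
  have h3 : (Over.forget V).map (π.map α) = eqToHom _ ≫ 𝟙 (𝒳.p.obj ξ) ≫ eqToHom _ := h2
  rw [h3]
  simp

open Groth.Agent.Lib.helper4.GerbSection Groth.Agent.Lib.helper4.AlgStSourceFam in
/-- the automorphism group scheme of a section of a gerbe over a scheme is flat and locally of finite
presentation -/
theorem flat_lfp_of_autRep (x : FibCat.overCat U ⥤ᵇ 𝒳) (r : Gerb.AutRep x (Gerb.ptsGrp U G))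
    (h𝒳 : AlgSt.IsAlgStack Scheme.fppfPrecoverage 𝒳)
    (π : 𝒳 ⥤ᵇ FibCat.overCat U) (hπ : Gerb.IsGerbeOver (QuotSh.J Scheme.fppfPrecoverage S) π) :
    Flat G.hom ∧ LocallyOfFinitePresentation G.hom := by
  have hΔ := (diag_fppf h𝒳 (Groth.Agent.Lib.helper4.AlgStSelf.isAlgStack_overCat U) π hπ.2).1
  have hI : AlgSt.RepByAlgSpWith (Fppf (S := S)) (FibCat.inertiaToBase π) :=
    Groth.Agent.Lib.helper4.AlgStInertia.inertiaToBase_of_diag π _ hΔ
  have hfst : AlgSt.RepByAlgSpWith (Fppf (S := S)) (FibCat.fpFst x (FibCat.inertiaToBase π)) :=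
    Groth.Agent.Lib.helper4.AlgStDiagBC.repByAlgSpWith_fpFst _ (FibCat.inertiaToBase π) x hI
  have hΨ := Ψ_isEquivOver x r π (ker_overCat π) h𝒳.isStack.1
  have hstr : AlgSt.RepByAlgSpWith (Fppf (S := S)) (overMap (str U G)) :=
    (Groth.Agent.Lib.helper4.AlgStSmLoc.repByAlgSpWith_precomp_iff _ _ (Ψ x r π (ker_overCat π)) hΨ).1 hfst
  have hyon := Groth.Agent.Lib.helper4.AlgStLocQ.prop_of_repByAlgSpWith_overMap _ isoInv_fppf (str U G) hstr
  exact ⟨AlgSp.locP_yon_map hyon.1, AlgSp.locP_yon_map hyon.2⟩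

end Groth.Agent.Lib.helper4.GerbAut
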