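import Mathlib
import Groth.Agent.Lib.Helper4.GerbAut
import Groth.Agent.Lib.Helper4.AlgStQAffChart
import Groth.Agent.Lib.Helper4.AlgStDiagLFT
import Groth.Agent.Lib.Helper4.QAffGrp3

/-!
# Stabilizer group schemes of field points of stacks with quasi-affine diagonal are affine (helper4)
-/

set_option backward.isDefEq.respectTransparency false
set_option backward.isDefEq.respectTransparency.types false
set_option autoImplicit false
set_option linter.style.haveILetI false
set_option linter.unusedSectionVars false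
set_option linter.unusedVariables false
set_option linter.unusedSimpArgs false

universe u

open CategoryTheory CategoryTheory.Limits AlgebraicGeometry
open AlgSt Opposite

namespace Groth.Agent.Lib.helper4.AlgStAutQAff

open Groth.Agent.Lib.helper4.GerbAut Groth.Agent.Lib.helper4.AlgStSource Groth.Agent.Lib.helper4.PshRep

variable {S : Scheme.{u}} {𝒳 : AlgSt.Cat S}

/-- the structure functor kills the automorphisms over identities -/
theorem ker_toSelf (ξ : 𝒳.obj) (α : ξ ⟶ ξ) (hα : 𝒳.p.IsHomLift (𝟙 (𝒳.p.obj ξ)) α) :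
    (FibCat.toSelf 𝒳).map α = 𝟙 ((FibCat.toSelf 𝒳).obj ξ) := by
  have h2 := IsHomLift.fac' 𝒳.p (𝟙 (𝒳.p.obj ξ)) α
  change 𝒳.p.map α = 𝟙 _
  rw [h2]
  simp

variable {U : Over S} {G : Over U.left} [GrpObj G]

/-- every property of the diagonal over the base passes to the stabilizer group scheme -/
theorem prop_str_of_diag (Q : MorphismProperty (AlgSp.Sp S)) (hQ : IsoInv Q)
    (x : FibCat.overCat U ⥤ᵇ 𝒳) (r : Gerb.AutRep x (Gerb.ptsGrp U G)) (h𝒳 : FibCat.IsFibGrpd 𝒳.p)
    (hΔ : AlgSt.RepByAlgSpWith Q (FibCat.diag (FibCat.toSelf 𝒳))) :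
    Q ((AlgSp.yon S).map (str U G)) := by
  have hI : AlgSt.RepByAlgSpWith Q (FibCat.inertiaToBase (FibCat.toSelf 𝒳)) :=
    Groth.Agent.Lib.helper4.AlgStInertia.inertiaToBase_of_diag _ _ hΔ
  have hfst : AlgSt.RepByAlgSpWith Q (FibCat.fpFst x (FibCat.inertiaToBase (FibCat.toSelf 𝒳))) :=
    Groth.Agent.Lib.helper4.AlgStDiagBC.repByAlgSpWith_fpFst _ (FibCat.inertiaToBase (FibCat.toSelf 𝒳)) x hI
  have hΨ := Ψ_isEquivOver x r (FibCat.toSelf 𝒳) ker_toSelf h𝒳
  have hstr : AlgSt.RepByAlgSpWith Q (overMap (str U G)) :=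
    (Groth.Agent.Lib.helper4.AlgStSmLoc.repByAlgSpWith_precomp_iff _ _ (Ψ x r (FibCat.toSelf 𝒳) ker_toSelf) hΨ).1 hfst
  exact Groth.Agent.Lib.helper4.AlgStLocQ.prop_of_repByAlgSpWith_overMap _ hQ (str U G) hstr

/-- **S16859**: stabilizer group schemes of field points of an algebraic stack with quasi-affine diagonal are affine
and locally of finite type -/
theorem affine_lft_of_autRep (h𝒳 : AlgSt.IsAlgStack Scheme.fppfPrecoverage 𝒳)
    (hΔ : AlgSt.RepByAlgSpWith AlgSp.IsQuasiAffineMor (FibCat.diag (FibCat.toSelf 𝒳)))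
    (k : Type u) [Field k] (p : Spec (CommRingCat.of k) ⟶ S)
    (x : FibCat.overCat (Over.mk p) ⥤ᵇ 𝒳) (G : Over (Over.mk p).left) [GrpObj G]
    (hG : Gerb.AutRep x (Gerb.ptsGrp (Over.mk p) G)) :
    IsAffine G.left ∧ LocallyOfFiniteType G.hom := by
  have hlft : AlgSp.LocP @LocallyOfFiniteType ((AlgSp.yon S).map (str (Over.mk p) G)) :=
    prop_str_of_diag _ (isoInv_locP _) x hG h𝒳.isStack.1
      (Groth.Agent.Lib.helper4.AlgStDiagLFT.lft_diag_toSelf h𝒳)
  have hqa : AlgSp.IsQuasiAffineMor ((AlgSp.yon S).map (str (Over.mk p) G)) :=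
    prop_str_of_diag _ (isoInv_of_respectsIso _) x hG h𝒳.isStack.1 hΔ
  refine ⟨?_, AlgSp.locP_yon_map hlft⟩
  have hZ : IsAffine (Over.mk p).left := inferInstanceAs (IsAffine (Spec (CommRingCat.of k)))
  obtain ⟨W, i, fst, sq, hW⟩ := hqa hZ (𝟙 _)
  haveI : IsIso fst := sq.isIso_fst_of_isIso
  obtain ⟨φ, rfl⟩ := (AlgSp.yon S).map_surjective fst
  haveI : IsIso φ := isIso_of_fully_faithful (AlgSp.yon S) φ
  haveI : IsIso φ.left := (Over.forget S).map_isIso φ
  haveI : G.left.IsQuasiAffine := by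
    have := hW
    exact Scheme.IsQuasiAffine.of_isAffineHom (inv φ.left)
  exact Groth.Agent.Lib.helper4.QAffGrp.isAffine_of_isQuasiAffine G

end Groth.Agent.Lib.helper4.AlgStAutQAff
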