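import Groth.Agent.Lib.Helper4.AlgStGlue1

/-!
# Gluing open substacks (helper4), part 2

General lemmas: the universal object of a representable category over `C` (`exists_univ_of_isRepresentable`), a category
fibred in setoids whose presheaf of isomorphism classes is representable is representable
(`isRepresentable_of_bijective`), the presheaf of isomorphism classes of a stack fibred in setoids is a sheaf
(`isSheaf_clsPsh`).
-/

set_option backward.isDefEq.respectTransparency false
set_option backward.isDefEq.respectTransparency.types false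
set_option autoImplicit false
set_option linter.unusedSectionVars false
set_option linter.unusedVariables false
set_option linter.style.haveILetI false

universe w v₂ u₂ v u

open CategoryTheory CategoryTheory.Functor CategoryTheory.Limits Opposite

namespace Groth.Agent.Lib.Helper4.AlgStGlue

open Groth.Agent.FibEquiv Groth.Agent.FibYoneda FibCat Groth.Agent.FibFiberwise
open Groth.Agent.Lib.helper4.PshOfSetoid Groth.Agent.Lib.helper4.PshStack Groth.Agent.Lib.helper4.FibPaste
open Stk

section General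

variable {C : Type u} [Category.{v} C] {𝒵 : BasedCategory.{v₂, u₂} C}

/-- precomposing a pullback with a vertical morphism -/
theorem Rel.vert_comp {R S T : C} {f : S ⟶ T} {z y x : 𝒵.obj} (h₁ : Rel 𝒵 (𝟙 R) z y) (h₂ : Rel 𝒵 f y x) :
    Rel 𝒵 f z x := by
  obtain ⟨ψ₁, h₁⟩ := h₁
  obtain ⟨ψ₂, h₂⟩ := h₂
  exact ⟨ψ₁ ≫ ψ₂, IsHomLift.comp_lift_id_left' 𝒵.p R ψ₁ f ψ₂⟩

/-- **Universal object.** A representable category over `C` has an object `u` over `W` of which every object is a
pullback along a unique morphism. -/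
theorem exists_univ_of_isRepresentable (h : FibCat.IsRepresentable 𝒵) :
    ∃ (W : C) (u : 𝒵.obj), 𝒵.p.obj u = W ∧
      (∀ (z : 𝒵.obj) (T : C), 𝒵.p.obj z = T → ∃ m : T ⟶ W, Rel 𝒵 m z u) ∧
      (∀ (z : 𝒵.obj) (T : C) (m m' : T ⟶ W), Rel 𝒵 m z u → Rel 𝒵 m' z u → m = m') := by
  obtain ⟨W, F, G, ⟨α⟩, ⟨β⟩⟩ := h
  let α' : F.toFunctor ⋙ G.toFunctor ≅ 𝟭 _ := (BasedNatTrans.forgetful _ _).mapIso α
  let β' : G.toFunctor ⋙ F.toFunctor ≅ 𝟭 _ := (BasedNatTrans.forgetful _ _).mapIso β
  refine ⟨W, G.obj (Over.mk (𝟙 W)), G.w_obj _, ?_, ?_⟩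
  · intro z T hT
    subst hT
    let b : Over W := F.obj z
    have hb : b.left = 𝒵.p.obj z := F.w_obj z
    have h1 : 𝒵.p.IsHomLift b.hom (G.map (toId b)) := map_hom_isHomLift G (toId b)
    have h2 : 𝒵.p.IsHomLift (𝟙 (𝒵.p.obj z)) (α.inv.toNatTrans.app z) := α.inv.isHomLift' z
    have h3 : 𝒵.p.IsHomLift (eqToHom hb.symm ≫ b.hom) (G.map (toId b)) := inferInstance
    exact ⟨eqToHom hb.symm ≫ b.hom, α.inv.toNatTrans.app z ≫ G.map (toId b),
      IsHomLift.comp_lift_id_left' 𝒵.p (𝒵.p.obj z) _ _ _⟩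
  · rintro z T m m' ⟨ψ, hψ⟩ ⟨ψ', hψ'⟩
    have h1 : (overCat W).p.IsHomLift m (F.map ψ) := F.preserves_isHomLift m ψ
    have h1' : (overCat W).p.IsHomLift m' (F.map ψ') := F.preserves_isHomLift m' ψ'
    have e1 := IsHomLift.fac' (overCat W).p m (F.map ψ)
    have e1' := IsHomLift.fac' (overCat W).p m' (F.map ψ')
    change (F.map ψ).left = _ at e1
    change (F.map ψ').left = _ at e1'
    have w1 := Over.w (F.map ψ)
    have w1' := Over.w (F.map ψ')
    rw [e1] at w1
    rw [e1'] at w1'
    have w2 := w1.trans w1'.symm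
    simp only [Category.assoc] at w2
    rw [cancel_epi] at w2
    let c : F.obj (G.obj (Over.mk (𝟙 W))) ≅ Over.mk (𝟙 W) := β'.app (Over.mk (𝟙 W))
    have hc : c.hom.left = (F.obj (G.obj (Over.mk (𝟙 W)))).hom := by
      have := Over.w c.hom
      exact (Category.comp_id _).symm.trans this
    have hci : IsIso c.hom.left := inferInstanceAs (IsIso ((Over.forget W).map c.hom))
    have hi : IsIso (F.obj (G.obj (Over.mk (𝟙 W)))).hom := hc ▸ hci
    have hmono : Mono (eqToHom (IsHomLift.codomain_eq (overCat W).p m (F.map ψ)).symm ≫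
        (F.obj (G.obj (Over.mk (𝟙 W)))).hom) := inferInstance
    exact (cancel_mono _).1 w2

variable {𝒳 : BasedCategory.{v₂, u₂} C}

/-- **Representability from the presheaf of isomorphism classes.** -/
theorem isRepresentable_of_bijective (h : IsFibSetoid 𝒳.p) (W₀ : C) (ξ₀ : (clsPsh h.1).obj (op W₀))
    (hbij : ∀ T : C, Function.Bijective (fun m : T ⟶ W₀ => (clsPsh h.1).map m.op ξ₀)) :
    FibCat.IsRepresentable 𝒳 := by
  let P := clsPsh h.1
  let G : overCat W₀ ⥤ᵇ ofPsh P := ofSec ξ₀
  haveI hfull : G.toFunctor.Full :=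
    { map_surjective := fun {a b} m => by
        have h1 : P.map (m.hom ≫ b.hom).op ξ₀ = P.map a.hom.op ξ₀ := by
          rw [Groth.Agent.Lib.helper4.PshDict.map_comp_op_apply]
          exact m.map_sec
        have h2 : m.hom ≫ b.hom = a.hom := (hbij a.left).1 h1
        exact ⟨Over.homMk m.hom h2, by apply EltObj.hom_ext; rfl⟩ }
  haveI hfaith : G.toFunctor.Faithful :=
    { map_injective := fun {a b} k l hkl => by
        apply Over.OverMorphism.ext
        exact congrArg EltObj.Hom.hom hkl }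
  have hG : IsEquivOver G := by
    apply isEquivOver_of
    rintro ⟨T, s⟩
    obtain ⟨m, hm⟩ := (hbij T).2 s
    change P.map m.op ξ₀ = s at hm
    subst hm
    exact ⟨Over.mk m, Iso.refl _, IsHomLift.id rfl⟩
  obtain ⟨G', hG'⟩ := Groth.Agent.StkLib.isEquivOver_symm hG
  exact ⟨W₀, BasedFunctor.comp (toCls h.1) G', isEquivOver_comp _ _ (toCls_isEquivOver h) hG'⟩

/-- the presheaf of isomorphism classes of a stack fibred in setoids is a sheaf -/
theorem isSheaf_clsPsh (J : GrothendieckTopology C) (h : IsFibSetoid 𝒳.p) (hst : Stk.IsStack J 𝒳) :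
    Presieve.IsSheaf J (clsPsh h.1) :=
  (isStack_ofPsh_iff J _).1
    ((Groth.Agent.StkLib.isStack_iff_of_isEquivOver' J (toCls h.1) (toCls_isEquivOver h)).1 hst)

end General

end Groth.Agent.Lib.Helper4.AlgStGlue
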