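import Groth.Agent.Lib.Helper4.AlgStGlue3
import Groth.Agent.Lib.Helper4.AlgSpGlue2

/-!
# Gluing open substacks (helper4), part 4

An algebraic stack covered by open substacks which are algebraic spaces is an algebraic space
(`repByAlgSp_of_cover`, S12863).
-/

set_option backward.isDefEq.respectTransparency false
set_option backward.isDefEq.respectTransparency.types false
set_option autoImplicit false
set_option linter.unusedSectionVars false
set_option linter.unusedVariables false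
set_option linter.style.haveILetI false

universe w u

open CategoryTheory CategoryTheory.Functor CategoryTheory.Limits AlgebraicGeometry Opposite

namespace Groth.Agent.Lib.Helper4.AlgStGlue

open Groth.Agent.FibEquiv Groth.Agent.FibYoneda FibCat Groth.Agent.FibFiberwise
open Groth.Agent.Lib.helper4.AlgStOpenSub Groth.Agent.Lib.helper4.AlgStPts Groth.Agent.Lib.helper4.Descent
open Groth.Agent.Lib.helper4.AlgStFaithful Groth.Agent.Lib.Helper14.AlgSpQuot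
open Groth.Agent.Lib.helper4.PshOfSetoid Groth.Agent.Lib.helper4.PshStack Groth.Agent.Lib.helper4.FibPaste
open Groth.Agent.Lib.helper4.PshDict Groth.Agent.Lib.Helper4.AlgSpGlue Groth.Agent.H1.ZarRep
open Stk AlgSt

variable {S : Scheme.{u}}

/-- a morphism of sheaves which is injective on sections is a monomorphism -/
theorem mono_of_app_injective {F G : AlgSp.Sp S} (f : F ⟶ G)
    (h : ∀ T : (Over S)ᵒᵖ, Function.Injective (f.hom.app T)) : Mono f := by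
  refine ⟨fun {Z} a b hab => ?_⟩
  ext T z
  apply h T
  exact congrArg (fun k => k.hom.app T z) hab

/-- lifting a map from a representable sheaf through `j`, in terms of sections -/
theorem lift_iff_section {X F : AlgSp.Sp S} (j : X ⟶ F) {T T' : Over S} (ξ : (AlgSp.yon S).obj T ⟶ F)
    (c : T' ⟶ T) :
    (∃ x' : (AlgSp.yon S).obj T' ⟶ X, x' ≫ j = (AlgSp.yon S).map c ≫ ξ) ↔
      ∃ s : X.obj.obj (op T'), j.hom.app (op T') s = F.obj.map c.op ((AlgSp.J S).uliftYonedaEquiv ξ) := by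
  constructor
  · rintro ⟨x', hx'⟩
    refine ⟨(AlgSp.J S).uliftYonedaEquiv x', ?_⟩
    rw [← GrothendieckTopology.uliftYonedaEquiv_comp, hx', GrothendieckTopology.uliftYonedaEquiv_naturality]
  · rintro ⟨s, hs⟩
    refine ⟨(AlgSp.J S).uliftYonedaEquiv.symm s, ?_⟩
    apply (AlgSp.J S).uliftYonedaEquiv.injective
    rw [GrothendieckTopology.uliftYonedaEquiv_comp, Equiv.apply_symm_apply, hs,
      GrothendieckTopology.uliftYonedaEquiv_naturality]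

section Cls

variable {𝒳 : AlgSt.Cat S} (h : IsFibGrpd 𝒳.p)

/-- the class of an object over `T` -/
def mkC {T : Over S} (x : 𝒳.obj) (hx : 𝒳.p.obj x = T) : (clsPsh h).obj (op T) :=
  (Quotient.mk (fibSetoid h T) ⟨x, hx⟩ : Cls h T)

theorem map_mkC {V U : Over S} (f : V ⟶ U) (x : 𝒳.obj) (hx : 𝒳.p.obj x = U) (y : 𝒳.obj)
    (hy : 𝒳.p.obj y = V) : (clsPsh h).map f.op (mkC h x hx) = mkC h y hy ↔ Rel 𝒳 f y x :=
  clsPsh_map_mk_eq_iff h f ⟨x, hx⟩ ⟨y, hy⟩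

theorem mkC_eq_iff {T : Over S} (x y : 𝒳.obj) (hx : 𝒳.p.obj x = T) (hy : 𝒳.p.obj y = T) :
    mkC h x hx = mkC h y hy ↔ Rel 𝒳 (𝟙 T) x y := by
  constructor
  · intro e
    exact Quotient.exact e
  · intro e
    exact Quotient.sound e

theorem exists_mkC {T : Over S} (η : (clsPsh h).obj (op T)) :
    ∃ (x : 𝒳.obj) (hx : 𝒳.p.obj x = T), η = mkC h x hx := by
  obtain ⟨⟨x, hx⟩, rfl⟩ := Quotient.exists_rep (s := fibSetoid h T) η
  exact ⟨x, hx, rfl⟩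

theorem map_eqToHom_cls (x : 𝒳.obj) {T : Over S} (hx : 𝒳.p.obj x = T) :
    (clsPsh h).map (eqToHom hx.symm).op (cls h x) = mkC h x hx := by
  subst hx
  exact eqToHom_op_refl_apply (clsPsh h) _ _

/-- the sections named by a functor to `𝒳` followed by `toCls` -/
theorem secOf_comp_toCls {P : (Over S)ᵒᵖ ⥤ Type (u + 1)} (A : ofPsh P ⥤ᵇ 𝒳) (w : EltObj P) :
    secOf (BasedFunctor.comp A (toCls h)) w = mkC h (A.obj w) (A.w_obj w) := by
  unfold secOf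
  exact map_eqToHom_cls h (A.obj w) (A.w_obj w)

end Cls

section Main

variable {𝒳 : AlgSt.Cat S} (h𝒳 : AlgSt.IsAlgStack Scheme.fppfPrecoverage 𝒳)
  {ι : Type u} (Q : ι → 𝒳.obj → Prop)
  (hQ : ∀ i, AlgSt.IsOpenSubstack 𝒳 (Q i) Scheme.fppfPrecoverage)
  (hcov : ⋃ i, Set.range (AlgSt.Points.map (AlgSt.subIncl 𝒳 (Q i))) = Set.univ)

include h𝒳 hQ hcov

/-- small index case -/
theorem repByAlgSp_of_cover_small (hsp : ∀ i, AlgSt.RepByAlgSp (AlgSt.fullSub 𝒳 (Q i))) :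
    AlgSt.RepByAlgSp 𝒳 := by
  have hthin := thin_of_cover h𝒳 Q hQ hcov (fun i => thin_of_repByAlgSp (hsp i))
  have hset : IsFibSetoid 𝒳.p := ⟨h𝒳.isStack.1, hthin⟩
  have h := hset.1
  haveI hfib : 𝒳.p.IsFibered := isFibered_of_isFibGrpd 𝒳.p h
  have hP : Presieve.IsSheaf (AlgSp.J S) (clsPsh h) := isSheaf_clsPsh _ hset h𝒳.isStack
  let F₀ : AlgSp.Sp S := ⟨clsPsh h, (isSheaf_iff_isSheaf_of_type _ _).2 hP⟩
  choose Fs e he using hsp
  let A : ∀ i, ofPsh (Fs i).obj.obj ⥤ᵇ 𝒳 := fun i => BasedFunctor.comp (e i) (AlgSt.subIncl 𝒳 (Q i))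
  let jj : ∀ i, (Fs i).obj ⟶ F₀ := fun i => ⟨pshMapOf (BasedFunctor.comp (A i) (toCls h))⟩
  have hjj : ∀ i (T : Over S) (s : (Fs i).obj.obj.obj (op T)),
      (jj i).hom.app (op T) s = mkC h ((A i).obj ⟨T, s⟩) ((A i).w_obj ⟨T, s⟩) :=
    fun i T s => secOf_comp_toCls h (A i) ⟨T, s⟩
  have hsrc : ∀ i {z z' : 𝒳.obj} (ψ : z' ⟶ z), Q i z → Q i z' := fun i {z z'} ψ hz =>
    of_hom_of_isFibGrpd h (Q i) (hQ i).1 (hQ i).2.1.isStack.1 ψ hz
  have hAQ : ∀ i w, Q i ((A i).obj w) := fun i w => ((e i).obj w).property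
  -- the image of `jj i`
  have himage : ∀ i (T : Over S) (z : 𝒳.obj) (hz : 𝒳.p.obj z = T),
      (∃ s, (jj i).hom.app (op T) s = mkC h z hz) ↔ Q i z := by
    intro i T z hz
    subst hz
    constructor
    · rintro ⟨s, hs⟩
      rw [hjj, mkC_eq_iff] at hs
      obtain ⟨ψ, _⟩ := Rel.symm h hs
      exact hsrc i ψ (hAQ i _)
    · intro hq
      obtain ⟨w, iso, hiso⟩ := (of_isEquivOver (e i) (he i)).2 ⟨z, hq⟩
      obtain ⟨T', s⟩ := w
      haveI hiso' : (AlgSt.fullSub 𝒳 (Q i)).p.IsHomLift (𝟙 (𝒳.p.obj z)) iso.hom := hiso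
      have hT' : T' = 𝒳.p.obj z :=
        ((e i).w_obj ⟨T', s⟩).symm.trans
          (IsHomLift.domain_eq (AlgSt.fullSub 𝒳 (Q i)).p (𝟙 (𝒳.p.obj z)) iso.hom)
      subst hT'
      refine ⟨s, ?_⟩
      rw [hjj, mkC_eq_iff]
      exact ⟨(AlgSt.subIncl 𝒳 (Q i)).map iso.hom,
        (AlgSt.subIncl 𝒳 (Q i)).preserves_isHomLift (𝟙 (𝒳.p.obj z)) iso.hom⟩
  -- injectivity
  have hinj : ∀ i (T : (Over S)ᵒᵖ), Function.Injective ((jj i).hom.app T) := by
    intro i T s s' hss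
    obtain ⟨T⟩ := T
    rw [hjj, hjj, mkC_eq_iff] at hss
    obtain ⟨ψ, hψ⟩ := hss
    let ψ' : (e i).obj ⟨T, s⟩ ⟶ (e i).obj ⟨T, s'⟩ := ObjectProperty.homMk ψ
    obtain ⟨⟨hfull, hfaith⟩, -⟩ := of_isEquivOver (e i) (he i)
    let m : (⟨T, s⟩ : EltObj (Fs i).obj.obj) ⟶ ⟨T, s'⟩ := (e i).toFunctor.preimage ψ'
    have hm : (e i).map m = ψ' := (e i).toFunctor.map_preimage ψ'
    haveI h1 : 𝒳.p.IsHomLift (𝟙 T) ((AlgSt.subIncl 𝒳 (Q i)).map ψ') := hψ
    haveI h2 : (AlgSt.fullSub 𝒳 (Q i)).p.IsHomLift (𝟙 T) ψ' :=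
      (AlgSt.subIncl 𝒳 (Q i)).isHomLift_map (𝟙 T) ψ'
    haveI h3 : (AlgSt.fullSub 𝒳 (Q i)).p.IsHomLift (𝟙 T) ((e i).map m) := by rw [hm]; exact h2
    haveI h4 : (ofPsh (Fs i).obj.obj).p.IsHomLift (𝟙 T) m := (e i).isHomLift_map (𝟙 T) m
    have hm1 : m.hom = 𝟙 T := by
      have := IsHomLift.fac' (ofPsh (Fs i).obj.obj).p (𝟙 T) m
      simpa using this
    have hm2 : (Fs i).obj.obj.map m.hom.op s' = s := m.map_sec
    rw [hm1] at hm2
    rw [← hm2]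
    exact map_id_op_apply _ T s'
  haveI hmono : ∀ i, Mono (jj i) := fun i => mono_of_app_injective (jj i) (hinj i)
  -- the key equivalence
  have hkey : ∀ i (x : 𝒳.obj) {T' : Over S} (c : T' ⟶ 𝒳.p.obj x) (ξ : (AlgSp.yon S).obj (𝒳.p.obj x) ⟶ F₀),
      (AlgSp.J S).uliftYonedaEquiv ξ = mkC h x rfl →
      ((∃ x' : (AlgSp.yon S).obj T' ⟶ (Fs i).obj, x' ≫ jj i = (AlgSp.yon S).map c ≫ ξ) ↔
        Q i ((yBased x).obj (Over.mk c))) := by
    intro i x T' c ξ hξ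
    rw [lift_iff_section, hξ]
    have hz' : 𝒳.p.obj (yObj x (Over.mk c)) = T' := yObj_proj x (Over.mk c)
    have hrel : Rel 𝒳 c (yObj x (Over.mk c)) x :=
      ⟨yMap x (Over.mk c), (yMap_isStronglyCartesian x (Over.mk c)).toIsHomLift⟩
    have h1 : F₀.obj.map c.op (mkC h x rfl) = mkC h (yObj x (Over.mk c)) hz' :=
      (map_mkC h c x rfl _ hz').2 hrel
    rw [h1]
    exact himage i T' _ hz'
  have hopen : ∀ i {T : Over S} (ξ : (AlgSp.yon S).obj T ⟶ F₀), ∃ O : T.left.Opens,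
      ∀ {T' : Over S} (c : T' ⟶ T),
        (∃ x' : (AlgSp.yon S).obj T' ⟶ (Fs i).obj, x' ≫ jj i = (AlgSp.yon S).map c ≫ ξ) ↔
          Set.range c.left ⊆ (O : Set T.left) := by
    intro i T ξ
    obtain ⟨x, hx, hη⟩ := exists_mkC h ((AlgSp.J S).uliftYonedaEquiv ξ)
    subst hx
    obtain ⟨O', hO'1, hO'2⟩ := exists_open h𝒳 Q hQ hcov x i
    exact ⟨O', fun {T'} c => (hkey i x c ξ hη).trans (hO'2 (Over.mk c))⟩
  choose O hO using hopen
  have hcov' : ∀ {T : Over S} (ξ : (AlgSp.yon S).obj T ⟶ F₀) (t : T.left), ∃ i, t ∈ O i ξ := by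
    intro T ξ t
    obtain ⟨x, hx, hη⟩ := exists_mkC h ((AlgSp.J S).uliftYonedaEquiv ξ)
    subst hx
    have ht : Points.ofChart (yBased x) t ∈
        ⋃ i, Set.range (AlgSt.Points.map (AlgSt.subIncl 𝒳 (Q i))) := by rw [hcov]; trivial
    obtain ⟨i, hi⟩ := Set.mem_iUnion.mp ht
    obtain ⟨O', hO'1, hO'2⟩ := exists_open h𝒳 Q hQ hcov x i
    refine ⟨i, ?_⟩
    have hle : Set.range (ovι (𝒳.p.obj x) O').left ⊆ (O i ξ : Set (𝒳.p.obj x).left) := by
      rw [← hO i ξ (ovι (𝒳.p.obj x) O'), hkey i x _ ξ hη, hO'2]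
      change Set.range O'.ι ⊆ _
      rw [Scheme.Opens.range_ι]
    apply hle
    refine ⟨⟨t, (hO'1 t).2 hi⟩, rfl⟩
  have hF₀ : AlgSp.IsAlgSpace F₀ :=
    isAlgSpace_of_open_cover (fun i => (Fs i).obj) (fun i => (Fs i).property) jj O hO hcov'
  obtain ⟨G', hG'⟩ := Groth.Agent.StkLib.isEquivOver_symm (toCls_isEquivOver hset)
  exact ⟨⟨F₀, hF₀⟩, G', hG'⟩

end Main

/-- **S12863.** An algebraic stack covered by open substacks which are algebraic spaces is an algebraic space. -/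
theorem repByAlgSp_of_cover {𝒳 : AlgSt.Cat S} (h𝒳 : AlgSt.IsAlgStack Scheme.fppfPrecoverage 𝒳)
    {ι : Type w} (Q : ι → 𝒳.obj → Prop)
    (hQ : ∀ i, AlgSt.IsOpenSubstack 𝒳 (Q i) Scheme.fppfPrecoverage)
    (hcov : ⋃ i, Set.range (AlgSt.Points.map (AlgSt.subIncl 𝒳 (Q i))) = Set.univ)
    (hsp : ∀ i, AlgSt.RepByAlgSp (AlgSt.fullSub 𝒳 (Q i))) : AlgSt.RepByAlgSp 𝒳 := by
  obtain ⟨ι', j, hj⟩ := exists_small_index h𝒳 Q hQ hcov
  exact repByAlgSp_of_cover_small h𝒳 (fun i' => Q (j i')) (fun i' => hQ (j i')) hj (fun i' => hsp (j i'))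

end Groth.Agent.Lib.Helper4.AlgStGlue
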