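import Groth.Agent.Lib.Helper4.AlgStOpenSub3
set_option autoImplicit false
set_option backward.isDefEq.respectTransparency false
set_option backward.isDefEq.respectTransparency.types false
set_option linter.unusedSectionVars false
set_option linter.style.haveILetI false
set_option linter.unusedVariables false
open CategoryTheory CategoryTheory.Functor CategoryTheory.Limits Opposite AlgebraicGeometry
universe u

/-! The open substack of an algebraic stack on an open set of points. -/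

namespace Groth.Agent.Lib.helper4.AlgStOpenSub
open Groth.Agent.FibEquiv Groth.Agent.FibYoneda FibCat Groth.Agent.Lib.helper4.FibPaste
open Groth.Agent.Lib.helper4.AlgStEquiv Groth.Agent.Lib.helper4.AlgStRep
open Groth.Agent.Lib.helper4.AlgStSetoid Groth.Agent.FibFpProj Groth.Agent.Lib.helper4.FibRep
open Groth.Agent.Lib.helper4.AlgStFpAlg Groth.Agent.Lib.helper4.AlgStDM Groth.Agent.Lib.helper4.AlgStSelf
open Groth.Agent.Lib.helper4.AlgStPts Groth.Agent.Lib.helper4.FibSwap Groth.Agent.Lib.helper4.AlgStSmLoc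
open Groth.Agent.Lib.helper4.AlgStQC Groth.Agent.Lib.helper4.PshDict Groth.Agent.Lib.helper4.PshRep
open Groth.Agent.Lib.helper4.PshPB Groth.Agent.Lib.helper4.AlgStQCMor Groth.Agent.Lib.helper4.PointsBasic
open Groth.Agent.Lib.helper4.AlgStDescent Groth.Agent.Lib.helper4.AlgStCoreA
open Groth.Agent.Lib.helper4.AlgStSource Groth.Agent.Lib.helper4.AlgStGraph
open Groth.Agent.Lib.helper4.SmLocalST Groth.Agent.Lib.helper5.LocPBC
open Groth.Agent.Lib.helper4.AlgStLocQ Groth.Agent.Lib.helper4.StkSub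
open Stk AlgSt

variable {S : Scheme.{u}}

/-- the first projection of a 2-fibre product along a faithful functor is faithful -/
theorem fpFst_faithful_of_faithful {𝒜 ℬ 𝒞 : AlgSt.Cat S} (F : 𝒜 ⥤ᵇ 𝒞) (G : ℬ ⥤ᵇ 𝒞) [G.toFunctor.Faithful] :
    (fpFst F G).toFunctor.Faithful where
  map_injective {t t'} μ μ' h := by
    have h' : μ.hom.fst = μ'.hom.fst := h
    apply ObjectProperty.hom_ext
    apply CategoricalPullback.hom_ext
    · exact h'
    · apply G.toFunctor.map_injective
      have w1 : G.toFunctor.map μ.hom.snd = t.obj.iso.inv ≫ F.toFunctor.map μ.hom.fst ≫ t'.obj.iso.hom := by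
        rw [Iso.eq_inv_comp]; exact μ.hom.w.symm
      have w2 : G.toFunctor.map μ'.hom.snd = t.obj.iso.inv ≫ F.toFunctor.map μ'.hom.fst ≫ t'.obj.iso.hom := by
        rw [Iso.eq_inv_comp]; exact μ'.hom.w.symm
      rw [w1, w2, h']

variable {𝒳 : AlgSt.Cat S}

section OpenImm
variable (h𝒳 : AlgSt.IsAlgStack Scheme.fppfPrecoverage 𝒳) (T : Set (AlgSt.Points 𝒳)) (hT : IsOpen T)
include h𝒳 hT

/-- the inclusion of the full subcategory on `QT T`, for open `T`, is an open immersion -/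
theorem isOpenImm_subIncl_QT : AlgSt.IsOpenImm (AlgSt.subIncl 𝒳 (QT T)) := by
  intro U y
  have hX := h𝒳.isStack.1
  have hcont : Continuous (Points.ofChart y) := continuous_ofChart hX h𝒳.atlas y
  let O : U.left.Opens := ⟨Points.ofChart y ⁻¹' T, hT.preimage hcont⟩
  let UO : Over S := Over.mk (O.ι ≫ U.hom)
  let ιO : UO ⟶ U := Over.homMk O.ι rfl
  have hmemO : ∀ w : ↥UO.left, Points.ofChart y (O.ι w) ∈ T := fun w => by
    have : O.ι w ∈ O := by
      have := Set.mem_range_self (f := O.ι) w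
      rwa [Scheme.Opens.range_ι] at this
    exact this
  have hQ : ∀ a : Over UO, QT T ((BasedFunctor.comp (AlgSt.overMap ιO) y).obj a) := by
    intro a
    change QT T (y.obj ((Over.map ιO).obj a))
    rw [QT_iff_chart hX]
    intro v
    exact hmemO (a.hom.left v)
  let b : overCat UO ⥤ᵇ AlgSt.fullSub 𝒳 (QT T) :=
    liftSub (QT T) (BasedFunctor.comp (AlgSt.overMap ιO) y) hQ
  let E : overCat UO ⥤ᵇ fp y (AlgSt.subIncl 𝒳 (QT T)) :=
    fpLift (F := y) (G := AlgSt.subIncl 𝒳 (QT T)) (AlgSt.overMap ιO) b (Iso.refl _)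
  have hmono : Mono ιO := by
    have : Mono ιO.left := inferInstanceAs (Mono O.ι)
    exact Over.mono_of_mono_left ιO
  have hEfaith : E.toFunctor.Faithful := ⟨fun {a a'} k k' h => by
    apply Over.OverMorphism.ext
    exact congrArg (fun μ => μ.hom.fst.left) h⟩
  have hinclf : (AlgSt.subIncl 𝒳 (QT T)).toFunctor.Faithful := inferInstanceAs (StkSub.incl (QT T)).toFunctor.Faithful
  have hfstf : (fpFst y (AlgSt.subIncl 𝒳 (QT T))).toFunctor.Faithful := fpFst_faithful_of_faithful _ _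
  have hEfull : E.toFunctor.Full := ⟨fun {a a'} μ => by
    have hw : μ.hom.fst.left ≫ a'.hom = a.hom := by
      rw [← cancel_mono ιO, Category.assoc]
      exact Over.w μ.hom.fst
    refine ⟨Over.homMk μ.hom.fst.left hw, ?_⟩
    apply hfstf.map_injective
    apply Over.OverMorphism.ext
    rfl⟩
  have hE : IsEquivOver E := by
    apply isEquivOver_of
    intro η
    have h1 : QT T (y.obj η.obj.fst) := QT_of_hom η.obj.iso.hom η.obj.snd.property
    rw [QT_iff_chart hX] at h1
    have hrange : Set.range η.obj.fst.hom.left ⊆ Set.range O.ι := by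
      rw [Scheme.Opens.range_ι]
      rintro _ ⟨v, rfl⟩
      exact h1 v
    let l : η.obj.fst.left.left ⟶ UO.left := IsOpenImmersion.lift O.ι η.obj.fst.hom.left hrange
    have hl : l ≫ O.ι = η.obj.fst.hom.left := IsOpenImmersion.lift_fac _ _ _
    have hl' : l ≫ UO.hom = η.obj.fst.left.hom := by
      change l ≫ O.ι ≫ U.hom = _
      rw [← Category.assoc, hl]
      exact Over.w η.obj.fst.hom
    let a' : Over UO := Over.mk (Over.homMk l hl' : η.obj.fst.left ⟶ UO)
    have ha' : a'.hom ≫ ιO = η.obj.fst.hom := by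
      apply Over.OverMorphism.ext
      exact hl
    let θ : (Over.map ιO).obj a' ≅ η.obj.fst := Over.isoMk (Iso.refl _) (by
      change 𝟙 _ ≫ η.obj.fst.hom = a'.hom ≫ ιO
      rw [Category.id_comp, ha'])
    let σ : (b.obj a') ≅ η.obj.snd :=
      ObjectProperty.isoMk _ (y.toFunctor.mapIso θ ≪≫ η.obj.iso)
    refine ⟨a', ObjectProperty.isoMk _ (CategoricalPullback.mkIso θ σ ?_), ?_⟩
    · change y.toFunctor.map θ.hom ≫ η.obj.iso.hom = 𝟙 _ ≫ (y.toFunctor.map θ.hom ≫ η.obj.iso.hom)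
      rw [Category.id_comp]
    · apply Groth.Agent.FibFp.lift_to
      exact hom_isHomLift θ.hom
  obtain ⟨Yi, ⟨α⟩, ⟨β⟩⟩ := toYon_isEquivOver.{u + 1} UO
  have hYi : IsEquivOver Yi := isEquivOver_symm α β
  refine ⟨⟨(AlgSp.yon S).obj UO, AlgSp.IsAlgSpace.yon_obj UO⟩, BasedFunctor.comp Yi E,
    isEquivOver_comp _ _ hYi hE, ?_⟩
  have h2 : BasedFunctor.comp (BasedFunctor.comp Yi E) (fpFst y (AlgSt.subIncl 𝒳 (QT T))) =
      BasedFunctor.comp Yi (AlgSt.overMap ιO) := rfl
  rw [h2, spMapOfOver_yonInv_overMap ιO Yi β]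
  exact (AlgSp.repWith_yon_map_iff @IsOpenImmersion ιO).2 (inferInstanceAs (IsOpenImmersion O.ι))

end OpenImm

/-- representability with a property implies representability -/
theorem repByAlgSp1_of_repByAlgSpWith {𝒜 ℬ : AlgSt.Cat S} {P : MorphismProperty (AlgSp.Sp S)} {f : 𝒜 ⥤ᵇ ℬ}
    (h : AlgSt.RepByAlgSpWith P f) : AlgSt.RepByAlgSp1 f := fun U y => by
  obtain ⟨F, e, he, -⟩ := h U y
  exact ⟨F, e, he⟩

section OpenSub
variable (h𝒳 : AlgSt.IsAlgStack Scheme.fppfPrecoverage 𝒳) (T : Set (AlgSt.Points 𝒳)) (hT : IsOpen T)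
include h𝒳 hT

/-- the full subcategory on `QT T`, for open `T`, is an algebraic stack -/
theorem isAlgStack_fullSub_QT : AlgSt.IsAlgStack Scheme.fppfPrecoverage (AlgSt.fullSub 𝒳 (QT T)) :=
  isAlgStack_of_repByAlgSp1_of_isStack (isStack_fullSub_QT h𝒳.isStack T) h𝒳 (AlgSt.subIncl 𝒳 (QT T))
    (repByAlgSp1_of_repByAlgSpWith (isOpenImm_subIncl_QT h𝒳 T hT))

/-- `QT T`, for open `T`, is an open substack -/
theorem isOpenSubstack_QT : AlgSt.IsOpenSubstack 𝒳 (QT T) Scheme.fppfPrecoverage :=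
  ⟨QT_isClosedUnderIsomorphisms T, isAlgStack_fullSub_QT h𝒳 T hT, isOpenImm_subIncl_QT h𝒳 T hT⟩

end OpenSub

/-- the points of the full subcategory on `QT T` are `T` -/
theorem range_subIncl_QT (T : Set (AlgSt.Points 𝒳)) :
    Set.range (AlgSt.Points.map (AlgSt.subIncl 𝒳 (QT T))) = T := by
  ext z
  constructor
  · rintro ⟨w, rfl⟩
    obtain ⟨p, rfl⟩ := Points.mk_surjective w
    exact p.obj.property (p.map (AlgSt.subIncl 𝒳 (QT T))) ⟨𝟙 _⟩
  · intro hz
    obtain ⟨p, rfl⟩ := Points.mk_surjective z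
    have hp : QT T p.obj := fun p' ⟨m⟩ => by
      have : Points.mk p' = Points.mk p := Points.sound ⟨p', 𝟙 _, m, trivial⟩
      rw [this]; exact hz
    exact ⟨Points.mk { K := p.K, str := p.str, obj := ⟨p.obj, hp⟩, lies := p.lies }, rfl⟩

end Groth.Agent.Lib.helper4.AlgStOpenSub
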