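import Groth.Agent.Lib.Helper4.DiagEquiv
set_option autoImplicit false
set_option backward.isDefEq.respectTransparency false
set_option backward.isDefEq.respectTransparency.types false
open CategoryTheory CategoryTheory.Functor CategoryTheory.Limits
universe v₈ u₈ v₇ u₇ v₆ u₆ v₅ u₅ v₄ u₄ v₃ u₃ v₂ u₂ v u

/-! The relative inertia of `f : 𝒳 ⟶ 𝒴` is the 2-fibre product `𝒳 ×_{𝒳 ×_𝒴 𝒳} 𝒳` of the diagonal
with itself; under this equivalence the structure functor is the first projection and the neutral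
section is the diagonal of the diagonal. -/

namespace Groth.Agent.Lib.helper4.FibInertiaDiag
open Groth.Agent.FibEquiv Groth.Agent.Lib.helper4.FibPaste Groth.Agent.Lib.helper4.DiagBC FibCat

variable {C : Type u} [Category.{v} C] {𝒳 : BasedCategory.{v₂, u₂} C} {𝒴 : BasedCategory.{v₃, u₃} C}
  (f : 𝒳 ⥤ᵇ 𝒴)

/-- the automorphism of an object of the inertia lies over the identity -/
theorem aut_isHomLift (x : (FibCat.inertia f).obj) : 𝒳.p.IsHomLift (𝟙 (𝒳.p.obj x.pt)) x.aut.hom := by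
  have h1 : 𝒴.p.IsHomLift (𝟙 (𝒳.p.obj x.pt)) (f.toFunctor.map x.aut.hom) := by
    have : f.toFunctor.map x.aut.hom = 𝟙 (f.toFunctor.obj x.pt) := x.map_aut
    rw [this]
    exact IsHomLift.id (f.w_obj x.pt)
  exact f.isHomLift_map _ _

/-- the tautological automorphism of `I_f ⟶ 𝒳 ⟶ 𝒳 ×_𝒴 𝒳` -/
def autIso : BasedFunctor.comp (inertiaToBase f) (FibCat.diag f) ≅
    BasedFunctor.comp (inertiaToBase f) (FibCat.diag f) :=
  BasedNatIso.mkNatIso
    (NatIso.ofComponents
      (fun a => fpIsoMk f f a.aut (Iso.refl a.pt) (by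
        change f.toFunctor.map a.aut.hom ≫ 𝟙 _ = 𝟙 _ ≫ f.toFunctor.map (𝟙 a.pt)
        rw [a.map_aut]
        simp))
      (fun {a b} m => by
        apply fp_hom_ext
        · change m.hom ≫ b.aut.hom = a.aut.hom ≫ m.hom
          exact m.comm.symm
        · change m.hom ≫ 𝟙 _ = 𝟙 _ ≫ m.hom
          simp))
    (fun a => by
      apply Groth.Agent.FibFp.lift_to
      change 𝒳.p.IsHomLift (𝟙 (𝒳.p.obj a.pt)) a.aut.hom
      exact aut_isHomLift f a)

/-- the comparison functor `I_f ⟶ 𝒳 ×_{𝒳 ×_𝒴 𝒳} 𝒳` -/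
def Φ : inertia f ⥤ᵇ fp (FibCat.diag f) (FibCat.diag f) :=
  fpLift (inertiaToBase f) (inertiaToBase f) (autIso f)

theorem Φ_fst : BasedFunctor.comp (Φ f) (fpFst (FibCat.diag f) (FibCat.diag f)) = inertiaToBase f := rfl

theorem Φ_snd : BasedFunctor.comp (Φ f) (fpSnd (FibCat.diag f) (FibCat.diag f)) = inertiaToBase f := rfl

instance Φ_faithful : (Φ f).toFunctor.Faithful where
  map_injective {a b} m m' h := by
    apply FibCat.InertiaObj.hom_ext
    have h1 : ((Φ f).toFunctor.map m).hom.fst = ((Φ f).toFunctor.map m').hom.fst := by rw [h]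
    exact h1

instance Φ_full : (Φ f).toFunctor.Full where
  map_surjective {a b} n := by
    have e := n.hom.w
    have e1 : n.hom.fst ≫ b.aut.hom = a.aut.hom ≫ n.hom.snd := by
      have := congrArg (fun k => k.hom.fst) e
      exact this
    have e2 : n.hom.fst = n.hom.snd := by
      have := congrArg (fun k => k.hom.snd) e
      change n.hom.fst ≫ 𝟙 _ = 𝟙 _ ≫ n.hom.snd at this
      simpa using this
    refine ⟨⟨n.hom.fst, ?_⟩, ?_⟩
    · rw [e1, e2]
    · apply fp_hom_ext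
      · rfl
      · exact e2

theorem Φ_isEquivOver : IsEquivOver (Φ f) := by
  apply isEquivOver_of
  intro z
  let x : 𝒳.obj := z.obj.fst
  let x' : 𝒳.obj := z.obj.snd
  let τ : (FibCat.diag f).toFunctor.obj x ≅ (FibCat.diag f).toFunctor.obj x' := z.obj.iso
  let τ₁ : x ≅ x' := isoFst f f τ
  let τ₂ : x ≅ x' := isoSnd f f τ
  have hτ : f.toFunctor.map τ₁.hom = f.toFunctor.map τ₂.hom := by
    have := τ.hom.hom.w
    change f.toFunctor.map τ₁.hom ≫ 𝟙 _ = 𝟙 _ ≫ f.toFunctor.map τ₂.hom at this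
    simpa using this
  let a : (inertia f).obj :=
    { pt := x
      aut := τ₁ ≪≫ τ₂.symm
      map_aut := by
        change f.toFunctor.map (τ₁.hom ≫ τ₂.inv) = 𝟙 _
        rw [CategoryTheory.Functor.map_comp, hτ, ← CategoryTheory.Functor.map_comp, Iso.hom_inv_id,
          CategoryTheory.Functor.map_id] }
  refine ⟨a, fpIsoMk (FibCat.diag f) (FibCat.diag f) (Iso.refl x) τ₂ ?_, ?_⟩
  · apply fp_hom_ext
    · change 𝟙 _ ≫ τ₁.hom = (τ₁.hom ≫ τ₂.inv) ≫ τ₂.hom
      simp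
    · change 𝟙 _ ≫ τ₂.hom = 𝟙 _ ≫ τ₂.hom
      rfl
  · apply Groth.Agent.FibFp.lift_to
    change 𝒳.p.IsHomLift (𝟙 (𝒳.p.obj x)) (𝟙 x)
    infer_instance

/-- under the comparison, the neutral section is the diagonal of the diagonal -/
def neutralIso : BasedFunctor.comp (inertiaNeutral f) (Φ f) ≅ FibCat.diag (FibCat.diag f) :=
  Groth.Agent.Lib.helper4.DiagEquiv.fpFunctorIso (FibCat.diag f) (FibCat.diag f) _ _
    (Iso.refl _) (Iso.refl _) (fun x => by
      apply fp_hom_ext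
      · change 𝟙 _ ≫ 𝟙 _ = 𝟙 _ ≫ 𝟙 _
        rfl
      · change 𝟙 _ ≫ 𝟙 _ = 𝟙 _ ≫ 𝟙 _
        rfl)

end Groth.Agent.Lib.helper4.FibInertiaDiag
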