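import Groth.Agent.Lib.Helper5.FppfBoot4
import Groth.Agent.Lib.Helper4.AlgStFpAlg
import Groth.Agent.Lib.Helper4.AlgStGlue2
import Groth.Agent.Lib.Helper4.AlgStGlue4
import Groth.Agent.Lib.Helper4.AlgStOpenSub4
import Groth.Agent.Lib.Helper4.AlgStFull
import Groth.Agent.Lib.Helper4.FibInertiaDiag
import Groth.Agent.S12787
set_option autoImplicit false
set_option backward.isDefEq.respectTransparency false
set_option backward.isDefEq.respectTransparency.types false
set_option linter.unusedSectionVars false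
set_option linter.style.haveILetI false
set_option linter.unusedVariables false
open CategoryTheory CategoryTheory.Functor CategoryTheory.Limits Opposite AlgebraicGeometry
universe u

/-! Bootstrap for algebraic stacks: an algebraic stack fibred in setoids is an algebraic space (uses helper5's
fppf bootstrap for algebraic spaces, S10104). -/

namespace Groth.Agent.Lib.helper4.AlgStBoot
open Groth.Agent.FibEquiv Groth.Agent.FibYoneda Groth.Agent.FibFpProj Stk FibCat
open Groth.Agent.Lib.helper4.Descent Groth.Agent.Lib.helper4.PshDict Groth.Agent.Lib.helper4.FibPaste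
open Groth.Agent.Lib.helper4.AlgStEquiv Groth.Agent.Lib.helper4.PshRep Groth.Agent.Lib.helper4.PshPB
open Groth.Agent.Lib.helper4.FibSwap Groth.Agent.Lib.helper4.AlgStSetoid Groth.Agent.Lib.helper4.AlgStCoreA
open Groth.Agent.Lib.helper4.AlgStDescent Groth.Agent.Lib.helper4.AlgStSource Groth.Agent.Lib.helper4.AlgStDM
open Groth.Agent.Lib.helper4.AlgStSmLoc Groth.Agent.Lib.helper4.PointsBasic Groth.Agent.Lib.helper4.AlgStRep
open Groth.Agent.Lib.helper4.AlgStPts Groth.Agent.Lib.helper4.AlgStFpAlg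
open Groth.Agent.Lib.helper4.PshOfSetoid Groth.Agent.Lib.Helper4.AlgStGlue
open Groth.Agent.Lib.helper4.AlgStCancel
open AlgSt

variable {S : Scheme.{u}}

/-- the combined property "surjective, flat, locally of finite presentation" -/
def Qfppf : MorphismProperty (AlgSp.Sp S) :=
  fun _ _ f => (AlgSp.IsSurjectiveMor f ∧ AlgSp.LocP @Flat f) ∧ AlgSp.LocP @LocallyOfFinitePresentation f

theorem isoInv_Qfppf : IsoInv (Qfppf (S := S)) := by
  intro A B U j s hA hB h
  exact ⟨⟨isoInv_isSurjectiveMor j s hA hB h.1.1, isoInv_locP _ j s hA hB h.1.2⟩, isoInv_locP _ j s hA hB h.2⟩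

/-- a smooth surjective functor is surjective, flat and locally of finite presentation -/
theorem repByAlgSpWith_Qfppf {𝒳 𝒴 : AlgSt.Cat S} (x : 𝒳 ⥤ᵇ 𝒴)
    (h1 : AlgSt.RepByAlgSpWith (AlgSp.LocP @Smooth) x) (h2 : AlgSt.RepByAlgSpWith AlgSp.IsSurjectiveMor x) :
    AlgSt.RepByAlgSpWith Qfppf x := by
  have hfl : AlgSt.RepByAlgSpWith (AlgSp.LocP @Flat) x :=
    repByAlgSpWith_mono x (fun F T π h => Groth.Agent.S10265.locP_mono (fun X Y f hf => by
      have : Smooth f := hf
      exact (inferInstance : Flat f)) h) h1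
  have hfp : AlgSt.RepByAlgSpWith (AlgSp.LocP @LocallyOfFinitePresentation) x :=
    repByAlgSpWith_mono x (fun F T π h => Groth.Agent.S10265.locP_mono (fun X Y f hf => by
      have : Smooth f := hf
      exact (inferInstance : LocallyOfFinitePresentation f)) h) h1
  exact repByAlgSpWith_and x (isoInv_locP _) (repByAlgSpWith_and x (isoInv_locP _) h2 hfl) hfp

/-- **Key lemma**: an algebraic stack fibred in setoids is representable by an algebraic space -/
theorem repByAlgSp_of_isFibSetoid {𝒳 : AlgSt.Cat S} (h𝒳 : AlgSt.IsAlgStack Scheme.fppfPrecoverage 𝒳)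
    (hset : IsFibSetoid 𝒳.p) : AlgSt.RepByAlgSp 𝒳 := by
  have hsh : Presieve.IsSheaf (AlgSp.J S) (clsPsh hset.1) := isSheaf_clsPsh _ hset h𝒳.isStack
  let F : AlgSp.Sp S := ⟨clsPsh hset.1, (isSheaf_iff_isSheaf_of_type _ _).2 hsh⟩
  obtain ⟨Ei, ⟨γ⟩, ⟨δ⟩⟩ := toCls_isEquivOver hset
  have hEi : IsEquivOver Ei := isEquivOver_symm γ δ
  obtain ⟨U, x, hx1, hx2⟩ := h𝒳.atlas
  have hxQ := repByAlgSpWith_Qfppf x hx1 hx2
  obtain ⟨G, ⟨α⟩, ⟨β⟩⟩ := toYon_isEquivOver.{u + 1} U
  have hG : IsEquivOver G := isEquivOver_symm α β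
  have hrep := repBySpWith_pshMapOf Qfppf isoInv_Qfppf x G hG Ei (toCls hset.1) γ hEi hxQ
  let p : (AlgSp.yon S).obj U ⟶ F :=
    ObjectProperty.homMk (pshMapOf (BasedFunctor.comp (BasedFunctor.comp G x) (toCls hset.1)))
  have hp := (AlgSp.repBySpWith_hom_iff Qfppf p).1 hrep
  have hF : AlgSp.IsAlgSpace F :=
    Groth.Agent.Lib.helper5.FppfBoot.isAlgSpace_of_repBySpWith_fppf (AlgSp.IsAlgSpace.yon_obj U) p
      (fun T ξ F' fst snd sq => by
        obtain ⟨h1, h2⟩ := hp ξ fst snd sq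
        exact ⟨h1, ⟨⟨h2.1.1, h2.1.2⟩, h2.2⟩⟩)
  exact ⟨⟨F, hF⟩, Ei, hEi⟩

end Groth.Agent.Lib.helper4.AlgStBoot
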