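import Groth.Agent.Lib.Helper4.AlgStDM
import Groth.Agent.Lib.Helper4.AlgStFpAlg
import Groth.Agent.Lib.Helper4.FibRep
set_option autoImplicit false
set_option backward.isDefEq.respectTransparency false
set_option backward.isDefEq.respectTransparency.types false
set_option linter.unusedSectionVars false
set_option linter.style.haveILetI false
set_option linter.unusedVariables false
open CategoryTheory CategoryTheory.Functor CategoryTheory.Limits Opposite AlgebraicGeometry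
universe u

/-! The base category `(Sch/S)` over itself is an algebraic stack; products of algebraic stacks; algebraic spaces
as algebraic stacks. -/

namespace Groth.Agent.Lib.helper4.AlgStSelf
open Groth.Agent.FibEquiv FibCat Groth.Agent.Lib.helper4.FibPaste Groth.Agent.Lib.helper4.AlgStEquiv
open Groth.Agent.Lib.helper4.AlgStSetoid Groth.Agent.FibFpProj Groth.Agent.Lib.helper4.FibRep
open Groth.Agent.Lib.helper4.AlgStFpAlg Groth.Agent.Lib.helper4.AlgStDM

variable {S : Scheme.{u}}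

/-- `(Sch/S)` over itself is representable (by `S`) -/
theorem repByAlgSp_selfOver : AlgSt.RepByAlgSp (selfOver (Over S)) := by
  have hT : IsTerminal (Over.mk (𝟙 S) : (selfOver (Over S)).obj) := Over.mkIdTerminal
  obtain ⟨U, F, hF⟩ := isRepresentable_of_isTerminal isFibGrpd_selfOver hT
  obtain ⟨Fi, ⟨α⟩, ⟨β⟩⟩ := hF
  exact repByAlgSp_of_isEquivOver Fi (isEquivOver_symm α β) (repByAlgSp_overCat U)

/-- a category over `(Sch/S)` representable by an algebraic space is an algebraic stack -/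
theorem isAlgStack_of_repByAlgSp {𝒳 : AlgSt.Cat S} (h : AlgSt.RepByAlgSp 𝒳) :
    AlgSt.IsAlgStack Scheme.fppfPrecoverage 𝒳 := (isDM_of_repByAlgSp h).1

theorem isAlgStack_selfOver : AlgSt.IsAlgStack Scheme.fppfPrecoverage (selfOver (Over S)) :=
  isAlgStack_of_repByAlgSp repByAlgSp_selfOver

theorem isAlgStack_ofSp (F : AlgSp.Space S) : AlgSt.IsAlgStack Scheme.fppfPrecoverage (AlgSt.ofSp F.obj) :=
  (isDM_ofSp F).1

theorem isAlgStack_overCat (U : Over S) : AlgSt.IsAlgStack Scheme.fppfPrecoverage (overCat U) :=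
  isAlgStack_of_repByAlgSp (repByAlgSp_overCat U)

/-- S12764 -/
theorem isAlgStack_prod {𝒳 𝒴 : AlgSt.Cat S} (h𝒳 : AlgSt.IsAlgStack Scheme.fppfPrecoverage 𝒳)
    (h𝒴 : AlgSt.IsAlgStack Scheme.fppfPrecoverage 𝒴) :
    AlgSt.IsAlgStack Scheme.fppfPrecoverage (fp (toSelf 𝒳) (toSelf 𝒴)) :=
  isAlgStack_fp isAlgStack_selfOver.isStack isAlgStack_selfOver.diag h𝒳 h𝒴 _ _

/-- 2-fibre products of algebraic stacks are algebraic stacks -/
theorem isAlgStack_fp' {𝒳 𝒴 𝒵 : AlgSt.Cat S} (h𝒳 : AlgSt.IsAlgStack Scheme.fppfPrecoverage 𝒳)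
    (h𝒴 : AlgSt.IsAlgStack Scheme.fppfPrecoverage 𝒴) (h𝒵 : AlgSt.IsAlgStack Scheme.fppfPrecoverage 𝒵)
    (f : 𝒳 ⥤ᵇ 𝒵) (g : 𝒴 ⥤ᵇ 𝒵) : AlgSt.IsAlgStack Scheme.fppfPrecoverage (fp f g) :=
  isAlgStack_fp h𝒵.isStack h𝒵.diag h𝒳 h𝒴 f g

end Groth.Agent.Lib.helper4.AlgStSelf
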