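import Groth.Agent.Lib.Helper4.AlgStBoot1
import Groth.Agent.Lib.Helper4.AlgStSelf
set_option autoImplicit false
set_option backward.isDefEq.respectTransparency false
set_option backward.isDefEq.respectTransparency.types false
set_option linter.unusedSectionVars false
set_option linter.style.haveILetI false
set_option linter.unusedVariables false
open CategoryTheory CategoryTheory.Functor CategoryTheory.Limits Opposite AlgebraicGeometry
universe u

/-! Consequences of the bootstrap: faithful morphisms of algebraic stacks are representable by algebraic spaces,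
fully faithful ones are monomorphisms. -/

namespace Groth.Agent.Lib.helper4.AlgStBoot
open Groth.Agent.FibEquiv Groth.Agent.FibYoneda Groth.Agent.FibFpProj Stk FibCat
open Groth.Agent.Lib.helper4.Descent Groth.Agent.Lib.helper4.PshDict Groth.Agent.Lib.helper4.FibPaste
open Groth.Agent.Lib.helper4.AlgStEquiv Groth.Agent.Lib.helper4.PshRep Groth.Agent.Lib.helper4.PshPB
open Groth.Agent.Lib.helper4.FibSwap Groth.Agent.Lib.helper4.AlgStSetoid Groth.Agent.Lib.helper4.AlgStCoreA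
open Groth.Agent.Lib.helper4.AlgStDescent Groth.Agent.Lib.helper4.AlgStSource Groth.Agent.Lib.helper4.AlgStDM
open Groth.Agent.Lib.helper4.AlgStSmLoc Groth.Agent.Lib.helper4.PointsBasic Groth.Agent.Lib.helper4.AlgStRep
open Groth.Agent.Lib.helper4.AlgStPts Groth.Agent.Lib.helper4.AlgStFpAlg
open Groth.Agent.Lib.helper4.PshOfSetoid Groth.Agent.Lib.Helper4.AlgStGlue
open Groth.Agent.Lib.helper4.AlgStCancel Groth.Agent.Lib.helper4.AlgStOpenSub
open Groth.Agent.Lib.helper4.DiagBC Groth.Agent.Lib.helper4.AlgStFaithful Groth.Agent.Lib.helper4.AlgStSelf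
open AlgSt

variable {S : Scheme.{u}}

/-- the first projection of a 2-fibre product is full when the second functor is -/
theorem fpFst_full_of_full {𝒜 ℬ 𝒞 : AlgSt.Cat S} (F : 𝒜 ⥤ᵇ 𝒞) (G : ℬ ⥤ᵇ 𝒞) [G.toFunctor.Full] :
    (fpFst F G).toFunctor.Full where
  map_surjective {t t'} m := by
    let m' : t.obj.fst ⟶ t'.obj.fst := m
    refine ⟨fpHomMk F G m' (G.toFunctor.preimage (t.obj.iso.inv ≫ F.toFunctor.map m' ≫ t'.obj.iso.hom)) ?_, rfl⟩
    rw [G.toFunctor.map_preimage, Iso.hom_inv_id_assoc]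

/-- a functor between categories fibred in groupoids which kills no non-trivial automorphism is faithful -/
theorem faithful_of_aut_kernel {𝒳 𝒴 : AlgSt.Cat S} (h𝒳 : IsFibGrpd 𝒳.p) (h𝒴 : IsFibGrpd 𝒴.p)
    (f : 𝒳 ⥤ᵇ 𝒴) (hk : ∀ (x : 𝒳.obj) (α : x ⟶ x), f.toFunctor.map α = 𝟙 _ → α = 𝟙 x) :
    f.toFunctor.Faithful := by
  constructor
  intro x x' φ φ' h
  have hsc : 𝒳.p.IsStronglyCartesian (𝒳.p.map φ') φ' := h𝒳.isStronglyCartesian φ'
  have hbase : 𝒳.p.map φ = 𝒳.p.map φ' := by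
    have e1 := Functor.congr_hom f.w φ
    have e2 := Functor.congr_hom f.w φ'
    have e3 : (f.toFunctor ⋙ 𝒴.p).map φ = (f.toFunctor ⋙ 𝒴.p).map φ' := by
      rw [Functor.comp_map, Functor.comp_map, h]
    rw [e1, e2] at e3
    rw [cancel_epi, cancel_mono] at e3
    exact e3
  have hl : 𝒳.p.IsHomLift (𝒳.p.map φ') φ := by rw [← hbase]; infer_instance
  let α : x ⟶ x := IsStronglyCartesian.map 𝒳.p (𝒳.p.map φ') φ'
    (show 𝒳.p.map φ' = 𝟙 _ ≫ 𝒳.p.map φ' by simp) φ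
  have hα : 𝒳.p.IsHomLift (𝟙 (𝒳.p.obj x)) α := inferInstance
  have hfac : α ≫ φ' = φ := IsStronglyCartesian.fac 𝒳.p (𝒳.p.map φ') φ'
    (show 𝒳.p.map φ' = 𝟙 _ ≫ 𝒳.p.map φ' by simp) φ
  have hfα : f.toFunctor.map α = 𝟙 _ := by
    have hsc' : 𝒴.p.IsStronglyCartesian (𝒳.p.map φ') (f.toFunctor.map φ') :=
      Groth.Agent.Lib.helper4.FibRep.isStronglyCartesian_of_isFibGrpd' h𝒴 _ _
    have i1 : 𝒴.p.IsHomLift (𝟙 (𝒳.p.obj x)) (f.toFunctor.map α) := inferInstance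
    have i2 : 𝒴.p.IsHomLift (𝟙 (𝒳.p.obj x)) (𝟙 (f.toFunctor.obj x)) := IsHomLift.id (f.w_obj x)
    apply IsStronglyCartesian.ext 𝒴.p (𝒳.p.map φ') (f.toFunctor.map φ') (𝟙 (𝒳.p.obj x))
    rw [← CategoryTheory.Functor.map_comp, hfac, h, Category.id_comp]
  have := hk x α hfα
  rw [← hfac, this, Category.id_comp]

section Faithful

variable {𝒳 𝒴 : AlgSt.Cat S} (h𝒳 : AlgSt.IsAlgStack Scheme.fppfPrecoverage 𝒳)
  (h𝒴 : AlgSt.IsAlgStack Scheme.fppfPrecoverage 𝒴) (f : 𝒳 ⥤ᵇ 𝒴)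
include h𝒳 h𝒴

/-- a faithful morphism of algebraic stacks is representable by algebraic spaces -/
theorem repByAlgSp1_of_faithful [f.toFunctor.Faithful] : AlgSt.RepByAlgSp1 f := by
  intro U y
  have hU : AlgSt.IsAlgStack Scheme.fppfPrecoverage (overCat U) := isAlgStack_overCat U
  have hfp : AlgSt.IsAlgStack Scheme.fppfPrecoverage (fp y f) :=
    isAlgStack_fp h𝒴.isStack h𝒴.diag hU h𝒳 y f
  haveI : (fpFst y f).toFunctor.Faithful := fpFst_faithful_of_faithful y f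
  have hset : IsFibSetoid (fp y f).p :=
    ⟨hfp.isStack.1, Groth.Agent.StkLib.thin_source (fpFst y f) (thin_overCat U)⟩
  exact repByAlgSp_of_isFibSetoid hfp hset

/-- S12762 -/
theorem faithful_iff_repByAlgSp1 : f.toFunctor.Faithful ↔ AlgSt.RepByAlgSp1 f :=
  ⟨fun h => by haveI := h; exact repByAlgSp1_of_faithful h𝒳 h𝒴 f,
    fun h => faithful_of_repByAlgSp1 h𝒳.isStack.1 h𝒴.isStack.1 f h⟩

/-- S12977 -/
theorem repByAlgSp1_iff_aut_kernel : AlgSt.RepByAlgSp1 f ↔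
    ∀ (a : 𝒳.obj) (φ : a ⟶ a), 𝒳.p.map φ = 𝟙 (𝒳.p.obj a) → f.map φ = 𝟙 (f.obj a) → φ = 𝟙 a := by
  constructor
  · intro h a φ _ hφ
    exact aut_eq_id_of_repByAlgSp1 h𝒴.isStack.1 f h a φ hφ
  · intro h
    haveI : f.toFunctor.Faithful := faithful_of_aut_kernel h𝒳.isStack.1 h𝒴.isStack.1 f (fun x α hα => by
      refine h x α ?_ hα
      have e1 := Functor.congr_hom f.w α
      rw [Functor.comp_map, hα, CategoryTheory.Functor.map_id] at e1
      have e2 : 𝒳.p.map α = eqToHom (f.w_obj x).symm ≫ 𝟙 _ ≫ eqToHom (f.w_obj x) := by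
        rw [e1]; simp
      rw [e2]; simp)
    exact repByAlgSp1_of_faithful h𝒳 h𝒴 f

end Faithful

/-- S12761 -/
theorem isFibSetoid_iff_repByAlgSp {𝒳 : AlgSt.Cat S} (h𝒳 : AlgSt.IsAlgStack Scheme.fppfPrecoverage 𝒳) :
    IsFibSetoid 𝒳.p ↔ AlgSt.RepByAlgSp 𝒳 :=
  ⟨repByAlgSp_of_isFibSetoid h𝒳, Groth.Agent.S12787.result h𝒳.isStack.1⟩

end Groth.Agent.Lib.helper4.AlgStBoot
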