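import Groth.Agent.Lib.Helper4.AlgStBoot2
set_option autoImplicit false
set_option backward.isDefEq.respectTransparency false
set_option backward.isDefEq.respectTransparency.types false
set_option linter.unusedSectionVars false
set_option linter.style.haveILetI false
set_option linter.unusedVariables false
open CategoryTheory CategoryTheory.Functor CategoryTheory.Limits Opposite AlgebraicGeometry
universe u

/-! Further consequences of the bootstrap: monomorphisms, diagonals and inertia. -/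

namespace Groth.Agent.Lib.helper4.AlgStBoot
open Groth.Agent.FibEquiv Groth.Agent.FibYoneda Groth.Agent.FibFpProj Stk FibCat
open Groth.Agent.Lib.helper4.Descent Groth.Agent.Lib.helper4.PshDict Groth.Agent.Lib.helper4.FibPaste
open Groth.Agent.Lib.helper4.AlgStEquiv Groth.Agent.Lib.helper4.PshRep Groth.Agent.Lib.helper4.PshPB
open Groth.Agent.Lib.helper4.FibSwap Groth.Agent.Lib.helper4.AlgStSetoid Groth.Agent.Lib.helper4.AlgStCoreA
open Groth.Agent.Lib.helper4.AlgStDescent Groth.Agent.Lib.helper4.AlgStSource Groth.Agent.Lib.helper4.AlgStDM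
open Groth.Agent.Lib.helper4.AlgStSmLoc Groth.Agent.Lib.helper4.PointsBasic Groth.Agent.Lib.helper4.AlgStRep
open Groth.Agent.Lib.helper4.AlgStPts Groth.Agent.Lib.helper4.AlgStFpAlg
open Groth.Agent.Lib.helper4.PshOfSetoid Groth.Agent.Lib.Helper4.AlgStGlue
open Groth.Agent.Lib.helper4.AlgStCancel Groth.Agent.Lib.helper4.AlgStOpenSub
open Groth.Agent.Lib.helper4.DiagBC Groth.Agent.Lib.helper4.AlgStFaithful Groth.Agent.Lib.helper4.AlgStSelf
open Groth.Agent.Lib.helper4.FibInertiaDiag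
open AlgSt

variable {S : Scheme.{u}}

/-- invariance of equivalences over the base under 2-isomorphism -/
theorem isEquivOver_of_iso {𝒜 ℬ : AlgSt.Cat S} {F G : 𝒜 ⥤ᵇ ℬ} (i : F ≅ G) (h : IsEquivOver F) :
    IsEquivOver G := by
  obtain ⟨H, ⟨α⟩, ⟨β⟩⟩ := h
  exact ⟨H, ⟨(whiskerRightIso i.symm H).trans α⟩, ⟨(whiskerLeftIso H i.symm).trans β⟩⟩

/-- the map of sheaves attached to a full functor to a slice is a monomorphism -/
theorem mono_spMapOfOver_of_full {F : AlgSp.Sp S} {U : Over S} (Φ : AlgSt.ofSp F ⥤ᵇ overCat U)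
    [Φ.toFunctor.Full] : Mono (AlgSt.spMapOfOver Φ) := by
  apply mono_of_app_injective
  intro T x x' h
  have h' : AlgSt.secHom Φ ⟨T.unop, x⟩ = AlgSt.secHom Φ ⟨T.unop, x'⟩ := congrArg ULift.down h
  let a : (AlgSt.ofSp F).obj := ⟨T.unop, x⟩
  let a' : (AlgSt.ofSp F).obj := ⟨T.unop, x'⟩
  have ha : (Φ.toFunctor.obj a).left = T.unop := Φ.w_obj a
  have ha' : (Φ.toFunctor.obj a').left = T.unop := Φ.w_obj a'
  have h'' : eqToHom ha.symm ≫ (Φ.toFunctor.obj a).hom = eqToHom ha'.symm ≫ (Φ.toFunctor.obj a').hom := h'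
  let m : Φ.toFunctor.obj a ⟶ Φ.toFunctor.obj a' :=
    Over.homMk (eqToHom ha ≫ eqToHom ha'.symm) (by
      rw [Category.assoc, ← h'', eqToHom_trans_assoc, eqToHom_refl, Category.id_comp])
  obtain ⟨ψ, hψ⟩ := Φ.toFunctor.map_surjective m
  have h2 : (Φ.toFunctor.map ψ).left = eqToHom ha ≫ ψ.hom ≫ eqToHom ha'.symm :=
    IsHomLift.fac' (overCat U).p ((AlgSt.ofSp F).p.map ψ) (Φ.map ψ)
  have h3 : ψ.hom = 𝟙 T.unop := by
    rw [hψ] at h2
    have h4 : eqToHom ha ≫ eqToHom ha'.symm = eqToHom ha ≫ ψ.hom ≫ eqToHom ha'.symm := h2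
    have h5 := congrArg (fun k => eqToHom ha.symm ≫ k ≫ eqToHom ha') h4
    simp only [Category.assoc, eqToHom_trans, eqToHom_refl, Category.comp_id, eqToHom_trans_assoc,
      Category.id_comp] at h5
    exact h5.symm
  have h6 : F.obj.map ψ.hom.op x' = x := ψ.map_sec
  rw [h3] at h6
  have h7 : F.obj.map (𝟙 T.unop).op x' = x' := by
    rw [op_id, F.obj.map_id]; rfl
  exact h6.symm.trans h7

section Mono

variable {𝒳 𝒴 : AlgSt.Cat S} (h𝒳 : AlgSt.IsAlgStack Scheme.fppfPrecoverage 𝒳)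
  (h𝒴 : AlgSt.IsAlgStack Scheme.fppfPrecoverage 𝒴) (f : 𝒳 ⥤ᵇ 𝒴)
include h𝒳 h𝒴

/-- S12840: a fully faithful morphism of algebraic stacks is a monomorphism -/
theorem isMono_of_full_of_faithful [f.toFunctor.Full] [f.toFunctor.Faithful] : AlgSt.IsMono f := by
  intro U y
  obtain ⟨F, e, he⟩ := repByAlgSp1_of_faithful h𝒳 h𝒴 f U y
  refine ⟨F, e, he, ?_⟩
  obtain ⟨⟨fulle, _⟩, _⟩ := of_isEquivOver e he
  haveI := fulle
  haveI : (fpFst y f).toFunctor.Full := fpFst_full_of_full y f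
  haveI : (BasedFunctor.comp e (fpFst y f)).toFunctor.Full :=
    inferInstanceAs (e.toFunctor ⋙ (fpFst y f).toFunctor).Full
  change Mono _
  exact mono_spMapOfOver_of_full _

/-- representability by algebraic spaces in terms of the kernel of `Aut(x) ⟶ Aut(f x)` (no verticality asked) -/
theorem repByAlgSp1_iff_kernel : AlgSt.RepByAlgSp1 f ↔
    ∀ (x : 𝒳.obj) (α : x ⟶ x), f.toFunctor.map α = 𝟙 _ → α = 𝟙 x := by
  constructor
  · intro h x α hα
    exact aut_eq_id_of_repByAlgSp1 h𝒴.isStack.1 f h x α hα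
  · intro h
    haveI : f.toFunctor.Faithful := faithful_of_aut_kernel h𝒳.isStack.1 h𝒴.isStack.1 f h
    exact repByAlgSp1_of_faithful h𝒳 h𝒴 f

/-- S12978 -/
theorem repByAlgSp1_of_isMono_diag (h : AlgSt.IsMono (FibCat.diag f)) : AlgSt.RepByAlgSp1 f := by
  have hX := h𝒳.isStack.1
  have hY := h𝒴.isStack.1
  have hfp : IsFibGrpd (fp f f).p := isFibGrpd_fp _ _ hX hX hY
  haveI : (FibCat.diag f).toFunctor.Full :=
    Groth.Agent.Lib.helper4.AlgStFull.full_of_isMono hX hfp (FibCat.diag f) h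
  refine (repByAlgSp1_iff_kernel h𝒳 h𝒴 f).2 (fun x α hα => ?_)
  let m : (FibCat.diag f).toFunctor.obj x ⟶ (FibCat.diag f).toFunctor.obj x := fpHomMk f f α (𝟙 x) (by
    change f.toFunctor.map α ≫ 𝟙 _ = 𝟙 _ ≫ f.toFunctor.map (𝟙 x)
    rw [hα]; simp)
  obtain ⟨n, hn⟩ := (FibCat.diag f).toFunctor.map_surjective m
  have h1 : n = α := congrArg (fun k => k.hom.fst) hn
  have h2 : n = 𝟙 x := congrArg (fun k => k.hom.snd) hn
  rw [← h1, h2]

end Mono

end Groth.Agent.Lib.helper4.AlgStBoot
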