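import Groth.Agent.Lib.Helper4.AlgStCoreA
import Groth.Agent.Lib.Helper4.PshPB
set_option autoImplicit false
set_option backward.isDefEq.respectTransparency false
set_option backward.isDefEq.respectTransparency.types false
set_option linter.unusedSectionVars false
set_option linter.style.haveILetI false
open CategoryTheory CategoryTheory.Functor CategoryTheory.Limits Opposite AlgebraicGeometry
universe u

/-! Descent of properties of morphisms representable by algebraic spaces along fppf coverings of the target. -/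

namespace Groth.Agent.Lib.helper4.AlgStDescent
open Groth.Agent.FibEquiv Groth.Agent.FibYoneda Groth.Agent.FibFpProj Stk FibCat
open Groth.Agent.Lib.helper4.Descent Groth.Agent.Lib.helper4.PshDict Groth.Agent.Lib.helper4.FibPaste
open Groth.Agent.Lib.helper4.AlgStEquiv Groth.Agent.Lib.helper4.PshRep Groth.Agent.Lib.helper4.PshPB
open Groth.Agent.Lib.helper4.FibSwap Groth.Agent.Lib.helper4.AlgStSetoid Groth.Agent.Lib.helper4.AlgStCoreA

variable {S : Scheme.{u}}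

/-- two representing sheaves of the same category are isomorphic compatibly with maps to a scheme -/
theorem change_rep {𝒜 : AlgSt.Cat S} {U : Over S} (q : 𝒜 ⥤ᵇ overCat U) {Z₁ Z₂ : AlgSp.Sp S}
    (e₁ : AlgSt.ofSp Z₁ ⥤ᵇ 𝒜) (e₂ : AlgSt.ofSp Z₂ ⥤ᵇ 𝒜) (he₁ : IsEquivOver e₁) (he₂ : IsEquivOver e₂) :
    ∃ j : Z₁ ≅ Z₂, AlgSt.spMapOfOver (BasedFunctor.comp e₁ q) = j.hom ≫ AlgSt.spMapOfOver (BasedFunctor.comp e₂ q) := by
  obtain ⟨e₂i, ⟨α⟩, ⟨β⟩⟩ := he₂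
  have he₂i : IsEquivOver e₂i := isEquivOver_symm α β
  obtain ⟨i, hi⟩ := exists_iso_of_isEquivOver (BasedFunctor.comp e₁ e₂i) (isEquivOver_comp _ _ he₁ he₂i)
  let j : Z₁ ≅ Z₂ := (fullyFaithfulSheafToPresheaf (AlgSp.J S) _).preimageIso (X := Z₁) (Y := Z₂) i
  refine ⟨j, ?_⟩
  apply ObjectProperty.hom_ext
  rw [spMapOfOver_hom]
  change _ = i.hom ≫ (AlgSt.spMapOfOver (BasedFunctor.comp e₂ q)).hom
  rw [spMapOfOver_hom, hi]
  refine Eq.trans ?_ (pshMapOf_comp (P := Z₁.obj) (Q := Z₂.obj) (BasedFunctor.comp e₁ e₂i)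
    (BasedFunctor.comp (BasedFunctor.comp e₂ q) (toYon.{u + 1} U)))
  apply pshMapOf_congr
  have i2 : BasedFunctor.comp (BasedFunctor.comp e₁ (BasedFunctor.comp e₂i e₂))
        (BasedFunctor.comp q (toYon.{u + 1} U)) ≅
      BasedFunctor.comp (BasedFunctor.comp e₁ (BasedFunctor.id _)) (BasedFunctor.comp q (toYon.{u + 1} U)) :=
    Groth.Agent.Lib.helper4.AlgStRep.whiskerRightIso (whiskerLeftIso e₁ β) _
  exact i2.symm

theorem locP_iso_comp {P : MorphismProperty Scheme.{u}} {Z₁ Z₂ G : AlgSp.Sp S} (j : Z₁ ≅ Z₂) (c : Z₂ ⟶ G)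
    (h : AlgSp.LocP P c) : AlgSp.LocP P (j.hom ≫ c) := by
  intro A B a b k ha hb hsq
  exact h (a ≫ j.hom) b k (MorphismProperty.RespectsIso.postcomp _ j.hom a ha) hb
    (by rw [Category.assoc, hsq])

theorem isSurjectiveMor_iso_comp {Z₁ Z₂ G : AlgSp.Sp S} (j : Z₁ ≅ Z₂) (c : Z₂ ⟶ G)
    (h : AlgSp.IsSurjectiveMor c) : AlgSp.IsSurjectiveMor (j.hom ≫ c) := by
  intro x
  obtain ⟨y, rfl⟩ := h x
  refine ⟨AlgSp.Points.map j.inv y, ?_⟩
  rw [← AlgSp.Points.map_comp, Iso.inv_hom_id_assoc]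

/-- a flat, locally finitely presented, surjective functor representable by algebraic spaces gives an fppf covering of
every scheme mapping to its target -/
theorem exists_cover {𝒵 𝒴 : AlgSt.Cat S} (z : 𝒵 ⥤ᵇ 𝒴)
    (hz₁ : AlgSt.RepByAlgSpWith (AlgSp.LocP @Flat) z)
    (hz₂ : AlgSt.RepByAlgSpWith (AlgSp.LocP @LocallyOfFinitePresentation) z)
    (hz₃ : AlgSt.RepByAlgSpWith AlgSp.IsSurjectiveMor z) (U : Over S) (y : overCat U ⥤ᵇ 𝒴) :
    ∃ (Z : AlgSp.Space S) (eZ : AlgSt.ofSp Z.obj ⥤ᵇ fp y z), IsEquivOver eZ ∧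
      AlgSp.IsFppfCover (fun _ : PUnit.{u + 1} => Z.obj)
        (fun _ => AlgSt.spMapOfOver (BasedFunctor.comp eZ (fpFst y z))) := by
  obtain ⟨Z₁, e₁, he₁, h₁⟩ := hz₁ U y
  obtain ⟨Z₂, e₂, he₂, h₂⟩ := hz₂ U y
  obtain ⟨Z₃, e₃, he₃, h₃⟩ := hz₃ U y
  obtain ⟨j₂, hj₂⟩ := change_rep (fpFst y z) e₁ e₂ he₁ he₂
  obtain ⟨j₃, hj₃⟩ := change_rep (fpFst y z) e₁ e₃ he₁ he₃
  refine ⟨Z₁, e₁, he₁, fun _ => ⟨h₁, ?_⟩, fun x => ⟨PUnit.unit, ?_⟩⟩
  · rw [hj₂]; exact locP_iso_comp j₂ _ h₂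
  · have := isSurjectiveMor_iso_comp j₃ _ h₃
    rw [← hj₃] at this
    exact this x

/-- **Descent along an fppf covering of the target**: if the base change of `f` along a flat, locally finitely
presented, surjective `z` has `P`, then `f` has `P` (S12843, converse direction) -/
theorem descent {𝒳 𝒴 𝒵 : AlgSt.Cat S} (h𝒳 : IsFibGrpd 𝒳.p) (h𝒴 : IsFibGrpd 𝒴.p) (h𝒵 : IsFibGrpd 𝒵.p)
    (P : MorphismProperty (AlgSp.Sp S))
    (hPb : ∀ ⦃X₁ Y₁ X₂ Y₂ : AlgSp.Sp S⦄, AlgSp.IsAlgSpace X₁ → AlgSp.IsAlgSpace Y₁ → AlgSp.IsAlgSpace X₂ →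
      AlgSp.IsAlgSpace Y₂ → ∀ (a : X₁ ⟶ Y₁) (b : Y₂ ⟶ Y₁) (a' : X₂ ⟶ Y₂) (b' : X₂ ⟶ X₁),
      IsPullback b' a' a b → P a → P a')
    (hP : AlgSp.IsLocalOnBase AlgSp.IsFppfCover P)
    (f : 𝒳 ⥤ᵇ 𝒴) (hf : AlgSt.RepByAlgSp1 f) (z : 𝒵 ⥤ᵇ 𝒴)
    (hz₁ : AlgSt.RepByAlgSpWith (AlgSp.LocP @Flat) z)
    (hz₂ : AlgSt.RepByAlgSpWith (AlgSp.LocP @LocallyOfFinitePresentation) z)
    (hz₃ : AlgSt.RepByAlgSpWith AlgSp.IsSurjectiveMor z)
    (h' : AlgSt.RepByAlgSpWith P (fpFst z f)) : AlgSt.RepByAlgSpWith P f := by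
  have hQ : IsoInv P := isoInv_of_baseChange P hPb
  intro U y
  obtain ⟨X, eX, heX⟩ := hf U y
  refine ⟨X, eX, heX, ?_⟩
  obtain ⟨Z, eZ, heZ, hcov⟩ := exists_cover z hz₁ hz₂ hz₃ U y
  have hfpzf : IsFibGrpd (fp z f).p := isFibGrpd_fp z f h𝒵 h𝒳 h𝒴
  obtain ⟨T, eT, heT, hPT⟩ := coreA hfpzf h𝒵 P hQ hP (fpFst z f) h' Z (BasedFunctor.comp eZ (fpSnd y z))
  -- the comparison equivalences
  have hE1 := pasteL_isEquivOver (BasedFunctor.comp eZ (fpSnd y z)) z f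
  have hE2 := fpMap_isEquivOver (BasedFunctor.comp (BasedFunctor.comp eZ (fpSnd y z)) z)
    (BasedFunctor.comp (BasedFunctor.comp eZ (fpFst y z)) y) f f (BasedFunctor.id _) (BasedFunctor.id _)
    (whiskerLeftIso eZ (fpIso y z).symm) (Iso.refl _) (isEquivOver_id' _) (isEquivOver_id' _)
  have hE4 := fpMap_isEquivOver (BasedFunctor.comp eZ (fpFst y z)) (BasedFunctor.comp eZ (fpFst y z))
    (BasedFunctor.comp eX (fpFst y f)) (fpFst y f) eX (BasedFunctor.id _) (Iso.refl _) (Iso.refl _) heX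
    (isEquivOver_id' _)
  have hE3 := pasteL_isEquivOver (BasedFunctor.comp eZ (fpFst y z)) y f
  obtain ⟨E34i, ⟨α⟩, ⟨β⟩⟩ := isEquivOver_comp _ _ hE4 hE3
  have hE34i : IsEquivOver E34i := isEquivOver_symm α β
  have hD := isEquivOver_comp _ _ heT (isEquivOver_comp _ _ hE1 hE2)
  have hΞ := isEquivOver_comp _ _ hD hE34i
  have sq := isPullback_of_isEquivOver_over (BasedFunctor.comp eZ (fpFst y z)) (BasedFunctor.comp eX (fpFst y f))
    _ hΞ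
  have hfst : pshMapOf (BasedFunctor.comp (BasedFunctor.comp (BasedFunctor.comp eT (BasedFunctor.comp
        (pasteL (BasedFunctor.comp eZ (fpSnd y z)) z f)
        (fpMap (BasedFunctor.comp (BasedFunctor.comp eZ (fpSnd y z)) z)
          (BasedFunctor.comp (BasedFunctor.comp eZ (fpFst y z)) y) f f (BasedFunctor.id _) (BasedFunctor.id _)
          (whiskerLeftIso eZ (fpIso y z).symm) (Iso.refl _)))) E34i)
        (fpFst (BasedFunctor.comp eZ (fpFst y z)) (BasedFunctor.comp eX (fpFst y f)))) =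
      pshMapOf (BasedFunctor.comp eT (fpFst (BasedFunctor.comp eZ (fpSnd y z)) (fpFst z f))) := by
    apply pshMapOf_congr
    exact Groth.Agent.Lib.helper4.AlgStRep.whiskerRightIso (whiskerLeftIso _ β)
      (fpFst (BasedFunctor.comp (BasedFunctor.comp eZ (fpFst y z)) y) f)
  rw [hfst] at sq
  let p : T.obj ⟶ Z.obj :=
    ObjectProperty.homMk (pshMapOf (BasedFunctor.comp eT (fpFst (BasedFunctor.comp eZ (fpSnd y z)) (fpFst z f))))
  let q : T.obj ⟶ X.obj := ObjectProperty.homMk (pshMapOf (BasedFunctor.comp (BasedFunctor.comp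
      (BasedFunctor.comp eT (BasedFunctor.comp
        (pasteL (BasedFunctor.comp eZ (fpSnd y z)) z f)
        (fpMap (BasedFunctor.comp (BasedFunctor.comp eZ (fpSnd y z)) z)
          (BasedFunctor.comp (BasedFunctor.comp eZ (fpFst y z)) y) f f (BasedFunctor.id _) (BasedFunctor.id _)
          (whiskerLeftIso eZ (fpIso y z).symm) (Iso.refl _)))) E34i)
      (fpSnd (BasedFunctor.comp eZ (fpFst y z)) (BasedFunctor.comp eX (fpFst y f)))))
  have sqS : IsPullback q p (AlgSt.spMapOfOver (BasedFunctor.comp eX (fpFst y f)))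
      (AlgSt.spMapOfOver (BasedFunctor.comp eZ (fpFst y z))) := by
    apply IsPullback.of_map_of_faithful (sheafToPresheaf (AlgSp.J S) (Type (u + 1)))
    change IsPullback q.hom p.hom (AlgSt.spMapOfOver (BasedFunctor.comp eX (fpFst y f))).hom
      (AlgSt.spMapOfOver (BasedFunctor.comp eZ (fpFst y z))).hom
    rw [spMapOfOver_hom, spMapOfOver_hom]
    exact sq.flip
  exact (hP (fun _ : PUnit.{u + 1} => Z.obj) (fun _ => AlgSt.spMapOfOver (BasedFunctor.comp eZ (fpFst y z)))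
    (AlgSp.IsAlgSpace.yon_obj U) (fun _ => Z.property) hcov
    (AlgSt.spMapOfOver (BasedFunctor.comp eX (fpFst y f))) X.property (fun _ => T.obj) (fun _ => p) (fun _ => q)
    (fun _ => T.property) (fun _ => sqS)).2 (fun _ => hPT)

/-- a morphism of algebraic spaces with a property stable under base change is representable with that property -/
theorem repBySpWith_of_stable (P : MorphismProperty (AlgSp.Sp S))
    (hPb : ∀ ⦃X₁ Y₁ X₂ Y₂ : AlgSp.Sp S⦄, AlgSp.IsAlgSpace X₁ → AlgSp.IsAlgSpace Y₁ → AlgSp.IsAlgSpace X₂ →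
      AlgSp.IsAlgSpace Y₂ → ∀ (a : X₁ ⟶ Y₁) (b : Y₂ ⟶ Y₁) (a' : X₂ ⟶ Y₂) (b' : X₂ ⟶ X₁),
      IsPullback b' a' a b → P a → P a')
    {V W : AlgSp.Sp S} (hV : AlgSp.IsAlgSpace V) (hW : AlgSp.IsAlgSpace W) (a : V ⟶ W) (ha : P a) :
    AlgSp.RepBySpWith P a.hom := by
  rw [AlgSp.repBySpWith_hom_iff]
  intro T ξ F' fst snd sq
  have hF' : AlgSp.IsAlgSpace F' :=
    (AlgSp.repBySp_hom_iff a).1 (repBySp_of_isAlgSpaceP ((AlgSp.isAlgSpaceP_obj_iff V).2 hV)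
      ((AlgSp.isAlgSpaceP_obj_iff W).2 hW) a.hom) ξ fst snd sq
  exact ⟨hF', hPb hV hW hF' (AlgSp.IsAlgSpace.yon_obj T) a ξ snd fst sq ha⟩

/-- S12844 -/
theorem repByAlgSpWith_iff_cover {𝒳 𝒴 : AlgSt.Cat S} (h𝒳 : IsFibGrpd 𝒳.p) (h𝒴 : IsFibGrpd 𝒴.p)
    (P : MorphismProperty (AlgSp.Sp S))
    (hPb : ∀ ⦃X₁ Y₁ X₂ Y₂ : AlgSp.Sp S⦄, AlgSp.IsAlgSpace X₁ → AlgSp.IsAlgSpace Y₁ → AlgSp.IsAlgSpace X₂ →
      AlgSp.IsAlgSpace Y₂ → ∀ (a : X₁ ⟶ Y₁) (b : Y₂ ⟶ Y₁) (a' : X₂ ⟶ Y₂) (b' : X₂ ⟶ X₁),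
      IsPullback b' a' a b → P a → P a')
    (hP : AlgSp.IsLocalOnBase AlgSp.IsFppfCover P)
    (f : 𝒳 ⥤ᵇ 𝒴) (hf : AlgSt.RepByAlgSp1 f) (W : AlgSp.Space S) (w : AlgSt.ofSp W.obj ⥤ᵇ 𝒴)
    (hw₁ : AlgSt.RepByAlgSpWith (AlgSp.LocP @Flat) w)
    (hw₂ : AlgSt.RepByAlgSpWith (AlgSp.LocP @LocallyOfFinitePresentation) w)
    (hw₃ : AlgSt.RepByAlgSpWith AlgSp.IsSurjectiveMor w) :
    AlgSt.RepByAlgSpWith P f ↔
      ∃ (V : AlgSp.Space S) (a : V ⟶ W) (e : AlgSt.ofSp V.obj ⥤ᵇ FibCat.fp w f),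
        FibCat.IsEquivOver e ∧
          Nonempty (BasedFunctor.comp e (FibCat.fpFst w f) ≅ AlgSt.ofSpMap a.hom) ∧ P a.hom := by
  have hQ : IsoInv P := isoInv_of_baseChange P hPb
  constructor
  · intro h
    obtain ⟨H, e, he, hPH⟩ := coreA h𝒳 h𝒴 P hQ hP f h W w
    exact ⟨H, ObjectProperty.homMk (ObjectProperty.homMk (pshMapOf (BasedFunctor.comp e (fpFst w f)))), e, he,
      ⟨isoOfPshMap _⟩, hPH⟩
  · rintro ⟨V, a, e, he, ⟨i⟩, hPa⟩
    have h1 : AlgSt.RepByAlgSpWith P (AlgSt.ofSpMap a.hom) :=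
      repByAlgSpWith_of_repBySpWith P a.hom.hom (repBySpWith_of_stable P hPb V.property W.property a.hom hPa)
    have h2 : AlgSt.RepByAlgSpWith P (fpFst w f) :=
      (repByAlgSpWith_iff_of_square P (fpFst w f) (AlgSt.ofSpMap a.hom) e (BasedFunctor.id _) he
        (isEquivOver_id' _) i.symm).2 h1
    exact descent h𝒳 h𝒴 (isFibGrpd_ofPsh _) P hPb hP f hf w hw₁ hw₂ hw₃ h2

end Groth.Agent.Lib.helper4.AlgStDescent
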