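import Groth.Agent.Lib.Helper4.AlgStBoot4
import Groth.Agent.Lib.Helper4.AlgStDiagDescent
import Groth.Agent.S12844
import Groth.Agent.S10546
import Groth.Agent.S10547
import Groth.Agent.S10531
import Groth.Agent.S10534
set_option autoImplicit false
set_option backward.isDefEq.respectTransparency false
set_option backward.isDefEq.respectTransparency.types false
set_option linter.unusedSectionVars false
set_option linter.style.haveILetI false
set_option linter.unusedVariables false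
open CategoryTheory CategoryTheory.Functor CategoryTheory.Limits Opposite AlgebraicGeometry
universe u

/-! Consequences of the bootstrap: representability by algebraic spaces is fppf local on the target. -/

namespace Groth.Agent.Lib.helper4.AlgStBoot
open Groth.Agent.FibEquiv Groth.Agent.FibYoneda Groth.Agent.FibFpProj Stk FibCat
open Groth.Agent.Lib.helper4.Descent Groth.Agent.Lib.helper4.PshDict Groth.Agent.Lib.helper4.FibPaste
open Groth.Agent.Lib.helper4.AlgStEquiv Groth.Agent.Lib.helper4.PshRep Groth.Agent.Lib.helper4.PshPB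
open Groth.Agent.Lib.helper4.FibSwap Groth.Agent.Lib.helper4.AlgStSetoid Groth.Agent.Lib.helper4.AlgStCoreA
open Groth.Agent.Lib.helper4.AlgStDescent Groth.Agent.Lib.helper4.AlgStSource Groth.Agent.Lib.helper4.AlgStDM
open Groth.Agent.Lib.helper4.AlgStSmLoc Groth.Agent.Lib.helper4.PointsBasic Groth.Agent.Lib.helper4.AlgStRep
open Groth.Agent.Lib.helper4.AlgStPts Groth.Agent.Lib.helper4.AlgStFpAlg
open Groth.Agent.Lib.helper4.PshOfSetoid Groth.Agent.Lib.Helper4.AlgStGlue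
open Groth.Agent.Lib.helper4.AlgStCancel Groth.Agent.Lib.helper4.AlgStOpenSub
open Groth.Agent.Lib.helper4.DiagBC Groth.Agent.Lib.helper4.AlgStFaithful Groth.Agent.Lib.helper4.AlgStSelf
open Groth.Agent.Lib.helper4.FibInertiaDiag Groth.Agent.Lib.helper4.AlgStDiagDescent
open Groth.Agent.Lib.helper4.AlgStDiagK
open AlgSt

variable {S : Scheme.{u}}

section Cover

variable {𝒳 𝒴 : AlgSt.Cat S} (h𝒳 : AlgSt.IsAlgStack Scheme.fppfPrecoverage 𝒳)
  (h𝒴 : AlgSt.IsAlgStack Scheme.fppfPrecoverage 𝒴) (f : 𝒳 ⥤ᵇ 𝒴) (W : AlgSp.Space S)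
  (w : AlgSt.ofSp W.obj ⥤ᵇ 𝒴)
  (hw₁ : AlgSt.RepByAlgSpWith (AlgSp.LocP @Flat) w)
  (hw₂ : AlgSt.RepByAlgSpWith (AlgSp.LocP @LocallyOfFinitePresentation) w)
  (hw₃ : AlgSt.RepByAlgSpWith AlgSp.IsSurjectiveMor w)
include h𝒳 h𝒴 hw₁ hw₂ hw₃

/-- S12842 -/
theorem repByAlgSp1_of_fp_flat_cover (h : AlgSt.RepByAlgSp (fp w f)) : AlgSt.RepByAlgSp1 f := by
  have hX := h𝒳.isStack.1
  have hY := h𝒴.isStack.1
  have hW : IsFibGrpd (AlgSt.ofSp W.obj).p := isFibGrpd_ofPsh _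
  have hfp : IsFibGrpd (fp w f).p := isFibGrpd_fp _ _ hW hX hY
  have h1 : AlgSt.RepByAlgSp1 (fpFst w f) :=
    Groth.Agent.S12775.result hfp hW h ⟨W, BasedFunctor.id _, isEquivOver_id' _⟩ _
  have h2 : AlgSt.IsMono (FibCat.diag (fpFst w f)) :=
    Groth.Agent.Lib.helper4.AlgStDiagK.isMono_diag_of_repByAlgSp1 _ h1
  have h3 : AlgSt.IsMono (FibCat.diag f) :=
    diag_descent hX hY hW (MorphismProperty.monomorphisms (AlgSp.Sp S))
      (fun X₁ Y₁ X₂ Y₂ h1 h2 _ h4 a b a' b' sq ha =>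
        (MorphismProperty.monomorphisms (AlgSp.Sp S)).of_isPullback sq ha)
      (isLocalOnBase_fppf_of_fpqc (Groth.Agent.S10546.result S)) f
      (repByAlgSp1_diag_of_isAlgStack h𝒳 h𝒴 f) w hw₁ hw₂ hw₃ h2
  exact repByAlgSp1_of_isMono_diag h𝒳 h𝒴 f h3

/-- the general form of S12841, S12873-S12875 -/
theorem repByAlgSpWith_iff_exists_of_cover (P : MorphismProperty (AlgSp.Sp S))
    (hPb : ∀ ⦃X₁ Y₁ X₂ Y₂ : AlgSp.Sp S⦄, AlgSp.IsAlgSpace X₁ → AlgSp.IsAlgSpace Y₁ → AlgSp.IsAlgSpace X₂ →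
      AlgSp.IsAlgSpace Y₂ → ∀ (a : X₁ ⟶ Y₁) (b : Y₂ ⟶ Y₁) (a' : X₂ ⟶ Y₂) (b' : X₂ ⟶ X₁),
      IsPullback b' a' a b → P a → P a')
    (hP : AlgSp.IsLocalOnBase AlgSp.IsFppfCover P) :
    AlgSt.RepByAlgSpWith P f ↔
      ∃ (V : AlgSp.Space S) (a : V ⟶ W) (e : AlgSt.ofSp V.obj ⥤ᵇ FibCat.fp w f),
        FibCat.IsEquivOver e ∧
          Nonempty (BasedFunctor.comp e (FibCat.fpFst w f) ≅ AlgSt.ofSpMap a.hom) ∧ P a.hom := by
  constructor
  · intro h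
    have hf : AlgSt.RepByAlgSp1 f := Groth.Agent.Lib.helper4.AlgStFull.repByAlgSp1_of_with P f h
    exact (Groth.Agent.S12844.result h𝒳 h𝒴 P hPb hP f hf W w hw₁ hw₂ hw₃).1 h
  · rintro ⟨V, a, e, he, hi, ha⟩
    have hf : AlgSt.RepByAlgSp1 f := repByAlgSp1_of_fp_flat_cover h𝒳 h𝒴 f W w hw₁ hw₂ hw₃ ⟨V, e, he⟩
    exact (Groth.Agent.S12844.result h𝒳 h𝒴 P hPb hP f hf W w hw₁ hw₂ hw₃).2 ⟨V, a, e, he, hi, ha⟩

/-- S12841 -/
theorem isMono_iff_of_cover :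
    AlgSt.IsMono f ↔
      ∃ (V : AlgSp.Space S) (a : V ⟶ W) (e : AlgSt.ofSp V.obj ⥤ᵇ FibCat.fp w f),
        FibCat.IsEquivOver e ∧
          Nonempty (BasedFunctor.comp e (FibCat.fpFst w f) ≅ AlgSt.ofSpMap a.hom) ∧ Mono a.hom :=
  repByAlgSpWith_iff_exists_of_cover h𝒳 h𝒴 f W w hw₁ hw₂ hw₃ (MorphismProperty.monomorphisms (AlgSp.Sp S))
    (fun X₁ Y₁ X₂ Y₂ h1 h2 _ h4 a b a' b' sq ha =>
      (MorphismProperty.monomorphisms (AlgSp.Sp S)).of_isPullback sq ha)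
    (isLocalOnBase_fppf_of_fpqc (Groth.Agent.S10546.result S))

/-- S12873 -/
theorem isImm_iff_of_cover :
    AlgSt.IsImm f ↔
      ∃ (V : AlgSp.Space S) (a : V ⟶ W) (e : AlgSt.ofSp V.obj ⥤ᵇ FibCat.fp w f),
        FibCat.IsEquivOver e ∧
          Nonempty (BasedFunctor.comp e (FibCat.fpFst w f) ≅ AlgSt.ofSpMap a.hom) ∧
            AlgSp.RepWith @IsImmersion a.hom :=
  repByAlgSpWith_iff_exists_of_cover h𝒳 h𝒴 f W w hw₁ hw₂ hw₃ (AlgSp.RepWith @IsImmersion)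
    (fun X₁ Y₁ X₂ Y₂ _ _ _ _ a b a' b' sq ha =>
      (MorphismProperty.relative_isStableUnderBaseChange _).of_isPullback sq ha)
    (Groth.Agent.S10547.result S)

/-- S12874 -/
theorem isOpenImm_iff_of_cover :
    AlgSt.IsOpenImm f ↔
      ∃ (V : AlgSp.Space S) (a : V ⟶ W) (e : AlgSt.ofSp V.obj ⥤ᵇ FibCat.fp w f),
        FibCat.IsEquivOver e ∧
          Nonempty (BasedFunctor.comp e (FibCat.fpFst w f) ≅ AlgSt.ofSpMap a.hom) ∧
            AlgSp.RepWith @IsOpenImmersion a.hom :=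
  repByAlgSpWith_iff_exists_of_cover h𝒳 h𝒴 f W w hw₁ hw₂ hw₃ (AlgSp.RepWith @IsOpenImmersion)
    (fun X₁ Y₁ X₂ Y₂ _ _ _ _ a b a' b' sq ha =>
      (MorphismProperty.relative_isStableUnderBaseChange _).of_isPullback sq ha)
    (isLocalOnBase_fppf_of_fpqc (Groth.Agent.S10531.result S))

/-- S12875 -/
theorem isClosedImm_iff_of_cover :
    AlgSt.IsClosedImm f ↔
      ∃ (V : AlgSp.Space S) (a : V ⟶ W) (e : AlgSt.ofSp V.obj ⥤ᵇ FibCat.fp w f),
        FibCat.IsEquivOver e ∧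
          Nonempty (BasedFunctor.comp e (FibCat.fpFst w f) ≅ AlgSt.ofSpMap a.hom) ∧
            AlgSp.RepWith @IsClosedImmersion a.hom :=
  repByAlgSpWith_iff_exists_of_cover h𝒳 h𝒴 f W w hw₁ hw₂ hw₃ (AlgSp.RepWith @IsClosedImmersion)
    (fun X₁ Y₁ X₂ Y₂ _ _ _ _ a b a' b' sq ha =>
      (MorphismProperty.relative_isStableUnderBaseChange _).of_isPullback sq ha)
    (isLocalOnBase_fppf_of_fpqc (Groth.Agent.S10534.result S))

end Cover

end Groth.Agent.Lib.helper4.AlgStBoot
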