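import Groth.Agent.Lib.Helper4.AlgStBootDiag
import Groth.Agent.Lib.Helper4.QuotEt1
import Groth.Agent.S10110
set_option autoImplicit false
set_option backward.isDefEq.respectTransparency false
set_option backward.isDefEq.respectTransparency.types false
set_option linter.unusedSectionVars false
set_option linter.style.haveILetI false
set_option linter.unusedVariables false
open CategoryTheory CategoryTheory.Functor CategoryTheory.Limits Opposite AlgebraicGeometry
universe u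

/-! Bootstrapping the diagonal for the etale topology: a stack in groupoids for the big etale topology with a smooth
surjective cover, representable by algebraic spaces, from an algebraic space has a diagonal representable by algebraic
spaces (helper4; uses helper1's S10110). -/

namespace Groth.Agent.Lib.helper4.AlgStBootEt
open Groth.Agent.FibEquiv Groth.Agent.FibYoneda Groth.Agent.FibFpProj Stk FibCat
open Groth.Agent.Lib.helper4.Descent Groth.Agent.Lib.helper4.PshDict Groth.Agent.Lib.helper4.FibPaste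
open Groth.Agent.Lib.helper4.AlgStEquiv Groth.Agent.Lib.helper4.PshRep Groth.Agent.Lib.helper4.PshPB
open Groth.Agent.Lib.helper4.FibSwap Groth.Agent.Lib.helper4.AlgStSetoid Groth.Agent.Lib.helper4.AlgStCoreA
open Groth.Agent.Lib.helper4.AlgStDescent Groth.Agent.Lib.helper4.AlgStSource Groth.Agent.Lib.helper4.AlgStDM
open Groth.Agent.Lib.helper4.AlgStSmLoc Groth.Agent.Lib.helper4.PointsBasic Groth.Agent.Lib.helper4.AlgStRep
open Groth.Agent.Lib.helper4.AlgStPts Groth.Agent.Lib.helper4.AlgStFpAlg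
open Groth.Agent.Lib.helper4.PshOfSetoid Groth.Agent.Lib.Helper4.AlgStGlue
open Groth.Agent.Lib.helper4.AlgStCancel Groth.Agent.Lib.helper4.AlgStBoot
open Groth.Agent.Lib.helper4.AlgStBootDiag
open AlgSt

variable {S : Scheme.{u}}

/-- an etale stack fibred in setoids with a smooth surjective cover by a category representable by an algebraic space
is representable by an algebraic space -/
theorem repByAlgSp_of_isFibSetoid_of_cover_et {𝒲 𝒲' : AlgSt.Cat S}
    (hst : Stk.IsStack (QuotSh.J Scheme.etalePrecoverage S) 𝒲) (hset : IsFibSetoid 𝒲.p) (h𝒲' : IsFibGrpd 𝒲'.p)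
    (hrep : AlgSt.RepByAlgSp 𝒲') (q : 𝒲' ⥤ᵇ 𝒲)
    (hq1 : AlgSt.RepByAlgSpWith (AlgSp.LocP @Smooth) q) (hq2 : AlgSt.RepByAlgSpWith AlgSp.IsSurjectiveMor q) :
    AlgSt.RepByAlgSp 𝒲 := by
  have hsh : Presieve.IsSheaf (QuotSh.J Scheme.etalePrecoverage S) (clsPsh hset.1) := isSheaf_clsPsh _ hset hst
  have hsh' : Presheaf.IsSheaf (QuotSh.J Scheme.etalePrecoverage S) (clsPsh hset.1) :=
    (isSheaf_iff_isSheaf_of_type _ _).2 hsh
  obtain ⟨Ei, ⟨γ⟩, ⟨δ⟩⟩ := toCls_isEquivOver hset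
  have hEi : IsEquivOver Ei := isEquivOver_symm γ δ
  obtain ⟨W, e, he⟩ := hrep
  have hqQ : AlgSt.RepByAlgSpWith (AlgSp.IsSurjectiveMor ⊓ AlgSp.LocP @Smooth) q :=
    repByAlgSpWith_and q (isoInv_locP _) hq2 hq1
  have hQ : IsoInv (AlgSp.IsSurjectiveMor (S := S) ⊓ AlgSp.LocP @Smooth) := by
    intro A B U j s hA hB h
    exact ⟨isoInv_isSurjectiveMor j s hA hB h.1, isoInv_locP _ j s hA hB h.2⟩
  have hrep' := repBySpWith_pshMapOf _ hQ q e he Ei (toCls hset.1) γ hEi hqQ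
  obtain ⟨hfppf, hF⟩ := Groth.Agent.S10110.result S (clsPsh hset.1) hsh' W _ hrep'
  exact ⟨⟨⟨clsPsh hset.1, hfppf⟩, hF⟩, Ei, hEi⟩

section D

variable {𝒳 : AlgSt.Cat S} (h𝒳 : Stk.IsStack (QuotSh.J Scheme.etalePrecoverage S) 𝒳)
  (F : AlgSp.Space S) (u : AlgSt.ofSp F.obj ⥤ᵇ 𝒳)
  (hsm : AlgSt.RepByAlgSpWith (AlgSp.LocP @Smooth) u) (hsurj : AlgSt.RepByAlgSpWith AlgSp.IsSurjectiveMor u)
include h𝒳 hsm hsurj

/-- **bootstrapping the diagonal, etale topology**: fibre products of schemes over an etale stack with a smooth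
surjective cover by an algebraic space are algebraic spaces -/
theorem repByAlgSp_fp_of_cover_et {T' T : Over S} (x' : overCat T' ⥤ᵇ 𝒳) (x : overCat T ⥤ᵇ 𝒳) :
    AlgSt.RepByAlgSp (fp x' x) := by
  have hX := h𝒳.1
  have hle := Groth.Agent.Lib.helper4.QuotEt.J_mono (S := S) Groth.Agent.Lib.helper4.QuotEt.etale_le_fppf
  have hT' : IsFibGrpd (overCat T').p := Groth.Agent.FibOver.isFibGrpd_overCat T'
  have hT : IsFibGrpd (overCat T).p := Groth.Agent.FibOver.isFibGrpd_overCat T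
  have hF : IsFibGrpd (AlgSt.ofSp F.obj).p := isFibGrpd_ofPsh _
  have h𝒲st : Stk.IsStack (QuotSh.J Scheme.etalePrecoverage S) (fp x' x) :=
    Groth.Agent.StkFp.isStack_fp x' x _
      (Groth.Agent.Lib.helper4.QuotEt.isStack_of_le hle
        (Groth.Agent.Lib.helper4.AlgStSelf.isAlgStack_overCat T').isStack)
      (Groth.Agent.Lib.helper4.QuotEt.isStack_of_le hle
        (Groth.Agent.Lib.helper4.AlgStSelf.isAlgStack_overCat T).isStack)
      (Groth.Agent.StkFp.isPrestack_of_isStack _ h𝒳)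
  have hset : IsFibSetoid (fp x' x).p :=
    ⟨h𝒲st.1, Groth.Agent.StkFp.thin_fp x' x (thin_overCat T') (thin_overCat T)⟩
  have hE' : IsFibGrpd (fp x' u).p := isFibGrpd_fp x' u hT' hF hX
  have hE'rep : AlgSt.RepByAlgSp (fp x' u) := by
    obtain ⟨Z, e, he, -⟩ := hsm T' x'
    exact ⟨Z, e, he⟩
  have hp1 : AlgSt.RepByAlgSpWith (AlgSp.LocP @Smooth) (fpFst x' u) :=
    Groth.Agent.S12779.result hF hX hT' _ u x' hsm
  have hp2 : AlgSt.RepByAlgSpWith AlgSp.IsSurjectiveMor (fpFst x' u) :=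
    Groth.Agent.S12779.result hF hX hT' _ u x' hsurj
  have h𝒲' : IsFibGrpd (fp (fpFst x' x) (fpFst x' u)).p := isFibGrpd_fp _ _ h𝒲st.1 hE' hT'
  have hq1 : AlgSt.RepByAlgSpWith (AlgSp.LocP @Smooth) (fpFst (fpFst x' x) (fpFst x' u)) :=
    Groth.Agent.S12779.result hE' hT' h𝒲st.1 _ (fpFst x' u) (fpFst x' x) hp1
  have hq2 : AlgSt.RepByAlgSpWith AlgSp.IsSurjectiveMor (fpFst (fpFst x' x) (fpFst x' u)) :=
    Groth.Agent.S12779.result hE' hT' h𝒲st.1 _ (fpFst x' u) (fpFst x' x) hp2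
  have hux : AlgSt.RepByAlgSp (fp u x) := by
    obtain ⟨Z, e, he, -⟩ := hsm T x
    exact repByAlgSp_of_isEquivOver (fpSwap x u) (fpSwap_isEquivOver x u) ⟨Z, e, he⟩
  have hfux : IsFibGrpd (fp u x).p := isFibGrpd_fp u x hF hT hX
  have h1 : AlgSt.RepByAlgSp1 (fpFst u x) :=
    Groth.Agent.S12775.result hfux hF hux ⟨F, BasedFunctor.id _, isEquivOver_id' _⟩ _
  have h2 : AlgSt.RepByAlgSp (fp (fpSnd x' u) (fpFst u x)) :=
    Groth.Agent.S12766.result hfux hF hE' (fpFst u x) (fpSnd x' u) h1 hE'rep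
  have h3 : AlgSt.RepByAlgSp (fp (BasedFunctor.comp (fpSnd x' u) u) x) :=
    repByAlgSp_of_isEquivOver (pasteL (fpSnd x' u) u x) (pasteL_isEquivOver (fpSnd x' u) u x) h2
  have h4 : AlgSt.RepByAlgSp (fp (BasedFunctor.comp (fpFst x' u) x') x) :=
    repByAlgSp_of_isEquivOver
      (fpMap (BasedFunctor.comp (fpSnd x' u) u) (BasedFunctor.comp (fpFst x' u) x') x x
        (BasedFunctor.id _) (BasedFunctor.id _) (fpIso x' u).symm (Iso.refl _))
      (fpMap_isEquivOver _ _ _ _ _ _ _ _ (isEquivOver_id' _) (isEquivOver_id' _)) h3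
  obtain ⟨Gi, ⟨α⟩, ⟨β⟩⟩ := pasteL_isEquivOver (fpFst x' u) x' x
  have h5 : AlgSt.RepByAlgSp (fp (fpFst x' u) (fpFst x' x)) :=
    repByAlgSp_of_isEquivOver Gi (isEquivOver_symm α β) h4
  have h6 : AlgSt.RepByAlgSp (fp (fpFst x' x) (fpFst x' u)) :=
    repByAlgSp_of_isEquivOver (fpSwap _ _) (fpSwap_isEquivOver _ _) h5
  exact repByAlgSp_of_isFibSetoid_of_cover_et h𝒲st hset h𝒲' h6 _ hq1 hq2

/-- the diagonal of an etale stack with a smooth surjective cover by an algebraic space is representable by algebraic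
spaces -/
theorem repByAlgSp1_diag_of_cover_et : AlgSt.RepByAlgSp1 (FibCat.diag (FibCat.toSelf 𝒳)) :=
  (Groth.Agent.S12765.result h𝒳.1).2 (fun T x T' x' => repByAlgSp_fp_of_cover_et h𝒳 F u hsm hsurj x' x)

/-- an etale stack with a smooth surjective cover by an algebraic space is an algebraic stack for the etale topology -/
theorem isAlgStack_of_cover_et : AlgSt.IsAlgStack Scheme.etalePrecoverage 𝒳 :=
  ⟨h𝒳, repByAlgSp1_diag_of_cover_et h𝒳 F u hsm hsurj,
    hasAtlas_of_cover h𝒳.1 (isFibGrpd_ofPsh _) ⟨F, BasedFunctor.id _, isEquivOver_id' _⟩ u hsm hsurj⟩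

end D

/-- S16816: an etale stack with a smooth surjective atlas from a scheme is an algebraic stack for the etale topology -/
theorem isAlgStack_of_atlas_et {𝒳 : AlgSt.Cat S} (h𝒳 : Stk.IsStack (QuotSh.J Scheme.etalePrecoverage S) 𝒳)
    (hU : AlgSt.HasAtlas (AlgSp.LocP @Smooth) 𝒳) : AlgSt.IsAlgStack Scheme.etalePrecoverage 𝒳 := by
  obtain ⟨U, x, hx1, hx2⟩ := hU
  obtain ⟨F, e, he⟩ := repByAlgSp_overCat U
  exact isAlgStack_of_cover_et h𝒳 F (BasedFunctor.comp e x) ((repByAlgSpWith_precomp_iff _ x e he).1 hx1)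
    ((repByAlgSpWith_precomp_iff _ x e he).1 hx2)

end Groth.Agent.Lib.helper4.AlgStBootEt
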