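import Groth.Agent.Lib.Helper4.AlgStMagic
import Groth.Agent.Lib.Helper4.FibSwap
import Groth.Agent.FibFpProj
import Groth.Agent.S12780
set_option autoImplicit false
set_option backward.isDefEq.respectTransparency false
set_option backward.isDefEq.respectTransparency.types false
open CategoryTheory CategoryTheory.Functor CategoryTheory.Limits AlgebraicGeometry
universe v₇ u₇ v₆ u₆ v₅ u₅ v₄ u₄ v₃ u₃ v₂ u₂ v u

/-! The diagonal of a composition `g ∘ f` factors (up to 2-isomorphism) as the diagonal of `f`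
followed by the comparison `𝒳 ×_𝒴 𝒳 ⟶ 𝒳 ×_𝒵 𝒳`, which is a base change of the diagonal of `g`. -/

namespace Groth.Agent.Lib.helper4.AlgStDiagComp
open Groth.Agent.FibEquiv Groth.Agent.Lib.helper4.FibPaste Groth.Agent.Lib.helper4.DiagBC FibCat

section General
variable {C : Type u} [Category.{v} C]
  {𝒳 : BasedCategory.{v₂, u₂} C} {𝒴 : BasedCategory.{v₃, u₃} C} {𝒵 : BasedCategory.{v₄, u₄} C}
  (f : 𝒳 ⥤ᵇ 𝒴) (g : 𝒴 ⥤ᵇ 𝒵)

/-- the 2-isomorphism `pr₁ ⋙ f ⋙ g ≅ pr₂ ⋙ f ⋙ g` on `𝒳 ×_𝒴 𝒳`, image under `g` of the canonical one. -/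
def compIso : BasedFunctor.comp (fpFst f f) (BasedFunctor.comp f g) ≅
    BasedFunctor.comp (fpSnd f f) (BasedFunctor.comp f g) :=
  BasedNatIso.mkNatIso
    (NatIso.ofComponents (fun x => g.toFunctor.mapIso x.obj.iso) (fun {x y} m => by
      have hw : f.toFunctor.map m.hom.fst ≫ y.obj.iso.hom =
        x.obj.iso.hom ≫ f.toFunctor.map m.hom.snd := m.hom.w
      change g.toFunctor.map (f.toFunctor.map m.hom.fst) ≫ g.toFunctor.map y.obj.iso.hom =
        g.toFunctor.map x.obj.iso.hom ≫ g.toFunctor.map (f.toFunctor.map m.hom.snd)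
      rw [← CategoryTheory.Functor.map_comp, ← CategoryTheory.Functor.map_comp, hw]))
    (fun x => by
      have hx : 𝒴.p.IsHomLift (𝟙 (𝒳.p.obj x.obj.fst)) x.obj.iso.hom := x.property
      change 𝒵.p.IsHomLift (𝟙 (𝒳.p.obj x.obj.fst)) (g.toFunctor.map x.obj.iso.hom)
      infer_instance)

theorem compIso_app (x : (fp f f).obj) :
    (compIso f g).hom.toNatTrans.app x = g.toFunctor.map x.obj.iso.hom := rfl

/-- `Δ_f ⋙ (𝒳 ×_𝒴 𝒳 ⟶ 𝒳 ×_𝒵 𝒳) ≅ Δ_{g ∘ f}` -/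
def diagCompIso : BasedFunctor.comp (FibCat.diag f) (MagicSq.ι f f g (compIso f g)) ≅
    FibCat.diag (BasedFunctor.comp f g) :=
  BasedNatIso.mkNatIso
    (NatIso.ofComponents
      (fun x => fpIsoMk (BasedFunctor.comp f g) (BasedFunctor.comp f g) (Iso.refl x) (Iso.refl x) (by
        change g.toFunctor.map (f.toFunctor.map (𝟙 x)) ≫ 𝟙 _ =
          g.toFunctor.map (𝟙 _) ≫ g.toFunctor.map (f.toFunctor.map (𝟙 x))
        simp))
      (fun {x y} m => by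
        apply fp_hom_ext
        · change m ≫ 𝟙 _ = 𝟙 _ ≫ m
          simp
        · change m ≫ 𝟙 _ = 𝟙 _ ≫ m
          simp))
    (fun x => by
      apply Groth.Agent.FibFp.lift_to
      change 𝒳.p.IsHomLift (𝟙 (𝒳.p.obj x)) (𝟙 x)
      infer_instance)

end General

section AlgSt
open Groth.Agent.Lib.helper4.AlgStEquiv Groth.Agent.Lib.helper4.FibSwap Groth.Agent.FibFpProj
variable {S : Scheme.{u}}

/-- The diagonal of a composition is representable by algebraic spaces with `P` when the diagonals of both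
morphisms are, for `P` stable under base change and composition and fppf local on the base. -/
theorem repByAlgSpWith_diag_comp {𝒳 𝒴 𝒵 : AlgSt.Cat S}
    (h𝒳 : FibCat.IsFibGrpd 𝒳.p) (h𝒴 : FibCat.IsFibGrpd 𝒴.p) (h𝒵 : FibCat.IsFibGrpd 𝒵.p)
    (P : MorphismProperty (AlgSp.Sp S))
    (hPb : ∀ ⦃X₁ Y₁ X₂ Y₂ : AlgSp.Sp S⦄, AlgSp.IsAlgSpace X₁ → AlgSp.IsAlgSpace Y₁ → AlgSp.IsAlgSpace X₂ →
      AlgSp.IsAlgSpace Y₂ → ∀ (a : X₁ ⟶ Y₁) (b : Y₂ ⟶ Y₁) (a' : X₂ ⟶ Y₂) (b' : X₂ ⟶ X₁),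
      IsPullback b' a' a b → P a → P a')
    (hPc : ∀ ⦃X Y Z : AlgSp.Sp S⦄, AlgSp.IsAlgSpace X → AlgSp.IsAlgSpace Y → AlgSp.IsAlgSpace Z →
      ∀ (a : X ⟶ Y) (b : Y ⟶ Z), P a → P b → P (a ≫ b))
    (hP : AlgSp.IsLocalOnBase AlgSp.IsFppfCover P)
    (f : 𝒳 ⥤ᵇ 𝒴) (g : 𝒴 ⥤ᵇ 𝒵) (hf : AlgSt.RepByAlgSpWith P (FibCat.diag f))
    (hg : AlgSt.RepByAlgSpWith P (FibCat.diag g)) :
    AlgSt.RepByAlgSpWith P (FibCat.diag (BasedFunctor.comp f g)) := by
  have h1 : AlgSt.RepByAlgSpWith P (MagicSq.ι f f g (compIso f g)) :=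
    Groth.Agent.Lib.helper4.AlgStMagic.repByAlgSpWith_fpComparison P f f g (compIso f g)
      (compIso_app f g) hg
  have hA : FibCat.IsFibGrpd (fp f f).p := isFibGrpd_fp _ _ h𝒳 h𝒳 h𝒴
  have hB : FibCat.IsFibGrpd (fp (BasedFunctor.comp f g) (BasedFunctor.comp f g)).p :=
    isFibGrpd_fp _ _ h𝒳 h𝒳 h𝒵
  have h2 : AlgSt.RepByAlgSpWith P
      (BasedFunctor.comp (FibCat.diag f) (MagicSq.ι f f g (compIso f g))) :=
    Groth.Agent.S12780.result h𝒳 hA hB P hPb hPc hP _ _ hf h1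
  exact (repByAlgSpWith_iff_of_square P
    (BasedFunctor.comp (FibCat.diag f) (MagicSq.ι f f g (compIso f g)))
    (FibCat.diag (BasedFunctor.comp f g)) (BasedFunctor.id _) (BasedFunctor.id _)
    (isEquivOver_id' _) (isEquivOver_id' _) (diagCompIso f g).symm).1 h2

end AlgSt

end Groth.Agent.Lib.helper4.AlgStDiagComp
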