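import Groth.Agent.Lib.Helper4.AlgStCoreA
import Groth.Agent.Lib.Helper4.AlgStDiagComp
import Groth.Agent.S12780
set_option autoImplicit false
set_option backward.isDefEq.respectTransparency false
set_option backward.isDefEq.respectTransparency.types false
set_option linter.unusedSectionVars false
set_option linter.style.haveILetI false
open CategoryTheory CategoryTheory.Functor CategoryTheory.Limits Opposite AlgebraicGeometry
universe u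

/-! Variants of the `AlgStCoreA` lemmas for a property local on the base for a covering notion `τ` for which
etale atlases are coverings (e.g. etale coverings). -/

namespace Groth.Agent.Lib.helper4.AlgStEtLocal
open Groth.Agent.FibEquiv Groth.Agent.FibYoneda Groth.Agent.FibFpProj Stk FibCat
open Groth.Agent.Lib.helper4.Descent Groth.Agent.Lib.helper4.PshDict Groth.Agent.Lib.helper4.FibPaste
open Groth.Agent.Lib.helper4.AlgStEquiv Groth.Agent.H1.AlgSpBootstrap Groth.Agent.Lib.helper4.PshRep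
open Groth.Agent.Lib.helper4.PshOfSetoid Groth.Agent.Lib.helper4.FibSwap Groth.Agent.Lib.helper4.AlgStSetoid
open Groth.Agent.Lib.helper4.AlgStCoreA

variable {S : Scheme.{u}}

/-- a covering notion for which every etale atlas is a covering -/
def AtlasCover (τ : AlgSp.CovNotion S) : Prop :=
  ∀ ⦃G : AlgSp.Sp S⦄ ⦃U : Over S⦄ (p : (AlgSp.yon S).obj U ⟶ G), AlgSp.RepWith @Etale p →
    AlgSp.RepWith @Surjective p → τ (fun _ : PUnit.{u + 1} => (AlgSp.yon S).obj U) (fun _ => p)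

theorem atlasCover_fppf : AtlasCover (S := S) AlgSp.IsFppfCover :=
  fun _ _ p hp1 hp2 => isFppfCover_of_atlas p hp1 hp2

/-- an etale atlas is an etale covering -/
theorem isEtCover_of_atlas {G : AlgSp.Sp S} {U : Over S} (p : (AlgSp.yon S).obj U ⟶ G)
    (hp1 : AlgSp.RepWith @Etale p) (hp2 : AlgSp.RepWith @Surjective p) :
    AlgSp.IsEtCover (fun _ : PUnit.{u + 1} => (AlgSp.yon S).obj U) (fun _ => p) := by
  have h1 : AlgSp.IsEtaleMor p := fun U φ hφ => (AlgSp.RepWith (S := S) @Etale).comp_mem _ _ hφ hp1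
  exact ⟨fun _ => h1,
    fun x => ⟨PUnit.unit, Groth.Agent.Lib.helper5.surjective_map_of_repWith_surjective p hp2 x⟩⟩

theorem atlasCover_et : AtlasCover (S := S) AlgSp.IsEtCover :=
  fun _ _ p hp1 hp2 => isEtCover_of_atlas p hp1 hp2

variable {τ : AlgSp.CovNotion S} (hτ : AtlasCover τ)
include hτ

/-- a map of algebraic spaces all of whose base changes to schemes have `P` has `P`, for `P` `τ`-local on the
base -/
theorem of_repBySpWith (P : MorphismProperty (AlgSp.Sp S)) (hP : AlgSp.IsLocalOnBase τ P)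
    {H G : AlgSp.Sp S} (hH : AlgSp.IsAlgSpace H) (hG : AlgSp.IsAlgSpace G) (φ : H ⟶ G)
    (h : AlgSp.RepBySpWith P φ.hom) : P φ := by
  obtain ⟨U, p, hp1, hp2⟩ := hG.atlas
  have sq : IsPullback (pullback.fst φ p) (pullback.snd φ p) φ p := IsPullback.of_hasPullback φ p
  obtain ⟨hX₁, hP₁⟩ := (AlgSp.repBySpWith_hom_iff P φ).1 h p _ _ sq
  exact (hP (fun _ : PUnit.{u + 1} => (AlgSp.yon S).obj U) (fun _ => p) hG
    (fun _ => AlgSp.IsAlgSpace.yon_obj U) (hτ p hp1 hp2) φ hH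
    (fun _ => pullback φ p) (fun _ => pullback.snd φ p) (fun _ => pullback.fst φ p) (fun _ => hX₁)
    (fun _ => sq)).2 (fun _ => hP₁)

/-- **Core lemma**, `τ` version -/
theorem coreA {𝒳 𝒴 : AlgSt.Cat S} (h𝒳 : IsFibGrpd 𝒳.p) (h𝒴 : IsFibGrpd 𝒴.p)
    (P : MorphismProperty (AlgSp.Sp S)) (hQ : IsoInv P) (hP : AlgSp.IsLocalOnBase τ P)
    (f : 𝒳 ⥤ᵇ 𝒴) (hf : AlgSt.RepByAlgSpWith P f) (G : AlgSp.Space S) (y' : AlgSt.ofSp G.obj ⥤ᵇ 𝒴) :
    ∃ (H : AlgSp.Space S) (e : AlgSt.ofSp H.obj ⥤ᵇ fp y' f), IsEquivOver e ∧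
      P (ObjectProperty.homMk (pshMapOf (BasedFunctor.comp e (fpFst y' f))) : H.obj ⟶ G.obj) := by
  have hG : IsFibGrpd (AlgSt.ofSp G.obj).p := isFibGrpd_ofPsh _
  have hq : AlgSt.RepByAlgSpWith P (fpFst y' f) := Groth.Agent.S12779.result h𝒳 h𝒴 hG P f y' hf
  have hq1 : AlgSt.RepByAlgSp1 (fpFst y' f) := Groth.Agent.Lib.helper4.AlgStFull.repByAlgSp1_of_with P _ hq
  have hfp : IsFibGrpd (fp y' f).p := isFibGrpd_fp y' f hG h𝒳 h𝒴
  have hfaith : (fpFst y' f).toFunctor.Faithful :=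
    Groth.Agent.Lib.helper4.AlgStFaithful.faithful_of_repByAlgSp1 hfp hG _ hq1
  have hset : IsFibSetoid (fp y' f).p :=
    ⟨hfp, Groth.Agent.StkLib.thin_source (fpFst y' f)
      (fun V => Groth.Agent.Lib.helper4.AlgStFaithful.thin_ofPsh G.obj.obj V)⟩
  obtain ⟨Ei, ⟨γ⟩, ⟨δ⟩⟩ := toCls_isEquivOver hset
  have hEi : IsEquivOver Ei := isEquivOver_symm γ δ
  have h1 : AlgSp.RepBySpWith P (pshMapOf (BasedFunctor.comp (BasedFunctor.comp Ei (fpFst y' f))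
      (BasedFunctor.id (AlgSt.ofSp G.obj)))) :=
    repBySpWith_pshMapOf P hQ (fpFst y' f) Ei hEi (BasedFunctor.id _) (BasedFunctor.id _) (Iso.refl _)
      (isEquivOver_id' _) hq
  have h1' : AlgSp.RepBySpWith P (pshMapOf (BasedFunctor.comp Ei (fpFst y' f))) := h1
  obtain ⟨hs, hA⟩ := isAlgSpaceP_of_repBySp _ h1'.repBySp ((AlgSp.isAlgSpaceP_obj_iff G.obj).2 G.property)
  refine ⟨⟨⟨_, hs⟩, hA⟩, Ei, hEi, ?_⟩
  exact of_repBySpWith hτ P hP hA G.property (ObjectProperty.homMk (pshMapOf (BasedFunctor.comp Ei (fpFst y' f)))) h1'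

/-- composition of functors representable by algebraic spaces with `P`, `τ` version of S12780 -/
theorem comp {𝒳 𝒴 𝒵 : AlgSt.Cat S}
    (h𝒳 : FibCat.IsFibGrpd 𝒳.p) (h𝒴 : FibCat.IsFibGrpd 𝒴.p) (h𝒵 : FibCat.IsFibGrpd 𝒵.p)
    (P : MorphismProperty (AlgSp.Sp S))
    (hPb : ∀ ⦃X₁ Y₁ X₂ Y₂ : AlgSp.Sp S⦄, AlgSp.IsAlgSpace X₁ → AlgSp.IsAlgSpace Y₁ → AlgSp.IsAlgSpace X₂ →
      AlgSp.IsAlgSpace Y₂ → ∀ (a : X₁ ⟶ Y₁) (b : Y₂ ⟶ Y₁) (a' : X₂ ⟶ Y₂) (b' : X₂ ⟶ X₁),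
      IsPullback b' a' a b → P a → P a')
    (hPc : ∀ ⦃X Y Z : AlgSp.Sp S⦄, AlgSp.IsAlgSpace X → AlgSp.IsAlgSpace Y → AlgSp.IsAlgSpace Z →
      ∀ (a : X ⟶ Y) (b : Y ⟶ Z), P a → P b → P (a ≫ b))
    (hP : AlgSp.IsLocalOnBase τ P)
    (f : 𝒳 ⥤ᵇ 𝒴) (g : 𝒴 ⥤ᵇ 𝒵) (hf : AlgSt.RepByAlgSpWith P f) (hg : AlgSt.RepByAlgSpWith P g) :
    AlgSt.RepByAlgSpWith P (BasedFunctor.comp f g) := by
  have hQ : IsoInv P := isoInv_of_baseChange P hPb
  intro U z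
  obtain ⟨G, eG, heG, hPG⟩ := hg U z
  obtain ⟨H, e, he, hPH⟩ := coreA hτ h𝒳 h𝒴 P hQ hP f hf G (BasedFunctor.comp eG (FibCat.fpSnd z g))
  refine ⟨H, BasedFunctor.comp e (BasedFunctor.comp (fpPrecomp eG (FibCat.fpSnd z g) f) (pasteR z g f)),
    isEquivOver_comp _ _ he (isEquivOver_comp _ _ (fpPrecomp_isEquivOver _ _ _ heG) (pasteR_isEquivOver z g f)), ?_⟩
  have key : AlgSt.spMapOfOver (BasedFunctor.comp (BasedFunctor.comp e
        (BasedFunctor.comp (fpPrecomp eG (FibCat.fpSnd z g) f) (pasteR z g f))) (FibCat.fpFst z (BasedFunctor.comp f g))) =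
      (ObjectProperty.homMk (pshMapOf (BasedFunctor.comp e (FibCat.fpFst (BasedFunctor.comp eG (FibCat.fpSnd z g)) f))) :
        H.obj ⟶ G.obj) ≫ AlgSt.spMapOfOver (BasedFunctor.comp eG (FibCat.fpFst z g)) := by
    apply ObjectProperty.hom_ext
    rw [spMapOfOver_hom]
    change _ = pshMapOf (BasedFunctor.comp e (FibCat.fpFst (BasedFunctor.comp eG (FibCat.fpSnd z g)) f)) ≫
      (AlgSt.spMapOfOver (BasedFunctor.comp eG (FibCat.fpFst z g))).hom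
    rw [spMapOfOver_hom]
    refine Eq.trans ?_ (pshMapOf_comp (P := H.obj.obj) (Q := G.obj.obj)
      (BasedFunctor.comp e (FibCat.fpFst (BasedFunctor.comp eG (FibCat.fpSnd z g)) f))
      (BasedFunctor.comp (BasedFunctor.comp eG (FibCat.fpFst z g)) (toYon.{u + 1} U)))
    rfl
  rw [key]
  exact hPc H.property G.property (AlgSp.IsAlgSpace.yon_obj U) _ _ hPH hPG

/-- **Tower lemma**, `τ` version -/
theorem tower {𝒳 𝒴 𝒜 : AlgSt.Cat S} (h𝒳 : IsFibGrpd 𝒳.p) (h𝒴 : IsFibGrpd 𝒴.p)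
    (P : MorphismProperty (AlgSp.Sp S)) (hQ : IsoInv P) (hP : AlgSp.IsLocalOnBase τ P)
    (hPc : ∀ ⦃X Y Z : AlgSp.Sp S⦄, AlgSp.IsAlgSpace X → AlgSp.IsAlgSpace Y → AlgSp.IsAlgSpace Z →
      ∀ (a : X ⟶ Y) (b : Y ⟶ Z), P a → P b → P (a ≫ b))
    (f : 𝒳 ⥤ᵇ 𝒴) (hf : AlgSt.RepByAlgSpWith P f) {U : Over S} (qA : 𝒜 ⥤ᵇ overCat U) (a : 𝒜 ⥤ᵇ 𝒴)
    (h : ∃ (G : AlgSp.Space S) (eG : AlgSt.ofSp G.obj ⥤ᵇ 𝒜), IsEquivOver eG ∧
      P (AlgSt.spMapOfOver (BasedFunctor.comp eG qA))) :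
    ∃ (H : AlgSp.Space S) (e : AlgSt.ofSp H.obj ⥤ᵇ fp a f), IsEquivOver e ∧
      P (AlgSt.spMapOfOver (BasedFunctor.comp e (BasedFunctor.comp (fpFst a f) qA))) := by
  obtain ⟨G, eG, heG, hPG⟩ := h
  obtain ⟨H, e, he, hPH⟩ := coreA hτ h𝒳 h𝒴 P hQ hP f hf G (BasedFunctor.comp eG a)
  refine ⟨H, BasedFunctor.comp e (fpPrecomp eG a f),
    isEquivOver_comp _ _ he (fpPrecomp_isEquivOver _ _ _ heG), ?_⟩
  have key : AlgSt.spMapOfOver (BasedFunctor.comp (BasedFunctor.comp e (fpPrecomp eG a f))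
        (BasedFunctor.comp (fpFst a f) qA)) =
      (ObjectProperty.homMk (pshMapOf (BasedFunctor.comp e (fpFst (BasedFunctor.comp eG a) f))) :
        H.obj ⟶ G.obj) ≫ AlgSt.spMapOfOver (BasedFunctor.comp eG qA) := by
    apply ObjectProperty.hom_ext
    rw [spMapOfOver_hom]
    change _ = pshMapOf (BasedFunctor.comp e (fpFst (BasedFunctor.comp eG a) f)) ≫
      (AlgSt.spMapOfOver (BasedFunctor.comp eG qA)).hom
    rw [spMapOfOver_hom]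
    refine Eq.trans ?_ (pshMapOf_comp (P := H.obj.obj) (Q := G.obj.obj)
      (BasedFunctor.comp e (fpFst (BasedFunctor.comp eG a) f))
      (BasedFunctor.comp (BasedFunctor.comp eG qA) (toYon.{u + 1} U)))
    rfl
  rw [key]
  exact hPc H.property G.property (AlgSp.IsAlgSpace.yon_obj U) _ _ hPH hPG

open Groth.Agent.Lib.helper4.AlgStDiagComp in
/-- The diagonal of a composition, `τ` version. -/
theorem repByAlgSpWith_diag_comp {𝒳 𝒴 𝒵 : AlgSt.Cat S}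
    (h𝒳 : FibCat.IsFibGrpd 𝒳.p) (h𝒴 : FibCat.IsFibGrpd 𝒴.p) (h𝒵 : FibCat.IsFibGrpd 𝒵.p)
    (P : MorphismProperty (AlgSp.Sp S))
    (hPb : ∀ ⦃X₁ Y₁ X₂ Y₂ : AlgSp.Sp S⦄, AlgSp.IsAlgSpace X₁ → AlgSp.IsAlgSpace Y₁ → AlgSp.IsAlgSpace X₂ →
      AlgSp.IsAlgSpace Y₂ → ∀ (a : X₁ ⟶ Y₁) (b : Y₂ ⟶ Y₁) (a' : X₂ ⟶ Y₂) (b' : X₂ ⟶ X₁),
      IsPullback b' a' a b → P a → P a')
    (hPc : ∀ ⦃X Y Z : AlgSp.Sp S⦄, AlgSp.IsAlgSpace X → AlgSp.IsAlgSpace Y → AlgSp.IsAlgSpace Z →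
      ∀ (a : X ⟶ Y) (b : Y ⟶ Z), P a → P b → P (a ≫ b))
    (hP : AlgSp.IsLocalOnBase τ P)
    (f : 𝒳 ⥤ᵇ 𝒴) (g : 𝒴 ⥤ᵇ 𝒵) (hf : AlgSt.RepByAlgSpWith P (FibCat.diag f))
    (hg : AlgSt.RepByAlgSpWith P (FibCat.diag g)) :
    AlgSt.RepByAlgSpWith P (FibCat.diag (BasedFunctor.comp f g)) := by
  have h1 : AlgSt.RepByAlgSpWith P (MagicSq.ι f f g (compIso f g)) :=
    Groth.Agent.Lib.helper4.AlgStMagic.repByAlgSpWith_fpComparison P f f g (compIso f g)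
      (compIso_app f g) hg
  have hA : FibCat.IsFibGrpd (fp f f).p := isFibGrpd_fp _ _ h𝒳 h𝒳 h𝒴
  have hB : FibCat.IsFibGrpd (fp (BasedFunctor.comp f g) (BasedFunctor.comp f g)).p :=
    isFibGrpd_fp _ _ h𝒳 h𝒳 h𝒵
  have h2 : AlgSt.RepByAlgSpWith P
      (BasedFunctor.comp (FibCat.diag f) (MagicSq.ι f f g (compIso f g))) :=
    comp hτ h𝒳 hA hB P hPb hPc hP _ _ hf h1
  exact (repByAlgSpWith_iff_of_square P
    (BasedFunctor.comp (FibCat.diag f) (MagicSq.ι f f g (compIso f g)))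
    (FibCat.diag (BasedFunctor.comp f g)) (BasedFunctor.id _) (BasedFunctor.id _)
    (isEquivOver_id' _) (isEquivOver_id' _) (diagCompIso f g).symm).1 h2

end Groth.Agent.Lib.helper4.AlgStEtLocal
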