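import Groth.Agent.Lib.Helper4.AlgStCancel
import Groth.Agent.Lib.Helper4.AlgStEtLocal
import Groth.Agent.Lib.Helper5.AlgSpFibreProduct
set_option autoImplicit false
set_option backward.isDefEq.respectTransparency false
set_option backward.isDefEq.respectTransparency.types false
set_option linter.unusedSectionVars false
set_option linter.style.haveILetI false
set_option linter.unusedVariables false
open CategoryTheory CategoryTheory.Functor CategoryTheory.Limits Opposite AlgebraicGeometry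
universe u

/-! Cancellation for morphisms representable by algebraic spaces with a property `P` satisfying the
cancellation law (no locality needed). -/

namespace Groth.Agent.Lib.helper4.AlgStCancelP
open Groth.Agent.FibEquiv FibCat Groth.Agent.Lib.helper4.FibPaste Groth.Agent.Lib.helper4.AlgStEquiv
open Groth.Agent.Lib.helper4.AlgStSetoid Groth.Agent.Lib.helper4.FibSwap Groth.Agent.FibFpProj
open Groth.Agent.Lib.helper4.AlgStDiagComp Groth.Agent.Lib.helper4.PshRep Groth.Agent.Lib.helper4.PshDict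
open Groth.Agent.Lib.helper4.AlgStCoreA Groth.Agent.Lib.helper4.AlgStRep Groth.Agent.FibYoneda Stk

variable {S : Scheme.{u}}

/-- a morphism of algebraic spaces with a base-change-stable property `P` is representable with `P` -/
theorem repBySpWith_of_prop (P : MorphismProperty (AlgSp.Sp S))
    (hPb : ∀ ⦃X₁ Y₁ X₂ Y₂ : AlgSp.Sp S⦄, AlgSp.IsAlgSpace X₁ → AlgSp.IsAlgSpace Y₁ → AlgSp.IsAlgSpace X₂ →
      AlgSp.IsAlgSpace Y₂ → ∀ (a : X₁ ⟶ Y₁) (b : Y₂ ⟶ Y₁) (a' : X₂ ⟶ Y₂) (b' : X₂ ⟶ X₁),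
      IsPullback b' a' a b → P a → P a')
    {GA GB : AlgSp.Sp S} (hA : AlgSp.IsAlgSpace GA) (hB : AlgSp.IsAlgSpace GB) (φ : GA ⟶ GB) (h : P φ) :
    AlgSp.RepBySpWith P φ.hom := by
  rw [AlgSp.repBySpWith_hom_iff]
  intro U ξ F' fst snd sq
  have hF' : AlgSp.IsAlgSpace F' :=
    Groth.Agent.Lib.helper5.isAlgSpace_of_isPullback hB.diag hA (AlgSp.IsAlgSpace.yon_obj U) sq
  exact ⟨hF', hPb hA hB hF' (AlgSp.IsAlgSpace.yon_obj U) φ ξ snd fst sq h⟩

section Cancel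

variable {𝒜 ℬ 𝒞 : AlgSt.Cat S} (a : 𝒜 ⥤ᵇ ℬ) (b : ℬ ⥤ᵇ 𝒞)

/-- cancellation: if `b ∘ a` and `b` are representable by algebraic spaces with `P`, and `P` satisfies base
change and the cancellation law on algebraic spaces, then `a` has `P` -/
theorem repByAlgSpWith_of_comp_of_cancel (P : MorphismProperty (AlgSp.Sp S))
    (hPb : ∀ ⦃X₁ Y₁ X₂ Y₂ : AlgSp.Sp S⦄, AlgSp.IsAlgSpace X₁ → AlgSp.IsAlgSpace Y₁ → AlgSp.IsAlgSpace X₂ →
      AlgSp.IsAlgSpace Y₂ → ∀ (a : X₁ ⟶ Y₁) (b : Y₂ ⟶ Y₁) (a' : X₂ ⟶ Y₂) (b' : X₂ ⟶ X₁),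
      IsPullback b' a' a b → P a → P a')
    (hcancel : ∀ ⦃X Y Z : AlgSp.Sp S⦄, AlgSp.IsAlgSpace X → AlgSp.IsAlgSpace Y → AlgSp.IsAlgSpace Z →
      ∀ (a : X ⟶ Y) (b : Y ⟶ Z), P b → P (a ≫ b) → P a)
    (hab : AlgSt.RepByAlgSpWith P (BasedFunctor.comp a b)) (hb : AlgSt.RepByAlgSpWith P b) :
    AlgSt.RepByAlgSpWith P a := by
  have hQ : IsoInv P := isoInv_of_baseChange P hPb
  intro T t
  let tb : overCat T ⥤ᵇ 𝒞 := BasedFunctor.comp t b
  obtain ⟨GB, eB, heB, hPB⟩ := hb T tb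
  obtain ⟨GA, eA, heA, hPA⟩ := hab T tb
  let pr : fp tb b ⥤ᵇ ℬ := fpSnd tb b
  let s : overCat T ⥤ᵇ fp tb b := fpLift (F := tb) (G := b) (BasedFunctor.id (overCat T)) t (Iso.refl _)
  obtain ⟨Ri, ⟨α⟩, ⟨β⟩⟩ := pasteR_isEquivOver tb b a
  have hRi : IsEquivOver Ri := isEquivOver_symm α β
  obtain ⟨eBi, ⟨αB⟩, ⟨βB⟩⟩ := heB
  have heB : IsEquivOver eB := ⟨eBi, ⟨αB⟩, ⟨βB⟩⟩
  let eX : AlgSt.ofSp GA.obj ⥤ᵇ fp pr a := BasedFunctor.comp eA Ri
  have heX : IsEquivOver eX := isEquivOver_comp _ _ heA hRi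
  let Φ : AlgSt.ofSp GA.obj ⥤ᵇ AlgSt.ofSp GB.obj :=
    BasedFunctor.comp (BasedFunctor.comp eX (fpFst pr a)) eBi
  let φ : GA.obj ⟶ GB.obj := ObjectProperty.homMk (pshMapOf Φ)
  have key : φ ≫ AlgSt.spMapOfOver (BasedFunctor.comp eB (fpFst tb b)) =
      AlgSt.spMapOfOver (BasedFunctor.comp eA (fpFst tb (BasedFunctor.comp a b))) := by
    apply ObjectProperty.hom_ext
    change pshMapOf Φ ≫ (AlgSt.spMapOfOver (BasedFunctor.comp eB (fpFst tb b))).hom = _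
    rw [spMapOfOver_hom, spMapOfOver_hom]
    refine (pshMapOf_comp (P := GA.obj.obj) (Q := GB.obj.obj) Φ
      (BasedFunctor.comp (BasedFunctor.comp eB (fpFst tb b)) (toYon.{u + 1} T))).symm.trans ?_
    apply pshMapOf_congr
    -- `Φ ≫ eB ≫ fpFst ≫ toYon ≅ eA ≫ fpFst ≫ toYon`
    let W : fp tb b ⥤ᵇ ofPsh ((AlgSp.pyon S).obj T) :=
      BasedFunctor.comp (fpFst tb b) (toYon.{u + 1} T)
    have i1 : BasedFunctor.comp Φ (BasedFunctor.comp (BasedFunctor.comp eB (fpFst tb b)) (toYon.{u + 1} T)) ≅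
        BasedFunctor.comp (BasedFunctor.comp eX (fpFst pr a)) (BasedFunctor.comp (BasedFunctor.comp eBi eB) W) :=
      Iso.refl _
    have i2 : BasedFunctor.comp (BasedFunctor.comp eX (fpFst pr a))
        (BasedFunctor.comp (BasedFunctor.comp eBi eB) W) ≅
        BasedFunctor.comp (BasedFunctor.comp eX (fpFst pr a)) (BasedFunctor.comp (BasedFunctor.id _) W) :=
      whiskerLeftIso _ (whiskerRightIso βB W)
    let W' : fp tb (BasedFunctor.comp a b) ⥤ᵇ ofPsh ((AlgSp.pyon S).obj T) :=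
      BasedFunctor.comp (fpFst tb (BasedFunctor.comp a b)) (toYon.{u + 1} T)
    have i3 : BasedFunctor.comp (BasedFunctor.comp eX (fpFst pr a)) (BasedFunctor.comp (BasedFunctor.id _) W) ≅
        BasedFunctor.comp eA (BasedFunctor.comp (BasedFunctor.comp Ri (pasteR tb b a)) W') :=
      Iso.refl _
    have i4 : BasedFunctor.comp eA (BasedFunctor.comp (BasedFunctor.comp Ri (pasteR tb b a)) W') ≅
        BasedFunctor.comp eA (BasedFunctor.comp (BasedFunctor.id _) W') :=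
      whiskerLeftIso _ (whiskerRightIso β W')
    exact i1 ≪≫ i2 ≪≫ i3 ≪≫ i4 ≪≫ Iso.refl _
  have hφ : P φ := hcancel GA.property GB.property (AlgSp.IsAlgSpace.yon_obj T) φ _ hPB (by rw [key]; exact hPA)
  have hq : AlgSt.RepByAlgSpWith P (fpFst pr a) :=
    (repByAlgSpWith_iff_of_square P (fpFst pr a) (ofPshMap (pshMapOf Φ)) eX eB heX heB
      (pshMapOfSquare (fpFst pr a) eX eB eBi βB)).2
      (repByAlgSpWith_of_repBySpWith P _ (repBySpWith_of_prop P hPb GA.property GB.property φ hφ))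
  have h1 := hq T s
  exact (repData_transfer P (pasteL s pr a) (pasteL_isEquivOver s pr a) (fpFst s (fpFst pr a))
    (fpFst t a) (Iso.refl _)).1 h1

end Cancel

/-- the diagonal of `f` from the diagonals of `g` and `g ∘ f`, for `P` with the cancellation law -/
theorem repByAlgSpWith_diag_of_comp_of_cancel {𝒳 𝒴 𝒵 : AlgSt.Cat S} (P : MorphismProperty (AlgSp.Sp S))
    (hPb : ∀ ⦃X₁ Y₁ X₂ Y₂ : AlgSp.Sp S⦄, AlgSp.IsAlgSpace X₁ → AlgSp.IsAlgSpace Y₁ → AlgSp.IsAlgSpace X₂ →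
      AlgSp.IsAlgSpace Y₂ → ∀ (a : X₁ ⟶ Y₁) (b : Y₂ ⟶ Y₁) (a' : X₂ ⟶ Y₂) (b' : X₂ ⟶ X₁),
      IsPullback b' a' a b → P a → P a')
    (hcancel : ∀ ⦃X Y Z : AlgSp.Sp S⦄, AlgSp.IsAlgSpace X → AlgSp.IsAlgSpace Y → AlgSp.IsAlgSpace Z →
      ∀ (a : X ⟶ Y) (b : Y ⟶ Z), P b → P (a ≫ b) → P a)
    (f : 𝒳 ⥤ᵇ 𝒴) (g : 𝒴 ⥤ᵇ 𝒵) (hg : AlgSt.RepByAlgSpWith P (FibCat.diag g))
    (hfg : AlgSt.RepByAlgSpWith P (FibCat.diag (BasedFunctor.comp f g))) :
    AlgSt.RepByAlgSpWith P (FibCat.diag f) := by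
  have h1 : AlgSt.RepByAlgSpWith P (MagicSq.ι f f g (compIso f g)) :=
    Groth.Agent.Lib.helper4.AlgStMagic.repByAlgSpWith_fpComparison P f f g (compIso f g)
      (compIso_app f g) hg
  have h2 : AlgSt.RepByAlgSpWith P (BasedFunctor.comp (FibCat.diag f) (MagicSq.ι f f g (compIso f g))) :=
    (Groth.Agent.Lib.helper4.AlgStFpAlg.repByAlgSpWith_congr P (diagCompIso f g)).2 hfg
  exact repByAlgSpWith_of_comp_of_cancel _ _ P hPb hcancel h2 h1

end Groth.Agent.Lib.helper4.AlgStCancelP
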