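import Groth.Agent.Lib.Helper4.AlgSpGlueMap
import Groth.Agent.Lib.Helper4.AlgStRep
import Groth.Agent.Lib.Helper1.LocPFlatBC
import Groth.Prelude.Def_StCoarse
import Groth.Agent.FibFpProj
set_option autoImplicit false
set_option backward.isDefEq.respectTransparency false
set_option backward.isDefEq.respectTransparency.types false
set_option linter.unusedSectionVars false
set_option linter.style.haveILetI false
set_option linter.unusedVariables false
open CategoryTheory CategoryTheory.Functor CategoryTheory.Limits Opposite AlgebraicGeometry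
universe u

/-! Categorical moduli spaces are local on the target for the etale topology by affine schemes (helper4).
* `Fac`, `nonempty_iso_iff_fac`: elementwise form of factorizations through a map to a sheaf.
* `fpObj`, `fp_cases`, `fac_fp_iff`: objects of the fibre product over a chart.
* `isCatModuli_of_charts`: a functor to an algebraic space whose base changes to all affine etale charts are
  categorical moduli spaces is a categorical moduli space.
* `isCatModuli_comp_of_isEquivOver`: invariance under equivalences of the source.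
* `isUnifCatModuli_of_affine_flat`: S16704. -/

namespace Groth.Agent.Lib.helper4.AlgStCatModLocal
open Groth.Agent.Lib.helper4.PshDict Groth.Agent.Lib.helper4.PshDict2 Groth.Agent.Lib.helper4.FibPaste
open Groth.Agent.Lib.helper4.AlgSpGlueMap Groth.Agent.FibEquiv FibCat Stk AlgSt

variable {S : Scheme.{u}}

section Fac

variable {𝒲 : AlgSt.Cat S} {M N : AlgSp.Sp S}

/-- `γ` factors `φ` through `π`, elementwise -/
def Fac (π : 𝒲 ⥤ᵇ ofSp M) (φ : 𝒲 ⥤ᵇ ofSp N) (γ : M ⟶ N) : Prop :=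
  ∀ w : 𝒲.obj, γ.hom.app (op (𝒲.p.obj w)) (secOf π w) = secOf φ w

theorem secOf_comp_ofSpMap (π : 𝒲 ⥤ᵇ ofSp M) (γ : M ⟶ N) (w : 𝒲.obj) :
    secOf (BasedFunctor.comp π (ofSpMap γ)) w = γ.hom.app (op (𝒲.p.obj w)) (secOf π w) := by
  rw [secOf_comp, pshMapOf_ofPshMap]

theorem nonempty_iso_iff_fac (π : 𝒲 ⥤ᵇ ofSp M) (φ : 𝒲 ⥤ᵇ ofSp N) (γ : M ⟶ N) :
    Nonempty (BasedFunctor.comp π (ofSpMap γ) ≅ φ) ↔ Fac π φ γ := by
  constructor
  · rintro ⟨α⟩ w
    rw [← secOf_comp_ofSpMap]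
    exact secOf_eq_of_iso α w
  · intro h
    exact ⟨isoOfSecEq _ _ (fun w => by rw [secOf_comp_ofSpMap]; exact h w)⟩

theorem isCatModuli_iff (π : 𝒲 ⥤ᵇ ofSp M) :
    AlgSt.IsCatModuli π ↔ AlgSp.IsAlgSpace M ∧ ∀ N : AlgSp.Sp S, AlgSp.IsAlgSpace N →
      ∀ φ : 𝒲 ⥤ᵇ ofSp N, ∃! γ : M ⟶ N, Fac π φ γ := by
  unfold AlgSt.IsCatModuli AlgSt.IsCatModuliIn
  simp only [nonempty_iso_iff_fac]

end Fac

section FpObj

variable {𝒲 : AlgSt.Cat S} {M : AlgSp.Sp S} {U : Over S} (u : (AlgSp.yon S).obj U ⟶ M) (π : 𝒲 ⥤ᵇ ofSp M)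

/-- the isomorphism of the object of the fibre product attached to a lift -/
def fpObjIso (w : 𝒲.obj) (x : 𝒲.p.obj w ⟶ U) (hx : ev u x = secOf π w) :
    (ofSpMap u).toFunctor.obj (⟨𝒲.p.obj w, ⟨x⟩⟩ : (ofSp ((AlgSp.yon S).obj U)).obj) ≅ π.toFunctor.obj w where
  hom := ⟨eqToHom (base_eq π w).symm, hx.symm⟩
  inv := ⟨eqToHom (base_eq π w), by
    change M.obj.map (eqToHom (base_eq π w)).op (ev u x) = (π.obj w).sec
    rw [sec_eq_of_secOf π w, hx]⟩
  hom_inv_id := by apply EltObj.hom_ext; simp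
  inv_hom_id := by apply EltObj.hom_ext; simp

/-- the object of the fibre product over a chart attached to an object of `𝒲` and a lift of its image -/
def fpObj (w : 𝒲.obj) (x : 𝒲.p.obj w ⟶ U) (hx : ev u x = secOf π w) : (fp (ofSpMap u) π).obj :=
  ⟨⟨⟨𝒲.p.obj w, ⟨x⟩⟩, w, fpObjIso u π w x hx⟩,
    IsHomLift.of_fac' _ _ _ rfl (base_eq π w) (by simp [fpObjIso])⟩

theorem secOf_fpFst_fpObj (w : 𝒲.obj) (x : 𝒲.p.obj w ⟶ U) (hx : ev u x = secOf π w) :
    secOf (fpFst (ofSpMap u) π) (fpObj u π w x hx) = ⟨x⟩ := by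
  unfold secOf
  exact eqToHom_op_refl_apply _ _ _

theorem secOf_fpSnd_fpObj {N : AlgSp.Sp S} (φ : 𝒲 ⥤ᵇ ofSp N) (w : 𝒲.obj) (x : 𝒲.p.obj w ⟶ U)
    (hx : ev u x = secOf π w) :
    secOf (BasedFunctor.comp (fpSnd (ofSpMap u) π) φ) (fpObj u π w x hx) = secOf φ w := rfl

theorem fp_cases (P : (fp (ofSpMap u) π).obj → Prop)
    (h : ∀ (w : 𝒲.obj) (x : 𝒲.p.obj w ⟶ U) (hx : ev u x = secOf π w), P (fpObj u π w x hx))
    (t : (fp (ofSpMap u) π).obj) : P t := by
  obtain ⟨⟨⟨T, ⟨x⟩⟩, w, iso⟩, prop⟩ := t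
  have hb : 𝒲.p.obj w = T := fp_snd_obj (ofSpMap u) π ⟨⟨⟨T, ⟨x⟩⟩, w, iso⟩, prop⟩
  subst hb
  have hprop : (ofSp M).p.IsHomLift (𝟙 (𝒲.p.obj w)) iso.hom := prop
  have hhom : iso.hom.hom = eqToHom (base_eq π w).symm := by
    have := IsHomLift.fac' (ofSp M).p (𝟙 (𝒲.p.obj w)) iso.hom
    simpa using this
  have hx : ev u x = secOf π w := by
    have := iso.hom.map_sec
    rw [hhom] at this
    exact this.symm
  have hi : iso = fpObjIso u π w x hx := by
    apply Iso.ext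
    apply EltObj.hom_ext
    exact hhom
  subst hi
  exact h w x hx

theorem fac_fp_iff {N : AlgSp.Sp S} (φ : 𝒲 ⥤ᵇ ofSp N) (γ : (AlgSp.yon S).obj U ⟶ N) :
    Fac (fpFst (ofSpMap u) π) (BasedFunctor.comp (fpSnd (ofSpMap u) π) φ) γ ↔
      ∀ (w : 𝒲.obj) (x : 𝒲.p.obj w ⟶ U), ev u x = secOf π w → ev γ x = secOf φ w := by
  constructor
  · intro h w x hx
    have h1 := h (fpObj u π w x hx)
    rw [secOf_fpFst_fpObj, secOf_fpSnd_fpObj] at h1
    exact h1
  · intro h t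
    refine fp_cases u π (fun t => γ.hom.app (op ((fp (ofSpMap u) π).p.obj t)) (secOf (fpFst (ofSpMap u) π) t) =
      secOf (BasedFunctor.comp (fpSnd (ofSpMap u) π) φ) t) ?_ t
    intro w x hx
    rw [secOf_fpFst_fpObj, secOf_fpSnd_fpObj]
    exact h w x hx

end FpObj

section Charts

variable {𝒲 : AlgSt.Cat S} {M : AlgSp.Sp S}

/-- **categorical moduli spaces are etale local on the target**: a functor to an algebraic space whose base changes
to all affine etale charts are categorical moduli spaces is a categorical moduli space -/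
theorem isCatModuli_of_charts (h𝒲 : IsFibGrpd 𝒲.p) (hM : AlgSp.IsAlgSpace M) (π : 𝒲 ⥤ᵇ ofSp M)
    (H : ∀ c : Chart M, AlgSt.IsCatModuli (fpFst (ofSpMap c.u) π)) : AlgSt.IsCatModuli π := by
  rw [isCatModuli_iff]
  refine ⟨hM, fun N hN φ => ?_⟩
  have EU : ∀ c : Chart M, ∃! γ : (AlgSp.yon S).obj c.U ⟶ N,
      ∀ (w : 𝒲.obj) (x : 𝒲.p.obj w ⟶ c.U), ev c.u x = secOf π w → ev γ x = secOf φ w := by
    intro c
    have h1 := ((isCatModuli_iff _).1 (H c)).2 N hN (BasedFunctor.comp (fpSnd (ofSpMap c.u) π) φ)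
    simpa only [fac_fp_iff] using h1
  choose γ hγ huniq using EU
  have hcompat : Compat γ := by
    intro c c' h hh
    apply huniq c'
    intro w x' hx'
    rw [ev_map_comp]
    apply hγ c w (x' ≫ h)
    rw [← ev_map_comp, hh]
    exact hx'
  refine ⟨glue γ hM hcompat, ?_, ?_⟩
  · intro w
    apply sec_ext_of_local
    intro τ
    obtain ⟨T', h, c, x, hx, hτ, h1, h2⟩ :=
      exists_chart_nhd hM ((AlgSp.J S).uliftYonedaEquiv.{u + 1}.symm (secOf π w)) τ
    obtain ⟨w', ψ, hψ⟩ := h𝒲.exists_lift (x := w) h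
    have hd : 𝒲.p.obj w' = T' := IsHomLift.domain_eq 𝒲.p h ψ
    subst hd
    have hfac : 𝒲.p.map ψ = h := by
      have := IsHomLift.fac' 𝒲.p h ψ
      simpa using this
    refine ⟨_, h, ?_, hτ, h1, h2⟩
    have e1 : ev c.u x = secOf π w' := by
      have h3 := congrArg (fun f => ev f (𝟙 _)) hx
      simp only [ev_map_comp, Category.id_comp] at h3
      rw [h3, ev_symm, ← hfac, secOf_map]
    have e2 := hγ c w' x e1
    rw [← hfac, secOf_map φ ψ, ← e2, ← glue_spec γ hM hcompat c, ev_comp_hom, e1, ← secOf_map π ψ]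
    exact (NatTrans.naturality_apply (glue γ hM hcompat).hom (𝒲.p.map ψ).op (secOf π w)).symm
  · intro g' hg'
    apply glue_unique
    intro c
    apply huniq c
    intro w x hx
    rw [ev_comp_hom, hx]
    exact hg' w

end Charts

section Transfer

variable {𝒲' 𝒲 : AlgSt.Cat S} {M : AlgSp.Sp S}

/-- categorical moduli spaces are invariant under equivalences of the source -/
theorem isCatModuli_comp_of_isEquivOver (E : 𝒲' ⥤ᵇ 𝒲) (hE : IsEquivOver E) (π : 𝒲 ⥤ᵇ ofSp M)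
    (h : AlgSt.IsCatModuli π) : AlgSt.IsCatModuli (BasedFunctor.comp E π) := by
  obtain ⟨E', ⟨η⟩, ⟨ε⟩⟩ := hE
  refine ⟨h.1, fun N hN φ' => ?_⟩
  obtain ⟨γ, ⟨α⟩, huniq⟩ := h.2 N hN (BasedFunctor.comp E' φ')
  refine ⟨γ, ⟨?_⟩, ?_⟩
  · have i1 : BasedFunctor.comp E (BasedFunctor.comp π (ofSpMap γ)) ≅
        BasedFunctor.comp E (BasedFunctor.comp E' φ') := whiskerLeftIso E α
    have i2 : BasedFunctor.comp (BasedFunctor.comp E E') φ' ≅ BasedFunctor.comp (BasedFunctor.id 𝒲') φ' :=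
      Groth.Agent.Lib.helper4.AlgStRep.whiskerRightIso η φ'
    exact i1.trans i2
  · rintro γ₂ ⟨β⟩
    apply huniq
    have i1 : BasedFunctor.comp (BasedFunctor.id 𝒲) (BasedFunctor.comp π (ofSpMap γ₂)) ≅
        BasedFunctor.comp (BasedFunctor.comp E' E) (BasedFunctor.comp π (ofSpMap γ₂)) :=
      Groth.Agent.Lib.helper4.AlgStRep.whiskerRightIso ε.symm _
    have i2 : BasedFunctor.comp E' (BasedFunctor.comp (BasedFunctor.comp E π) (ofSpMap γ₂)) ≅
        BasedFunctor.comp E' φ' := whiskerLeftIso E' β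
    exact ⟨i1.trans i2⟩

end Transfer

section Main

theorem locP_comp_of_repWith_etale {P : MorphismProperty Scheme.{u}} {A B C : AlgSp.Sp S} (a : A ⟶ B)
    (g : B ⟶ C) (ha : AlgSp.RepWith @Etale a) (hg : AlgSp.LocP P g) : AlgSp.LocP P (a ≫ g) := by
  intro U V a' b h ha' hb hsq
  exact hg (a' ≫ a) b h ((AlgSp.RepWith (S := S) @Etale).comp_mem _ _ ha' ha) hb
    (by rw [Category.assoc]; exact hsq)

/-- S16704 -/
theorem isUnifCatModuli_of_affine_flat (𝒳 : AlgSt.Cat S) (h𝒳 : IsFibGrpd 𝒳.p) (Y : AlgSp.Sp S)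
    (hY : AlgSp.IsAlgSpace Y) (f : 𝒳 ⥤ᵇ AlgSt.ofSp Y)
    (hf : ∀ (Y' : Over S), IsAffine Y'.left → ∀ (g : (AlgSp.yon S).obj Y' ⟶ Y), AlgSp.LocP @Flat g →
      AlgSt.IsCatModuli (FibCat.fpFst (AlgSt.ofSpMap g) f)) :
    AlgSt.IsUnifCatModuli f := by
  refine ⟨isCatModuli_of_charts h𝒳 hY f (fun c => hf c.U c.affine c.u
    (Groth.Agent.H1.LocPFlatBC.locP_flat_of_repWith_etale c.u c.etale)), ?_⟩
  intro M' hM' g hg
  have hfib : IsFibGrpd (fp (ofSpMap g) f).p :=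
    Groth.Agent.FibFpProj.isFibGrpd_fp _ _ (Stk.isFibGrpd_ofPsh _) h𝒳 (Stk.isFibGrpd_ofPsh _)
  apply isCatModuli_of_charts hfib hM'
  intro c
  have h1 : AlgSt.IsCatModuli (fpFst (ofSpMap (c.u ≫ g)) f) :=
    hf c.U c.affine (c.u ≫ g) (locP_comp_of_repWith_etale c.u g c.etale hg)
  exact isCatModuli_comp_of_isEquivOver (pasteL (ofSpMap c.u) (ofSpMap g) f) (pasteL_isEquivOver _ _ _) _ h1

end Main

end Groth.Agent.Lib.helper4.AlgStCatModLocal
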