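import Groth.Agent.FibEquiv
set_option autoImplicit false
set_option backward.isDefEq.respectTransparency false
set_option backward.isDefEq.respectTransparency.types false
open CategoryTheory CategoryTheory.Functor CategoryTheory.Limits
universe v₇ u₇ v₆ u₆ v₅ u₅ v₄ u₄ v₃ u₃ v₂ u₂ v u

namespace Groth.Agent.Lib.helper4.FibPaste
open Groth.Agent.FibEquiv FibCat

variable {C : Type u} [Category.{v} C]

section Basic

variable {𝒳 : BasedCategory.{v₂, u₂} C} {𝒴 : BasedCategory.{v₃, u₃} C}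
  {𝒵 : BasedCategory.{v₄, u₄} C}

/-- The characterization of equivalences over `C`. -/
theorem isEquivOver_iff (F : 𝒳 ⥤ᵇ 𝒴) :
    IsEquivOver F ↔ (F.toFunctor.Full ∧ F.toFunctor.Faithful) ∧
      ∀ η : 𝒴.obj, ∃ (ξ : 𝒳.obj) (e : F.toFunctor.obj ξ ≅ η),
        𝒴.p.IsHomLift (𝟙 (𝒴.p.obj η)) e.hom :=
  ⟨of_isEquivOver F, fun ⟨⟨_, _⟩, h⟩ => isEquivOver_of F h⟩

theorem isEquivOver_comp (F : 𝒳 ⥤ᵇ 𝒴) (G : 𝒴 ⥤ᵇ 𝒵) (hF : IsEquivOver F) (hG : IsEquivOver G) :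
    IsEquivOver (BasedFunctor.comp F G) := by
  obtain ⟨⟨fullF, faithF⟩, essF⟩ := of_isEquivOver F hF
  obtain ⟨⟨fullG, faithG⟩, essG⟩ := of_isEquivOver G hG
  have : (BasedFunctor.comp F G).toFunctor.Full :=
    inferInstanceAs (F.toFunctor ⋙ G.toFunctor).Full
  have : (BasedFunctor.comp F G).toFunctor.Faithful :=
    inferInstanceAs (F.toFunctor ⋙ G.toFunctor).Faithful
  apply isEquivOver_of
  intro η
  obtain ⟨y, e, he⟩ := essG η
  obtain ⟨x, e', he'⟩ := essF y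
  have hy : 𝒴.p.obj y = 𝒵.p.obj η :=
    (G.w_obj y).symm.trans (IsHomLift.domain_eq 𝒵.p (𝟙 (𝒵.p.obj η)) e.hom)
  have h1 : 𝒵.p.IsHomLift (𝟙 (𝒴.p.obj y)) (G.toFunctor.map e'.hom) := inferInstance
  have h2 : 𝒵.p.IsHomLift (𝟙 (𝒵.p.obj η)) (G.toFunctor.map e'.hom) :=
    isHomLift_of_eq 𝒵.p hy _
  refine ⟨x, G.toFunctor.mapIso e' ≪≫ e, ?_⟩
  change 𝒵.p.IsHomLift (𝟙 (𝒵.p.obj η)) (G.toFunctor.map e'.hom ≫ e.hom)
  infer_instance

theorem isEquivOver_symm {F : 𝒳 ⥤ᵇ 𝒴} {G : 𝒴 ⥤ᵇ 𝒳}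
    (α : BasedFunctor.comp F G ≅ BasedFunctor.id 𝒳) (β : BasedFunctor.comp G F ≅ BasedFunctor.id 𝒴) :
    IsEquivOver G := ⟨F, ⟨β⟩, ⟨α⟩⟩

/-- Representability transfers backwards along an equivalence over `C`. -/
theorem isRepresentable_of_isEquivOver (F : 𝒳 ⥤ᵇ 𝒴) (hF : IsEquivOver F)
    (h : IsRepresentable 𝒴) : IsRepresentable 𝒳 := by
  obtain ⟨U, E, hE⟩ := h
  exact ⟨U, BasedFunctor.comp F E, isEquivOver_comp F E hF hE⟩

/-- Representability transfers forwards along an equivalence over `C`. -/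
theorem isRepresentable_of_isEquivOver' (F : 𝒳 ⥤ᵇ 𝒴) (hF : IsEquivOver F)
    (h : IsRepresentable 𝒳) : IsRepresentable 𝒴 := by
  obtain ⟨G, ⟨α⟩, ⟨β⟩⟩ := hF
  exact isRepresentable_of_isEquivOver G (isEquivOver_symm α β) h

end Basic

section PasteL

variable {𝒲 : BasedCategory.{v₅, u₅} C} {𝒳 : BasedCategory.{v₂, u₂} C}
  {𝒴 : BasedCategory.{v₃, u₃} C} {𝒵 : BasedCategory.{v₄, u₄} C}
  (a : 𝒲 ⥤ᵇ 𝒵) (g : 𝒵 ⥤ᵇ 𝒴) (f : 𝒳 ⥤ᵇ 𝒴)

theorem fp_iso_isHomLift {𝒳 : BasedCategory.{v₂, u₂} C} {𝒴 : BasedCategory.{v₃, u₃} C}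
    {𝒮 : BasedCategory.{v₄, u₄} C} (F : 𝒳 ⥤ᵇ 𝒮) (G : 𝒴 ⥤ᵇ 𝒮) (t : (fp F G).obj) :
    𝒮.p.IsHomLift (𝟙 (𝒳.p.obj t.obj.fst)) t.obj.iso.hom :=
  t.property

theorem fp_snd_obj {𝒳 : BasedCategory.{v₂, u₂} C} {𝒴 : BasedCategory.{v₃, u₃} C}
    {𝒮 : BasedCategory.{v₄, u₄} C} (F : 𝒳 ⥤ᵇ 𝒮) (G : 𝒴 ⥤ᵇ 𝒮) (t : (fp F G).obj) :
    𝒴.p.obj t.obj.snd = 𝒳.p.obj t.obj.fst := by
  have := fp_iso_isHomLift F G t
  exact (G.w_obj t.obj.snd).symm.trans
    (IsHomLift.codomain_eq 𝒮.p (𝟙 (𝒳.p.obj t.obj.fst)) t.obj.iso.hom)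

/-- The 2-isomorphism used to define `pasteL`. -/
def pasteLIso :
    BasedFunctor.comp (fpFst a (fpFst g f)) (BasedFunctor.comp a g) ≅
      BasedFunctor.comp (BasedFunctor.comp (fpSnd a (fpFst g f)) (fpSnd g f)) f :=
  BasedNatIso.mkNatIso
    (NatIso.ofComponents
      (fun t => g.toFunctor.mapIso t.obj.iso ≪≫ t.obj.snd.obj.iso)
      (fun {t t'} m => by
        have h1 := m.hom.w
        have h2 := m.hom.snd.hom.w
        dsimp at h1 h2 ⊢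
        change g.toFunctor.map (a.toFunctor.map m.hom.fst) ≫ g.toFunctor.map t'.obj.iso.hom ≫
          t'.obj.snd.obj.iso.hom = (g.toFunctor.map t.obj.iso.hom ≫ t.obj.snd.obj.iso.hom) ≫
            f.toFunctor.map m.hom.snd.hom.snd
        change a.toFunctor.map m.hom.fst ≫ t'.obj.iso.hom = t.obj.iso.hom ≫ m.hom.snd.hom.fst at h1
        rw [← Category.assoc, ← Functor.map_comp, h1, Functor.map_comp, Category.assoc,
          Category.assoc]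
        exact congrArg (g.toFunctor.map t.obj.iso.hom ≫ ·) h2))
    (fun t => by
      have h1 : 𝒵.p.IsHomLift (𝟙 (𝒲.p.obj t.obj.fst)) t.obj.iso.hom := fp_iso_isHomLift _ _ t
      have h2 : 𝒴.p.IsHomLift (𝟙 (𝒵.p.obj t.obj.snd.obj.fst)) t.obj.snd.obj.iso.hom :=
        fp_iso_isHomLift _ _ t.obj.snd
      have h3 : 𝒵.p.obj t.obj.snd.obj.fst = 𝒲.p.obj t.obj.fst :=
        fp_snd_obj a (fpFst g f) t
      have h4 : 𝒴.p.IsHomLift (𝟙 (𝒲.p.obj t.obj.fst)) t.obj.snd.obj.iso.hom :=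
        isHomLift_of_eq 𝒴.p h3 _
      have h5 : 𝒴.p.IsHomLift (𝟙 (𝒲.p.obj t.obj.fst)) (g.toFunctor.map t.obj.iso.hom) :=
        inferInstance
      change 𝒴.p.IsHomLift (𝟙 (𝒲.p.obj t.obj.fst))
        (g.toFunctor.map t.obj.iso.hom ≫ t.obj.snd.obj.iso.hom)
      infer_instance)

/-- The comparison functor `𝒲 ×_𝒵 (𝒵 ×_𝒴 𝒳) ⟶ 𝒲 ×_𝒴 𝒳` over `C`. -/
def pasteL : fp a (fpFst g f) ⥤ᵇ fp (BasedFunctor.comp a g) f :=
  fpLift (fpFst a (fpFst g f)) (BasedFunctor.comp (fpSnd a (fpFst g f)) (fpSnd g f))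
    (pasteLIso a g f)

theorem pasteL_map_fst {t t' : (fp a (fpFst g f)).obj} (m : t ⟶ t') :
    ((pasteL a g f).toFunctor.map m).hom.fst = m.hom.fst := rfl

theorem pasteL_map_snd {t t' : (fp a (fpFst g f)).obj} (m : t ⟶ t') :
    ((pasteL a g f).toFunctor.map m).hom.snd = m.hom.snd.hom.snd := rfl

theorem pasteL_obj_iso (t : (fp a (fpFst g f)).obj) :
    ((pasteL a g f).toFunctor.obj t).obj.iso.hom =
      g.toFunctor.map t.obj.iso.hom ≫ t.obj.snd.obj.iso.hom := rfl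

instance pasteL_faithful : (pasteL a g f).toFunctor.Faithful where
  map_injective {t t'} m m' h := by
    have h1 : m.hom.fst = m'.hom.fst := congrArg (fun k => k.hom.fst) h
    have h2 : m.hom.snd.hom.snd = m'.hom.snd.hom.snd := congrArg (fun k => k.hom.snd) h
    have h3 : m.hom.snd.hom.fst = m'.hom.snd.hom.fst := by
      have w1 := m.hom.w
      have w2 := m'.hom.w
      change a.toFunctor.map m.hom.fst ≫ t'.obj.iso.hom = t.obj.iso.hom ≫ m.hom.snd.hom.fst at w1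
      change a.toFunctor.map m'.hom.fst ≫ t'.obj.iso.hom = t.obj.iso.hom ≫ m'.hom.snd.hom.fst at w2
      rw [← cancel_epi t.obj.iso.hom, ← w1, ← w2, h1]
    apply ObjectProperty.hom_ext
    apply CategoricalPullback.hom_ext
    · exact h1
    · apply ObjectProperty.hom_ext
      apply CategoricalPullback.hom_ext
      · exact h3
      · exact h2

instance pasteL_full : (pasteL a g f).toFunctor.Full where
  map_surjective {t t'} n := by
    let n1 : t.obj.fst ⟶ t'.obj.fst := n.hom.fst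
    let n2 : t.obj.snd.obj.snd ⟶ t'.obj.snd.obj.snd := n.hom.snd
    have hw : g.toFunctor.map (a.toFunctor.map n1) ≫
      (g.toFunctor.map t'.obj.iso.hom ≫ t'.obj.snd.obj.iso.hom) =
      (g.toFunctor.map t.obj.iso.hom ≫ t.obj.snd.obj.iso.hom) ≫ f.toFunctor.map n2 := n.hom.w
    let c : t.obj.snd.obj.fst ⟶ t'.obj.snd.obj.fst :=
      t.obj.iso.inv ≫ a.toFunctor.map n1 ≫ t'.obj.iso.hom
    have hc : g.toFunctor.map c ≫ t'.obj.snd.obj.iso.hom =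
        t.obj.snd.obj.iso.hom ≫ f.toFunctor.map n2 := by
      rw [← cancel_epi (g.toFunctor.map t.obj.iso.hom)]
      simp only [c, CategoryTheory.Functor.map_comp, Category.assoc] at hw ⊢
      rw [← CategoryTheory.Functor.map_comp_assoc, Iso.hom_inv_id,
        CategoryTheory.Functor.map_id, Category.id_comp]
      exact hw
    let s : t.obj.snd ⟶ t'.obj.snd := ObjectProperty.homMk ⟨c, n2, hc⟩
    refine ⟨ObjectProperty.homMk ⟨n1, s, ?_⟩, ?_⟩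
    · change a.toFunctor.map n1 ≫ t'.obj.iso.hom = t.obj.iso.hom ≫ c
      simp [c]
    · apply ObjectProperty.hom_ext
      apply CategoricalPullback.hom_ext <;> rfl

/-- A morphism of `fp F G` lies over `h` as soon as its first component does. -/
theorem fp_lift_to {𝒳 : BasedCategory.{v₂, u₂} C} {𝒴 : BasedCategory.{v₃, u₃} C}
    {𝒮 : BasedCategory.{v₄, u₄} C} (F : 𝒳 ⥤ᵇ 𝒮) (G : 𝒴 ⥤ᵇ 𝒮) {R S : C} (h : R ⟶ S)
    {s s' : (fp F G).obj} (m : s ⟶ s') (hm : 𝒳.p.IsHomLift h m.hom.fst) :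
    (fp F G).p.IsHomLift h m :=
  IsHomLift.of_fac' _ h m (IsHomLift.domain_eq 𝒳.p h m.hom.fst)
    (IsHomLift.codomain_eq 𝒳.p h m.hom.fst) (IsHomLift.fac' 𝒳.p h m.hom.fst)

theorem pasteL_isEquivOver : IsEquivOver (pasteL a g f) := by
  apply isEquivOver_of
  intro η
  have hη : 𝒴.p.IsHomLift (𝟙 (𝒲.p.obj η.obj.fst)) η.obj.iso.hom := fp_iso_isHomLift _ _ η
  let γ : g.toFunctor.obj (a.toFunctor.obj η.obj.fst) ≅ f.toFunctor.obj η.obj.snd := η.obj.iso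
  have hγ : 𝒴.p.IsHomLift (𝟙 (𝒵.p.obj (a.toFunctor.obj η.obj.fst))) γ.hom :=
    isHomLift_of_eq 𝒴.p (a.w_obj η.obj.fst).symm _
  let s : (fp g f).obj := ⟨⟨a.toFunctor.obj η.obj.fst, η.obj.snd, γ⟩, hγ⟩
  let ξ : (fp a (fpFst g f)).obj :=
    ⟨⟨η.obj.fst, s, Iso.refl (a.toFunctor.obj η.obj.fst)⟩, IsHomLift.id (a.w_obj η.obj.fst)⟩
  let e0 : ((pasteL a g f).toFunctor.obj ξ).obj ≅ η.obj :=
    CategoricalPullback.mkIso (Iso.refl _) (Iso.refl _) (by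
      change (BasedFunctor.comp a g).toFunctor.map (𝟙 η.obj.fst) ≫ γ.hom =
        (g.toFunctor.map (𝟙 (a.toFunctor.obj η.obj.fst)) ≫ γ.hom) ≫ f.toFunctor.map (𝟙 η.obj.snd)
      simp)
  refine ⟨ξ, ObjectProperty.isoMk _ e0, ?_⟩
  apply fp_lift_to
  change 𝒲.p.IsHomLift (𝟙 (𝒲.p.obj η.obj.fst)) (𝟙 η.obj.fst)
  infer_instance

end PasteL

section PasteR

variable {𝒲 : BasedCategory.{v₅, u₅} C} {𝒳 : BasedCategory.{v₂, u₂} C}
  {𝒴 : BasedCategory.{v₃, u₃} C} {𝒵 : BasedCategory.{v₄, u₄} C}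
  (G : 𝒲 ⥤ᵇ 𝒵) (g : 𝒴 ⥤ᵇ 𝒵) (f : 𝒳 ⥤ᵇ 𝒴)

/-- The 2-isomorphism used to define `pasteR`. -/
def pasteRIso :
    BasedFunctor.comp (BasedFunctor.comp (fpFst (fpSnd G g) f) (fpFst G g)) G ≅
      BasedFunctor.comp (fpSnd (fpSnd G g) f) (BasedFunctor.comp f g) :=
  BasedNatIso.mkNatIso
    (NatIso.ofComponents
      (fun t => t.obj.fst.obj.iso ≪≫ g.toFunctor.mapIso t.obj.iso)
      (fun {t t'} m => by
        have h1 : m.hom.fst.hom.snd ≫ t'.obj.iso.hom = t.obj.iso.hom ≫ f.toFunctor.map m.hom.snd :=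
          m.hom.w
        have h2 : G.toFunctor.map m.hom.fst.hom.fst ≫ t'.obj.fst.obj.iso.hom =
          t.obj.fst.obj.iso.hom ≫ g.toFunctor.map m.hom.fst.hom.snd := m.hom.fst.hom.w
        change G.toFunctor.map m.hom.fst.hom.fst ≫ t'.obj.fst.obj.iso.hom ≫
          g.toFunctor.map t'.obj.iso.hom = (t.obj.fst.obj.iso.hom ≫ g.toFunctor.map t.obj.iso.hom) ≫
            g.toFunctor.map (f.toFunctor.map m.hom.snd)
        rw [← Category.assoc, h2, Category.assoc, Category.assoc,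
          ← CategoryTheory.Functor.map_comp, ← CategoryTheory.Functor.map_comp, h1]))
    (fun t => by
      have h1 : 𝒵.p.IsHomLift (𝟙 (𝒲.p.obj t.obj.fst.obj.fst)) t.obj.fst.obj.iso.hom :=
        fp_iso_isHomLift _ _ t.obj.fst
      have h2 : 𝒴.p.IsHomLift (𝟙 (𝒲.p.obj t.obj.fst.obj.fst)) t.obj.iso.hom :=
        fp_iso_isHomLift (fpSnd G g) f t
      have h5 : 𝒵.p.IsHomLift (𝟙 (𝒲.p.obj t.obj.fst.obj.fst)) (g.toFunctor.map t.obj.iso.hom) :=
        inferInstance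
      change 𝒵.p.IsHomLift (𝟙 (𝒲.p.obj t.obj.fst.obj.fst))
        (t.obj.fst.obj.iso.hom ≫ g.toFunctor.map t.obj.iso.hom)
      infer_instance)

/-- The comparison functor `(𝒲 ×_𝒵 𝒴) ×_𝒴 𝒳 ⟶ 𝒲 ×_𝒵 𝒳` over `C`. -/
def pasteR : fp (fpSnd G g) f ⥤ᵇ fp G (BasedFunctor.comp f g) :=
  fpLift (BasedFunctor.comp (fpFst (fpSnd G g) f) (fpFst G g)) (fpSnd (fpSnd G g) f)
    (pasteRIso G g f)

instance pasteR_faithful : (pasteR G g f).toFunctor.Faithful where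
  map_injective {t t'} m m' h := by
    have h1 : m.hom.fst.hom.fst = m'.hom.fst.hom.fst := congrArg (fun k => k.hom.fst) h
    have h2 : m.hom.snd = m'.hom.snd := congrArg (fun k => k.hom.snd) h
    have h3 : m.hom.fst.hom.snd = m'.hom.fst.hom.snd := by
      have w1 : m.hom.fst.hom.snd ≫ t'.obj.iso.hom = t.obj.iso.hom ≫ f.toFunctor.map m.hom.snd :=
        m.hom.w
      have w2 : m'.hom.fst.hom.snd ≫ t'.obj.iso.hom = t.obj.iso.hom ≫ f.toFunctor.map m'.hom.snd :=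
        m'.hom.w
      rw [← cancel_mono t'.obj.iso.hom, w1, w2, h2]
    apply ObjectProperty.hom_ext
    apply CategoricalPullback.hom_ext
    · apply ObjectProperty.hom_ext
      apply CategoricalPullback.hom_ext
      · exact h1
      · exact h3
    · exact h2

instance pasteR_full : (pasteR G g f).toFunctor.Full where
  map_surjective {t t'} n := by
    let n1 : t.obj.fst.obj.fst ⟶ t'.obj.fst.obj.fst := n.hom.fst
    let n2 : t.obj.snd ⟶ t'.obj.snd := n.hom.snd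
    have hw : G.toFunctor.map n1 ≫
      (t'.obj.fst.obj.iso.hom ≫ g.toFunctor.map t'.obj.iso.hom) =
      (t.obj.fst.obj.iso.hom ≫ g.toFunctor.map t.obj.iso.hom) ≫
        g.toFunctor.map (f.toFunctor.map n2) := n.hom.w
    let c : t.obj.fst.obj.snd ⟶ t'.obj.fst.obj.snd :=
      t.obj.iso.hom ≫ f.toFunctor.map n2 ≫ t'.obj.iso.inv
    have hc : G.toFunctor.map n1 ≫ t'.obj.fst.obj.iso.hom =
        t.obj.fst.obj.iso.hom ≫ g.toFunctor.map c := by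
      rw [← cancel_mono (g.toFunctor.map t'.obj.iso.hom)]
      simp only [c, CategoryTheory.Functor.map_comp, Category.assoc] at hw ⊢
      rw [← CategoryTheory.Functor.map_comp, Iso.inv_hom_id,
        CategoryTheory.Functor.map_id, Category.comp_id]
      exact hw
    let s : t.obj.fst ⟶ t'.obj.fst := ObjectProperty.homMk ⟨n1, c, hc⟩
    refine ⟨ObjectProperty.homMk ⟨s, n2, ?_⟩, ?_⟩
    · change c ≫ t'.obj.iso.hom = t.obj.iso.hom ≫ f.toFunctor.map n2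
      simp [c]
    · apply ObjectProperty.hom_ext
      apply CategoricalPullback.hom_ext <;> rfl

theorem pasteR_isEquivOver : IsEquivOver (pasteR G g f) := by
  apply isEquivOver_of
  intro η
  have hη : 𝒵.p.IsHomLift (𝟙 (𝒲.p.obj η.obj.fst)) η.obj.iso.hom := fp_iso_isHomLift _ _ η
  let γ : G.toFunctor.obj η.obj.fst ≅ g.toFunctor.obj (f.toFunctor.obj η.obj.snd) := η.obj.iso
  let s : (fp G g).obj := ⟨⟨η.obj.fst, f.toFunctor.obj η.obj.snd, γ⟩, hη⟩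
  have hx : 𝒳.p.obj η.obj.snd = 𝒲.p.obj η.obj.fst := fp_snd_obj _ _ η
  let ξ : (fp (fpSnd G g) f).obj :=
    ⟨⟨s, η.obj.snd, Iso.refl (f.toFunctor.obj η.obj.snd)⟩,
      IsHomLift.id ((f.w_obj η.obj.snd).trans hx)⟩
  let e0 : ((pasteR G g f).toFunctor.obj ξ).obj ≅ η.obj :=
    CategoricalPullback.mkIso (Iso.refl _) (Iso.refl _) (by
      change G.toFunctor.map (𝟙 η.obj.fst) ≫ γ.hom =
        (γ.hom ≫ g.toFunctor.map (𝟙 (f.toFunctor.obj η.obj.snd))) ≫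
          (BasedFunctor.comp f g).toFunctor.map (𝟙 η.obj.snd)
      simp only [CategoryTheory.Functor.map_id, Category.id_comp]
      exact ((Category.comp_id _).trans (Category.comp_id _)).symm)
  refine ⟨ξ, ObjectProperty.isoMk _ e0, ?_⟩
  apply fp_lift_to
  change 𝒲.p.IsHomLift (𝟙 (𝒲.p.obj η.obj.fst)) (𝟙 η.obj.fst)
  infer_instance

end PasteR

section Precomp

variable {𝒲' : BasedCategory.{v₆, u₆} C} {𝒲 : BasedCategory.{v₅, u₅} C}
  {𝒳 : BasedCategory.{v₂, u₂} C} {𝒮 : BasedCategory.{v₄, u₄} C}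
  (E : 𝒲' ⥤ᵇ 𝒲) (a : 𝒲 ⥤ᵇ 𝒮) (F : 𝒳 ⥤ᵇ 𝒮)

/-- The functor `𝒲' ×_𝒮 𝒳 ⟶ 𝒲 ×_𝒮 𝒳` over `C` induced by `E : 𝒲' ⟶ 𝒲`. -/
def fpPrecomp : fp (BasedFunctor.comp E a) F ⥤ᵇ fp a F :=
  fpLift (F := a) (G := F) (BasedFunctor.comp (fpFst (BasedFunctor.comp E a) F) E)
    (fpSnd (BasedFunctor.comp E a) F) (fpIso (BasedFunctor.comp E a) F)

instance fpPrecomp_faithful [E.toFunctor.Faithful] : (fpPrecomp E a F).toFunctor.Faithful where
  map_injective {t t'} m m' h := by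
    have h1 : E.toFunctor.map m.hom.fst = E.toFunctor.map m'.hom.fst :=
      congrArg (fun k => k.hom.fst) h
    have h2 : m.hom.snd = m'.hom.snd := congrArg (fun k => k.hom.snd) h
    apply ObjectProperty.hom_ext
    apply CategoricalPullback.hom_ext
    · exact E.toFunctor.map_injective h1
    · exact h2

instance fpPrecomp_full [E.toFunctor.Full] : (fpPrecomp E a F).toFunctor.Full where
  map_surjective {t t'} n := by
    let n1 : E.toFunctor.obj t.obj.fst ⟶ E.toFunctor.obj t'.obj.fst := n.hom.fst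
    let n2 : t.obj.snd ⟶ t'.obj.snd := n.hom.snd
    have hw : a.toFunctor.map n1 ≫ t'.obj.iso.hom = t.obj.iso.hom ≫ F.toFunctor.map n2 := n.hom.w
    obtain ⟨m1, hm1⟩ := E.toFunctor.map_surjective n1
    refine ⟨ObjectProperty.homMk ⟨m1, n2, ?_⟩, ?_⟩
    · change a.toFunctor.map (E.toFunctor.map m1) ≫ t'.obj.iso.hom =
        t.obj.iso.hom ≫ F.toFunctor.map n2
      rw [hm1, hw]
    · apply ObjectProperty.hom_ext
      apply CategoricalPullback.hom_ext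
      · exact hm1
      · rfl

theorem fpPrecomp_isEquivOver (hE : IsEquivOver E) : IsEquivOver (fpPrecomp E a F) := by
  obtain ⟨⟨fullE, faithE⟩, essE⟩ := of_isEquivOver E hE
  apply isEquivOver_of
  intro η
  have hη : 𝒮.p.IsHomLift (𝟙 (𝒲.p.obj η.obj.fst)) η.obj.iso.hom := fp_iso_isHomLift _ _ η
  obtain ⟨w', e, he⟩ := essE η.obj.fst
  have hw' : 𝒲'.p.obj w' = 𝒲.p.obj η.obj.fst :=
    (E.w_obj w').symm.trans (IsHomLift.domain_eq 𝒲.p (𝟙 (𝒲.p.obj η.obj.fst)) e.hom)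
  let γ : a.toFunctor.obj (E.toFunctor.obj w') ≅ F.toFunctor.obj η.obj.snd :=
    a.toFunctor.mapIso e ≪≫ η.obj.iso
  have h1 : 𝒮.p.IsHomLift (𝟙 (𝒲.p.obj η.obj.fst)) (a.toFunctor.map e.hom) := inferInstance
  have hγ0 : 𝒮.p.IsHomLift (𝟙 (𝒲.p.obj η.obj.fst)) γ.hom := by
    change 𝒮.p.IsHomLift (𝟙 (𝒲.p.obj η.obj.fst)) (a.toFunctor.map e.hom ≫ η.obj.iso.hom)
    infer_instance
  have hγ : 𝒮.p.IsHomLift (𝟙 (𝒲'.p.obj w')) γ.hom := isHomLift_of_eq 𝒮.p hw'.symm _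
  let ξ : (fp (BasedFunctor.comp E a) F).obj := ⟨⟨w', η.obj.snd, γ⟩, hγ⟩
  let e0 : ((fpPrecomp E a F).toFunctor.obj ξ).obj ≅ η.obj :=
    CategoricalPullback.mkIso (x := ⟨E.toFunctor.obj w', η.obj.snd, γ⟩) e (Iso.refl _) (by
      change a.toFunctor.map e.hom ≫ η.obj.iso.hom =
        (a.toFunctor.map e.hom ≫ η.obj.iso.hom) ≫ F.toFunctor.map (𝟙 η.obj.snd)
      simp)
  refine ⟨ξ, ObjectProperty.isoMk _ e0, ?_⟩
  apply fp_lift_to
  exact he

end Precomp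

section FpMap

variable {𝒲 : BasedCategory.{v₅, u₅} C} {𝒳' : BasedCategory.{v₆, u₆} C}
  {𝒴' : BasedCategory.{v₇, u₇} C} {𝒳 : BasedCategory.{v₂, u₂} C} {𝒴 : BasedCategory.{v₃, u₃} C}
  (G' : 𝒲 ⥤ᵇ 𝒴') (G : 𝒲 ⥤ᵇ 𝒴) (f' : 𝒳' ⥤ᵇ 𝒴') (f : 𝒳 ⥤ᵇ 𝒴) (a : 𝒳' ⥤ᵇ 𝒳) (b : 𝒴' ⥤ᵇ 𝒴)
  (θ : BasedFunctor.comp G' b ≅ G) (e : BasedFunctor.comp f' b ≅ BasedFunctor.comp a f)

/-- component of a based natural isomorphism -/
def appIso {𝒳 : BasedCategory.{v₂, u₂} C} {𝒴 : BasedCategory.{v₃, u₃} C} {F G : 𝒳 ⥤ᵇ 𝒴}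
    (θ : F ≅ G) (x : 𝒳.obj) : F.toFunctor.obj x ≅ G.toFunctor.obj x :=
  ((BasedNatTrans.forgetful _ _).mapIso θ).app x

theorem appIso_naturality {𝒳 : BasedCategory.{v₂, u₂} C} {𝒴 : BasedCategory.{v₃, u₃} C}
    {F G : 𝒳 ⥤ᵇ 𝒴} (θ : F ≅ G) {x y : 𝒳.obj} (m : x ⟶ y) :
    F.toFunctor.map m ≫ (appIso θ y).hom = (appIso θ x).hom ≫ G.toFunctor.map m :=
  θ.hom.toNatTrans.naturality m

theorem appIso_isHomLift {𝒳 : BasedCategory.{v₂, u₂} C} {𝒴 : BasedCategory.{v₃, u₃} C}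
    {F G : 𝒳 ⥤ᵇ 𝒴} (θ : F ≅ G) (x : 𝒳.obj) :
    𝒴.p.IsHomLift (𝟙 (𝒳.p.obj x)) (appIso θ x).hom :=
  θ.hom.isHomLift' x

/-- The 2-isomorphism used to define `fpMap`. -/
def fpMapIso :
    BasedFunctor.comp (fpFst G' f') G ≅
      BasedFunctor.comp (BasedFunctor.comp (fpSnd G' f') a) f :=
  BasedNatIso.mkNatIso
    (NatIso.ofComponents
      (fun t => (appIso θ t.obj.fst).symm ≪≫ b.toFunctor.mapIso t.obj.iso ≪≫ appIso e t.obj.snd)
      (fun {t t'} m => by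
        have h1 : G'.toFunctor.map m.hom.fst ≫ t'.obj.iso.hom =
          t.obj.iso.hom ≫ f'.toFunctor.map m.hom.snd := m.hom.w
        have h2 := appIso_naturality θ m.hom.fst
        have h3 := appIso_naturality e m.hom.snd
        change G.toFunctor.map m.hom.fst ≫ (appIso θ t'.obj.fst).inv ≫
          b.toFunctor.map t'.obj.iso.hom ≫ (appIso e t'.obj.snd).hom =
          ((appIso θ t.obj.fst).inv ≫ b.toFunctor.map t.obj.iso.hom ≫ (appIso e t.obj.snd).hom) ≫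
            f.toFunctor.map (a.toFunctor.map m.hom.snd)
        change b.toFunctor.map (G'.toFunctor.map m.hom.fst) ≫ (appIso θ t'.obj.fst).hom =
          (appIso θ t.obj.fst).hom ≫ G.toFunctor.map m.hom.fst at h2
        change b.toFunctor.map (f'.toFunctor.map m.hom.snd) ≫ (appIso e t'.obj.snd).hom =
          (appIso e t.obj.snd).hom ≫ f.toFunctor.map (a.toFunctor.map m.hom.snd) at h3
        rw [Category.assoc, Category.assoc, ← h3, ← cancel_epi (appIso θ t.obj.fst).hom,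
          ← Category.assoc, ← h2]
        simp only [Category.assoc, Iso.hom_inv_id_assoc]
        rw [← CategoryTheory.Functor.map_comp_assoc, h1, CategoryTheory.Functor.map_comp_assoc]))
    (fun t => by
      have h1 : 𝒴.p.IsHomLift (𝟙 (𝒲.p.obj t.obj.fst)) (appIso θ t.obj.fst).hom :=
        appIso_isHomLift θ t.obj.fst
      have h1' : 𝒴.p.IsHomLift (𝟙 (𝒲.p.obj t.obj.fst)) (appIso θ t.obj.fst).inv :=
        IsHomLift.lift_id_inv _ _ _
      have h2 : 𝒴'.p.IsHomLift (𝟙 (𝒲.p.obj t.obj.fst)) t.obj.iso.hom := fp_iso_isHomLift _ _ t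
      have h3 : 𝒴.p.IsHomLift (𝟙 (𝒲.p.obj t.obj.fst)) (b.toFunctor.map t.obj.iso.hom) :=
        inferInstance
      have h4 : 𝒴.p.IsHomLift (𝟙 (𝒳'.p.obj t.obj.snd)) (appIso e t.obj.snd).hom :=
        appIso_isHomLift e t.obj.snd
      have h5 : 𝒴.p.IsHomLift (𝟙 (𝒲.p.obj t.obj.fst)) (appIso e t.obj.snd).hom :=
        isHomLift_of_eq 𝒴.p (fp_snd_obj G' f' t) _
      change 𝒴.p.IsHomLift (𝟙 (𝒲.p.obj t.obj.fst)) ((appIso θ t.obj.fst).inv ≫
          b.toFunctor.map t.obj.iso.hom ≫ (appIso e t.obj.snd).hom)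
      infer_instance)

/-- The functor `𝒲 ×_𝒴' 𝒳' ⟶ 𝒲 ×_𝒴 𝒳` over `C` induced by a 2-commutative square. -/
def fpMap : fp G' f' ⥤ᵇ fp G f :=
  fpLift (fpFst G' f') (BasedFunctor.comp (fpSnd G' f') a) (fpMapIso G' G f' f a b θ e)

theorem fpMap_obj_iso_hom (t : (fp G' f').obj) :
    ((fpMap G' G f' f a b θ e).toFunctor.obj t).obj.iso.hom =
      (appIso θ t.obj.fst).inv ≫ b.toFunctor.map t.obj.iso.hom ≫ (appIso e t.obj.snd).hom := rfl

instance fpMap_faithful [a.toFunctor.Faithful] : (fpMap G' G f' f a b θ e).toFunctor.Faithful where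
  map_injective {t t'} m m' h := by
    have h1 : m.hom.fst = m'.hom.fst := congrArg (fun k => k.hom.fst) h
    have h2 : a.toFunctor.map m.hom.snd = a.toFunctor.map m'.hom.snd :=
      congrArg (fun k => k.hom.snd) h
    apply ObjectProperty.hom_ext
    apply CategoricalPullback.hom_ext
    · exact h1
    · exact a.toFunctor.map_injective h2

instance fpMap_full [a.toFunctor.Full] [b.toFunctor.Faithful] :
    (fpMap G' G f' f a b θ e).toFunctor.Full where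
  map_surjective {t t'} n := by
    let n1 : t.obj.fst ⟶ t'.obj.fst := n.hom.fst
    let n2 : a.toFunctor.obj t.obj.snd ⟶ a.toFunctor.obj t'.obj.snd := n.hom.snd
    have hw : G.toFunctor.map n1 ≫ ((appIso θ t'.obj.fst).inv ≫
        b.toFunctor.map t'.obj.iso.hom ≫ (appIso e t'.obj.snd).hom) =
        ((appIso θ t.obj.fst).inv ≫ b.toFunctor.map t.obj.iso.hom ≫ (appIso e t.obj.snd).hom) ≫
          f.toFunctor.map n2 := n.hom.w
    obtain ⟨m2, hm2⟩ := a.toFunctor.map_surjective n2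
    have h2 : b.toFunctor.map (G'.toFunctor.map n1) ≫ (appIso θ t'.obj.fst).hom =
        (appIso θ t.obj.fst).hom ≫ G.toFunctor.map n1 := appIso_naturality θ n1
    have h3 : b.toFunctor.map (f'.toFunctor.map m2) ≫ (appIso e t'.obj.snd).hom =
        (appIso e t.obj.snd).hom ≫ f.toFunctor.map (a.toFunctor.map m2) := appIso_naturality e m2
    refine ⟨ObjectProperty.homMk ⟨n1, m2, ?_⟩, ?_⟩
    · apply b.toFunctor.map_injective
      rw [CategoryTheory.Functor.map_comp, CategoryTheory.Functor.map_comp,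
        ← cancel_mono (appIso e t'.obj.snd).hom, Category.assoc, Category.assoc, h3, hm2,
        ← cancel_epi (appIso θ t.obj.fst).inv]
      have := (Iso.eq_inv_comp _).mpr h2.symm
      rw [this] at hw
      simp only [Category.assoc, Iso.hom_inv_id_assoc] at hw ⊢
      exact hw
    · apply ObjectProperty.hom_ext
      apply CategoricalPullback.hom_ext
      · rfl
      · exact hm2

theorem fpMap_isEquivOver (ha : IsEquivOver a) (hb : IsEquivOver b) :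
    IsEquivOver (fpMap G' G f' f a b θ e) := by
  obtain ⟨⟨fulla, faitha⟩, essa⟩ := of_isEquivOver a ha
  obtain ⟨⟨fullb, faithb⟩, essb⟩ := of_isEquivOver b hb
  apply isEquivOver_of
  intro η
  have hη : 𝒴.p.IsHomLift (𝟙 (𝒲.p.obj η.obj.fst)) η.obj.iso.hom := fp_iso_isHomLift _ _ η
  have hx : 𝒳.p.obj η.obj.snd = 𝒲.p.obj η.obj.fst := fp_snd_obj _ _ η
  obtain ⟨x', ε, hε⟩ := essa η.obj.snd
  have hx' : 𝒳'.p.obj x' = 𝒲.p.obj η.obj.fst :=
    ((a.w_obj x').symm.trans (IsHomLift.domain_eq 𝒳.p (𝟙 (𝒳.p.obj η.obj.snd)) ε.hom)).trans hx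
  -- the isomorphism `b (G' w) ≅ b (f' x')`
  let δ : b.toFunctor.obj (G'.toFunctor.obj η.obj.fst) ≅ b.toFunctor.obj (f'.toFunctor.obj x') :=
    appIso θ η.obj.fst ≪≫ η.obj.iso ≪≫ f.toFunctor.mapIso ε.symm ≪≫ (appIso e x').symm
  have hδ : 𝒴.p.IsHomLift (𝟙 (𝒲.p.obj η.obj.fst)) δ.hom := by
    have h1 : 𝒴.p.IsHomLift (𝟙 (𝒲.p.obj η.obj.fst)) (appIso θ η.obj.fst).hom :=
      appIso_isHomLift θ η.obj.fst
    have h2 : 𝒳.p.IsHomLift (𝟙 (𝒲.p.obj η.obj.fst)) ε.hom := isHomLift_of_eq 𝒳.p hx _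
    have h2' : 𝒳.p.IsHomLift (𝟙 (𝒲.p.obj η.obj.fst)) ε.inv := IsHomLift.lift_id_inv _ _ _
    have h3 : 𝒴.p.IsHomLift (𝟙 (𝒲.p.obj η.obj.fst)) (f.toFunctor.map ε.inv) := inferInstance
    have h4 : 𝒴.p.IsHomLift (𝟙 (𝒳'.p.obj x')) (appIso e x').hom := appIso_isHomLift e x'
    have h5 : 𝒴.p.IsHomLift (𝟙 (𝒲.p.obj η.obj.fst)) (appIso e x').hom :=
      isHomLift_of_eq 𝒴.p hx' _
    have h5' : 𝒴.p.IsHomLift (𝟙 (𝒲.p.obj η.obj.fst)) (appIso e x').inv :=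
      IsHomLift.lift_id_inv _ _ _
    change 𝒴.p.IsHomLift (𝟙 (𝒲.p.obj η.obj.fst)) ((appIso θ η.obj.fst).hom ≫ η.obj.iso.hom ≫
      f.toFunctor.map ε.inv ≫ (appIso e x').inv)
    infer_instance
  let γ' : G'.toFunctor.obj η.obj.fst ≅ f'.toFunctor.obj x' := b.toFunctor.preimageIso δ
  have hγ'map : b.toFunctor.map γ'.hom = δ.hom := by simp [γ']
  have hγ' : 𝒴'.p.IsHomLift (𝟙 (𝒲.p.obj η.obj.fst)) γ'.hom := by
    have : 𝒴.p.IsHomLift (𝟙 (𝒲.p.obj η.obj.fst)) (b.toFunctor.map γ'.hom) := by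
      rw [hγ'map]; exact hδ
    exact b.isHomLift_map _ _
  let ξ : (fp G' f').obj := ⟨⟨η.obj.fst, x', γ'⟩, hγ'⟩
  let e0 : ((fpMap G' G f' f a b θ e).toFunctor.obj ξ).obj ≅ η.obj :=
    CategoricalPullback.mkIso
      (x := ⟨η.obj.fst, a.toFunctor.obj x',
        (appIso θ η.obj.fst).symm ≪≫ b.toFunctor.mapIso γ' ≪≫ appIso e x'⟩)
      (Iso.refl _) ε (by
      change G.toFunctor.map (𝟙 η.obj.fst) ≫ η.obj.iso.hom =
        ((appIso θ η.obj.fst).inv ≫ b.toFunctor.map γ'.hom ≫ (appIso e x').hom) ≫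
          f.toFunctor.map ε.hom
      rw [hγ'map]
      simp only [δ, Iso.trans_hom, Iso.symm_hom, Functor.mapIso_hom, Category.assoc,
        Iso.inv_hom_id_assoc, Iso.inv_hom_id, Category.comp_id,
        CategoryTheory.Functor.map_id, Category.id_comp]
      rw [← CategoryTheory.Functor.map_comp, Iso.inv_hom_id, CategoryTheory.Functor.map_id,
        Category.comp_id])
  refine ⟨ξ, ObjectProperty.isoMk _ e0, ?_⟩
  apply fp_lift_to
  change 𝒲.p.IsHomLift (𝟙 (𝒲.p.obj η.obj.fst)) (𝟙 η.obj.fst)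
  infer_instance

end FpMap

section Whisker

variable {𝒲 : BasedCategory.{v₅, u₅} C} {𝒴 : BasedCategory.{v₃, u₃} C}
  {𝒵 : BasedCategory.{v₄, u₄} C}

/-- Left whiskering of a based natural isomorphism. -/
def whiskerLeftIso (G : 𝒲 ⥤ᵇ 𝒴) {H K : 𝒴 ⥤ᵇ 𝒵} (β : H ≅ K) :
    BasedFunctor.comp G H ≅ BasedFunctor.comp G K :=
  BasedNatIso.mkNatIso
    (NatIso.ofComponents (fun w => appIso β (G.toFunctor.obj w))
      (fun {w w'} m => appIso_naturality β (G.toFunctor.map m)))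
    (fun w => by
      have h : 𝒵.p.IsHomLift (𝟙 (𝒴.p.obj (G.toFunctor.obj w))) (appIso β (G.toFunctor.obj w)).hom :=
        appIso_isHomLift β (G.toFunctor.obj w)
      change 𝒵.p.IsHomLift (𝟙 (𝒲.p.obj w)) (appIso β (G.toFunctor.obj w)).hom
      exact isHomLift_of_eq 𝒵.p (G.w_obj w) _)

end Whisker

end Groth.Agent.Lib.helper4.FibPaste
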