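import Groth.Agent.Lib.Helper4.StkSub
import Groth.Agent.Lib.Helper4.FibPaste
import Groth.Agent.StkFp
import Groth.Agent.FibYoneda
set_option autoImplicit false
set_option backward.isDefEq.respectTransparency false
set_option backward.isDefEq.respectTransparency.types false
set_option linter.unusedSectionVars false
set_option linter.unusedVariables false
set_option linter.style.haveILetI false
open CategoryTheory CategoryTheory.Functor CategoryTheory.Limits
universe v₄ u₄ v₃ u₃ v₂ u₂ v u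

/-! A strictly full subcategory of a prestack which is itself a stack is cut out by a local condition. -/

namespace Groth.Agent.Lib.helper4.StkSub
open Groth.Agent.FibEquiv Groth.Agent.FibFiberwise Groth.Agent.FibFp Groth.Agent.FibOver Groth.Agent.FibFpProj
open Groth.Agent.StkLib Groth.Agent.FibYoneda

variable {C : Type u} [Category.{v} C] {𝒳 : BasedCategory.{v₂, u₂} C} (Q : ObjectProperty 𝒳.obj)

/-- if objects of the full subcategory on `Q` glue along `R` and morphisms of `𝒳` glue uniquely along `R`, an object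
all of whose restrictions to `R` satisfy `Q` satisfies `Q` -/
theorem local_of_isStackFor_sub (h𝒳 : FibCat.IsFibGrpd 𝒳.p) (hiso : Q.IsClosedUnderIsomorphisms) {U : C}
    (R : Sieve U) (hR1 : (Stk.restr (Stk.sieveIncl R) 𝒳).Full) (hR2 : (Stk.restr (Stk.sieveIncl R) 𝒳).Faithful)
    (hsub : (Stk.restr (Stk.sieveIncl R) (sub Q)).EssSurj) (x : 𝒳.obj) (hx : 𝒳.p.obj x = U)
    (h : ∀ ⦃V : C⦄ (f : V ⟶ U), R f → ∀ (y : 𝒳.obj) (φ : y ⟶ x), 𝒳.p.IsHomLift f φ → Q y) : Q x := by
  subst hx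
  haveI hfib : 𝒳.p.IsFibered := isFibered_of_isFibGrpd 𝒳.p h𝒳
  obtain ⟨e0, -⟩ := yBased_id_iso x
  have hs : ∀ b : (Stk.sieveCat R).obj, Q ((yBased x).toFunctor.obj ((Stk.sieveIncl R).toFunctor.obj b)) :=
    fun b => h b.obj.hom b.property _ (yMap x b.obj) (yMap_isStronglyCartesian x b.obj).toIsHomLift
  let F : Stk.sieveCat R ⥤ᵇ sub Q := liftSub Q (BasedFunctor.comp (Stk.sieveIncl R) (yBased x)) hs
  let H : FibCat.overCat (𝒳.p.obj x) ⥤ᵇ sub Q := (Stk.restr (Stk.sieveIncl R) (sub Q)).objPreimage F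
  let i : (Stk.restr (Stk.sieveIncl R) (sub Q)).obj H ≅ F :=
    (Stk.restr (Stk.sieveIncl R) (sub Q)).objObjPreimageIso F
  let j : (Stk.restr (Stk.sieveIncl R) 𝒳).obj (BasedFunctor.comp H (incl Q)) ≅
      (Stk.restr (Stk.sieveIncl R) 𝒳).obj (yBased x) :=
    Groth.Agent.StkFp.whiskerRightIsoB i (incl Q)
  let k : BasedFunctor.comp H (incl Q) ≅ yBased x := (Stk.restr (Stk.sieveIncl R) 𝒳).preimageIso j
  exact hiso.of_iso (Groth.Agent.Lib.helper4.FibPaste.appIso k (Over.mk (𝟙 (𝒳.p.obj x))) ≪≫ e0)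
    (H.toFunctor.obj (Over.mk (𝟙 (𝒳.p.obj x)))).property

/-- a strictly full subcategory of a prestack which is a stack is cut out by a local condition -/
theorem local_of_isStack_sub (J : GrothendieckTopology C) (h𝒳 : Stk.IsPrestack J 𝒳)
    (hiso : Q.IsClosedUnderIsomorphisms) (hsub : Stk.IsStack J (sub Q)) {U : C} (R : Sieve U) (hR : R ∈ J U)
    (x : 𝒳.obj) (hx : 𝒳.p.obj x = U)
    (h : ∀ ⦃V : C⦄ (f : V ⟶ U), R f → ∀ (y : 𝒳.obj) (φ : y ⟶ x), 𝒳.p.IsHomLift f φ → Q y) : Q x := by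
  obtain ⟨h1, h2⟩ := h𝒳.2 R hR
  have h3 := hsub.2 R hR
  unfold Stk.IsStackFor at h3
  exact local_of_isStackFor_sub Q h𝒳.1 hiso R h1 h2 inferInstance x hx h

end Groth.Agent.Lib.helper4.StkSub
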