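import Groth.Agent.Lib.Helper4.AlgStOpenSub5
import Groth.Agent.Lib.Helper4.StkSubLocal
import Groth.Agent.S10510
set_option autoImplicit false
set_option backward.isDefEq.respectTransparency false
set_option backward.isDefEq.respectTransparency.types false
set_option linter.unusedSectionVars false
set_option linter.style.haveILetI false
set_option linter.unusedVariables false
open CategoryTheory CategoryTheory.Functor CategoryTheory.Limits Opposite AlgebraicGeometry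
universe u

/-! Closed substacks of reduced algebraic stacks. -/

namespace Groth.Agent.Lib.helper4.AlgStClosedSub
open Groth.Agent.FibEquiv Groth.Agent.FibYoneda FibCat Groth.Agent.Lib.helper4.FibPaste
open Groth.Agent.Lib.helper4.AlgStEquiv Groth.Agent.Lib.helper4.AlgStRep
open Groth.Agent.Lib.helper4.AlgStSetoid Groth.Agent.FibFpProj Groth.Agent.Lib.helper4.FibRep
open Groth.Agent.Lib.helper4.AlgStFpAlg Groth.Agent.Lib.helper4.AlgStDM Groth.Agent.Lib.helper4.AlgStSelf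
open Groth.Agent.Lib.helper4.AlgStPts Groth.Agent.Lib.helper4.FibSwap Groth.Agent.Lib.helper4.AlgStSmLoc
open Groth.Agent.Lib.helper4.AlgStQC Groth.Agent.Lib.helper4.PshDict Groth.Agent.Lib.helper4.PshRep
open Groth.Agent.Lib.helper4.PshPB Groth.Agent.Lib.helper4.AlgStQCMor Groth.Agent.Lib.helper4.PointsBasic
open Groth.Agent.Lib.helper4.AlgStDescent Groth.Agent.Lib.helper4.AlgStCoreA
open Groth.Agent.Lib.helper4.AlgStSource Groth.Agent.Lib.helper4.AlgStGraph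
open Groth.Agent.Lib.helper4.SmLocalST Groth.Agent.Lib.helper5.LocPBC
open Groth.Agent.Lib.helper4.AlgStLocQ Groth.Agent.Lib.helper4.StkSub Groth.Agent.Lib.helper4.AlgStOpenSub
open Stk AlgSt

variable {S : Scheme.{u}} {𝒳 : AlgSt.Cat S}

/-- a morphism of sheaves to a reduced scheme which is representable by closed immersions and surjective on points is
an isomorphism -/
theorem isIso_of_closedImmersion_of_surjective {F : AlgSp.Sp S} {U : Over S} [IsReduced U.left]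
    (f : F ⟶ (AlgSp.yon S).obj U) (hf : AlgSp.RepWith @IsClosedImmersion f) (hs : AlgSp.IsSurjectiveMor f) :
    IsIso f := by
  obtain ⟨V, snd', fst, sq⟩ := hf.1 (𝟙 ((AlgSp.yon S).obj U))
  have hci : IsClosedImmersion snd'.left := hf.2 _ _ snd' sq
  have hsurj : Surjective snd'.left := by
    refine ⟨fun t => ?_⟩
    obtain ⟨w, hw⟩ := hs (AlgSp.Points.ofPt (𝟙 ((AlgSp.yon S).obj U)) t)
    obtain ⟨v, _, hv⟩ := Groth.Agent.Lib.helper11.exists_of_isPullback_scheme sq w t hw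
    exact ⟨v, hv⟩
  have h1 : IsIso snd'.left := isIso_of_isClosedImmersion_of_surjective snd'.left
  have h2 : IsIso snd' := by
    have : IsIso ((Over.forget S).map snd') := h1
    exact isIso_of_reflects_iso snd' (Over.forget S)
  have h3 : IsIso fst := sq.isIso_fst_of_isIso
  have h4 : f = inv fst ≫ (AlgSp.yon S).map snd' := by
    rw [IsIso.eq_inv_comp, sq.w, Category.comp_id]
  rw [h4]
  infer_instance

section Sub
variable (h𝒳 : IsFibGrpd 𝒳.p) (Q : 𝒳.obj → Prop) (hiso : ObjectProperty.IsClosedUnderIsomorphisms Q)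
  (hsub : IsFibGrpd (AlgSt.fullSub 𝒳 Q).p)
include h𝒳 hiso hsub

/-- if the base change of the inclusion of a substack along a chart is an isomorphism, the chart lies in the
substack -/
theorem mem_of_isIso {U : Over S} (x : overCat U ⥤ᵇ 𝒳) (F : AlgSp.Space S)
    (e : AlgSt.ofSp F.obj ⥤ᵇ fp x (AlgSt.subIncl 𝒳 Q))
    (hci : IsIso (AlgSt.spMapOfOver (BasedFunctor.comp e (fpFst x (AlgSt.subIncl 𝒳 Q))))) :
    Q (x.toFunctor.obj (Over.mk (𝟙 U))) := by
  let Φ : AlgSt.ofSp F.obj ⥤ᵇ overCat U := BasedFunctor.comp e (fpFst x (AlgSt.subIncl 𝒳 Q))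
  let x₀ : F.obj.obj.obj (op U) := (inv (AlgSt.spMapOfOver Φ)).hom.app (op U) ⟨𝟙 _⟩
  have hx₀ : (AlgSt.spMapOfOver Φ).hom.app (op U) x₀ = ⟨𝟙 _⟩ :=
    congrArg (fun k => k.hom.app (op U) ⟨𝟙 _⟩) (IsIso.inv_hom_id (AlgSt.spMapOfOver Φ))
  rw [AlgSt.spMapOfOver_app] at hx₀
  have hsec : AlgSt.secHom Φ ⟨U, x₀⟩ = 𝟙 _ := congrArg ULift.down hx₀
  let η : (fp x (AlgSt.subIncl 𝒳 Q)).obj := e.obj ⟨U, x₀⟩
  have hw : U = η.obj.fst.left := (Φ.w_obj ⟨U, x₀⟩).symm
  let k : (Over.mk (𝟙 U) : Over U) ⟶ η.obj.fst := Over.homMk (eqToHom hw) hsec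
  exact of_hom_of_isFibGrpd h𝒳 Q hiso hsub (x.map k ≫ η.obj.iso.hom) η.obj.snd.property

/-- the base change of the inclusion of a substack along a chart all of whose points lie in the substack is
surjective -/
theorem isSurjectiveMor_of_range {U : Over S} (x : overCat U ⥤ᵇ 𝒳) (F : AlgSp.Space S)
    (e : AlgSt.ofSp F.obj ⥤ᵇ fp x (AlgSt.subIncl 𝒳 Q)) (he : IsEquivOver e)
    (hr : ∀ u : ↥U.left, Points.ofChart x u ∈ Set.range (AlgSt.Points.map (AlgSt.subIncl 𝒳 Q))) :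
    AlgSp.IsSurjectiveMor (AlgSt.spMapOfOver (BasedFunctor.comp e (fpFst x (AlgSt.subIncl 𝒳 Q)))) := by
  have hU : IsFibGrpd (overCat U).p := Groth.Agent.FibOver.isFibGrpd_overCat _
  intro z'
  obtain ⟨ξ, hξ⟩ := hr (AlgSp.Points.toScheme U z')
  have h1 : Points.map x (Points.ofChart (BasedFunctor.id (overCat U)) (AlgSp.Points.toScheme U z')) =
      Points.map (AlgSt.subIncl 𝒳 Q) ξ := hξ.symm
  obtain ⟨w, hw1, -⟩ := exists_points_fp hsub h𝒳 hU (AlgSt.subIncl 𝒳 Q) x _ ξ h1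
  obtain ⟨w₁, rfl⟩ := (map_bijective_of_isEquivOver e he).2 w
  refine ⟨ptsEquiv F.obj w₁, ?_⟩
  have h2 := congrArg (slicePt U) hw1
  rw [slicePt_fpFst, slicePt_ofChart_id] at h2
  have h3 := congrArg (AlgSp.Points.ofScheme U) h2
  rwa [AlgSp.Points.ofScheme_toScheme, AlgSp.Points.ofScheme_toScheme] at h3

end Sub

section Main
variable (h𝒳 : AlgSt.IsAlgStack Scheme.fppfPrecoverage 𝒳)
include h𝒳

/-- a strictly full substack containing (the universal object of) a smooth surjective atlas is everything -/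
theorem forall_mem_of_atlas (Q : 𝒳.obj → Prop) (hiso : ObjectProperty.IsClosedUnderIsomorphisms Q)
    (hsub : Stk.IsStack (QuotSh.J Scheme.fppfPrecoverage S) (AlgSt.fullSub 𝒳 Q))
    {U₀ : Over S} (x₀ : overCat U₀ ⥤ᵇ 𝒳) (hx₀ : AlgSt.RepByAlgSpWith (AlgSp.LocP @Smooth) x₀)
    (hx₀s : AlgSt.RepByAlgSpWith AlgSp.IsSurjectiveMor x₀)
    (hmem : Q (x₀.toFunctor.obj (Over.mk (𝟙 U₀)))) (y : 𝒳.obj) : Q y := by
  have hX := h𝒳.isStack.1
  haveI hfib : 𝒳.p.IsFibered := Groth.Agent.FibFiberwise.isFibered_of_isFibGrpd 𝒳.p hX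
  have hpb : ∀ ⦃a b : 𝒳.obj⦄ (φ : b ⟶ a), Q a → Q b := fun a b φ ha =>
    of_hom_of_isFibGrpd hX Q hiso hsub.1 φ ha
  obtain ⟨W, a, b, ⟨ι⟩, -, hP, -, hS, -⟩ := exists_chart_fp hX x₀
    (Groth.Agent.Lib.helper4.AlgStFull.repByAlgSp1_of_with _ _ hx₀) (yBased y)
  have hb1 : Smooth b.left := hP @Smooth hx₀
  have hb2 : Surjective b.left := hS hx₀s
  have hR : Sieve.ofArrows (fun _ : PUnit.{u + 1} => W) (fun _ => b) ∈
      QuotSh.J Scheme.fppfPrecoverage S (𝒳.p.obj y) :=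
    Groth.Agent.S10510.cover_mem_family _ _ (fun _ => inferInstance) (fun _ => inferInstance)
      (fun t => ⟨PUnit.unit, hb2.surj t⟩)
  apply local_of_isStack_sub Q (QuotSh.J Scheme.fppfPrecoverage S)
    (Groth.Agent.StkFp.isPrestack_of_isStack _ h𝒳.isStack) hiso hsub _ hR y rfl
  rintro V f ⟨_, k, _, ⟨_⟩, rfl⟩ y' φ hφ
  let a₁ : Over (𝒳.p.obj y) := (AlgSt.overMap b).toFunctor.obj (Over.mk (𝟙 W))
  have hz : Q ((yBased y).toFunctor.obj a₁) := by
    have h1 : Q (x₀.toFunctor.obj ((AlgSt.overMap a).toFunctor.obj (Over.mk (𝟙 W)))) :=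
      hpb (x₀.toFunctor.map (toId _)) hmem
    exact hiso.of_iso (appIso ι (Over.mk (𝟙 W))).symm h1
  have hm : 𝒳.p.IsHomLift (𝟙 W ≫ b) (yMap y a₁) := (yMap_isStronglyCartesian y a₁).toIsHomLift
  obtain ⟨κ, -, -⟩ := Groth.Agent.Lib.helper4.Descent.exists_factor hX (𝟙 W ≫ b) (yMap y a₁) k (k ≫ b) (by simp) φ
  exact hpb κ hz

/-- S12865 -/
theorem closedSubstack_eq (hred : AlgSt.SmoothLocally (fun X => IsReduced X) 𝒳)
    (Q : 𝒳.obj → Prop) (hQ : AlgSt.IsClosedSubstack 𝒳 Q Scheme.fppfPrecoverage)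
    (hpts : Set.range (AlgSt.Points.map (AlgSt.subIncl 𝒳 Q)) = Set.univ) (y : 𝒳.obj) : Q y := by
  have hX := h𝒳.isStack.1
  obtain ⟨U₀, x₀, hx₀, hx₀s⟩ := h𝒳.atlas
  haveI : IsReduced U₀.left := hred U₀ x₀ hx₀
  obtain ⟨F, e, he, hc⟩ := hQ.2.2 U₀ x₀
  have hsurj := isSurjectiveMor_of_range hX Q hQ.1 hQ.2.1.isStack.1 x₀ F e he
    (fun u => by rw [hpts]; trivial)
  have hci := isIso_of_closedImmersion_of_surjective _ hc hsurj
  exact forall_mem_of_atlas h𝒳 Q hQ.1 hQ.2.1.isStack x₀ hx₀ hx₀s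
    (mem_of_isIso hX Q hQ.1 hQ.2.1.isStack.1 x₀ F e hci) y

end Main

end Groth.Agent.Lib.helper4.AlgStClosedSub
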