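import Groth.Agent.Lib.Helper4.AlgStOpenSub7
import Groth.Agent.Lib.Helper4.AlgStFull
import Groth.Agent.S9928
set_option autoImplicit false
set_option backward.isDefEq.respectTransparency false
set_option backward.isDefEq.respectTransparency.types false
set_option linter.unusedSectionVars false
set_option linter.style.haveILetI false
set_option linter.unusedVariables false
open CategoryTheory CategoryTheory.Functor CategoryTheory.Limits Opposite AlgebraicGeometry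
universe u

/-! The essential image of a monomorphism of algebraic stacks as a strictly full substack. -/

namespace Groth.Agent.Lib.helper4.AlgStOpenSub
open Groth.Agent.FibEquiv Groth.Agent.FibYoneda FibCat Groth.Agent.Lib.helper4.FibPaste
open Groth.Agent.Lib.helper4.AlgStEquiv Groth.Agent.Lib.helper4.AlgStRep
open Groth.Agent.Lib.helper4.AlgStSetoid Groth.Agent.FibFpProj Groth.Agent.Lib.helper4.FibRep
open Groth.Agent.Lib.helper4.AlgStFpAlg Groth.Agent.Lib.helper4.AlgStDM Groth.Agent.Lib.helper4.AlgStSelf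
open Groth.Agent.Lib.helper4.AlgStPts Groth.Agent.Lib.helper4.FibSwap Groth.Agent.Lib.helper4.AlgStSmLoc
open Groth.Agent.Lib.helper4.AlgStQC Groth.Agent.Lib.helper4.PshDict Groth.Agent.Lib.helper4.PshRep
open Groth.Agent.Lib.helper4.PshPB Groth.Agent.Lib.helper4.AlgStQCMor Groth.Agent.Lib.helper4.PointsBasic
open Groth.Agent.Lib.helper4.AlgStDescent Groth.Agent.Lib.helper4.AlgStCoreA
open Groth.Agent.Lib.helper4.AlgStSource Groth.Agent.Lib.helper4.AlgStGraph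
open Groth.Agent.Lib.helper4.SmLocalST Groth.Agent.Lib.helper5.LocPBC
open Groth.Agent.Lib.helper4.AlgStLocQ Groth.Agent.Lib.helper4.StkSub Groth.Agent.Lib.helper4.FibLiftIso
open Stk AlgSt

variable {S : Scheme.{u}} {𝒵 𝒳 : AlgSt.Cat S}

/-- the essential image of a functor -/
def essIm (i : 𝒵 ⥤ᵇ 𝒳) : 𝒳.obj → Prop := fun a => ∃ z : 𝒵.obj, Nonempty (i.obj z ≅ a)

theorem essIm_isClosedUnderIsomorphisms (i : 𝒵 ⥤ᵇ 𝒳) : ObjectProperty.IsClosedUnderIsomorphisms (essIm i) :=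
  ⟨fun e ⟨z, ⟨e'⟩⟩ => ⟨z, ⟨e' ≪≫ e⟩⟩⟩

/-- the corestriction of a functor to its essential image -/
def toEssIm (i : 𝒵 ⥤ᵇ 𝒳) : 𝒵 ⥤ᵇ AlgSt.fullSub 𝒳 (essIm i) :=
  liftSub (essIm i) i (fun z => ⟨z, ⟨Iso.refl _⟩⟩)

theorem toEssIm_comp (i : 𝒵 ⥤ᵇ 𝒳) : BasedFunctor.comp (toEssIm i) (AlgSt.subIncl 𝒳 (essIm i)) = i := rfl

section FF
variable (h𝒵 : IsFibGrpd 𝒵.p) (h𝒳 : IsFibGrpd 𝒳.p) (i : 𝒵 ⥤ᵇ 𝒳) [i.toFunctor.Full] [i.toFunctor.Faithful]

instance toEssIm_faithful : (toEssIm i).toFunctor.Faithful where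
  map_injective {x x'} m m' h := by
    apply i.toFunctor.map_injective
    exact congrArg (fun k => k.hom) h

instance toEssIm_full : (toEssIm i).toFunctor.Full where
  map_surjective {x x'} n := by
    refine ⟨i.toFunctor.preimage n.hom, ?_⟩
    apply ObjectProperty.hom_ext
    exact i.toFunctor.map_preimage n.hom

include h𝒵 h𝒳 in
/-- a fully faithful functor between categories fibred in groupoids is an equivalence onto its essential image -/
theorem toEssIm_isEquivOver : IsEquivOver (toEssIm i) := by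
  haveI := h𝒳
  apply isEquivOver_of
  rintro ⟨a, z, ⟨e⟩⟩
  have hz : 𝒳.p.obj (i.obj z) = 𝒵.p.obj z := i.w_obj z
  let u : 𝒳.p.obj a ⟶ 𝒵.p.obj z := 𝒳.p.map e.inv ≫ eqToHom hz
  obtain ⟨ξ, χ, hχ⟩ := h𝒵.exists_lift (x := z) u
  have h1 : 𝒳.p.IsHomLift u (i.toFunctor.map χ) := i.preserves_isHomLift u χ
  have h2 : 𝒳.p.IsHomLift u e.inv := IsHomLift.of_fac _ _ _ rfl hz (by simp [u])
  obtain ⟨ι, hι⟩ := exists_iso_of_lifts 𝒳.p u (i.toFunctor.map χ) e.inv
  refine ⟨ξ, ObjectProperty.isoMk _ ι, ?_⟩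
  have h3 : 𝒳.p.IsHomLift (𝟙 (𝒳.p.obj a)) ((AlgSt.subIncl 𝒳 (essIm i)).toFunctor.map
      (ObjectProperty.isoMk (essIm i) ι : (toEssIm i).toFunctor.obj ξ ≅ ⟨a, z, ⟨e⟩⟩).hom) := hι
  exact (AlgSt.subIncl 𝒳 (essIm i)).isHomLift_map (𝟙 (𝒳.p.obj a)) _

end FF

section Imm
variable (h𝒵 : AlgSt.IsAlgStack Scheme.fppfPrecoverage 𝒵) (h𝒳 : AlgSt.IsAlgStack Scheme.fppfPrecoverage 𝒳)
  (i : 𝒵 ⥤ᵇ 𝒳)

include h𝒵 h𝒳 in
/-- an immersion of algebraic stacks is an equivalence onto its essential image, an algebraic stack whose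
inclusion has every property of `i` -/
theorem essIm_data (hi : AlgSt.IsImm i) :
    ObjectProperty.IsClosedUnderIsomorphisms (essIm i) ∧
      AlgSt.IsAlgStack Scheme.fppfPrecoverage (AlgSt.fullSub 𝒳 (essIm i)) ∧ IsEquivOver (toEssIm i) ∧
      ∀ P : MorphismProperty (AlgSp.Sp S), AlgSt.RepByAlgSpWith P i →
        AlgSt.RepByAlgSpWith P (AlgSt.subIncl 𝒳 (essIm i)) := by
  have hZ := h𝒵.isStack.1
  have hX := h𝒳.isStack.1
  have hmono : AlgSt.RepByAlgSpWith (MorphismProperty.monomorphisms (AlgSp.Sp S)) i :=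
    Groth.Agent.Lib.helper4.AlgStCancel.repByAlgSpWith_mono i
      (fun F T π hπ => Groth.Agent.S9928.mono_of_repWith_mono π hπ) hi
  haveI : i.toFunctor.Full := Groth.Agent.Lib.helper4.AlgStFull.full_of_isMono hZ hX i hmono
  haveI : i.toFunctor.Faithful :=
    Groth.Agent.Lib.helper4.AlgStFaithful.faithful_of_repByAlgSp1 hZ hX i (repByAlgSp1_of_repByAlgSpWith hi)
  have he : IsEquivOver (toEssIm i) := toEssIm_isEquivOver hZ hX i
  refine ⟨essIm_isClosedUnderIsomorphisms i, isAlgStack_of_isEquivOver _ (toEssIm i) he h𝒵, he, ?_⟩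
  intro P hP
  exact (repByAlgSpWith_precomp_iff P (AlgSt.subIncl 𝒳 (essIm i)) (toEssIm i) he).2 hP

/-- a strictly full subcategory through which `i` factors by an equivalence is the essential image of `i` -/
theorem eq_essIm (Q' : 𝒳.obj → Prop) (hiso : ObjectProperty.IsClosedUnderIsomorphisms Q')
    (i'' : 𝒵 ⥤ᵇ AlgSt.fullSub 𝒳 Q') (hi'' : IsEquivOver i'')
    (φ : BasedFunctor.comp i'' (AlgSt.subIncl 𝒳 Q') ≅ i) : Q' = essIm i := by
  funext a
  apply propext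
  constructor
  · intro ha
    obtain ⟨G, -, ⟨β⟩⟩ := hi''
    let b : (AlgSt.fullSub 𝒳 Q').obj := ⟨a, ha⟩
    have e1 : i''.toFunctor.obj (G.toFunctor.obj b) ≅ b := appIso β b
    have e2 : (i''.toFunctor.obj (G.toFunctor.obj b)).obj ≅ a :=
      (AlgSt.subIncl 𝒳 Q').toFunctor.mapIso e1
    exact ⟨G.toFunctor.obj b, ⟨(appIso φ (G.toFunctor.obj b)).symm ≪≫ e2⟩⟩
  · rintro ⟨z, ⟨e⟩⟩
    exact hiso.of_iso (appIso φ z ≪≫ e) (i''.toFunctor.obj z).property

end Imm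

end Groth.Agent.Lib.helper4.AlgStOpenSub
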