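import Groth.Agent.Lib.Helper4.AlgStClosedSub
import Groth.Agent.Lib.Helper4.AlgStOpenSub8
set_option autoImplicit false
set_option backward.isDefEq.respectTransparency false
set_option backward.isDefEq.respectTransparency.types false
set_option linter.unusedSectionVars false
set_option linter.style.haveILetI false
set_option linter.unusedVariables false
open CategoryTheory CategoryTheory.Functor CategoryTheory.Limits Opposite AlgebraicGeometry
universe u

/-! Morphisms from reduced algebraic stacks factor through a closed substack iff they do so on points. -/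

namespace Groth.Agent.Lib.helper4.AlgStClosedSub
open Groth.Agent.FibEquiv Groth.Agent.FibYoneda FibCat Groth.Agent.Lib.helper4.FibPaste
open Groth.Agent.Lib.helper4.AlgStEquiv Groth.Agent.Lib.helper4.AlgStRep
open Groth.Agent.Lib.helper4.AlgStSetoid Groth.Agent.FibFpProj Groth.Agent.Lib.helper4.FibRep
open Groth.Agent.Lib.helper4.AlgStFpAlg Groth.Agent.Lib.helper4.AlgStDM Groth.Agent.Lib.helper4.AlgStSelf
open Groth.Agent.Lib.helper4.AlgStPts Groth.Agent.Lib.helper4.FibSwap Groth.Agent.Lib.helper4.AlgStSmLoc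
open Groth.Agent.Lib.helper4.AlgStQC Groth.Agent.Lib.helper4.PshDict Groth.Agent.Lib.helper4.PshRep
open Groth.Agent.Lib.helper4.PshPB Groth.Agent.Lib.helper4.AlgStQCMor Groth.Agent.Lib.helper4.PointsBasic
open Groth.Agent.Lib.helper4.AlgStDescent Groth.Agent.Lib.helper4.AlgStCoreA
open Groth.Agent.Lib.helper4.AlgStSource Groth.Agent.Lib.helper4.AlgStGraph
open Groth.Agent.Lib.helper4.SmLocalST Groth.Agent.Lib.helper5.LocPBC
open Groth.Agent.Lib.helper4.AlgStLocQ Groth.Agent.Lib.helper4.StkSub Groth.Agent.Lib.helper4.AlgStOpenSub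
open Stk AlgSt

variable {S : Scheme.{u}} {𝒳 𝒴 : AlgSt.Cat S}

/-- the essential image of the base change of the inclusion of a strictly full subcategory is its preimage -/
theorem essIm_fpFst_subIncl (Q : 𝒳.obj → Prop) (hiso : ObjectProperty.IsClosedUnderIsomorphisms Q)
    (f : 𝒴 ⥤ᵇ 𝒳) (y : 𝒴.obj) :
    essIm (fpFst f (AlgSt.subIncl 𝒳 Q)) y ↔ Q (f.toFunctor.obj y) := by
  constructor
  · rintro ⟨η, ⟨e⟩⟩
    exact hiso.of_iso (η.obj.iso.symm ≪≫ f.toFunctor.mapIso e) η.obj.snd.property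
  · intro h
    let η : (fp f (AlgSt.subIncl 𝒳 Q)).obj :=
      ⟨⟨y, ⟨f.toFunctor.obj y, h⟩, Iso.refl _⟩, IsHomLift.id (f.w_obj y)⟩
    exact ⟨η, ⟨Iso.refl _⟩⟩

/-- S12866 -/
theorem forall_mem_iff_range (h𝒳 : AlgSt.IsAlgStack Scheme.fppfPrecoverage 𝒳)
    (h𝒴 : AlgSt.IsAlgStack Scheme.fppfPrecoverage 𝒴) (hred : AlgSt.SmoothLocally (fun X => IsReduced X) 𝒴)
    (Q : 𝒳.obj → Prop) (hQ : AlgSt.IsClosedSubstack 𝒳 Q Scheme.fppfPrecoverage) (f : 𝒴 ⥤ᵇ 𝒳) :
    (∀ y : 𝒴.obj, Q (f.obj y)) ↔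
      Set.range (AlgSt.Points.map f) ⊆ Set.range (AlgSt.Points.map (AlgSt.subIncl 𝒳 Q)) := by
  constructor
  · intro h
    rintro _ ⟨w, rfl⟩
    obtain ⟨p, rfl⟩ := Points.mk_surjective w
    let q : FPt (AlgSt.fullSub 𝒳 Q) :=
      { K := p.K, str := p.str, obj := ⟨f.obj p.obj, h p.obj⟩, lies := (f.w_obj p.obj).trans p.lies }
    exact ⟨Points.mk q, rfl⟩
  · intro h y
    have hX := h𝒳.isStack.1
    have hY := h𝒴.isStack.1
    have hX' := hQ.2.1.isStack.1
    let i : fp f (AlgSt.subIncl 𝒳 Q) ⥤ᵇ 𝒴 := fpFst f (AlgSt.subIncl 𝒳 Q)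
    have h𝒵 : AlgSt.IsAlgStack Scheme.fppfPrecoverage (fp f (AlgSt.subIncl 𝒳 Q)) :=
      isAlgStack_fp' h𝒴 hQ.2.1 h𝒳 f (AlgSt.subIncl 𝒳 Q)
    have hci : AlgSt.IsClosedImm i := Groth.Agent.S12779.result hX' hX hY _ (AlgSt.subIncl 𝒳 Q) f hQ.2.2
    have himm : AlgSt.IsImm i := Groth.Agent.Lib.helper4.AlgStCancel.repByAlgSpWith_mono i
      (fun F T π hπ => Groth.Agent.S10194.repWith_mono
        (fun X Y g hg => by have : IsClosedImmersion g := hg; exact inferInstanceAs (IsImmersion g)) hπ) hci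
    obtain ⟨h1, h2, h3, h4⟩ := essIm_data h𝒵 h𝒴 i himm
    have hcs : AlgSt.IsClosedSubstack 𝒴 (essIm i) Scheme.fppfPrecoverage := ⟨h1, h2, h4 _ hci⟩
    have hpts : Set.range (AlgSt.Points.map (AlgSt.subIncl 𝒴 (essIm i))) = Set.univ := by
      apply Set.eq_univ_of_forall
      intro p
      obtain ⟨ξ, hξ⟩ := h ⟨p, rfl⟩
      obtain ⟨w, hw1, -⟩ := exists_points_fp hX' hX hY (AlgSt.subIncl 𝒳 Q) f p ξ hξ.symm
      refine ⟨Points.map (toEssIm i) w, ?_⟩
      rw [← map_comp]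
      exact hw1
    exact (essIm_fpFst_subIncl Q hQ.1 f y).1 (closedSubstack_eq h𝒴 hred (essIm i) hcs hpts y)

end Groth.Agent.Lib.helper4.AlgStClosedSub
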