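import Groth.Agent.Lib.Helper4.AlgStDescentFam
set_option autoImplicit false
set_option backward.isDefEq.respectTransparency false
set_option backward.isDefEq.respectTransparency.types false
set_option linter.unusedSectionVars false
set_option linter.style.haveILetI false
set_option linter.unusedVariables false
open CategoryTheory CategoryTheory.Functor CategoryTheory.Limits Opposite AlgebraicGeometry
universe w' v' w v u

/-! Universe-polymorphic version of `AlgStDescentFam.isPullback_overMap` (helper4). -/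

namespace Groth.Agent.Lib.helper4.AlgStDescentFamU
open Groth.Agent.FibEquiv Groth.Agent.FibYoneda Groth.Agent.FibFpProj Stk FibCat
open Groth.Agent.Lib.helper4.Descent Groth.Agent.Lib.helper4.PshDict Groth.Agent.Lib.helper4.FibPaste
open Groth.Agent.Lib.helper4.AlgStEquiv Groth.Agent.Lib.helper4.PshRep Groth.Agent.Lib.helper4.PshPB
open Groth.Agent.Lib.helper4.FibSwap Groth.Agent.Lib.helper4.AlgStSetoid Groth.Agent.Lib.helper4.AlgStCoreA
open Groth.Agent.Lib.helper4.AlgStDescent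

variable {S : Scheme.{u}}

/-- the pullback square of sheaves attached to the restriction of a chart along a morphism of schemes -/
theorem isPullback_overMap {𝒳 : BasedCategory.{v, w} (Over S)} {𝒴 : BasedCategory.{v', w'} (Over S)} (f : 𝒳 ⥤ᵇ 𝒴) {U V : Over S} (h : V ⟶ U) (y : overCat U ⥤ᵇ 𝒴)
    {X T : AlgSp.Sp S} (eX : AlgSt.ofSp X ⥤ᵇ fp y f) (heX : IsEquivOver eX)
    (eT : AlgSt.ofSp T ⥤ᵇ fp (BasedFunctor.comp (AlgSt.overMap h) y) f) (heT : IsEquivOver eT) :
    ∃ q : T ⟶ X, IsPullback q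
      (AlgSt.spMapOfOver (BasedFunctor.comp eT (fpFst (BasedFunctor.comp (AlgSt.overMap h) y) f)))
      (AlgSt.spMapOfOver (BasedFunctor.comp eX (fpFst y f))) ((AlgSp.yon S).map h) := by
  obtain ⟨eXi, ⟨αX⟩, ⟨βX⟩⟩ := id heX
  have heXi : IsEquivOver eXi := isEquivOver_symm αX βX
  obtain ⟨PLi, ⟨αL⟩, ⟨βL⟩⟩ := pasteL_isEquivOver (AlgSt.overMap h) y f
  have hPLi : IsEquivOver PLi := isEquivOver_symm αL βL
  let α : ((AlgSp.yon S).obj V).obj ⟶ ((AlgSp.yon S).obj U).obj := ((AlgSp.yon S).map h).hom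
  let B : AlgSt.ofSp X ⥤ᵇ overCat U := BasedFunctor.comp eX (fpFst y f)
  let β : X.obj ⟶ ((AlgSp.yon S).obj U).obj := pshMapOf (BasedFunctor.comp B (toYon.{u + 1} U))
  let θ : BasedFunctor.comp (AlgSt.overMap h) (toYon.{u + 1} U) ≅
      BasedFunctor.comp (toYon.{u + 1} V) (ofPshMap α) :=
    Groth.Agent.Lib.helper4.PshRepGen.overMapIso.{u + 1} h
  let ε : BasedFunctor.comp (fpFst y f) (toYon.{u + 1} U) ≅ BasedFunctor.comp eXi (ofPshMap β) :=
    (Groth.Agent.Lib.helper4.AlgStRep.whiskerRightIso βX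
      (BasedFunctor.comp (fpFst y f) (toYon.{u + 1} U))).symm ≪≫
      whiskerLeftIso eXi (isoOfPshMap (BasedFunctor.comp B (toYon.{u + 1} U)))
  let M : fp (AlgSt.overMap h) (fpFst y f) ⥤ᵇ
      fp (BasedFunctor.comp (toYon.{u + 1} V) (ofPshMap α)) (ofPshMap β) :=
    fpMap (AlgSt.overMap h) (BasedFunctor.comp (toYon.{u + 1} V) (ofPshMap α)) (fpFst y f) (ofPshMap β)
      eXi (toYon.{u + 1} U) θ ε
  have hM : IsEquivOver M := fpMap_isEquivOver _ _ _ _ _ _ _ _ heXi (toYon_isEquivOver U)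
  let PC : fp (BasedFunctor.comp (toYon.{u + 1} V) (ofPshMap α)) (ofPshMap β) ⥤ᵇ
      fp (ofPshMap α) (ofPshMap β) := fpPrecomp (toYon.{u + 1} V) (ofPshMap α) (ofPshMap β)
  have hPC : IsEquivOver PC := fpPrecomp_isEquivOver _ _ _ (toYon_isEquivOver V)
  let Ξ : AlgSt.ofSp T ⥤ᵇ fp (ofPshMap α) (ofPshMap β) :=
    BasedFunctor.comp eT (BasedFunctor.comp PLi (BasedFunctor.comp M PC))
  have hΞ : IsEquivOver Ξ :=
    isEquivOver_comp _ _ heT (isEquivOver_comp _ _ hPLi (isEquivOver_comp _ _ hM hPC))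
  have sq := isPullback_of_isEquivOver Ξ hΞ
  have hfst : pshMapOf (BasedFunctor.comp Ξ (fpFst (ofPshMap α) (ofPshMap β))) =
      pshMapOf (BasedFunctor.comp (BasedFunctor.comp eT (fpFst (BasedFunctor.comp (AlgSt.overMap h) y) f))
        (toYon.{u + 1} V)) := by
    apply pshMapOf_congr
    exact whiskerLeftIso eT (Groth.Agent.Lib.helper4.AlgStRep.whiskerRightIso βL
      (BasedFunctor.comp (fpFst (BasedFunctor.comp (AlgSt.overMap h) y) f) (toYon.{u + 1} V)))
  rw [hfst] at sq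
  refine ⟨ObjectProperty.homMk (pshMapOf (BasedFunctor.comp Ξ (fpSnd (ofPshMap α) (ofPshMap β)))), ?_⟩
  apply IsPullback.of_map_of_faithful (sheafToPresheaf (AlgSp.J S) (Type (u + 1)))
  change IsPullback (pshMapOf (BasedFunctor.comp Ξ (fpSnd (ofPshMap α) (ofPshMap β))))
    (AlgSt.spMapOfOver (BasedFunctor.comp eT (fpFst (BasedFunctor.comp (AlgSt.overMap h) y) f))).hom
    (AlgSt.spMapOfOver (BasedFunctor.comp eX (fpFst y f))).hom ((AlgSp.yon S).map h).hom
  rw [spMapOfOver_hom, spMapOfOver_hom]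
  exact sq.flip


end Groth.Agent.Lib.helper4.AlgStDescentFamU
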