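import Groth.Agent.Lib.Helper4.AlgStEquiv
import Groth.Agent.Lib.Helper4.DiagBC
import Groth.Agent.Lib.Helper4.FibRep
set_option autoImplicit false
set_option backward.isDefEq.respectTransparency false
set_option backward.isDefEq.respectTransparency.types false
open CategoryTheory CategoryTheory.Functor CategoryTheory.Limits AlgebraicGeometry
universe w v₇ u₇ v₆ u₆ v₅ u₅ v₄ u₄ v₃ u₃ v₂ u₂ v u

/-! Morphisms representable by algebraic spaces are faithful. -/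

namespace Groth.Agent.Lib.helper4.AlgStFaithful
open Groth.Agent.FibEquiv Groth.Agent.Lib.helper4.FibPaste Groth.Agent.Lib.helper4.DiagBC FibCat

section General

variable {C : Type u} [Category.{v} C]

/-- the category of a presheaf has thin fibres -/
theorem thin_ofPsh (P : Cᵒᵖ ⥤ Type w) (V : C) : Quiver.IsThin ((Stk.ofPsh P).p.Fiber V) := by
  intro a b
  refine ⟨fun m m' => ?_⟩
  apply Functor.Fiber.hom_ext
  apply Stk.EltObj.hom_ext
  have h1 := IsHomLift.fac' (Stk.ofPsh P).p (𝟙 V) (Functor.Fiber.fiberInclusion.map m)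
  have h2 := IsHomLift.fac' (Stk.ofPsh P).p (𝟙 V) (Functor.Fiber.fiberInclusion.map m')
  exact h1.trans h2.symm

/-- parallel morphisms over an identity agree in a category with thin fibres -/
theorem vertical_eq_of_thin {𝒲 : BasedCategory.{v₂, u₂} C} (h : ∀ V : C, Quiver.IsThin (𝒲.p.Fiber V))
    {V : C} {a b : 𝒲.obj} (m m' : a ⟶ b) [𝒲.p.IsHomLift (𝟙 V) m] [𝒲.p.IsHomLift (𝟙 V) m'] :
    m = m' := by
  have ha : 𝒲.p.obj a = V := IsHomLift.domain_eq 𝒲.p (𝟙 V) m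
  have hb : 𝒲.p.obj b = V := IsHomLift.codomain_eq 𝒲.p (𝟙 V) m
  let a' : 𝒲.p.Fiber V := ⟨a, ha⟩
  let b' : 𝒲.p.Fiber V := ⟨b, hb⟩
  let n : a' ⟶ b' := Functor.Fiber.homMk 𝒲.p V m
  let n' : a' ⟶ b' := Functor.Fiber.homMk 𝒲.p V m'
  have := h V a' b'
  have h1 : n = n' := Subsingleton.elim n n'
  have h2 := congrArg (fun k => Functor.Fiber.fiberInclusion.map k) h1
  exact h2

end General

variable {S : Scheme.{u}}

/-- a category over `(Sch/S)` representable by an algebraic space has thin fibres -/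
theorem thin_of_repByAlgSp {𝒲 : AlgSt.Cat S} (h : AlgSt.RepByAlgSp 𝒲) :
    ∀ V : Over S, Quiver.IsThin (𝒲.p.Fiber V) := by
  obtain ⟨F, E, hE⟩ := h
  obtain ⟨G, ⟨a⟩, ⟨b⟩⟩ := hE
  have hG : IsEquivOver G := isEquivOver_symm a b
  obtain ⟨⟨_, hfaith⟩, _⟩ := of_isEquivOver G hG
  exact Groth.Agent.StkLib.thin_source G (fun V => thin_ofPsh F.obj.obj V)

/-- a vertical automorphism killed by a morphism representable by algebraic spaces is trivial -/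
theorem aut_eq_id_of_repByAlgSp1 {𝒳 𝒴 : AlgSt.Cat S} (h𝒴 : IsFibGrpd 𝒴.p) (f : 𝒳 ⥤ᵇ 𝒴)
    (hf : AlgSt.RepByAlgSp1 f) (x : 𝒳.obj) (α : x ⟶ x)
    (h : f.toFunctor.map α = 𝟙 _) : α = 𝟙 x := by
  have : 𝒴.p.IsFibered := Groth.Agent.FibFiberwise.isFibered_of_isFibGrpd 𝒴.p h𝒴
  let U : Over S := 𝒴.p.obj (f.toFunctor.obj x)
  let y : overCat U ⥤ᵇ 𝒴 := Groth.Agent.FibYoneda.yBased (f.toFunctor.obj x)
  obtain ⟨e, he⟩ := Groth.Agent.FibYoneda.yBased_id_iso (f.toFunctor.obj x)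
  let ξ : (fp y f).obj := ⟨⟨Over.mk (𝟙 U), x, e⟩, he⟩
  let m : ξ ⟶ ξ := fpHomMk y f (𝟙 _) α (by
    change y.toFunctor.map (𝟙 _) ≫ e.hom = e.hom ≫ f.toFunctor.map α
    rw [h]
    simp)
  have hthin := thin_of_repByAlgSp (hf U y)
  have h0 : (overCat U).p.IsHomLift (𝟙 U) (𝟙 (Over.mk (𝟙 U))) := IsHomLift.id rfl
  have hm : (fp y f).p.IsHomLift (𝟙 U) m := Groth.Agent.FibFp.lift_to y f (𝟙 U) m h0
  have h1 : (fp y f).p.IsHomLift (𝟙 U) (𝟙 ξ) := Groth.Agent.FibFp.lift_to y f (𝟙 U) (𝟙 ξ) h0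
  have := vertical_eq_of_thin hthin (V := U) m (𝟙 ξ)
  exact congrArg (fun k => k.hom.snd) this

/-- a morphism representable by algebraic spaces between categories fibred in groupoids is
faithful -/
theorem faithful_of_repByAlgSp1 {𝒳 𝒴 : AlgSt.Cat S} (h𝒳 : IsFibGrpd 𝒳.p) (h𝒴 : IsFibGrpd 𝒴.p)
    (f : 𝒳 ⥤ᵇ 𝒴) (hf : AlgSt.RepByAlgSp1 f) : f.toFunctor.Faithful := by
  constructor
  intro x x' φ φ' h
  have hsc : 𝒳.p.IsStronglyCartesian (𝒳.p.map φ') φ' := h𝒳.isStronglyCartesian φ'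
  have hbase : 𝒳.p.map φ = 𝒳.p.map φ' := by
    have e1 := Functor.congr_hom f.w φ
    have e2 := Functor.congr_hom f.w φ'
    have e3 : (f.toFunctor ⋙ 𝒴.p).map φ = (f.toFunctor ⋙ 𝒴.p).map φ' := by
      rw [Functor.comp_map, Functor.comp_map, h]
    rw [e1, e2] at e3
    rw [cancel_epi, cancel_mono] at e3
    exact e3
  have hl : 𝒳.p.IsHomLift (𝒳.p.map φ') φ := by rw [← hbase]; infer_instance
  let α : x ⟶ x := IsStronglyCartesian.map 𝒳.p (𝒳.p.map φ') φ'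
    (show 𝒳.p.map φ' = 𝟙 _ ≫ 𝒳.p.map φ' by simp) φ
  have hα : 𝒳.p.IsHomLift (𝟙 (𝒳.p.obj x)) α := inferInstance
  have hfac : α ≫ φ' = φ := IsStronglyCartesian.fac 𝒳.p (𝒳.p.map φ') φ'
    (show 𝒳.p.map φ' = 𝟙 _ ≫ 𝒳.p.map φ' by simp) φ
  have hfα : f.toFunctor.map α = 𝟙 _ := by
    have hsc' : 𝒴.p.IsStronglyCartesian (𝒳.p.map φ') (f.toFunctor.map φ') :=
      Groth.Agent.Lib.helper4.FibRep.isStronglyCartesian_of_isFibGrpd' h𝒴 _ _
    have i1 : 𝒴.p.IsHomLift (𝟙 (𝒳.p.obj x)) (f.toFunctor.map α) := inferInstance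
    have i2 : 𝒴.p.IsHomLift (𝟙 (𝒳.p.obj x)) (𝟙 (f.toFunctor.obj x)) := IsHomLift.id (f.w_obj x)
    apply IsStronglyCartesian.ext 𝒴.p (𝒳.p.map φ') (f.toFunctor.map φ') (𝟙 (𝒳.p.obj x))
    rw [← CategoryTheory.Functor.map_comp, hfac, h, Category.id_comp]
  have := aut_eq_id_of_repByAlgSp1 h𝒴 f hf x α hfα
  rw [← hfac, this, Category.id_comp]

end Groth.Agent.Lib.helper4.AlgStFaithful
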