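import Groth.Agent.Lib.Helper4.DiagEquiv
import Groth.Agent.Lib.Helper4.AlgStDiagBC
import Groth.Agent.Lib.Helper4.AlgStDescent
import Groth.Agent.Lib.Helper4.AlgStFaithful
import Groth.Agent.Lib.Helper5.AlgSpFibreProduct
set_option autoImplicit false
set_option backward.isDefEq.respectTransparency false
set_option backward.isDefEq.respectTransparency.types false
set_option linter.unusedSectionVars false
set_option linter.style.haveILetI false
set_option linter.unusedVariables false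
open CategoryTheory CategoryTheory.Functor CategoryTheory.Limits Opposite AlgebraicGeometry
universe w v₅ u₅ v₄ u₄ v₃ u₃ v₂ u₂ v u

/-! The diagonal of a morphism representable by algebraic spaces, computed from the diagonals of the morphisms of
algebraic spaces it induces. -/

namespace Groth.Agent.Lib.helper4.AlgStDiagK
open Groth.Agent.FibEquiv Groth.Agent.FibYoneda Groth.Agent.FibFpProj Stk FibCat
open Groth.Agent.Lib.helper4.Descent Groth.Agent.Lib.helper4.PshDict Groth.Agent.Lib.helper4.FibPaste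
open Groth.Agent.Lib.helper4.AlgStEquiv Groth.Agent.Lib.helper4.PshRep Groth.Agent.Lib.helper4.DiagBC
open Groth.Agent.Lib.helper4.DiagEquiv Groth.Agent.Lib.helper4.AlgStRep Groth.Agent.Lib.helper4.FibSwap

section General

variable {C : Type u} [Category.{v} C]

/-- functors between categories of presheaves inducing the same map of presheaves are 2-isomorphic -/
def isoOfPshMapEq {P Q : Cᵒᵖ ⥤ Type w} (A B : ofPsh P ⥤ᵇ ofPsh Q) (h : pshMapOf A = pshMapOf B) : A ≅ B :=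
  isoOfSecEq A B (fun e => by rw [← pshMapOf_app A e, ← pshMapOf_app B e, h])

section Thin

variable {𝒲 : BasedCategory.{v₅, u₅} C} {𝒳 : BasedCategory.{v₂, u₂} C} {𝒴 : BasedCategory.{v₃, u₃} C}
  {𝒮 : BasedCategory.{v₄, u₄} C} (F : 𝒳 ⥤ᵇ 𝒮) (G : 𝒴 ⥤ᵇ 𝒮) (A B : 𝒲 ⥤ᵇ fp F G)
  (α : BasedFunctor.comp A (fpFst F G) ≅ BasedFunctor.comp B (fpFst F G))
  (β : BasedFunctor.comp A (fpSnd F G) ≅ BasedFunctor.comp B (fpSnd F G))

/-- over a base with thin fibres the compatibility of `fpFunctorIso` is automatic -/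
def fpFunctorIsoOfThin (hthin : ∀ V : C, Quiver.IsThin (𝒮.p.Fiber V)) : A ≅ B :=
  fpFunctorIso F G A B α β (fun w => by
    haveI h1 : 𝒳.p.IsHomLift (𝟙 (𝒲.p.obj w)) (appIso α w).hom := appIso_isHomLift α w
    haveI h2 : 𝒴.p.IsHomLift (𝟙 (𝒲.p.obj w)) (appIso β w).hom := appIso_isHomLift β w
    haveI h3 : 𝒮.p.IsHomLift (𝟙 (𝒲.p.obj w)) (B.toFunctor.obj w).obj.iso.hom :=
      (whiskerLeftIso B (fpIso F G)).hom.isHomLift' w
    haveI h4 : 𝒮.p.IsHomLift (𝟙 (𝒲.p.obj w)) (A.toFunctor.obj w).obj.iso.hom :=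
      (whiskerLeftIso A (fpIso F G)).hom.isHomLift' w
    haveI h5 : 𝒮.p.IsHomLift (𝟙 (𝒲.p.obj w)) (F.toFunctor.map (appIso α w).hom) := inferInstance
    haveI h6 : 𝒮.p.IsHomLift (𝟙 (𝒲.p.obj w)) (G.toFunctor.map (appIso β w).hom) := inferInstance
    haveI h7 : 𝒮.p.IsHomLift (𝟙 (𝒲.p.obj w))
        (F.toFunctor.map (appIso α w).hom ≫ (B.toFunctor.obj w).obj.iso.hom) := by
      have := IsHomLift.comp (p := 𝒮.p) (𝟙 (𝒲.p.obj w)) (𝟙 (𝒲.p.obj w))
        (F.toFunctor.map (appIso α w).hom) (B.toFunctor.obj w).obj.iso.hom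
      simpa using this
    haveI h8 : 𝒮.p.IsHomLift (𝟙 (𝒲.p.obj w))
        ((A.toFunctor.obj w).obj.iso.hom ≫ G.toFunctor.map (appIso β w).hom) := by
      have := IsHomLift.comp (p := 𝒮.p) (𝟙 (𝒲.p.obj w)) (𝟙 (𝒲.p.obj w))
        (A.toFunctor.obj w).obj.iso.hom (G.toFunctor.map (appIso β w).hom)
      simpa using this
    exact Groth.Agent.Lib.helper4.AlgStFaithful.vertical_eq_of_thin hthin (V := 𝒲.p.obj w) _ _)

end Thin

section PshDiag

variable {F G X : Cᵒᵖ ⥤ Type w} {a : F ⟶ G} {fst snd : X ⟶ F}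

/-- the functor of the diagonal of a map of presheaves is the diagonal of its functor -/
def diagPshIso (hw : fst ≫ a = snd ≫ a) (δ : F ⟶ X) (h1 : δ ≫ fst = 𝟙 F) (h2 : δ ≫ snd = 𝟙 F) :
    BasedFunctor.comp (ofPshMap δ) (fpPshLift hw) ≅ FibCat.diag (ofPshMap a) :=
  fpFunctorIsoOfThin (ofPshMap a) (ofPshMap a) _ _
    (isoOfPshMapEq _ _ (by
      change pshMapOf (BasedFunctor.comp (ofPshMap δ) (ofPshMap fst)) = pshMapOf (BasedFunctor.id _)
      rw [pshMapOf_comp, pshMapOf_ofPshMap, pshMapOf_ofPshMap, pshMapOf_id, h1]))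
    (isoOfPshMapEq _ _ (by
      change pshMapOf (BasedFunctor.comp (ofPshMap δ) (ofPshMap snd)) = pshMapOf (BasedFunctor.id _)
      rw [pshMapOf_comp, pshMapOf_ofPshMap, pshMapOf_ofPshMap, pshMapOf_id, h2]))
    (Groth.Agent.Lib.helper4.AlgStFaithful.thin_ofPsh G)

end PshDiag

end General

section AlgSt
open Groth.Agent.Lib.helper4.AlgStDescent Groth.Agent.Lib.helper4.AlgStDiagBC Groth.Agent.Lib.helper5

variable {S : Scheme.{u}}

/-- the diagonals of two functors related by equivalences have the same properties -/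
theorem repByAlgSpWith_diag_iff_of_square {𝒳 𝒴 𝒳' 𝒴' : AlgSt.Cat S} (P : MorphismProperty (AlgSp.Sp S))
    (f : 𝒳 ⥤ᵇ 𝒴) (f' : 𝒳' ⥤ᵇ 𝒴') (a : 𝒳' ⥤ᵇ 𝒳) (b : 𝒴' ⥤ᵇ 𝒴) (ha : IsEquivOver a) (hb : IsEquivOver b)
    (e : BasedFunctor.comp f' b ≅ BasedFunctor.comp a f) :
    AlgSt.RepByAlgSpWith P (FibCat.diag f) ↔ AlgSt.RepByAlgSpWith P (FibCat.diag f') :=
  repByAlgSpWith_iff_of_square P (FibCat.diag f) (FibCat.diag f') a (diagSqMap f' f a b e) ha
    (diagSqMap_isEquivOver f' f a b e ha hb) (diagSqIso f' f a b e)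

/-- representing data for a point factoring through a base change -/
theorem repData_of_factor {𝒳 𝒴 𝒵 : AlgSt.Cat S} (P : MorphismProperty (AlgSp.Sp S)) (h : 𝒳 ⥤ᵇ 𝒴)
    (Ψ : 𝒵 ⥤ᵇ 𝒴) (hΨ : AlgSt.RepByAlgSpWith P (fpFst Ψ h)) {T : Over S} (t : overCat T ⥤ᵇ 𝒴)
    (σ : overCat T ⥤ᵇ 𝒵) (i : BasedFunctor.comp σ Ψ ≅ t) :
    ∃ (F : AlgSp.Space S) (e : AlgSt.ofSp F.obj ⥤ᵇ fp t h), IsEquivOver e ∧
      P (AlgSt.spMapOfOver (BasedFunctor.comp e (fpFst t h))) := by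
  have h1 := hΨ T σ
  have h2 := (repData_transfer P (pasteL σ Ψ h) (pasteL_isEquivOver σ Ψ h) (fpFst σ (fpFst Ψ h))
    (fpFst (BasedFunctor.comp σ Ψ) h) (Iso.refl _)).1 h1
  exact (repData_transfer P
    (fpMap (BasedFunctor.comp σ Ψ) t h h (BasedFunctor.id _) (BasedFunctor.id _) i (Iso.refl _))
    (fpMap_isEquivOver _ _ _ _ _ _ _ _ (isEquivOver_id' _) (isEquivOver_id' _))
    (fpFst (BasedFunctor.comp σ Ψ) h) (fpFst t h) (Iso.refl _)).1 h2

/-- the diagonal of the functor of a morphism of algebraic spaces -/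
theorem repByAlgSpWith_diag_ofSpMap (Q : MorphismProperty (AlgSp.Sp S))
    (hPb : ∀ ⦃X₁ Y₁ X₂ Y₂ : AlgSp.Sp S⦄, AlgSp.IsAlgSpace X₁ → AlgSp.IsAlgSpace Y₁ → AlgSp.IsAlgSpace X₂ →
      AlgSp.IsAlgSpace Y₂ → ∀ (a : X₁ ⟶ Y₁) (b : Y₂ ⟶ Y₁) (a' : X₂ ⟶ Y₂) (b' : X₂ ⟶ X₁),
      IsPullback b' a' a b → Q a → Q a')
    {F G : AlgSp.Sp S} (hF : AlgSp.IsAlgSpace F) (hG : AlgSp.IsAlgSpace G) (π : F ⟶ G)
    (hΔ : Q (pullback.diagonal π)) :
    AlgSt.RepByAlgSpWith Q (FibCat.diag (AlgSt.ofSpMap π)) := by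
  have sq : IsPullback (pullback.fst π π) (pullback.snd π π) π π := IsPullback.of_hasPullback π π
  have hX : AlgSp.IsAlgSpace (pullback π π) := isAlgSpace_of_isPullback hG.diag hF hF sq
  have h1 : AlgSt.RepByAlgSpWith Q (AlgSt.ofSpMap (pullback.diagonal π)) :=
    repByAlgSpWith_of_repBySpWith Q _ (repBySpWith_of_stable Q hPb hF hX _ hΔ)
  have sqP : IsPullback (pullback.fst π π).hom (pullback.snd π π).hom π.hom π.hom :=
    sq.map (sheafToPresheaf (AlgSp.J S) (Type (u + 1)))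
  have e1 : (pullback.diagonal π).hom ≫ (pullback.fst π π).hom = 𝟙 F.obj :=
    congrArg (fun k => k.hom) (pullback.diagonal_fst π)
  have e2 : (pullback.diagonal π).hom ≫ (pullback.snd π π).hom = 𝟙 F.obj :=
    congrArg (fun k => k.hom) (pullback.diagonal_snd π)
  exact (repByAlgSpWith_iff_of_square Q (FibCat.diag (AlgSt.ofSpMap π))
    (AlgSt.ofSpMap (pullback.diagonal π)) (BasedFunctor.id _) (fpPshLift sqP.w) (isEquivOver_id' _)
    (fpPshLift_isEquivOver sqP) (diagPshIso sqP.w (pullback.diagonal π).hom e1 e2)).2 h1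

/-- **Key lemma**: if every base change of `f` to a scheme is a morphism of algebraic spaces whose diagonal has `Q`,
then the diagonal of `f` is representable by algebraic spaces with `Q` (for `Q` stable under base change). -/
theorem repByAlgSpWith_diag_of_diagonal {𝒳 𝒴 : AlgSt.Cat S} (Q : MorphismProperty (AlgSp.Sp S))
    (hPb : ∀ ⦃X₁ Y₁ X₂ Y₂ : AlgSp.Sp S⦄, AlgSp.IsAlgSpace X₁ → AlgSp.IsAlgSpace Y₁ → AlgSp.IsAlgSpace X₂ →
      AlgSp.IsAlgSpace Y₂ → ∀ (a : X₁ ⟶ Y₁) (b : Y₂ ⟶ Y₁) (a' : X₂ ⟶ Y₂) (b' : X₂ ⟶ X₁),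
      IsPullback b' a' a b → Q a → Q a')
    (f : 𝒳 ⥤ᵇ 𝒴) (hf : AlgSt.RepByAlgSpWith Q.diagonal f) :
    AlgSt.RepByAlgSpWith Q (FibCat.diag f) := by
  intro T t
  obtain ⟨F, e, he, hΔ⟩ := hf T (liftBase f t)
  have hA : AlgSt.RepByAlgSpWith Q (FibCat.diag (AlgSt.ofSpMap
      (AlgSt.spMapOfOver (BasedFunctor.comp e (fpFst (liftBase f t) f))))) :=
    repByAlgSpWith_diag_ofSpMap Q hPb F.property (AlgSp.IsAlgSpace.yon_obj T) _ hΔ
  have iB : BasedFunctor.comp (BasedFunctor.comp e (fpFst (liftBase f t) f)) (toYon.{u + 1} T) ≅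
      BasedFunctor.comp (BasedFunctor.id _) (AlgSt.ofSpMap
        (AlgSt.spMapOfOver (BasedFunctor.comp e (fpFst (liftBase f t) f)))) :=
    (isoOfPshMap _).trans (eqToIso (by
      change ofPshMap (pshMapOf _) =
        ofPshMap (AlgSt.spMapOfOver (BasedFunctor.comp e (fpFst (liftBase f t) f))).hom
      rw [spMapOfOver_hom]))
  have hB : AlgSt.RepByAlgSpWith Q (FibCat.diag (BasedFunctor.comp e (fpFst (liftBase f t) f))) :=
    (repByAlgSpWith_diag_iff_of_square Q _ _ (BasedFunctor.id _) (toYon.{u + 1} T) (isEquivOver_id' _)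
      (toYon_isEquivOver T) iB).1 hA
  have hC : AlgSt.RepByAlgSpWith Q (FibCat.diag (fpFst (liftBase f t) f)) :=
    (repByAlgSpWith_diag_iff_of_square Q (fpFst (liftBase f t) f)
      (BasedFunctor.comp e (fpFst (liftBase f t) f)) e (BasedFunctor.id _) he (isEquivOver_id' _)
      (Iso.refl _)).2 hB
  have hD : AlgSt.RepByAlgSpWith Q (fpFst (Ψ (liftBase f t) f) (FibCat.diag f)) :=
    (repByAlgSpWith_iff_of_square Q (fpFst (Ψ (liftBase f t) f) (FibCat.diag f))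
      (FibCat.diag (fpFst (liftBase f t) f)) (cmp (liftBase f t) f) (BasedFunctor.id _)
      (cmp_isEquivOver (liftBase f t) f) (isEquivOver_id _) (Iso.refl _)).2 hC
  exact repData_of_factor Q (FibCat.diag f) (Ψ (liftBase f t) f) hD t (liftσ f t) (liftIso f t)

end AlgSt

end Groth.Agent.Lib.helper4.AlgStDiagK
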