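import Groth.Agent.Lib.Helper4.AlgStEtLocal
import Groth.Agent.Lib.Helper4.AlgStDiagK
import Groth.Agent.Lib.Helper4.AlgStDiagBC
set_option autoImplicit false
set_option backward.isDefEq.respectTransparency false
set_option backward.isDefEq.respectTransparency.types false
set_option linter.unusedSectionVars false
set_option linter.style.haveILetI false
set_option linter.unusedVariables false
open CategoryTheory CategoryTheory.Functor CategoryTheory.Limits Opposite AlgebraicGeometry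
universe v₇ u₇ v₆ u₆ v₅ u₅ v₄ u₄ v₃ u₃ v₂ u₂ v u

/-! The diagonal of the functor `f ×_𝒵 g : 𝒳 ×_𝒵 𝒴 ⟶ 𝒳' ×_𝒵 𝒴'` induced on 2-fibre products. -/

namespace Groth.Agent.Lib.helper4.AlgStDiagFpMap
open Groth.Agent.FibEquiv FibCat Groth.Agent.Lib.helper4.FibPaste Groth.Agent.Lib.helper4.DiagBC
open Groth.Agent.Lib.helper4.FibSwap

section General
variable {C : Type u} [Category.{v} C]

section Snd
variable {𝒲 : BasedCategory.{v₂, u₂} C} {𝒴 : BasedCategory.{v₃, u₃} C} {𝒴' : BasedCategory.{v₄, u₄} C}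
  {𝒵 : BasedCategory.{v₅, u₅} C} (A : 𝒲 ⥤ᵇ 𝒵) (g : 𝒴 ⥤ᵇ 𝒴') (q' : 𝒴' ⥤ᵇ 𝒵)

/-- the functor `𝒲 ×_𝒵 𝒴 ⟶ 𝒲 ×_𝒵 𝒴'` induced by `g` on the second factor -/
def sndMap : fp A (BasedFunctor.comp g q') ⥤ᵇ fp A q' :=
  fpLift (F := A) (G := q') (fpFst A (BasedFunctor.comp g q'))
    (BasedFunctor.comp (fpSnd A (BasedFunctor.comp g q')) g) (fpIso A (BasedFunctor.comp g q'))

theorem sndMap_obj_iso_hom (t : (fp A (BasedFunctor.comp g q')).obj) :
    ((sndMap A g q').toFunctor.obj t).obj.iso.hom = t.obj.iso.hom := rfl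

/-- `sndMap` is the base change of `g`, up to the equivalence `pasteR` -/
def sndSq : BasedFunctor.comp (fpFst (fpSnd A q') g) (BasedFunctor.id (fp A q')) ≅
    BasedFunctor.comp (pasteR A q' g) (sndMap A g q') :=
  BasedNatIso.mkNatIso
    (NatIso.ofComponents
      (fun t => fpIsoMk A q' (Iso.refl _) t.obj.iso (by
        change A.toFunctor.map (𝟙 _) ≫ (t.obj.fst.obj.iso.hom ≫ q'.toFunctor.map t.obj.iso.hom) =
          t.obj.fst.obj.iso.hom ≫ q'.toFunctor.map t.obj.iso.hom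
        simp))
      (fun {t t'} m => by
        apply fp_hom_ext
        · change m.hom.fst.hom.fst ≫ 𝟙 _ = 𝟙 _ ≫ m.hom.fst.hom.fst
          simp
        · change m.hom.fst.hom.snd ≫ t'.obj.iso.hom = t.obj.iso.hom ≫ g.toFunctor.map m.hom.snd
          exact m.hom.w))
    (fun t => by
      apply Groth.Agent.FibFp.lift_to
      change 𝒲.p.IsHomLift (𝟙 (𝒲.p.obj t.obj.fst.obj.fst)) (𝟙 t.obj.fst.obj.fst)
      infer_instance)

end Snd

section Fst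
variable {𝒲 : BasedCategory.{v₂, u₂} C} {𝒳 : BasedCategory.{v₃, u₃} C} {𝒳' : BasedCategory.{v₄, u₄} C}
  {𝒵 : BasedCategory.{v₅, u₅} C} (f : 𝒳 ⥤ᵇ 𝒳') (p' : 𝒳' ⥤ᵇ 𝒵) (B : 𝒲 ⥤ᵇ 𝒵)

/-- the functor `𝒳 ×_𝒵 𝒲 ⟶ 𝒳' ×_𝒵 𝒲` induced by `f` on the first factor -/
def fstMap : fp (BasedFunctor.comp f p') B ⥤ᵇ fp p' B :=
  fpLift (F := p') (G := B) (BasedFunctor.comp (fpFst (BasedFunctor.comp f p') B) f)
    (fpSnd (BasedFunctor.comp f p') B) (fpIso (BasedFunctor.comp f p') B)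

theorem fstMap_obj_iso_hom (t : (fp (BasedFunctor.comp f p') B).obj) :
    ((fstMap f p' B).toFunctor.obj t).obj.iso.hom = t.obj.iso.hom := rfl

/-- `fstMap` is `sndMap` conjugated by the swaps -/
def fstSq : BasedFunctor.comp (sndMap B f p') (fpSwap B p') ≅
    BasedFunctor.comp (fpSwap B (BasedFunctor.comp f p')) (fstMap f p' B) :=
  BasedNatIso.mkNatIso
    (NatIso.ofComponents
      (fun t => fpIsoMk p' B (Iso.refl _) (Iso.refl _) (by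
        change p'.toFunctor.map (𝟙 _) ≫ t.obj.iso.inv = t.obj.iso.inv ≫ B.toFunctor.map (𝟙 _)
        simp))
      (fun {t t'} m => by
        apply fp_hom_ext
        · change f.toFunctor.map m.hom.snd ≫ 𝟙 _ = 𝟙 _ ≫ f.toFunctor.map m.hom.snd
          simp
        · change m.hom.fst ≫ 𝟙 _ = 𝟙 _ ≫ m.hom.fst
          simp))
    (fun t => by
      apply Groth.Agent.FibFp.lift_to
      change 𝒳'.p.IsHomLift (𝟙 (𝒲.p.obj t.obj.fst)) (𝟙 (f.toFunctor.obj t.obj.snd))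
      have h : 𝒳'.p.obj (f.toFunctor.obj t.obj.snd) = 𝒲.p.obj t.obj.fst :=
        (f.w_obj t.obj.snd).trans (fp_snd_obj B (BasedFunctor.comp f p') t)
      rw [← h]
      infer_instance)

end Fst

section Both
variable {𝒳 : BasedCategory.{v₂, u₂} C} {𝒳' : BasedCategory.{v₃, u₃} C} {𝒴 : BasedCategory.{v₄, u₄} C}
  {𝒴' : BasedCategory.{v₅, u₅} C} {𝒵 : BasedCategory.{v₆, u₆} C}
  (p' : 𝒳' ⥤ᵇ 𝒵) (q' : 𝒴' ⥤ᵇ 𝒵) (f : 𝒳 ⥤ᵇ 𝒳') (g : 𝒴 ⥤ᵇ 𝒴')
  (e : BasedFunctor.comp (BasedFunctor.comp (fpFst (BasedFunctor.comp f p') (BasedFunctor.comp g q')) f) p' ≅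
    BasedFunctor.comp (BasedFunctor.comp (fpSnd (BasedFunctor.comp f p') (BasedFunctor.comp g q')) g) q')
  (he : ∀ x, e.hom.toNatTrans.app x = x.obj.iso.hom)

/-- `f ×_𝒵 g` is the composition of the two one-factor maps -/
def bothIso : BasedFunctor.comp (BasedFunctor.comp (fstMap f p' (BasedFunctor.comp g q')) (sndMap p' g q'))
      (BasedFunctor.id (fp p' q')) ≅
    BasedFunctor.comp (BasedFunctor.id _)
      (fpLift (F := p') (G := q')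
        (BasedFunctor.comp (fpFst (BasedFunctor.comp f p') (BasedFunctor.comp g q')) f)
        (BasedFunctor.comp (fpSnd (BasedFunctor.comp f p') (BasedFunctor.comp g q')) g) e) :=
  BasedNatIso.mkNatIso
    (NatIso.ofComponents
      (fun t => fpIsoMk p' q' (Iso.refl _) (Iso.refl _) (by
        change p'.toFunctor.map (𝟙 _) ≫ e.hom.toNatTrans.app t = t.obj.iso.hom ≫ q'.toFunctor.map (𝟙 _)
        rw [he, CategoryTheory.Functor.map_id, CategoryTheory.Functor.map_id]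
        exact (Category.id_comp _).trans (Category.comp_id _).symm))
      (fun {t t'} m => by
        apply fp_hom_ext
        · change f.toFunctor.map m.hom.fst ≫ 𝟙 _ = 𝟙 _ ≫ f.toFunctor.map m.hom.fst
          simp
        · change g.toFunctor.map m.hom.snd ≫ 𝟙 _ = 𝟙 _ ≫ g.toFunctor.map m.hom.snd
          simp))
    (fun t => by
      apply Groth.Agent.FibFp.lift_to
      change 𝒳'.p.IsHomLift (𝟙 (𝒳.p.obj t.obj.fst)) (𝟙 (f.toFunctor.obj t.obj.fst))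
      rw [← f.w_obj t.obj.fst]
      infer_instance)

end Both

end General

section AlgSt
open Groth.Agent.Lib.helper4.AlgStEquiv Groth.Agent.Lib.helper4.AlgStDiagK
open Groth.Agent.Lib.helper4.AlgStDiagBC Groth.Agent.Lib.helper4.AlgStEtLocal Groth.Agent.FibFpProj
variable {S : Scheme.{u}}

/-- the diagonal of `sndMap` -/
theorem repByAlgSpWith_diag_sndMap {𝒲 𝒴 𝒴' 𝒵 : AlgSt.Cat S} (P : MorphismProperty (AlgSp.Sp S))
    (A : 𝒲 ⥤ᵇ 𝒵) (g : 𝒴 ⥤ᵇ 𝒴') (q' : 𝒴' ⥤ᵇ 𝒵) (hg : AlgSt.RepByAlgSpWith P (FibCat.diag g)) :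
    AlgSt.RepByAlgSpWith P (FibCat.diag (sndMap A g q')) :=
  (repByAlgSpWith_diag_iff_of_square P (sndMap A g q') (fpFst (fpSnd A q') g) (pasteR A q' g)
    (BasedFunctor.id _) (pasteR_isEquivOver A q' g) (isEquivOver_id' _) (sndSq A g q')).2
    (repByAlgSpWith_diag_fpFst P g (fpSnd A q') hg)

/-- the diagonal of `fstMap` -/
theorem repByAlgSpWith_diag_fstMap {𝒲 𝒳 𝒳' 𝒵 : AlgSt.Cat S} (P : MorphismProperty (AlgSp.Sp S))
    (f : 𝒳 ⥤ᵇ 𝒳') (p' : 𝒳' ⥤ᵇ 𝒵) (B : 𝒲 ⥤ᵇ 𝒵) (hf : AlgSt.RepByAlgSpWith P (FibCat.diag f)) :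
    AlgSt.RepByAlgSpWith P (FibCat.diag (fstMap f p' B)) :=
  (repByAlgSpWith_diag_iff_of_square P (fstMap f p' B) (sndMap B f p') (fpSwap B (BasedFunctor.comp f p'))
    (fpSwap B p') (fpSwap_isEquivOver _ _) (fpSwap_isEquivOver _ _) (fstSq f p' B)).2
    (repByAlgSpWith_diag_sndMap P B f p' hf)

/-- the diagonal of `f ×_𝒵 g`, for `P` stable under base change and composition and `τ`-local on the base -/
theorem repByAlgSpWith_diag_fpMap {τ : AlgSp.CovNotion S} (hτ : AtlasCover τ)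
    {𝒳 𝒳' 𝒴 𝒴' 𝒵 : AlgSt.Cat S}
    (h𝒳 : IsFibGrpd 𝒳.p) (h𝒳' : IsFibGrpd 𝒳'.p) (h𝒴 : IsFibGrpd 𝒴.p) (h𝒴' : IsFibGrpd 𝒴'.p)
    (h𝒵 : IsFibGrpd 𝒵.p)
    (P : MorphismProperty (AlgSp.Sp S))
    (hPb : ∀ ⦃X₁ Y₁ X₂ Y₂ : AlgSp.Sp S⦄, AlgSp.IsAlgSpace X₁ → AlgSp.IsAlgSpace Y₁ → AlgSp.IsAlgSpace X₂ →
      AlgSp.IsAlgSpace Y₂ → ∀ (a : X₁ ⟶ Y₁) (b : Y₂ ⟶ Y₁) (a' : X₂ ⟶ Y₂) (b' : X₂ ⟶ X₁),
      IsPullback b' a' a b → P a → P a')
    (hPc : ∀ ⦃X Y Z : AlgSp.Sp S⦄, AlgSp.IsAlgSpace X → AlgSp.IsAlgSpace Y → AlgSp.IsAlgSpace Z →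
      ∀ (a : X ⟶ Y) (b : Y ⟶ Z), P a → P b → P (a ≫ b))
    (hP : AlgSp.IsLocalOnBase τ P)
    (p' : 𝒳' ⥤ᵇ 𝒵) (q' : 𝒴' ⥤ᵇ 𝒵) (f : 𝒳 ⥤ᵇ 𝒳') (g : 𝒴 ⥤ᵇ 𝒴')
    (e : BasedFunctor.comp (BasedFunctor.comp (fpFst (BasedFunctor.comp f p') (BasedFunctor.comp g q')) f) p' ≅
      BasedFunctor.comp (BasedFunctor.comp (fpSnd (BasedFunctor.comp f p') (BasedFunctor.comp g q')) g) q')
    (he : ∀ x, e.hom.toNatTrans.app x = x.obj.iso.hom)
    (hf : AlgSt.RepByAlgSpWith P (FibCat.diag f)) (hg : AlgSt.RepByAlgSpWith P (FibCat.diag g)) :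
    AlgSt.RepByAlgSpWith P (FibCat.diag
      (fpLift (F := p') (G := q')
        (BasedFunctor.comp (fpFst (BasedFunctor.comp f p') (BasedFunctor.comp g q')) f)
        (BasedFunctor.comp (fpSnd (BasedFunctor.comp f p') (BasedFunctor.comp g q')) g) e)) := by
  have h1 := repByAlgSpWith_diag_fstMap P f p' (BasedFunctor.comp g q') hf
  have h2 := repByAlgSpWith_diag_sndMap P p' g q' hg
  have hA : IsFibGrpd (fp (BasedFunctor.comp f p') (BasedFunctor.comp g q')).p := isFibGrpd_fp _ _ h𝒳 h𝒴 h𝒵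
  have hB : IsFibGrpd (fp p' (BasedFunctor.comp g q')).p := isFibGrpd_fp _ _ h𝒳' h𝒴 h𝒵
  have hC : IsFibGrpd (fp p' q').p := isFibGrpd_fp _ _ h𝒳' h𝒴' h𝒵
  have h3 := Groth.Agent.Lib.helper4.AlgStEtLocal.repByAlgSpWith_diag_comp hτ hA hB hC P hPb hPc hP _ _ h1 h2
  exact (repByAlgSpWith_diag_iff_of_square P _ _ (BasedFunctor.id _) (BasedFunctor.id _)
    (isEquivOver_id' _) (isEquivOver_id' _) (bothIso p' q' f g e he)).2 h3

end AlgSt

end Groth.Agent.Lib.helper4.AlgStDiagFpMap
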