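import Groth.Agent.Lib.Helper4.AlgStDiagK
import Groth.Agent.Lib.Helper4.AlgStDiagComp2
import Groth.Agent.Lib.Helper1.SevenProps
import Groth.Agent.Lib.Helper15.AlgSpDiag
set_option autoImplicit false
set_option backward.isDefEq.respectTransparency false
set_option backward.isDefEq.respectTransparency.types false
set_option linter.unusedSectionVars false
set_option linter.style.haveILetI false
set_option linter.unusedVariables false
open CategoryTheory CategoryTheory.Functor CategoryTheory.Limits Opposite AlgebraicGeometry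
universe u

/-! Diagonals of morphisms representable by algebraic spaces: applications of the key lemma. -/

namespace Groth.Agent.Lib.helper4.AlgStDiagK
open Groth.Agent.FibEquiv FibCat Groth.Agent.Lib.helper4.FibPaste Groth.Agent.Lib.helper4.AlgStEquiv
open Groth.Agent.Lib.helper5.LocPBC

variable {S : Scheme.{u}}

/-- a monomorphism of schemes is formally unramified -/
theorem formallyUnramified_of_mono {X Y : Scheme.{u}} (f : X ⟶ Y) [Mono f] : FormallyUnramified f :=
  inferInstance

/-- the diagonal of a morphism from an algebraic space is unramified -/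
theorem locP_unramified_diagonal {F G : AlgSp.Sp S} (hF : AlgSp.IsAlgSpace F) (hG : AlgSp.IsAlgSpace G)
    (π : F ⟶ G) : AlgSp.LocP (@LocallyOfFiniteType ⊓ @FormallyUnramified) (pullback.diagonal π) := by
  obtain ⟨h0, h1, h2, -, -⟩ := Groth.Agent.Lib.helper15.AlgSpDiag.repWith_diagonal_properties hF π
  have sq : IsPullback (pullback.fst π π) (pullback.snd π π) π π := IsPullback.of_hasPullback π π
  have hX : AlgSp.IsAlgSpace (pullback π π) :=
    Groth.Agent.Lib.helper5.isAlgSpace_of_isPullback hG.diag hF hF sq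
  have h3 : AlgSp.RepWith @FormallyUnramified (pullback.diagonal π) :=
    Groth.Agent.Lib.helper15.AlgSpDiag.repWith_mono_iff_le
      (fun X Y f (hf : Mono f) => formallyUnramified_of_mono f) h2
  exact (Groth.Agent.H1.Seven.locP_iff_repWith locPData_unramified hF hX _ h0).2
    (Groth.Agent.Lib.helper15.AlgSpDiag.repWith_inf h1 h3)

/-- S12947: a morphism representable by algebraic spaces is DM -/
theorem isDMMor_of_repByAlgSp1 {𝒳 𝒴 : AlgSt.Cat S} (f : 𝒳 ⥤ᵇ 𝒴) (hf : AlgSt.RepByAlgSp1 f) :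
    AlgSt.IsDMMor f := by
  apply repByAlgSpWith_diag_of_diagonal _
    (fun X₁ Y₁ X₂ Y₂ h1 h2 _ h4 a b a' b' sq ha => locP_of_isPullback locPData_unramified h1 h2 h4 sq ha)
  intro T y
  obtain ⟨F, e, he⟩ := hf T y
  exact ⟨F, e, he, locP_unramified_diagonal F.property (AlgSp.IsAlgSpace.yon_obj T) _⟩

/-- the diagonal of a morphism from an algebraic space is locally quasi-finite -/
theorem locP_lqf_diagonal {F G : AlgSp.Sp S} (hF : AlgSp.IsAlgSpace F) (hG : AlgSp.IsAlgSpace G)
    (π : F ⟶ G) : AlgSp.LocP (@LocallyQuasiFinite ⊓ @LocallyOfFiniteType) (pullback.diagonal π) := by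
  obtain ⟨h0, -, -, -, h4⟩ := Groth.Agent.Lib.helper15.AlgSpDiag.repWith_diagonal_properties hF π
  have sq : IsPullback (pullback.fst π π) (pullback.snd π π) π π := IsPullback.of_hasPullback π π
  have hX : AlgSp.IsAlgSpace (pullback π π) :=
    Groth.Agent.Lib.helper5.isAlgSpace_of_isPullback hG.diag hF hF sq
  exact (Groth.Agent.H1.Seven.locP_iff_repWith locPData_lqf hF hX _ h0).2 h4

/-- a morphism representable by algebraic spaces is quasi-DM -/
theorem isQuasiDMMor_of_repByAlgSp1 {𝒳 𝒴 : AlgSt.Cat S} (f : 𝒳 ⥤ᵇ 𝒴) (hf : AlgSt.RepByAlgSp1 f) :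
    AlgSt.IsQuasiDMMor f := by
  apply repByAlgSpWith_diag_of_diagonal _
    (fun X₁ Y₁ X₂ Y₂ h1 h2 _ h4 a b a' b' sq ha => locP_of_isPullback locPData_lqf h1 h2 h4 sq ha)
  intro T y
  obtain ⟨F, e, he⟩ := hf T y
  exact ⟨F, e, he, locP_lqf_diagonal F.property (AlgSp.IsAlgSpace.yon_obj T) _⟩

/-- S12941: the diagonal of a morphism representable by algebraic spaces is a monomorphism -/
theorem isMono_diag_of_repByAlgSp1 {𝒳 𝒴 : AlgSt.Cat S} (f : 𝒳 ⥤ᵇ 𝒴) (hf : AlgSt.RepByAlgSp1 f) :
    AlgSt.IsMono (FibCat.diag f) := by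
  apply repByAlgSpWith_diag_of_diagonal (MorphismProperty.monomorphisms (AlgSp.Sp S))
    (fun X₁ Y₁ X₂ Y₂ h1 h2 _ h4 a b a' b' sq ha =>
      (MorphismProperty.monomorphisms (AlgSp.Sp S)).of_isPullback sq ha)
  intro T y
  obtain ⟨F, e, he⟩ := hf T y
  refine ⟨F, e, he, ?_⟩
  change Mono (pullback.diagonal _)
  infer_instance

theorem isSeparatedMor_eq :
    (AlgSp.IsSeparatedMor (S := S)) = (AlgSp.RepWith (S := S) @IsClosedImmersion).diagonal := rfl

theorem isSeparatedMor_of_isPullback {F G F' G' : AlgSp.Sp S} {a : F' ⟶ F} {s : F' ⟶ G'} {t : F ⟶ G}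
    {b : G' ⟶ G} (sq : IsPullback a s t b) (ht : AlgSp.IsSeparatedMor t) :
    AlgSp.IsSeparatedMor s := by
  have : (AlgSp.RepWith (S := S) @IsClosedImmersion).IsStableUnderBaseChange :=
    MorphismProperty.relative_isStableUnderBaseChange _
  rw [isSeparatedMor_eq] at ht ⊢
  exact MorphismProperty.of_isPullback sq ht

/-- a monomorphism of sheaves is separated -/
theorem isSeparatedMor_of_mono {F G : AlgSp.Sp S} (m : F ⟶ G) [Mono m] : AlgSp.IsSeparatedMor m := by
  change AlgSp.RepWith @IsClosedImmersion (pullback.diagonal m)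
  exact MorphismProperty.of_isIso _ _

/-- S12942: the diagonal of a morphism representable by algebraic spaces is separated -/
theorem isSeparated_diag_of_repByAlgSp1 {𝒳 𝒴 : AlgSt.Cat S} (f : 𝒳 ⥤ᵇ 𝒴) (hf : AlgSt.RepByAlgSp1 f) :
    AlgSt.RepByAlgSpWith AlgSp.IsSeparatedMor (FibCat.diag f) := by
  apply repByAlgSpWith_diag_of_diagonal AlgSp.IsSeparatedMor
    (fun X₁ Y₁ X₂ Y₂ h1 h2 _ h4 a b a' b' sq ha => isSeparatedMor_of_isPullback sq ha)
  intro T y
  obtain ⟨F, e, he⟩ := hf T y
  exact ⟨F, e, he, isSeparatedMor_of_mono _⟩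

end Groth.Agent.Lib.helper4.AlgStDiagK
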