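import Groth.Agent.Lib.Helper4.AlgStClosedSub
import Groth.Agent.Lib.Helper4.AlgStDiagLFT
set_option autoImplicit false
set_option backward.isDefEq.respectTransparency false
set_option backward.isDefEq.respectTransparency.types false
set_option linter.unusedSectionVars false
set_option linter.style.haveILetI false
set_option linter.unusedVariables false
open CategoryTheory CategoryTheory.Functor CategoryTheory.Limits Opposite AlgebraicGeometry
universe u

/-! Surjectivity of the diagonal of a morphism of algebraic stacks and lifting of 2-arrows over algebraically closed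
fields. -/

namespace Groth.Agent.Lib.helper4.AlgStDiagSurj
open Groth.Agent.FibEquiv Groth.Agent.FibYoneda FibCat Groth.Agent.Lib.helper4.FibPaste
open Groth.Agent.Lib.helper4.AlgStEquiv Groth.Agent.Lib.helper4.AlgStRep
open Groth.Agent.Lib.helper4.AlgStSetoid Groth.Agent.FibFpProj Groth.Agent.Lib.helper4.FibRep
open Groth.Agent.Lib.helper4.AlgStFpAlg Groth.Agent.Lib.helper4.AlgStDM Groth.Agent.Lib.helper4.AlgStSelf
open Groth.Agent.Lib.helper4.AlgStPts Groth.Agent.Lib.helper4.FibSwap Groth.Agent.Lib.helper4.AlgStSmLoc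
open Groth.Agent.Lib.helper4.AlgStQC Groth.Agent.Lib.helper4.PshDict Groth.Agent.Lib.helper4.PshRep
open Groth.Agent.Lib.helper4.PshPB Groth.Agent.Lib.helper4.AlgStQCMor Groth.Agent.Lib.helper4.PointsBasic
open Groth.Agent.Lib.helper4.AlgStDescent Groth.Agent.Lib.helper4.AlgStCoreA
open Groth.Agent.Lib.helper4.AlgStSource Groth.Agent.Lib.helper4.AlgStGraph
open Groth.Agent.Lib.helper4.SmLocalST Groth.Agent.Lib.helper5.LocPBC
open Groth.Agent.Lib.helper4.AlgStLocQ Groth.Agent.Lib.helper4.StkSub Groth.Agent.Lib.helper4.AlgStOpenSub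
open Stk AlgSt

variable {S : Scheme.{u}}

/-- a nonempty scheme locally of finite type over an algebraically closed field has a rational point -/
theorem exists_section_of_lft {k : Type u} [Field k] [IsAlgClosed k] {W : Scheme.{u}}
    (g : W ⟶ Spec (CommRingCat.of k)) [LocallyOfFiniteType g] (hne : Nonempty ↥W) :
    ∃ σ : Spec (CommRingCat.of k) ⟶ W, σ ≫ g = 𝟙 _ := by
  haveI : JacobsonSpace ↥W := LocallyOfFiniteType.jacobsonSpace g
  have h1 : (closedPoints ↥W).Nonempty := by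
    by_contra h
    rw [Set.not_nonempty_iff_eq_empty] at h
    have h2 := closure_closedPoints (X := ↥W)
    rw [h, closure_empty] at h2
    obtain ⟨w⟩ := hne
    exact (h2 ▸ Set.mem_univ w : w ∈ (∅ : Set ↥W))
  obtain ⟨x, hx⟩ := h1
  exact ⟨pointOfClosedPoint g x hx, pointOfClosedPoint_comp g x hx⟩

/-- **Nullstellensatz for algebraic spaces**: a nonempty algebraic space locally of finite type over an
algebraically closed field has a rational point -/
theorem exists_section_of_locP_lft {k : Type u} [Field k] [IsAlgClosed k] (s : Spec (CommRingCat.of k) ⟶ S)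
    (T : Over S) (hT : T = Over.mk s) (F : AlgSp.Space S) (c : F.obj ⟶ (AlgSp.yon S).obj T)
    (hc : AlgSp.LocP @LocallyOfFiniteType c) (hne : Nonempty (AlgSp.Points F.obj)) :
    ∃ σ : (AlgSp.yon S).obj T ⟶ F.obj, σ ≫ c = 𝟙 _ := by
  subst hT
  obtain ⟨W, p, hp1, hp2⟩ := F.property.atlas
  obtain ⟨x⟩ := hne
  obtain ⟨w, -⟩ := Groth.Agent.Lib.helper5.surjective_map_of_repWith_surjective p hp2 x
  obtain ⟨g, hg⟩ := (AlgSp.yon S).map_surjective (p ≫ c)
  have hlft : LocallyOfFiniteType g.left :=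
    hc p (𝟙 _) g hp1 (AlgSp.repWith_id _ _) (by rw [hg, Category.comp_id])
  obtain ⟨σ₀, hσ₀⟩ := exists_section_of_lft (k := k) g.left ⟨(AlgSp.Points.schemeHomeo W).symm w⟩
  have hw : σ₀ ≫ W.hom = s := by
    have h1 : g.left ≫ s = W.hom := Over.w g
    rw [← h1, ← Category.assoc, hσ₀, Category.id_comp]
  let σ₁ : Over.mk s ⟶ W := Over.homMk σ₀ hw
  refine ⟨(AlgSp.yon S).map σ₁ ≫ p, ?_⟩
  rw [Category.assoc, ← hg, ← Functor.map_comp]
  have h2 : σ₁ ≫ g = 𝟙 (Over.mk s) := by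
    apply Over.OverMorphism.ext
    exact hσ₀
  rw [h2, CategoryTheory.Functor.map_id]

section Main
variable {𝒳 𝒴 : AlgSt.Cat S} (h𝒳 : AlgSt.IsAlgStack Scheme.fppfPrecoverage 𝒳)
  (h𝒴 : AlgSt.IsAlgStack Scheme.fppfPrecoverage 𝒴) (f : 𝒳 ⥤ᵇ 𝒴)
include h𝒳 h𝒴

/-- if the diagonal of `f` is surjective, 2-arrows between images of points over algebraically closed fields lift -/
theorem lift_of_isSurjective_diag (hΔ : AlgSt.IsSurjective (FibCat.diag f))
    (k : Type u) [Field k] [IsAlgClosed k] (s : Spec (CommRingCat.of k) ⟶ S) (a₁ a₂ : 𝒳.obj)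
    (h₁ : 𝒳.p.obj a₁ = Over.mk s) (h₂ : 𝒳.p.obj a₂ = Over.mk s) (β : f.obj a₁ ⟶ f.obj a₂)
    (hβ : 𝒴.p.IsHomLift (𝟙 (Over.mk s)) β) : ∃ α : a₁ ⟶ a₂, f.map α = β := by
  have hX := h𝒳.isStack.1
  have hY := h𝒴.isStack.1
  have hP : IsFibGrpd (fp f f).p := isFibGrpd_fp f f hX hX hY
  haveI hfib : (fp f f).p.IsFibered := Groth.Agent.FibFiberwise.isFibered_of_isFibGrpd _ hP
  haveI : IsIso β := Groth.Agent.Lib.helper4.Descent.isIso_of_lift hY (𝟙 (Over.mk s)) β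
  have hβ' : 𝒴.p.IsHomLift (𝟙 (𝒳.p.obj a₁)) β := by rw [h₁]; exact hβ
  let ξ : (fp f f).obj := ⟨⟨a₁, a₂, asIso β⟩, hβ'⟩
  let t : overCat ((fp f f).p.obj ξ) ⥤ᵇ fp f f := yBased ξ
  have hT : (fp f f).p.obj ξ = Over.mk s := h₁
  have hU : IsFibGrpd (overCat ((fp f f).p.obj ξ)).p := Groth.Agent.FibOver.isFibGrpd_overCat _
  obtain ⟨F, e, he, hlft⟩ := Groth.Agent.Lib.helper4.AlgStDiagLFT.lft_diag h𝒳 h𝒴 f _ t
  have hne : Nonempty (AlgSp.Points F.obj) := by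
    have pt : ↥((fp f f).p.obj ξ).left := by
      rw [hT]; exact (inferInstance : Nonempty ↥(Spec (CommRingCat.of k))).some
    obtain ⟨p, hp⟩ := hΔ (Points.map t (Points.ofChart (BasedFunctor.id _) pt))
    obtain ⟨w, -, -⟩ := exists_points_fp hX hP hU (FibCat.diag f) t _ p hp.symm
    obtain ⟨w₁, -⟩ := (map_bijective_of_isEquivOver e he).2 w
    exact ⟨ptsEquiv F.obj w₁⟩
  obtain ⟨σ, hσ⟩ := exists_section_of_locP_lft s _ hT F _ hlft hne
  let T' : Over S := (fp f f).p.obj ξ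
  let Φ : AlgSt.ofSp F.obj ⥤ᵇ overCat T' := BasedFunctor.comp e (fpFst t (FibCat.diag f))
  let x₀ : F.obj.obj.obj (op T') := σ.hom.app (op T') ⟨𝟙 _⟩
  have hx₀ : (AlgSt.spMapOfOver Φ).hom.app (op T') x₀ = ⟨𝟙 _⟩ :=
    congrArg (fun k => k.hom.app (op T') ⟨𝟙 _⟩) hσ
  rw [AlgSt.spMapOfOver_app] at hx₀
  have hsec : AlgSt.secHom Φ ⟨T', x₀⟩ = 𝟙 _ := congrArg ULift.down hx₀
  let η : (fp t (FibCat.diag f)).obj := e.obj ⟨T', x₀⟩
  have hw : T' = η.obj.fst.left := (Φ.w_obj ⟨T', x₀⟩).symm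
  let κ : (Over.mk (𝟙 T') : Over T') ⟶ η.obj.fst := Over.homMk (eqToHom hw) hsec
  haveI : IsIso κ := by
    have : IsIso ((Over.forget T').map κ) := by
      change IsIso (eqToHom hw); infer_instance
    exact isIso_of_reflects_iso κ (Over.forget T')
  obtain ⟨e0, -⟩ := yBased_id_iso ξ
  let m : ξ ⟶ (FibCat.diag f).toFunctor.obj η.obj.snd := e0.inv ≫ t.toFunctor.map κ ≫ η.obj.iso.hom
  haveI : IsIso m := by
    change IsIso (e0.inv ≫ t.toFunctor.map κ ≫ η.obj.iso.hom); infer_instance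
  haveI : IsIso m.hom.snd := by
    change IsIso ((fpSnd f f).toFunctor.map m); infer_instance
  have hw' : f.toFunctor.map m.hom.fst ≫ 𝟙 _ = β ≫ f.toFunctor.map m.hom.snd := m.hom.w
  refine ⟨m.hom.fst ≫ inv m.hom.snd, ?_⟩
  rw [Category.comp_id] at hw'
  change f.toFunctor.map (m.hom.fst ≫ inv m.hom.snd) = β
  rw [Functor.map_comp, hw', Category.assoc, ← Functor.map_comp, IsIso.hom_inv_id, CategoryTheory.Functor.map_id,
    Category.comp_id]

/-- if 2-arrows between images of points over algebraically closed fields lift, the diagonal is surjective -/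
theorem isSurjective_diag_of_lift
    (hL : ∀ (k : Type u) [Field k] [IsAlgClosed k] (s : Spec (CommRingCat.of k) ⟶ S) (a₁ a₂ : 𝒳.obj)
        (_ : 𝒳.p.obj a₁ = Over.mk s) (_ : 𝒳.p.obj a₂ = Over.mk s) (β : f.obj a₁ ⟶ f.obj a₂),
        𝒴.p.IsHomLift (𝟙 (Over.mk s)) β → ∃ α : a₁ ⟶ a₂, 𝒳.p.IsHomLift (𝟙 (Over.mk s)) α ∧ f.map α = β) :
    AlgSt.IsSurjective (FibCat.diag f) := by
  have hX := h𝒳.isStack.1
  have hY := h𝒴.isStack.1
  have hP : IsFibGrpd (fp f f).p := isFibGrpd_fp f f hX hX hY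
  intro z
  obtain ⟨q, rfl⟩ := Points.mk_surjective z
  let k := AlgebraicClosure q.K
  let j : Spec (CommRingCat.of k) ⟶ Spec (CommRingCat.of q.K) :=
    Spec.map (CommRingCat.ofHom (algebraMap q.K k))
  let s' : Spec (CommRingCat.of k) ⟶ S := j ≫ q.str
  let g : Over.mk s' ⟶ (fp f f).p.obj q.obj :=
    (Over.homMk j rfl : Over.mk s' ⟶ Over.mk q.str) ≫ eqToHom q.lies.symm
  obtain ⟨ξ', φ, hφ⟩ := hP.exists_lift (x := q.obj) g
  have h1 : (fp f f).p.obj ξ' = Over.mk s' := IsHomLift.domain_eq (fp f f).p g φ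
  have h₁ : 𝒳.p.obj ξ'.obj.fst = Over.mk s' := h1
  have h₂ : 𝒳.p.obj ξ'.obj.snd = Over.mk s' := (fp_snd_obj f f ξ').trans h1
  have hβ : 𝒴.p.IsHomLift (𝟙 (Over.mk s')) ξ'.obj.iso.hom := by
    rw [← h₁]; exact ξ'.property
  obtain ⟨α, -, hα⟩ := hL k s' ξ'.obj.fst ξ'.obj.snd h₁ h₂ ξ'.obj.iso.hom hβ
  let p : FPt 𝒳 := ⟨k, s', ξ'.obj.fst, h₁⟩
  refine ⟨Points.mk p, ?_⟩
  rw [Points.map_mk]
  apply Points.sound
  have hw : f.toFunctor.map (𝟙 ξ'.obj.fst) ≫ ξ'.obj.iso.hom =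
      ((FibCat.diag f).toFunctor.obj ξ'.obj.fst).obj.iso.hom ≫ f.toFunctor.map α := by
    rw [CategoryTheory.Functor.map_id, Category.id_comp]
    change _ = 𝟙 _ ≫ f.toFunctor.map α
    rw [Category.id_comp]
    exact hα.symm
  let ν : (FibCat.diag f).toFunctor.obj ξ'.obj.fst ⟶ ξ' := ObjectProperty.homMk ⟨𝟙 _, α, hw⟩
  exact ⟨p.map (FibCat.diag f), 𝟙 _, ν ≫ φ, trivial⟩

/-- S12832 -/
theorem isSurjective_diag_iff :
    AlgSt.IsSurjective (FibCat.diag f) ↔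
      ∀ (k : Type u) [Field k] [IsAlgClosed k] (s : Spec (CommRingCat.of k) ⟶ S) (a₁ a₂ : 𝒳.obj)
        (_ : 𝒳.p.obj a₁ = Over.mk s) (_ : 𝒳.p.obj a₂ = Over.mk s) (β : f.obj a₁ ⟶ f.obj a₂),
        𝒴.p.IsHomLift (𝟙 (Over.mk s)) β →
          ∃ α : a₁ ⟶ a₂, 𝒳.p.IsHomLift (𝟙 (Over.mk s)) α ∧ f.map α = β := by
  constructor
  · intro hΔ k _ _ s a₁ a₂ h₁ h₂ β hβ
    obtain ⟨α, hα⟩ := lift_of_isSurjective_diag h𝒳 h𝒴 f hΔ k s a₁ a₂ h₁ h₂ β hβ
    refine ⟨α, ?_, hα⟩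
    rw [← BasedFunctor.isHomLift_iff f]
    rw [hα]; exact hβ
  · exact isSurjective_diag_of_lift h𝒳 h𝒴 f

end Main

end Groth.Agent.Lib.helper4.AlgStDiagSurj
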