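import Mathlib
set_option autoImplicit false
open Function Set Topology

/-! Descent of topological properties of a map along a weakly cartesian square with open surjective
horizontal maps. -/

namespace Groth.Agent.Lib.helper4.TopSquare

variable {A A' B B' : Type*} [TopologicalSpace A] [TopologicalSpace A'] [TopologicalSpace B]
  [TopologicalSpace B'] {a' : A' → A} {b' : B' → B} {p' : A' → B'} {p : A → B}

/-- the data of a square `p ∘ a' = b' ∘ p'` with `a'`, `b'` continuous, open and surjective, such that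
`A' → B' ×_B A` is surjective -/
structure IsGoodSquare (a' : A' → A) (b' : B' → B) (p' : A' → B') (p : A → B) : Prop where
  comm : ∀ x, p (a' x) = b' (p' x)
  cont_top : Continuous a'
  surj_top : Surjective a'
  open_top : IsOpenMap a'
  cont_bot : Continuous b'
  surj_bot : Surjective b'
  open_bot : IsOpenMap b'
  weak : ∀ (y : B') (a : A), b' y = p a → ∃ x, a' x = a ∧ p' x = y

namespace IsGoodSquare

variable (sq : IsGoodSquare a' b' p' p)
include sq

theorem image_eq (O : Set A) : p '' O = b' '' (p' '' (a' ⁻¹' O)) := by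
  ext z
  constructor
  · rintro ⟨a, ha, rfl⟩
    obtain ⟨x, rfl⟩ := sq.surj_top a
    exact ⟨p' x, ⟨x, ha, rfl⟩, (sq.comm x).symm⟩
  · rintro ⟨y, ⟨x, hx, rfl⟩, rfl⟩
    exact ⟨a' x, hx, sq.comm x⟩

theorem preimage_image_eq (C : Set A) : b' ⁻¹' (p '' C) = p' '' (a' ⁻¹' C) := by
  ext y
  constructor
  · rintro ⟨c, hc, hy⟩
    obtain ⟨x, hx1, hx2⟩ := sq.weak y c hy.symm
    exact ⟨x, by rw [mem_preimage, hx1]; exact hc, hx2⟩
  · rintro ⟨x, hx, rfl⟩
    exact ⟨a' x, hx, sq.comm x⟩

theorem isQuotientMap_bot : IsQuotientMap b' :=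
  sq.open_bot.isQuotientMap sq.cont_bot sq.surj_bot

theorem isQuotientMap_top : IsQuotientMap a' :=
  sq.open_top.isQuotientMap sq.cont_top sq.surj_top

theorem isOpenMap (h : IsOpenMap p') : IsOpenMap p := by
  intro O hO
  rw [sq.image_eq]
  exact sq.open_bot _ (h _ (hO.preimage sq.cont_top))

theorem isClosedMap (h : IsClosedMap p') : IsClosedMap p := by
  intro C hC
  rw [← sq.isQuotientMap_bot.isClosed_preimage, sq.preimage_image_eq]
  exact h _ (hC.preimage sq.cont_top)

theorem injective (h : Injective p') : Injective p := by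
  intro a₁ a₂ h12
  obtain ⟨y, hy⟩ := sq.surj_bot (p a₁)
  obtain ⟨x₁, hx₁, hy₁⟩ := sq.weak y a₁ hy
  obtain ⟨x₂, hx₂, hy₂⟩ := sq.weak y a₂ (hy.trans h12)
  have : x₁ = x₂ := h (hy₁.trans hy₂.symm)
  rw [← hx₁, ← hx₂, this]

theorem surjective (h : Surjective p') : Surjective p := by
  intro b
  obtain ⟨y, rfl⟩ := sq.surj_bot b
  obtain ⟨x, rfl⟩ := h y
  exact ⟨a' x, sq.comm x⟩

theorem continuous (h : Continuous p') : Continuous p := by
  rw [sq.isQuotientMap_top.continuous_iff]
  have : p ∘ a' = b' ∘ p' := funext sq.comm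
  rw [this]
  exact sq.cont_bot.comp h

theorem isHomeomorph (h : IsHomeomorph p') : IsHomeomorph p :=
  ⟨sq.continuous h.continuous, sq.isOpenMap h.isOpenMap,
    ⟨sq.injective h.bijective.injective, sq.surjective h.bijective.surjective⟩⟩

theorem isQuotientMap (h : IsQuotientMap p') : IsQuotientMap p := by
  have hc : Continuous p := sq.continuous h.continuous
  have hs : Surjective p := sq.surjective h.surjective
  refine (isQuotientMap_iff p).2 ⟨isCoinducing_iff.2 (fun O => ⟨fun hO => ?_, fun hO => hO.preimage hc⟩), hs⟩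
  rw [← sq.isQuotientMap_bot.isOpen_preimage, ← h.isOpen_preimage]
  have : p' ⁻¹' (b' ⁻¹' O) = a' ⁻¹' (p ⁻¹' O) := by
    ext x
    simp only [mem_preimage, sq.comm]
  rw [this]
  exact hO.preimage sq.cont_top

end IsGoodSquare

/-- square for transport along homeomorphisms: `e₂ ∘ q = p ∘ e₁` -/
theorem IsGoodSquare.of_homeo {q : A' → B'} {e₁ : A' → A} {e₂ : B' → B}
    (h₁ : IsHomeomorph e₁) (h₂ : IsHomeomorph e₂) (hq : ∀ x, e₂ (q x) = p (e₁ x)) :
    IsGoodSquare (h₁.homeomorph e₁).symm (h₂.homeomorph e₂).symm p q where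
  comm x := by
    apply (h₂.homeomorph e₂).injective
    rw [Homeomorph.apply_symm_apply, IsHomeomorph.homeomorph_apply, hq]
    congr 1
    exact (h₁.homeomorph e₁).apply_symm_apply x
  cont_top := (h₁.homeomorph e₁).symm.continuous
  surj_top := (h₁.homeomorph e₁).symm.surjective
  open_top := (h₁.homeomorph e₁).symm.isOpenMap
  cont_bot := (h₂.homeomorph e₂).symm.continuous
  surj_bot := (h₂.homeomorph e₂).symm.surjective
  open_bot := (h₂.homeomorph e₂).symm.isOpenMap
  weak y a hy := by
    refine ⟨e₁ a, (h₁.homeomorph e₁).symm_apply_apply a, ?_⟩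
    rw [← hq, ← hy]
    exact (h₂.homeomorph e₂).apply_symm_apply y

/-- square for removing a precomposed homeomorphism -/
theorem IsGoodSquare.of_precomp {e : A' → A} (h : IsHomeomorph e) (p : A → B) :
    IsGoodSquare e (id : B → B) (fun x => p (e x)) p where
  comm _ := rfl
  cont_top := h.continuous
  surj_top := h.surjective
  open_top := h.isOpenMap
  cont_bot := continuous_id
  surj_bot := surjective_id
  open_bot := IsOpenMap.id
  weak y a hy := by
    obtain ⟨x, rfl⟩ := h.surjective a
    exact ⟨x, rfl, hy.symm⟩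

/-- square for transport along homeomorphisms, in the other direction: `e₂ ∘ p' = p ∘ e₁` -/
theorem IsGoodSquare.of_homeo' {e₁ : A' → A} {e₂ : B' → B}
    (h₁ : IsHomeomorph e₁) (h₂ : IsHomeomorph e₂) (hq : ∀ x, e₂ (p' x) = p (e₁ x)) :
    IsGoodSquare e₁ e₂ p' p where
  comm x := (hq x).symm
  cont_top := h₁.continuous
  surj_top := h₁.surjective
  open_top := h₁.isOpenMap
  cont_bot := h₂.continuous
  surj_bot := h₂.surjective
  open_bot := h₂.isOpenMap
  weak y a hy := by
    obtain ⟨x, rfl⟩ := h₁.surjective a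
    refine ⟨x, rfl, ?_⟩
    apply h₂.injective
    rw [hq, hy]

end Groth.Agent.Lib.helper4.TopSquare
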