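import Groth.Agent.Lib.Helper4.AlgStQCMor3
import Groth.Agent.Lib.Helper4.TopSquare
import Groth.Agent.Lib.Helper11.AlgSpBasic
import Groth.Agent.Lib.Helper4.AlgStDiagLFT
set_option autoImplicit false
set_option backward.isDefEq.respectTransparency false
set_option backward.isDefEq.respectTransparency.types false
set_option linter.unusedSectionVars false
set_option linter.style.haveILetI false
set_option linter.unusedVariables false
open CategoryTheory CategoryTheory.Functor CategoryTheory.Limits Opposite AlgebraicGeometry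
universe u

/-! Universally open / closed / injective / submersive morphisms and universal homeomorphisms of algebraic
stacks that are representable by algebraic spaces. -/

namespace Groth.Agent.Lib.helper4.AlgStUniv
open Groth.Agent.FibEquiv FibCat Groth.Agent.Lib.helper4.FibPaste Groth.Agent.Lib.helper4.AlgStEquiv
open Groth.Agent.Lib.helper4.AlgStSetoid Groth.Agent.FibFpProj Groth.Agent.Lib.helper4.FibRep
open Groth.Agent.Lib.helper4.AlgStFpAlg Groth.Agent.Lib.helper4.AlgStDM Groth.Agent.Lib.helper4.AlgStSelf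
open Groth.Agent.Lib.helper4.AlgStPts Groth.Agent.Lib.helper4.FibSwap Groth.Agent.Lib.helper4.AlgStSmLoc
open Groth.Agent.Lib.helper4.AlgStQC Groth.Agent.Lib.helper4.PshDict Groth.Agent.Lib.helper4.PshRep
open Groth.Agent.Lib.helper4.PshPB Groth.Agent.Lib.helper4.AlgStQCMor Groth.Agent.Lib.helper4.PointsBasic
open Groth.Agent.Lib.helper4.TopSquare Stk AlgSt

variable {S : Scheme.{u}}

/-- `|ofSp F| ≃ |F|` is a homeomorphism for an algebraic space `F` -/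
theorem isHomeomorph_ptsEquiv {F : AlgSp.Sp S} (hF : AlgSp.IsAlgSpace F) : IsHomeomorph (ptsEquiv F) := by
  refine ⟨continuous_ptsEquiv F, ?_, (ptsEquiv F).bijective⟩
  obtain ⟨U, p, hp1, hp2⟩ := hF.atlas
  intro W hW
  have h1 : AlgSp.Points.ofPt p ⁻¹' (ptsEquiv F '' W) = AlgSt.Points.ofChart (ofMap p) ⁻¹' W := by
    ext t
    simp only [Set.mem_preimage, Set.mem_image]
    constructor
    · rintro ⟨w, hw, hwt⟩
      rw [← ptsEquiv_ofChart_ofMap] at hwt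
      rwa [← (ptsEquiv F).injective hwt]
    · intro ht
      exact ⟨_, ht, ptsEquiv_ofChart_ofMap F p t⟩
  have h2 : IsOpen (AlgSp.Points.ofPt p ⁻¹' (ptsEquiv F '' W)) := by
    rw [h1]
    exact (AlgSt.Points.isOpen_iff.1 hW) U (ofMap p) (smooth_ofMap p hp1)
  have h3 := Groth.Agent.Lib.helper11.isOpenMap_ofPt p hp1 _ h2
  rwa [Set.image_preimage_eq _ (Groth.Agent.Lib.helper11.surjective_ofPt p hp2)] at h3

/-- an equivalence of categories over `(Sch/S)` with smooth atlases is a homeomorphism on points -/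
theorem isHomeomorph_map_of_isEquivOver {𝒜 ℬ : AlgSt.Cat S} (h𝒜 : IsFibGrpd 𝒜.p) (hℬ : IsFibGrpd ℬ.p)
    (hat𝒜 : AlgSt.HasAtlas (AlgSp.LocP @Smooth) 𝒜) (hatℬ : AlgSt.HasAtlas (AlgSp.LocP @Smooth) ℬ)
    (E : 𝒜 ⥤ᵇ ℬ) (hE : IsEquivOver E) : IsHomeomorph (Points.map E) := by
  obtain ⟨g, ⟨e1⟩, ⟨e2⟩⟩ := id hE
  have h1 : ∀ z, Points.map g (Points.map E z) = z := fun z => by
    rw [← map_comp, map_congr_iso e1, map_id]
  have h2 : ∀ z, Points.map E (Points.map g z) = z := fun z => by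
    rw [← map_comp, map_congr_iso e2, map_id]
  exact ⟨continuous_map hℬ hatℬ E, IsOpenMap.of_inverse (continuous_map h𝒜 hat𝒜 g) h2 h1,
    map_bijective_of_isEquivOver E hE⟩

/-- a flat, locally finitely presented functor from a category representable by an algebraic space is open on
points -/
theorem isOpenMap_map_of_rep {𝒜 𝒳 : AlgSt.Cat S} (h𝒜 : IsFibGrpd 𝒜.p) (h𝒳 : IsFibGrpd 𝒳.p)
    (hat𝒜 : AlgSt.HasAtlas (AlgSp.LocP @Smooth) 𝒜) (F : AlgSp.Space S) (E : AlgSt.ofSp F.obj ⥤ᵇ 𝒜)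
    (hE : IsEquivOver E) (u : 𝒜 ⥤ᵇ 𝒳) (hu₁ : AlgSt.RepByAlgSpWith (AlgSp.LocP @Flat) u)
    (hu₂ : AlgSt.RepByAlgSpWith (AlgSp.LocP @LocallyOfFinitePresentation) u) :
    IsOpenMap (Points.map u) := by
  have h1 : IsOpenMap (Points.map (BasedFunctor.comp E u)) :=
    isOpenMap_map_space h𝒳 F (BasedFunctor.comp E u) ((repByAlgSpWith_precomp_iff _ u E hE).1 hu₁)
      ((repByAlgSpWith_precomp_iff _ u E hE).1 hu₂)
  intro O hO
  have h2 : Points.map u '' O = Points.map (BasedFunctor.comp E u) '' (Points.map E ⁻¹' O) := by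
    ext z
    constructor
    · rintro ⟨a, ha, rfl⟩
      obtain ⟨x, rfl⟩ := (map_bijective_of_isEquivOver E hE).2 a
      exact ⟨x, ha, map_comp E u x⟩
    · rintro ⟨x, hx, rfl⟩
      exact ⟨Points.map E x, hx, (map_comp E u x).symm⟩
  rw [h2]
  exact h1 _ (hO.preimage (continuous_map h𝒜 hat𝒜 E))

section Forward

variable (T : ∀ {A B : Type (u + 1)} [TopologicalSpace A] [TopologicalSpace B], (A → B) → Prop)
  (hT : ∀ {A A' B B' : Type (u + 1)} [TopologicalSpace A] [TopologicalSpace A'] [TopologicalSpace B]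
    [TopologicalSpace B'] {a' : A' → A} {b' : B' → B} {p' : A' → B'} {p : A → B},
    IsGoodSquare a' b' p' p → T p' → T p)
include hT

theorem univ_forward {𝒳 𝒴 : AlgSt.Cat S} (h𝒳 : AlgSt.IsAlgStack Scheme.fppfPrecoverage 𝒳)
    (h𝒴 : AlgSt.IsAlgStack Scheme.fppfPrecoverage 𝒴) (f : 𝒳 ⥤ᵇ 𝒴)
    (hf : AlgSt.RepByAlgSpWith (AlgSp.UnivSp (fun _ _ a => T (AlgSp.Points.map a))) f)
    (𝒵 : AlgSt.Cat S) (h𝒵 : AlgSt.IsAlgStack Scheme.fppfPrecoverage 𝒵) (g : 𝒵 ⥤ᵇ 𝒴) :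
    T (Points.map (fpFst g f)) := by
  obtain ⟨V, z₀, hz, hzs⟩ := h𝒵.atlas
  have hVf : IsFibGrpd (overCat V).p := Groth.Agent.FibOver.isFibGrpd_overCat V
  have h𝒵f : IsFibGrpd 𝒵.p := h𝒵.isStack.1
  have hVa : AlgSt.IsAlgStack Scheme.fppfPrecoverage (overCat V) := isAlgStack_overCat V
  have hfp : AlgSt.IsAlgStack Scheme.fppfPrecoverage (fp g f) := isAlgStack_fp' h𝒵 h𝒳 h𝒴 g f
  have hA : AlgSt.IsAlgStack Scheme.fppfPrecoverage (fp z₀ (fpFst g f)) := isAlgStack_fp' hVa hfp h𝒵 _ _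
  obtain ⟨F, e, he, hπ⟩ := hf V (BasedFunctor.comp z₀ g)
  have hFf : IsFibGrpd (AlgSt.ofSp F.obj).p := isFibGrpd_ofPsh _
  have hπ' : T (AlgSp.Points.map (AlgSt.spMapOfOver (BasedFunctor.comp e (fpFst (BasedFunctor.comp z₀ g) f)))) :=
    hπ (AlgSp.IsAlgSpace.yon_obj V) (𝟙 _) (𝟙 _)
      (AlgSt.spMapOfOver (BasedFunctor.comp e (fpFst (BasedFunctor.comp z₀ g) f)))
      (IsPullback.of_horiz_isIso ⟨by rw [Category.id_comp, Category.comp_id]⟩)
  -- Step 1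
  have hY : IsHomeomorph (fun z : Points (overCat V) =>
      ptsEquiv ((AlgSp.yon S).obj V) (Points.map (toYon.{u + 1} V) z)) :=
    (isHomeomorph_ptsEquiv (AlgSp.IsAlgSpace.yon_obj V)).comp
      (isHomeomorph_map_of_isEquivOver hVf (isFibGrpd_ofPsh _) hVa.atlas
        (isAlgStack_ofSp ⟨(AlgSp.yon S).obj V, AlgSp.IsAlgSpace.yon_obj V⟩).atlas _ (toYon_isEquivOver V))
  have hΦ : T (Points.map (BasedFunctor.comp e (fpFst (BasedFunctor.comp z₀ g) f))) := by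
    refine hT (IsGoodSquare.of_homeo (isHomeomorph_ptsEquiv F.property) hY ?_) hπ'
    intro z
    rw [← map_comp, map_congr_iso (isoOfPshMap (BasedFunctor.comp
      (BasedFunctor.comp e (fpFst (BasedFunctor.comp z₀ g) f)) (toYon.{u + 1} V))), ← ptsEquiv_map]
    congr 3
  -- Step 2
  obtain ⟨Einv, ⟨α⟩, ⟨β⟩⟩ := pasteL_isEquivOver z₀ g f
  have hEinv : IsEquivOver Einv := isEquivOver_symm α β
  have hE' : IsEquivOver (BasedFunctor.comp e Einv) := isEquivOver_comp _ _ he hEinv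
  have hE'h : IsHomeomorph (Points.map (BasedFunctor.comp e Einv)) :=
    isHomeomorph_map_of_isEquivOver hFf hA.isStack.1 (isAlgStack_ofSp F).atlas hA.atlas _ hE'
  have i2 : BasedFunctor.comp (BasedFunctor.comp e Einv) (fpFst z₀ (fpFst g f)) ≅
      BasedFunctor.comp e (fpFst (BasedFunctor.comp z₀ g) f) :=
    whiskerLeftIso e (Groth.Agent.Lib.helper4.AlgStRep.whiskerRightIso β (fpFst (BasedFunctor.comp z₀ g) f))
  have hp' : T (Points.map (fpFst z₀ (fpFst g f))) := by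
    refine hT (IsGoodSquare.of_precomp hE'h _) ?_
    have : (fun x => Points.map (fpFst z₀ (fpFst g f)) (Points.map (BasedFunctor.comp e Einv) x)) =
        Points.map (BasedFunctor.comp e (fpFst (BasedFunctor.comp z₀ g) f)) := by
      funext x
      rw [← map_comp, map_congr_iso i2]
    rw [this]
    exact hΦ
  -- Step 3
  have hsm : AlgSt.RepByAlgSpWith (AlgSp.LocP @Smooth) (fpSnd z₀ (fpFst g f)) :=
    repByAlgSpWith_fpSnd hfp.isStack.1 h𝒵f hVf _ z₀ (fpFst g f) hz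
  have hsu : AlgSt.RepByAlgSpWith AlgSp.IsSurjectiveMor (fpSnd z₀ (fpFst g f)) :=
    repByAlgSpWith_fpSnd hfp.isStack.1 h𝒵f hVf _ z₀ (fpFst g f) hzs
  obtain ⟨Yi, ⟨αY⟩, ⟨βY⟩⟩ := toYon_isEquivOver.{u + 1} V
  have hYi : IsEquivOver Yi := isEquivOver_symm αY βY
  refine hT (a' := Points.map (fpSnd z₀ (fpFst g f))) (b' := Points.map z₀) ?_ hp'
  exact
    { comm := fun x => by
        rw [← map_comp, ← map_comp]
        exact (map_congr_iso (fpIso z₀ (fpFst g f)) x).symm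
      cont_top := continuous_map hfp.isStack.1 hfp.atlas _
      surj_top := isSurjective_of_repByAlgSpWith hfp.isStack.1 _ hsu
      open_top := isOpenMap_map_of_rep hA.isStack.1 hfp.isStack.1 hA.atlas F _ hE' _
        (Groth.Agent.Lib.helper4.AlgStDiagLFT.flat_of_smooth _ hsm)
        (Groth.Agent.Lib.helper4.AlgStDiagLFT.lfp_of_smooth _ hsm)
      cont_bot := continuous_map h𝒵f h𝒵.atlas _
      surj_bot := isSurjective_of_repByAlgSpWith h𝒵f _ hzs
      open_bot := isOpenMap_map_of_rep hVf h𝒵f hVa.atlas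
        ⟨(AlgSp.yon S).obj V, AlgSp.IsAlgSpace.yon_obj V⟩ Yi hYi _
        (Groth.Agent.Lib.helper4.AlgStDiagLFT.flat_of_smooth _ hz)
        (Groth.Agent.Lib.helper4.AlgStDiagLFT.lfp_of_smooth _ hz)
      weak := fun y a hy => by
        obtain ⟨w, hw1, hw2⟩ := exists_points_fp hfp.isStack.1 h𝒵f hVf (fpFst g f) z₀ y a hy
        exact ⟨w, hw2, hw1⟩ }

/-- the other direction: a morphism representable by algebraic spaces all of whose base changes to algebraic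
stacks have `T` on points has `UnivSp T` on charts -/
theorem univ_backward {𝒳 𝒴 : AlgSt.Cat S} (h𝒳 : AlgSt.IsAlgStack Scheme.fppfPrecoverage 𝒳)
    (h𝒴 : AlgSt.IsAlgStack Scheme.fppfPrecoverage 𝒴) (f : 𝒳 ⥤ᵇ 𝒴) (hf : AlgSt.RepByAlgSp1 f)
    (H : ∀ (𝒵 : AlgSt.Cat S), AlgSt.IsAlgStack Scheme.fppfPrecoverage 𝒵 → ∀ (g : 𝒵 ⥤ᵇ 𝒴),
      T (Points.map (fpFst g f))) :
    AlgSt.RepByAlgSpWith (AlgSp.UnivSp (fun _ _ a => T (AlgSp.Points.map a))) f := by
  intro T₀ y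
  obtain ⟨F, e, he⟩ := hf T₀ y
  refine ⟨F, e, he, ?_⟩
  intro Z Z' hZ g fst snd sq
  have hZ' : AlgSp.IsAlgSpace Z' :=
    Groth.Agent.Lib.helper5.isAlgSpace_of_isPullback (AlgSp.IsAlgSpace.yon_obj T₀).diag F.property hZ sq
  have hZa : AlgSt.IsAlgStack Scheme.fppfPrecoverage (AlgSt.ofSp Z) := isAlgStack_ofSp ⟨Z, hZ⟩
  have hZ'a : AlgSt.IsAlgStack Scheme.fppfPrecoverage (AlgSt.ofSp Z') := isAlgStack_ofSp ⟨Z', hZ'⟩
  obtain ⟨Yi, ⟨α⟩, ⟨β⟩⟩ := toYon_isEquivOver.{u + 1} T₀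
  let A : AlgSt.ofSp Z ⥤ᵇ overCat T₀ := BasedFunctor.comp (AlgSt.ofSpMap g) Yi
  let B : AlgSt.ofSp F.obj ⥤ᵇ overCat T₀ := BasedFunctor.comp e (fpFst y f)
  have hfpa : AlgSt.IsAlgStack Scheme.fppfPrecoverage (fp (BasedFunctor.comp A y) f) :=
    isAlgStack_fp' hZa h𝒳 h𝒴 _ _
  have h1 : T (Points.map (fpFst (BasedFunctor.comp A y) f)) := H _ hZa (BasedFunctor.comp A y)
  let E1 := pasteL A y f
  have hE1 : IsEquivOver E1 := pasteL_isEquivOver A y f
  let E2 := fpMap A A B (fpFst y f) e (BasedFunctor.id _) (Iso.refl _) (Iso.refl _)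
  have hE2 : IsEquivOver E2 := fpMap_isEquivOver _ _ _ _ _ _ _ _ he (isEquivOver_id' _)
  let M : fp A B ⥤ᵇ fp (ofPshMap (pshMapOf (BasedFunctor.comp A (toYon.{u + 1} T₀))))
      (ofPshMap (pshMapOf (BasedFunctor.comp B (toYon.{u + 1} T₀)))) :=
    fpMap A (ofPshMap (pshMapOf (BasedFunctor.comp A (toYon.{u + 1} T₀)))) B
      (ofPshMap (pshMapOf (BasedFunctor.comp B (toYon.{u + 1} T₀)))) (BasedFunctor.id _) (toYon.{u + 1} T₀)
      (isoOfPshMap _) (isoOfPshMap (BasedFunctor.comp B (toYon.{u + 1} T₀)))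
  have hM : IsEquivOver M := fpMap_isEquivOver _ _ _ _ _ _ _ _ (isEquivOver_id' _) (toYon_isEquivOver T₀)
  obtain ⟨Mi, ⟨αM⟩, ⟨βM⟩⟩ := id hM
  have hMi : IsEquivOver Mi := isEquivOver_symm αM βM
  have ha : pshMapOf (BasedFunctor.comp A (toYon.{u + 1} T₀)) = g.hom := by
    have i1 : BasedFunctor.comp A (toYon.{u + 1} T₀) ≅
        BasedFunctor.comp (AlgSt.ofSpMap g) (BasedFunctor.id _) := whiskerLeftIso (AlgSt.ofSpMap g) β
    rw [pshMapOf_congr i1]
    exact pshMapOf_ofPshMap g.hom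
  have hb : pshMapOf (BasedFunctor.comp B (toYon.{u + 1} T₀)) =
      (AlgSt.spMapOfOver (BasedFunctor.comp e (fpFst y f))).hom := (spMapOfOver_hom _).symm
  have sqP : IsPullback snd.hom fst.hom (pshMapOf (BasedFunctor.comp A (toYon.{u + 1} T₀)))
      (pshMapOf (BasedFunctor.comp B (toYon.{u + 1} T₀))) := by
    rw [ha, hb]
    exact (sq.map (sheafToPresheaf (AlgSp.J S) (Type (u + 1)))).flip
  let L0 := Groth.Agent.Lib.helper4.PshDict.fpPshLift sqP.w
  have hL0 : IsEquivOver L0 := Groth.Agent.Lib.helper4.PshDict.fpPshLift_isEquivOver sqP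
  let Ξ : AlgSt.ofSp Z' ⥤ᵇ fp (BasedFunctor.comp A y) f :=
    BasedFunctor.comp L0 (BasedFunctor.comp Mi (BasedFunctor.comp E2 E1))
  have hΞ : IsEquivOver Ξ :=
    isEquivOver_comp _ _ hL0 (isEquivOver_comp _ _ hMi (isEquivOver_comp _ _ hE2 hE1))
  have hΞh : IsHomeomorph (Points.map Ξ) :=
    isHomeomorph_map_of_isEquivOver (isFibGrpd_ofPsh _) hfpa.isStack.1 hZ'a.atlas hfpa.atlas Ξ hΞ
  have iΞ : BasedFunctor.comp Ξ (fpFst (BasedFunctor.comp A y) f) ≅ AlgSt.ofSpMap snd :=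
    whiskerLeftIso L0 (Groth.Agent.Lib.helper4.AlgStRep.whiskerRightIso βM
      (fpFst (ofPshMap (pshMapOf (BasedFunctor.comp A (toYon.{u + 1} T₀))))
        (ofPshMap (pshMapOf (BasedFunctor.comp B (toYon.{u + 1} T₀))))))
  have h2 : T (Points.map (AlgSt.ofSpMap snd)) := by
    refine hT (IsGoodSquare.of_homeo hΞh IsHomeomorph.id ?_) h1
    intro x
    rw [← map_comp, map_congr_iso iΞ]
    rfl
  exact hT (IsGoodSquare.of_homeo' (isHomeomorph_ptsEquiv hZ') (isHomeomorph_ptsEquiv hZ)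
    (fun x => ptsEquiv_map snd x)) h2

end Forward

section Instances

variable {𝒳 𝒴 : AlgSt.Cat S} (h𝒳 : AlgSt.IsAlgStack Scheme.fppfPrecoverage 𝒳)
  (h𝒴 : AlgSt.IsAlgStack Scheme.fppfPrecoverage 𝒴) (f : 𝒳 ⥤ᵇ 𝒴) (hf : AlgSt.RepByAlgSp1 f)
include h𝒳 h𝒴 hf

/-- S12826 -/
theorem univOpen_iff : AlgSt.RepByAlgSpWith AlgSp.IsUnivOpenMor f ↔ AlgSt.IsUnivOpen Scheme.fppfPrecoverage f :=
  ⟨fun h => univ_forward (fun p => IsOpenMap p) (fun sq h => sq.isOpenMap h) h𝒳 h𝒴 f h,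
    fun h => univ_backward (fun p => IsOpenMap p) (fun sq h => sq.isOpenMap h) h𝒳 h𝒴 f hf h⟩

/-- S12828 -/
theorem univClosed_iff :
    AlgSt.RepByAlgSpWith AlgSp.IsUnivClosedMor f ↔ AlgSt.IsUnivClosed Scheme.fppfPrecoverage f :=
  ⟨fun h => univ_forward (fun p => IsClosedMap p) (fun sq h => sq.isClosedMap h) h𝒳 h𝒴 f h,
    fun h => univ_backward (fun p => IsClosedMap p) (fun sq h => sq.isClosedMap h) h𝒳 h𝒴 f hf h⟩

/-- S12829 -/
theorem univInjective_iff :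
    AlgSt.RepByAlgSpWith AlgSp.IsUnivInjectiveMor f ↔ AlgSt.IsUnivInjective Scheme.fppfPrecoverage f :=
  ⟨fun h => univ_forward (fun p => Function.Injective p) (fun sq h => sq.injective h) h𝒳 h𝒴 f h,
    fun h => univ_backward (fun p => Function.Injective p) (fun sq h => sq.injective h) h𝒳 h𝒴 f hf h⟩

/-- S12830 -/
theorem univHomeo_iff :
    AlgSt.RepByAlgSpWith AlgSp.IsUnivHomeoMor f ↔ AlgSt.IsUnivHomeo Scheme.fppfPrecoverage f :=
  ⟨fun h => univ_forward (fun p => IsHomeomorph p) (fun sq h => sq.isHomeomorph h) h𝒳 h𝒴 f h,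
    fun h => univ_backward (fun p => IsHomeomorph p) (fun sq h => sq.isHomeomorph h) h𝒳 h𝒴 f hf h⟩

/-- S12827 -/
theorem univSubmersive_iff :
    AlgSt.RepByAlgSpWith AlgSp.IsUnivSubmersiveMor f ↔
      ∀ (𝒵 : AlgSt.Cat S), AlgSt.IsAlgStack Scheme.fppfPrecoverage 𝒵 → ∀ (g : 𝒵 ⥤ᵇ 𝒴),
        Topology.IsQuotientMap (AlgSt.Points.map (FibCat.fpFst g f)) :=
  ⟨fun h => univ_forward (fun p => Topology.IsQuotientMap p) (fun sq h => sq.isQuotientMap h) h𝒳 h𝒴 f h,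
    fun h => univ_backward (fun p => Topology.IsQuotientMap p) (fun sq h => sq.isQuotientMap h) h𝒳 h𝒴 f hf h⟩

end Instances

end Groth.Agent.Lib.helper4.AlgStUniv
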