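import Groth.Agent.Lib.Helper4.AlgStInertia2
import Groth.Agent.Lib.Helper4.AlgStDiagCover
import Groth.Agent.Lib.Helper4.AlgStOpenSub8
import Groth.Agent.Lib.Helper4.AlgStUniv
import Groth.Agent.Lib.Helper4.GerbAut
import Groth.Agent.Lib.Helper4.AlgStFaithful
import Groth.Agent.Lib.Helper4.AlgStFull
import Groth.Agent.Lib.Helper18.AlgSp
import Groth.Agent.S9928
set_option autoImplicit false
set_option backward.isDefEq.respectTransparency false
set_option backward.isDefEq.respectTransparency.types false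
set_option linter.unusedSectionVars false
set_option linter.style.haveILetI false
set_option linter.unusedVariables false
open CategoryTheory CategoryTheory.Functor CategoryTheory.Limits Opposite AlgebraicGeometry
universe u

/-! 2-endomorphisms of a morphism to a Deligne–Mumford stack with separated diagonal are determined on a dense
open substack (helper4).

* `isDMOver_of_isDM`: a Deligne–Mumford stack (étale atlas) has unramified diagonal.
* `isOpenImm_inertiaNeutral`, `isClosedImm_inertiaNeutral`: the neutral section of the inertia of a DM stack with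
  separated diagonal is an open and closed immersion.
* `isAlgStack_inertia`: the inertia of an algebraic stack is an algebraic stack.
-/

namespace Groth.Agent.Lib.helper4.AlgStEndTrans
open Groth.Agent.FibEquiv Groth.Agent.FibYoneda FibCat Groth.Agent.Lib.helper4.FibPaste
open Groth.Agent.Lib.helper4.AlgStEquiv Groth.Agent.Lib.helper4.AlgStRep
open Groth.Agent.Lib.helper4.AlgStSetoid Groth.Agent.FibFpProj Groth.Agent.Lib.helper4.FibRep
open Groth.Agent.Lib.helper4.AlgStFpAlg Groth.Agent.Lib.helper4.AlgStDM Groth.Agent.Lib.helper4.AlgStSelf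
open Groth.Agent.Lib.helper4.AlgStPts Groth.Agent.Lib.helper4.FibSwap Groth.Agent.Lib.helper4.AlgStSmLoc
open Groth.Agent.Lib.helper4.AlgStQC Groth.Agent.Lib.helper4.PshDict Groth.Agent.Lib.helper4.PshRep
open Groth.Agent.Lib.helper4.PshPB Groth.Agent.Lib.helper4.AlgStQCMor Groth.Agent.Lib.helper4.PointsBasic
open Groth.Agent.Lib.helper4.AlgStDescent Groth.Agent.Lib.helper4.AlgStCoreA
open Groth.Agent.Lib.helper4.AlgStSource Groth.Agent.Lib.helper4.AlgStGraph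
open Groth.Agent.Lib.helper4.AlgStLocQ Groth.Agent.Lib.helper4.StkSub Groth.Agent.Lib.helper4.FibLiftIso
open Groth.Agent.Lib.helper4.AlgStOpenSub Groth.Agent.Lib.helper4.AlgStCancel
open Groth.Agent.Lib.helper4.AlgStInertia Groth.Agent.Lib.helper4.FibInertiaDiag
open Groth.Agent.Lib.helper4.AlgStDiagCover Groth.Agent.Lib.helper5.LocPBC Groth.Agent.Lib.helper4.AlgStDiagK
open Stk AlgSt

variable {S : Scheme.{u}}

/-- a Deligne–Mumford stack (an algebraic stack with an étale atlas) has unramified diagonal -/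
theorem isDMOver_of_isDM {𝒴 : AlgSt.Cat S} (h : AlgSt.IsDM Scheme.fppfPrecoverage 𝒴) : AlgSt.IsDMOver 𝒴 := by
  obtain ⟨h𝒴, U, x, hxe, hxs⟩ := h
  have he : ∀ (F : AlgSp.Space S) (T : Over S) (π : F.obj ⟶ (AlgSp.yon S).obj T), AlgSp.IsEtaleMor π →
      AlgSp.LocP @Etale π := fun F T π hπ => Groth.Agent.S10265.locP_etale_of_isEtaleMor π hπ
  have hx₁ : AlgSt.RepByAlgSpWith (AlgSp.LocP @Flat) x :=
    repByAlgSpWith_mono x (fun F T π hπ => Groth.Agent.S10265.locP_mono (fun _ _ g hg => by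
      have : Etale g := hg
      exact (inferInstance : Flat g)) (he F T π hπ)) hxe
  have hx₂ : AlgSt.RepByAlgSpWith (AlgSp.LocP @LocallyOfFinitePresentation) x :=
    repByAlgSpWith_mono x (fun F T π hπ => Groth.Agent.S10265.locP_mono (fun _ _ g hg => by
      have : Etale g := hg
      exact (inferInstance : LocallyOfFinitePresentation g)) (he F T π hπ)) hxe
  have hx₄ : AlgSt.RepByAlgSpWith (AlgSp.LocP (@LocallyOfFiniteType ⊓ @FormallyUnramified)) x :=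
    repByAlgSpWith_mono x (fun F T π hπ => Groth.Agent.S10265.locP_mono (fun _ _ g hg => by
      have : Etale g := hg
      exact ⟨(inferInstance : LocallyOfFiniteType g), (inferInstance : FormallyUnramified g)⟩)
      (he F T π hπ)) hxe
  exact diag_of_scheme_cover h𝒴 _
    (fun X₁ Y₁ X₂ Y₂ h1 h2 _ h4 a b a' b' sq ha => locP_of_isPullback locPData_unramified h1 h2 h4 sq ha)
    (fun X Y Z _ hY _ a b ha hb =>
      Groth.Agent.H1.LocPStable.locP_comp locPData_unramified.descend hY a b ha hb)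
    (isLocalOnBase_fppf_of_fpqc (Groth.Agent.S10543.result S)) x hx₁ hx₂ hxs hx₄
    (isDMMor_of_repByAlgSp1 _ (repByAlgSp1_prj₁ U U))

section Neutral
variable {𝒴 : AlgSt.Cat S} (h𝒴 : AlgSt.IsAlgStack Scheme.fppfPrecoverage 𝒴)
include h𝒴

theorem isOpenImm_inertiaNeutral (hDM : AlgSt.IsDMOver 𝒴) :
    AlgSt.IsOpenImm (inertiaNeutral (toSelf 𝒴)) := by
  have hI : AlgSt.RepByAlgSp1 (inertiaToBase (toSelf 𝒴)) :=
    repByAlgSp1_inertiaToBase (toSelf 𝒴) h𝒴 isAlgStack_selfOver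
  have h1 := (unramified_inertiaToBase_iff_isDMMor (toSelf 𝒴) h𝒴 isAlgStack_selfOver).2 hDM
  have h2 : AlgSt.IsOpenImm (FibCat.diag (inertiaToBase (toSelf 𝒴))) :=
    isOpenImm_diag_of_unramified (inertiaToBase (toSelf 𝒴)) hI h1
  exact inertiaNeutral_of_diag_inertiaToBase (toSelf 𝒴) _ h2

theorem isClosedImm_inertiaNeutral
    (hΔ : AlgSt.RepByAlgSpWith AlgSp.IsSeparatedMor (FibCat.diag (toSelf 𝒴))) :
    AlgSt.IsClosedImm (inertiaNeutral (toSelf 𝒴)) :=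
  ((tfae_inertia_separated (toSelf 𝒴) h𝒴 isAlgStack_selfOver).out 1 2).1 hΔ

theorem isAlgStack_inertia : AlgSt.IsAlgStack Scheme.fppfPrecoverage (inertia (toSelf 𝒴)) := by
  have hprod : AlgSt.IsAlgStack Scheme.fppfPrecoverage (fp (toSelf 𝒴) (toSelf 𝒴)) := isAlgStack_prod h𝒴 h𝒴
  have hfp : AlgSt.IsAlgStack Scheme.fppfPrecoverage
      (fp (FibCat.diag (toSelf 𝒴)) (FibCat.diag (toSelf 𝒴))) :=
    isAlgStack_fp' h𝒴 h𝒴 hprod _ _
  exact (isAlgStack_iff_of_isEquivOver _ (Φ (toSelf 𝒴)) (Φ_isEquivOver (toSelf 𝒴))).2 hfp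

end Neutral


section EndTrans
variable {𝒳 𝒴 : AlgSt.Cat S} (F : 𝒳 ⥤ᵇ 𝒴) (α : F ⟶ F)

theorem p_map_app (a : 𝒳.obj) : 𝒴.p.map (α.app a) = 𝟙 (𝒴.p.obj (F.obj a)) := by
  haveI := α.isHomLift' a
  have h := IsHomLift.fac' 𝒴.p (𝟙 (𝒳.p.obj a)) (α.app a)
  simpa using h

theorem isIso_app (h𝒴 : IsFibGrpd 𝒴.p) (a : 𝒳.obj) : IsIso (α.app a) := by
  haveI := h𝒴.isStronglyCartesian (α.app a)
  haveI : IsIso (𝒴.p.map (α.app a)) := by rw [p_map_app]; infer_instance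
  exact Functor.IsStronglyCartesian.isIso_of_base_isIso 𝒴.p (𝒴.p.map (α.app a)) (α.app a)

/-- the functor `x ↦ (F x, α_x)` to the inertia of the target -/
noncomputable def toI (h𝒴 : IsFibGrpd 𝒴.p) : 𝒳 ⥤ᵇ inertia (toSelf 𝒴) where
  toFunctor :=
    { obj := fun a => ⟨F.obj a, @asIso _ _ _ _ (α.app a) (isIso_app F α h𝒴 a), p_map_app F α a⟩
      map := fun {a b} φ => ⟨F.map φ, (α.naturality φ).symm⟩
      map_id := fun a => by
        apply FibCat.InertiaObj.hom_ext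
        simp
      map_comp := fun φ ψ => by
        apply FibCat.InertiaObj.hom_ext
        simp }
  w := F.w

/-- if `x` is, up to isomorphism, the first component of an object of `𝒳 ×_{I_𝒴} 𝒴`, then `α_x = 𝟙` -/
theorem app_eq_id_of_essIm (h𝒴 : IsFibGrpd 𝒴.p) (a : 𝒳.obj)
    (ha : essIm (fpFst (toI F α h𝒴) (inertiaNeutral (toSelf 𝒴))) a) : α.app a = 𝟙 (F.obj a) := by
  obtain ⟨z, ⟨e⟩⟩ := ha
  -- the object `z = (x, y, θ)`
  let x : 𝒳.obj := z.obj.fst
  let θ := z.obj.iso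
  have hθ : (α.app x) ≫ θ.hom.hom = θ.hom.hom ≫ 𝟙 _ := θ.hom.comm
  haveI : IsIso θ.hom.hom := by
    refine ⟨θ.inv.hom, ?_, ?_⟩
    · have := congrArg FibCat.InertiaObj.Hom.hom θ.hom_inv_id
      exact this
    · have := congrArg FibCat.InertiaObj.Hom.hom θ.inv_hom_id
      exact this
  have hx : α.app x = 𝟙 (F.obj x) := by
    rw [Category.comp_id] at hθ
    exact (cancel_mono θ.hom.hom).1 (by rw [hθ, Category.id_comp])
  -- transport along `e : x ≅ a`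
  have e' : x ≅ a := e
  have hn := α.naturality e'.hom
  rw [hx] at hn
  have key : F.map e'.hom ≫ α.app a = F.map e'.hom ≫ 𝟙 _ := by
    rw [hn, Category.id_comp, Category.comp_id]
  haveI : IsIso (F.map e'.hom) := (F.toFunctor.mapIso e').isIso_hom
  exact (cancel_epi (F.map e'.hom)).1 key

end EndTrans


section ClosedRange
variable {𝒵 𝒳 : AlgSt.Cat S} (h𝒵 : AlgSt.IsAlgStack Scheme.fppfPrecoverage 𝒵)
  (h𝒳 : AlgSt.IsAlgStack Scheme.fppfPrecoverage 𝒳) (π : 𝒵 ⥤ᵇ 𝒳)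
include h𝒵 h𝒳

/-- the image of a closed immersion of algebraic stacks is closed -/
theorem isClosed_range_of_isClosedImm (hπ : AlgSt.IsClosedImm π) :
    IsClosed (Set.range (AlgSt.Points.map π)) := by
  have huc : AlgSt.RepByAlgSpWith
      (AlgSp.UnivSp (fun _ _ a => IsClosedMap (AlgSp.Points.map a))) π := by
    refine repByAlgSpWith_mono π ?_ hπ
    intro F T c hc Z Z' hZ g fst snd sq
    have hsnd : AlgSp.RepWith @IsClosedImmersion snd := MorphismProperty.of_isPullback sq hc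
    exact Groth.Agent.Lib.helper18.isClosedMap_of_repWith_isClosedImmersion snd hsnd
  have hcl : IsClosedMap (AlgSt.Points.map (fpFst (BasedFunctor.id 𝒳) π)) :=
    Groth.Agent.Lib.helper4.AlgStUniv.univ_forward (fun p => IsClosedMap p)
      (fun sq h => sq.isClosedMap h) h𝒵 h𝒳 π huc 𝒳 h𝒳 (BasedFunctor.id 𝒳)
  have hbij := map_bijective_of_isEquivOver (fpSnd (BasedFunctor.id 𝒳) π)
    (Groth.Agent.Lib.helper4.AlgStGraph.fpSnd_id_isEquivOver π)
  have hcomp : ∀ z, AlgSt.Points.map (fpFst (BasedFunctor.id 𝒳) π) z =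
      AlgSt.Points.map π (AlgSt.Points.map (fpSnd (BasedFunctor.id 𝒳) π) z) := by
    intro z
    have h1 := map_congr_iso (fpIso (BasedFunctor.id 𝒳) π) z
    rw [PointsBasic.map_comp, PointsBasic.map_comp, map_id] at h1
    exact h1
  have hr : Set.range (AlgSt.Points.map π) =
      Set.range (AlgSt.Points.map (fpFst (BasedFunctor.id 𝒳) π)) := by
    ext y
    constructor
    · rintro ⟨w, rfl⟩
      obtain ⟨z, rfl⟩ := hbij.2 w
      exact ⟨z, hcomp z⟩
    · rintro ⟨z, rfl⟩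
      exact ⟨_, (hcomp z).symm⟩
  rw [hr]
  exact hcl.isClosed_range

end ClosedRange


section Main
variable {𝒳 𝒴 𝒰 𝒱 : AlgSt.Cat S}

/-- on objects coming from an open substack which `F` maps into an open substack of the target representable by an
algebraic space, a 2-endomorphism of `F` is trivial -/
theorem app_eq_id_of_factor (h𝒴 : IsFibGrpd 𝒴.p) (F : 𝒳 ⥤ᵇ 𝒴) (i : 𝒰 ⥤ᵇ 𝒳)
    (j : 𝒱 ⥤ᵇ 𝒴) (hj : AlgSt.IsOpenImm j) (h𝒱 : AlgSt.RepByAlgSp 𝒱)
    (G : 𝒰 ⥤ᵇ 𝒱) (e : BasedFunctor.comp G j ≅ BasedFunctor.comp i F) (α : F ⟶ F) (u : 𝒰.obj) :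
    α.app (i.obj u) = 𝟙 (F.obj (i.obj u)) := by
  have h𝒱a : AlgSt.IsAlgStack Scheme.fppfPrecoverage 𝒱 := isAlgStack_of_repByAlgSp h𝒱
  have h𝒱f : IsFibGrpd 𝒱.p := h𝒱a.isStack.1
  have hmono : AlgSt.RepByAlgSpWith (MorphismProperty.monomorphisms (AlgSp.Sp S)) j :=
    repByAlgSpWith_mono j (fun F T π hπ => Groth.Agent.S9928.mono_of_repWith_mono π
      (Groth.Agent.Lib.helper18.repWith_mono (fun _ _ f hf => by
        have : IsOpenImmersion f := hf
        exact (inferInstance : IsImmersion f)) hπ)) hj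
  haveI : j.toFunctor.Full := Groth.Agent.Lib.helper4.AlgStFull.full_of_isMono h𝒱f h𝒴 j hmono
  let ε : j.obj (G.obj u) ≅ F.obj (i.obj u) := appIso e u
  let β : j.obj (G.obj u) ⟶ j.obj (G.obj u) := ε.hom ≫ α.app (i.obj u) ≫ ε.inv
  have hβ : 𝒴.p.map β = 𝟙 _ := by
    show 𝒴.p.map (ε.hom ≫ α.app (i.obj u) ≫ ε.inv) = 𝟙 _
    rw [𝒴.p.map_comp, 𝒴.p.map_comp, p_map_app, Category.id_comp, ← 𝒴.p.map_comp,
      ε.hom_inv_id, 𝒴.p.map_id]
  let γ : G.obj u ⟶ G.obj u := j.toFunctor.preimage β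
  have hγ : j.map γ = β := j.toFunctor.map_preimage β
  have hlift : 𝒴.p.IsHomLift (𝟙 (𝒱.p.obj (G.obj u))) (j.map γ) := by
    rw [hγ]
    exact IsHomLift.of_fac 𝒴.p _ _ (j.w_obj _) (j.w_obj _) (by rw [hβ]; simp)
  haveI : 𝒱.p.IsHomLift (𝟙 (𝒱.p.obj (G.obj u))) γ := BasedFunctor.isHomLift_map j _ γ
  haveI : 𝒱.p.IsHomLift (𝟙 (𝒱.p.obj (G.obj u))) (𝟙 (G.obj u)) := inferInstance
  have hγ1 : γ = 𝟙 _ := Groth.Agent.Lib.helper4.AlgStFaithful.vertical_eq_of_thin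
    (Groth.Agent.Lib.helper4.AlgStFaithful.thin_of_repByAlgSp h𝒱) (V := 𝒱.p.obj (G.obj u)) γ (𝟙 _)
  have hβ1 : β = 𝟙 _ := by rw [← hγ, hγ1]; exact j.toFunctor.map_id _
  have : α.app (i.obj u) = ε.inv ≫ β ≫ ε.hom := by
    show _ = ε.inv ≫ (ε.hom ≫ α.app (i.obj u) ≫ ε.inv) ≫ ε.hom
    simp
  rw [this, hβ1, Category.id_comp, ε.inv_hom_id]

/-- S16338: a 2-endomorphism of a morphism to a DM stack with separated diagonal which is trivial on a dense open
substack is trivial -/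
theorem endTrans_eq_id
    (h𝒳 : AlgSt.IsAlgStack Scheme.fppfPrecoverage 𝒳)
    (h𝒴 : AlgSt.IsDM Scheme.fppfPrecoverage 𝒴)
    (hΔ : AlgSt.RepByAlgSpWith AlgSp.IsSeparatedMor (FibCat.diag (FibCat.toSelf 𝒴)))
    (F : 𝒳 ⥤ᵇ 𝒴) (i : 𝒰 ⥤ᵇ 𝒳) (hdense : Dense (Set.range (AlgSt.Points.map i)))
    (α : F ⟶ F) (hα : ∀ u : 𝒰.obj, α.app (i.obj u) = 𝟙 (F.obj (i.obj u))) :
    ∀ a : 𝒳.obj, α.app a = 𝟙 (F.obj a) := by
  have h𝒴a := h𝒴.1
  have h𝒴f : IsFibGrpd 𝒴.p := h𝒴a.isStack.1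
  have hI : AlgSt.IsAlgStack Scheme.fppfPrecoverage (inertia (toSelf 𝒴)) := isAlgStack_inertia h𝒴a
  have hfp : AlgSt.IsAlgStack Scheme.fppfPrecoverage
      (fp (toI F α h𝒴f) (inertiaNeutral (toSelf 𝒴))) := isAlgStack_fp' h𝒳 h𝒴a hI _ _
  have hνo := isOpenImm_inertiaNeutral h𝒴a (isDMOver_of_isDM h𝒴)
  have hνc := isClosedImm_inertiaNeutral h𝒴a hΔ
  have hπo : AlgSt.IsOpenImm (fpFst (toI F α h𝒴f) (inertiaNeutral (toSelf 𝒴))) :=
    Groth.Agent.Lib.helper4.AlgStDiagBC.repByAlgSpWith_fpFst _ _ _ hνo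
  have hπc : AlgSt.IsClosedImm (fpFst (toI F α h𝒴f) (inertiaNeutral (toSelf 𝒴))) :=
    Groth.Agent.Lib.helper4.AlgStDiagBC.repByAlgSpWith_fpFst _ _ _ hνc
  have hπi : AlgSt.IsImm (fpFst (toI F α h𝒴f) (inertiaNeutral (toSelf 𝒴))) :=
    repByAlgSpWith_mono _ (fun F T c hc => Groth.Agent.Lib.helper18.repWith_mono (fun _ _ f hf => by
      have : IsOpenImmersion f := hf
      exact (inferInstance : IsImmersion f)) hc) hπo
  obtain ⟨hiso, hQalg, -, hP⟩ := essIm_data hfp h𝒳 _ hπi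
  have hQopen : AlgSt.IsOpenSubstack 𝒳
      (essIm (fpFst (toI F α h𝒴f) (inertiaNeutral (toSelf 𝒴)))) Scheme.fppfPrecoverage :=
    ⟨hiso, hQalg, hP _ hπo⟩
  have hclosed : IsClosed (Set.range (AlgSt.Points.map
      (AlgSt.subIncl 𝒳 (essIm (fpFst (toI F α h𝒴f) (inertiaNeutral (toSelf 𝒴))))))) :=
    isClosed_range_of_isClosedImm hQalg h𝒳 _ (hP _ hπc)
  -- objects in the image of `i` lie in the essential image
  have hmem : ∀ u : 𝒰.obj, essIm (fpFst (toI F α h𝒴f) (inertiaNeutral (toSelf 𝒴))) (i.obj u) := by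
    intro u
    let θ : (toI F α h𝒴f).obj (i.obj u) ≅ (inertiaNeutral (toSelf 𝒴)).obj (F.obj (i.obj u)) :=
      Groth.Agent.Lib.helper4.GerbAut.inertiaIsoMk (toSelf 𝒴) (Iso.refl (F.obj (i.obj u))) (by
        show α.app (i.obj u) ≫ 𝟙 _ = 𝟙 _ ≫ 𝟙 _
        rw [hα u])
    have hθ : (inertia (toSelf 𝒴)).p.IsHomLift (𝟙 (𝒳.p.obj (i.obj u))) θ.hom := by
      have h1 : (inertia (toSelf 𝒴)).p.map θ.hom = 𝟙 _ := by
        show 𝒴.p.map (𝟙 (F.obj (i.obj u))) = 𝟙 _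
        exact 𝒴.p.map_id _
      refine IsHomLift.of_fac _ _ _ (F.w_obj _) (F.w_obj _) ?_
      rw [h1]
      simp
    exact ⟨⟨⟨i.obj u, F.obj (i.obj u), θ⟩, hθ⟩, ⟨Iso.refl _⟩⟩
  have hsub : Set.range (AlgSt.Points.map i) ⊆ Set.range (AlgSt.Points.map
      (AlgSt.subIncl 𝒳 (essIm (fpFst (toI F α h𝒴f) (inertiaNeutral (toSelf 𝒴)))))) := by
    rintro _ ⟨q, rfl⟩
    obtain ⟨p, rfl⟩ := AlgSt.Points.mk_surjective q
    let p' : AlgSt.FPt (AlgSt.fullSub 𝒳 (essIm (fpFst (toI F α h𝒴f) (inertiaNeutral (toSelf 𝒴))))) :=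
      { K := p.K, str := p.str, obj := ⟨i.obj p.obj, hmem p.obj⟩, lies := (i.w_obj p.obj).trans p.lies }
    exact ⟨AlgSt.Points.mk p', rfl⟩
  have huniv : Set.range (AlgSt.Points.map
      (AlgSt.subIncl 𝒳 (essIm (fpFst (toI F α h𝒴f) (inertiaNeutral (toSelf 𝒴)))))) = Set.univ := by
    apply Set.eq_univ_of_univ_subset
    rw [← hdense.closure_eq, ← hclosed.closure_eq]
    exact closure_mono hsub
  intro a
  apply app_eq_id_of_essIm F α h𝒴f a
  refine (iff_QT_range h𝒳 _ hQopen a).2 ?_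
  intro p _
  rw [huniv]
  trivial

end Main

end Groth.Agent.Lib.helper4.AlgStEndTrans
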