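import Groth.Agent.Lib.Helper4.AlgStFpAlg
import Groth.Agent.S10544
import Groth.Agent.S10265
import Groth.Agent.S10266
set_option autoImplicit false
set_option backward.isDefEq.respectTransparency false
set_option backward.isDefEq.respectTransparency.types false
set_option linter.unusedSectionVars false
set_option linter.style.haveILetI false
set_option linter.unusedVariables false
open CategoryTheory CategoryTheory.Functor CategoryTheory.Limits Opposite AlgebraicGeometry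
universe u

/-! A stack in groupoids over an algebraic stack whose fibre products with schemes are algebraic is algebraic
(and the Deligne-Mumford variant). -/

namespace Groth.Agent.Lib.helper4.AlgStFibAlg
open Groth.Agent.FibEquiv Groth.Agent.FibYoneda Groth.Agent.FibFpProj Stk FibCat
open Groth.Agent.Lib.helper4.Descent Groth.Agent.Lib.helper4.PshDict Groth.Agent.Lib.helper4.FibPaste
open Groth.Agent.Lib.helper4.AlgStEquiv Groth.Agent.Lib.helper4.PshRep Groth.Agent.Lib.helper4.PshPB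
open Groth.Agent.Lib.helper4.FibSwap Groth.Agent.Lib.helper4.AlgStSetoid Groth.Agent.Lib.helper4.AlgStCoreA
open Groth.Agent.Lib.helper4.AlgStDescent Groth.Agent.Lib.helper4.AlgStSource Groth.Agent.Lib.helper4.AlgStDM
open Groth.Agent.Lib.helper4.AlgStSmLoc Groth.Agent.Lib.helper4.PointsBasic Groth.Agent.Lib.helper4.AlgStRep
open Groth.Agent.Lib.helper4.AlgStPts Groth.Agent.Lib.helper4.AlgStFpAlg
open Groth.Agent.Lib.helper5.LocPBC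
open AlgSt

variable {S : Scheme.{u}}

/-- composition of etale functors representable by algebraic spaces -/
theorem etale_comp {𝒳 𝒴 𝒵 : AlgSt.Cat S} (h𝒳 : IsFibGrpd 𝒳.p) (h𝒴 : IsFibGrpd 𝒴.p) (h𝒵 : IsFibGrpd 𝒵.p)
    (f : 𝒳 ⥤ᵇ 𝒴) (g : 𝒴 ⥤ᵇ 𝒵) (hf : AlgSt.RepByAlgSpWith AlgSp.IsEtaleMor f)
    (hg : AlgSt.RepByAlgSpWith AlgSp.IsEtaleMor g) :
    AlgSt.RepByAlgSpWith AlgSp.IsEtaleMor (BasedFunctor.comp f g) :=
  Groth.Agent.S12780.result h𝒳 h𝒴 h𝒵 AlgSp.IsEtaleMor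
    (fun X₁ Y₁ X₂ Y₂ h1 h2 _ h4 a b a' b' sq ha =>
      Groth.Agent.S10266.isEtaleMor_of_locP_etale h4 a'
        (locP_of_isPullback locPData_etale h1 h2 h4 sq (Groth.Agent.S10265.locP_etale_of_isEtaleMor a ha)))
    (fun X Y Z _ _ _ a b ha hb U φ hφ => by
      rw [← Category.assoc]
      exact hb _ (ha φ hφ))
    (isLocalOnBase_fppf_of_fpqc (Groth.Agent.S10544.result S)) f g hf hg

section Main

variable {K : Precoverage Scheme.{u}} {𝒳 𝒴 : AlgSt.Cat S} (h𝒳 : IsFibGrpd 𝒳.p)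
  (h𝒴 : IsFibGrpd 𝒴.p) (hΔ𝒴 : AlgSt.RepByAlgSp1 (FibCat.diag (toSelf 𝒴))) (f : 𝒳 ⥤ᵇ 𝒴)
  (hf : ∀ (U : Over S) (g : overCat U ⥤ᵇ 𝒴), AlgSt.IsAlgStack K (fp g f))
include h𝒳 h𝒴 hΔ𝒴 hf

/-- every chart of `𝒳` is representable by algebraic spaces -/
theorem repByAlgSp1_chart_of_fib (U : Over S) (x : overCat U ⥤ᵇ 𝒳) : AlgSt.RepByAlgSp1 x := by
  have hΔ := (Groth.Agent.S12765.result h𝒴).1 hΔ𝒴
  have h𝒫 := hf U (BasedFunctor.comp x f)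
  have hΔ𝒫 := (Groth.Agent.S12765.result h𝒫.isStack.1).1 h𝒫.diag
  exact repByAlgSp1_of_section h𝒳 h𝒴 f x (hΔ U _) (hΔ𝒫 U _)

/-- a smooth surjective atlas of `𝒳` -/
theorem hasAtlas_smooth_of_fib (hat : AlgSt.HasAtlas (AlgSp.LocP @Smooth) 𝒴) :
    AlgSt.HasAtlas (AlgSp.LocP @Smooth) 𝒳 := by
  obtain ⟨V, v, hv1, hv2⟩ := hat
  have h𝒫 := hf V v
  obtain ⟨W, w, hw1, hw2⟩ := h𝒫.atlas
  have hV : IsFibGrpd (overCat V).p := Groth.Agent.FibOver.isFibGrpd_overCat V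
  have hW : IsFibGrpd (overCat W).p := Groth.Agent.FibOver.isFibGrpd_overCat W
  have hp1 : AlgSt.RepByAlgSpWith (AlgSp.LocP @Smooth) (fpSnd v f) := repByAlgSpWith_fpSnd h𝒳 h𝒴 hV _ v f hv1
  have hp2 : AlgSt.RepByAlgSpWith AlgSp.IsSurjectiveMor (fpSnd v f) := repByAlgSpWith_fpSnd h𝒳 h𝒴 hV _ v f hv2
  exact ⟨W, BasedFunctor.comp w (fpSnd v f), smooth_comp hW h𝒫.isStack.1 h𝒳 _ _ hw1 hp1,
    surj_comp hW h𝒫.isStack.1 h𝒳 _ _ hw2 hp2⟩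

end Main

/-- S15250 -/
theorem isAlgStack_of_fib {K : Precoverage Scheme.{u}} {𝒳 𝒴 : AlgSt.Cat S}
    (h𝒳 : Stk.IsStack (QuotSh.J K S) 𝒳) (h𝒴 : AlgSt.IsAlgStack K 𝒴) (f : 𝒳 ⥤ᵇ 𝒴)
    (hf : ∀ (U : Over S) (g : overCat U ⥤ᵇ 𝒴), AlgSt.IsAlgStack K (fp g f)) :
    AlgSt.IsAlgStack K 𝒳 :=
  ⟨h𝒳, (Groth.Agent.S12765.result h𝒳.1).2
      (fun U x => repByAlgSp1_chart_of_fib h𝒳.1 h𝒴.isStack.1 h𝒴.diag f hf U x),
    hasAtlas_smooth_of_fib h𝒳.1 h𝒴.isStack.1 h𝒴.diag f hf h𝒴.atlas⟩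

/-- S15251 -/
theorem isDM_of_fib {K : Precoverage Scheme.{u}} {𝒳 𝒴 : AlgSt.Cat S}
    (h𝒳 : Stk.IsStack (QuotSh.J K S) 𝒳) (h𝒴 : AlgSt.IsDM K 𝒴) (f : 𝒳 ⥤ᵇ 𝒴)
    (hf : ∀ (U : Over S) (g : overCat U ⥤ᵇ 𝒴), AlgSt.IsDM K (fp g f)) :
    AlgSt.IsDM K 𝒳 := by
  refine ⟨isAlgStack_of_fib h𝒳 h𝒴.1 f (fun U g => (hf U g).1), ?_⟩
  obtain ⟨V, v, hv1, hv2⟩ := h𝒴.2
  have h𝒫 := hf V v
  obtain ⟨W, w, hw1, hw2⟩ := h𝒫.2
  have hX := h𝒳.1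
  have hY := h𝒴.1.isStack.1
  have hV : IsFibGrpd (overCat V).p := Groth.Agent.FibOver.isFibGrpd_overCat V
  have hW : IsFibGrpd (overCat W).p := Groth.Agent.FibOver.isFibGrpd_overCat W
  have hp1 : AlgSt.RepByAlgSpWith AlgSp.IsEtaleMor (fpSnd v f) := repByAlgSpWith_fpSnd hX hY hV _ v f hv1
  have hp2 : AlgSt.RepByAlgSpWith AlgSp.IsSurjectiveMor (fpSnd v f) := repByAlgSpWith_fpSnd hX hY hV _ v f hv2
  exact ⟨W, BasedFunctor.comp w (fpSnd v f), etale_comp hW h𝒫.1.isStack.1 hX _ _ hw1 hp1,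
    surj_comp hW h𝒫.1.isStack.1 hX _ _ hw2 hp2⟩

end Groth.Agent.Lib.helper4.AlgStFibAlg
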