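import Groth.Agent.Lib.Helper4.AlgStQCOpen
set_option autoImplicit false
set_option backward.isDefEq.respectTransparency false
set_option backward.isDefEq.respectTransparency.types false
set_option linter.unusedSectionVars false
set_option linter.style.haveILetI false
set_option linter.unusedVariables false
open CategoryTheory CategoryTheory.Functor CategoryTheory.Limits Opposite AlgebraicGeometry
universe u

/-! Algebraic stacks with a surjective flat morphism from the spectrum of a field. -/

namespace Groth.Agent.Lib.helper4.AlgStFieldPt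
open Groth.Agent.Lib.helper4.AlgStLocQ
open Groth.Agent.FibEquiv Groth.Agent.FibYoneda FibCat Groth.Agent.Lib.helper4.FibPaste
open Groth.Agent.Lib.helper4.AlgStEquiv Groth.Agent.Lib.helper4.AlgStRep
open Groth.Agent.Lib.helper4.AlgStSetoid Groth.Agent.FibFpProj Groth.Agent.Lib.helper4.FibRep
open Groth.Agent.Lib.helper4.AlgStFpAlg Groth.Agent.Lib.helper4.AlgStDM Groth.Agent.Lib.helper4.AlgStSelf
open Groth.Agent.Lib.helper4.AlgStPts Groth.Agent.Lib.helper4.FibSwap Groth.Agent.Lib.helper4.AlgStSmLoc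
open Groth.Agent.Lib.helper4.AlgStQC Groth.Agent.Lib.helper4.PshDict Groth.Agent.Lib.helper4.PshRep
open Groth.Agent.Lib.helper4.PshPB Groth.Agent.Lib.helper4.AlgStQCMor Groth.Agent.Lib.helper4.PointsBasic
open Groth.Agent.Lib.helper4.AlgStDescent Groth.Agent.Lib.helper4.AlgStCoreA
open Groth.Agent.Lib.helper4.AlgStSource Groth.Agent.Lib.helper4.AlgStGraph
open Groth.Agent.Lib.helper4.SmLocalST Groth.Agent.Lib.helper5.LocPBC
open Groth.Agent.Lib.helper4.AlgStOpenSub Groth.Agent.Lib.helper4.StkSub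
open Stk AlgSt

variable {S : Scheme.{u}}

section Field

variable (k : Type u) [Field k] (a : Spec (CommRingCat.of k) ⟶ S)

/-- the slice of the spectrum of a field has exactly one point -/
instance subsingleton_points_field : Subsingleton (AlgSt.Points (overCat (Over.mk a))) := by
  have : Subsingleton ↥(Over.mk a).left := by
    change Subsingleton (PrimeSpectrum k); infer_instance
  exact (slicePt (Over.mk a)).subsingleton

instance nonempty_points_field : Nonempty (AlgSt.Points (overCat (Over.mk a))) := by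
  have : Nonempty ↥(Over.mk a).left := by
    change Nonempty (PrimeSpectrum k); infer_instance
  exact (slicePt (Over.mk a)).nonempty

/-- every morphism from an algebraic stack to the spectrum of a field is flat -/
theorem locQ_flat_to_field {𝒲 : AlgSt.Cat S} (h𝒲 : AlgSt.IsAlgStack Scheme.fppfPrecoverage 𝒲)
    (g : 𝒲 ⥤ᵇ overCat (Over.mk a)) : AlgSt.LocQ (AlgSp.LocP @Flat) g := by
  obtain ⟨U, x, hx, hxs⟩ := h𝒲.atlas
  obtain ⟨h, ⟨α⟩⟩ := exists_overMap_iso (BasedFunctor.comp x g)
  refine ⟨U, Over.mk a, x, BasedFunctor.id _, h, α, hx, hxs, smooth_id_overCat _, ?_⟩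
  apply locP_yon_map_of locPData_flat
  have h1 : Subsingleton ↥(Over.mk a).left := by
    change Subsingleton (PrimeSpectrum k); infer_instance
  have h2 : IsIntegral (Over.mk a).left := by
    change IsIntegral (Spec (CommRingCat.of k)); infer_instance
  change Flat h.left
  infer_instance

end Field

section Main

variable {𝒵 : AlgSt.Cat S} (h𝒵 : AlgSt.IsAlgStack Scheme.fppfPrecoverage 𝒵)
  (k : Type u) [Field k] (a : Spec (CommRingCat.of k) ⟶ S)
  (z : overCat (Over.mk a) ⥤ᵇ 𝒵)
include h𝒵

/-- a stack with a surjective morphism from the spectrum of a field has at most one point -/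
theorem subsingleton_points (hzs : AlgSt.RepByAlgSpWith AlgSp.IsSurjectiveMor z) :
    Subsingleton (AlgSt.Points 𝒵) := by
  have hs : AlgSt.IsSurjective z := isSurjective_of_repByAlgSpWith h𝒵.isStack.1 z hzs
  exact hs.subsingleton

/-- S16804 -/
theorem surjective_flat_fieldPt (hzs : AlgSt.RepByAlgSpWith AlgSp.IsSurjectiveMor z)
    (hzf : AlgSt.RepByAlgSpWith (AlgSp.LocP @Flat) z)
    (k' : Type u) [Field k'] (a' : Spec (CommRingCat.of k') ⟶ S)
    (z' : overCat (Over.mk a') ⥤ᵇ 𝒵) :
    AlgSt.RepByAlgSpWith AlgSp.IsSurjectiveMor z' ∧ AlgSt.RepByAlgSpWith (AlgSp.LocP @Flat) z' := by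
  have hK : AlgSt.IsAlgStack Scheme.fppfPrecoverage (overCat (Over.mk a)) := isAlgStack_overCat _
  have hK' : AlgSt.IsAlgStack Scheme.fppfPrecoverage (overCat (Over.mk a')) := isAlgStack_overCat _
  have hz'1 : AlgSt.RepByAlgSp1 z' :=
    Groth.Agent.Lib.helper4.AlgStDiag.repByAlgSp1_of_diag h𝒵.diag _ z'
  have hs : AlgSt.IsSurjective z := isSurjective_of_repByAlgSpWith h𝒵.isStack.1 z hzs
  have hsub : Subsingleton (AlgSt.Points 𝒵) := subsingleton_points h𝒵 k a z hzs
  have hs' : AlgSt.IsSurjective z' := by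
    intro w
    obtain ⟨p⟩ := nonempty_points_field k' a'
    exact ⟨p, Subsingleton.elim _ _⟩
  refine ⟨repByAlgSpWith_of_isSurjective hK'.isStack.1 h𝒵.isStack.1 z' hz'1 hs', ?_⟩
  have hzq : AlgSt.LocQ (AlgSp.LocP @Flat) z := locQ_locP_of_repByAlgSpWith hK h𝒵 z locPData_flat hzf
  have hfp : AlgSt.IsAlgStack Scheme.fppfPrecoverage (fp z z') := isAlgStack_fp' hK hK' h𝒵 z z'
  have hpr : AlgSt.LocQ (AlgSp.LocP @Flat) (fpFst z z') := locQ_flat_to_field k a hfp _
  have hq : AlgSt.LocQ (AlgSp.LocP @Flat) z' := locQ_flat_of_fpFst hK' h𝒵 hK z' z hzq hs hpr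
  exact (locQ_iff_repByAlgSpWith hK' h𝒵 z' _ isSmoothLocalST_flat
    (fun X₁ Y₁ X₂ Y₂ h1 h2 _ h4 a b a' b' sq ha => locP_of_isPullback locPData_flat h1 h2 h4 sq ha)
    hz'1).1 hq

end Main

end Groth.Agent.Lib.helper4.AlgStFieldPt
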