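import Groth.Agent.Lib.Helper4.AlgStLocQ2
import Groth.Agent.Lib.Helper5.AlgSpLargestOpen
import Groth.Agent.S0116
import Groth.Agent.Lib.Helper5.AlgSpLocPInst
set_option autoImplicit false
set_option backward.isDefEq.respectTransparency false
set_option backward.isDefEq.respectTransparency.types false
set_option linter.unusedSectionVars false
set_option linter.style.haveILetI false
set_option linter.unusedVariables false
open CategoryTheory CategoryTheory.Functor CategoryTheory.Limits Opposite AlgebraicGeometry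
universe u

/-! `AlgSt.LocQ` for concrete properties: immersions, locally Noetherian targets. -/

namespace Groth.Agent.Lib.helper4.AlgStLocQ
open Groth.Agent.FibEquiv Groth.Agent.FibYoneda FibCat Groth.Agent.Lib.helper4.FibPaste
open Groth.Agent.Lib.helper4.AlgStEquiv Groth.Agent.Lib.helper4.AlgStRep
open Groth.Agent.Lib.helper4.AlgStSetoid Groth.Agent.FibFpProj Groth.Agent.Lib.helper4.FibRep
open Groth.Agent.Lib.helper4.AlgStFpAlg Groth.Agent.Lib.helper4.AlgStDM Groth.Agent.Lib.helper4.AlgStSelf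
open Groth.Agent.Lib.helper4.AlgStPts Groth.Agent.Lib.helper4.FibSwap Groth.Agent.Lib.helper4.AlgStSmLoc
open Groth.Agent.Lib.helper4.AlgStQC Groth.Agent.Lib.helper4.PshDict Groth.Agent.Lib.helper4.PshRep
open Groth.Agent.Lib.helper4.PshPB Groth.Agent.Lib.helper4.AlgStQCMor Groth.Agent.Lib.helper4.PointsBasic
open Groth.Agent.Lib.helper4.AlgStDescent Groth.Agent.Lib.helper4.AlgStCoreA
open Groth.Agent.Lib.helper4.AlgStSource Groth.Agent.Lib.helper4.AlgStGraph
open Stk AlgSt

variable {S : Scheme.{u}}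

/-- a representable morphism with `Q` has, on etale charts, every property that contains etale-followed-by-`Q` -/
theorem locP_of_repWith {Q Q' : MorphismProperty Scheme.{u}}
    (hQQ : ∀ {X Y Z : Scheme.{u}} (e : X ⟶ Y) (g : Y ⟶ Z), Etale e → Q g → Q' (e ≫ g))
    {F G : AlgSp.Sp S} (c : F ⟶ G) (hc : AlgSp.RepWith Q c) : AlgSp.LocP Q' c := by
  intro U V a b h ha hb hsq
  obtain ⟨W, snd, fst, sq⟩ := hc.1 b
  have hQ : Q snd.left := hc.2 _ _ _ sq
  have hu1 : sq.lift a ((AlgSp.yon S).map h) hsq ≫ fst = a := sq.lift_fst _ _ _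
  have hu2 : sq.lift a ((AlgSp.yon S).map h) hsq ≫ (AlgSp.yon S).map snd = (AlgSp.yon S).map h :=
    sq.lift_snd _ _ _
  obtain ⟨u', hu'⟩ := (AlgSp.yon S).map_surjective (sq.lift a ((AlgSp.yon S).map h) hsq)
  rw [← hu'] at hu1 hu2
  have hfst : AlgSp.RepWith @Etale fst := MorphismProperty.of_isPullback sq.flip hb
  have hu'e : Etale u'.left := by
    have h1 : AlgSp.IsEtaleMor fst := fun U φ hφ => (AlgSp.RepWith (S := S) @Etale).comp_mem _ _ hφ hfst
    have h0 : AlgSp.IsEtaleMor a := fun U φ hφ => (AlgSp.RepWith (S := S) @Etale).comp_mem _ _ hφ ha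
    have h2 : AlgSp.LocP @Etale ((AlgSp.yon S).map u' ≫ fst) := by
      rw [hu1]
      exact Groth.Agent.S10265.locP_etale_of_isEtaleMor a h0
    have h3 := Groth.Agent.Lib.helper5.SmLocal.locP_of_comp_isEtaleMor _ _ h1 h2
    exact AlgSp.locP_yon_map h3
  have hh : h = u' ≫ snd := (AlgSp.yon S).map_injective (by rw [Functor.map_comp]; exact hu2.symm)
  rw [hh]
  exact hQQ _ _ hu'e hQ

section Imm

variable {𝒳 𝒴 : AlgSt.Cat S} (h𝒳 : AlgSt.IsAlgStack Scheme.fppfPrecoverage 𝒳)
  (h𝒴 : AlgSt.IsAlgStack Scheme.fppfPrecoverage 𝒴) (f : 𝒳 ⥤ᵇ 𝒴)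
include h𝒳 h𝒴

/-- S12996 -/
theorem locQ_lft_of_isImm (h : AlgSt.IsImm f) : AlgSt.LocQ (AlgSp.LocP @LocallyOfFiniteType) f := by
  apply locQ_locP_of_repByAlgSpWith h𝒳 h𝒴 f Groth.Agent.Lib.helper5.LocPBC.locPData_lft
  refine Groth.Agent.Lib.helper4.AlgStCancel.repByAlgSpWith_mono f ?_ h
  intro F G c hc
  refine locP_of_repWith (Q := @IsImmersion) ?_ c hc
  intro X Y Z e g he hg
  have : Etale e := he
  have : IsImmersion g := hg
  exact inferInstanceAs (LocallyOfFiniteType (e ≫ g))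

/-- S12997 -/
theorem locQ_lfp_of_isOpenImm (h : AlgSt.IsOpenImm f) :
    AlgSt.LocQ (AlgSp.LocP @LocallyOfFinitePresentation) f := by
  apply locQ_locP_of_repByAlgSpWith h𝒳 h𝒴 f Groth.Agent.Lib.helper5.LocPBC.locPData_lfp
  refine Groth.Agent.Lib.helper4.AlgStCancel.repByAlgSpWith_mono f ?_ h
  intro F G c hc
  refine locP_of_repWith (Q := @IsOpenImmersion) ?_ c hc
  intro X Y Z e g he hg
  have : Etale e := he
  have : IsOpenImmersion g := hg
  exact inferInstanceAs (LocallyOfFinitePresentation (e ≫ g))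

/-- a smooth surjective chart with `P` gives `P` smooth locally, for `P` ascending and descending along smooth
(surjective) morphisms -/
theorem smoothLocally_of_chart' {P : Scheme.{u} → Prop}
    (h1 : ∀ {U V : Scheme.{u}} (g : V ⟶ U) [Smooth g], P U → P V)
    (h2 : ∀ {U V : Scheme.{u}} (g : V ⟶ U) [Smooth g] [Surjective g], P V → P U) {U : Over S}
    (x : overCat U ⥤ᵇ 𝒳) (hx : AlgSt.RepByAlgSpWith (AlgSp.LocP @Smooth) x)
    (hxs : AlgSt.RepByAlgSpWith AlgSp.IsSurjectiveMor x) (hU : P U.left) : AlgSt.SmoothLocally P 𝒳 := by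
  intro V x' hx'
  obtain ⟨W, a, b, ha, hb, hs⟩ := exists_common_chart x x' hx hx'
  have hbs : Surjective b.left := hs hxs
  exact h2 b.left (h1 a.left hU)

/-- S12998 -/
theorem smoothLocally_isLocallyNoetherian (h : AlgSt.LocQ (AlgSp.LocP @LocallyOfFiniteType) f)
    (hN : AlgSt.SmoothLocally (fun T ↦ IsLocallyNoetherian T) 𝒴) :
    AlgSt.SmoothLocally (fun T ↦ IsLocallyNoetherian T) 𝒳 := by
  obtain ⟨U, V, x, y, k, α, hx, hxs, hy, hk⟩ := h
  have hV : IsLocallyNoetherian V.left := hN V y hy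
  have hk' : LocallyOfFiniteType k.left := AlgSp.locP_yon_map hk
  have hU : IsLocallyNoetherian U.left := LocallyOfFiniteType.isLocallyNoetherian k.left
  refine smoothLocally_of_chart' h𝒳 h𝒴 (P := fun T ↦ IsLocallyNoetherian T) ?_ ?_ x hx hxs hU
  · intro U V g _ hU
    have : IsLocallyNoetherian U := hU
    exact LocallyOfFiniteType.isLocallyNoetherian g
  · intro U V g _ _ hV
    have : IsLocallyNoetherian V := hV
    exact Groth.Agent.S0116.result g

/-- S12999 -/
theorem locQ_lfp_of_locallyNoetherian (hN : AlgSt.SmoothLocally (fun T ↦ IsLocallyNoetherian T) 𝒴)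
    (h : AlgSt.LocQ (AlgSp.LocP @LocallyOfFiniteType) f) :
    AlgSt.LocQ (AlgSp.LocP @LocallyOfFinitePresentation) f := by
  obtain ⟨U, V, x, y, k, α, hx, hxs, hy, hk⟩ := h
  have hV : IsLocallyNoetherian V.left := hN V y hy
  have hk' : LocallyOfFiniteType k.left := AlgSp.locP_yon_map hk
  have hk'' : LocallyOfFinitePresentation k.left := inferInstance
  exact ⟨U, V, x, y, k, α, hx, hxs, hy,
    locP_yon_map_of Groth.Agent.Lib.helper5.LocPBC.locPData_lfp k hk''⟩

end Imm

end Groth.Agent.Lib.helper4.AlgStLocQ
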