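import Groth.Agent.Lib.Helper4.AlgStFieldPt
import Groth.Agent.Lib.Helper4.AlgStLocQ3
import Groth.Agent.Lib.Helper1.SmoothReduced
set_option autoImplicit false
set_option backward.isDefEq.respectTransparency false
set_option backward.isDefEq.respectTransparency.types false
set_option linter.unusedSectionVars false
set_option linter.style.haveILetI false
set_option linter.unusedVariables false
open CategoryTheory CategoryTheory.Functor CategoryTheory.Limits Opposite AlgebraicGeometry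
universe u

/-! Algebraic stacks with a surjective flat morphism from the spectrum of a field, II: reducedness,
charts dominating two representable morphisms, field points of a smooth atlas (helper4). -/

namespace Groth.Agent.Lib.helper4.AlgStFieldPt
open Groth.Agent.Lib.helper4.AlgStLocQ
open Groth.Agent.FibEquiv Groth.Agent.FibYoneda FibCat Groth.Agent.Lib.helper4.FibPaste
open Groth.Agent.Lib.helper4.AlgStEquiv Groth.Agent.Lib.helper4.AlgStRep
open Groth.Agent.Lib.helper4.AlgStSetoid Groth.Agent.FibFpProj Groth.Agent.Lib.helper4.FibRep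
open Groth.Agent.Lib.helper4.AlgStFpAlg Groth.Agent.Lib.helper4.AlgStDM Groth.Agent.Lib.helper4.AlgStSelf
open Groth.Agent.Lib.helper4.AlgStPts Groth.Agent.Lib.helper4.FibSwap Groth.Agent.Lib.helper4.AlgStSmLoc
open Groth.Agent.Lib.helper4.AlgStQC Groth.Agent.Lib.helper4.PshDict Groth.Agent.Lib.helper4.PshRep
open Groth.Agent.Lib.helper4.PshPB Groth.Agent.Lib.helper4.AlgStQCMor Groth.Agent.Lib.helper4.PointsBasic
open Groth.Agent.Lib.helper4.AlgStDescent Groth.Agent.Lib.helper4.AlgStCoreA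
open Groth.Agent.Lib.helper4.AlgStSource Groth.Agent.Lib.helper4.AlgStGraph
open Groth.Agent.Lib.helper4.SmLocalST Groth.Agent.Lib.helper5.LocPBC
open Groth.Agent.Lib.helper4.AlgStOpenSub Groth.Agent.Lib.helper4.StkSub
open Stk AlgSt

variable {S : Scheme.{u}}

/-- two charts of a category over `(Sch/S)`, representable by algebraic spaces with properties `P₁`, `P₂`, are
dominated by a common scheme -/
theorem exists_common_chart_gen {𝒳 : AlgSt.Cat S} {U V : Over S} (P₁ P₂ : MorphismProperty Scheme.{u})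
    (x : overCat U ⥤ᵇ 𝒳) (x' : overCat V ⥤ᵇ 𝒳)
    (hx : AlgSt.RepByAlgSpWith (AlgSp.LocP P₁) x) (hx' : AlgSt.RepByAlgSpWith (AlgSp.LocP P₂) x') :
    ∃ (W : Over S) (a : W ⟶ U) (b : W ⟶ V), P₂ a.left ∧ P₁ b.left ∧
      (AlgSt.RepByAlgSpWith AlgSp.IsSurjectiveMor x → Surjective b.left) := by
  obtain ⟨F, e, he, hF⟩ := hx V x'
  obtain ⟨F', e', he', hF'⟩ := hx' U x
  obtain ⟨j, hj⟩ := change_rep (fpFst x x') (BasedFunctor.comp e (fpSwap x' x)) e'
    (isEquivOver_comp _ _ he (fpSwap_isEquivOver x' x)) he'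
  have hFU : AlgSp.LocP P₂
      (AlgSt.spMapOfOver (BasedFunctor.comp (BasedFunctor.comp e (fpSwap x' x)) (fpFst x x'))) := by
    rw [hj]; exact locP_iso_comp j _ hF'
  obtain ⟨W, p, hp1, hp2⟩ := F.property.atlas
  obtain ⟨a, ha⟩ := (AlgSp.yon S).map_surjective
    (p ≫ AlgSt.spMapOfOver (BasedFunctor.comp (BasedFunctor.comp e (fpSwap x' x)) (fpFst x x')))
  obtain ⟨b, hb⟩ := (AlgSp.yon S).map_surjective
    (p ≫ AlgSt.spMapOfOver (BasedFunctor.comp e (fpFst x' x)))
  refine ⟨W, a, b, ?_, ?_, ?_⟩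
  · exact hFU p (𝟙 _) a hp1 (AlgSp.repWith_id _ U) (by rw [ha, Category.comp_id])
  · exact hF p (𝟙 _) b hp1 (AlgSp.repWith_id _ V) (by rw [hb, Category.comp_id])
  · intro hxs
    obtain ⟨F₂, e₂, he₂, hs⟩ := hxs V x'
    obtain ⟨j₂, hj₂⟩ := change_rep (fpFst x' x) e e₂ he he₂
    apply surjective_of_isSurjectiveMor
    rw [hb, hj₂]
    intro z
    obtain ⟨y, hy⟩ := isSurjectiveMor_iso_comp j₂ _ hs z
    obtain ⟨w, hw⟩ := Groth.Agent.Lib.helper5.surjective_map_of_repWith_surjective p hp2 y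
    exact ⟨w, by rw [AlgSp.Points.map_comp, hw, hy]⟩

/-- reducedness descends along flat surjective morphisms of schemes -/
theorem isReduced_of_flat_surjective {X Y : Scheme.{u}} (f : X ⟶ Y) [Flat f] [Surjective f] [IsReduced X] :
    IsReduced Y := by
  have : ∀ y : Y, _root_.IsReduced (Y.presheaf.stalk y) := by
    intro y
    obtain ⟨x, rfl⟩ := f.surjective y
    have hfl : (f.stalkMap x).hom.Flat := Flat.stalkMap f x
    algebraize [(f.stalkMap x).hom]
    have : IsLocalHom (algebraMap (Y.presheaf.stalk (f x)) (X.presheaf.stalk x)) :=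
      inferInstanceAs (IsLocalHom (f.stalkMap x).hom)
    have : Module.FaithfullyFlat (Y.presheaf.stalk (f x)) (X.presheaf.stalk x) :=
      Module.FaithfullyFlat.of_flat_of_isLocalHom
    exact isReduced_of_injective (f.stalkMap x).hom
      (FaithfulSMul.algebraMap_injective (Y.presheaf.stalk (f x)) (X.presheaf.stalk x))
  exact isReduced_of_isReduced_stalk Y

/-- the localization of a reduced ring at a minimal prime is a field -/
theorem isField_localization_minimalPrime (A : Type u) [CommRing A] [IsReduced A] (p : Ideal A) [p.IsPrime]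
    (hp : p ∈ minimalPrimes A) : IsField (Localization.AtPrime p) := by
  rw [IsLocalRing.isField_iff_maximalIdeal_eq]
  have h := IsLocalization.AtPrime.radical_map_of_mem_minimalPrimes (A := Localization.AtPrime p) p ⊥ hp
  rw [Ideal.map_bot, IsLocalization.AtPrime.map_eq_maximalIdeal p (Localization.AtPrime p)] at h
  rw [← h]
  exact nilradical_eq_zero _

/-- a nonempty reduced scheme receives a flat morphism from the spectrum of a field -/
theorem exists_flat_field_point (U : Scheme.{u}) [IsReduced U] [Nonempty U] :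
    ∃ (k : Type u) (_ : Field k) (h : Spec (CommRingCat.of k) ⟶ U), Flat h := by
  obtain ⟨u⟩ := ‹Nonempty U›
  obtain ⟨V, hV, huV, -⟩ := exists_isAffineOpen_mem_and_subset (x := u) (U := ⊤) trivial
  have hne : Nontrivial Γ(U, V) := by
    have : Nonempty V := ⟨⟨u, huV⟩⟩
    exact (inferInstance : Nontrivial Γ(U, V))
  obtain ⟨m, hm⟩ := Ideal.exists_maximal Γ(U, V)
  obtain ⟨p, hp, -⟩ := Ideal.exists_minimalPrimes_le (I := ⊥) (J := m) bot_le
  haveI : p.IsPrime := hp.1.1
  have hf : IsField (Localization.AtPrime p) := isField_localization_minimalPrime _ p hp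
  letI : Field (Localization.AtPrime p) := hf.toField
  refine ⟨Localization.AtPrime p, inferInstance,
    Spec.map (CommRingCat.ofHom (algebraMap Γ(U, V) (Localization.AtPrime p))) ≫ hV.fromSpec, ?_⟩
  have h1 : Flat (Spec.map (CommRingCat.ofHom (algebraMap Γ(U, V) (Localization.AtPrime p)))) := by
    rw [Flat.SpecMap_iff]
    change (algebraMap Γ(U, V) (Localization.AtPrime p)).Flat
    rw [RingHom.flat_algebraMap_iff]
    exact IsLocalization.flat _ p.primeCompl
  infer_instance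

/-- a nonempty scheme receives a morphism locally of finite type from the spectrum of a field -/
theorem exists_lft_field_point (U : Scheme.{u}) [Nonempty U] :
    ∃ (k : Type u) (_ : Field k) (h : Spec (CommRingCat.of k) ⟶ U), LocallyOfFiniteType h := by
  obtain ⟨u⟩ := ‹Nonempty U›
  obtain ⟨V, hV, huV, -⟩ := exists_isAffineOpen_mem_and_subset (x := u) (U := ⊤) trivial
  have hne : Nontrivial Γ(U, V) := by
    have : Nonempty V := ⟨⟨u, huV⟩⟩
    exact (inferInstance : Nontrivial Γ(U, V))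
  obtain ⟨m, hm⟩ := Ideal.exists_maximal Γ(U, V)
  letI : Field (Γ(U, V) ⧸ m) := Ideal.Quotient.field m
  refine ⟨Γ(U, V) ⧸ m, inferInstance,
    Spec.map (CommRingCat.ofHom (Ideal.Quotient.mk m)) ≫ hV.fromSpec, ?_⟩
  have h1 : IsClosedImmersion (Spec.map (CommRingCat.ofHom (Ideal.Quotient.mk m))) :=
    IsClosedImmersion.spec_of_surjective _ Ideal.Quotient.mk_surjective
  infer_instance

/-- a morphism of schemes with a smooth-local property followed by a smooth chart of an algebraic stack has the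
property -/
theorem repByAlgSpWith_overMap_comp {𝒵 : AlgSt.Cat S} (h𝒵 : AlgSt.IsAlgStack Scheme.fppfPrecoverage 𝒵)
    {U W : Over S} (x : overCat U ⥤ᵇ 𝒵) (hx : AlgSt.RepByAlgSpWith (AlgSp.LocP @Smooth) x) (g : W ⟶ U)
    {P₀ : MorphismProperty Scheme.{u}} (hP₀ : LocPData P₀) (hST : AlgSp.IsSmoothLocalST (S := S) (AlgSp.LocP P₀))
    (hg : P₀ g.left) : AlgSt.RepByAlgSpWith (AlgSp.LocP P₀) (BasedFunctor.comp (AlgSt.overMap g) x) := by
  have hW : AlgSt.IsAlgStack Scheme.fppfPrecoverage (overCat W) := isAlgStack_overCat _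
  have hz1 : AlgSt.RepByAlgSp1 (BasedFunctor.comp (AlgSt.overMap g) x) :=
    Groth.Agent.Lib.helper4.AlgStDiag.repByAlgSp1_of_diag h𝒵.diag _ _
  have hq : AlgSt.LocQ (AlgSp.LocP P₀) (BasedFunctor.comp (AlgSt.overMap g) x) :=
    ⟨W, U, BasedFunctor.id _, x, g, Iso.refl _, smooth_id_overCat _, surj_id_overCat _, hx,
      locP_yon_map_of hP₀ g hg⟩
  exact (locQ_iff_repByAlgSpWith hW h𝒵 _ _ hST
    (fun X₁ Y₁ X₂ Y₂ h1 h2 _ h4 a b a' b' sq ha => locP_of_isPullback hP₀ h1 h2 h4 sq ha) hz1).1 hq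

section TFAE

variable {𝒵 : AlgSt.Cat S} (h𝒵 : AlgSt.IsAlgStack Scheme.fppfPrecoverage 𝒵)
include h𝒵

/-- a reduced algebraic stack with exactly one point receives a surjective flat morphism from the spectrum of a
field -/
theorem exists_flat_fieldPt_of_reduced (hred : AlgSt.SmoothLocally (fun T => IsReduced T) 𝒵)
    (hne : Nonempty (AlgSt.Points 𝒵)) (hsub : Subsingleton (AlgSt.Points 𝒵)) :
    ∃ (k : Type u) (_ : Field k) (a : Spec (CommRingCat.of k) ⟶ S)
      (z : FibCat.overCat (Over.mk a) ⥤ᵇ 𝒵), AlgSt.RepByAlgSpWith AlgSp.IsSurjectiveMor z ∧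
        AlgSt.RepByAlgSpWith (AlgSp.LocP @Flat) z := by
  obtain ⟨U, x, hx, hxs⟩ := h𝒵.atlas
  have hU : IsReduced U.left := hred U x hx
  have hxS : AlgSt.IsSurjective x := isSurjective_of_repByAlgSpWith h𝒵.isStack.1 x hxs
  have hUne : Nonempty ↥U.left := by
    obtain ⟨p⟩ := hne
    obtain ⟨q, -⟩ := hxS p
    exact ⟨slicePt U q⟩
  obtain ⟨k, inst, h, hfl⟩ := exists_flat_field_point U.left
  letI : Field k := inst
  let a : Spec (CommRingCat.of k) ⟶ S := h ≫ U.hom
  let g : Over.mk a ⟶ U := Over.homMk h rfl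
  let z : overCat (Over.mk a) ⥤ᵇ 𝒵 := BasedFunctor.comp (AlgSt.overMap g) x
  have hzf : AlgSt.RepByAlgSpWith (AlgSp.LocP @Flat) z :=
    repByAlgSpWith_overMap_comp h𝒵 x hx g locPData_flat isSmoothLocalST_flat hfl
  have hK : AlgSt.IsAlgStack Scheme.fppfPrecoverage (overCat (Over.mk a)) := isAlgStack_overCat _
  have hz1 : AlgSt.RepByAlgSp1 z := Groth.Agent.Lib.helper4.AlgStDiag.repByAlgSp1_of_diag h𝒵.diag _ z
  have hs' : AlgSt.IsSurjective z := by
    intro w
    obtain ⟨p⟩ := nonempty_points_field k a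
    exact ⟨p, Subsingleton.elim _ _⟩
  exact ⟨k, inst, a, z, repByAlgSpWith_of_isSurjective hK.isStack.1 h𝒵.isStack.1 z hz1 hs', hzf⟩

/-- an algebraic stack with a point receives a morphism locally of finite type from the spectrum of a field -/
theorem exists_lft_fieldPt (hne : Nonempty (AlgSt.Points 𝒵)) :
    ∃ (k : Type u) (_ : Field k) (a : Spec (CommRingCat.of k) ⟶ S)
      (z : FibCat.overCat (Over.mk a) ⥤ᵇ 𝒵), AlgSt.RepByAlgSpWith (AlgSp.LocP @LocallyOfFiniteType) z := by
  obtain ⟨U, x, hx, hxs⟩ := h𝒵.atlas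
  have hxS : AlgSt.IsSurjective x := isSurjective_of_repByAlgSpWith h𝒵.isStack.1 x hxs
  have hUne : Nonempty ↥U.left := by
    obtain ⟨p⟩ := hne
    obtain ⟨q, -⟩ := hxS p
    exact ⟨slicePt U q⟩
  obtain ⟨k, inst, h, hlft⟩ := exists_lft_field_point U.left
  letI : Field k := inst
  let a : Spec (CommRingCat.of k) ⟶ S := h ≫ U.hom
  let g : Over.mk a ⟶ U := Over.homMk h rfl
  exact ⟨k, inst, a, BasedFunctor.comp (AlgSt.overMap g) x,
    repByAlgSpWith_overMap_comp h𝒵 x hx g locPData_lft isSmoothLocalST_lft hlft⟩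

/-- a stack with a surjective flat morphism from the spectrum of a field is reduced -/
theorem smoothLocally_isReduced_of_fieldPt (k : Type u) [Field k] (a : Spec (CommRingCat.of k) ⟶ S)
    (z : overCat (Over.mk a) ⥤ᵇ 𝒵) (hzs : AlgSt.RepByAlgSpWith AlgSp.IsSurjectiveMor z)
    (hzf : AlgSt.RepByAlgSpWith (AlgSp.LocP @Flat) z) :
    AlgSt.SmoothLocally (fun T => IsReduced T) 𝒵 := by
  intro U' x' hx'
  obtain ⟨W, a', b, ha, hb, hs⟩ := exists_common_chart_gen @Flat @Smooth z x' hzf hx'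
  have hbs : Surjective b.left := hs hzs
  have hsm : Smooth a'.left := ha
  have hbf : Flat b.left := hb
  have hk : IsReduced (Over.mk a).left := by
    change IsReduced (Spec (CommRingCat.of k)); infer_instance
  have hW : IsReduced W.left := Groth.Agent.H1.SmoothReduced.isReduced_of_smooth a'.left
  exact isReduced_of_flat_surjective b.left

/-- S16805 -/
theorem tfae_fieldPt :
    [AlgSt.SmoothLocally (fun T => IsReduced T) 𝒵 ∧ Nonempty (AlgSt.Points 𝒵) ∧ Subsingleton (AlgSt.Points 𝒵),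
      ∃ (k : Type u) (_ : Field k) (a : Spec (CommRingCat.of k) ⟶ S)
        (z : FibCat.overCat (Over.mk a) ⥤ᵇ 𝒵), AlgSt.RepByAlgSpWith AlgSp.IsSurjectiveMor z ∧ AlgSt.RepByAlgSpWith (AlgSp.LocP @Flat) z,
      ∃ (k : Type u) (_ : Field k) (a : Spec (CommRingCat.of k) ⟶ S)
        (z : FibCat.overCat (Over.mk a) ⥤ᵇ 𝒵), AlgSt.RepByAlgSpWith (AlgSp.LocP @LocallyOfFiniteType) z ∧
          AlgSt.RepByAlgSpWith AlgSp.IsSurjectiveMor z ∧ AlgSt.RepByAlgSpWith (AlgSp.LocP @Flat) z].TFAE := by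
  tfae_have 1 → 2 := fun ⟨h1, h2, h3⟩ => exists_flat_fieldPt_of_reduced h𝒵 h1 h2 h3
  tfae_have 3 → 2 := fun ⟨k, inst, a, z, _, h2, h3⟩ => ⟨k, inst, a, z, h2, h3⟩
  tfae_have 2 → 3 := by
    rintro ⟨k, inst, a, z, hzs, hzf⟩
    letI : Field k := inst
    have hne : Nonempty (AlgSt.Points 𝒵) := by
      obtain ⟨p⟩ := nonempty_points_field k a
      exact ⟨AlgSt.Points.map z p⟩
    obtain ⟨k', inst', a', z', hz'⟩ := exists_lft_fieldPt h𝒵 hne
    letI : Field k' := inst'
    obtain ⟨h1, h2⟩ := surjective_flat_fieldPt h𝒵 k a z hzs hzf k' a' z'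
    exact ⟨k', inst', a', z', hz', h1, h2⟩
  tfae_have 2 → 1 := by
    rintro ⟨k, inst, a, z, hzs, hzf⟩
    letI : Field k := inst
    refine ⟨smoothLocally_isReduced_of_fieldPt h𝒵 k a z hzs hzf, ?_, subsingleton_points h𝒵 k a z hzs⟩
    obtain ⟨p⟩ := nonempty_points_field k a
    exact ⟨AlgSt.Points.map z p⟩
  tfae_finish

end TFAE

end Groth.Agent.Lib.helper4.AlgStFieldPt
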