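import Groth.Agent.Lib.Helper4.AlgStFieldPt2
set_option autoImplicit false
set_option backward.isDefEq.respectTransparency false
set_option backward.isDefEq.respectTransparency.types false
set_option linter.unusedSectionVars false
set_option linter.style.haveILetI false
set_option linter.unusedVariables false
open CategoryTheory CategoryTheory.Functor CategoryTheory.Limits Opposite AlgebraicGeometry
universe u

/-! Algebraic stacks with a surjective, flat, locally finitely presented morphism from the spectrum of a field are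
the reduced, locally Noetherian algebraic stacks with exactly one point (helper4). -/

namespace Groth.Agent.Lib.helper4.AlgStFieldPt
open Groth.Agent.Lib.helper4.AlgStLocQ
open Groth.Agent.FibEquiv Groth.Agent.FibYoneda FibCat Groth.Agent.Lib.helper4.FibPaste
open Groth.Agent.Lib.helper4.AlgStEquiv Groth.Agent.Lib.helper4.AlgStRep
open Groth.Agent.Lib.helper4.AlgStSetoid Groth.Agent.FibFpProj Groth.Agent.Lib.helper4.FibRep
open Groth.Agent.Lib.helper4.AlgStFpAlg Groth.Agent.Lib.helper4.AlgStDM Groth.Agent.Lib.helper4.AlgStSelf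
open Groth.Agent.Lib.helper4.AlgStPts Groth.Agent.Lib.helper4.FibSwap Groth.Agent.Lib.helper4.AlgStSmLoc
open Groth.Agent.Lib.helper4.AlgStQC Groth.Agent.Lib.helper4.PshDict Groth.Agent.Lib.helper4.PshRep
open Groth.Agent.Lib.helper4.PshPB Groth.Agent.Lib.helper4.AlgStQCMor Groth.Agent.Lib.helper4.PointsBasic
open Groth.Agent.Lib.helper4.AlgStDescent Groth.Agent.Lib.helper4.AlgStCoreA
open Groth.Agent.Lib.helper4.AlgStSource Groth.Agent.Lib.helper4.AlgStGraph
open Groth.Agent.Lib.helper4.SmLocalST Groth.Agent.Lib.helper5.LocPBC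
open Groth.Agent.Lib.helper4.AlgStOpenSub Groth.Agent.Lib.helper4.StkSub
open Groth.Agent.Lib.helper4.AlgStCancel
open Stk AlgSt

variable {S : Scheme.{u}}

section Main

variable {𝒵 : AlgSt.Cat S} (h𝒵 : AlgSt.IsAlgStack Scheme.fppfPrecoverage 𝒵)
include h𝒵

/-- over a locally Noetherian algebraic stack, locally of finite type morphisms representable by algebraic spaces are
locally of finite presentation -/
theorem repByAlgSpWith_lfp_of_lft {𝒲 : AlgSt.Cat S} (h𝒲 : AlgSt.IsAlgStack Scheme.fppfPrecoverage 𝒲)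
    (hnoeth : AlgSt.SmoothLocally (fun T => IsLocallyNoetherian T) 𝒵) (z : 𝒲 ⥤ᵇ 𝒵)
    (hz1 : AlgSt.RepByAlgSp1 z)
    (hz : AlgSt.RepByAlgSpWith (AlgSp.LocP @LocallyOfFiniteType) z) :
    AlgSt.RepByAlgSpWith (AlgSp.LocP @LocallyOfFinitePresentation) z := by
  have hq : AlgSt.LocQ (AlgSp.LocP @LocallyOfFiniteType) z :=
    locQ_locP_of_repByAlgSpWith h𝒲 h𝒵 z locPData_lft hz
  have hq' : AlgSt.LocQ (AlgSp.LocP @LocallyOfFinitePresentation) z :=
    locQ_lfp_of_locallyNoetherian h𝒲 h𝒵 z hnoeth hq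
  exact (locQ_iff_repByAlgSpWith h𝒲 h𝒵 z _ isSmoothLocalST_lfp
    (fun X₁ Y₁ X₂ Y₂ h1 h2 _ h4 a b a' b' sq ha => locP_of_isPullback locPData_lfp h1 h2 h4 sq ha) hz1).1 hq'

/-- a stack with a surjective, flat, locally finitely presented morphism from the spectrum of a field is locally
Noetherian -/
theorem smoothLocally_isLocallyNoetherian_of_fieldPt (k : Type u) [Field k] (a : Spec (CommRingCat.of k) ⟶ S)
    (z : overCat (Over.mk a) ⥤ᵇ 𝒵) (hzs : AlgSt.RepByAlgSpWith AlgSp.IsSurjectiveMor z)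
    (hzf : AlgSt.RepByAlgSpWith (AlgSp.LocP @Flat) z)
    (hzp : AlgSt.RepByAlgSpWith (AlgSp.LocP @LocallyOfFinitePresentation) z) :
    AlgSt.SmoothLocally (fun T => IsLocallyNoetherian T) 𝒵 := by
  intro U' x' hx'
  have hz2 : AlgSt.RepByAlgSpWith (AlgSp.LocP (@Flat ⊓ @LocallyOfFinitePresentation)) z :=
    repByAlgSpWith_mono z (fun F T π h => by
      intro A B a b k ha hb hsq
      exact ⟨h.1 a b k ha hb hsq, h.2 a b k ha hb hsq⟩)
      (repByAlgSpWith_and z (isoInv_locP _) hzf hzp)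
  obtain ⟨W, a', b, ha, hb, hs⟩ :=
    exists_common_chart_gen (@Flat ⊓ @LocallyOfFinitePresentation) @Smooth z x' hz2 hx'
  have hbs : Surjective b.left := hs hzs
  have hsm : Smooth a'.left := ha
  have hbf : Flat b.left := hb.1
  have hbp : LocallyOfFinitePresentation b.left := hb.2
  have hk : IsLocallyNoetherian (Over.mk a).left := by
    change IsLocallyNoetherian (Spec (CommRingCat.of k)); infer_instance
  have hW : IsLocallyNoetherian W.left := LocallyOfFiniteType.isLocallyNoetherian a'.left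
  exact Groth.Agent.S0116.result b.left

/-- S16806 -/
theorem fieldPt_lfp_iff :
    (AlgSt.SmoothLocally (fun T => IsReduced T) 𝒵 ∧ AlgSt.SmoothLocally (fun T => IsLocallyNoetherian T) 𝒵 ∧
        Nonempty (AlgSt.Points 𝒵) ∧ Subsingleton (AlgSt.Points 𝒵)) ↔
      ∃ (k : Type u) (_ : Field k) (a : Spec (CommRingCat.of k) ⟶ S)
        (z : FibCat.overCat (Over.mk a) ⥤ᵇ 𝒵), AlgSt.RepByAlgSpWith (AlgSp.LocP @LocallyOfFinitePresentation) z ∧
          AlgSt.RepByAlgSpWith AlgSp.IsSurjectiveMor z ∧ AlgSt.RepByAlgSpWith (AlgSp.LocP @Flat) z := by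
  constructor
  · rintro ⟨hred, hnoeth, hne, hsub⟩
    have h02 := (tfae_fieldPt h𝒵).out 0 2
    obtain ⟨k, inst, a, z, hz1, hz2, hz3⟩ := h02.1 ⟨hred, hne, hsub⟩
    letI : Field k := inst
    have hK : AlgSt.IsAlgStack Scheme.fppfPrecoverage (overCat (Over.mk a)) := isAlgStack_overCat _
    have hzr : AlgSt.RepByAlgSp1 z := Groth.Agent.Lib.helper4.AlgStDiag.repByAlgSp1_of_diag h𝒵.diag _ z
    exact ⟨k, inst, a, z, repByAlgSpWith_lfp_of_lft h𝒵 hK hnoeth z hzr hz1, hz2, hz3⟩
  · rintro ⟨k, inst, a, z, hzp, hzs, hzf⟩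
    letI : Field k := inst
    have h10 := (tfae_fieldPt h𝒵).out 1 0
    obtain ⟨h1, h2, h3⟩ := h10.1 ⟨k, inst, a, z, hzs, hzf⟩
    exact ⟨h1, smoothLocally_isLocallyNoetherian_of_fieldPt h𝒵 k a z hzs hzf hzp, h2, h3⟩

end Main

end Groth.Agent.Lib.helper4.AlgStFieldPt
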