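import Groth.Agent.Lib.Helper4.AlgStFpAlg
set_option autoImplicit false
set_option backward.isDefEq.respectTransparency false
set_option backward.isDefEq.respectTransparency.types false
set_option linter.unusedSectionVars false
set_option linter.style.haveILetI false
set_option linter.unusedVariables false
open CategoryTheory CategoryTheory.Functor CategoryTheory.Limits Opposite AlgebraicGeometry
universe u

/-! 2-fibre products of algebraic stacks are algebraic, for the topology of any precoverage `K`. -/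

namespace Groth.Agent.Lib.helper4.AlgStFpAlgK
open Groth.Agent.FibEquiv Groth.Agent.FibYoneda Groth.Agent.FibFpProj Stk FibCat
open Groth.Agent.Lib.helper4.AlgStFpAlg
open AlgSt

variable {S : Scheme.{u}}

/-- S12763 / S19914 for an arbitrary precoverage -/
theorem isAlgStack_fp {K : Precoverage Scheme.{u}} {𝒳 𝒴 𝒵 : AlgSt.Cat S}
    (h𝒵 : Stk.IsStack (QuotSh.J K S) 𝒵) (hΔ : AlgSt.RepByAlgSp1 (FibCat.diag (FibCat.toSelf 𝒵)))
    (h𝒳 : AlgSt.IsAlgStack K 𝒳) (h𝒴 : AlgSt.IsAlgStack K 𝒴)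
    (f : 𝒳 ⥤ᵇ 𝒵) (g : 𝒴 ⥤ᵇ 𝒵) :
    AlgSt.IsAlgStack K (FibCat.fp f g) := by
  have hX := h𝒳.isStack.1
  have hY := h𝒴.isStack.1
  have hZ := h𝒵.1
  have hΔ𝒳 := (Groth.Agent.S12765.result hX).1 h𝒳.diag
  have hΔ𝒴 := (Groth.Agent.S12765.result hY).1 h𝒴.diag
  have hΔ𝒵 := (Groth.Agent.S12765.result hZ).1 hΔ
  have hfp : IsFibGrpd (fp f g).p := isFibGrpd_fp _ _ hX hY hZ
  refine ⟨Groth.Agent.StkFp.isStack_fp f g _ h𝒳.isStack h𝒴.isStack
    (Groth.Agent.StkFp.isPrestack_of_isStack _ h𝒵), ?_, hasAtlas_fp hX hY hZ hΔ𝒵 h𝒳.atlas h𝒴.atlas f g⟩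
  exact (Groth.Agent.S12765.result hfp).2 (fun T t => repByAlgSp1_chart_fp hX hY hZ hΔ𝒳 hΔ𝒴 hΔ𝒵 f g t)

end Groth.Agent.Lib.helper4.AlgStFpAlgK
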