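import Groth.Agent.Lib.Helper4.AlgStFpAlgK
import Groth.Agent.Lib.Helper4.AlgStFibAlg
set_option autoImplicit false
set_option backward.isDefEq.respectTransparency false
set_option backward.isDefEq.respectTransparency.types false
set_option linter.unusedSectionVars false
set_option linter.style.haveILetI false
set_option linter.unusedVariables false
open CategoryTheory CategoryTheory.Functor CategoryTheory.Limits Opposite AlgebraicGeometry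
universe u

/-! 2-fibre products of Deligne-Mumford stacks are Deligne-Mumford, for the topology of any precoverage `K`. -/

namespace Groth.Agent.Lib.helper4.AlgStFpDM
open Groth.Agent.FibEquiv Groth.Agent.FibYoneda Groth.Agent.FibFpProj Stk FibCat
open Groth.Agent.Lib.helper4.Descent Groth.Agent.Lib.helper4.PshDict Groth.Agent.Lib.helper4.FibPaste
open Groth.Agent.Lib.helper4.AlgStEquiv Groth.Agent.Lib.helper4.PshRep Groth.Agent.Lib.helper4.PshPB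
open Groth.Agent.Lib.helper4.FibSwap Groth.Agent.Lib.helper4.AlgStSetoid Groth.Agent.Lib.helper4.AlgStCoreA
open Groth.Agent.Lib.helper4.AlgStDescent Groth.Agent.Lib.helper4.AlgStSource Groth.Agent.Lib.helper4.AlgStDM
open Groth.Agent.Lib.helper4.AlgStSmLoc Groth.Agent.Lib.helper4.PointsBasic Groth.Agent.Lib.helper4.AlgStRep
open Groth.Agent.Lib.helper4.AlgStPts Groth.Agent.Lib.helper4.AlgStFpAlg Groth.Agent.Lib.helper4.AlgStFibAlg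
open AlgSt

variable {S : Scheme.{u}}

/-- precompose an etale surjective chart from an algebraic space with an etale surjective chart of that space -/
theorem etale_chart_of_space_chart {𝒳 : AlgSt.Cat S} (h𝒳 : IsFibGrpd 𝒳.p) {F : AlgSp.Sp S} (x : AlgSt.ofSp F ⥤ᵇ 𝒳)
    (hx : AlgSt.RepByAlgSpWith AlgSp.IsEtaleMor x) (hxs : AlgSt.RepByAlgSpWith AlgSp.IsSurjectiveMor x)
    {W : Over S} (p : (AlgSp.yon S).obj W ⟶ F) (hp1 : AlgSp.RepWith @Etale p) (hp2 : AlgSp.RepWith @Surjective p) :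
    AlgSt.RepByAlgSpWith AlgSp.IsEtaleMor (BasedFunctor.comp (ofMap p) x) ∧
      AlgSt.RepByAlgSpWith AlgSp.IsSurjectiveMor (BasedFunctor.comp (ofMap p) x) := by
  have h1 : IsFibGrpd (overCat W).p := Groth.Agent.FibOver.isFibGrpd_overCat W
  have h2 : IsFibGrpd (AlgSt.ofSp F).p := isFibGrpd_ofPsh _
  exact ⟨etale_comp h1 h2 h𝒳 _ _ (repByAlgSpWith_ofMap _ p (repBySpWith_isEtaleMor p hp1)) hx,
    surj_comp h1 h2 h𝒳 _ _ (repByAlgSpWith_ofMap _ p (repBySpWith_isSurjectiveMor p hp2)) hxs⟩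

theorem hasAtlas_etale_fp {𝒳 𝒴 𝒵 : AlgSt.Cat S} (h𝒳 : IsFibGrpd 𝒳.p) (h𝒴 : IsFibGrpd 𝒴.p)
    (h𝒵 : IsFibGrpd 𝒵.p)
    (hΔ𝒵 : ∀ (U : Over S) (x : overCat U ⥤ᵇ 𝒵), AlgSt.RepByAlgSp1 x)
    (hat𝒳 : AlgSt.HasAtlas AlgSp.IsEtaleMor 𝒳) (hat𝒴 : AlgSt.HasAtlas AlgSp.IsEtaleMor 𝒴)
    (f : 𝒳 ⥤ᵇ 𝒵) (g : 𝒴 ⥤ᵇ 𝒵) : AlgSt.HasAtlas AlgSp.IsEtaleMor (fp f g) := by
  obtain ⟨U, x₀, hx₀, hxs₀⟩ := hat𝒳
  obtain ⟨V, y₀, hy₀, hys₀⟩ := hat𝒴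
  have hU : IsFibGrpd (overCat U).p := Groth.Agent.FibOver.isFibGrpd_overCat U
  have hV : IsFibGrpd (overCat V).p := Groth.Agent.FibOver.isFibGrpd_overCat V
  have hfp : IsFibGrpd (fp f g).p := isFibGrpd_fp _ _ h𝒳 h𝒴 h𝒵
  have hA : IsFibGrpd (fp x₀ (fpFst f g)).p := isFibGrpd_fp _ _ hU hfp h𝒳
  have hA' : IsFibGrpd (fp (BasedFunctor.comp x₀ f) g).p := isFibGrpd_fp _ _ hU h𝒴 h𝒵
  let prA : fp x₀ (fpFst f g) ⥤ᵇ fp f g := fpSnd x₀ (fpFst f g)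
  have hprA₁ : AlgSt.RepByAlgSpWith AlgSp.IsEtaleMor prA := repByAlgSpWith_fpSnd hfp h𝒳 hU _ x₀ _ hx₀
  have hprA₂ : AlgSt.RepByAlgSpWith AlgSp.IsSurjectiveMor prA := repByAlgSpWith_fpSnd hfp h𝒳 hU _ x₀ _ hxs₀
  obtain ⟨Ei, ⟨α⟩, ⟨β⟩⟩ := pasteL_isEquivOver x₀ f g
  have hEi : IsEquivOver Ei := isEquivOver_symm α β
  let q' : fp (BasedFunctor.comp x₀ f) g ⥤ᵇ 𝒴 := fpSnd (BasedFunctor.comp x₀ f) g
  have hB : IsFibGrpd (fp y₀ q').p := isFibGrpd_fp _ _ hV hA' h𝒴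
  let prB : fp y₀ q' ⥤ᵇ fp (BasedFunctor.comp x₀ f) g := fpSnd y₀ q'
  have hprB₁ : AlgSt.RepByAlgSpWith AlgSp.IsEtaleMor prB := repByAlgSpWith_fpSnd hA' h𝒴 hV _ y₀ _ hy₀
  have hprB₂ : AlgSt.RepByAlgSpWith AlgSp.IsSurjectiveMor prB := repByAlgSpWith_fpSnd hA' h𝒴 hV _ y₀ _ hys₀
  have h1 : AlgSt.RepByAlgSp (fp (BasedFunctor.comp x₀ f) (BasedFunctor.comp y₀ g)) :=
    hΔ𝒵 V (BasedFunctor.comp y₀ g) U (BasedFunctor.comp x₀ f)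
  obtain ⟨Ri, ⟨α'⟩, ⟨β'⟩⟩ := pasteR_isEquivOver (BasedFunctor.comp x₀ f) g y₀
  have h2 : AlgSt.RepByAlgSp (fp q' y₀) := repByAlgSp_of_isEquivOver Ri (isEquivOver_symm α' β') h1
  obtain ⟨F, e, he⟩ := repByAlgSp_of_isEquivOver (fpSwap q' y₀) (fpSwap_isEquivOver q' y₀) h2
  let c₁ : fp (BasedFunctor.comp x₀ f) g ⥤ᵇ fp f g := BasedFunctor.comp Ei prA
  have hc₁₁ : AlgSt.RepByAlgSpWith AlgSp.IsEtaleMor c₁ := (repByAlgSpWith_precomp_iff _ prA Ei hEi).1 hprA₁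
  have hc₁₂ : AlgSt.RepByAlgSpWith AlgSp.IsSurjectiveMor c₁ := (repByAlgSpWith_precomp_iff _ prA Ei hEi).1 hprA₂
  let c₂ : fp y₀ q' ⥤ᵇ fp f g := BasedFunctor.comp prB c₁
  have hc₂₁ : AlgSt.RepByAlgSpWith AlgSp.IsEtaleMor c₂ := etale_comp hB hA' hfp _ _ hprB₁ hc₁₁
  have hc₂₂ : AlgSt.RepByAlgSpWith AlgSp.IsSurjectiveMor c₂ := surj_comp hB hA' hfp _ _ hprB₂ hc₁₂
  let c : AlgSt.ofSp F.obj ⥤ᵇ fp f g := BasedFunctor.comp e c₂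
  have hc₁' : AlgSt.RepByAlgSpWith AlgSp.IsEtaleMor c := (repByAlgSpWith_precomp_iff _ c₂ e he).1 hc₂₁
  have hc₂' : AlgSt.RepByAlgSpWith AlgSp.IsSurjectiveMor c := (repByAlgSpWith_precomp_iff _ c₂ e he).1 hc₂₂
  obtain ⟨W, p, hp1, hp2⟩ := F.property.atlas
  obtain ⟨h3, h4⟩ := etale_chart_of_space_chart hfp c hc₁' hc₂' p hp1 hp2
  exact ⟨W, _, h3, h4⟩

/-- S17273 for an arbitrary precoverage -/
theorem isDM_fp {K : Precoverage Scheme.{u}} {𝒳 𝒴 𝒵 : AlgSt.Cat S}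
    (h𝒵 : Stk.IsStack (QuotSh.J K S) 𝒵) (hΔ : AlgSt.RepByAlgSp1 (FibCat.diag (FibCat.toSelf 𝒵)))
    (h𝒳 : AlgSt.IsDM K 𝒳) (h𝒴 : AlgSt.IsDM K 𝒴)
    (f : 𝒳 ⥤ᵇ 𝒵) (g : 𝒴 ⥤ᵇ 𝒵) :
    AlgSt.IsDM K (FibCat.fp f g) :=
  ⟨Groth.Agent.Lib.helper4.AlgStFpAlgK.isAlgStack_fp h𝒵 hΔ h𝒳.1 h𝒴.1 f g,
    hasAtlas_etale_fp h𝒳.1.isStack.1 h𝒴.1.isStack.1 h𝒵.1 ((Groth.Agent.S12765.result h𝒵.1).1 hΔ) h𝒳.2 h𝒴.2 f g⟩

end Groth.Agent.Lib.helper4.AlgStFpDM
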