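import Mathlib

set_option backward.isDefEq.respectTransparency false
set_option autoImplicit false
set_option linter.style.haveILetI false

/-!
# Finite covering families with coproduct in a class `C` of morphisms of schemes

Closure properties of the predicate `C (Limits.Sigma.desc ψ)` on finite families `ψ j : V j ⟶ U`:
* `sigmaDesc_comp_mem`: composition of families (indexed by a sigma type);
* `sigmaDesc_pullback_snd_mem`: base change of a family.
-/

universe u

open CategoryTheory AlgebraicGeometry Limits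

namespace Groth.Agent.Lib.Helper4.ClassTop

variable (C : MorphismProperty Scheme.{u})

theorem sigmaDesc_comp_mem [C.IsStableUnderComposition] [C.RespectsIso]
    (hcoprod : ∀ (κ : Type u) [Finite κ] (A B : κ → Scheme.{u}) (f : ∀ j, A j ⟶ B j),
      (∀ j, C (f j)) → C (Limits.Sigma.map f))
    {U : Scheme.{u}} {κ : Type u} [Finite κ] (V : κ → Scheme.{u}) (ψ : ∀ j, V j ⟶ U)
    (hψ : C (Limits.Sigma.desc ψ))
    (κ' : κ → Type u) (V' : ∀ j, κ' j → Scheme.{u}) (χ : ∀ j k, V' j k ⟶ V j)
    (hχ : ∀ j, C (Limits.Sigma.desc (χ j))) :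
    C (Limits.Sigma.desc (fun p : Σ j, κ' j => χ p.1 p.2 ≫ ψ p.1)) := by
  have h1 : C (Limits.Sigma.map (fun j => Limits.Sigma.desc (χ j))) := hcoprod κ _ _ _ hχ
  have h2 : Limits.Sigma.desc (fun p : Σ j, κ' j => χ p.1 p.2 ≫ ψ p.1) =
      (sigmaSigmaIso κ' V').inv ≫ Limits.Sigma.map (fun j => Limits.Sigma.desc (χ j)) ≫ Limits.Sigma.desc ψ := by
    ext ⟨j, k⟩
    simp
  rw [h2]
  exact (C.cancel_left_of_respectsIso _ _).2 (C.comp_mem _ _ h1 hψ)

theorem sigmaDesc_pullback_snd_mem [C.IsStableUnderBaseChange]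
    {U W : Scheme.{u}} {κ : Type u} [Finite κ] (V : κ → Scheme.{u}) (ψ : ∀ j, V j ⟶ U)
    (hψ : C (Limits.Sigma.desc ψ)) (g : W ⟶ U) :
    C (Limits.Sigma.desc (fun j => pullback.snd (ψ j) g)) := by
  have H := IsUniversalColimit.isPullback_of_isColimit_right
    (X := V) (a := Cofan.mk (∐ V) (Limits.Sigma.ι V))
    (FinitaryPreExtensive.isUniversal_finiteCoproducts (coproductIsCoproduct V))
    ψ (Limits.Sigma.desc ψ) g (fun j => pullback.fst (ψ j) g) (fun j => pullback.snd (ψ j) g)
    (fun j => IsPullback.of_hasPullback (ψ j) g)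
    (coproductIsCoproduct (fun j => pullback (ψ j) g))
  have h3 : Cofan.IsColimit.desc (coproductIsCoproduct (fun j => pullback (ψ j) g))
      (fun j => pullback.snd (ψ j) g) = Limits.Sigma.desc (fun j => pullback.snd (ψ j) g) := by
    refine Limits.Sigma.hom_ext _ _ fun j => ?_
    simp [Cofan.IsColimit.desc, Limits.Sigma.ι, coproductIsCoproduct]
  rw [← h3]
  exact C.of_isPullback H hψ

end Groth.Agent.Lib.Helper4.ClassTop
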