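import Mathlib
import Groth.Agent.Lib.Helper4.ClassTop

set_option backward.isDefEq.respectTransparency false
set_option autoImplicit false
set_option linter.style.haveILetI false

/-!
# The Grothendieck topology on `Over S` generated by a class `C` of quasi-compact morphisms
(affine-local finite `C`-covering data)
-/

universe u

open CategoryTheory AlgebraicGeometry Limits

namespace Groth.Agent.Lib.Helper4.ClassTop

variable {S : Scheme.{u}}

/-- Membership of a morphism of schemes `a : T ⟶ X.left` in a sieve on `X : Over S`. -/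
def InR {X : Over S} (R : Sieve X) {T : Scheme.{u}} (a : T ⟶ X.left) : Prop :=
  R.arrows (Over.homMk a rfl : Over.mk (a ≫ X.hom) ⟶ X)

theorem inR_iff {X : Over S} (R : Sieve X) {V : Over S} (φ : V ⟶ X) :
    R.arrows φ ↔ InR R φ.left := by
  let e : V ≅ Over.mk (φ.left ≫ X.hom) := Over.isoMk (Iso.refl _) (by simp)
  have h1 : φ = e.hom ≫ (Over.homMk φ.left rfl : Over.mk (φ.left ≫ X.hom) ⟶ X) := by
    ext; simp [e]
  have h2 : (Over.homMk φ.left rfl : Over.mk (φ.left ≫ X.hom) ⟶ X) = e.inv ≫ φ := by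
    ext; simp [e]
  constructor
  · intro h
    unfold InR
    rw [h2]
    exact R.downward_closed h _
  · intro h
    rw [h1]
    exact R.downward_closed h _

theorem InR.comp {X : Over S} {R : Sieve X} {T T' : Scheme.{u}} {a : T ⟶ X.left}
    (h : InR R a) (b : T' ⟶ T) : InR R (b ≫ a) := by
  unfold InR at h ⊢
  have : (Over.homMk (b ≫ a) rfl : Over.mk ((b ≫ a) ≫ X.hom) ⟶ X) =
      (Over.homMk b (by simp) : Over.mk ((b ≫ a) ≫ X.hom) ⟶ Over.mk (a ≫ X.hom)) ≫
        (Over.homMk a rfl : Over.mk (a ≫ X.hom) ⟶ X) := by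
    ext; simp
  rw [this]
  exact R.downward_closed h _

theorem inR_pullback {X Y : Over S} (R : Sieve X) (f : Y ⟶ X) {T : Scheme.{u}}
    (a : T ⟶ Y.left) : InR (R.pullback f) a ↔ InR R (a ≫ f.left) := by
  unfold InR
  rw [Sieve.pullback_apply, inR_iff R]
  rfl

variable (C : MorphismProperty Scheme.{u})

/-- Local finite `C`-covering data for the sieve `R` over the open `U` of `X.left`. -/
def LocCov {X : Over S} (R : Sieve X) (U : X.left.Opens) : Prop :=
  ∃ (κ : Type u) (_ : Finite κ) (V : κ → Scheme.{u}) (ψ : ∀ j, V j ⟶ (U : Scheme.{u})),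
    (∀ j, IsAffine (V j)) ∧ (∀ j, InR R (ψ j ≫ U.ι)) ∧ C (Limits.Sigma.desc ψ)

theorem locCov_iff {X : Over S} (R : Sieve X) (U : X.left.Opens) :
    (∃ (κ : Type u) (_ : Finite κ) (V : κ → Over S) (φ : ∀ j, V j ⟶ X)
          (ψ : ∀ j, (V j).left ⟶ (U : Scheme.{u})),
          (∀ j, IsAffine (V j).left) ∧ (∀ j, R.arrows (φ j)) ∧ (∀ j, ψ j ≫ U.ι = (φ j).left) ∧
            C (Limits.Sigma.desc ψ)) ↔ LocCov C R U := by
  constructor
  · rintro ⟨κ, hκ, V, φ, ψ, haff, hR, hψ, hC⟩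
    refine ⟨κ, hκ, fun j => (V j).left, ψ, haff, fun j => ?_, hC⟩
    rw [hψ j, ← inR_iff]
    exact hR j
  · rintro ⟨κ, hκ, V, ψ, haff, hR, hC⟩
    exact ⟨κ, hκ, fun j => Over.mk ((ψ j ≫ U.ι) ≫ X.hom), fun j => Over.homMk (ψ j ≫ U.ι) rfl,
      ψ, haff, hR, fun j => rfl, hC⟩

/-- The covering condition. -/
def Cov (X : Over S) (R : Sieve X) : Prop :=
  ∃ (ι : Type u) (U : ι → X.left.Opens), (∀ i, IsAffineOpen (U i)) ∧ ⨆ i, U i = ⊤ ∧
    ∀ i, LocCov C R (U i)

theorem cov_iff (X : Over S) (R : Sieve X) :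
    (∃ (ι : Type u) (U : ι → X.left.Opens), (∀ i, IsAffineOpen (U i)) ∧ ⨆ i, U i = ⊤ ∧
        ∀ i, ∃ (κ : Type u) (_ : Finite κ) (V : κ → Over S) (φ : ∀ j, V j ⟶ X)
          (ψ : ∀ j, (V j).left ⟶ (U i : Scheme.{u})),
          (∀ j, IsAffine (V j).left) ∧ (∀ j, R.arrows (φ j)) ∧ (∀ j, ψ j ≫ (U i).ι = (φ j).left) ∧
            C (Limits.Sigma.desc ψ)) ↔ Cov C X R := by
  unfold Cov
  simp only [locCov_iff]

section Axioms

variable (haff : ∀ (U : Scheme.{u}) [IsAffine U] (κ : Type u) [Finite κ] (V : κ → U.Opens),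
      (∀ j, IsAffineOpen (V j)) → ⨆ j, V j = ⊤ → C (Limits.Sigma.desc fun j => (V j).ι))

include haff in
theorem cov_top (X : Over S) : Cov C X ⊤ := by
  refine ⟨X.left.affineOpens, fun U => U.1, fun U => U.2, ?_, fun U => ?_⟩
  · exact iSup_affineOpens_eq_top X.left
  · haveI : IsAffine (U.1 : Scheme.{u}) := U.2
    refine ⟨PUnit.{u+1}, inferInstance, fun _ => ((⊤ : (U.1 : Scheme.{u}).Opens) : Scheme.{u}),
      fun _ => (⊤ : (U.1 : Scheme.{u}).Opens).ι, fun _ => ?_, fun _ => ?_, ?_⟩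
    · exact (isAffineOpen_top (U.1 : Scheme.{u}))
    · exact Sieve.top_apply _
    · exact haff (U.1 : Scheme.{u}) PUnit.{u+1} (fun _ => ⊤) (fun _ => isAffineOpen_top _)
        (by simp)

omit haff in
theorem cov_pullback [C.IsStableUnderBaseChange] {X Y : Over S} (R : Sieve X) (hR : Cov C X R)
    (f : Y ⟶ X) : Cov C Y (R.pullback f) := by
  obtain ⟨ι, U, hU, hcov, hloc⟩ := hR
  refine ⟨Σ i : ι, {W : Y.left.Opens // IsAffineOpen W ∧ W ≤ f.left ⁻¹ᵁ U i},
    fun p => p.2.1, fun p => p.2.2.1, ?_, ?_⟩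
  · rw [eq_top_iff]
    intro y _
    have hy : f.left.base y ∈ (⨆ i, U i : X.left.Opens) := by rw [hcov]; trivial
    rw [TopologicalSpace.Opens.mem_iSup] at hy
    obtain ⟨i, hi⟩ := hy
    obtain ⟨_, ⟨W, hW, rfl⟩, hyW, hWU⟩ :=
      Y.left.isBasis_affineOpens.exists_subset_of_mem_open
        (show y ∈ (f.left ⁻¹ᵁ U i : Set Y.left) from hi) (f.left ⁻¹ᵁ U i).2
    rw [TopologicalSpace.Opens.mem_iSup]
    exact ⟨⟨i, W, hW, hWU⟩, hyW⟩
  · rintro ⟨i, W, hW, hle⟩
    obtain ⟨κ, hκ, V, ψ, haffV, hVR, hC⟩ := hloc i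
    let g : (W : Scheme.{u}) ⟶ (U i : Scheme.{u}) := f.left.resLE (U i) W hle
    haveI : IsAffine (W : Scheme.{u}) := hW
    haveI : IsAffine (U i : Scheme.{u}) := hU i
    haveI := haffV
    refine ⟨κ, hκ, fun j => pullback (ψ j) g, fun j => pullback.snd (ψ j) g, fun j => inferInstance,
      fun j => ?_, sigmaDesc_pullback_snd_mem C V ψ hC g⟩
    rw [inR_pullback]
    have : (pullback.snd (ψ j) g ≫ W.ι) ≫ f.left = pullback.fst (ψ j) g ≫ (ψ j ≫ (U i).ι) := by
      rw [Category.assoc, ← Scheme.Hom.resLE_comp_ι f.left hle, ← Category.assoc,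
        ← pullback.condition, Category.assoc]
    change InR R ((pullback.snd (ψ j) g ≫ W.ι) ≫ f.left)
    rw [this]
    exact (hVR j).comp _

omit haff in
theorem exists_finset_iSup_eq_top {V : Scheme.{u}} [CompactSpace V] {ι : Type u} (U : ι → V.Opens)
    (h : ⨆ i, U i = ⊤) : ∃ t : Finset ι, ⨆ i : {i // i ∈ t}, U i = ⊤ := by
  obtain ⟨t, ht⟩ := isCompact_univ.elim_finite_subcover (fun i => (U i : Set V))
    (fun i => (U i).2) (by
      intro x _
      have : x ∈ (⨆ i, U i : V.Opens) := by rw [h]; trivial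
      rw [TopologicalSpace.Opens.mem_iSup] at this
      obtain ⟨i, hi⟩ := this
      exact Set.mem_iUnion.2 ⟨i, hi⟩)
  refine ⟨t, ?_⟩
  rw [eq_top_iff]
  intro x _
  have := ht (Set.mem_univ x)
  simp only [Set.mem_iUnion] at this
  obtain ⟨i, hit, hx⟩ := this
  rw [TopologicalSpace.Opens.mem_iSup]
  exact ⟨⟨i, hit⟩, hx⟩

include haff in
theorem cov_transitive [C.IsStableUnderComposition] [C.RespectsIso]
    (hcoprod : ∀ (κ : Type u) [Finite κ] (A B : κ → Scheme.{u}) (f : ∀ j, A j ⟶ B j),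
      (∀ j, C (f j)) → C (Limits.Sigma.map f))
    {X : Over S} (S₀ R : Sieve X) (hS : Cov C X S₀)
    (h : ∀ ⦃Y : Over S⦄ (f : Y ⟶ X), S₀.arrows f → Cov C Y (R.pullback f)) : Cov C X R := by
  obtain ⟨ι, U, hU, hcov, hloc⟩ := hS
  refine ⟨ι, U, hU, hcov, fun i => ?_⟩
  obtain ⟨κ, hκ, V, ψ, haffV, hVS, hC⟩ := hloc i
  have H : ∀ j, Cov C (Over.mk ((ψ j ≫ (U i).ι) ≫ X.hom))
      (R.pullback (Over.homMk (ψ j ≫ (U i).ι) rfl : Over.mk ((ψ j ≫ (U i).ι) ≫ X.hom) ⟶ X)) :=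
    fun j => h _ (hVS j)
  choose ι' U' hU' hcov' hloc' using H
  have hfin : ∀ j, ∃ t : Finset (ι' j), ⨆ k : {k // k ∈ t}, U' j k = ⊤ := by
    intro j
    haveI : IsAffine (V j) := haffV j
    exact exists_finset_iSup_eq_top (V := V j) (U' j) (hcov' j)
  choose t ht using hfin
  choose κ'' hκ'' V'' ψ'' haff'' hR'' hC'' using hloc'
  -- Step A: for each `j`, the family over `V j`
  have hA : ∀ j, C (Limits.Sigma.desc (fun p : Σ k : {k // k ∈ t j}, κ'' j k.1 =>
      ψ'' j p.1.1 p.2 ≫ (U' j p.1.1).ι)) := by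
    intro j
    haveI : IsAffine (V j) := haffV j
    haveI : ∀ k, Finite (κ'' j k) := hκ'' j
    have hbase : C (Limits.Sigma.desc fun k : {k // k ∈ t j} => (U' j k.1).ι) :=
      haff (V j) {k // k ∈ t j} (fun k => U' j k.1) (fun k => hU' j k.1) (ht j)
    exact sigmaDesc_comp_mem C hcoprod (fun k : {k // k ∈ t j} => ((U' j k.1 : (V j).Opens) : Scheme.{u}))
      (fun k => (U' j k.1).ι) hbase (fun k => κ'' j k.1) (fun k l => V'' j k.1 l)
      (fun k l => ψ'' j k.1 l) (fun k => hC'' j k.1)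
  have hB := sigmaDesc_comp_mem C hcoprod V ψ hC
    (fun j => Σ k : {k // k ∈ t j}, κ'' j k.1) (fun j p => V'' j p.1.1 p.2)
    (fun j p => ψ'' j p.1.1 p.2 ≫ (U' j p.1.1).ι) hA
  haveI : ∀ j k, Finite (κ'' j k) := hκ''
  refine ⟨Σ j : κ, Σ k : {k // k ∈ t j}, κ'' j k.1, inferInstance,
    fun q => V'' q.1 q.2.1.1 q.2.2,
    fun q => (ψ'' q.1 q.2.1.1 q.2.2 ≫ (U' q.1 q.2.1.1).ι) ≫ ψ q.1,
    fun q => haff'' _ _ _, fun q => ?_, hB⟩
  have := hR'' q.1 q.2.1.1 q.2.2
  rw [inR_pullback] at this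
  rw [Category.assoc]
  exact this

include haff in
/-- The Grothendieck topology on `Over S` whose covering sieves are those admitting affine-local
finite `C`-covering data. -/
theorem exists_topology [C.IsStableUnderComposition] [C.IsStableUnderBaseChange]
    (hcoprod : ∀ (κ : Type u) [Finite κ] (A B : κ → Scheme.{u}) (f : ∀ j, A j ⟶ B j),
      (∀ j, C (f j)) → C (Limits.Sigma.map f)) :
    ∃ J : GrothendieckTopology (Over S), ∀ (X : Over S) (R : Sieve X), R ∈ J X ↔ Cov C X R := by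
  refine ⟨{ sieves := fun X => {R | Cov C X R}
            top_mem' := fun X => cov_top C haff X
            pullback_stable' := fun X Y R f hR => cov_pullback C R hR f
            transitive' := fun X S₀ hS R h => cov_transitive C haff hcoprod S₀ R hS h }, ?_⟩
  intro X R
  rfl

end Axioms

end Groth.Agent.Lib.Helper4.ClassTop
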