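import Mathlib
import Groth.Agent.Lib.Helper4.ClassTop2

set_option backward.isDefEq.respectTransparency false
set_option autoImplicit false
set_option linter.style.haveILetI false

/-!
# Sheaves for the topology generated by a class `C`: Zariski sheaf + singleton `C`-coverings
-/

universe v u

open CategoryTheory AlgebraicGeometry Limits

namespace Groth.Agent.Lib.Helper4.ClassTop

variable {S : Scheme.{u}} (C : MorphismProperty Scheme.{u})

theorem mem_zariski_over_iff {X : Over S} (R : Sieve X) :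
    R ∈ (Scheme.zariskiTopology.over S) X ↔
      ∃ 𝒰 : Scheme.Cover.{u} (Scheme.precoverage @IsOpenImmersion) X.left, ∀ i, InR R (𝒰.f i) := by
  rw [GrothendieckTopology.mem_over_iff, Scheme.mem_grothendieckTopology_iff]
  constructor
  · rintro ⟨𝒰, h𝒰⟩
    refine ⟨𝒰, fun i => ?_⟩
    have := h𝒰 _ _ (Presieve.ofArrows.mk i)
    exact (Sieve.overEquiv_iff _ _).1 this
  · rintro ⟨𝒰, h𝒰⟩
    refine ⟨𝒰, ?_⟩
    rintro _ _ ⟨i⟩
    exact (Sieve.overEquiv_iff _ _).2 (h𝒰 i)

section

variable (haff : ∀ (U : Scheme.{u}) [IsAffine U] (κ : Type u) [Finite κ] (V : κ → U.Opens),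
      (∀ j, IsAffineOpen (V j)) → ⨆ j, V j = ⊤ → C (Limits.Sigma.desc fun j => (V j).ι))

include haff in
theorem cov_of_mem_zariski {X : Over S} (R : Sieve X)
    (hR : R ∈ (Scheme.zariskiTopology.over S) X) : Cov C X R := by
  obtain ⟨𝒰, h𝒰⟩ := (mem_zariski_over_iff R).1 hR
  refine ⟨{W : X.left.Opens // IsAffineOpen W ∧ ∃ i, W ≤ (𝒰.f i).opensRange},
    fun W => W.1, fun W => W.2.1, ?_, ?_⟩
  · rw [eq_top_iff]
    intro x _
    obtain ⟨i, y, hy⟩ := 𝒰.exists_eq x
    haveI : IsOpenImmersion (𝒰.f i) := 𝒰.map_prop i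
    obtain ⟨_, ⟨W, hW, rfl⟩, hxW, hWle⟩ :=
      X.left.isBasis_affineOpens.exists_subset_of_mem_open
        (show x ∈ ((𝒰.f i).opensRange : Set X.left) from ⟨y, hy⟩) (𝒰.f i).opensRange.2
    rw [TopologicalSpace.Opens.mem_iSup]
    exact ⟨⟨W, hW, i, hWle⟩, hxW⟩
  · rintro ⟨W, hW, i, hWle⟩
    haveI : IsAffine (W : Scheme.{u}) := hW
    haveI : IsOpenImmersion (𝒰.f i) := 𝒰.map_prop i
    refine ⟨PUnit.{u+1}, inferInstance, fun _ => ((⊤ : (W : Scheme.{u}).Opens) : Scheme.{u}),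
      fun _ => (⊤ : (W : Scheme.{u}).Opens).ι, fun _ => isAffineOpen_top (W : Scheme.{u}),
      fun _ => ?_, ?_⟩
    · have hfac : W.ι = IsOpenImmersion.lift (𝒰.f i) W.ι
          (by rw [Scheme.Opens.range_ι]; exact hWle) ≫ 𝒰.f i :=
        (IsOpenImmersion.lift_fac _ _ _).symm
      change InR R ((⊤ : (W : Scheme.{u}).Opens).ι ≫ W.ι)
      rw [hfac, ← Category.assoc]
      exact (h𝒰 i).comp _
    · exact haff (W : Scheme.{u}) PUnit.{u+1} (fun _ => ⊤) (fun _ => isAffineOpen_top _)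
        (by simp)

omit haff in
theorem cov_generate_singleton [C.IsStableUnderBaseChange]
    (hqc : ∀ {A B : Scheme.{u}} (f : A ⟶ B), C f → QuasiCompact f)
    (hres : ∀ (W X' : Scheme.{u}) [IsAffine W] (f : X' ⟶ W), C f →
      ∀ (κ : Type u) [Finite κ] (A : κ → X'.Opens), (∀ l, IsAffineOpen (A l)) → ⨆ l, A l = ⊤ →
        C (Limits.Sigma.desc fun l => (A l).ι ≫ f))
    {X X' : Over S} (f : X' ⟶ X) (hf : C f.left) :
    Cov C X (Sieve.generate (Presieve.singleton f)) := by
  refine ⟨X.left.affineOpens, fun U => U.1, fun U => U.2, iSup_affineOpens_eq_top X.left,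
    fun U => ?_⟩
  haveI : IsAffine (U.1 : Scheme.{u}) := U.2
  let f' : ((f.left ⁻¹ᵁ U.1 : X'.left.Opens) : Scheme.{u}) ⟶ (U.1 : Scheme.{u}) := f.left ∣_ U.1
  have hf' : C f' := C.of_isPullback (isPullback_morphismRestrict f.left U.1).flip hf
  haveI : QuasiCompact f' := hqc f' hf'
  haveI : CompactSpace ((f.left ⁻¹ᵁ U.1 : X'.left.Opens) : Scheme.{u}) :=
    QuasiCompact.compactSpace_of_compactSpace f'
  obtain ⟨t, ht⟩ := exists_finset_iSup_eq_top
    (V := ((f.left ⁻¹ᵁ U.1 : X'.left.Opens) : Scheme.{u}))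
    (fun A : ((f.left ⁻¹ᵁ U.1 : X'.left.Opens) : Scheme.{u}).affineOpens => A.1)
    (iSup_affineOpens_eq_top _)
  refine ⟨{A // A ∈ t}, inferInstance, fun A => ((A.1.1 : Scheme.Opens _) : Scheme.{u}),
    fun A => A.1.1.ι ≫ f', fun A => A.1.2, fun A => ?_, ?_⟩
  · have h1 : (A.1.1.ι ≫ f') ≫ U.1.ι = (A.1.1.ι ≫ (f.left ⁻¹ᵁ U.1).ι) ≫ f.left := by
      simp only [Category.assoc, f']
      rw [morphismRestrict_ι]
    rw [h1]
    refine InR.comp ?_ _
    rw [← inR_iff]
    exact Sieve.le_generate _ _ _ (Presieve.singleton.mk)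
  · exact hres (U.1 : Scheme.{u}) _ f' hf' {A // A ∈ t} (fun A => A.1.1) (fun A => A.1.2) ht

omit haff in
/-- Key lemma: in a topology `J'` containing the Zariski topology and the sieves generated by
single `C`-morphisms, every sieve containing a finite family with coproduct in `C` is covering. -/
theorem mem_of_finite_family (J' : GrothendieckTopology (Over S))
    (hZ : Scheme.zariskiTopology.over S ≤ J')
    (hsing : ∀ ⦃X X' : Over S⦄ (f : X' ⟶ X), C f.left →
      Sieve.generate (Presieve.singleton f) ∈ J' X)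
    {T : Over S} (R' : Sieve T) {κ : Type u} (V : κ → Scheme.{u}) (ψ : ∀ j, V j ⟶ T.left)
    (hC : C (Limits.Sigma.desc ψ)) (hR' : ∀ j, InR R' (ψ j)) : R' ∈ J' T := by
  let σ : Over.mk (Limits.Sigma.desc ψ ≫ T.hom) ⟶ T := Over.homMk (Limits.Sigma.desc ψ) rfl
  have hG : Sieve.generate (Presieve.singleton σ) ∈ J' T := hsing σ hC
  refine J'.transitive hG R' ?_
  rintro Y f ⟨Y', g, _, ⟨⟩, rfl⟩
  rw [Sieve.pullback_comp]
  refine J'.pullback_stable g ?_
  refine hZ _ ?_
  rw [mem_zariski_over_iff]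
  refine ⟨sigmaOpenCover V, fun j => ?_⟩
  rw [inR_pullback]
  have : (sigmaOpenCover V).f j ≫ σ.left = ψ j := by
    change Limits.Sigma.ι V j ≫ Limits.Sigma.desc ψ = ψ j
    simp
  rw [this]
  exact hR' j

omit haff in
/-- `J ≤ J'` for any topology `J'` containing the Zariski topology and singleton `C`-sieves. -/
theorem le_of_zariski_le_of_singleton (J J' : GrothendieckTopology (Over S))
    (hJ : ∀ (X : Over S) (R : Sieve X), R ∈ J X ↔ Cov C X R)
    (hZ : Scheme.zariskiTopology.over S ≤ J')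
    (hsing : ∀ ⦃X X' : Over S⦄ (f : X' ⟶ X), C f.left →
      Sieve.generate (Presieve.singleton f) ∈ J' X) : J ≤ J' := by
  intro X R hR
  obtain ⟨ι, U, hU, hcov, hloc⟩ := (hJ X R).1 hR
  -- the Zariski sieve generated by the `U i`
  let Ui : ι → Over S := fun i => Over.mk ((U i).ι ≫ X.hom)
  let a : ∀ i, Ui i ⟶ X := fun i => Over.homMk (U i).ι rfl
  have hZ₀ : Sieve.ofArrows Ui a ∈ J' X := by
    refine hZ _ ?_
    rw [mem_zariski_over_iff]
    refine ⟨X.left.openCoverOfIsOpenCover U hcov, fun i => ?_⟩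
    change InR (Sieve.ofArrows Ui a) (U i).ι
    exact Sieve.ofArrows_mk Ui a i
  refine J'.transitive hZ₀ R ?_
  rintro Y f ⟨Y', g, _, ⟨i⟩, rfl⟩
  rw [Sieve.pullback_comp]
  refine J'.pullback_stable g ?_
  obtain ⟨κ, hκ, V, ψ, haffV, hVR, hC⟩ := hloc i
  refine mem_of_finite_family C J' hZ hsing (T := Ui i) _ V ψ hC fun j => ?_
  rw [inR_pullback]
  exact hVR j

omit haff in
theorem generate_singleton_mem_finest [C.IsStableUnderBaseChange] (F : (Over S)ᵒᵖ ⥤ Type v)
    (hF : ∀ (X X' : Over S) (f : X' ⟶ X), C f.left →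
      Presieve.IsSheafFor F (Presieve.singleton f))
    ⦃X X' : Over S⦄ (f : X' ⟶ X) (hf : C f.left) :
    Sieve.generate (Presieve.singleton f) ∈ Sheaf.finestTopologySingle F X := by
  intro Y g
  rw [← Sieve.pullbackArrows_comm, Presieve.pullback_singleton, ← Presieve.isSheafFor_iff_generate]
  apply hF
  have := (IsPullback.of_hasPullback f g).map (Over.forget S)
  exact C.of_isPullback this hf

include haff in
theorem isSheaf_iff [C.IsStableUnderComposition] [C.IsStableUnderBaseChange]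
    (hqc : ∀ {A B : Scheme.{u}} (f : A ⟶ B), C f → QuasiCompact f)
    (hres : ∀ (W X' : Scheme.{u}) [IsAffine W] (f : X' ⟶ W), C f →
      ∀ (κ : Type u) [Finite κ] (A : κ → X'.Opens), (∀ l, IsAffineOpen (A l)) → ⨆ l, A l = ⊤ →
        C (Limits.Sigma.desc fun l => (A l).ι ≫ f))
    (J : GrothendieckTopology (Over S))
    (hJ : ∀ (X : Over S) (R : Sieve X), R ∈ J X ↔ Cov C X R)
    (F : (Over S)ᵒᵖ ⥤ Type v) :
    Presieve.IsSheaf J F ↔
      (Presieve.IsSheaf (Scheme.zariskiTopology.over S) F ∧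
        ∀ (X X' : Over S) (f : X' ⟶ X), C f.left →
          Presieve.IsSheafFor F (Presieve.singleton f)) := by
  constructor
  · intro h
    refine ⟨Presieve.isSheaf_of_le F (fun X R hR => (hJ X R).2 (cov_of_mem_zariski C haff R hR)) h,
      fun X X' f hf => ?_⟩
    rw [Presieve.isSheafFor_iff_generate]
    exact h _ ((hJ X _).2 (cov_generate_singleton C hqc hres f hf))
  · rintro ⟨hZ, hsing⟩
    have hle : J ≤ Sheaf.finestTopologySingle F := by
      refine le_of_zariski_le_of_singleton C J _ hJ ?_ (generate_singleton_mem_finest C F hsing)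
      intro X R hR Y g
      exact hZ _ (GrothendieckTopology.pullback_stable _ g hR)
    refine Presieve.isSheaf_of_le F hle ?_
    intro X R hR
    have := hR X (𝟙 X)
    rwa [Sieve.pullback_id] at this

end

end Groth.Agent.Lib.Helper4.ClassTop
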