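import Mathlib
import Groth.Agent.Lib.Helper4.LocRep3
import Groth.Agent.Lib.Helper4.ClassTop3

/-!
# Local representability over a base scheme for presheaves with values in a larger universe (helper4)

`exists_repr_big`: a Zariski sheaf `P : (Over S)ᵒᵖ ⥤ Type (u+1)` covered by open subfunctors represented by a `u`-small family
of schemes `W i` over `S` is represented by a scheme `W₀` over `S`: there is `ξ₀ ∈ P(W₀)` with `m ↦ m^* ξ₀` bijective.
(The values of `P` are `u`-small, `small_of_charts`; one applies `LocRep.exists_repr` to the shrunk presheaf.)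
-/

set_option backward.isDefEq.respectTransparency false
set_option autoImplicit false
set_option linter.unusedSectionVars false
set_option linter.style.haveILetI false

universe u

open CategoryTheory CategoryTheory.Limits AlgebraicGeometry Opposite

namespace Groth.Agent.Lib.Helper4.BigLocRep

variable {S : Scheme.{u}}

/-- a sieve containing the members of an open cover is Zariski covering -/
theorem mem_zariski_over_of_opens {T : Over S} {κ : Type u} (U : κ → T.left.Opens)
    (hU : ∀ t : T.left, ∃ k, t ∈ U k) (R : Sieve T)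
    (hR : ∀ k, R.arrows (Over.homMk (U k).ι rfl : Over.mk ((U k).ι ≫ T.hom) ⟶ T)) :
    R ∈ (Scheme.zariskiTopology.over S) T := by
  rw [ClassTop.mem_zariski_over_iff]
  have hU' : TopologicalSpace.IsOpenCover U := by
    rw [TopologicalSpace.IsOpenCover, eq_top_iff]
    intro t _
    obtain ⟨k, hk⟩ := hU t
    exact TopologicalSpace.Opens.mem_iSup.mpr ⟨k, hk⟩
  exact ⟨T.left.openCoverOfIsOpenCover U hU', fun k => hR k⟩

variable (P : (Over S)ᵒᵖ ⥤ Type (u + 1)) {ι : Type u} (W : ι → Over S) (ξ : ∀ i, P.obj (op (W i)))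

/-- the restriction of a section to an open -/
abbrev resOpen {T : Over S} (η : P.obj (op T)) (U : T.left.Opens) : P.obj (op (Over.mk (U.ι ≫ T.hom))) :=
  P.map (Over.homMk U.ι rfl : Over.mk (U.ι ≫ T.hom) ⟶ T).op η

variable
  (hmono : ∀ i (T : Over S) (m m' : T ⟶ W i), P.map m.op (ξ i) = P.map m'.op (ξ i) → m = m')
  (hopen : ∀ i (T : Over S) (η : P.obj (op T)), ∃ U : T.left.Opens,
    (∃ a : Over.mk (U.ι ≫ T.hom) ⟶ W i, P.map a.op (ξ i) = resOpen P η U) ∧
    ∀ (T' : Over S) (k : T' ⟶ T) (m : T' ⟶ W i),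
      P.map m.op (ξ i) = P.map k.op η → Set.range k.left ⊆ (U : Set T.left))
  (hcov : ∀ (T : Over S) (η : P.obj (op T)) (t : T.left), ∃ (i : ι) (U : T.left.Opens), t ∈ U ∧
    ∃ a : Over.mk (U.ι ≫ T.hom) ⟶ W i, P.map a.op (ξ i) = resOpen P η U)
  (hP : Presieve.IsSheaf (Scheme.zariskiTopology.over S) P)

/-- the type of codes of a section -/
abbrev Code (T : Over S) : Type u := ∀ i : ι, Σ U : T.left.Opens, (Over.mk (U.ι ≫ T.hom) ⟶ W i)

/-- the property of a code entry -/
def IsCode {T : Over S} (η : P.obj (op T)) (i : ι)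
    (s : Σ U : T.left.Opens, (Over.mk (U.ι ≫ T.hom) ⟶ W i)) : Prop :=
  P.map s.2.op (ξ i) = resOpen P η s.1 ∧
    ∀ (T' : Over S) (k : T' ⟶ T) (m : T' ⟶ W i),
      P.map m.op (ξ i) = P.map k.op η → Set.range k.left ⊆ (s.1 : Set T.left)

include hopen in
theorem exists_code {T : Over S} (η : P.obj (op T)) : ∃ c : Code W T, ∀ i, IsCode P W ξ η i (c i) := by
  have h : ∀ i, ∃ s : Σ U : T.left.Opens, (Over.mk (U.ι ≫ T.hom) ⟶ W i), IsCode P W ξ η i s := by
    intro i
    obtain ⟨U, ⟨a, ha⟩, hmax⟩ := hopen i T η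
    exact ⟨⟨U, a⟩, ha, hmax⟩
  choose c hc using h
  exact ⟨c, hc⟩

include hcov hP in
/-- a section is determined by any of its codes -/
theorem eq_of_code {T : Over S} (η η' : P.obj (op T)) (c : Code W T) (hc : ∀ i, IsCode P W ξ η i (c i))
    (hc' : ∀ i, IsCode P W ξ η' i (c i)) : η = η' := by
  let R : Sieve T := Sieve.generate (Presieve.ofArrows (fun i => Over.mk ((c i).1.ι ≫ T.hom))
    (fun i => (Over.homMk (c i).1.ι rfl : Over.mk ((c i).1.ι ≫ T.hom) ⟶ T)))
  have hR : R ∈ (Scheme.zariskiTopology.over S) T := by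
    refine mem_zariski_over_of_opens (fun i => (c i).1) (fun t => ?_) R
      (fun i => ⟨_, 𝟙 _, _, Presieve.ofArrows.mk i, Category.id_comp _⟩)
    obtain ⟨i, U, htU, a, ha⟩ := hcov T η t
    refine ⟨i, ?_⟩
    have h1 := (hc i).2 (Over.mk (U.ι ≫ T.hom)) (Over.homMk U.ι rfl) a ha
    apply h1
    change t ∈ Set.range U.ι
    rw [Scheme.Opens.range_ι]
    exact htU
  refine (hP R hR).isSeparatedFor.ext (fun T' f hf => ?_)
  obtain ⟨Z, g, _, ⟨i⟩, rfl⟩ := hf
  have e : ∀ ζ : P.obj (op T),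
      P.map (g ≫ (Over.homMk (c i).1.ι rfl : Over.mk ((c i).1.ι ≫ T.hom) ⟶ T)).op ζ =
        P.map g.op (resOpen P ζ (c i).1) := fun ζ => by
    rw [op_comp, P.map_comp]; rfl
  rw [e, e, ← (hc i).1, ← (hc' i).1]

include hopen hcov hP in
theorem small_of_charts (T : Over S) : Small.{u} (P.obj (op T)) := by
  classical
  let code : P.obj (op T) → Code W T := fun η => (exists_code P W ξ hopen η).choose
  have hcode : ∀ η, ∀ i, IsCode P W ξ η i (code η i) := fun η => (exists_code P W ξ hopen η).choose_spec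
  have hinj : Function.Injective code := by
    intro η η' h
    refine eq_of_code P W ξ hcov hP η η' (code η) (hcode η) ?_
    rw [h]
    exact hcode η'
  exact small_of_injective hinj

section shrink

variable [hs : ∀ T : (Over S)ᵒᵖ, Small.{u} (P.obj T)]

/-- the shrunk presheaf -/
noncomputable def shrinkPsh : (Over S)ᵒᵖ ⥤ Type u where
  obj T := Shrink.{u} (P.obj T)
  map {T T'} f := ↾(fun x => equivShrink (P.obj T') (P.map f ((equivShrink (P.obj T)).symm x)))
  map_id T := by
    ext x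
    simp
  map_comp f g := by
    ext x
    simp

theorem shrinkPsh_map_apply {T T' : (Over S)ᵒᵖ} (f : T ⟶ T') (x : P.obj T) :
    (shrinkPsh P).map f (equivShrink (P.obj T) x) = equivShrink (P.obj T') (P.map f x) := by
  change equivShrink (P.obj T') (P.map f ((equivShrink (P.obj T)).symm (equivShrink (P.obj T) x))) = _
  rw [Equiv.symm_apply_apply]

theorem shrinkPsh_map_eq_iff {T T' T'' : (Over S)ᵒᵖ} (f : T ⟶ T'') (g : T' ⟶ T'') (x : P.obj T) (y : P.obj T') :
    (shrinkPsh P).map f (equivShrink (P.obj T) x) = (shrinkPsh P).map g (equivShrink (P.obj T') y) ↔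
      P.map f x = P.map g y := by
  rw [shrinkPsh_map_apply, shrinkPsh_map_apply]
  exact (equivShrink (P.obj T'')).injective.eq_iff

/-- the comparison with the original presheaf -/
noncomputable def shrinkIso : shrinkPsh P ⋙ uliftFunctor.{u + 1} ≅ P :=
  NatIso.ofComponents (fun T => Equiv.toIso (Equiv.ulift.trans (equivShrink (P.obj T)).symm)) (by
    intro T T' f
    ext ⟨x⟩
    obtain ⟨y, rfl⟩ := (equivShrink (P.obj T)).surjective x
    change (equivShrink (P.obj T')).symm ((shrinkPsh P).map f (equivShrink (P.obj T) y)) =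
      P.map f ((equivShrink (P.obj T)).symm (equivShrink (P.obj T) y))
    rw [shrinkPsh_map_apply, Equiv.symm_apply_apply, Equiv.symm_apply_apply])

theorem shrinkPsh_isSheaf (J : GrothendieckTopology (Over S)) (hP : Presieve.IsSheaf J P) :
    Presieve.IsSheaf J (shrinkPsh P) := by
  rw [← Presieve.isSheaf_comp_uliftFunctor_iff.{u, u + 1}]
  exact Presieve.isSheaf_iso J (shrinkIso P).symm hP

end shrink

include hmono hopen hcov hP in
/-- **Local representability, large values.** -/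
theorem exists_repr_big :
    ∃ (W₀ : Over S) (ξ₀ : P.obj (op W₀)), ∀ T : Over S,
      Function.Bijective (fun m : T ⟶ W₀ => P.map m.op ξ₀) := by
  haveI hs : ∀ T : (Over S)ᵒᵖ, Small.{u} (P.obj T) := fun T =>
    small_of_charts P W ξ hopen hcov hP T.unop
  let F := shrinkPsh P
  let ξ' : ∀ i, F.obj (op (W i)) := fun i => equivShrink _ (ξ i)
  have hF : Presieve.IsSheaf (Scheme.zariskiTopology.over S) F := shrinkPsh_isSheaf P _ hP
  have hsurj : ∀ {T : Over S} (η : F.obj (op T)), ∃ η₀ : P.obj (op T), η = equivShrink _ η₀ :=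
    fun η => ⟨(equivShrink _).symm η, (Equiv.apply_symm_apply _ _).symm⟩
  have hmono' : ∀ i (T : Over S) (m m' : T ⟶ W i), F.map m.op (ξ' i) = F.map m'.op (ξ' i) → m = m' := by
    intro i T m m' h
    exact hmono i T m m' ((shrinkPsh_map_eq_iff P m.op m'.op (ξ i) (ξ i)).mp h)
  have hopen' : ∀ i (T : Over S) (η : F.obj (op T)), ∃ U : T.left.Opens,
      (∃ a : Over.mk (U.ι ≫ T.hom) ⟶ W i,
        F.map a.op (ξ' i) = F.map (Over.homMk U.ι rfl : Over.mk (U.ι ≫ T.hom) ⟶ T).op η) ∧
      ∀ (T' : Over S) (k : T' ⟶ T) (m : T' ⟶ W i),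
        F.map m.op (ξ' i) = F.map k.op η → Set.range k.left ⊆ (U : Set T.left) := by
    intro i T η
    obtain ⟨η₀, rfl⟩ := hsurj η
    obtain ⟨U, ⟨a, ha⟩, hmax⟩ := hopen i T η₀
    refine ⟨U, ⟨a, (shrinkPsh_map_eq_iff P _ _ _ _).mpr ha⟩, fun T' k m hm => ?_⟩
    exact hmax T' k m ((shrinkPsh_map_eq_iff P _ _ _ _).mp hm)
  have hcov' : ∀ (T : Over S) (η : F.obj (op T)) (t : T.left), ∃ (i : ι) (U : T.left.Opens), t ∈ U ∧
      ∃ a : Over.mk (U.ι ≫ T.hom) ⟶ W i,
        F.map a.op (ξ' i) = F.map (Over.homMk U.ι rfl : Over.mk (U.ι ≫ T.hom) ⟶ T).op η := by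
    intro T η t
    obtain ⟨η₀, rfl⟩ := hsurj η
    obtain ⟨i, U, htU, a, ha⟩ := hcov T η₀ t
    exact ⟨i, U, htU, a, (shrinkPsh_map_eq_iff P _ _ _ _).mpr ha⟩
  obtain ⟨W₀, ⟨e⟩⟩ := LocRep.exists_repr F W ξ' hmono' hopen' hcov' hF
  refine ⟨W₀, (equivShrink _).symm (e.homEquiv (𝟙 W₀)), fun T => ?_⟩
  have key : (fun m : T ⟶ W₀ => P.map m.op ((equivShrink _).symm (e.homEquiv (𝟙 W₀)))) =
      (equivShrink (P.obj (op T))).symm ∘ e.homEquiv := by
    funext m
    change _ = (equivShrink (P.obj (op T))).symm (e.homEquiv m)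
    rw [e.homEquiv_eq m, Equiv.eq_symm_apply, ← shrinkPsh_map_apply, Equiv.apply_symm_apply]
  rw [key]
  exact (equivShrink (P.obj (op T))).symm.bijective.comp e.homEquiv.bijective

end Groth.Agent.Lib.Helper4.BigLocRep
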