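import Groth.Agent.StkLocal
set_option autoImplicit false
set_option backward.isDefEq.respectTransparency false
set_option backward.isDefEq.respectTransparency.types false
set_option linter.unusedSectionVars false
set_option linter.style.haveILetI false
open CategoryTheory CategoryTheory.Functor CategoryTheory.Limits
universe v₄ u₄ v₃ u₃ v₂ u₂ v u

/-! Elementary descent for morphisms in a category fibred in groupoids, phrased without 2-categorical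
language: `sep` (a morphism is determined locally, from faithfulness of restriction to a sieve) and
`glue` (compatible local morphisms glue, from fullness of restriction to a sieve). -/

namespace Groth.Agent.Lib.helper4.Descent
open Groth.Agent.FibEquiv Groth.Agent.FibFiberwise Groth.Agent.FibFpProj Groth.Agent.FibYoneda

variable {C : Type u} [Category.{v} C] {𝒳 : BasedCategory.{v₂, u₂} C}

/-- among lifts of one base map, a morphism of a category fibred in groupoids can be cancelled on the right -/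
theorem cancel_right (h𝒳 : FibCat.IsFibGrpd 𝒳.p) {z x y : 𝒳.obj} (b : x ⟶ y) {V W : C} (f : V ⟶ W)
    (ψ₁ ψ₂ : z ⟶ x) [h1 : 𝒳.p.IsHomLift f ψ₁] [h2 : 𝒳.p.IsHomLift f ψ₂] (h : ψ₁ ≫ b = ψ₂ ≫ b) : ψ₁ = ψ₂ := by
  have hW : 𝒳.p.obj x = W := IsHomLift.codomain_eq 𝒳.p f ψ₁
  subst hW
  have hb : 𝒳.p.IsStronglyCartesian (𝒳.p.map b) b := h𝒳.isStronglyCartesian b
  have h3 : 𝒳.p.IsHomLift (f ≫ 𝒳.p.map b) (ψ₁ ≫ b) := inferInstance
  rw [IsStronglyCartesian.map_uniq 𝒳.p (𝒳.p.map b) b (g := f) (f' := f ≫ 𝒳.p.map b) rfl (ψ₁ ≫ b) ψ₁ rfl,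
    IsStronglyCartesian.map_uniq 𝒳.p (𝒳.p.map b) b (g := f) (f' := f ≫ 𝒳.p.map b) rfl (ψ₁ ≫ b) ψ₂ h.symm]

/-- every lift of `k ≫ f` factors through a given lift of `f` -/
theorem exists_factor (h𝒳 : FibCat.IsFibGrpd 𝒳.p) {x' x'' x : 𝒳.obj} {V W U : C} (f : V ⟶ U) (χ : x' ⟶ x)
    [𝒳.p.IsHomLift f χ] (k : W ⟶ V) (f' : W ⟶ U) (hf' : f' = k ≫ f) (χ' : x'' ⟶ x) [𝒳.p.IsHomLift f' χ'] :
    ∃ κ : x'' ⟶ x', 𝒳.p.IsHomLift k κ ∧ κ ≫ χ = χ' := by
  have hχ : 𝒳.p.IsStronglyCartesian f χ := isStronglyCartesian_of_isFibGrpd 𝒳.p h𝒳 f χ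
  exact ⟨IsStronglyCartesian.map 𝒳.p f χ hf' χ', inferInstance, IsStronglyCartesian.fac 𝒳.p f χ hf' χ'⟩

/-- a morphism over an isomorphism is an isomorphism -/
theorem isIso_of_lift (h𝒳 : FibCat.IsFibGrpd 𝒳.p) {x y : 𝒳.obj} {V W : C} (f : V ⟶ W) [IsIso f] (a : x ⟶ y)
    [𝒳.p.IsHomLift f a] : IsIso a := by
  have ha : 𝒳.p.IsStronglyCartesian f a := isStronglyCartesian_of_isFibGrpd 𝒳.p h𝒳 f a
  exact IsStronglyCartesian.isIso_of_base_isIso 𝒳.p f a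

/-- functors into a category fibred in groupoids preserve strongly cartesian morphisms -/
theorem preserves_of_isFibGrpd (h𝒳 : FibCat.IsFibGrpd 𝒳.p) {𝒜 : BasedCategory.{v₃, u₃} C} (H : 𝒜 ⥤ᵇ 𝒳) :
    FibCat.PreservesStronglyCartesian H := by
  intro R S f a b φ hφ
  have := hφ.toIsHomLift
  exact isStronglyCartesian_of_isFibGrpd 𝒳.p h𝒳 f (H.toFunctor.map φ)

/-- change the base map of a lift along the base map of another lift -/
theorem isHomLift_comp_of {x' x y : 𝒳.obj} (χ : x' ⟶ x) {V W : C} (f : V ⟶ 𝒳.p.obj x) [𝒳.p.IsHomLift f χ]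
    (g : 𝒳.p.obj x ⟶ W) (ψ : x' ⟶ y) [𝒳.p.IsHomLift (𝒳.p.map χ ≫ g) ψ] : 𝒳.p.IsHomLift (f ≫ g) ψ := by
  have hV : 𝒳.p.obj x' = V := IsHomLift.domain_eq 𝒳.p f χ
  subst hV
  have : 𝒳.p.map χ = f := by simpa using IsHomLift.fac' 𝒳.p f χ
  rw [← this]; infer_instance

/-- composition with `g : U ⟶ V` as a functor over `C` between slices -/
def ovMap {U V : C} (g : U ⟶ V) : FibCat.overCat U ⥤ᵇ FibCat.overCat V := ⟨Over.map g, Over.mapForget_eq _⟩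

/-- **Separation.** Two morphisms over the same base map which agree after restriction along (some lift of) every
member of a sieve for which restriction is faithful are equal. -/
theorem sep (h𝒳 : FibCat.IsFibGrpd 𝒳.p) {x y : 𝒳.obj} (a b : x ⟶ y) (g : 𝒳.p.obj x ⟶ 𝒳.p.obj y)
    [ha : 𝒳.p.IsHomLift g a] [hb : 𝒳.p.IsHomLift g b]
    (R : Sieve (𝒳.p.obj x)) (hR : (Stk.resSieve R 𝒳).Faithful)
    (h : ∀ ⦃V : C⦄ (f : V ⟶ 𝒳.p.obj x), R f →
      ∃ (x' : 𝒳.obj) (χ : x' ⟶ x), 𝒳.p.IsHomLift f χ ∧ χ ≫ a = χ ≫ b) : a = b := by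
  classical
  have hfib : 𝒳.p.IsFibered := isFibered_of_isFibGrpd 𝒳.p h𝒳
  have hbsc : 𝒳.p.IsStronglyCartesian g b := isStronglyCartesian_of_isFibGrpd 𝒳.p h𝒳 g b
  let c : x ⟶ x := IsStronglyCartesian.map 𝒳.p g b (g := 𝟙 _) (f' := g) (by simp) a
  have hc : 𝒳.p.IsHomLift (𝟙 (𝒳.p.obj x)) c := by dsimp only [c]; infer_instance
  have hcb : c ≫ b = a := IsStronglyCartesian.fac 𝒳.p g b (by simp) a
  suffices hc1 : c = 𝟙 x by rw [← hcb, hc1, Category.id_comp]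
  let G : FibCat.overCat (𝒳.p.obj x) ⥤ᵇ 𝒳 := yBased x
  have hG : FibCat.PreservesStronglyCartesian G := yBased_preserves x
  let E : G.toFunctor.obj (Over.mk (𝟙 (𝒳.p.obj x))) ⟶ x := yMap x (Over.mk (𝟙 (𝒳.p.obj x)))
  have hE : 𝒳.p.IsHomLift (𝟙 (𝒳.p.obj x)) E :=
    (yMap_isStronglyCartesian x (Over.mk (𝟙 (𝒳.p.obj x)))).toIsHomLift
  have hEiso : IsIso E := isIso_of_lift h𝒳 (𝟙 (𝒳.p.obj x)) E
  let μ : G.toFunctor.obj (Over.mk (𝟙 (𝒳.p.obj x))) ⟶ G.toFunctor.obj (Over.mk (𝟙 (𝒳.p.obj x))) := E ≫ c ≫ inv E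
  have hμ : 𝒳.p.IsHomLift (𝟙 (𝒳.p.obj x)) μ := by
    have : 𝒳.p.IsHomLift (𝟙 (𝒳.p.obj x) ≫ 𝟙 (𝒳.p.obj x) ≫ 𝟙 (𝒳.p.obj x)) (E ≫ c ≫ inv E) := inferInstance
    simpa using this
  obtain ⟨α, hα⟩ := exists_of_app_id hG μ
  have key : α = 𝟙 G := by
    apply hR.map_injective
    apply BasedNatTrans.homCategory.ext
    ext s
    change α.toNatTrans.app s.obj = 𝟙 _
    have hsc := map_toId_isStronglyCartesian G hG s.obj
    have h1 : 𝒳.p.IsHomLift (𝟙 s.obj.left) (α.toNatTrans.app s.obj) := app_isHomLift α s.obj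
    have h2 : 𝒳.p.IsHomLift (𝟙 s.obj.left) (𝟙 (G.toFunctor.obj s.obj)) :=
      IsHomLift.id (yObj_proj x s.obj)
    apply cancel_right h𝒳 (G.toFunctor.map (toId s.obj)) (𝟙 s.obj.left)
    rw [Category.id_comp, ← α.toNatTrans.naturality, hα]
    -- reduce to χ₀ ≫ c = χ₀
    have hfac : G.toFunctor.map (toId s.obj) ≫ E = yMap x s.obj := yHom_fac x (toId s.obj)
    have hχ₀ : 𝒳.p.IsHomLift s.obj.hom (yMap x s.obj) := (yMap_isStronglyCartesian x s.obj).toIsHomLift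
    obtain ⟨x', χ, hχ, hχab⟩ := h s.obj.hom s.property
    obtain ⟨ι, hι, hιχ⟩ := exists_factor h𝒳 s.obj.hom χ (𝟙 _) s.obj.hom (by simp) (yMap x s.obj)
    have e1 : yMap x s.obj ≫ a = yMap x s.obj ≫ b := by
      rw [← hιχ, Category.assoc, Category.assoc, hχab]
    have e2 : yMap x s.obj ≫ c = yMap x s.obj := by
      have h3 : 𝒳.p.IsHomLift s.obj.hom (yMap x s.obj ≫ c) := by
        have : 𝒳.p.IsHomLift (s.obj.hom ≫ 𝟙 _) (yMap x s.obj ≫ c) := inferInstance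
        simpa using this
      apply cancel_right h𝒳 b s.obj.hom
      rw [Category.assoc, hcb, e1]
    dsimp only [μ]
    rw [← Category.assoc, ← Category.assoc, hfac, e2, ← hfac, Category.assoc, IsIso.hom_inv_id, Category.comp_id]
  have hμ1 : μ = 𝟙 _ := by
    rw [← hα, key]; rfl
  have : E ≫ c = E := by
    have := congrArg (fun t => t ≫ E) hμ1
    simpa [μ] using this
  exact (cancel_epi E).1 (by rw [this, Category.comp_id])

/-- **Gluing.** A compatible family of morphisms `x' ⟶ y`, indexed by the morphisms `χ : x' ⟶ x` lying over members of a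
sieve `R` for which restriction is full, and lying over `𝒳.p.map χ ≫ g`, comes from a morphism `x ⟶ y` over `g`. -/
theorem glue (h𝒳 : FibCat.IsFibGrpd 𝒳.p) {x y : 𝒳.obj} (g : 𝒳.p.obj x ⟶ 𝒳.p.obj y)
    (R : Sieve (𝒳.p.obj x)) (hR : (Stk.resSieve R 𝒳).Full)
    (φ : ∀ (x' : 𝒳.obj) (χ : x' ⟶ x), R (𝒳.p.map χ) → (x' ⟶ y))
    (hφ : ∀ x' χ h, 𝒳.p.IsHomLift (𝒳.p.map χ ≫ g) (φ x' χ h))
    (hcompat : ∀ (x' : 𝒳.obj) (χ : x' ⟶ x) (h : R (𝒳.p.map χ)) (x'' : 𝒳.obj) (κ : x'' ⟶ x')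
      (h' : R (𝒳.p.map (κ ≫ χ))), φ x'' (κ ≫ χ) h' = κ ≫ φ x' χ h) :
    ∃ a : x ⟶ y, 𝒳.p.IsHomLift g a ∧ ∀ x' χ h, χ ≫ a = φ x' χ h := by
  classical
  have hfib : 𝒳.p.IsFibered := isFibered_of_isFibGrpd 𝒳.p h𝒳
  have φ_congr : ∀ (x' : 𝒳.obj) (χ₁ χ₂ : x' ⟶ x) (e : χ₁ = χ₂) (h₁ : R (𝒳.p.map χ₁)) (h₂ : R (𝒳.p.map χ₂)),
      φ x' χ₁ h₁ = φ x' χ₂ h₂ := by
    intro x' χ₁ χ₂ e h₁ h₂; subst e; rfl
  let G : FibCat.overCat (𝒳.p.obj x) ⥤ᵇ 𝒳 := yBased x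
  let H : FibCat.overCat (𝒳.p.obj x) ⥤ᵇ 𝒳 := BasedFunctor.comp (ovMap g) (yBased y)
  have hH : FibCat.PreservesStronglyCartesian H := preserves_of_isFibGrpd h𝒳 H
  -- the canonical lifts
  have hχlift : ∀ s : Over (𝒳.p.obj x), 𝒳.p.IsHomLift s.hom (yMap x s) := fun s =>
    (yMap_isStronglyCartesian x s).toIsHomLift
  have hmem : ∀ s : (Stk.sieveCat R).obj, R (𝒳.p.map (yMap x s.obj)) := fun s => by
    have := hχlift s.obj
    rw [IsHomLift.fac' 𝒳.p s.obj.hom (yMap x s.obj)]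
    simpa using R.downward_closed s.property (eqToHom (IsHomLift.domain_eq 𝒳.p s.obj.hom (yMap x s.obj)))
  let Φ : ∀ s : (Stk.sieveCat R).obj, yObj x s.obj ⟶ y := fun s => φ _ (yMap x s.obj) (hmem s)
  have hΦ : ∀ s : (Stk.sieveCat R).obj, 𝒳.p.IsHomLift (s.obj.hom ≫ g) (Φ s) := fun s => by
    have h1 := hφ _ (yMap x s.obj) (hmem s)
    have h2 := hχlift s.obj
    exact isHomLift_comp_of (yMap x s.obj) s.obj.hom g (Φ s)
  let Y : ∀ s : Over (𝒳.p.obj x), yObj y ((Over.map g).obj s) ⟶ y := fun s => yMap y ((Over.map g).obj s)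
  have hYsc : ∀ s : Over (𝒳.p.obj x), 𝒳.p.IsStronglyCartesian (s.hom ≫ g) (Y s) := fun s =>
    yMap_isStronglyCartesian y ((Over.map g).obj s)
  let β : ∀ s : (Stk.sieveCat R).obj, G.toFunctor.obj s.obj ⟶ H.toFunctor.obj s.obj := fun s =>
    haveI := hYsc s.obj
    haveI := hΦ s
    IsStronglyCartesian.map 𝒳.p (s.obj.hom ≫ g) (Y s.obj) (g := 𝟙 s.obj.left) (f' := s.obj.hom ≫ g) (by simp) (Φ s)
  have hβlift : ∀ s, 𝒳.p.IsHomLift (𝟙 s.obj.left) (β s) := fun s => by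
    haveI := hYsc s.obj
    haveI := hΦ s
    dsimp only [β]; infer_instance
  have hβfac : ∀ s, β s ≫ Y s.obj = Φ s := fun s => by
    haveI := hYsc s.obj
    haveI := hΦ s
    exact IsStronglyCartesian.fac 𝒳.p (s.obj.hom ≫ g) (Y s.obj) (by simp) (Φ s)
  have hHfac : ∀ {s t : Over (𝒳.p.obj x)} (k : s ⟶ t), H.toFunctor.map k ≫ Y t = Y s := fun {s t} k =>
    yHom_fac y ((Over.map g).map k)
  have hGfac : ∀ {s t : Over (𝒳.p.obj x)} (k : s ⟶ t), G.toFunctor.map k ≫ yMap x t = yMap x s := fun {s t} k =>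
    yHom_fac x k
  have hnat : ∀ {s t : (Stk.sieveCat R).obj} (k : s ⟶ t),
      G.toFunctor.map k.hom ≫ β t = β s ≫ H.toFunctor.map k.hom := by
    intro s t k
    have hGk : 𝒳.p.IsHomLift k.hom.left (G.toFunctor.map k.hom) := map_hom_isHomLift G k.hom
    have hHk : 𝒳.p.IsHomLift k.hom.left (H.toFunctor.map k.hom) := map_hom_isHomLift H k.hom
    have hs := hβlift s
    have ht := hβlift t
    have hl1 : 𝒳.p.IsHomLift k.hom.left (G.toFunctor.map k.hom ≫ β t) := by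
      have : 𝒳.p.IsHomLift (k.hom.left ≫ 𝟙 t.obj.left) (G.toFunctor.map k.hom ≫ β t) := inferInstance
      simpa using this
    have hl2 : 𝒳.p.IsHomLift k.hom.left (β s ≫ H.toFunctor.map k.hom) := by
      have : 𝒳.p.IsHomLift (𝟙 s.obj.left ≫ k.hom.left) (β s ≫ H.toFunctor.map k.hom) := inferInstance
      simpa using this
    apply cancel_right h𝒳 (Y t.obj) k.hom.left
    rw [Category.assoc, Category.assoc, hβfac, hHfac, hβfac]
    dsimp only [Φ]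
    rw [← hcompat _ (yMap x t.obj) (hmem t) _ (G.toFunctor.map k.hom) (by rw [hGfac]; exact hmem s)]
    exact φ_congr _ _ _ (hGfac k.hom) _ _
  let βn : (Stk.resSieve R 𝒳).obj G ⟶ (Stk.resSieve R 𝒳).obj H :=
    { toNatTrans := { app := β, naturality := fun s t k => hnat k }
      isHomLift' := fun s => hβlift s }
  obtain ⟨α, hα⟩ := hR.map_surjective βn
  have hαapp : ∀ s : (Stk.sieveCat R).obj, α.toNatTrans.app s.obj = β s := fun s =>
    congrArg (fun t => t.toNatTrans.app s) hα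
  -- the glued morphism
  let I : Over (𝒳.p.obj x) := Over.mk (𝟙 (𝒳.p.obj x))
  let E : G.toFunctor.obj I ⟶ x := yMap x I
  have hE : 𝒳.p.IsHomLift (𝟙 (𝒳.p.obj x)) E := hχlift I
  have hEiso : IsIso E := isIso_of_lift h𝒳 (𝟙 (𝒳.p.obj x)) E
  have hαI : 𝒳.p.IsHomLift (𝟙 (𝒳.p.obj x)) (α.toNatTrans.app I) := app_isHomLift α I
  have hYI : 𝒳.p.IsHomLift (𝟙 (𝒳.p.obj x) ≫ g) (Y I) := (hYsc I).toIsHomLift
  refine ⟨inv E ≫ α.toNatTrans.app I ≫ Y I, ?_, ?_⟩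
  · have : 𝒳.p.IsHomLift (𝟙 (𝒳.p.obj x) ≫ 𝟙 (𝒳.p.obj x) ≫ 𝟙 (𝒳.p.obj x) ≫ g)
        (inv E ≫ α.toNatTrans.app I ≫ Y I) := inferInstance
    simpa using this
  · intro x' χ h
    let s : (Stk.sieveCat R).obj := ⟨Over.mk (𝒳.p.map χ), h⟩
    have hχ : 𝒳.p.IsHomLift s.obj.hom χ := by
      change 𝒳.p.IsHomLift (𝒳.p.map χ) χ
      infer_instance
    have := hχlift s.obj
    obtain ⟨ι, hι, hιχ⟩ := exists_factor h𝒳 s.obj.hom (yMap x s.obj) (𝟙 _) s.obj.hom (by simp) χ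
    have e1 : yMap x s.obj ≫ inv E = G.toFunctor.map (toId s.obj) := by
      rw [IsIso.comp_inv_eq]
      exact (hGfac (toId s.obj)).symm
    have e2 : G.toFunctor.map (toId s.obj) ≫ α.toNatTrans.app I =
        α.toNatTrans.app s.obj ≫ H.toFunctor.map (toId s.obj) := α.toNatTrans.naturality (toId s.obj)
    have e3 : χ ≫ inv E ≫ α.toNatTrans.app I ≫ Y I = ι ≫ Φ s := by
      conv_lhs => rw [← hιχ]
      rw [Category.assoc, ← Category.assoc (yMap x s.obj), e1, ← Category.assoc (G.toFunctor.map _), e2,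
        Category.assoc, hHfac, hαapp, hβfac]
    rw [e3]
    dsimp only [Φ]
    rw [← hcompat _ (yMap x s.obj) (hmem s) _ ι (by rw [hιχ]; exact h)]
    exact φ_congr _ _ _ hιχ _ _

end Groth.Agent.Lib.helper4.Descent
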