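import Groth.Agent.Lib.Helper4.PshDict
import Groth.Agent.Lib.Helper4.Descent
import Groth.Agent.Lib.Helper4.AlgStFaithful
set_option autoImplicit false
set_option backward.isDefEq.respectTransparency false
set_option backward.isDefEq.respectTransparency.types false
set_option linter.unusedSectionVars false
set_option linter.style.haveILetI false
open CategoryTheory CategoryTheory.Functor CategoryTheory.Limits Opposite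
universe w' w v₄ u₄ v₃ u₃ v₂ u₂ v u

/-! A category fibred in setoids is equivalent over the base to the category of its presheaf of isomorphism classes. -/

namespace Groth.Agent.Lib.helper4.PshOfSetoid
open Groth.Agent.FibEquiv Groth.Agent.FibFpProj Stk FibCat Groth.Agent.Lib.helper4.Descent

variable {C : Type u} [Category.{v} C] (𝒳 : BasedCategory.{v₂, u₂} C)

/-- `y` is a pullback of `x` along `f` -/
def Rel {V U : C} (f : V ⟶ U) (y x : 𝒳.obj) : Prop := ∃ ψ : y ⟶ x, 𝒳.p.IsHomLift f ψ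

variable {𝒳}

theorem Rel.comp {W V U : C} {g : W ⟶ V} {f : V ⟶ U} {z y x : 𝒳.obj} (h₁ : Rel 𝒳 g z y) (h₂ : Rel 𝒳 f y x) :
    Rel 𝒳 (g ≫ f) z x := by
  obtain ⟨ψ₁, h₁⟩ := h₁
  obtain ⟨ψ₂, h₂⟩ := h₂
  exact ⟨ψ₁ ≫ ψ₂, inferInstance⟩

theorem Rel.refl (x : 𝒳.obj) : Rel 𝒳 (𝟙 (𝒳.p.obj x)) x x := ⟨𝟙 x, inferInstance⟩

theorem Rel.refl' {x : 𝒳.obj} {U : C} (hx : 𝒳.p.obj x = U) : Rel 𝒳 (𝟙 U) x x := by
  subst hx; exact Rel.refl x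

theorem Rel.cancel (h𝒳 : IsFibGrpd 𝒳.p) {V U : C} {f : V ⟶ U} {y y' x : 𝒳.obj} (h₁ : Rel 𝒳 f y x)
    (h₂ : Rel 𝒳 f y' x) : Rel 𝒳 (𝟙 V) y y' := by
  obtain ⟨ψ₁, h₁⟩ := h₁
  obtain ⟨ψ₂, h₂⟩ := h₂
  have hc : 𝒳.p.IsStronglyCartesian f ψ₂ := isStronglyCartesian_of_isFibGrpd 𝒳.p h𝒳 f ψ₂
  have h₁' : 𝒳.p.IsHomLift (𝟙 V ≫ f) ψ₁ := by rw [Category.id_comp]; exact h₁
  exact ⟨IsStronglyCartesian.map 𝒳.p f ψ₂ (g := 𝟙 V) (f' := 𝟙 V ≫ f) rfl ψ₁, inferInstance⟩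

theorem Rel.symm (h𝒳 : IsFibGrpd 𝒳.p) {U : C} {y x : 𝒳.obj} (h : Rel 𝒳 (𝟙 U) y x) : Rel 𝒳 (𝟙 U) x y := by
  have hx : 𝒳.p.obj x = U := by obtain ⟨ψ, hψ⟩ := h; exact IsHomLift.codomain_eq 𝒳.p (𝟙 U) ψ
  exact Rel.cancel h𝒳 (Rel.refl' hx) h

theorem Rel.trans {U : C} {z y x : 𝒳.obj} (h₁ : Rel 𝒳 (𝟙 U) z y) (h₂ : Rel 𝒳 (𝟙 U) y x) :
    Rel 𝒳 (𝟙 U) z x := by
  have := Rel.comp h₁ h₂
  rwa [Category.id_comp] at this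

theorem Rel.exists (h𝒳 : IsFibGrpd 𝒳.p) {V U : C} (f : V ⟶ U) {x : 𝒳.obj} (hx : 𝒳.p.obj x = U) :
    ∃ y : 𝒳.obj, 𝒳.p.obj y = V ∧ Rel 𝒳 f y x := by
  obtain ⟨y, ψ, hψ⟩ := exists_lift_of_eq 𝒳.p h𝒳 hx f
  exact ⟨y, IsHomLift.domain_eq 𝒳.p f ψ, ψ, hψ⟩

variable (𝒳) in
/-- objects of the fibre over `U` -/
def FibObj (U : C) : Type u₂ := {x : 𝒳.obj // 𝒳.p.obj x = U}

/-- the relation of being isomorphic in the fibre -/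
def fibSetoid (h𝒳 : IsFibGrpd 𝒳.p) (U : C) : Setoid (FibObj 𝒳 U) where
  r x y := Rel 𝒳 (𝟙 U) x.1 y.1
  iseqv :=
    { refl := fun x => Rel.refl' x.2
      symm := fun h => Rel.symm h𝒳 h
      trans := fun h₁ h₂ => Rel.trans h₁ h₂ }

/-- isomorphism classes of the fibre over `U` -/
def Cls (h𝒳 : IsFibGrpd 𝒳.p) (U : C) : Type u₂ := Quotient (fibSetoid h𝒳 U)

/-- a chosen pullback -/
noncomputable def pull (h𝒳 : IsFibGrpd 𝒳.p) {V U : C} (f : V ⟶ U) (x : FibObj 𝒳 U) : FibObj 𝒳 V :=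
  ⟨(Rel.exists h𝒳 f x.2).choose, (Rel.exists h𝒳 f x.2).choose_spec.1⟩

theorem pull_rel (h𝒳 : IsFibGrpd 𝒳.p) {V U : C} (f : V ⟶ U) (x : FibObj 𝒳 U) :
    Rel 𝒳 f (pull h𝒳 f x).1 x.1 := (Rel.exists h𝒳 f x.2).choose_spec.2

/-- restriction of isomorphism classes -/
noncomputable def clsMap (h𝒳 : IsFibGrpd 𝒳.p) {V U : C} (f : V ⟶ U) : Cls h𝒳 U → Cls h𝒳 V :=
  Quotient.lift (fun x => (Quotient.mk (fibSetoid h𝒳 V) (pull h𝒳 f x) : Cls h𝒳 V)) (fun x x' (hxx' : Rel 𝒳 (𝟙 U) x.1 x'.1) => by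
    apply Quotient.sound
    change Rel 𝒳 (𝟙 V) (pull h𝒳 f x).1 (pull h𝒳 f x').1
    have h1 : Rel 𝒳 (f ≫ 𝟙 U) (pull h𝒳 f x).1 x'.1 := Rel.comp (pull_rel h𝒳 f x) hxx'
    rw [Category.comp_id] at h1
    exact Rel.cancel h𝒳 h1 (pull_rel h𝒳 f x'))

theorem clsMap_mk_eq_iff (h𝒳 : IsFibGrpd 𝒳.p) {V U : C} (f : V ⟶ U) (x : FibObj 𝒳 U) (y : FibObj 𝒳 V) :
    clsMap h𝒳 f (Quotient.mk _ x) = Quotient.mk _ y ↔ Rel 𝒳 f y.1 x.1 := by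
  constructor
  · intro h
    have h1 : Rel 𝒳 (𝟙 V) (pull h𝒳 f x).1 y.1 := Quotient.exact h
    have h2 := Rel.comp (Rel.symm h𝒳 h1) (pull_rel h𝒳 f x)
    rwa [Category.id_comp] at h2
  · intro h
    apply Quotient.sound
    exact Rel.cancel h𝒳 (pull_rel h𝒳 f x) h

/-- the presheaf of isomorphism classes -/
noncomputable def clsPsh (h𝒳 : IsFibGrpd 𝒳.p) : Cᵒᵖ ⥤ Type u₂ where
  obj U := Cls h𝒳 U.unop
  map {U V} f := ↾(clsMap h𝒳 f.unop)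
  map_id U := by
    ext q
    obtain ⟨x, rfl⟩ := Quotient.exists_rep q
    exact (clsMap_mk_eq_iff h𝒳 _ x x).2 (Rel.refl' x.2)
  map_comp {U V W} f g := by
    ext q
    obtain ⟨x, rfl⟩ := Quotient.exists_rep q
    change clsMap h𝒳 (g.unop ≫ f.unop) (Quotient.mk _ x) =
      clsMap h𝒳 g.unop (clsMap h𝒳 f.unop (Quotient.mk _ x))
    have h1 : clsMap h𝒳 f.unop (Quotient.mk _ x) = Quotient.mk _ (pull h𝒳 f.unop x) := rfl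
    rw [h1]
    have h2 : clsMap h𝒳 g.unop (Quotient.mk _ (pull h𝒳 f.unop x)) =
        Quotient.mk _ (pull h𝒳 g.unop (pull h𝒳 f.unop x)) := rfl
    rw [h2, clsMap_mk_eq_iff]
    exact Rel.comp (pull_rel h𝒳 _ _) (pull_rel h𝒳 _ _)

theorem clsPsh_map_mk_eq_iff (h𝒳 : IsFibGrpd 𝒳.p) {V U : C} (f : V ⟶ U) (x : FibObj 𝒳 U) (y : FibObj 𝒳 V) :
    (clsPsh h𝒳).map f.op (Quotient.mk _ x : Cls h𝒳 U) = (Quotient.mk _ y : Cls h𝒳 V) ↔ Rel 𝒳 f y.1 x.1 :=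
  clsMap_mk_eq_iff h𝒳 f x y

/-- the class of an object -/
def cls (h𝒳 : IsFibGrpd 𝒳.p) (x : 𝒳.obj) : (clsPsh h𝒳).obj (op (𝒳.p.obj x)) :=
  (Quotient.mk (fibSetoid h𝒳 (𝒳.p.obj x)) ⟨x, rfl⟩ : Cls h𝒳 (𝒳.p.obj x))

/-- the functor to the category of the presheaf of isomorphism classes -/
noncomputable def toCls (h𝒳 : IsFibGrpd 𝒳.p) : 𝒳 ⥤ᵇ ofPsh (clsPsh h𝒳) where
  toFunctor :=
    { obj := fun x => ⟨𝒳.p.obj x, cls h𝒳 x⟩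
      map := fun {x y} φ => ⟨𝒳.p.map φ,
        (clsPsh_map_mk_eq_iff h𝒳 (𝒳.p.map φ) ⟨y, rfl⟩ ⟨x, rfl⟩).2 ⟨φ, inferInstance⟩⟩
      map_id := fun x => by apply EltObj.hom_ext; exact 𝒳.p.map_id x
      map_comp := fun φ ψ => by apply EltObj.hom_ext; exact 𝒳.p.map_comp φ ψ }
  w := rfl

theorem toCls_faithful (h𝒳 : IsFibSetoid 𝒳.p) : (toCls h𝒳.1).toFunctor.Faithful where
  map_injective := fun {x y} φ φ' h => by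
    have hf : 𝒳.p.map φ = 𝒳.p.map φ' := congrArg EltObj.Hom.hom h
    have hc : 𝒳.p.IsStronglyCartesian (𝒳.p.map φ) φ := h𝒳.1.isStronglyCartesian φ
    have h' : 𝒳.p.IsHomLift (𝟙 (𝒳.p.obj x) ≫ 𝒳.p.map φ) φ' := by
      rw [Category.id_comp, hf]; infer_instance
    let χ : x ⟶ x := IsStronglyCartesian.map 𝒳.p (𝒳.p.map φ) φ (g := 𝟙 _) (f' := 𝟙 _ ≫ 𝒳.p.map φ) rfl φ'
    have hχ : χ ≫ φ = φ' := IsStronglyCartesian.fac 𝒳.p (𝒳.p.map φ) φ rfl φ'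
    have hχ1 : 𝒳.p.IsHomLift (𝟙 (𝒳.p.obj x)) χ := inferInstance
    have hid : 𝒳.p.IsHomLift (𝟙 (𝒳.p.obj x)) (𝟙 x) := inferInstance
    have : χ = 𝟙 x := Groth.Agent.Lib.helper4.AlgStFaithful.vertical_eq_of_thin h𝒳.2 (V := 𝒳.p.obj x) χ (𝟙 x)
    rw [← hχ, this, Category.id_comp]

theorem toCls_full (h𝒳 : IsFibGrpd 𝒳.p) : (toCls h𝒳).toFunctor.Full where
  map_surjective := fun {x y} m => by
    have h1 : (clsPsh h𝒳).map m.hom.op (cls h𝒳 y) = cls h𝒳 x := m.map_sec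
    obtain ⟨ψ, hψ⟩ := (clsPsh_map_mk_eq_iff h𝒳 m.hom ⟨y, rfl⟩ ⟨x, rfl⟩).1 h1
    refine ⟨ψ, ?_⟩
    apply EltObj.hom_ext
    exact (IsHomLift.eq_of_isHomLift 𝒳.p m.hom ψ).symm

theorem toCls_essSurj_aux (h𝒳 : IsFibGrpd 𝒳.p) (U : C) (x : 𝒳.obj) (hx : 𝒳.p.obj x = U) :
    ∃ (ξ : 𝒳.obj) (e : (toCls h𝒳).toFunctor.obj ξ ≅
        (⟨U, (Quotient.mk (fibSetoid h𝒳 U) ⟨x, hx⟩ : Cls h𝒳 U)⟩ : EltObj (clsPsh h𝒳))),
      (ofPsh (clsPsh h𝒳)).p.IsHomLift (𝟙 U) e.hom := by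
  subst hx
  exact ⟨x, Iso.refl _, IsHomLift.id rfl⟩

theorem toCls_isEquivOver (h𝒳 : IsFibSetoid 𝒳.p) : IsEquivOver (toCls h𝒳.1) := by
  have := toCls_faithful h𝒳
  have := toCls_full h𝒳.1
  apply isEquivOver_of
  rintro ⟨U, q⟩
  obtain ⟨⟨x, hx⟩, rfl⟩ := Quotient.exists_rep (s := fibSetoid h𝒳.1 U) q
  exact toCls_essSurj_aux h𝒳.1 U x hx

end Groth.Agent.Lib.helper4.PshOfSetoid
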