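import Groth.Agent.Lib.Helper4.PshDict
set_option autoImplicit false
set_option backward.isDefEq.respectTransparency false
set_option backward.isDefEq.respectTransparency.types false
set_option linter.unusedSectionVars false
set_option linter.style.haveILetI false
open CategoryTheory CategoryTheory.Functor CategoryTheory.Limits Opposite
universe w' w v₄ u₄ v₃ u₃ v₂ u₂ v u

/-! The category of a presheaf is a stack exactly when the presheaf is a sheaf. -/

namespace Groth.Agent.Lib.helper4.PshStack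
open Groth.Agent.FibEquiv Groth.Agent.FibYoneda Stk FibCat Groth.Agent.Lib.helper4.PshDict

variable {C : Type u} [Category.{v} C] {P : Cᵒᵖ ⥤ Type w} {𝒲 : BasedCategory.{v₂, u₂} C}

/-- a 2-morphism of functors into `ofPsh P` forces equal sections -/
theorem secOf_eq_of_hom {A B : 𝒲 ⥤ᵇ ofPsh P} (α : A ⟶ B) (x : 𝒲.obj) : secOf A x = secOf B x := by
  have h1 : P.map (α.toNatTrans.app x).hom.op (B.obj x).sec = (A.obj x).sec :=
    (α.toNatTrans.app x).map_sec
  have h2 : (ofPsh P).p.IsHomLift (𝟙 (𝒲.p.obj x)) (α.toNatTrans.app x) := α.isHomLift' x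
  have h3 : (α.toNatTrans.app x).hom = eqToHom ((base_eq A x).trans (base_eq B x).symm) := by
    have := IsHomLift.fac' (ofPsh P).p (𝟙 (𝒲.p.obj x)) (α.toNatTrans.app x)
    simpa using this
  unfold secOf
  rw [← h1, h3, eqToHom_op_comp_apply]

/-- there is at most one 2-morphism between functors into `ofPsh P` -/
theorem hom_subsingleton (A B : 𝒲 ⥤ᵇ ofPsh P) : Subsingleton (A ⟶ B) := by
  refine ⟨fun α β => ?_⟩
  apply BasedNatTrans.homCategory.ext
  ext x
  have h2 : (ofPsh P).p.IsHomLift (𝟙 (𝒲.p.obj x)) (α.toNatTrans.app x) := α.isHomLift' x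
  have h2' : (ofPsh P).p.IsHomLift (𝟙 (𝒲.p.obj x)) (β.toNatTrans.app x) := β.isHomLift' x
  have h3 := IsHomLift.fac' (ofPsh P).p (𝟙 (𝒲.p.obj x)) (α.toNatTrans.app x)
  have h3' := IsHomLift.fac' (ofPsh P).p (𝟙 (𝒲.p.obj x)) (β.toNatTrans.app x)
  exact h3.trans h3'.symm

variable {U : C}

/-- the functor `C/U ⥤ᵇ ofPsh P` of a section of `P` over `U` -/
def ofSec (s : P.obj (op U)) : overCat U ⥤ᵇ ofPsh P where
  toFunctor :=
    { obj := fun a => ⟨a.left, P.map a.hom.op s⟩
      map := fun {a b} k => ⟨k.left, by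
        change P.map k.left.op (P.map b.hom.op s) = P.map a.hom.op s
        rw [← map_comp_op_apply, Over.w k]⟩
      map_id := fun a => by apply EltObj.hom_ext; rfl
      map_comp := fun k l => by apply EltObj.hom_ext; rfl }
  w := rfl

theorem secOf_ofSec (s : P.obj (op U)) (a : Over U) : secOf (ofSec s) a = P.map a.hom.op s := by
  unfold secOf
  exact eqToHom_op_refl_apply P _ _

/-- sections of a functor on the slice are restrictions of its section at the identity -/
theorem secOf_overCat (A : overCat U ⥤ᵇ ofPsh P) (a : Over U) :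
    secOf A a = P.map a.hom.op (secOf A (Over.mk (𝟙 U))) :=
  (secOf_map A (toId a)).symm

variable {R : Sieve U}

theorem secOf_sieveIncl (A : overCat U ⥤ᵇ ofPsh P) (r : (sieveCat R).obj) :
    secOf (BasedFunctor.comp (sieveIncl R) A) r = secOf A r.obj := rfl

/-- the functor `sieveCat R ⥤ᵇ ofPsh P` of a compatible family -/
def ofFam (x : Presieve.FamilyOfElements P R.arrows) (hx : x.Compatible) : sieveCat R ⥤ᵇ ofPsh P where
  toFunctor :=
    { obj := fun r => ⟨r.obj.left, x r.obj.hom r.property⟩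
      map := fun {r r'} k => ⟨k.hom.left, by
        have := hx k.hom.left (𝟙 _) r'.property r.property (by rw [Over.w k.hom, Category.id_comp])
        simpa using this⟩
      map_id := fun a => by apply EltObj.hom_ext; rfl
      map_comp := fun k l => by apply EltObj.hom_ext; rfl }
  w := rfl

theorem secOf_ofFam (x : Presieve.FamilyOfElements P R.arrows) (hx : x.Compatible) (r : (sieveCat R).obj) :
    secOf (ofFam x hx) r = x r.obj.hom r.property := by
  unfold secOf
  exact eqToHom_op_refl_apply P _ _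

theorem secOf_congr_hom (D : sieveCat R ⥤ᵇ ofPsh P) {V : C} {f f' : V ⟶ U} (h : f = f') (hf : R f) (hf' : R f') :
    secOf D ⟨Over.mk f, hf⟩ = secOf D ⟨Over.mk f', hf'⟩ := by
  subst h; rfl

theorem isStackFor_of_isSheafFor (R : Sieve U) (hR : Presieve.IsSheafFor P R.arrows) :
    IsStackFor R (ofPsh P) := by
  have hsep : Presieve.IsSeparatedFor P R.arrows := hR.isSeparatedFor
  have hfaith : (resSieve R (ofPsh P)).Faithful :=
    ⟨fun {A B} α β _ => (hom_subsingleton A B).elim α β⟩
  have hfull : (resSieve R (ofPsh P)).Full := by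
    refine ⟨fun {A B} α => ?_⟩
    have h1 : ∀ r : (sieveCat R).obj, secOf A r.obj = secOf B r.obj := fun r =>
      secOf_eq_of_hom α r
    have h2 : secOf A (Over.mk (𝟙 U)) = secOf B (Over.mk (𝟙 U)) := by
      apply hsep.ext
      intro V f hf
      have := h1 ⟨Over.mk f, hf⟩
      rw [secOf_overCat A, secOf_overCat B] at this
      exact this
    have h3 : ∀ a : Over U, secOf A a = secOf B a := fun a => by
      rw [secOf_overCat A, secOf_overCat B, h2]
    exact ⟨(isoOfSecEq A B h3).hom, (hom_subsingleton _ _).elim _ _⟩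
  have hess : (resSieve R (ofPsh P)).EssSurj := by
    refine ⟨fun D => ?_⟩
    let x : Presieve.FamilyOfElements P R.arrows := fun V f hf => secOf D ⟨Over.mk f, hf⟩
    have hx : x.Compatible := by
      intro Y₁ Y₂ Z g₁ g₂ f₁ f₂ h₁ h₂ hcomm
      let k₁ : (⟨Over.mk (g₁ ≫ f₁), R.downward_closed h₁ g₁⟩ : (sieveCat R).obj) ⟶ ⟨Over.mk f₁, h₁⟩ :=
        ObjectProperty.homMk (Over.homMk g₁ rfl)
      let k₂ : (⟨Over.mk (g₂ ≫ f₂), R.downward_closed h₂ g₂⟩ : (sieveCat R).obj) ⟶ ⟨Over.mk f₂, h₂⟩ :=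
        ObjectProperty.homMk (Over.homMk g₂ rfl)
      have e₁ := secOf_map D k₁
      have e₂ := secOf_map D k₂
      change P.map g₁.op (secOf D ⟨Over.mk f₁, h₁⟩) = P.map g₂.op (secOf D ⟨Over.mk f₂, h₂⟩)
      exact (e₁.trans (secOf_congr_hom D hcomm _ _)).trans e₂.symm
    obtain ⟨s, hs, -⟩ := hR x hx
    refine ⟨ofSec s, ⟨isoOfSecEq _ _ (fun r => ?_)⟩⟩
    change secOf (BasedFunctor.comp (sieveIncl R) (ofSec s)) r = secOf D r
    rw [secOf_sieveIncl, secOf_ofSec]
    exact hs r.obj.hom r.property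
  exact { faithful := hfaith, full := hfull, essSurj := hess }

theorem isSheafFor_of_isStackFor (R : Sieve U) (h : IsStackFor R (ofPsh P)) :
    Presieve.IsSheafFor P R.arrows := by
  have hE : (resSieve R (ofPsh P)).IsEquivalence := h
  intro x hx
  obtain ⟨A, ⟨i⟩⟩ : ∃ A, Nonempty ((resSieve R (ofPsh P)).obj A ≅ ofFam x hx) :=
    ⟨(resSieve R (ofPsh P)).objPreimage (ofFam x hx), ⟨(resSieve R (ofPsh P)).objObjPreimageIso (ofFam x hx)⟩⟩
  have hA : ∀ ⦃V : C⦄ (f : V ⟶ U) (hf : R f), P.map f.op (secOf A (Over.mk (𝟙 U))) = x f hf := by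
    intro V f hf
    have e1 : secOf A (Over.mk f) = P.map f.op (secOf A (Over.mk (𝟙 U))) := secOf_overCat A (Over.mk f)
    have e2 : secOf (BasedFunctor.comp (sieveIncl R) A) ⟨Over.mk f, hf⟩ = secOf (ofFam x hx) ⟨Over.mk f, hf⟩ :=
      secOf_eq_of_iso i _
    rw [secOf_sieveIncl, secOf_ofFam] at e2
    exact e1.symm.trans e2
  refine ⟨secOf A (Over.mk (𝟙 U)), hA, ?_⟩
  intro t ht
  have h1 : ∀ r : (sieveCat R).obj, secOf (BasedFunctor.comp (sieveIncl R) (ofSec t)) r =
      secOf (BasedFunctor.comp (sieveIncl R) A) r := fun r => by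
    rw [secOf_sieveIncl, secOf_sieveIncl, secOf_ofSec, secOf_overCat A]
    exact (ht r.obj.hom r.property).trans (hA r.obj.hom r.property).symm
  let j : (resSieve R (ofPsh P)).obj (ofSec t) ⟶ (resSieve R (ofPsh P)).obj A := (isoOfSecEq _ _ h1).hom
  have := secOf_eq_of_hom ((resSieve R (ofPsh P)).preimage j) (Over.mk (𝟙 U))
  rw [secOf_ofSec] at this
  rw [← this]
  exact (map_id_op_apply P U t).symm

theorem isStack_ofPsh_iff (J : GrothendieckTopology C) (P : Cᵒᵖ ⥤ Type w) :
    Stk.IsStack J (ofPsh P) ↔ Presieve.IsSheaf J P := by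
  constructor
  · rintro ⟨-, h⟩ U R hR
    exact isSheafFor_of_isStackFor R (h R hR)
  · intro h
    exact ⟨isFibGrpd_ofPsh P, fun U R hR => isStackFor_of_isSheafFor R (h R hR)⟩

/-- `C/U ⟶ ofPsh (yoneda U)`, plain Yoneda version -/
def toYon' (U : C) : overCat U ⥤ᵇ ofPsh (yoneda.obj U) where
  toFunctor :=
    { obj := fun a => ⟨a.left, a.hom⟩
      map := fun {a b} k => ⟨k.left, Over.w k⟩
      map_id := fun a => by apply EltObj.hom_ext; rfl
      map_comp := fun k l => by apply EltObj.hom_ext; rfl }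
  w := rfl

instance toYon'_full (U : C) : (toYon' U).toFunctor.Full where
  map_surjective := fun {a b} m => by
    have h : m.hom ≫ b.hom = a.hom := m.map_sec
    exact ⟨Over.homMk m.hom h, by apply EltObj.hom_ext; rfl⟩

instance toYon'_faithful (U : C) : (toYon' U).toFunctor.Faithful where
  map_injective := fun {a b} k l h => by
    apply Over.OverMorphism.ext
    exact congrArg EltObj.Hom.hom h

theorem toYon'_isEquivOver (U : C) : FibCat.IsEquivOver (toYon' U) := by
  apply isEquivOver_of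
  intro e
  exact ⟨Over.mk e.sec, Iso.refl _, IsHomLift.id rfl⟩

theorem isStack_overCat_iff (J : GrothendieckTopology C) (U : C) :
    Stk.IsStack J (FibCat.overCat U) ↔ Presieve.IsSheaf J (yoneda.obj U) :=
  (Groth.Agent.StkLib.isStack_iff_of_isEquivOver' J (toYon' U) (toYon'_isEquivOver U)).trans
    (isStack_ofPsh_iff J _)

end Groth.Agent.Lib.helper4.PshStack
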