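import Groth.Agent.Lib.Helper4.AlgStOpenSub8
import Groth.Agent.Lib.Helper4.BigLocRep
import Groth.Agent.Lib.Helper4.PshOfSetoid
import Groth.Agent.Lib.Helper4.PshStack
import Groth.Agent.Lib.Helper14.AlgSpQuot2

/-!
# Gluing open substacks (helper4), part 1

An algebraic stack covered by open substacks with thin fibres has thin fibres (`thin_of_cover`).
-/

set_option backward.isDefEq.respectTransparency false
set_option backward.isDefEq.respectTransparency.types false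
set_option autoImplicit false
set_option linter.unusedSectionVars false
set_option linter.unusedVariables false
set_option linter.style.haveILetI false

universe w u

open CategoryTheory CategoryTheory.Functor CategoryTheory.Limits AlgebraicGeometry Opposite

namespace Groth.Agent.Lib.Helper4.AlgStGlue

open Groth.Agent.FibEquiv Groth.Agent.FibYoneda FibCat Groth.Agent.FibFiberwise
open Groth.Agent.Lib.helper4.AlgStOpenSub Groth.Agent.Lib.helper4.AlgStPts Groth.Agent.Lib.helper4.Descent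
open Groth.Agent.Lib.helper4.AlgStFaithful Groth.Agent.Lib.Helper14.AlgSpQuot
open Stk AlgSt

variable {S : Scheme.{u}} {𝒳 : AlgSt.Cat S} (h𝒳 : AlgSt.IsAlgStack Scheme.fppfPrecoverage 𝒳)
  {ι : Type w} (Q : ι → 𝒳.obj → Prop)
  (hQ : ∀ i, AlgSt.IsOpenSubstack 𝒳 (Q i) Scheme.fppfPrecoverage)
  (hcov : ⋃ i, Set.range (AlgSt.Points.map (AlgSt.subIncl 𝒳 (Q i))) = Set.univ)

include h𝒳 hQ

/-- the sieve of the maps to the base of `x` along which `x` restricts into one of the `Q i` -/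
def locSieve (x : 𝒳.obj) : Sieve (𝒳.p.obj x) where
  arrows V f := ∃ (i : ι) (x' : 𝒳.obj) (χ : x' ⟶ x), 𝒳.p.IsHomLift f χ ∧ Q i x'
  downward_closed := by
    rintro V W f ⟨i, x', χ, hχ, hq⟩ g
    have hV : 𝒳.p.obj x' = V := IsHomLift.domain_eq 𝒳.p f χ
    subst hV
    obtain ⟨x'', ψ, hψ⟩ := h𝒳.isStack.1.exists_lift (x := x') g
    exact ⟨i, x'', ψ ≫ χ, inferInstance,
      of_hom_of_isFibGrpd h𝒳.isStack.1 (Q i) (hQ i).1 (hQ i).2.1.isStack.1 ψ hq⟩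

include hcov in
/-- the open locus of the base of `x` over which `x` lies in `Q i` -/
theorem exists_open (x : 𝒳.obj) (i : ι) :
    haveI : 𝒳.p.IsFibered := isFibered_of_isFibGrpd 𝒳.p h𝒳.isStack.1
    ∃ O : (𝒳.p.obj x).left.Opens,
      (∀ τ : (𝒳.p.obj x).left, τ ∈ O ↔ Points.ofChart (yBased x) τ ∈
        Set.range (AlgSt.Points.map (AlgSt.subIncl 𝒳 (Q i)))) ∧
      ∀ (a : Over (𝒳.p.obj x)), Q i ((yBased x).obj a) ↔ Set.range a.hom.left ⊆ (O : Set (𝒳.p.obj x).left) := by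
  haveI hfib : 𝒳.p.IsFibered := isFibered_of_isFibGrpd 𝒳.p h𝒳.isStack.1
  have hopen : IsOpen (Set.range (AlgSt.Points.map (AlgSt.subIncl 𝒳 (Q i)))) :=
    isOpen_range_of_isOpenImm (hQ i).2.1 h𝒳 _ (hQ i).2.2
  have hcont := continuous_ofChart h𝒳.isStack.1 h𝒳.atlas (yBased x)
  refine ⟨⟨Points.ofChart (yBased x) ⁻¹' _, hopen.preimage hcont⟩, fun τ => Iff.rfl, fun a => ?_⟩
  rw [iff_QT_range h𝒳 (Q i) (hQ i), QT_iff_chart h𝒳.isStack.1 _ (yBased x) a]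
  constructor
  · rintro h _ ⟨v, rfl⟩
    exact h v
  · intro h v
    exact h ⟨v, rfl⟩

include hcov in
theorem locSieve_mem (x : 𝒳.obj) :
    locSieve h𝒳 Q hQ x ∈ QuotSh.J Scheme.fppfPrecoverage S (𝒳.p.obj x) := by
  haveI hfib : 𝒳.p.IsFibered := isFibered_of_isFibGrpd 𝒳.p h𝒳.isStack.1
  refine mem_J_of_forall_exists_flat _ (fun τ => ?_)
  have hτ : Points.ofChart (yBased x) τ ∈
      ⋃ i, Set.range (AlgSt.Points.map (AlgSt.subIncl 𝒳 (Q i))) := by rw [hcov]; trivial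
  obtain ⟨i, hi⟩ := Set.mem_iUnion.mp hτ
  obtain ⟨O, hO, hO'⟩ := exists_open h𝒳 Q hQ hcov x i
  let a : Over (𝒳.p.obj x) :=
    Over.mk (Over.homMk O.ι rfl : Over.mk (O.ι ≫ (𝒳.p.obj x).hom) ⟶ 𝒳.p.obj x)
  have ha : Q i ((yBased x).obj a) := by
    rw [hO' a]
    rintro _ ⟨v, rfl⟩
    exact v.2
  refine ⟨a.left, a.hom, ⟨i, yObj x a, yMap x a, (yMap_isStronglyCartesian x a).toIsHomLift, ha⟩,
    ⟨⟨τ, (hO τ).2 hi⟩, rfl⟩, ?_, ?_⟩
  · change Flat O.ι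
    infer_instance
  · change LocallyOfFinitePresentation O.ι
    infer_instance

include hcov in
/-- vertical morphisms of a stack covered by open substacks with thin fibres coincide -/
theorem vertical_eq_of_cover (hthin : ∀ i V, Quiver.IsThin ((AlgSt.fullSub 𝒳 (Q i)).p.Fiber V))
    {V : Over S} {x y : 𝒳.obj} (φ ψ : x ⟶ y) [hφ : 𝒳.p.IsHomLift (𝟙 V) φ] [hψ : 𝒳.p.IsHomLift (𝟙 V) ψ] :
    φ = ψ := by
  have h𝒳' := h𝒳.isStack.1
  have hmap : 𝒳.p.map φ = 𝒳.p.map ψ :=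
    (IsHomLift.fac' 𝒳.p (𝟙 V) φ).trans (IsHomLift.fac' 𝒳.p (𝟙 V) ψ).symm
  haveI h1 : 𝒳.p.IsHomLift (𝒳.p.map φ) φ := inferInstance
  haveI h2 : 𝒳.p.IsHomLift (𝒳.p.map φ) ψ := by rw [hmap]; infer_instance
  have hR := locSieve_mem h𝒳 Q hQ hcov x
  have hst : IsStackFor (locSieve h𝒳 Q hQ x) 𝒳 := h𝒳.isStack.2 _ hR
  haveI : (resSieve (locSieve h𝒳 Q hQ x) 𝒳).IsEquivalence := hst
  refine sep h𝒳' φ ψ (𝒳.p.map φ) (locSieve h𝒳 Q hQ x) inferInstance ?_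
  rintro V' f ⟨i, x', χ, hχ, hq⟩
  refine ⟨x', χ, hχ, ?_⟩
  obtain ⟨κ, hκ, hκf⟩ := exists_factor h𝒳' (f ≫ 𝒳.p.map φ) (χ ≫ ψ) (𝟙 _) (f ≫ 𝒳.p.map φ) (by simp) (χ ≫ φ)
  have hV' : 𝒳.p.obj x' = V' := IsHomLift.domain_eq 𝒳.p f χ
  subst hV'
  let x₁ : (AlgSt.fullSub 𝒳 (Q i)).obj := ⟨x', hq⟩
  let κ' : x₁ ⟶ x₁ := ObjectProperty.homMk κ
  haveI hk0 : 𝒳.p.IsHomLift (𝟙 (𝒳.p.obj x')) ((AlgSt.subIncl 𝒳 (Q i)).map κ') := hκ
  haveI hk1 : (AlgSt.fullSub 𝒳 (Q i)).p.IsHomLift (𝟙 (𝒳.p.obj x')) κ' :=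
    (AlgSt.subIncl 𝒳 (Q i)).isHomLift_map (𝟙 (𝒳.p.obj x')) κ'
  haveI hk2 : (AlgSt.fullSub 𝒳 (Q i)).p.IsHomLift (𝟙 (𝒳.p.obj x')) (𝟙 x₁) := IsHomLift.id rfl
  have hk : κ' = 𝟙 x₁ := vertical_eq_of_thin (hthin i) (V := 𝒳.p.obj x') κ' (𝟙 x₁)
  have hκ1 : κ = 𝟙 x' := congrArg (fun k => k.hom) hk
  rw [← hκf, hκ1, Category.id_comp]

include hcov in
/-- **Thin fibres glue.** -/
theorem thin_of_cover (hthin : ∀ i V, Quiver.IsThin ((AlgSt.fullSub 𝒳 (Q i)).p.Fiber V)) :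
    ∀ V, Quiver.IsThin (𝒳.p.Fiber V) := by
  intro V a b
  refine ⟨fun m m' => ?_⟩
  apply Functor.Fiber.hom_ext
  exact vertical_eq_of_cover h𝒳 Q hQ hcov hthin (V := V) (Functor.Fiber.fiberInclusion.map m)
    (Functor.Fiber.fiberInclusion.map m')

end Groth.Agent.Lib.Helper4.AlgStGlue
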