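import Groth.Agent.Lib.Helper4.AlgStGlue2

/-!
# Gluing open substacks (helper4), part 3

An algebraic stack covered by open substacks which are schemes is a scheme (`isRepresentable_of_cover`, S12864).
-/

set_option backward.isDefEq.respectTransparency false
set_option backward.isDefEq.respectTransparency.types false
set_option autoImplicit false
set_option linter.unusedSectionVars false
set_option linter.unusedVariables false
set_option linter.style.haveILetI false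

universe w u

open CategoryTheory CategoryTheory.Functor CategoryTheory.Limits AlgebraicGeometry Opposite

namespace Groth.Agent.Lib.Helper4.AlgStGlue

open Groth.Agent.FibEquiv Groth.Agent.FibYoneda FibCat Groth.Agent.FibFiberwise
open Groth.Agent.Lib.helper4.AlgStOpenSub Groth.Agent.Lib.helper4.AlgStPts Groth.Agent.Lib.helper4.Descent
open Groth.Agent.Lib.helper4.AlgStFaithful Groth.Agent.Lib.Helper14.AlgSpQuot
open Groth.Agent.Lib.helper4.PshOfSetoid Groth.Agent.Lib.helper4.PshStack Groth.Agent.Lib.helper4.FibPaste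
open Groth.Agent.Lib.Helper4.BigLocRep
open Stk AlgSt

variable {S : Scheme.{u}} {𝒳 : AlgSt.Cat S}

/-- pullbacks in a full subcategory are pullbacks in the ambient category -/
theorem rel_fullSub_iff (Q : 𝒳.obj → Prop) {V U : Over S} (f : V ⟶ U) (y x : (AlgSt.fullSub 𝒳 Q).obj) :
    Rel (AlgSt.fullSub 𝒳 Q) f y x ↔ Rel 𝒳 f y.obj x.obj := by
  constructor
  · rintro ⟨ψ, hψ⟩
    exact ⟨(AlgSt.subIncl 𝒳 Q).map ψ, (AlgSt.subIncl 𝒳 Q).preserves_isHomLift f ψ⟩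
  · rintro ⟨ψ, hψ⟩
    haveI : 𝒳.p.IsHomLift f ((AlgSt.subIncl 𝒳 Q).map (ObjectProperty.homMk ψ : y ⟶ x)) := hψ
    exact ⟨ObjectProperty.homMk ψ, (AlgSt.subIncl 𝒳 Q).isHomLift_map f _⟩

/-- the universal object of an open substack which is a scheme -/
theorem exists_univ_fullSub (Q : 𝒳.obj → Prop) (hrep : FibCat.IsRepresentable (AlgSt.fullSub 𝒳 Q)) :
    ∃ (W : Over S) (u : 𝒳.obj), 𝒳.p.obj u = W ∧ Q u ∧
      (∀ (z : 𝒳.obj), Q z → ∀ (T : Over S), 𝒳.p.obj z = T → ∃ m : T ⟶ W, Rel 𝒳 m z u) ∧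
      (∀ (z : 𝒳.obj), Q z → ∀ (T : Over S) (m m' : T ⟶ W), Rel 𝒳 m z u → Rel 𝒳 m' z u → m = m') := by
  obtain ⟨W, u, hu, hex, huniq⟩ := exists_univ_of_isRepresentable hrep
  refine ⟨W, u.obj, hu, u.property, ?_, ?_⟩
  · intro z hz T hT
    obtain ⟨m, hm⟩ := hex ⟨z, hz⟩ T hT
    exact ⟨m, (rel_fullSub_iff Q m ⟨z, hz⟩ u).1 hm⟩
  · intro z hz T m m' hm hm'
    exact huniq ⟨z, hz⟩ T m m' ((rel_fullSub_iff Q m ⟨z, hz⟩ u).2 hm) ((rel_fullSub_iff Q m' ⟨z, hz⟩ u).2 hm')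

/-- the fibres of a scheme are thin -/
theorem thin_of_isRepresentable {𝒵 : AlgSt.Cat S} (h : FibCat.IsRepresentable 𝒵) :
    ∀ V, Quiver.IsThin (𝒵.p.Fiber V) := by
  obtain ⟨W, F, hF⟩ := h
  obtain ⟨⟨_, hfaith⟩, _⟩ := of_isEquivOver F hF
  exact Groth.Agent.StkLib.thin_source F (Groth.Agent.Lib.helper4.AlgStSetoid.thin_overCat W)

/-- the Zariski topology is coarser than the fppf topology -/
theorem zariski_le_fppf : Scheme.zariskiTopology.over S ≤ QuotSh.J Scheme.fppfPrecoverage S := by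
  intro T R hR
  rw [GrothendieckTopology.mem_over_iff] at hR ⊢
  exact Precoverage.toGrothendieck_mono Scheme.zariskiPrecoverage_le_fppfPrecoverage _ hR

section Main

variable (h𝒳 : AlgSt.IsAlgStack Scheme.fppfPrecoverage 𝒳)
  {ι : Type w} (Q : ι → 𝒳.obj → Prop)
  (hQ : ∀ i, AlgSt.IsOpenSubstack 𝒳 (Q i) Scheme.fppfPrecoverage)
  (hcov : ⋃ i, Set.range (AlgSt.Points.map (AlgSt.subIncl 𝒳 (Q i))) = Set.univ)

include h𝒳 hQ hcov

/-- a `u`-small subfamily still covers -/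
theorem exists_small_index : ∃ (ι' : Type u) (j : ι' → ι),
    ⋃ i', Set.range (AlgSt.Points.map (AlgSt.subIncl 𝒳 (Q (j i')))) = Set.univ := by
  obtain ⟨A, xA, hx, hxs⟩ := h𝒳.atlas
  have hsurj := ofChart_surjective h𝒳.isStack.1 xA hxs
  have hex : ∀ a : ↥A.left, ∃ i, Points.ofChart xA a ∈ Set.range (AlgSt.Points.map (AlgSt.subIncl 𝒳 (Q i))) := by
    intro a
    have : Points.ofChart xA a ∈ ⋃ i, Set.range (AlgSt.Points.map (AlgSt.subIncl 𝒳 (Q i))) := by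
      rw [hcov]; trivial
    exact Set.mem_iUnion.mp this
  choose j hj using hex
  refine ⟨↥A.left, j, ?_⟩
  rw [Set.eq_univ_iff_forall]
  intro z
  obtain ⟨a, rfl⟩ := hsurj z
  exact Set.mem_iUnion.mpr ⟨a, hj a⟩

end Main

section Small

variable (h𝒳 : AlgSt.IsAlgStack Scheme.fppfPrecoverage 𝒳)
  {ι : Type u} (Q : ι → 𝒳.obj → Prop)
  (hQ : ∀ i, AlgSt.IsOpenSubstack 𝒳 (Q i) Scheme.fppfPrecoverage)
  (hcov : ⋃ i, Set.range (AlgSt.Points.map (AlgSt.subIncl 𝒳 (Q i))) = Set.univ)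

include h𝒳 hQ hcov

/-- the presheaf of isomorphism classes of a stack covered by open subschemes (small index) is representable -/
theorem exists_repr_cls (hset : IsFibSetoid 𝒳.p)
    (hsch : ∀ i, FibCat.IsRepresentable (AlgSt.fullSub 𝒳 (Q i))) :
    ∃ (W₀ : Over S) (ξ₀ : (clsPsh hset.1).obj (op W₀)), ∀ T : Over S,
      Function.Bijective (fun m : T ⟶ W₀ => (clsPsh hset.1).map m.op ξ₀) := by
  have h𝒳' := hset.1
  haveI hfib : 𝒳.p.IsFibered := isFibered_of_isFibGrpd 𝒳.p h𝒳'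
  let P := clsPsh h𝒳'
  have hP : Presieve.IsSheaf (Scheme.zariskiTopology.over S) P :=
    Presieve.isSheaf_of_le P zariski_le_fppf (isSheaf_clsPsh _ hset h𝒳.isStack)
  choose W uu hu hQu hex huniq using fun i => exists_univ_fullSub (Q i) (hsch i)
  let mkC : ∀ {T : Over S} (x : 𝒳.obj) (hx : 𝒳.p.obj x = T), P.obj (op T) :=
    fun {T} x hx => (Quotient.mk (fibSetoid h𝒳' T) ⟨x, hx⟩ : Cls h𝒳' T)
  have map_mkC : ∀ {V U : Over S} (f : V ⟶ U) (x : 𝒳.obj) (hx : 𝒳.p.obj x = U) (y : 𝒳.obj)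
      (hy : 𝒳.p.obj y = V), P.map f.op (mkC x hx) = mkC y hy ↔ Rel 𝒳 f y x :=
    fun f x hx y hy => clsPsh_map_mk_eq_iff h𝒳' f ⟨x, hx⟩ ⟨y, hy⟩
  have exists_mkC : ∀ {T : Over S} (η : P.obj (op T)), ∃ (x : 𝒳.obj) (hx : 𝒳.p.obj x = T), η = mkC x hx := by
    intro T η
    obtain ⟨⟨x, hx⟩, rfl⟩ := Quotient.exists_rep (s := fibSetoid h𝒳' T) η
    exact ⟨x, hx, rfl⟩
  let ξ : ∀ i, P.obj (op (W i)) := fun i => mkC (uu i) (hu i)
  have hsrc : ∀ i {z z' : 𝒳.obj} (ψ : z' ⟶ z), Q i z → Q i z' := fun i {z z'} ψ hz =>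
    of_hom_of_isFibGrpd h𝒳' (Q i) (hQ i).1 (hQ i).2.1.isStack.1 ψ hz
  -- the chart lemma
  have hchart : ∀ (x : 𝒳.obj) (i : ι) (O : (𝒳.p.obj x).left.Opens),
      (∀ (a : Over (𝒳.p.obj x)), Q i ((yBased x).obj a) ↔
        Set.range a.hom.left ⊆ (O : Set (𝒳.p.obj x).left)) →
      ∃ a : Over.mk (O.ι ≫ (𝒳.p.obj x).hom) ⟶ W i, P.map a.op (ξ i) = resOpen P (mkC x rfl) O := by
    intro x i O hO'
    let aO : Over (𝒳.p.obj x) :=
      Over.mk (Over.homMk O.ι rfl : Over.mk (O.ι ≫ (𝒳.p.obj x).hom) ⟶ 𝒳.p.obj x)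
    have hz : 𝒳.p.obj (yObj x aO) = Over.mk (O.ι ≫ (𝒳.p.obj x).hom) := yObj_proj x aO
    have hQz : Q i (yObj x aO) := by
      change Q i ((yBased x).obj aO)
      rw [hO' aO]
      rintro _ ⟨v, rfl⟩
      exact v.2
    have hrel : Rel 𝒳 aO.hom (yObj x aO) x := ⟨yMap x aO, (yMap_isStronglyCartesian x aO).toIsHomLift⟩
    have h1 : resOpen P (mkC x rfl) O = mkC (yObj x aO) hz := (map_mkC aO.hom x rfl _ hz).2 hrel
    obtain ⟨m, hm⟩ := hex i (yObj x aO) hQz _ hz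
    exact ⟨m, ((map_mkC m (uu i) (hu i) _ hz).2 hm).trans h1.symm⟩
  refine exists_repr_big P W ξ ?_ ?_ ?_ hP
  · -- hmono
    intro i T m m' h
    obtain ⟨z, hz, hrel⟩ := Rel.exists h𝒳' m (hu i)
    have h1 : P.map m.op (ξ i) = mkC z hz := (map_mkC m (uu i) (hu i) z hz).2 hrel
    have h2 : Rel 𝒳 m' z (uu i) := (map_mkC m' (uu i) (hu i) z hz).1 (h.symm.trans h1)
    obtain ⟨ψ, _⟩ := hrel
    exact huniq i z (hsrc i ψ (hQu i)) T m m' ⟨ψ, inferInstance⟩ h2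
  · -- hopen
    intro i T η
    obtain ⟨x, hx, rfl⟩ := exists_mkC η
    subst hx
    obtain ⟨O, hO, hO'⟩ := exists_open h𝒳 Q hQ hcov x i
    refine ⟨O, hchart x i O hO', fun T' k m hm => ?_⟩
    let ak : Over (𝒳.p.obj x) := Over.mk k
    have hz' : 𝒳.p.obj (yObj x ak) = T' := yObj_proj x ak
    have hrel : Rel 𝒳 k (yObj x ak) x := ⟨yMap x ak, (yMap_isStronglyCartesian x ak).toIsHomLift⟩
    have h1 : P.map k.op (mkC x rfl) = mkC (yObj x ak) hz' := (map_mkC k x rfl _ hz').2 hrel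
    have h2 : Rel 𝒳 m (yObj x ak) (uu i) := (map_mkC m (uu i) (hu i) _ hz').1 (hm.trans h1)
    obtain ⟨ψ, _⟩ := h2
    have h3 : Q i ((yBased x).obj ak) := hsrc i ψ (hQu i)
    exact (hO' ak).1 h3
  · -- hcov
    intro T η t
    obtain ⟨x, hx, rfl⟩ := exists_mkC η
    subst hx
    have ht : Points.ofChart (yBased x) t ∈
        ⋃ i, Set.range (AlgSt.Points.map (AlgSt.subIncl 𝒳 (Q i))) := by rw [hcov]; trivial
    obtain ⟨i, hi⟩ := Set.mem_iUnion.mp ht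
    obtain ⟨O, hO, hO'⟩ := exists_open h𝒳 Q hQ hcov x i
    exact ⟨i, O, (hO t).2 hi, hchart x i O hO'⟩

/-- small index case -/
theorem isRepresentable_of_cover_small (hsch : ∀ i, FibCat.IsRepresentable (AlgSt.fullSub 𝒳 (Q i))) :
    FibCat.IsRepresentable 𝒳 := by
  have hthin := thin_of_cover h𝒳 Q hQ hcov (fun i => thin_of_isRepresentable (hsch i))
  have hset : IsFibSetoid 𝒳.p := ⟨h𝒳.isStack.1, hthin⟩
  obtain ⟨W₀, ξ₀, hbij⟩ := exists_repr_cls h𝒳 Q hQ hcov hset hsch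
  exact isRepresentable_of_bijective hset W₀ ξ₀ hbij

end Small

/-- **S12864.** An algebraic stack covered by open substacks which are schemes is a scheme. -/
theorem isRepresentable_of_cover (h𝒳 : AlgSt.IsAlgStack Scheme.fppfPrecoverage 𝒳)
    {ι : Type w} (Q : ι → 𝒳.obj → Prop)
    (hQ : ∀ i, AlgSt.IsOpenSubstack 𝒳 (Q i) Scheme.fppfPrecoverage)
    (hcov : ⋃ i, Set.range (AlgSt.Points.map (AlgSt.subIncl 𝒳 (Q i))) = Set.univ)
    (hsch : ∀ i, FibCat.IsRepresentable (AlgSt.fullSub 𝒳 (Q i))) : FibCat.IsRepresentable 𝒳 := by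
  obtain ⟨ι', j, hj⟩ := exists_small_index h𝒳 Q hQ hcov
  exact isRepresentable_of_cover_small h𝒳 (fun i' => Q (j i')) (fun i' => hQ (j i')) hj (fun i' => hsch (j i'))

end Groth.Agent.Lib.Helper4.AlgStGlue
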