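import Groth.Agent.Lib.Helper4.AlgStInertia
import Groth.Agent.Lib.Helper4.AlgStDiagLFT
import Groth.Agent.S10262
import Groth.Agent.S10531
set_option autoImplicit false
set_option backward.isDefEq.respectTransparency false
set_option backward.isDefEq.respectTransparency.types false
set_option linter.unusedSectionVars false
set_option linter.style.haveILetI false
set_option linter.unusedVariables false
open CategoryTheory CategoryTheory.Functor CategoryTheory.Limits Opposite AlgebraicGeometry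
universe u

/-! The relative inertia of a morphism of algebraic stacks is unramified iff the morphism is DM. -/

namespace Groth.Agent.Lib.helper4.AlgStInertia
open Groth.Agent.FibEquiv FibCat Groth.Agent.Lib.helper4.FibPaste
open Groth.Agent.Lib.helper4.AlgStEquiv Groth.Agent.Lib.helper4.AlgStRep
open Groth.Agent.Lib.helper4.DiagBC Groth.Agent.Lib.helper4.FibInertiaDiag
open Groth.Agent.Lib.helper4.AlgStDiagK Groth.Agent.Lib.helper4.AlgStCancel
open Groth.Agent.Lib.helper4.AlgStSmLoc Groth.Agent.Lib.helper4.AlgStSource Groth.Agent.Lib.helper4.AlgStCoreA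
open AlgSt

variable {S : Scheme.{u}}

section Rep

variable {𝒳 𝒴 : AlgSt.Cat S} (g : 𝒳 ⥤ᵇ 𝒴) (hg : AlgSt.RepByAlgSp1 g)
include hg

/-- an unramified morphism representable by algebraic spaces has diagonal an open immersion -/
theorem isOpenImm_diag_of_unramified
    (h : AlgSt.RepByAlgSpWith (AlgSp.LocP (@LocallyOfFiniteType ⊓ @FormallyUnramified)) g) :
    AlgSt.IsOpenImm (FibCat.diag g) := by
  apply repByAlgSpWith_diag_of_diagonal (AlgSp.RepWith @IsOpenImmersion)
    (fun X₁ Y₁ X₂ Y₂ _ _ _ _ a b a' b' sq ha =>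
      (MorphismProperty.relative_isStableUnderBaseChange _).of_isPullback sq ha)
  exact repByAlgSpWith_mono g (fun F T π hπ =>
    (Groth.Agent.S10262.result (X := F) (Y := ⟨(AlgSp.yon S).obj T, AlgSp.IsAlgSpace.yon_obj T⟩)
      (ObjectProperty.homMk π)).1 hπ) h

/-- a locally finite type morphism representable by algebraic spaces whose diagonal is an open
immersion is unramified -/
theorem unramified_of_isOpenImm_diag
    (hlft : AlgSt.RepByAlgSpWith (AlgSp.LocP @LocallyOfFiniteType) g)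
    (h : AlgSt.IsOpenImm (FibCat.diag g)) :
    AlgSt.RepByAlgSpWith (AlgSp.LocP (@LocallyOfFiniteType ⊓ @FormallyUnramified)) g := by
  have k := repByAlgSpWith_diagonal_of_diag (AlgSp.RepWith @IsOpenImmersion)
    (fun X₁ Y₁ X₂ Y₂ _ _ _ _ a b a' b' sq ha =>
      (MorphismProperty.relative_isStableUnderBaseChange _).of_isPullback sq ha)
    (isLocalOnBase_fppf_of_fpqc (Groth.Agent.S10531.result S)) g hg h
  have k2 := repByAlgSpWith_and g (isoInv_of_baseChange _
      (fun X₁ Y₁ X₂ Y₂ h1 h2 _ h4 a b a' b' sq ha =>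
        Groth.Agent.Lib.helper5.LocPBC.locP_of_isPullback Groth.Agent.Lib.helper5.LocPBC.locPData_lft h1 h2 h4 sq ha))
      k hlft
  exact repByAlgSpWith_mono g (fun F T π hπ =>
    (Groth.Agent.S10262.result (X := F) (Y := ⟨(AlgSp.yon S).obj T, AlgSp.IsAlgSpace.yon_obj T⟩)
      (ObjectProperty.homMk π)).2 hπ.2 hπ.1) k2

end Rep

section Alg

variable {𝒳 𝒴 : AlgSt.Cat S} (f : 𝒳 ⥤ᵇ 𝒴)
  (h𝒳 : AlgSt.IsAlgStack Scheme.fppfPrecoverage 𝒳) (h𝒴 : AlgSt.IsAlgStack Scheme.fppfPrecoverage 𝒴)
include h𝒳 h𝒴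

/-- S12974 -/
theorem unramified_inertiaToBase_iff_isDMMor :
    AlgSt.RepByAlgSpWith (AlgSp.LocP (@LocallyOfFiniteType ⊓ @FormallyUnramified)) (FibCat.inertiaToBase f) ↔
      AlgSt.IsDMMor f := by
  have hΔ : AlgSt.RepByAlgSp1 (FibCat.diag f) := repByAlgSp1_diag_of_isAlgStack h𝒳 h𝒴 f
  have hI : AlgSt.RepByAlgSp1 (inertiaToBase f) := repByAlgSp1_inertiaToBase f h𝒳 h𝒴
  constructor
  · intro h
    have h1 : AlgSt.IsOpenImm (FibCat.diag (inertiaToBase f)) :=
      isOpenImm_diag_of_unramified (inertiaToBase f) hI h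
    have h2 : AlgSt.IsOpenImm (inertiaNeutral f) := inertiaNeutral_of_diag_inertiaToBase f _ h1
    have h3 : AlgSt.IsOpenImm (FibCat.diag (FibCat.diag f)) := (inertiaNeutral_iff_diag_diag f _).2 h2
    exact unramified_of_isOpenImm_diag (FibCat.diag f) hΔ
      (Groth.Agent.Lib.helper4.AlgStDiagLFT.lft_diag h𝒳 h𝒴 f) h3
  · intro h
    exact inertiaToBase_of_diag f _ h

end Alg

end Groth.Agent.Lib.helper4.AlgStInertia
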