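import Mathlib
import Groth.Agent.Lib.Helper18.SmoothDescentScheme
import Groth.Agent.Lib.Helper5.FppfSource4
set_option autoImplicit false
set_option backward.isDefEq.respectTransparency false
set_option backward.isDefEq.respectTransparency.types false
set_option linter.unusedSectionVars false
set_option linter.style.haveILetI false
set_option linter.unusedVariables false
open CategoryTheory CategoryTheory.Limits AlgebraicGeometry
universe u

/-! The largest open on which a morphism of schemes is smooth commutes with flat base change (helper4).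

For a cartesian square `T = U ×_V W` with `c : W ⟶ V` flat, and `c` or `h : U ⟶ V` locally of finite presentation,
the largest open of `T` on which `pW : T ⟶ W` is smooth is the preimage of the largest open of `U` on which `h` is
smooth (`mem_largest_pullback_iff`). -/

namespace Groth.Agent.Lib.helper4.SmoothLocusBC

variable {T U W V : Scheme.{u}} (pU : T ⟶ U) (pW : T ⟶ W) (h : U ⟶ V) (c : W ⟶ V)

/-- descent of smoothness near a point along a flat base change, `h` locally of finite presentation -/
theorem smooth_nhd_descent (sq : IsPullback pU pW h c) [Flat c] [LocallyOfFinitePresentation h] (t : T)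
    (N : T.Opens) (htN : t ∈ N) (hN : Smooth (N.ι ≫ pW)) :
    ∃ O : U.Opens, pU t ∈ O ∧ Smooth (O.ι ≫ h) := by
  haveI : LocallyOfFinitePresentation pW :=
    MorphismProperty.of_isPullback (P := @LocallyOfFinitePresentation) sq inferInstance
  have hs := (Groth.Agent.Lib.Helper18.SmoothDescent.exists_smooth_nhd_iff pW t).1 ⟨N, htN, hN⟩
  have hg := Flat.stalkMap c (pW t)
  have key := Groth.Agent.Lib.Helper18.SmoothDescent.formallySmooth_stalk_descent_of_isPullback sq t hg hs
  exact (Groth.Agent.Lib.Helper18.SmoothDescent.exists_smooth_nhd_iff h (pU t)).2 key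

/-- the restriction of a cartesian square to an open of `U` -/
theorem isPullback_restrict (sq : IsPullback pU pW h c) (O : U.Opens) :
    IsPullback (pU ∣_ O) ((pU ⁻¹ᵁ O).ι ≫ pW) (O.ι ≫ h) c :=
  (isPullback_morphismRestrict pU O).paste_vert sq

theorem mem_of_mem_ι {X : Scheme.{u}} (O : X.Opens) (w : O.toScheme) : O.ι w ∈ O := by
  have := Set.mem_range_self (f := O.ι) w
  rwa [Scheme.Opens.range_ι] at this

/-- **the smooth locus commutes with flat base change** -/
theorem mem_largest_pullback_iff (sq : IsPullback pU pW h c) [Flat c]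
    (hfp : LocallyOfFinitePresentation c ∨ LocallyOfFinitePresentation h)
    (W₁ : U.Opens) (hW₁ : Smooth (W₁.ι ≫ h)) (hW₁max : ∀ O : U.Opens, Smooth (O.ι ≫ h) → O ≤ W₁)
    (W₂ : T.Opens) (hW₂ : Smooth (W₂.ι ≫ pW)) (hW₂max : ∀ O : T.Opens, Smooth (O.ι ≫ pW) → O ≤ W₂)
    (t : T) : t ∈ W₂ ↔ pU t ∈ W₁ := by
  constructor
  · intro ht
    rcases hfp with hc | hh
    · haveI := hc
      haveI : Flat pU := MorphismProperty.of_isPullback (P := @Flat) sq.flip inferInstance
      haveI : LocallyOfFinitePresentation pU :=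
        MorphismProperty.of_isPullback (P := @LocallyOfFinitePresentation) sq.flip inferInstance
      let O : U.Opens := ⟨pU '' (W₂ : Set T), pU.isOpenMap _ W₂.isOpen⟩
      have hr : Set.range (W₂.ι ≫ pU) ⊆ Set.range O.ι := by
        rw [Scheme.Opens.range_ι]
        rintro _ ⟨w, rfl⟩
        exact ⟨W₂.ι w, mem_of_mem_ι W₂ w, rfl⟩
      let g : W₂.toScheme ⟶ O.toScheme := IsOpenImmersion.lift O.ι (W₂.ι ≫ pU) hr
      have hfac : g ≫ O.ι = W₂.ι ≫ pU := IsOpenImmersion.lift_fac _ _ _
      haveI : Flat (g ≫ O.ι) := by rw [hfac]; infer_instance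
      haveI : LocallyOfFinitePresentation (g ≫ O.ι) := by rw [hfac]; infer_instance
      haveI : Flat g :=
        MorphismProperty.of_postcomp (W := @Flat) (W' := @IsOpenImmersion) g O.ι inferInstance inferInstance
      haveI : LocallyOfFinitePresentation g :=
        MorphismProperty.of_postcomp (W := @LocallyOfFinitePresentation) (W' := @IsOpenImmersion) g O.ι
          inferInstance inferInstance
      haveI : Surjective g := by
        refine ⟨fun z => ?_⟩
        obtain ⟨t₀, ht₀, ht₀z⟩ := mem_of_mem_ι O z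
        have : t₀ ∈ Set.range W₂.ι := by rw [Scheme.Opens.range_ι]; exact ht₀
        obtain ⟨w₀, rfl⟩ := this
        refine ⟨w₀, ?_⟩
        apply O.ι.isOpenEmbedding.injective
        rw [← ht₀z, ← Scheme.Hom.comp_apply, hfac, Scheme.Hom.comp_apply]
      haveI : LocallyOfFinitePresentation (g ≫ O.ι ≫ h) := by
        rw [← Category.assoc, hfac, Category.assoc, sq.w, ← Category.assoc]
        infer_instance
      haveI : LocallyOfFinitePresentation (O.ι ≫ h) :=
        Groth.Agent.Lib.helper5.FppfSource.locallyOfFinitePresentation_of_comp g (O.ι ≫ h)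
      have sq' := isPullback_restrict pU pW h c sq O
      have htO : t ∈ pU ⁻¹ᵁ O := ⟨t, ht, rfl⟩
      have : t ∈ Set.range (pU ⁻¹ᵁ O).ι := by rw [Scheme.Opens.range_ι]; exact htO
      obtain ⟨t', ht'⟩ := this
      let N' : (pU ⁻¹ᵁ O).toScheme.Opens := (pU ⁻¹ᵁ O).ι ⁻¹ᵁ W₂
      have ht'N : t' ∈ N' := by
        change (pU ⁻¹ᵁ O).ι t' ∈ W₂
        rw [ht']; exact ht
      have hrN : Set.range (N'.ι ≫ (pU ⁻¹ᵁ O).ι) ⊆ Set.range W₂.ι := by
        rw [Scheme.Opens.range_ι]
        rintro _ ⟨w, rfl⟩
        exact mem_of_mem_ι N' w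
      let k := IsOpenImmersion.lift W₂.ι (N'.ι ≫ (pU ⁻¹ᵁ O).ι) hrN
      have hk : k ≫ W₂.ι = N'.ι ≫ (pU ⁻¹ᵁ O).ι := IsOpenImmersion.lift_fac _ _ _
      haveI : IsOpenImmersion k := by
        have : IsOpenImmersion (k ≫ W₂.ι) := by rw [hk]; infer_instance
        exact IsOpenImmersion.of_comp k W₂.ι
      have hN' : Smooth (N'.ι ≫ (pU ⁻¹ᵁ O).ι ≫ pW) := by
        rw [← Category.assoc, ← hk, Category.assoc]
        infer_instance
      obtain ⟨O', hO', hsm⟩ := smooth_nhd_descent (pU ∣_ O) ((pU ⁻¹ᵁ O).ι ≫ pW) (O.ι ≫ h) c sq' t' N' ht'N hN'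
      have hsm' : Smooth ((O.ι ''ᵁ O').ι ≫ h) := by
        rw [← Scheme.Hom.isoImage_inv_ι, Category.assoc, Category.assoc]
        infer_instance
      apply hW₁max _ hsm'
      refine ⟨(pU ∣_ O) t', hO', ?_⟩
      have e1 : O.ι ((pU ∣_ O) t') = pU ((pU ⁻¹ᵁ O).ι t') := by
        rw [← Scheme.Hom.comp_apply, morphismRestrict_ι, Scheme.Hom.comp_apply]
      rw [← ht']
      exact e1
    · haveI := hh
      obtain ⟨O, hO, hsm⟩ := smooth_nhd_descent pU pW h c sq t W₂ ht hW₂
      exact hW₁max O hsm hO
  · intro hu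
    have sq' := isPullback_restrict pU pW h c sq W₁
    have : Smooth ((pU ⁻¹ᵁ W₁).ι ≫ pW) := MorphismProperty.of_isPullback (P := @Smooth) sq' hW₁
    exact hW₂max _ this hu

end Groth.Agent.Lib.helper4.SmoothLocusBC
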