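import Groth.Agent.Lib.Helper4.AlgStOverPB
import Groth.Agent.Lib.Helper4.SmoothLocusBC
set_option autoImplicit false
set_option backward.isDefEq.respectTransparency false
set_option backward.isDefEq.respectTransparency.types false
set_option linter.unusedSectionVars false
set_option linter.style.haveILetI false
set_option linter.unusedVariables false
open CategoryTheory CategoryTheory.Functor CategoryTheory.Limits Opposite AlgebraicGeometry
universe u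

/-! The largest open substack on which a morphism is smooth is compatible with flat base change (helper4). -/

namespace Groth.Agent.Lib.helper4.AlgStOpenSub
open Groth.Agent.FibEquiv Groth.Agent.FibYoneda FibCat Groth.Agent.Lib.helper4.FibPaste
open Groth.Agent.Lib.helper4.AlgStEquiv Groth.Agent.Lib.helper4.AlgStRep
open Groth.Agent.Lib.helper4.AlgStSetoid Groth.Agent.FibFpProj Groth.Agent.Lib.helper4.FibRep
open Groth.Agent.Lib.helper4.AlgStFpAlg Groth.Agent.Lib.helper4.AlgStDM Groth.Agent.Lib.helper4.AlgStSelf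
open Groth.Agent.Lib.helper4.AlgStPts Groth.Agent.Lib.helper4.FibSwap Groth.Agent.Lib.helper4.AlgStSmLoc
open Groth.Agent.Lib.helper4.AlgStQC Groth.Agent.Lib.helper4.PshDict Groth.Agent.Lib.helper4.PshRep
open Groth.Agent.Lib.helper4.PshPB Groth.Agent.Lib.helper4.AlgStQCMor Groth.Agent.Lib.helper4.PointsBasic
open Groth.Agent.Lib.helper4.AlgStDescent Groth.Agent.Lib.helper4.AlgStCoreA
open Groth.Agent.Lib.helper4.AlgStSource Groth.Agent.Lib.helper4.AlgStGraph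
open Groth.Agent.Lib.helper4.SmLocalST Groth.Agent.Lib.helper5.LocPBC
open Groth.Agent.Lib.helper4.AlgStLocQ Groth.Agent.Lib.helper4.StkSub Groth.Agent.Lib.helper4.FibLiftIso
open Groth.Agent.Lib.helper4.AlgStOverPB Groth.Agent.Lib.helper4.SmoothLocusBC
open Stk AlgSt

variable {S : Scheme.{u}}

section Chart
variable {𝒳 𝒴 𝒴' : AlgSt.Cat S} (f : 𝒳 ⥤ᵇ 𝒴) (y : 𝒴' ⥤ᵇ 𝒴)
  {V : Over S} (v : overCat V ⥤ᵇ 𝒴)
  {U : Over S} (x : overCat U ⥤ᵇ 𝒳) (h : U ⟶ V)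
  (α : BasedFunctor.comp x f ≅ BasedFunctor.comp (AlgSt.overMap h) v)
  (hl : AlgSt.RepByAlgSpWith (AlgSp.LocP @Smooth) (fpLift x (AlgSt.overMap h) α))
  (hls : AlgSt.RepByAlgSpWith AlgSp.IsSurjectiveMor (fpLift x (AlgSt.overMap h) α))
  {W : Over S} (w : overCat W ⥤ᵇ 𝒴') (c : W ⟶ V)
  (ι : BasedFunctor.comp w y ≅ BasedFunctor.comp (AlgSt.overMap c) v)
  {T : Over S} (pW : T ⟶ W) (pU : T ⟶ U) (sq : IsPullback pW pU c h)
include hl hls sq ι

/-- the chart of `𝒴' ×_𝒴 𝒳` built from compatible charts of `𝒳`, `𝒴'`, `𝒴`: a smooth surjective functor from the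
slice category of `W ×_V U` to `(𝒴' ×_𝒴 𝒳) ×_𝒴' W` lying over `W ×_V U ⟶ W` and over `W ×_V U ⟶ U ⟶ 𝒳` -/
theorem exists_fp_chart :
    ∃ L : overCat T ⥤ᵇ fp (fpFst y f) w,
      AlgSt.RepByAlgSpWith (AlgSp.LocP @Smooth) L ∧ AlgSt.RepByAlgSpWith AlgSp.IsSurjectiveMor L ∧
      Nonempty (BasedFunctor.comp L (fpSnd (fpFst y f) w) ≅ AlgSt.overMap pW) ∧
      Nonempty (BasedFunctor.comp (BasedFunctor.comp L (fpFst (fpFst y f) w)) (fpSnd y f) ≅
        BasedFunctor.comp (AlgSt.overMap pU) x) := by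
  let l := fpLift x (AlgSt.overMap h) α
  let l' := fpFst (fpSnd (AlgSt.overMap c) (fpSnd f v)) l
  have hl'₁ : AlgSt.RepByAlgSpWith (AlgSp.LocP @Smooth) l' :=
    Groth.Agent.Lib.helper4.AlgStDiagBC.repByAlgSpWith_fpFst _ l (fpSnd (AlgSt.overMap c) (fpSnd f v)) hl
  have hl'₂ : AlgSt.RepByAlgSpWith AlgSp.IsSurjectiveMor l' :=
    Groth.Agent.Lib.helper4.AlgStDiagBC.repByAlgSpWith_fpFst _ l (fpSnd (AlgSt.overMap c) (fpSnd f v)) hls
  let R : fp (fpSnd (AlgSt.overMap c) (fpSnd f v)) l ⥤ᵇ fp (AlgSt.overMap c) (AlgSt.overMap h) :=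
    pasteR (AlgSt.overMap c) (fpSnd f v) l
  have hR : IsEquivOver R := pasteR_isEquivOver _ _ _
  obtain ⟨Ri, ⟨αR⟩, ⟨βR⟩⟩ := id hR
  have hRi : IsEquivOver Ri := isEquivOver_symm αR βR
  let G' : fp (AlgSt.overMap c) (fpSnd f v) ⥤ᵇ fp (BasedFunctor.comp (AlgSt.overMap c) v) f :=
    BasedFunctor.comp
      (fpMap (AlgSt.overMap c) (AlgSt.overMap c) (fpSnd f v) (fpFst v f) (fpSwap f v) (BasedFunctor.id _)
        (Iso.refl _) (Iso.refl _))
      (pasteL (AlgSt.overMap c) v f)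
  have hG' : IsEquivOver G' := isEquivOver_comp _ _
    (fpMap_isEquivOver _ _ _ _ _ _ _ _ (fpSwap_isEquivOver _ _) (isEquivOver_id' _)) (pasteL_isEquivOver _ _ _)
  let E : fp w (fpFst y f) ⥤ᵇ fp (BasedFunctor.comp (AlgSt.overMap c) v) f :=
    BasedFunctor.comp (pasteL w y f)
      (fpMap (BasedFunctor.comp w y) (BasedFunctor.comp (AlgSt.overMap c) v) f f (BasedFunctor.id _)
        (BasedFunctor.id _) ι (Iso.refl _))
  have hE : IsEquivOver E := isEquivOver_comp _ _ (pasteL_isEquivOver _ _ _)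
    (fpMap_isEquivOver _ _ _ _ _ _ _ _ (isEquivOver_id' _) (isEquivOver_id' _))
  obtain ⟨Ei, ⟨αE⟩, ⟨βE⟩⟩ := id hE
  have hEi : IsEquivOver Ei := isEquivOver_symm αE βE
  let Sw : fp w (fpFst y f) ⥤ᵇ fp (fpFst y f) w := fpSwap w (fpFst y f)
  have hSw : IsEquivOver Sw := fpSwap_isEquivOver _ _
  let A := cmp pW pU c h sq.w
  have hA : IsEquivOver A := cmp_isEquivOver pW pU c h sq
  let K : fp (AlgSt.overMap c) (fpSnd f v) ⥤ᵇ fp (fpFst y f) w :=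
    BasedFunctor.comp G' (BasedFunctor.comp Ei Sw)
  have hK : IsEquivOver K := isEquivOver_comp _ _ hG' (isEquivOver_comp _ _ hEi hSw)
  let L : overCat T ⥤ᵇ fp (fpFst y f) w :=
    BasedFunctor.comp (BasedFunctor.comp A Ri) (BasedFunctor.comp l' K)
  have hAR : IsEquivOver (BasedFunctor.comp A Ri) := isEquivOver_comp _ _ hA hRi
  refine ⟨L, ?_, ?_, ⟨?_⟩, ⟨?_⟩⟩
  · exact (repByAlgSpWith_precomp_iff _ _ _ hAR).1 (repByAlgSpWith_comp_equiv _ l' K hK hl'₁)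
  · exact (repByAlgSpWith_precomp_iff _ _ _ hAR).1 (repByAlgSpWith_comp_equiv _ l' K hK hl'₂)
  · -- the projection to `W`
    have t1 : BasedFunctor.comp Ei (fpFst w (fpFst y f)) ≅
        fpFst (BasedFunctor.comp (AlgSt.overMap c) v) f :=
      whiskerRightIso βE (fpFst (BasedFunctor.comp (AlgSt.overMap c) v) f)
    have t3 : BasedFunctor.comp Ri (BasedFunctor.comp l' (fpFst (AlgSt.overMap c) (fpSnd f v))) ≅
        fpFst (AlgSt.overMap c) (AlgSt.overMap h) :=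
      whiskerRightIso βR (fpFst (AlgSt.overMap c) (AlgSt.overMap h))
    have t5 : BasedFunctor.comp (BasedFunctor.comp A Ri)
        (BasedFunctor.comp l' (BasedFunctor.comp G' (BasedFunctor.comp Ei (fpFst w (fpFst y f))))) ≅
        BasedFunctor.comp (BasedFunctor.comp A Ri)
          (BasedFunctor.comp l' (BasedFunctor.comp G' (fpFst (BasedFunctor.comp (AlgSt.overMap c) v) f))) :=
      whiskerLeftIso (BasedFunctor.comp A Ri) (whiskerLeftIso l' (whiskerLeftIso G' t1))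
    have t6 : BasedFunctor.comp A (BasedFunctor.comp Ri
        (BasedFunctor.comp l' (fpFst (AlgSt.overMap c) (fpSnd f v)))) ≅
        BasedFunctor.comp A (fpFst (AlgSt.overMap c) (AlgSt.overMap h)) :=
      whiskerLeftIso A t3
    exact t5 ≪≫ t6
  · -- the projection to `𝒳`
    have s1 : BasedFunctor.comp Ei (BasedFunctor.comp (fpSnd w (fpFst y f)) (fpSnd y f)) ≅
        fpSnd (BasedFunctor.comp (AlgSt.overMap c) v) f :=
      whiskerRightIso βE (fpSnd (BasedFunctor.comp (AlgSt.overMap c) v) f)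
    have s3 : BasedFunctor.comp l' (fpSnd (AlgSt.overMap c) (fpSnd f v)) ≅
        BasedFunctor.comp (fpSnd (fpSnd (AlgSt.overMap c) (fpSnd f v)) l) l :=
      fpIso (fpSnd (AlgSt.overMap c) (fpSnd f v)) l
    have s5 : BasedFunctor.comp Ri (fpSnd (fpSnd (AlgSt.overMap c) (fpSnd f v)) l) ≅
        fpSnd (AlgSt.overMap c) (AlgSt.overMap h) :=
      whiskerRightIso βR (fpSnd (AlgSt.overMap c) (AlgSt.overMap h))
    have s6 : BasedFunctor.comp (BasedFunctor.comp A Ri) (BasedFunctor.comp l' (BasedFunctor.comp G'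
        (BasedFunctor.comp Ei (BasedFunctor.comp (fpSnd w (fpFst y f)) (fpSnd y f))))) ≅
        BasedFunctor.comp (BasedFunctor.comp A Ri) (BasedFunctor.comp l' (BasedFunctor.comp G'
          (fpSnd (BasedFunctor.comp (AlgSt.overMap c) v) f))) :=
      whiskerLeftIso (BasedFunctor.comp A Ri) (whiskerLeftIso l' (whiskerLeftIso G' s1))
    have s7 : BasedFunctor.comp (BasedFunctor.comp A Ri)
        (BasedFunctor.comp (BasedFunctor.comp l' (fpSnd (AlgSt.overMap c) (fpSnd f v))) (fpFst f v)) ≅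
        BasedFunctor.comp (BasedFunctor.comp A Ri)
          (BasedFunctor.comp (BasedFunctor.comp (fpSnd (fpSnd (AlgSt.overMap c) (fpSnd f v)) l) l) (fpFst f v)) :=
      whiskerLeftIso (BasedFunctor.comp A Ri) (whiskerRightIso s3 (fpFst f v))
    have s8 : BasedFunctor.comp (BasedFunctor.comp A
        (BasedFunctor.comp Ri (fpSnd (fpSnd (AlgSt.overMap c) (fpSnd f v)) l))) x ≅
        BasedFunctor.comp (BasedFunctor.comp A (fpSnd (AlgSt.overMap c) (AlgSt.overMap h))) x :=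
      whiskerRightIso (whiskerLeftIso A s5) x
    exact s6 ≪≫ s7 ≪≫ s8

end Chart

section Main
variable {𝒳 𝒴 𝒴' : AlgSt.Cat S} (h𝒳 : AlgSt.IsAlgStack Scheme.fppfPrecoverage 𝒳)
  (h𝒴 : AlgSt.IsAlgStack Scheme.fppfPrecoverage 𝒴) (h𝒴' : AlgSt.IsAlgStack Scheme.fppfPrecoverage 𝒴')
  (f : 𝒳 ⥤ᵇ 𝒴) (y : 𝒴' ⥤ᵇ 𝒴) (hy : AlgSt.LocQ (AlgSp.LocP @Flat) y)
  (hfp : AlgSt.LocQ (AlgSp.LocP @LocallyOfFinitePresentation) y ∨
    AlgSt.LocQ (AlgSp.LocP @LocallyOfFinitePresentation) f)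
  (Q : 𝒳.obj → Prop) (hQ₁ : AlgSt.IsOpenSubstack 𝒳 Q Scheme.fppfPrecoverage)
  (hQ₂ : AlgSt.LocQ (AlgSp.LocP @Smooth) (BasedFunctor.comp (AlgSt.subIncl 𝒳 Q) f))
  (hQ₃ : ∀ Q' : 𝒳.obj → Prop, AlgSt.IsOpenSubstack 𝒳 Q' Scheme.fppfPrecoverage →
    AlgSt.LocQ (AlgSp.LocP @Smooth) (BasedFunctor.comp (AlgSt.subIncl 𝒳 Q') f) → ∀ a, Q' a → Q a)
  (Qm : (fp y f).obj → Prop) (hm₁ : AlgSt.IsOpenSubstack (fp y f) Qm Scheme.fppfPrecoverage)
  (hm₂ : AlgSt.LocQ (AlgSp.LocP @Smooth) (BasedFunctor.comp (AlgSt.subIncl (fp y f) Qm) (fpFst y f)))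
  (hm₃ : ∀ Q' : (fp y f).obj → Prop, AlgSt.IsOpenSubstack (fp y f) Q' Scheme.fppfPrecoverage →
    AlgSt.LocQ (AlgSp.LocP @Smooth) (BasedFunctor.comp (AlgSt.subIncl (fp y f) Q') (fpFst y f)) →
      ∀ a, Q' a → Qm a)
include h𝒳 h𝒴 h𝒴' hy hfp hQ₁ hQ₂ hQ₃ hm₁ hm₂ hm₃

/-- the largest open substack on which the base change of `f` along a flat `y` is smooth is the inverse image of the
largest open substack on which `f` is smooth -/
theorem largest_fpFst_smooth_eq : (fun b : (fp y f).obj => Q ((fpSnd y f).obj b)) = Qm := by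
  have h𝒫 : AlgSt.IsAlgStack Scheme.fppfPrecoverage (fp y f) := isAlgStack_fp' h𝒴' h𝒳 h𝒴 y f
  have hP := h𝒫.isStack.1
  have hX := h𝒳.isStack.1
  have hpre := isOpenSubstack_preimage h𝒫 h𝒳 (fpSnd y f) Q hQ₁
  have hrange : Set.range (AlgSt.Points.map (AlgSt.subIncl (fp y f) (fun b => Q ((fpSnd y f).obj b)))) =
      Set.range (AlgSt.Points.map (AlgSt.subIncl (fp y f) Qm)) := by
    rw [range_subIncl_preimage h𝒫 h𝒳 (fpSnd y f) Q hQ₁]
    obtain ⟨V, v, hv, hvs⟩ := h𝒴.atlas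
    obtain ⟨U, x, h, α, hx, hl, hls, hxs⟩ := exists_good_square h𝒳 h𝒴 f v hv
    obtain ⟨W, w, c, ι, hw, hlw, hlws, hws⟩ := exists_good_square h𝒴' h𝒴 y v hv
    have hwsurj := hws hvs
    haveI hcflat : Flat c.left := AlgSp.locP_yon_map
      ((locQ_iff_forall h𝒴' h𝒴 y _ isSmoothLocalST_flat).1 hy W V w v c ι hw hv hlw)
    have hfp' : LocallyOfFinitePresentation c.left ∨ LocallyOfFinitePresentation h.left := by
      rcases hfp with h1 | h1
      · exact Or.inl (AlgSp.locP_yon_map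
          ((locQ_iff_forall h𝒴' h𝒴 y _ isSmoothLocalST_lfp).1 h1 W V w v c ι hw hv hlw))
      · exact Or.inr (AlgSp.locP_yon_map
          ((locQ_iff_forall h𝒳 h𝒴 f _ isSmoothLocalST_lfp).1 h1 U V x v h α hx hv hl))
    let T : Over S := Limits.pullback c h
    let pW : T ⟶ W := pullback.fst c h
    let pU : T ⟶ U := pullback.snd c h
    have sq : IsPullback pW pU c h := IsPullback.of_hasPullback c h
    have sqS : IsPullback pU.left pW.left h.left c.left := (sq.map (Over.forget S)).flip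
    obtain ⟨L, hL₁, hL₂, ⟨τ'⟩, ⟨σ⟩⟩ := exists_fp_chart f y v x h α hl hls w c ι pW pU sq
    let xT : overCat T ⥤ᵇ fp y f := BasedFunctor.comp L (fpFst (fpFst y f) w)
    let τ : BasedFunctor.comp xT (fpFst y f) ≅ BasedFunctor.comp (AlgSt.overMap pW) w :=
      whiskerLeftIso L (fpIso (fpFst y f) w) ≪≫ whiskerRightIso τ' w
    have hbc₁ : AlgSt.RepByAlgSpWith (AlgSp.LocP @Smooth) (fpFst (fpFst y f) w) :=
      Groth.Agent.Lib.helper4.AlgStDiagBC.repByAlgSpWith_fpFst _ w (fpFst y f) hw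
    have hbc₂ : AlgSt.RepByAlgSpWith AlgSp.IsSurjectiveMor (fpFst (fpFst y f) w) :=
      Groth.Agent.Lib.helper4.AlgStDiagBC.repByAlgSpWith_fpFst _ w (fpFst y f) hwsurj
    have hTf : IsFibGrpd (overCat T).p := Groth.Agent.FibOver.isFibGrpd_overCat T
    have hWa : AlgSt.IsAlgStack Scheme.fppfPrecoverage (overCat W) := isAlgStack_overCat W
    have h𝒫w : AlgSt.IsAlgStack Scheme.fppfPrecoverage (fp (fpFst y f) w) :=
      isAlgStack_fp' h𝒫 hWa h𝒴' (fpFst y f) w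
    have hxT₁ : AlgSt.RepByAlgSpWith (AlgSp.LocP @Smooth) xT :=
      smooth_comp hTf h𝒫w.isStack.1 hP _ _ hL₁ hbc₁
    have hxT₂ : AlgSt.RepByAlgSpWith AlgSp.IsSurjectiveMor xT :=
      surj_comp hTf h𝒫w.isStack.1 hP _ _ hL₂ hbc₂
    have hlT : AlgSt.RepByAlgSpWith (AlgSp.LocP @Smooth) (fpLift xT (AlgSt.overMap pW) τ) :=
      (repByAlgSpWith_congr _ (Groth.Agent.Lib.helper4.FibLiftIso.fpLiftOfSnd (fpFst y f) w L τ')).2 hL₁
    obtain ⟨W₁, hW₁, hW₁max⟩ := exists_largest_open_smooth h.left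
    obtain ⟨W₂, hW₂, hW₂max⟩ := exists_largest_open_smooth pW.left
    have hA := mem_largest_iff h𝒳 h𝒴 f x v h α hx hv hl Q hQ₁ hQ₂ hQ₃ W₁ hW₁ hW₁max
    have hB := mem_largest_iff h𝒫 h𝒴' (fpFst y f) xT w pW τ hxT₁ hw hlT Qm hm₁ hm₂ hm₃ W₂ hW₂ hW₂max
    have hC : ∀ t : T.left, t ∈ W₂ ↔ pU.left t ∈ W₁ := fun t =>
      mem_largest_pullback_iff pU.left pW.left h.left c.left sqS hfp' W₁ hW₁ hW₁max W₂ hW₂ hW₂max t
    ext p
    obtain ⟨t, rfl⟩ := ofChart_surjective hP xT hxT₂ p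
    rw [hB t, hC t, ← hA (pU.left t), Set.mem_preimage, map_ofChart, ofChart_congr σ t, ofChart_overMap]
  funext b
  apply propext
  rw [iff_QT_range h𝒫 _ hpre b, iff_QT_range h𝒫 Qm hm₁ b, hrange]

end Main

/-- **S19909** -/
theorem largest_locQ_smooth_open_fpFst {𝒳 𝒴 𝒴' : AlgSt.Cat S}
    (h𝒳 : AlgSt.IsAlgStack Scheme.fppfPrecoverage 𝒳)
    (h𝒴 : AlgSt.IsAlgStack Scheme.fppfPrecoverage 𝒴)
    (h𝒴' : AlgSt.IsAlgStack Scheme.fppfPrecoverage 𝒴')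
    (f : 𝒳 ⥤ᵇ 𝒴) (y : 𝒴' ⥤ᵇ 𝒴) (hy : AlgSt.LocQ (AlgSp.LocP @Flat) y)
    (hfp : AlgSt.LocQ (AlgSp.LocP @LocallyOfFinitePresentation) y ∨
      AlgSt.LocQ (AlgSp.LocP @LocallyOfFinitePresentation) f)
    (Q : 𝒳.obj → Prop) (hQ₁ : AlgSt.IsOpenSubstack 𝒳 Q Scheme.fppfPrecoverage)
    (hQ₂ : AlgSt.LocQ (AlgSp.LocP @Smooth) (BasedFunctor.comp (AlgSt.subIncl 𝒳 Q) f))
    (hQ₃ : ∀ Q' : 𝒳.obj → Prop, AlgSt.IsOpenSubstack 𝒳 Q' Scheme.fppfPrecoverage →
      AlgSt.LocQ (AlgSp.LocP @Smooth) (BasedFunctor.comp (AlgSt.subIncl 𝒳 Q') f) → ∀ a, Q' a → Q a) :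
    AlgSt.IsOpenSubstack (FibCat.fp y f) (fun b ↦ Q b.obj.snd) Scheme.fppfPrecoverage ∧
      AlgSt.LocQ (AlgSp.LocP @Smooth)
        (BasedFunctor.comp (AlgSt.subIncl (FibCat.fp y f) fun b ↦ Q b.obj.snd) (FibCat.fpFst y f)) ∧
      ∀ Q' : (FibCat.fp y f).obj → Prop, AlgSt.IsOpenSubstack (FibCat.fp y f) Q' Scheme.fppfPrecoverage →
        AlgSt.LocQ (AlgSp.LocP @Smooth) (BasedFunctor.comp (AlgSt.subIncl (FibCat.fp y f) Q') (FibCat.fpFst y f)) →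
        ∀ b, Q' b → Q b.obj.snd := by
  have h𝒫 : AlgSt.IsAlgStack Scheme.fppfPrecoverage (fp y f) := isAlgStack_fp' h𝒴' h𝒳 h𝒴 y f
  obtain ⟨Qm, hm₁, hm₂, hm₃⟩ := exists_largest_isOpenSubstack_locQ_smooth h𝒫 h𝒴' (fpFst y f)
  have heq : (fun b : (fp y f).obj => Q b.obj.snd) = Qm :=
    largest_fpFst_smooth_eq h𝒳 h𝒴 h𝒴' f y hy hfp Q hQ₁ hQ₂ hQ₃ Qm hm₁ hm₂ hm₃
  refine ⟨isOpenSubstack_preimage h𝒫 h𝒳 (fpSnd y f) Q hQ₁, ?_, ?_⟩
  · rw [heq]
    exact hm₂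
  · intro Q' h1 h2 b hb
    have := hm₃ Q' h1 h2 b hb
    rw [← heq] at this
    exact this

end Groth.Agent.Lib.helper4.AlgStOpenSub
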