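import Groth.Agent.Lib.Helper4.AlgSpLqfPr1
import Groth.Agent.Lib.Helper4.AlgStInertia2
import Groth.Agent.Lib.Helper4.AlgStOpenSub13
import Groth.Agent.S10541
set_option autoImplicit false
set_option backward.isDefEq.respectTransparency false
set_option backward.isDefEq.respectTransparency.types false
set_option linter.unusedSectionVars false
set_option linter.style.haveILetI false
set_option linter.unusedVariables false
open CategoryTheory CategoryTheory.Functor CategoryTheory.Limits Opposite AlgebraicGeometry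
universe u

/-! A morphism representable by algebraic spaces and locally of finite type whose self fibre product projects
locally quasi-finitely is locally quasi-finite; the relative inertia is locally quasi-finite iff the morphism is
quasi-DM (helper4). -/

namespace Groth.Agent.Lib.helper4.AlgStLqfPr1
open Groth.Agent.FibEquiv Groth.Agent.FibYoneda Groth.Agent.FibFpProj FibCat Groth.Agent.Lib.helper4.FibPaste
open Groth.Agent.Lib.helper4.AlgStEquiv Groth.Agent.Lib.helper4.AlgStRep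
open Groth.Agent.Lib.helper4.FibSwap Groth.Agent.Lib.helper4.PshDict Groth.Agent.Lib.helper4.PshRep
open Groth.Agent.Lib.helper4.PshPB Groth.Agent.Lib.helper4.AlgStCoreA
open Groth.Agent.Lib.helper4.AlgStSource
open Stk AlgSt

variable {S : Scheme.{u}}

/-- Transfer of "representable by an algebraic space whose map to `G` has `P`" along an equivalence over the base
compatible with the projections to the category of `G`. -/
theorem repDataSp_transfer {𝒜 ℬ : AlgSt.Cat S} {G : AlgSp.Space S} (P : MorphismProperty (AlgSp.Sp S))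
    (Ξ : 𝒜 ⥤ᵇ ℬ) (hΞ : IsEquivOver Ξ)
    (qA : 𝒜 ⥤ᵇ AlgSt.ofSp G.obj) (qB : ℬ ⥤ᵇ AlgSt.ofSp G.obj) (θ : BasedFunctor.comp Ξ qB ≅ qA) :
    (∃ (H : AlgSp.Space S) (e : AlgSt.ofSp H.obj ⥤ᵇ 𝒜), IsEquivOver e ∧
        P (ObjectProperty.homMk (pshMapOf (BasedFunctor.comp e qA)) : H.obj ⟶ G.obj)) ↔
      (∃ (H : AlgSp.Space S) (e : AlgSt.ofSp H.obj ⥤ᵇ ℬ), IsEquivOver e ∧
        P (ObjectProperty.homMk (pshMapOf (BasedFunctor.comp e qB)) : H.obj ⟶ G.obj)) := by
  constructor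
  · rintro ⟨H, e, he, hP⟩
    refine ⟨H, BasedFunctor.comp e Ξ, isEquivOver_comp e Ξ he hΞ, ?_⟩
    have : pshMapOf (BasedFunctor.comp (BasedFunctor.comp e Ξ) qB) =
        pshMapOf (BasedFunctor.comp e qA) :=
      pshMapOf_congr (whiskerLeftIso e θ)
    rw [this]
    exact hP
  · rintro ⟨H, e, he, hP⟩
    obtain ⟨Ξi, ⟨α⟩, ⟨β⟩⟩ := hΞ
    have hΞi : IsEquivOver Ξi := isEquivOver_symm α β
    refine ⟨H, BasedFunctor.comp e Ξi, isEquivOver_comp e Ξi he hΞi, ?_⟩
    have i1 : BasedFunctor.comp (BasedFunctor.comp e Ξi) qA ≅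
        BasedFunctor.comp (BasedFunctor.comp e Ξi) (BasedFunctor.comp Ξ qB) :=
      whiskerLeftIso (BasedFunctor.comp e Ξi) θ.symm
    have i2 : BasedFunctor.comp (BasedFunctor.comp e Ξi) (BasedFunctor.comp Ξ qB) ≅
        BasedFunctor.comp e qB :=
      whiskerLeftIso e (whiskerRightIso β qB)
    have : pshMapOf (BasedFunctor.comp (BasedFunctor.comp e Ξi) qA) =
        pshMapOf (BasedFunctor.comp e qB) :=
      pshMapOf_congr (i1 ≪≫ i2)
    rw [this]
    exact hP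

/-- The fibre-product square behind descent: for representing spaces `X` of `(Sch/U) ×_𝒴 𝒳` and `Z` of
`(Sch/U) ×_𝒴 𝒵`, the base change of `fpFst z f` along `Z ⟶ 𝒵` is represented by a space `T` sitting in a cartesian
square over `h_U`, and `T ⟶ Z` has `P`. -/
theorem exists_isPullback_of_fpFst {𝒳 𝒴 𝒵 : AlgSt.Cat S} (h𝒳 : IsFibGrpd 𝒳.p) (h𝒴 : IsFibGrpd 𝒴.p)
    (h𝒵 : IsFibGrpd 𝒵.p) (P : MorphismProperty (AlgSp.Sp S)) (hQ : IsoInv P)
    (hP : AlgSp.IsLocalOnBase AlgSp.IsFppfCover P)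
    (f : 𝒳 ⥤ᵇ 𝒴) (z : 𝒵 ⥤ᵇ 𝒴) (h' : AlgSt.RepByAlgSpWith P (fpFst z f))
    {U : Over S} (y : overCat U ⥤ᵇ 𝒴)
    (X : AlgSp.Space S) (eX : AlgSt.ofSp X.obj ⥤ᵇ fp y f) (heX : IsEquivOver eX)
    (Z : AlgSp.Space S) (eZ : AlgSt.ofSp Z.obj ⥤ᵇ fp y z) (heZ : IsEquivOver eZ) :
    ∃ (T : AlgSp.Space S) (p : T.obj ⟶ Z.obj) (q : T.obj ⟶ X.obj),
      IsPullback q p (AlgSt.spMapOfOver (BasedFunctor.comp eX (fpFst y f)))
        (AlgSt.spMapOfOver (BasedFunctor.comp eZ (fpFst y z))) ∧ P p := by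
  have hfpzf : IsFibGrpd (fp z f).p := isFibGrpd_fp z f h𝒵 h𝒳 h𝒴
  obtain ⟨T, eT, heT, hPT⟩ := coreA hfpzf h𝒵 P hQ hP (fpFst z f) h' Z (BasedFunctor.comp eZ (fpSnd y z))
  -- the comparison equivalences
  have hE1 := pasteL_isEquivOver (BasedFunctor.comp eZ (fpSnd y z)) z f
  have hE2 := fpMap_isEquivOver (BasedFunctor.comp (BasedFunctor.comp eZ (fpSnd y z)) z)
    (BasedFunctor.comp (BasedFunctor.comp eZ (fpFst y z)) y) f f (BasedFunctor.id _) (BasedFunctor.id _)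
    (whiskerLeftIso eZ (fpIso y z).symm) (Iso.refl _) (isEquivOver_id' _) (isEquivOver_id' _)
  have hE4 := fpMap_isEquivOver (BasedFunctor.comp eZ (fpFst y z)) (BasedFunctor.comp eZ (fpFst y z))
    (BasedFunctor.comp eX (fpFst y f)) (fpFst y f) eX (BasedFunctor.id _) (Iso.refl _) (Iso.refl _) heX
    (isEquivOver_id' _)
  have hE3 := pasteL_isEquivOver (BasedFunctor.comp eZ (fpFst y z)) y f
  obtain ⟨E34i, ⟨α⟩, ⟨β⟩⟩ := isEquivOver_comp _ _ hE4 hE3
  have hE34i : IsEquivOver E34i := isEquivOver_symm α β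
  have hD := isEquivOver_comp _ _ heT (isEquivOver_comp _ _ hE1 hE2)
  have hΞ := isEquivOver_comp _ _ hD hE34i
  have sq := isPullback_of_isEquivOver_over (BasedFunctor.comp eZ (fpFst y z)) (BasedFunctor.comp eX (fpFst y f))
    _ hΞ
  have hfst : pshMapOf (BasedFunctor.comp (BasedFunctor.comp (BasedFunctor.comp eT (BasedFunctor.comp
        (pasteL (BasedFunctor.comp eZ (fpSnd y z)) z f)
        (fpMap (BasedFunctor.comp (BasedFunctor.comp eZ (fpSnd y z)) z)
          (BasedFunctor.comp (BasedFunctor.comp eZ (fpFst y z)) y) f f (BasedFunctor.id _) (BasedFunctor.id _)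
          (whiskerLeftIso eZ (fpIso y z).symm) (Iso.refl _)))) E34i)
        (fpFst (BasedFunctor.comp eZ (fpFst y z)) (BasedFunctor.comp eX (fpFst y f)))) =
      pshMapOf (BasedFunctor.comp eT (fpFst (BasedFunctor.comp eZ (fpSnd y z)) (fpFst z f))) := by
    apply pshMapOf_congr
    exact Groth.Agent.Lib.helper4.AlgStRep.whiskerRightIso (whiskerLeftIso _ β)
      (fpFst (BasedFunctor.comp (BasedFunctor.comp eZ (fpFst y z)) y) f)
  rw [hfst] at sq
  let p : T.obj ⟶ Z.obj :=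
    ObjectProperty.homMk (pshMapOf (BasedFunctor.comp eT (fpFst (BasedFunctor.comp eZ (fpSnd y z)) (fpFst z f))))
  let q : T.obj ⟶ X.obj := ObjectProperty.homMk (pshMapOf (BasedFunctor.comp (BasedFunctor.comp
      (BasedFunctor.comp eT (BasedFunctor.comp
        (pasteL (BasedFunctor.comp eZ (fpSnd y z)) z f)
        (fpMap (BasedFunctor.comp (BasedFunctor.comp eZ (fpSnd y z)) z)
          (BasedFunctor.comp (BasedFunctor.comp eZ (fpFst y z)) y) f f (BasedFunctor.id _) (BasedFunctor.id _)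
          (whiskerLeftIso eZ (fpIso y z).symm) (Iso.refl _)))) E34i)
      (fpSnd (BasedFunctor.comp eZ (fpFst y z)) (BasedFunctor.comp eX (fpFst y f)))))
  have sqS : IsPullback q p (AlgSt.spMapOfOver (BasedFunctor.comp eX (fpFst y f)))
      (AlgSt.spMapOfOver (BasedFunctor.comp eZ (fpFst y z))) := by
    apply IsPullback.of_map_of_faithful (sheafToPresheaf (AlgSp.J S) (Type (u + 1)))
    change IsPullback q.hom p.hom (AlgSt.spMapOfOver (BasedFunctor.comp eX (fpFst y f))).hom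
      (AlgSt.spMapOfOver (BasedFunctor.comp eZ (fpFst y z))).hom
    rw [spMapOfOver_hom, spMapOfOver_hom]
    exact sq.flip
  exact ⟨T, p, q, sqS, hPT⟩

section Main

variable {𝒳 𝒬 : AlgSt.Cat S} (h𝒳 : IsFibGrpd 𝒳.p) (h𝒬 : IsFibGrpd 𝒬.p) (g : 𝒳 ⥤ᵇ 𝒬)
include h𝒳 h𝒬

/-- a locally of finite type morphism representable by algebraic spaces whose self fibre product projects
locally quasi-finitely is locally quasi-finite -/
theorem repByAlgSpWith_lqf_of_fpFst
    (hlft : AlgSt.RepByAlgSpWith (AlgSp.LocP @LocallyOfFiniteType) g)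
    (H : AlgSt.RepByAlgSpWith (AlgSp.LocP (@LocallyQuasiFinite ⊓ @LocallyOfFiniteType)) (fpFst g g)) :
    AlgSt.RepByAlgSpWith (AlgSp.LocP (@LocallyQuasiFinite ⊓ @LocallyOfFiniteType)) g := by
  intro T y
  obtain ⟨F, e, he, hp⟩ := hlft T y
  refine ⟨F, e, he, ?_⟩
  obtain ⟨H', p, q, sq, hPp⟩ := exists_isPullback_of_fpFst h𝒳 h𝒬 h𝒳
    (AlgSp.LocP (@LocallyQuasiFinite ⊓ @LocallyOfFiniteType)) (isoInv_locP _)
    (isLocalOnBase_fppf_of_fpqc (Groth.Agent.S10541.result S).1) g g H y F e he F e he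
  exact Groth.Agent.Lib.helper4.AlgSpLqfPr1.locP_lqf_of_isPullback_fst F.property _ hp p q sq.flip hPp

end Main

section Inertia
open Groth.Agent.Lib.helper4.FibInertiaDiag Groth.Agent.Lib.helper4.AlgStInertia
open Groth.Agent.Lib.helper4.AlgStSmLoc Groth.Agent.Lib.helper4.AlgStCancel

variable {𝒳 𝒴 : AlgSt.Cat S} (f : 𝒳 ⥤ᵇ 𝒴)
  (h𝒳 : AlgSt.IsAlgStack Scheme.fppfPrecoverage 𝒳) (h𝒴 : AlgSt.IsAlgStack Scheme.fppfPrecoverage 𝒴)
include h𝒳 h𝒴

/-- S12975 -/
theorem lqf_inertiaToBase_iff_isQuasiDMMor :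
    AlgSt.RepByAlgSpWith (AlgSp.LocP (@LocallyQuasiFinite ⊓ @LocallyOfFiniteType)) (FibCat.inertiaToBase f) ↔
      AlgSt.IsQuasiDMMor f := by
  constructor
  · intro h
    have h1 : AlgSt.RepByAlgSpWith (AlgSp.LocP (@LocallyQuasiFinite ⊓ @LocallyOfFiniteType))
        (fpFst (FibCat.diag f) (FibCat.diag f)) :=
      (repByAlgSpWith_precomp_iff _ _ (Φ f) (Φ_isEquivOver f)).2 h
    have h𝒳' : IsFibGrpd 𝒳.p := h𝒳.isStack.1
    have h𝒴' : IsFibGrpd 𝒴.p := h𝒴.isStack.1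
    have hfp : IsFibGrpd (fp f f).p := isFibGrpd_fp f f h𝒳' h𝒳' h𝒴'
    exact repByAlgSpWith_lqf_of_fpFst h𝒳' hfp (FibCat.diag f)
      (Groth.Agent.Lib.helper4.AlgStDiagLFT.lft_diag h𝒳 h𝒴 f) h1
  · intro h
    exact inertiaToBase_of_diag f _ h

end Inertia

end Groth.Agent.Lib.helper4.AlgStLqfPr1
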