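import Groth.Agent.Lib.Helper4.DiagEquiv
import Groth.Agent.Lib.Helper4.FibLiftIso
set_option autoImplicit false
set_option backward.isDefEq.respectTransparency false
set_option backward.isDefEq.respectTransparency.types false
set_option linter.unusedSectionVars false
set_option linter.style.haveILetI false
set_option linter.unusedVariables false
open CategoryTheory CategoryTheory.Functor CategoryTheory.Limits
universe v₈ u₈ v₇ u₇ v₆ u₆ v₅ u₅ v₄ u₄ v₃ u₃ v₂ u₂ v u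

/-! The two cartesian squares of the groupoid of a chart: for `f : 𝒳 ⟶ 𝒴`, a chart `v : 𝒱 ⟶ 𝒴` and two maps
`c₁ c₂ : 𝒵 ⟶ 𝒱` with `c₁ ⋙ v ≅ c₂ ⋙ v`, both `𝒵 ×_{c₁,𝒱} (𝒱 ×_𝒴 𝒳)` and `𝒵 ×_{c₂,𝒱} (𝒱 ×_𝒴 𝒳)` are equivalent
to `𝒵 ×_𝒴 𝒳`; the self fibre product of `𝒱 ×_𝒴 𝒳` over `𝒳` maps compatibly to both (helper4). -/

namespace Groth.Agent.Lib.helper4.FibGrpdSq
open Groth.Agent.FibEquiv Groth.Agent.Lib.helper4.FibPaste Groth.Agent.Lib.helper4.DiagBC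
open Groth.Agent.Lib.helper4.DiagEquiv Groth.Agent.Lib.helper4.FibSwap
open Groth.Agent.Lib.helper4.AlgStRep FibCat

variable {C : Type u} [Category.{v} C]

section General

variable {𝒱 : BasedCategory.{v₂, u₂} C} {𝒳 : BasedCategory.{v₃, u₃} C} {𝒴 : BasedCategory.{v₄, u₄} C}
  {𝒵 : BasedCategory.{v₅, u₅} C} {𝒜 : BasedCategory.{v₆, u₆} C}
  (f : 𝒳 ⥤ᵇ 𝒴) (v : 𝒱 ⥤ᵇ 𝒴) (c₁ c₂ : 𝒵 ⥤ᵇ 𝒱)
  (κ : BasedFunctor.comp c₁ v ≅ BasedFunctor.comp c₂ v)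

/-- the first comparison `𝒵 ×_{c₁,𝒱} (𝒱 ×_𝒴 𝒳) ⟶ 𝒵 ×_𝒴 𝒳` -/
def E₁ : fp c₁ (fpFst v f) ⥤ᵇ fp (BasedFunctor.comp c₁ v) f := pasteL c₁ v f

/-- the second comparison `𝒵 ×_{c₂,𝒱} (𝒱 ×_𝒴 𝒳) ⟶ 𝒵 ×_𝒴 𝒳`, the fibre product on the right formed with `c₁` -/
def E₂ : fp c₂ (fpFst v f) ⥤ᵇ fp (BasedFunctor.comp c₁ v) f :=
  BasedFunctor.comp (pasteL c₂ v f)
    (fpMap (BasedFunctor.comp c₂ v) (BasedFunctor.comp c₁ v) f f (BasedFunctor.id _) (BasedFunctor.id _)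
      κ.symm (Iso.refl _))

theorem E₁_isEquivOver : IsEquivOver (E₁ f v c₁) := pasteL_isEquivOver c₁ v f

theorem E₂_isEquivOver : IsEquivOver (E₂ f v c₁ c₂ κ) :=
  isEquivOver_comp _ _ (pasteL_isEquivOver c₂ v f)
    (fpMap_isEquivOver _ _ _ _ _ _ _ _ (isEquivOver_id' _) (isEquivOver_id' _))

theorem E₁_fst : BasedFunctor.comp (E₁ f v c₁) (fpFst (BasedFunctor.comp c₁ v) f) = fpFst c₁ (fpFst v f) := rfl

theorem E₂_fst : BasedFunctor.comp (E₂ f v c₁ c₂ κ) (fpFst (BasedFunctor.comp c₁ v) f) =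
    fpFst c₂ (fpFst v f) := rfl

variable (n : 𝒜 ⥤ᵇ 𝒵) (m₁ m₂ : 𝒜 ⥤ᵇ fp v f)
  (ι₁ : BasedFunctor.comp n c₁ ≅ BasedFunctor.comp m₁ (fpFst v f))
  (ι₂ : BasedFunctor.comp n c₂ ≅ BasedFunctor.comp m₂ (fpFst v f))
  (β : BasedFunctor.comp m₁ (fpSnd v f) ≅ BasedFunctor.comp m₂ (fpSnd v f))
  (h : ∀ r : 𝒜.obj, v.toFunctor.map (appIso ι₁ r).hom ≫ (m₁.toFunctor.obj r).obj.iso.hom ≫
      f.toFunctor.map (appIso β r).hom =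
    (appIso κ (n.toFunctor.obj r)).hom ≫ v.toFunctor.map (appIso ι₂ r).hom ≫
      (m₂.toFunctor.obj r).obj.iso.hom)

/-- compatible data over the two squares have isomorphic images in `𝒵 ×_𝒴 𝒳` -/
def liftIso : BasedFunctor.comp (fpLift n m₁ ι₁) (E₁ f v c₁) ≅
    BasedFunctor.comp (fpLift n m₂ ι₂) (E₂ f v c₁ c₂ κ) :=
  fpFunctorIso (BasedFunctor.comp c₁ v) f _ _ (Iso.refl _) β (fun r => by
    change (BasedFunctor.comp c₁ v).toFunctor.map (𝟙 _) ≫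
        ((appIso κ.symm (n.toFunctor.obj r)).inv ≫ (v.toFunctor.map (appIso ι₂ r).hom ≫
          (m₂.toFunctor.obj r).obj.iso.hom) ≫ 𝟙 _) =
      (v.toFunctor.map (appIso ι₁ r).hom ≫ (m₁.toFunctor.obj r).obj.iso.hom) ≫
        f.toFunctor.map (appIso β r).hom
    rw [CategoryTheory.Functor.map_id, Category.id_comp, Category.comp_id, Category.assoc, h r]
    rfl)

end General

section Groupoid

variable {𝒱 : BasedCategory.{v₂, u₂} C} {𝒳 : BasedCategory.{v₃, u₃} C} {𝒴 : BasedCategory.{v₄, u₄} C}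
  (f : 𝒳 ⥤ᵇ 𝒴) (v : 𝒱 ⥤ᵇ 𝒴)

/-- the 2-isomorphism `v ∘ pr ∘ s ≅ v ∘ pr ∘ t` on `(𝒱 ×_𝒴 𝒳) ×_𝒳 (𝒱 ×_𝒴 𝒳)` -/
def grpdθ : BasedFunctor.comp (BasedFunctor.comp (fpFst (fpSnd v f) (fpSnd v f)) (fpFst v f)) v ≅
    BasedFunctor.comp (BasedFunctor.comp (fpSnd (fpSnd v f) (fpSnd v f)) (fpFst v f)) v :=
  whiskerLeftIso (fpFst (fpSnd v f) (fpSnd v f)) (fpIso v f) ≪≫
    whiskerRightIso (fpIso (fpSnd v f) (fpSnd v f)) f ≪≫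
      whiskerLeftIso (fpSnd (fpSnd v f) (fpSnd v f)) (fpIso v f).symm

/-- the map `(𝒱 ×_𝒴 𝒳) ×_𝒳 (𝒱 ×_𝒴 𝒳) ⟶ 𝒱 ×_𝒴 𝒱` -/
def grpdA : fp (fpSnd v f) (fpSnd v f) ⥤ᵇ fp v v :=
  fpLift (BasedFunctor.comp (fpFst (fpSnd v f) (fpSnd v f)) (fpFst v f))
    (BasedFunctor.comp (fpSnd (fpSnd v f) (fpSnd v f)) (fpFst v f)) (grpdθ f v)

/-- the map to the first square -/
def grpdΦ₁ : fp (fpSnd v f) (fpSnd v f) ⥤ᵇ fp (fpFst v v) (fpFst v f) :=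
  fpLift (grpdA f v) (fpFst (fpSnd v f) (fpSnd v f)) (Iso.refl _)

/-- the map to the second square -/
def grpdΦ₂ : fp (fpSnd v f) (fpSnd v f) ⥤ᵇ fp (fpSnd v v) (fpFst v f) :=
  fpLift (grpdA f v) (fpSnd (fpSnd v f) (fpSnd v f)) (Iso.refl _)

theorem grpdΦ₁_snd : BasedFunctor.comp (grpdΦ₁ f v) (fpSnd (fpFst v v) (fpFst v f)) =
    fpFst (fpSnd v f) (fpSnd v f) := rfl

theorem grpdΦ₂_snd : BasedFunctor.comp (grpdΦ₂ f v) (fpSnd (fpSnd v v) (fpFst v f)) =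
    fpSnd (fpSnd v f) (fpSnd v f) := rfl

/-- the two maps agree in `(𝒱 ×_𝒴 𝒱) ×_𝒴 𝒳` -/
def grpdIso : BasedFunctor.comp (grpdΦ₁ f v) (E₁ f v (fpFst v v)) ≅
    BasedFunctor.comp (grpdΦ₂ f v) (E₂ f v (fpFst v v) (fpSnd v v) (fpIso v v)) :=
  liftIso f v (fpFst v v) (fpSnd v v) (fpIso v v) (grpdA f v) (fpFst (fpSnd v f) (fpSnd v f))
    (fpSnd (fpSnd v f) (fpSnd v f)) (Iso.refl _) (Iso.refl _) (fpIso (fpSnd v f) (fpSnd v f)) (fun r => by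
      change v.toFunctor.map (𝟙 _) ≫ r.obj.fst.obj.iso.hom ≫ f.toFunctor.map r.obj.iso.hom =
        (r.obj.fst.obj.iso.hom ≫ f.toFunctor.map r.obj.iso.hom ≫ r.obj.snd.obj.iso.inv) ≫
          v.toFunctor.map (𝟙 _) ≫ r.obj.snd.obj.iso.hom
      simp)

end Groupoid

end Groth.Agent.Lib.helper4.FibGrpdSq
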