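import Groth.Agent.Lib.Helper4.AlgStOpenSub13
import Groth.Agent.Lib.Helper4.AlgStLqfPr1
import Groth.Agent.Lib.Helper4.FibGrpdSq
set_option autoImplicit false
set_option backward.isDefEq.respectTransparency false
set_option backward.isDefEq.respectTransparency.types false
set_option linter.unusedSectionVars false
set_option linter.style.haveILetI false
set_option linter.unusedVariables false
open CategoryTheory CategoryTheory.Functor CategoryTheory.Limits Opposite AlgebraicGeometry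
universe u

/-! The groupoid of a chart of a morphism representable by algebraic spaces, as two cartesian squares of algebraic
spaces over the two projections of the chart's own groupoid (helper4). -/

namespace Groth.Agent.Lib.helper4.AlgStGrpdSq
open Groth.Agent.FibEquiv Groth.Agent.FibYoneda FibCat Groth.Agent.Lib.helper4.FibPaste
open Groth.Agent.Lib.helper4.AlgStEquiv Groth.Agent.Lib.helper4.AlgStRep
open Groth.Agent.Lib.helper4.AlgStSetoid Groth.Agent.FibFpProj Groth.Agent.Lib.helper4.FibRep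
open Groth.Agent.Lib.helper4.AlgStFpAlg Groth.Agent.Lib.helper4.AlgStDM Groth.Agent.Lib.helper4.AlgStSelf
open Groth.Agent.Lib.helper4.AlgStPts Groth.Agent.Lib.helper4.FibSwap Groth.Agent.Lib.helper4.AlgStSmLoc
open Groth.Agent.Lib.helper4.AlgStQC Groth.Agent.Lib.helper4.PshDict Groth.Agent.Lib.helper4.PshRep
open Groth.Agent.Lib.helper4.PshPB Groth.Agent.Lib.helper4.AlgStQCMor Groth.Agent.Lib.helper4.PointsBasic
open Groth.Agent.Lib.helper4.AlgStDescent Groth.Agent.Lib.helper4.AlgStCoreA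
open Groth.Agent.Lib.helper4.AlgStSource Groth.Agent.Lib.helper4.AlgStGraph
open Groth.Agent.Lib.helper4.AlgStLocQ Groth.Agent.Lib.helper4.StkSub Groth.Agent.Lib.helper4.FibLiftIso
open Groth.Agent.Lib.helper4.FibGrpdSq
open Stk AlgSt

variable {S : Scheme.{u}}

/-- **Chart change square.**  For a scheme chart `y` of `𝒴`, representing spaces `X` of `(Sch/U) ×_𝒴 𝒳`, `Z` of `𝒵`
and `T` of `𝒯 ≃ 𝒵 ×_{(Sch/U)} ((Sch/U) ×_𝒴 𝒳)`, there is a cartesian square of spaces `T = Z ×_{h_U} X`, whose map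
`T ⟶ X` is computed on points by the second projection. -/
theorem exists_square {𝒳 𝒴 𝒵 𝒯 : AlgSt.Cat S} (f : 𝒳 ⥤ᵇ 𝒴) {U : Over S} (y : overCat U ⥤ᵇ 𝒴)
    (X : AlgSp.Space S) (eX : AlgSt.ofSp X.obj ⥤ᵇ fp y f) (heX : IsEquivOver eX)
    (c : 𝒵 ⥤ᵇ overCat U) (Z : AlgSp.Space S) (eZ : AlgSt.ofSp Z.obj ⥤ᵇ 𝒵) (heZ : IsEquivOver eZ)
    (E : fp c (fpFst y f) ⥤ᵇ 𝒯) (hE : IsEquivOver E) (π : 𝒯 ⥤ᵇ 𝒵)
    (hπ : BasedFunctor.comp E π ≅ fpFst c (fpFst y f))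
    (T : AlgSp.Space S) (eT : AlgSt.ofSp T.obj ⥤ᵇ 𝒯) (heT : IsEquivOver eT)
    (P₀ : AlgSt.ofSp T.obj ⥤ᵇ AlgSt.ofSp Z.obj)
    (hP₀ : BasedFunctor.comp P₀ eZ ≅ BasedFunctor.comp eT π) :
    ∃ q : T.obj ⟶ X.obj,
      IsPullback q (ObjectProperty.homMk (pshMapOf P₀) : T.obj ⟶ Z.obj)
        (AlgSt.spMapOfOver (BasedFunctor.comp eX (fpFst y f)))
        (AlgSt.spMapOfOver (BasedFunctor.comp eZ c)) ∧
      ∀ (t₀ : AlgSt.Points (AlgSt.ofSp T.obj)) (y₀ : AlgSt.Points (fp c (fpFst y f))),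
        AlgSt.Points.map E y₀ = AlgSt.Points.map eT t₀ →
        AlgSt.Points.map eX (AlgSt.Points.map (AlgSt.ofSpMap q) t₀) =
          AlgSt.Points.map (fpSnd c (fpFst y f)) y₀ := by
  let F₁ : fp (BasedFunctor.comp eZ c) (BasedFunctor.comp eX (fpFst y f)) ⥤ᵇ
      fp (BasedFunctor.comp eZ c) (fpFst y f) :=
    fpMap (BasedFunctor.comp eZ c) (BasedFunctor.comp eZ c) (BasedFunctor.comp eX (fpFst y f)) (fpFst y f) eX
      (BasedFunctor.id _) (Iso.refl _) (Iso.refl _)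
  have hF₁ : IsEquivOver F₁ := fpMap_isEquivOver _ _ _ _ _ _ _ _ heX (isEquivOver_id' _)
  let G₁ : fp (BasedFunctor.comp eZ c) (fpFst y f) ⥤ᵇ fp c (fpFst y f) := fpPrecomp eZ c (fpFst y f)
  have hG₁ : IsEquivOver G₁ := fpPrecomp_isEquivOver eZ c (fpFst y f) heZ
  let D : fp (BasedFunctor.comp eZ c) (BasedFunctor.comp eX (fpFst y f)) ⥤ᵇ 𝒯 :=
    BasedFunctor.comp F₁ (BasedFunctor.comp G₁ E)
  have hD : IsEquivOver D := isEquivOver_comp _ _ hF₁ (isEquivOver_comp _ _ hG₁ hE)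
  obtain ⟨Di, ⟨α⟩, ⟨β⟩⟩ := hD
  have hDi : IsEquivOver Di := isEquivOver_symm α β
  let Ξ : AlgSt.ofSp T.obj ⥤ᵇ fp (BasedFunctor.comp eZ c) (BasedFunctor.comp eX (fpFst y f)) :=
    BasedFunctor.comp eT Di
  have hΞ : IsEquivOver Ξ := isEquivOver_comp _ _ heT hDi
  have sq := isPullback_of_isEquivOver_over (BasedFunctor.comp eZ c) (BasedFunctor.comp eX (fpFst y f)) Ξ hΞ
  -- the first projection is `P₀`
  have iso₁ : BasedFunctor.comp D π ≅
      BasedFunctor.comp (fpFst (BasedFunctor.comp eZ c) (BasedFunctor.comp eX (fpFst y f))) eZ :=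
    whiskerLeftIso (BasedFunctor.comp F₁ G₁) hπ
  have iso₂ : BasedFunctor.comp (BasedFunctor.comp Ξ
      (fpFst (BasedFunctor.comp eZ c) (BasedFunctor.comp eX (fpFst y f)))) eZ ≅ BasedFunctor.comp P₀ eZ :=
    whiskerLeftIso Ξ iso₁.symm ≪≫ whiskerLeftIso eT (whiskerRightIso β π) ≪≫ hP₀.symm
  obtain ⟨iso₃⟩ := iso_of_comp_equiv _ _ eZ heZ iso₂
  have hfst : pshMapOf (BasedFunctor.comp Ξ
      (fpFst (BasedFunctor.comp eZ c) (BasedFunctor.comp eX (fpFst y f)))) = pshMapOf P₀ :=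
    pshMapOf_congr iso₃
  rw [hfst] at sq
  let q : T.obj ⟶ X.obj := ObjectProperty.homMk (pshMapOf (BasedFunctor.comp Ξ
      (fpSnd (BasedFunctor.comp eZ c) (BasedFunctor.comp eX (fpFst y f)))))
  refine ⟨q, ?_, ?_⟩
  · apply IsPullback.of_map_of_faithful (sheafToPresheaf (AlgSp.J S) (Type (u + 1)))
    change IsPullback q.hom (pshMapOf P₀) (AlgSt.spMapOfOver (BasedFunctor.comp eX (fpFst y f))).hom
      (AlgSt.spMapOfOver (BasedFunctor.comp eZ c)).hom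
    rw [spMapOfOver_hom, spMapOfOver_hom]
    exact sq.flip
  · intro t₀ y₀ h
    have hq : AlgSt.ofSpMap q ≅ BasedFunctor.comp Ξ
        (fpSnd (BasedFunctor.comp eZ c) (BasedFunctor.comp eX (fpFst y f))) :=
      (isoOfPshMap _).symm
    rw [map_congr_iso hq, ← map_comp]
    have e1 : BasedFunctor.comp (BasedFunctor.comp Ξ
        (fpSnd (BasedFunctor.comp eZ c) (BasedFunctor.comp eX (fpFst y f)))) eX =
        BasedFunctor.comp (BasedFunctor.comp Ξ (BasedFunctor.comp F₁ G₁)) (fpSnd c (fpFst y f)) := rfl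
    rw [e1, map_comp]
    congr 1
    apply (map_bijective_of_isEquivOver E hE).1
    rw [← map_comp, h]
    have i4 : BasedFunctor.comp (BasedFunctor.comp Ξ (BasedFunctor.comp F₁ G₁)) E ≅ eT :=
      whiskerLeftIso eT β
    exact map_congr_iso i4 t₀

/-- **The groupoid of a chart.**  For a chart `v : (Sch/V) ⟶ 𝒴`, representing spaces `X` of `(Sch/V) ×_𝒴 𝒳`, `Z` of
`(Sch/V) ×_𝒴 (Sch/V)` and `T` of `Z ×_𝒴 𝒳`, there are two cartesian squares `T = Z ×_{c₁, h_V} X` and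
`T = Z ×_{c₂, h_V} X` with the same map `T ⟶ Z`, and every pair of points of `X` with the same image in `𝒳` is the
image of a point of `T`. -/
theorem exists_groupoid_squares {𝒳 𝒴 : AlgSt.Cat S} (h𝒳 : IsFibGrpd 𝒳.p) (h𝒴 : IsFibGrpd 𝒴.p) (f : 𝒳 ⥤ᵇ 𝒴)
    {V : Over S} (v : overCat V ⥤ᵇ 𝒴)
    (X : AlgSp.Space S) (eX : AlgSt.ofSp X.obj ⥤ᵇ fp v f) (heX : IsEquivOver eX)
    (Z : AlgSp.Space S) (eZ : AlgSt.ofSp Z.obj ⥤ᵇ fp v v) (heZ : IsEquivOver eZ)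
    (T : AlgSp.Space S)
    (eT' : AlgSt.ofSp T.obj ⥤ᵇ fp (BasedFunctor.comp eZ (BasedFunctor.comp (fpFst v v) v)) f)
    (heT' : IsEquivOver eT') :
    ∃ q₁ q₂ : T.obj ⟶ X.obj,
      IsPullback q₁ (ObjectProperty.homMk (pshMapOf (BasedFunctor.comp eT'
          (fpFst (BasedFunctor.comp eZ (BasedFunctor.comp (fpFst v v) v)) f))) : T.obj ⟶ Z.obj)
        (AlgSt.spMapOfOver (BasedFunctor.comp eX (fpFst v f)))
        (AlgSt.spMapOfOver (BasedFunctor.comp eZ (fpFst v v))) ∧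
      IsPullback q₂ (ObjectProperty.homMk (pshMapOf (BasedFunctor.comp eT'
          (fpFst (BasedFunctor.comp eZ (BasedFunctor.comp (fpFst v v) v)) f))) : T.obj ⟶ Z.obj)
        (AlgSt.spMapOfOver (BasedFunctor.comp eX (fpFst v f)))
        (AlgSt.spMapOfOver (BasedFunctor.comp eZ (fpSnd v v))) ∧
      ∀ x x' : AlgSt.Points (AlgSt.ofSp X.obj),
        AlgSt.Points.map (BasedFunctor.comp eX (fpSnd v f)) x =
          AlgSt.Points.map (BasedFunctor.comp eX (fpSnd v f)) x' →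
        ∃ t₀ : AlgSt.Points (AlgSt.ofSp T.obj),
          AlgSt.Points.map (AlgSt.ofSpMap q₁) t₀ = x ∧ AlgSt.Points.map (AlgSt.ofSpMap q₂) t₀ = x' := by
  have hVf : IsFibGrpd (overCat V).p := Groth.Agent.FibOver.isFibGrpd_overCat V
  have hfp : IsFibGrpd (fp v f).p := isFibGrpd_fp v f hVf h𝒳 h𝒴
  let eT : AlgSt.ofSp T.obj ⥤ᵇ fp (BasedFunctor.comp (fpFst v v) v) f :=
    BasedFunctor.comp eT' (fpPrecomp eZ (BasedFunctor.comp (fpFst v v) v) f)
  have heT : IsEquivOver eT := isEquivOver_comp _ _ heT' (fpPrecomp_isEquivOver eZ _ f heZ)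
  let P₀ : AlgSt.ofSp T.obj ⥤ᵇ AlgSt.ofSp Z.obj := BasedFunctor.comp eT'
    (fpFst (BasedFunctor.comp eZ (BasedFunctor.comp (fpFst v v) v)) f)
  obtain ⟨q₁, sq₁, hq₁⟩ := exists_square f v X eX heX (fpFst v v) Z eZ heZ (E₁ f v (fpFst v v))
    (E₁_isEquivOver f v (fpFst v v)) (fpFst (BasedFunctor.comp (fpFst v v) v) f) (Iso.refl _) T eT heT P₀
    (Iso.refl _)
  obtain ⟨q₂, sq₂, hq₂⟩ := exists_square f v X eX heX (fpSnd v v) Z eZ heZ
    (E₂ f v (fpFst v v) (fpSnd v v) (fpIso v v))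
    (E₂_isEquivOver f v (fpFst v v) (fpSnd v v) (fpIso v v)) (fpFst (BasedFunctor.comp (fpFst v v) v) f)
    (Iso.refl _) T eT heT P₀ (Iso.refl _)
  refine ⟨q₁, q₂, sq₁, sq₂, ?_⟩
  intro x x' hxx'
  rw [map_comp, map_comp] at hxx'
  obtain ⟨r, hr₁, hr₂⟩ := Groth.Agent.Lib.helper4.AlgStPts.exists_points_fp hfp h𝒳 hfp (fpSnd v f) (fpSnd v f)
    (AlgSt.Points.map eX x) (AlgSt.Points.map eX x') hxx'
  obtain ⟨t₀, ht₀⟩ := (map_bijective_of_isEquivOver eT heT).2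
    (AlgSt.Points.map (BasedFunctor.comp (grpdΦ₁ f v) (E₁ f v (fpFst v v))) r)
  refine ⟨t₀, ?_, ?_⟩
  · apply (map_bijective_of_isEquivOver eX heX).1
    rw [hq₁ t₀ (AlgSt.Points.map (grpdΦ₁ f v) r) (by rw [ht₀, map_comp]), ← map_comp, grpdΦ₁_snd]
    exact hr₁
  · apply (map_bijective_of_isEquivOver eX heX).1
    rw [hq₂ t₀ (AlgSt.Points.map (grpdΦ₂ f v) r) (by
      rw [ht₀, ← map_comp]; exact (map_congr_iso (grpdIso f v) r).symm), ← map_comp, grpdΦ₂_snd]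
    exact hr₂

/-- **Restriction of a chart to an open substack.**  For a representing space `X` of `(Sch/V) ×_𝒴 𝒳` and an open
immersion `ι : 𝒳₁ ⟶ 𝒳`, the fibre product `(Sch/V) ×_𝒴 𝒳₁` is represented by an open subspace `W₁ ⊂ X`,
compatibly with the maps to `h_V`, whose points are those of `X` mapping into the image of `|𝒳₁|`. -/
theorem exists_rep_restrict {𝒳 𝒳₁ 𝒴 : AlgSt.Cat S} (h𝒳 : IsFibGrpd 𝒳.p) (h𝒳₁ : IsFibGrpd 𝒳₁.p)
    (f : 𝒳 ⥤ᵇ 𝒴) {V : Over S} (v : overCat V ⥤ᵇ 𝒴)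
    (X : AlgSp.Space S) (eX : AlgSt.ofSp X.obj ⥤ᵇ fp v f) (heX : IsEquivOver eX)
    (ι₁ : 𝒳₁ ⥤ᵇ 𝒳) (hι₁ : AlgSt.IsOpenImm ι₁) :
    ∃ (W₁ : AlgSp.Space S) (w₁ : W₁ ⟶ X) (e₁ : AlgSt.ofSp W₁.obj ⥤ᵇ fp v (BasedFunctor.comp ι₁ f)),
      AlgSp.RepWith @IsOpenImmersion w₁.hom ∧ IsEquivOver e₁ ∧
      AlgSt.spMapOfOver (BasedFunctor.comp e₁ (fpFst v (BasedFunctor.comp ι₁ f))) =
        w₁.hom ≫ AlgSt.spMapOfOver (BasedFunctor.comp eX (fpFst v f)) ∧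
      ∀ x : AlgSt.Points (AlgSt.ofSp X.obj), x ∈ Set.range (AlgSt.Points.map (AlgSt.ofSpMap w₁.hom)) ↔
        AlgSt.Points.map (BasedFunctor.comp eX (fpSnd v f)) x ∈ Set.range (AlgSt.Points.map ι₁) := by
  have hXf : IsFibGrpd (AlgSt.ofSp X.obj).p := isFibGrpd_ofPsh _
  obtain ⟨H, eH, heH, hoi⟩ := coreA h𝒳₁ h𝒳 (AlgSp.RepWith @IsOpenImmersion)
    (isoInv_of_baseChange _ (fun X₁ Y₁ X₂ Y₂ _ _ _ _ a b a' b' sq ha =>
      (MorphismProperty.relative_isStableUnderBaseChange _).of_isPullback sq ha))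
    (isLocalOnBase_fppf_of_fpqc (Groth.Agent.S10531.result S)) ι₁ hι₁ X (BasedFunctor.comp eX (fpSnd v f))
  let w₁ : H ⟶ X := ObjectProperty.homMk (ObjectProperty.homMk (pshMapOf (BasedFunctor.comp eH
    (fpFst (BasedFunctor.comp eX (fpSnd v f)) ι₁))))
  let e₁ : AlgSt.ofSp H.obj ⥤ᵇ fp v (BasedFunctor.comp ι₁ f) :=
    BasedFunctor.comp eH (BasedFunctor.comp (fpPrecomp eX (fpSnd v f) ι₁) (pasteR v f ι₁))
  have he₁ : IsEquivOver e₁ := isEquivOver_comp _ _ heH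
    (isEquivOver_comp _ _ (fpPrecomp_isEquivOver eX (fpSnd v f) ι₁ heX) (pasteR_isEquivOver v f ι₁))
  have hw₁ : AlgSt.ofSpMap w₁.hom ≅ BasedFunctor.comp eH (fpFst (BasedFunctor.comp eX (fpSnd v f)) ι₁) :=
    (isoOfPshMap _).symm
  refine ⟨H, w₁, e₁, hoi, he₁, ?_, ?_⟩
  · have e2 : BasedFunctor.comp e₁ (fpFst v (BasedFunctor.comp ι₁ f)) =
        BasedFunctor.comp (BasedFunctor.comp eH (fpFst (BasedFunctor.comp eX (fpSnd v f)) ι₁))
          (BasedFunctor.comp eX (fpFst v f)) := rfl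
    rw [e2, spMapOfOver_comp_pshMapOf]
    rfl
  · intro x
    constructor
    · rintro ⟨h, rfl⟩
      rw [map_congr_iso hw₁, ← map_comp]
      have i1 : BasedFunctor.comp (BasedFunctor.comp eH (fpFst (BasedFunctor.comp eX (fpSnd v f)) ι₁))
          (BasedFunctor.comp eX (fpSnd v f)) ≅
          BasedFunctor.comp (BasedFunctor.comp eH (fpSnd (BasedFunctor.comp eX (fpSnd v f)) ι₁)) ι₁ :=
        whiskerLeftIso eH (fpIso (BasedFunctor.comp eX (fpSnd v f)) ι₁)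
      rw [map_congr_iso i1, map_comp]
      exact ⟨_, rfl⟩
    · rintro ⟨u, hu⟩
      obtain ⟨w, hw, -⟩ := Groth.Agent.Lib.helper4.AlgStPts.exists_points_fp h𝒳₁ h𝒳 hXf ι₁
        (BasedFunctor.comp eX (fpSnd v f)) x u hu.symm
      obtain ⟨h, rfl⟩ := (map_bijective_of_isEquivOver eH heH).2 w
      refine ⟨h, ?_⟩
      rw [map_congr_iso hw₁, map_comp]
      exact hw

end Groth.Agent.Lib.helper4.AlgStGrpdSq
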