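import Groth.Agent.Lib.Helper4.AlgStLargestP
set_option autoImplicit false
set_option backward.isDefEq.respectTransparency false
set_option backward.isDefEq.respectTransparency.types false
set_option linter.unusedSectionVars false
set_option linter.style.haveILetI false
set_option linter.unusedVariables false
open CategoryTheory CategoryTheory.Functor CategoryTheory.Limits Opposite AlgebraicGeometry
universe w v₀ u₀ u

/-! The groupoid of a chart from an ALGEBRAIC SPACE of a morphism representable by algebraic spaces: the versions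
over a base algebraic space of the results of `AlgStGrpdSq` (helper4). -/

namespace Groth.Agent.Lib.helper4.AlgStGrpdSqSp
open Groth.Agent.FibEquiv Groth.Agent.FibYoneda FibCat Groth.Agent.Lib.helper4.FibPaste
open Groth.Agent.Lib.helper4.AlgStEquiv Groth.Agent.Lib.helper4.AlgStRep
open Groth.Agent.Lib.helper4.AlgStSetoid Groth.Agent.FibFpProj Groth.Agent.Lib.helper4.FibRep
open Groth.Agent.Lib.helper4.AlgStFpAlg Groth.Agent.Lib.helper4.AlgStDM Groth.Agent.Lib.helper4.AlgStSelf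
open Groth.Agent.Lib.helper4.AlgStPts Groth.Agent.Lib.helper4.FibSwap Groth.Agent.Lib.helper4.AlgStSmLoc
open Groth.Agent.Lib.helper4.AlgStQC Groth.Agent.Lib.helper4.PshDict Groth.Agent.Lib.helper4.PshRep
open Groth.Agent.Lib.helper4.PshPB Groth.Agent.Lib.helper4.AlgStQCMor Groth.Agent.Lib.helper4.PointsBasic
open Groth.Agent.Lib.helper4.AlgStDescent Groth.Agent.Lib.helper4.AlgStCoreA
open Groth.Agent.Lib.helper4.AlgStSource Groth.Agent.Lib.helper4.AlgStGraph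
open Groth.Agent.Lib.helper4.AlgStLocQ Groth.Agent.Lib.helper4.StkSub Groth.Agent.Lib.helper4.FibLiftIso
open Groth.Agent.Lib.helper4.FibGrpdSq Groth.Agent.Lib.helper4.AlgStGrpdSq
open Groth.Agent.Lib.helper4.AlgStOpenSub Groth.Agent.Lib.helper4.AlgStLargestP
open Stk AlgSt

section General

variable {C : Type u₀} [Category.{v₀} C] {F H G T : Cᵒᵖ ⥤ Type w}

/-- an equivalence from the category of a presheaf to a 2-fibre product of categories of presheaves gives a pullback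
square of presheaves -/
theorem isPullback_of_isEquivOver_psh (A : ofPsh F ⥤ᵇ ofPsh G) (B : ofPsh H ⥤ᵇ ofPsh G)
    (Ξ : ofPsh T ⥤ᵇ fp A B) (hΞ : IsEquivOver Ξ) :
    IsPullback (pshMapOf (BasedFunctor.comp Ξ (fpFst A B))) (pshMapOf (BasedFunctor.comp Ξ (fpSnd A B)))
      (pshMapOf A) (pshMapOf B) := by
  let M : fp A B ⥤ᵇ fp (ofPshMap (pshMapOf A)) (ofPshMap (pshMapOf B)) :=
    fpMap A (ofPshMap (pshMapOf A)) B (ofPshMap (pshMapOf B)) (BasedFunctor.id _) (BasedFunctor.id _)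
      (isoOfPshMap A) (isoOfPshMap B)
  have hM : IsEquivOver M := fpMap_isEquivOver _ _ _ _ _ _ _ _ (isEquivOver_id' _) (isEquivOver_id' _)
  exact isPullback_of_isEquivOver (BasedFunctor.comp Ξ M) (isEquivOver_comp _ _ hΞ hM)

end General

variable {S : Scheme.{u}}

/-- two representing sheaves of the same category are isomorphic compatibly with maps to a sheaf -/
theorem change_rep' {𝒜 : AlgSt.Cat S} {B : AlgSp.Sp S} (q : 𝒜 ⥤ᵇ AlgSt.ofSp B) {Z₁ Z₂ : AlgSp.Sp S}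
    (e₁ : AlgSt.ofSp Z₁ ⥤ᵇ 𝒜) (e₂ : AlgSt.ofSp Z₂ ⥤ᵇ 𝒜) (he₁ : IsEquivOver e₁) (he₂ : IsEquivOver e₂) :
    ∃ j : Z₁ ≅ Z₂, (ObjectProperty.homMk (pshMapOf (BasedFunctor.comp e₁ q)) : Z₁ ⟶ B) =
      j.hom ≫ (ObjectProperty.homMk (pshMapOf (BasedFunctor.comp e₂ q)) : Z₂ ⟶ B) := by
  obtain ⟨e₂i, ⟨α⟩, ⟨β⟩⟩ := he₂
  have he₂i : IsEquivOver e₂i := isEquivOver_symm α β
  obtain ⟨i, hi⟩ := exists_iso_of_isEquivOver (BasedFunctor.comp e₁ e₂i) (isEquivOver_comp _ _ he₁ he₂i)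
  let j : Z₁ ≅ Z₂ := (fullyFaithfulSheafToPresheaf (AlgSp.J S) _).preimageIso (X := Z₁) (Y := Z₂) i
  refine ⟨j, ?_⟩
  apply ObjectProperty.hom_ext
  change _ = i.hom ≫ pshMapOf (BasedFunctor.comp e₂ q)
  rw [hi]
  refine Eq.trans ?_ (pshMapOf_comp (P := Z₁.obj) (Q := Z₂.obj) (BasedFunctor.comp e₁ e₂i)
    (BasedFunctor.comp e₂ q))
  apply pshMapOf_congr
  have i2 : BasedFunctor.comp (BasedFunctor.comp e₁ (BasedFunctor.comp e₂i e₂)) q ≅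
      BasedFunctor.comp (BasedFunctor.comp e₁ (BasedFunctor.id _)) q :=
    Groth.Agent.Lib.helper4.AlgStRep.whiskerRightIso (whiskerLeftIso e₁ β) _
  exact i2.symm

/-- **Representability from representing data over an algebraic space** -/
theorem repByAlgSpWith_of_repData' {𝒜 : AlgSt.Cat S} (P : MorphismProperty (AlgSp.Sp S))
    (hPb : ∀ ⦃X₁ Y₁ X₂ Y₂ : AlgSp.Sp S⦄, AlgSp.IsAlgSpace X₁ → AlgSp.IsAlgSpace Y₁ → AlgSp.IsAlgSpace X₂ →
      AlgSp.IsAlgSpace Y₂ → ∀ (a : X₁ ⟶ Y₁) (b : Y₂ ⟶ Y₁) (a' : X₂ ⟶ Y₂) (b' : X₂ ⟶ X₁),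
      IsPullback b' a' a b → P a → P a')
    (B : AlgSp.Space S) (g : 𝒜 ⥤ᵇ AlgSt.ofSp B.obj) (W₀ : AlgSp.Space S) (e₀ : AlgSt.ofSp W₀.obj ⥤ᵇ 𝒜)
    (he₀ : IsEquivOver e₀)
    (hP₀ : P (ObjectProperty.homMk (pshMapOf (BasedFunctor.comp e₀ g)) : W₀.obj ⟶ B.obj)) :
    AlgSt.RepByAlgSpWith P g := by
  have h1 : AlgSt.RepByAlgSpWith P (AlgSt.ofSpMap
      (ObjectProperty.homMk (pshMapOf (BasedFunctor.comp e₀ g)) : W₀.obj ⟶ B.obj)) :=
    repByAlgSpWith_of_repBySpWith P _ (repBySpWith_of_stable P hPb W₀.property B.property _ hP₀)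
  exact (repByAlgSpWith_iff_of_square P g
    (AlgSt.ofSpMap (ObjectProperty.homMk (pshMapOf (BasedFunctor.comp e₀ g)) : W₀.obj ⟶ B.obj)) e₀
    (BasedFunctor.id _) he₀ (isEquivOver_id' _) (isoOfPshMap (BasedFunctor.comp e₀ g)).symm).2 h1

/-- **Chart change square over an algebraic space.** -/
theorem exists_square' {𝒳 𝒴 𝒵 𝒯 : AlgSt.Cat S} (f : 𝒳 ⥤ᵇ 𝒴) (B : AlgSp.Space S)
    (y : AlgSt.ofSp B.obj ⥤ᵇ 𝒴)
    (X : AlgSp.Space S) (eX : AlgSt.ofSp X.obj ⥤ᵇ fp y f) (heX : IsEquivOver eX)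
    (c : 𝒵 ⥤ᵇ AlgSt.ofSp B.obj) (Z : AlgSp.Space S) (eZ : AlgSt.ofSp Z.obj ⥤ᵇ 𝒵) (heZ : IsEquivOver eZ)
    (E : fp c (fpFst y f) ⥤ᵇ 𝒯) (hE : IsEquivOver E) (π : 𝒯 ⥤ᵇ 𝒵)
    (hπ : BasedFunctor.comp E π ≅ fpFst c (fpFst y f))
    (T : AlgSp.Space S) (eT : AlgSt.ofSp T.obj ⥤ᵇ 𝒯) (heT : IsEquivOver eT)
    (P₀ : AlgSt.ofSp T.obj ⥤ᵇ AlgSt.ofSp Z.obj)
    (hP₀ : BasedFunctor.comp P₀ eZ ≅ BasedFunctor.comp eT π) :
    ∃ q : T.obj ⟶ X.obj,
      IsPullback q (ObjectProperty.homMk (pshMapOf P₀) : T.obj ⟶ Z.obj)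
        (ObjectProperty.homMk (pshMapOf (BasedFunctor.comp eX (fpFst y f))) : X.obj ⟶ B.obj)
        (ObjectProperty.homMk (pshMapOf (BasedFunctor.comp eZ c)) : Z.obj ⟶ B.obj) ∧
      ∀ (t₀ : AlgSt.Points (AlgSt.ofSp T.obj)) (y₀ : AlgSt.Points (fp c (fpFst y f))),
        AlgSt.Points.map E y₀ = AlgSt.Points.map eT t₀ →
        AlgSt.Points.map eX (AlgSt.Points.map (AlgSt.ofSpMap q) t₀) =
          AlgSt.Points.map (fpSnd c (fpFst y f)) y₀ := by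
  let F₁ : fp (BasedFunctor.comp eZ c) (BasedFunctor.comp eX (fpFst y f)) ⥤ᵇ
      fp (BasedFunctor.comp eZ c) (fpFst y f) :=
    fpMap (BasedFunctor.comp eZ c) (BasedFunctor.comp eZ c) (BasedFunctor.comp eX (fpFst y f)) (fpFst y f) eX
      (BasedFunctor.id _) (Iso.refl _) (Iso.refl _)
  have hF₁ : IsEquivOver F₁ := fpMap_isEquivOver _ _ _ _ _ _ _ _ heX (isEquivOver_id' _)
  let G₁ : fp (BasedFunctor.comp eZ c) (fpFst y f) ⥤ᵇ fp c (fpFst y f) := fpPrecomp eZ c (fpFst y f)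
  have hG₁ : IsEquivOver G₁ := fpPrecomp_isEquivOver eZ c (fpFst y f) heZ
  let D : fp (BasedFunctor.comp eZ c) (BasedFunctor.comp eX (fpFst y f)) ⥤ᵇ 𝒯 :=
    BasedFunctor.comp F₁ (BasedFunctor.comp G₁ E)
  have hD : IsEquivOver D := isEquivOver_comp _ _ hF₁ (isEquivOver_comp _ _ hG₁ hE)
  obtain ⟨Di, ⟨α⟩, ⟨β⟩⟩ := hD
  have hDi : IsEquivOver Di := isEquivOver_symm α β
  let Ξ : AlgSt.ofSp T.obj ⥤ᵇ fp (BasedFunctor.comp eZ c) (BasedFunctor.comp eX (fpFst y f)) :=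
    BasedFunctor.comp eT Di
  have hΞ : IsEquivOver Ξ := isEquivOver_comp _ _ heT hDi
  have sq := isPullback_of_isEquivOver_psh (BasedFunctor.comp eZ c) (BasedFunctor.comp eX (fpFst y f)) Ξ hΞ
  have iso₁ : BasedFunctor.comp D π ≅
      BasedFunctor.comp (fpFst (BasedFunctor.comp eZ c) (BasedFunctor.comp eX (fpFst y f))) eZ :=
    whiskerLeftIso (BasedFunctor.comp F₁ G₁) hπ
  have iso₂ : BasedFunctor.comp (BasedFunctor.comp Ξ
      (fpFst (BasedFunctor.comp eZ c) (BasedFunctor.comp eX (fpFst y f)))) eZ ≅ BasedFunctor.comp P₀ eZ :=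
    whiskerLeftIso Ξ iso₁.symm ≪≫ whiskerLeftIso eT (whiskerRightIso β π) ≪≫ hP₀.symm
  obtain ⟨iso₃⟩ := iso_of_comp_equiv _ _ eZ heZ iso₂
  have hfst : pshMapOf (BasedFunctor.comp Ξ
      (fpFst (BasedFunctor.comp eZ c) (BasedFunctor.comp eX (fpFst y f)))) = pshMapOf P₀ :=
    pshMapOf_congr iso₃
  rw [hfst] at sq
  let q : T.obj ⟶ X.obj := ObjectProperty.homMk (pshMapOf (BasedFunctor.comp Ξ
      (fpSnd (BasedFunctor.comp eZ c) (BasedFunctor.comp eX (fpFst y f)))))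
  refine ⟨q, ?_, ?_⟩
  · apply IsPullback.of_map_of_faithful (sheafToPresheaf (AlgSp.J S) (Type (u + 1)))
    exact sq.flip
  · intro t₀ y₀ h
    have hq : AlgSt.ofSpMap q ≅ BasedFunctor.comp Ξ
        (fpSnd (BasedFunctor.comp eZ c) (BasedFunctor.comp eX (fpFst y f))) :=
      (isoOfPshMap _).symm
    rw [map_congr_iso hq, ← PointsBasic.map_comp]
    have e1 : BasedFunctor.comp (BasedFunctor.comp Ξ
        (fpSnd (BasedFunctor.comp eZ c) (BasedFunctor.comp eX (fpFst y f)))) eX =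
        BasedFunctor.comp (BasedFunctor.comp Ξ (BasedFunctor.comp F₁ G₁)) (fpSnd c (fpFst y f)) := rfl
    rw [e1, PointsBasic.map_comp]
    congr 1
    apply (map_bijective_of_isEquivOver E hE).1
    rw [← PointsBasic.map_comp, h]
    have i4 : BasedFunctor.comp (BasedFunctor.comp Ξ (BasedFunctor.comp F₁ G₁)) E ≅ eT :=
      whiskerLeftIso eT β
    exact map_congr_iso i4 t₀

/-- **The groupoid of a chart from an algebraic space.** -/
theorem exists_groupoid_squares' {𝒳 𝒴 : AlgSt.Cat S} (h𝒳 : IsFibGrpd 𝒳.p) (h𝒴 : IsFibGrpd 𝒴.p) (f : 𝒳 ⥤ᵇ 𝒴)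
    (B : AlgSp.Space S) (v : AlgSt.ofSp B.obj ⥤ᵇ 𝒴)
    (X : AlgSp.Space S) (eX : AlgSt.ofSp X.obj ⥤ᵇ fp v f) (heX : IsEquivOver eX)
    (Z : AlgSp.Space S) (eZ : AlgSt.ofSp Z.obj ⥤ᵇ fp v v) (heZ : IsEquivOver eZ)
    (T : AlgSp.Space S)
    (eT' : AlgSt.ofSp T.obj ⥤ᵇ fp (BasedFunctor.comp eZ (BasedFunctor.comp (fpFst v v) v)) f)
    (heT' : IsEquivOver eT') :
    ∃ q₁ q₂ : T.obj ⟶ X.obj,
      IsPullback q₁ (ObjectProperty.homMk (pshMapOf (BasedFunctor.comp eT'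
          (fpFst (BasedFunctor.comp eZ (BasedFunctor.comp (fpFst v v) v)) f))) : T.obj ⟶ Z.obj)
        (ObjectProperty.homMk (pshMapOf (BasedFunctor.comp eX (fpFst v f))) : X.obj ⟶ B.obj)
        (ObjectProperty.homMk (pshMapOf (BasedFunctor.comp eZ (fpFst v v))) : Z.obj ⟶ B.obj) ∧
      IsPullback q₂ (ObjectProperty.homMk (pshMapOf (BasedFunctor.comp eT'
          (fpFst (BasedFunctor.comp eZ (BasedFunctor.comp (fpFst v v) v)) f))) : T.obj ⟶ Z.obj)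
        (ObjectProperty.homMk (pshMapOf (BasedFunctor.comp eX (fpFst v f))) : X.obj ⟶ B.obj)
        (ObjectProperty.homMk (pshMapOf (BasedFunctor.comp eZ (fpSnd v v))) : Z.obj ⟶ B.obj) ∧
      ∀ x x' : AlgSt.Points (AlgSt.ofSp X.obj),
        AlgSt.Points.map (BasedFunctor.comp eX (fpSnd v f)) x =
          AlgSt.Points.map (BasedFunctor.comp eX (fpSnd v f)) x' →
        ∃ t₀ : AlgSt.Points (AlgSt.ofSp T.obj),
          AlgSt.Points.map (AlgSt.ofSpMap q₁) t₀ = x ∧ AlgSt.Points.map (AlgSt.ofSpMap q₂) t₀ = x' := by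
  have hBf : IsFibGrpd (AlgSt.ofSp B.obj).p := isFibGrpd_ofPsh _
  have hfp : IsFibGrpd (fp v f).p := isFibGrpd_fp v f hBf h𝒳 h𝒴
  let eT : AlgSt.ofSp T.obj ⥤ᵇ fp (BasedFunctor.comp (fpFst v v) v) f :=
    BasedFunctor.comp eT' (fpPrecomp eZ (BasedFunctor.comp (fpFst v v) v) f)
  have heT : IsEquivOver eT := isEquivOver_comp _ _ heT' (fpPrecomp_isEquivOver eZ _ f heZ)
  let P₀ : AlgSt.ofSp T.obj ⥤ᵇ AlgSt.ofSp Z.obj := BasedFunctor.comp eT'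
    (fpFst (BasedFunctor.comp eZ (BasedFunctor.comp (fpFst v v) v)) f)
  obtain ⟨q₁, sq₁, hq₁⟩ := exists_square' f B v X eX heX (fpFst v v) Z eZ heZ (E₁ f v (fpFst v v))
    (E₁_isEquivOver f v (fpFst v v)) (fpFst (BasedFunctor.comp (fpFst v v) v) f) (Iso.refl _) T eT heT P₀
    (Iso.refl _)
  obtain ⟨q₂, sq₂, hq₂⟩ := exists_square' f B v X eX heX (fpSnd v v) Z eZ heZ
    (E₂ f v (fpFst v v) (fpSnd v v) (fpIso v v))
    (E₂_isEquivOver f v (fpFst v v) (fpSnd v v) (fpIso v v)) (fpFst (BasedFunctor.comp (fpFst v v) v) f)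
    (Iso.refl _) T eT heT P₀ (Iso.refl _)
  refine ⟨q₁, q₂, sq₁, sq₂, ?_⟩
  intro x x' hxx'
  rw [PointsBasic.map_comp, PointsBasic.map_comp] at hxx'
  obtain ⟨r, hr₁, hr₂⟩ := Groth.Agent.Lib.helper4.AlgStPts.exists_points_fp hfp h𝒳 hfp (fpSnd v f) (fpSnd v f)
    (AlgSt.Points.map eX x) (AlgSt.Points.map eX x') hxx'
  obtain ⟨t₀, ht₀⟩ := (map_bijective_of_isEquivOver eT heT).2
    (AlgSt.Points.map (BasedFunctor.comp (grpdΦ₁ f v) (E₁ f v (fpFst v v))) r)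
  refine ⟨t₀, ?_, ?_⟩
  · apply (map_bijective_of_isEquivOver eX heX).1
    rw [hq₁ t₀ (AlgSt.Points.map (grpdΦ₁ f v) r) (by rw [ht₀, PointsBasic.map_comp]),
      ← PointsBasic.map_comp, grpdΦ₁_snd]
    exact hr₁
  · apply (map_bijective_of_isEquivOver eX heX).1
    rw [hq₂ t₀ (AlgSt.Points.map (grpdΦ₂ f v) r) (by
      rw [ht₀, ← PointsBasic.map_comp]; exact (map_congr_iso (grpdIso f v) r).symm),
      ← PointsBasic.map_comp, grpdΦ₂_snd]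
    exact hr₂

/-- **Restriction of a chart from an algebraic space to an open substack.** -/
theorem exists_rep_restrict' {𝒳 𝒳₁ 𝒴 : AlgSt.Cat S} (h𝒳 : IsFibGrpd 𝒳.p) (h𝒳₁ : IsFibGrpd 𝒳₁.p)
    (f : 𝒳 ⥤ᵇ 𝒴) (B : AlgSp.Space S) (v : AlgSt.ofSp B.obj ⥤ᵇ 𝒴)
    (X : AlgSp.Space S) (eX : AlgSt.ofSp X.obj ⥤ᵇ fp v f) (heX : IsEquivOver eX)
    (ι₁ : 𝒳₁ ⥤ᵇ 𝒳) (hι₁ : AlgSt.IsOpenImm ι₁) :
    ∃ (W₁ : AlgSp.Space S) (w₁ : W₁ ⟶ X) (e₁ : AlgSt.ofSp W₁.obj ⥤ᵇ fp v (BasedFunctor.comp ι₁ f)),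
      AlgSp.RepWith @IsOpenImmersion w₁.hom ∧ IsEquivOver e₁ ∧
      (ObjectProperty.homMk (pshMapOf (BasedFunctor.comp e₁ (fpFst v (BasedFunctor.comp ι₁ f)))) :
          W₁.obj ⟶ B.obj) =
        w₁.hom ≫ (ObjectProperty.homMk (pshMapOf (BasedFunctor.comp eX (fpFst v f))) : X.obj ⟶ B.obj) ∧
      ∀ x : AlgSt.Points (AlgSt.ofSp X.obj), x ∈ Set.range (AlgSt.Points.map (AlgSt.ofSpMap w₁.hom)) ↔
        AlgSt.Points.map (BasedFunctor.comp eX (fpSnd v f)) x ∈ Set.range (AlgSt.Points.map ι₁) := by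
  have hXf : IsFibGrpd (AlgSt.ofSp X.obj).p := isFibGrpd_ofPsh _
  obtain ⟨H, eH, heH, hoi⟩ := coreA h𝒳₁ h𝒳 (AlgSp.RepWith @IsOpenImmersion)
    (isoInv_of_baseChange _ (fun X₁ Y₁ X₂ Y₂ _ _ _ _ a b a' b' sq ha =>
      (MorphismProperty.relative_isStableUnderBaseChange _).of_isPullback sq ha))
    (isLocalOnBase_fppf_of_fpqc (Groth.Agent.S10531.result S)) ι₁ hι₁ X (BasedFunctor.comp eX (fpSnd v f))
  let w₁ : H ⟶ X := ObjectProperty.homMk (ObjectProperty.homMk (pshMapOf (BasedFunctor.comp eH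
    (fpFst (BasedFunctor.comp eX (fpSnd v f)) ι₁))))
  let e₁ : AlgSt.ofSp H.obj ⥤ᵇ fp v (BasedFunctor.comp ι₁ f) :=
    BasedFunctor.comp eH (BasedFunctor.comp (fpPrecomp eX (fpSnd v f) ι₁) (pasteR v f ι₁))
  have he₁ : IsEquivOver e₁ := isEquivOver_comp _ _ heH
    (isEquivOver_comp _ _ (fpPrecomp_isEquivOver eX (fpSnd v f) ι₁ heX) (pasteR_isEquivOver v f ι₁))
  have hw₁ : AlgSt.ofSpMap w₁.hom ≅ BasedFunctor.comp eH (fpFst (BasedFunctor.comp eX (fpSnd v f)) ι₁) :=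
    (isoOfPshMap _).symm
  refine ⟨H, w₁, e₁, hoi, he₁, ?_, ?_⟩
  · have e2 : BasedFunctor.comp e₁ (fpFst v (BasedFunctor.comp ι₁ f)) =
        BasedFunctor.comp (BasedFunctor.comp eH (fpFst (BasedFunctor.comp eX (fpSnd v f)) ι₁))
          (BasedFunctor.comp eX (fpFst v f)) := rfl
    rw [e2]
    apply ObjectProperty.hom_ext
    exact pshMapOf_comp (P := H.obj.obj) (Q := X.obj.obj) _ _
  · intro x
    constructor
    · rintro ⟨h, rfl⟩
      rw [map_congr_iso hw₁, ← PointsBasic.map_comp]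
      have i1 : BasedFunctor.comp (BasedFunctor.comp eH (fpFst (BasedFunctor.comp eX (fpSnd v f)) ι₁))
          (BasedFunctor.comp eX (fpSnd v f)) ≅
          BasedFunctor.comp (BasedFunctor.comp eH (fpSnd (BasedFunctor.comp eX (fpSnd v f)) ι₁)) ι₁ :=
        whiskerLeftIso eH (fpIso (BasedFunctor.comp eX (fpSnd v f)) ι₁)
      rw [map_congr_iso i1, PointsBasic.map_comp]
      exact ⟨_, rfl⟩
    · rintro ⟨u, hu⟩
      obtain ⟨w, hw, -⟩ := Groth.Agent.Lib.helper4.AlgStPts.exists_points_fp h𝒳₁ h𝒳 hXf ι₁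
        (BasedFunctor.comp eX (fpSnd v f)) x u hu.symm
      obtain ⟨h, rfl⟩ := (map_bijective_of_isEquivOver eH heH).2 w
      refine ⟨h, ?_⟩
      rw [map_congr_iso hw₁, PointsBasic.map_comp]
      exact hw

section Main

variable {𝒳 𝒴 : AlgSt.Cat S}

/-- **The largest open substack on which a representable morphism has `P`**, constructed from a smooth atlas of the
target: the largest open subspace `W` of the representing space `X` of `(Sch/V) ×_𝒴 𝒳` descends to an open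
substack `Q₀` of `𝒳`, which is the largest one on which `f` has `P`; the points of `W` are those of `X` mapping
into `Q₀`. -/
theorem exists_largest_of_atlas'
    (h𝒳 : AlgSt.IsAlgStack Scheme.fppfPrecoverage 𝒳) (h𝒴 : AlgSt.IsAlgStack Scheme.fppfPrecoverage 𝒴)
    (P Q R : MorphismProperty (AlgSp.Sp S))
    (hPb : ∀ ⦃X₁ Y₁ X₂ Y₂ : AlgSp.Sp S⦄, AlgSp.IsAlgSpace X₁ → AlgSp.IsAlgSpace Y₁ → AlgSp.IsAlgSpace X₂ →
      AlgSp.IsAlgSpace Y₂ → ∀ (a : X₁ ⟶ Y₁) (b : Y₂ ⟶ Y₁) (a' : X₂ ⟶ Y₂) (b' : X₂ ⟶ X₁),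
      IsPullback b' a' a b → P a → P a')
    (hQb : ∀ ⦃X₁ Y₁ X₂ Y₂ : AlgSp.Sp S⦄, AlgSp.IsAlgSpace X₁ → AlgSp.IsAlgSpace Y₁ → AlgSp.IsAlgSpace X₂ →
      AlgSp.IsAlgSpace Y₂ → ∀ (a : X₁ ⟶ Y₁) (b : Y₂ ⟶ Y₁) (a' : X₂ ⟶ Y₂) (b' : X₂ ⟶ X₁),
      IsPullback b' a' a b → Q a → Q a')
    (hP : AlgSp.IsLocalOnBase AlgSp.IsFppfCover P) (hQ : AlgSp.IsLocalOnBase AlgSp.IsFppfCover Q)
    (h₂ : ∀ (X Y : AlgSp.Space S) (g : X ⟶ Y), AlgSp.LocP @Smooth g.hom → R g.hom)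
    (h₄ : ∀ (X Y X' Y' : AlgSp.Space S) (f : X ⟶ Y) (g : Y' ⟶ Y) (f' : X' ⟶ Y') (g' : X' ⟶ X),
      IsPullback g'.hom f'.hom f.hom g.hom → Q f.hom → R g.hom →
      ∀ (W : AlgSp.Space S) (w : W ⟶ X), (AlgSp.RepWith @IsOpenImmersion w.hom ∧ P (w ≫ f).hom ∧
          ∀ (W₁ : AlgSp.Space S) (w₁ : W₁ ⟶ X), AlgSp.RepWith @IsOpenImmersion w₁.hom → P (w₁ ≫ f).hom →
            ∃ k : W₁ ⟶ W, k ≫ w = w₁) →
        ∀ (W' : AlgSp.Space S) (w' : W' ⟶ X') (k : W' ⟶ W), IsPullback k.hom w'.hom w.hom g'.hom →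
          (AlgSp.RepWith @IsOpenImmersion w'.hom ∧ P (w' ≫ f').hom ∧
          ∀ (W₁ : AlgSp.Space S) (w₁ : W₁ ⟶ X'), AlgSp.RepWith @IsOpenImmersion w₁.hom → P (w₁ ≫ f').hom →
            ∃ k : W₁ ⟶ W', k ≫ w' = w₁))
    (f : 𝒳 ⥤ᵇ 𝒴) (hf : AlgSt.RepByAlgSpWith Q f)
    (B : AlgSp.Space S) (v : AlgSt.ofSp B.obj ⥤ᵇ 𝒴) (hv : AlgSt.RepByAlgSpWith (AlgSp.LocP @Smooth) v)
    (hvs : AlgSt.RepByAlgSpWith AlgSp.IsSurjectiveMor v)
    (X : AlgSp.Space S) (eX : AlgSt.ofSp X.obj ⥤ᵇ fp v f) (heX : IsEquivOver eX)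
    (hQX : Q (ObjectProperty.homMk (pshMapOf (BasedFunctor.comp eX (fpFst v f))) : X.obj ⟶ B.obj))
    (W : AlgSp.Space S) (w : W ⟶ X)
    (hW : AlgSp.RepWith @IsOpenImmersion w.hom ∧
      P (w ≫ (ObjectProperty.homMk (ObjectProperty.homMk (pshMapOf (BasedFunctor.comp eX (fpFst v f)))) :
        X ⟶ B)).hom ∧
      ∀ (W₁ : AlgSp.Space S) (w₁ : W₁ ⟶ X), AlgSp.RepWith @IsOpenImmersion w₁.hom →
        P (w₁ ≫ (ObjectProperty.homMk (ObjectProperty.homMk (pshMapOf (BasedFunctor.comp eX (fpFst v f)))) :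
          X ⟶ B)).hom →
        ∃ k : W₁ ⟶ W, k ≫ w = w₁) :
    ∃ Q₀ : 𝒳.obj → Prop, AlgSt.IsOpenSubstack 𝒳 Q₀ Scheme.fppfPrecoverage ∧
      AlgSt.RepByAlgSpWith P (BasedFunctor.comp (AlgSt.subIncl 𝒳 Q₀) f) ∧
      (∀ Q₁ : 𝒳.obj → Prop, AlgSt.IsOpenSubstack 𝒳 Q₁ Scheme.fppfPrecoverage →
        AlgSt.RepByAlgSpWith P (BasedFunctor.comp (AlgSt.subIncl 𝒳 Q₁) f) → ∀ y, Q₁ y → Q₀ y) ∧
      ∀ x : AlgSt.Points (AlgSt.ofSp X.obj), x ∈ Set.range (AlgSt.Points.map (AlgSt.ofSpMap w.hom)) ↔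
        AlgSt.Points.map (BasedFunctor.comp eX (fpSnd v f)) x ∈
          Set.range (AlgSt.Points.map (AlgSt.subIncl 𝒳 Q₀)) := by
  have hX := h𝒳.isStack.1
  have hY := h𝒴.isStack.1
  have hVf : IsFibGrpd (AlgSt.ofSp B.obj).p := isFibGrpd_ofPsh _
  have hXf : IsFibGrpd (AlgSt.ofSp X.obj).p := isFibGrpd_ofPsh _
  have hWf : IsFibGrpd (AlgSt.ofSp W.obj).p := isFibGrpd_ofPsh _
  obtain ⟨hwoi, hwP, hwmax⟩ := hW
  let Yv : AlgSp.Space S := B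
  let fX : X ⟶ Yv := ObjectProperty.homMk (ObjectProperty.homMk (pshMapOf (BasedFunctor.comp eX (fpFst v f))))
  have hvflat : AlgSt.RepByAlgSpWith (AlgSp.LocP @Flat) v :=
    Groth.Agent.Lib.helper4.AlgStCancel.repByAlgSpWith_mono v
      (fun F T π hπ => Groth.Agent.S10265.locP_mono
        (fun X Y f hf => by have : Smooth f := hf; exact inferInstanceAs (Flat f)) hπ) hv
  have hvlfp : AlgSt.RepByAlgSpWith (AlgSp.LocP @LocallyOfFinitePresentation) v :=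
    Groth.Agent.Lib.helper4.AlgStCancel.repByAlgSpWith_mono v
      (fun F T π hπ => Groth.Agent.S10265.locP_mono
        (fun X Y f hf => by have : Smooth f := hf; exact inferInstanceAs (LocallyOfFinitePresentation f)) hπ) hv
  have ha : AlgSt.RepByAlgSpWith (AlgSp.LocP @Smooth) (BasedFunctor.comp eX (fpSnd v f)) :=
    (repByAlgSpWith_precomp_iff _ (fpSnd v f) eX heX).1 (repByAlgSpWith_fpSnd hX hY hVf _ v f hv)
  have has : AlgSt.RepByAlgSpWith AlgSp.IsSurjectiveMor (BasedFunctor.comp eX (fpSnd v f)) :=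
    (repByAlgSpWith_precomp_iff _ (fpSnd v f) eX heX).1 (repByAlgSpWith_fpSnd hX hY hVf _ v f hvs)
  -- the groupoid of the atlas
  obtain ⟨Z, eZ, heZ, hc₁⟩ := coreA hVf hY (AlgSp.LocP @Smooth)
    (isoInv_of_baseChange _ (fun X₁ Y₁ X₂ Y₂ h1 h2 _ h4 a b a' b' sq ha =>
      Groth.Agent.Lib.helper5.LocPBC.locP_of_isPullback Groth.Agent.Lib.helper5.LocPBC.locPData_smooth h1 h2 h4 sq ha))
    (isLocalOnBase_fppf_of_fpqc (Groth.Agent.S10542.result S)) v hv B v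
  have hc₂ : AlgSp.LocP @Smooth (ObjectProperty.homMk (pshMapOf (BasedFunctor.comp eZ (fpSnd v v))) :
      Z.obj ⟶ B.obj) := by
    obtain ⟨j, hj⟩ := change_rep' (fpFst v v) (BasedFunctor.comp eZ (fpSwap v v)) eZ
      (isEquivOver_comp _ _ heZ (fpSwap_isEquivOver v v)) heZ
    have h1 : (ObjectProperty.homMk (pshMapOf (BasedFunctor.comp eZ (fpSnd v v))) : Z.obj ⟶ B.obj) =
        j.hom ≫ (ObjectProperty.homMk (pshMapOf (BasedFunctor.comp eZ (fpFst v v))) : Z.obj ⟶ B.obj) := hj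
    rw [h1]
    exact locP_iso_comp j _ hc₁
  obtain ⟨T, eT', heT', -⟩ := coreA hX hY Q (isoInv_of_baseChange Q hQb) hQ f hf Z
    (BasedFunctor.comp eZ (BasedFunctor.comp (fpFst v v) v))
  obtain ⟨q₁, q₂, sq₁, sq₂, hpts⟩ := exists_groupoid_squares' hX hY f B v X eX heX Z eZ heZ T eT' heT'
  let c₁' : Z ⟶ Yv := ObjectProperty.homMk (ObjectProperty.homMk (pshMapOf (BasedFunctor.comp eZ (fpFst v v))))
  let c₂' : Z ⟶ Yv := ObjectProperty.homMk (ObjectProperty.homMk (pshMapOf (BasedFunctor.comp eZ (fpSnd v v))))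
  let p' : T ⟶ Z := ObjectProperty.homMk (ObjectProperty.homMk (pshMapOf (BasedFunctor.comp eT'
    (fpFst (BasedFunctor.comp eZ (BasedFunctor.comp (fpFst v v) v)) f))))
  let q₁' : T ⟶ X := ObjectProperty.homMk q₁
  let q₂' : T ⟶ X := ObjectProperty.homMk q₂
  have hR₁ : R c₁'.hom := h₂ Z Yv c₁' hc₁
  have hR₂ : R c₂'.hom := h₂ Z Yv c₂' hc₂
  -- the two inverse images of `W`
  have sqW₁ : IsPullback (pullback.fst w.hom q₁) (pullback.snd w.hom q₁) w.hom q₁ :=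
    IsPullback.of_hasPullback _ _
  have sqW₂ : IsPullback (pullback.fst w.hom q₂) (pullback.snd w.hom q₂) w.hom q₂ :=
    IsPullback.of_hasPullback _ _
  have hW₁ : AlgSp.IsAlgSpace (pullback w.hom q₁) :=
    Groth.Agent.Lib.helper5.isAlgSpace_of_isPullback X.property.diag W.property T.property sqW₁
  have hW₂ : AlgSp.IsAlgSpace (pullback w.hom q₂) :=
    Groth.Agent.Lib.helper5.isAlgSpace_of_isPullback X.property.diag W.property T.property sqW₂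
  let W₁' : AlgSp.Space S := ⟨pullback w.hom q₁, hW₁⟩
  let W₂' : AlgSp.Space S := ⟨pullback w.hom q₂, hW₂⟩
  let w₁' : W₁' ⟶ T := ObjectProperty.homMk (pullback.snd w.hom q₁)
  let w₂' : W₂' ⟶ T := ObjectProperty.homMk (pullback.snd w.hom q₂)
  have L₁ := h₄ X Yv T Z fX c₁' p' q₁' sq₁ hQX hR₁ W w ⟨hwoi, hwP, hwmax⟩ W₁' w₁'
    (ObjectProperty.homMk (pullback.fst w.hom q₁)) sqW₁
  have L₂ := h₄ X Yv T Z fX c₂' p' q₂' sq₂ hQX hR₂ W w ⟨hwoi, hwP, hwmax⟩ W₂' w₂'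
    (ObjectProperty.homMk (pullback.fst w.hom q₂)) sqW₂
  obtain ⟨k₁₂, hk₁₂⟩ := L₁.2.2 W₂' w₂' L₂.1 L₂.2.1
  obtain ⟨k₂₁, hk₂₁⟩ := L₂.2.2 W₁' w₁' L₁.1 L₁.2.1
  have hrange : Set.range (AlgSp.Points.map (pullback.snd w.hom q₁)) =
      Set.range (AlgSp.Points.map (pullback.snd w.hom q₂)) := by
    apply Set.Subset.antisymm
    · rintro _ ⟨z, rfl⟩
      refine ⟨AlgSp.Points.map k₂₁.hom z, ?_⟩
      rw [← AlgSp.Points.map_comp]
      exact congrArg (fun m => AlgSp.Points.map m z) (congrArg (fun m : W₁' ⟶ T => m.hom) hk₂₁)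
    · rintro _ ⟨z, rfl⟩
      refine ⟨AlgSp.Points.map k₁₂.hom z, ?_⟩
      rw [← AlgSp.Points.map_comp]
      exact congrArg (fun m => AlgSp.Points.map m z) (congrArg (fun m : W₂' ⟶ T => m.hom) hk₁₂)
  -- saturation
  have hsat : ∀ x x' : AlgSt.Points (AlgSt.ofSp X.obj),
      AlgSt.Points.map (BasedFunctor.comp eX (fpSnd v f)) x =
        AlgSt.Points.map (BasedFunctor.comp eX (fpSnd v f)) x' →
      x' ∈ Set.range (AlgSt.Points.map (AlgSt.ofSpMap w.hom)) →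
      x ∈ Set.range (AlgSt.Points.map (AlgSt.ofSpMap w.hom)) := by
    intro x x' hxx' hx'
    obtain ⟨t₀, ht₁, ht₂⟩ := hpts x x' hxx'
    rw [mem_range_ofSpMap_iff] at hx' ⊢
    rw [← ht₂, ptsEquiv_map] at hx'
    rw [← ht₁, ptsEquiv_map]
    have r₁ := Groth.Agent.H1.QGlue.range_fst_of_isPullback sqW₁.flip
    have r₂ := Groth.Agent.H1.QGlue.range_fst_of_isPullback sqW₂.flip
    have h3 : ptsEquiv T.obj t₀ ∈ AlgSp.Points.map q₂ ⁻¹' Set.range (AlgSp.Points.map w.hom) := hx'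
    rw [← r₂, ← hrange, r₁] at h3
    exact h3
  -- the open substack
  have hwsm : AlgSt.RepByAlgSpWith (AlgSp.LocP @Smooth) (AlgSt.ofSpMap w.hom) :=
    smooth_ofSpMap W.property X.property w.hom
      (Groth.Agent.S10265.locP_mono (fun X Y f hf => by have : Etale f := hf; exact inferInstanceAs (Smooth f))
        (Groth.Agent.S10265.locP_etale_of_isEtaleMor w.hom
          (Groth.Agent.Lib.helper5.LargestOpen.isEtaleMor_of_oi w.hom hwoi)))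
  have hcomp : AlgSt.RepByAlgSpWith (AlgSp.LocP @Smooth)
      (BasedFunctor.comp (AlgSt.ofSpMap w.hom) (BasedFunctor.comp eX (fpSnd v f))) :=
    smooth_comp hWf hXf hX _ _ hwsm ha
  obtain ⟨T₀, g₀, hT₀open, hT₀eq, -, -, -⟩ := exists_image_of_smooth h𝒳 W
    (BasedFunctor.comp (AlgSt.ofSpMap w.hom) (BasedFunctor.comp eX (fpSnd v f))) hcomp
  have hQ₀ := isOpenSubstack_QT h𝒳 T₀ hT₀open
  have hkey : ∀ x : AlgSt.Points (AlgSt.ofSp X.obj),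
      x ∈ Set.range (AlgSt.Points.map (AlgSt.ofSpMap w.hom)) ↔
        AlgSt.Points.map (BasedFunctor.comp eX (fpSnd v f)) x ∈
          Set.range (AlgSt.Points.map (AlgSt.subIncl 𝒳 (QT T₀))) := by
    intro x
    rw [range_subIncl_QT, hT₀eq]
    constructor
    · rintro ⟨u, rfl⟩
      exact ⟨u, map_comp _ _ u⟩
    · rintro ⟨u, hu⟩
      rw [map_comp] at hu
      exact hsat x _ hu.symm ⟨u, rfl⟩
  refine ⟨QT T₀, hQ₀, ?_, ?_, hkey⟩
  · -- `P` on the open substack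
    have hsubf : IsFibGrpd (AlgSt.fullSub 𝒳 (QT T₀)).p := hQ₀.2.1.isStack.1
    obtain ⟨W₀, w₀, e₀, hoi₀, he₀, hsp₀, hpts₀⟩ :=
      exists_rep_restrict' hX hsubf f B v X eX heX (AlgSt.subIncl 𝒳 (QT T₀)) hQ₀.2.2
    have hr : Set.range (AlgSp.Points.map w₀.hom) = Set.range (AlgSp.Points.map w.hom) := by
      ext x
      have h1 := mem_range_ofSpMap_iff w₀.hom ((ptsEquiv X.obj).symm x)
      have h2 := mem_range_ofSpMap_iff w.hom ((ptsEquiv X.obj).symm x)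
      rw [Equiv.apply_symm_apply] at h1 h2
      rw [← h1, ← h2, hpts₀, hkey]
    obtain ⟨φ, hφiso, hφ⟩ := Groth.Agent.H1.QGlue.exists_iso_of_range_eq w₀.hom w.hom hoi₀ hwoi hr
    have hP₀ : P (ObjectProperty.homMk (pshMapOf (BasedFunctor.comp e₀
        (fpFst v (BasedFunctor.comp (AlgSt.subIncl 𝒳 (QT T₀)) f)))) : W₀.obj ⟶ B.obj) := by
      rw [hsp₀, ← hφ, Category.assoc]
      haveI := hφiso
      exact hPb W.property B.property W₀.property B.property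
        (w.hom ≫ fX.hom) (𝟙 _) _ φ (IsPullback.of_horiz_isIso ⟨by rw [Category.comp_id]; rfl⟩) hwP
    have h' : AlgSt.RepByAlgSpWith P (fpFst v (BasedFunctor.comp (AlgSt.subIncl 𝒳 (QT T₀)) f)) :=
      repByAlgSpWith_of_repData' P hPb B _ W₀ e₀ he₀ hP₀
    have hrep : AlgSt.RepByAlgSp1 (BasedFunctor.comp (AlgSt.subIncl 𝒳 (QT T₀)) f) :=
      repByAlgSp1_comp hsubf hX hY _ _ (repByAlgSp1_of_repByAlgSpWith hQ₀.2.2)
        (repByAlgSp1_of_repByAlgSpWith hf)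
    exact descent hsubf hY hVf P hPb hP _ hrep v hvflat hvlfp hvs h'
  · -- maximality
    intro Q₁ hQ₁ hP₁
    rw [le_iff_range_subset h𝒳 Q₁ (QT T₀) hQ₁ hQ₀]
    have hsub₁ : IsFibGrpd (AlgSt.fullSub 𝒳 Q₁).p := hQ₁.2.1.isStack.1
    obtain ⟨W₁, w₁, e₁, hoi₁, he₁, hsp₁, hpts₁⟩ :=
      exists_rep_restrict' hX hsub₁ f B v X eX heX (AlgSt.subIncl 𝒳 Q₁) hQ₁.2.2
    obtain ⟨F, e, he, hPF⟩ := coreA hsub₁ hY P (isoInv_of_baseChange P hPb) hP _ hP₁ B v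
    obtain ⟨j, hj⟩ := change_rep' (fpFst v (BasedFunctor.comp (AlgSt.subIncl 𝒳 Q₁) f)) e₁ e he₁ he
    have hPw₁ : P (w₁ ≫ fX).hom := by
      change P (w₁.hom ≫ (ObjectProperty.homMk (pshMapOf (BasedFunctor.comp eX (fpFst v f))) : X.obj ⟶ B.obj))
      rw [← hsp₁, hj]
      exact hPb F.property B.property W₁.property B.property
        _ (𝟙 _) _ j.hom (IsPullback.of_horiz_isIso ⟨by simp⟩) hPF
    obtain ⟨k, hk⟩ := hwmax W₁ w₁ hoi₁ hPw₁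
    rintro p ⟨u, rfl⟩
    obtain ⟨x, hx⟩ := isSurjective_of_repByAlgSpWith hX (BasedFunctor.comp eX (fpSnd v f)) has
      (AlgSt.Points.map (AlgSt.subIncl 𝒳 Q₁) u)
    have hx₁ : x ∈ Set.range (AlgSt.Points.map (AlgSt.ofSpMap w₁.hom)) := (hpts₁ x).2 ⟨u, hx.symm⟩
    have hxW : x ∈ Set.range (AlgSt.Points.map (AlgSt.ofSpMap w.hom)) := by
      obtain ⟨z, rfl⟩ := hx₁
      refine ⟨AlgSt.Points.map (AlgSt.ofSpMap k.hom) z, ?_⟩
      rw [← PointsBasic.map_comp]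
      have h5 : BasedFunctor.comp (AlgSt.ofSpMap k.hom) (AlgSt.ofSpMap w.hom) = AlgSt.ofSpMap w₁.hom := by
        rw [← hk]
        rfl
      rw [h5]
    rw [← hx]
    exact (hkey x).1 hxW

end Main

end Groth.Agent.Lib.helper4.AlgStGrpdSqSp
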