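import Groth.Agent.Lib.Helper4.AlgStOpenSub5
import Groth.Agent.S12817
import Groth.Prelude.Def_W4c2isonaturalstkIso
set_option autoImplicit false
set_option backward.isDefEq.respectTransparency false
set_option backward.isDefEq.respectTransparency.types false
set_option linter.unusedSectionVars false
set_option linter.style.haveILetI false
set_option linter.unusedVariables false
open CategoryTheory CategoryTheory.Functor CategoryTheory.Limits Opposite AlgebraicGeometry
universe u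

/-! Open subfunctors of the presheaf of isomorphism classes of an algebraic stack are open substacks. -/

namespace Groth.Agent.Lib.helper4.AlgStIsoNat
open Groth.Agent.FibEquiv Groth.Agent.FibYoneda FibCat Groth.Agent.Lib.helper4.FibPaste
open Groth.Agent.Lib.helper4.AlgStEquiv Groth.Agent.Lib.helper4.AlgStRep
open Groth.Agent.Lib.helper4.AlgStPts Groth.Agent.Lib.helper4.PointsBasic
open Groth.Agent.Lib.helper4.AlgStOpenSub
open Stk AlgSt

variable {S : Scheme.{u}} {𝒴 : AlgSt.Cat S}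

section Open
variable (W : ∀ T : Over S, Set (IsoNat.IsoCl 𝒴 T))

/-- the object predicate of a subfunctor of the presheaf of isomorphism classes -/
def QW (η : 𝒴.obj) : Prop := IsoNat.cls (⟨η, rfl⟩ : 𝒴.p.Fiber (𝒴.p.obj η)) ∈ W (𝒴.p.obj η)

theorem cls_mem_iff {T : Over S} (x : 𝒴.p.Fiber T) : IsoNat.cls x ∈ W T ↔ QW W x.1 := by
  obtain ⟨η, h⟩ := x
  subst h
  exact Iff.rfl

variable (hWpull : ∀ (T' T : Over S) (g : T' ⟶ T) (x' : 𝒴.p.Fiber T') (x : 𝒴.p.Fiber T) (a : x'.1 ⟶ x.1),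
      𝒴.p.IsHomLift g a → IsoNat.cls x ∈ W T → IsoNat.cls x' ∈ W T')
  (hWopen : ∀ (T : Over S) (x : 𝒴.p.Fiber T), ∃ V : T.left.Opens,
      ∀ (T' : Over S) (g : T' ⟶ T) (x' : 𝒴.p.Fiber T') (a : x'.1 ⟶ x.1), 𝒴.p.IsHomLift g a →
        (IsoNat.cls x' ∈ W T' ↔ ∃ g' : T'.left ⟶ ↑V, g' ≫ V.ι = g.left))

include hWpull in
theorem QW_of_hom {a b : 𝒴.obj} (φ : b ⟶ a) (ha : QW W a) : QW W b :=
  hWpull _ _ (𝒴.p.map φ) ⟨b, rfl⟩ ⟨a, rfl⟩ φ inferInstance ha

include hWopen in
/-- the open subscheme attached to an object -/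
theorem exists_opens (a : 𝒴.obj) : ∃ V : (𝒴.p.obj a).left.Opens,
    ∀ (b : 𝒴.obj) (φ : b ⟶ a), QW W b ↔ ∃ g' : (𝒴.p.obj b).left ⟶ ↑V, g' ≫ V.ι = (𝒴.p.map φ).left := by
  obtain ⟨V, hV⟩ := hWopen (𝒴.p.obj a) ⟨a, rfl⟩
  exact ⟨V, fun b φ => hV _ (𝒴.p.map φ) ⟨b, rfl⟩ φ inferInstance⟩

include hWopen in
/-- an object all of whose points satisfy the predicate satisfies it -/
theorem QW_of_forall_mem (a : 𝒴.obj) (V : (𝒴.p.obj a).left.Opens)
    (hV : ∀ (b : 𝒴.obj) (φ : b ⟶ a), QW W b ↔ ∃ g' : (𝒴.p.obj b).left ⟶ ↑V, g' ≫ V.ι = (𝒴.p.map φ).left)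
    (h : ∀ t : ↥(𝒴.p.obj a).left, t ∈ V) : QW W a := by
  rw [hV a (𝟙 a)]
  refine ⟨IsOpenImmersion.lift V.ι (𝟙 _) ?_, ?_⟩
  · rintro t -
    rw [Scheme.Opens.range_ι]
    exact h _
  · rw [IsOpenImmersion.lift_fac, CategoryTheory.Functor.map_id]
    rfl

include hWopen in
/-- ascent of the predicate along morphisms to field-valued points -/
theorem QW_fieldPt (q : FPt 𝒴) {b : 𝒴.obj} (β : b ⟶ q.obj) (hne : Nonempty ↥(𝒴.p.obj b).left)
    (hb : QW W b) : QW W q.obj := by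
  obtain ⟨V, hV⟩ := exists_opens W hWopen q.obj
  obtain ⟨g', hg'⟩ := (hV b β).1 hb
  obtain ⟨b₀⟩ := hne
  haveI : Subsingleton ↥(𝒴.p.obj q.obj).left := by
    rw [q.lies]
    exact (inferInstance : Subsingleton (PrimeSpectrum q.K))
  apply QW_of_forall_mem W hWopen q.obj V hV
  intro t
  have : t = (V.ι (g' b₀) : ↥(𝒴.p.obj q.obj).left) := Subsingleton.elim _ _
  rw [this]
  exact (g' b₀).2

theorem nonempty_fieldPt (p : FPt 𝒴) : Nonempty ↥(𝒴.p.obj p.obj).left := by
  rw [p.lies]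
  exact (inferInstance : Nonempty (PrimeSpectrum p.K))

include hWpull hWopen in
/-- the predicate is invariant under the equivalence of field-valued points -/
theorem QW_rel {p q : FPt 𝒴} (h : FPt.Rel p q) : QW W p.obj ↔ QW W q.obj := by
  obtain ⟨r, α, β, -⟩ := h
  exact ⟨fun hp => QW_fieldPt W hWopen q β (nonempty_fieldPt r) (QW_of_hom W hWpull α hp),
    fun hq => QW_fieldPt W hWopen p α (nonempty_fieldPt r) (QW_of_hom W hWpull β hq)⟩

/-- the set of points of a subfunctor of the presheaf of isomorphism classes -/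
def TW : Set (AlgSt.Points 𝒴) := {z | ∃ p : FPt 𝒴, Points.mk p = z ∧ QW W p.obj}

include hWpull hWopen in
theorem mk_mem_TW (h𝒴 : IsFibGrpd 𝒴.p) (p : FPt 𝒴) : Points.mk p ∈ TW W ↔ QW W p.obj := by
  constructor
  · rintro ⟨p', h, hp'⟩
    have hrel : FPt.Rel p' p :=
      (Groth.Agent.S12817.result 𝒴 h𝒴).eqvGen_iff.mp (Quot.eqvGen_exact h)
    exact (QW_rel W hWpull hWopen hrel).1 hp'
  · intro hp
    exact ⟨p, rfl, hp⟩

/-- the image of a morphism lying over `g` with a lift of its base map through an open lies in the open -/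
theorem range_subset_of_lift {a b : 𝒴.obj} (φ : b ⟶ a) (V : (𝒴.p.obj a).left.Opens)
    (g' : (𝒴.p.obj b).left ⟶ ↑V) (hg' : g' ≫ V.ι = (𝒴.p.map φ).left) (R : Over S) (hR : 𝒴.p.obj b = R)
    (g : R ⟶ 𝒴.p.obj a) (hg : 𝒴.p.IsHomLift g φ) (r : ↥R.left) : g.left r ∈ V := by
  subst hR
  have h1 : 𝒴.p.map φ = g := by
    have := IsHomLift.fac' 𝒴.p g φ
    simpa using this
  rw [← h1, ← hg']
  exact (g' r).2

include hWpull hWopen in
/-- the predicate is the one cut out by its set of points -/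
theorem QW_iff_QT (h𝒴 : IsFibGrpd 𝒴.p) (a : 𝒴.obj) : QW W a ↔ QT (TW W) a := by
  haveI := h𝒴
  constructor
  · rintro ha p ⟨m⟩
    exact (mk_mem_TW W hWpull hWopen h𝒴 p).2 (QW_of_hom W hWpull m ha)
  · intro h
    obtain ⟨V, hV⟩ := exists_opens W hWopen a
    apply QW_of_forall_mem W hWopen a V hV
    intro t
    let g : Over.mk ((𝒴.p.obj a).left.fromSpecResidueField t ≫ (𝒴.p.obj a).hom) ⟶ 𝒴.p.obj a :=
      Over.homMk ((𝒴.p.obj a).left.fromSpecResidueField t) rfl
    obtain ⟨b, φ, hφ⟩ := h𝒴.exists_lift (x := a) g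
    let p : FPt 𝒴 :=
      { K := ↥((𝒴.p.obj a).left.residueField t)
        str := (𝒴.p.obj a).left.fromSpecResidueField t ≫ (𝒴.p.obj a).hom
        obj := b
        lies := IsHomLift.domain_eq 𝒴.p g φ }
    have hb : QW W b := (mk_mem_TW W hWpull hWopen h𝒴 p).1 (h p ⟨φ⟩)
    obtain ⟨g', hg'⟩ := (hV b φ).1 hb
    have hmem := range_subset_of_lift φ V g' hg' _ (IsHomLift.domain_eq 𝒴.p g φ) g hφ
    have ht : t ∈ Set.range ((𝒴.p.obj a).left.fromSpecResidueField t) := by
      rw [Scheme.range_fromSpecResidueField]; rfl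
    obtain ⟨r, hr⟩ := ht
    rw [← hr]
    exact hmem r

include hWpull hWopen in
/-- the set of points of an open subfunctor is open -/
theorem isOpen_TW (h𝒴 : IsFibGrpd 𝒴.p) : IsOpen (TW W) := by
  intro U x hx
  obtain ⟨V, hV⟩ := hWopen U ⟨x.obj (Over.mk (𝟙 U)), x.w_obj _⟩
  have key : AlgSt.Points.ofChart x ⁻¹' TW W = (V : Set ↥U.left) := by
    ext u
    let r : Over U := Over.mk (Over.homMk (U.left.fromSpecResidueField u) rfl :
      Over.mk (U.left.fromSpecResidueField u ≫ U.hom) ⟶ U)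
    have h1 : AlgSt.Points.ofChart x u ∈ TW W ↔ QW W (x.obj r) :=
      mk_mem_TW W hWpull hWopen h𝒴 _
    have h2 : 𝒴.p.IsHomLift r.hom (x.toFunctor.map (toId r)) := by
      haveI h0 : (FibCat.overCat U).p.IsHomLift r.hom (toId r) := hom_isHomLift (toId r)
      exact x.preserves_isHomLift _ _
    have h3 := hV r.left r.hom ⟨x.obj r, x.w_obj r⟩ (x.toFunctor.map (toId r)) h2
    rw [cls_mem_iff] at h3
    change AlgSt.Points.ofChart x u ∈ TW W ↔ u ∈ V
    rw [h1, h3]
    constructor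
    · rintro ⟨g', hg'⟩
      have ht : u ∈ Set.range (U.left.fromSpecResidueField u) := by
        rw [Scheme.range_fromSpecResidueField]; rfl
      obtain ⟨w, hw⟩ := ht
      rw [← hw]
      have : r.hom.left = U.left.fromSpecResidueField u := rfl
      rw [← this, ← hg']
      exact (g' w).2
    · intro hu
      have hsub : Set.range (U.left.fromSpecResidueField u) ⊆ Set.range V.ι := by
        rw [Scheme.range_fromSpecResidueField, Scheme.Opens.range_ι]
        rintro _ rfl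
        exact hu
      exact ⟨IsOpenImmersion.lift V.ι (U.left.fromSpecResidueField u) hsub, IsOpenImmersion.lift_fac _ _ _⟩
  rw [key]
  exact V.2

include hWpull hWopen in
/-- S15492 -/
theorem isOpenSubstack_QW (h𝒴 : AlgSt.IsAlgStack Scheme.fppfPrecoverage 𝒴) :
    AlgSt.IsOpenSubstack 𝒴 (QW W) Scheme.fppfPrecoverage := by
  have e : QW W = QT (TW W) := funext fun a => propext (QW_iff_QT W hWpull hWopen h𝒴.isStack.1 a)
  rw [e]
  exact isOpenSubstack_QT h𝒴 (TW W) (isOpen_TW W hWpull hWopen h𝒴.isStack.1)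

end Open

end Groth.Agent.Lib.helper4.AlgStIsoNat
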