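import Mathlib
import Groth.Prelude.Def_W4c2isonaturalstkIso
import Groth.Prelude.Def_AlgSt4
import Groth.Agent.S12817
import Groth.Agent.Lib.Helper4.Descent

set_option backward.isDefEq.respectTransparency false
set_option backward.isDefEq.respectTransparency.types false
set_option autoImplicit false
universe u
open CategoryTheory AlgebraicGeometry AlgSt IsoNat FibCat

/-! Isomorphism classes in fibres of categories fibred in groupoids and field points:
basic API for `IsoNat.cls`, `IsoNat.mapCls`, and transport of surjectivity on points along an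
`IsoNat.FIsoSq`. -/

namespace Groth.Agent.Lib.helper4.AlgStIsoNat2

variable {S : Scheme.{u}}

/-- From equal classes, a morphism in the total category lying over the identity. -/
theorem exists_hom_of_cls_eq {𝒳 : AlgSt.Cat S} {T : Over S} {x y : 𝒳.p.Fiber T}
    (h : cls x = cls y) : ∃ a : x.1 ⟶ y.1, 𝒳.p.IsHomLift (𝟙 T) a := by
  obtain ⟨e⟩ := Quotient.exact h
  exact ⟨e.hom.1, e.hom.2⟩

/-- In a category fibred in groupoids, a morphism between fibre objects lying over the identity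
gives equal classes. -/
theorem cls_eq_of_hom {𝒳 : AlgSt.Cat S} (h𝒳 : IsFibGrpd 𝒳.p) {T : Over S} {x y : 𝒳.p.Fiber T}
    (a : x.1 ⟶ y.1) (ha : 𝒳.p.IsHomLift (𝟙 T) a) : cls x = cls y := by
  have hiso : IsIso a := Groth.Agent.Lib.helper4.Descent.isIso_of_lift h𝒳 (𝟙 T) a
  have ha' : 𝒳.p.IsHomLift (𝟙 T) (inv a) := IsHomLift.lift_id_inv_isIso _ _ _
  apply Quotient.sound
  exact ⟨{ hom := ⟨a, ha⟩
           inv := ⟨inv a, ha'⟩
           hom_inv_id := by
             apply Functor.Fiber.hom_ext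
             exact IsIso.hom_inv_id a
           inv_hom_id := by
             apply Functor.Fiber.hom_ext
             exact IsIso.inv_hom_id a }⟩

/-- In a category fibred in groupoids, two lifts of the same base morphism with the same target
have sources in the same isomorphism class. -/
theorem cls_eq_of_lifts {𝒳 : AlgSt.Cat S} (h𝒳 : IsFibGrpd 𝒳.p) {T' T : Over S} (g : T' ⟶ T)
    {x y : 𝒳.p.Fiber T'} {z : 𝒳.obj} (a : x.1 ⟶ z) (b : y.1 ⟶ z)
    (ha : 𝒳.p.IsHomLift g a) (hb : 𝒳.p.IsHomLift g b) : cls x = cls y := by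
  obtain ⟨κ, hκ, -⟩ := Groth.Agent.Lib.helper4.Descent.exists_factor h𝒳 g b (𝟙 T') g
    (by simp) a
  exact cls_eq_of_hom h𝒳 κ hκ

/-- `mapCls` on a class. -/
theorem mapCls_cls {𝒳 𝒴 : AlgSt.Cat S} (f : 𝒳 ⥤ᵇ 𝒴) {T : Over S} (x : 𝒳.p.Fiber T) :
    mapCls f T (cls x) = cls ⟨f.obj x.1, (f.w_obj x.1).trans x.2⟩ := rfl

/-- The base morphism under a morphism between objects lying over given objects. -/
theorem exists_base {𝒳 : AlgSt.Cat S} {x y : 𝒳.obj} {T' T : Over S} (hx : 𝒳.p.obj x = T')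
    (hy : 𝒳.p.obj y = T) (a : x ⟶ y) : ∃ g : T' ⟶ T, 𝒳.p.IsHomLift g a := by
  subst hx hy
  exact ⟨𝒳.p.map a, inferInstance⟩

/-- Transport of surjectivity on points along an isomorphism of arrows of presheaves of
isomorphism classes. -/
theorem isSurjective_of_fIsoSq {𝒳 𝒴 𝒳' 𝒴' : AlgSt.Cat S} (h𝒳 : IsFibGrpd 𝒳.p)
    (h𝒴 : IsFibGrpd 𝒴.p)
    (f : 𝒳 ⥤ᵇ 𝒴) (f' : 𝒳' ⥤ᵇ 𝒴') (φ : IsoNat.FIsoSq f f')
    (hf : AlgSt.IsSurjective f) : AlgSt.IsSurjective f' := by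
  intro z'
  obtain ⟨q', rfl⟩ := Points.mk_surjective z'
  -- the class of `q'` and the corresponding class of `𝒴`
  let T : Over S := Over.mk q'.str
  let yq' : 𝒴'.p.Fiber T := ⟨q'.obj, q'.lies⟩
  obtain ⟨y, hy⟩ := Quotient.exists_rep ((φ.tgt.toEquiv T).symm (cls yq'))
  have hy' : φ.tgt.toEquiv T (cls y) = cls yq' := by
    change φ.tgt.toEquiv T (Quotient.mk _ y) = _
    rw [hy, Equiv.apply_symm_apply]
  let q : FPt 𝒴 := { K := q'.K, str := q'.str, obj := y.1, lies := y.2 }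
  obtain ⟨pt, hpt⟩ := hf (Points.mk q)
  obtain ⟨p, rfl⟩ := Points.mk_surjective pt
  have hrel : FPt.Rel (p.map f) q := by
    have hE := Groth.Agent.S12817.result 𝒴 h𝒴
    have : Relation.EqvGen (@FPt.Rel S 𝒴) (p.map f) q := Quot.eqvGen_exact hpt
    rwa [hE.eqvGen_iff] at this
  obtain ⟨r, a, b, -⟩ := hrel
  let Tr : Over S := Over.mk r.str
  let Tp : Over S := Over.mk p.str
  obtain ⟨g₁, hg₁⟩ := exists_base (𝒳 := 𝒴) r.lies ((p.map f).lies) a
  obtain ⟨g₂, hg₂⟩ := exists_base (𝒳 := 𝒴) r.lies y.2 b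
  -- pull back `p.obj` along `g₁`
  obtain ⟨xr, α, hα⟩ := h𝒳.exists_lift (x := p.obj) (V := Tr) (g₁ ≫ eqToHom p.lies.symm)
  have hxr : 𝒳.p.obj xr = Tr := IsHomLift.domain_eq 𝒳.p (g₁ ≫ eqToHom p.lies.symm) α
  have hα' : 𝒳.p.IsHomLift g₁ α := by
    have h1 : 𝒳.p.obj p.obj = Tp := p.lies
    apply IsHomLift.of_fac' _ _ _ hxr h1
    have := IsHomLift.fac' 𝒳.p (g₁ ≫ eqToHom p.lies.symm) α
    rw [this]
    simp
  let xrF : 𝒳.p.Fiber Tr := ⟨xr, hxr⟩
  let rF : 𝒴.p.Fiber Tr := ⟨r.obj, r.lies⟩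
  have hfα : 𝒴.p.IsHomLift g₁ (f.map α) := inferInstance
  have h1 : mapCls f Tr (cls xrF) = cls rF := by
    rw [mapCls_cls]
    exact cls_eq_of_lifts h𝒴 g₁ (f.map α) a hfα hg₁
  -- naturality of the target isomorphism along `b`
  obtain ⟨y₁', y₀', b', hb', e₁, e₀⟩ := φ.tgt.natural g₂ rF y b hg₂
  have hcomm := φ.comm Tr (cls xrF)
  rw [h1, e₁] at hcomm
  obtain ⟨x₁', hx₁'⟩ := Quotient.exists_rep (φ.src.toEquiv Tr (cls xrF))
  have hx₁'' : φ.src.toEquiv Tr (cls xrF) = cls x₁' := hx₁'.symm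
  rw [hx₁'', mapCls_cls] at hcomm
  -- the point of `𝒳'`
  let p' : FPt 𝒳' := { K := r.K, str := r.str, obj := x₁'.1, lies := x₁'.2 }
  refine ⟨Points.mk p', ?_⟩
  rw [Points.map_mk]
  apply Points.sound
  obtain ⟨c₁, -⟩ := exists_hom_of_cls_eq hcomm.symm
  obtain ⟨c₀, -⟩ := exists_hom_of_cls_eq (hy'.symm.trans e₀).symm
  exact ⟨p'.map f', 𝟙 _, c₁ ≫ b' ≫ c₀, trivial⟩

end Groth.Agent.Lib.helper4.AlgStIsoNat2
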