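import Mathlib
import Groth.Agent.Lib.Helper4.AlgStIsoNat2
import Groth.Agent.FibYoneda

set_option backward.isDefEq.respectTransparency false
set_option backward.isDefEq.respectTransparency.types false
set_option autoImplicit false
universe u
open CategoryTheory AlgebraicGeometry AlgSt IsoNat FibCat

/-! Charts and `IsoNat.FIso`: the chart of the target corresponding to a chart of the source, and
the induced `FIsoSq`. -/

namespace Groth.Agent.Lib.helper4.AlgStIsoNat3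
open Groth.Agent.Lib.helper4.AlgStIsoNat2 Groth.Agent.FibYoneda

variable {S : Scheme.{u}}

/-- The identity isomorphism of presheaves of isomorphism classes. -/
def fIsoRefl (𝒳 : AlgSt.Cat S) : FIso 𝒳 𝒳 where
  toEquiv := fun _ => Equiv.refl _
  natural := fun _ x' x a ha => ⟨x', x, a, ha, rfl, rfl⟩

/-- 2-Yoneda (existence half): every object over `U` is the value at the identity of a functor
from the slice. -/
theorem exists_functor_of_fiber {𝒴 : AlgSt.Cat S} (h𝒴 : IsFibGrpd 𝒴.p) {U : Over S}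
    (y : 𝒴.p.Fiber U) : ∃ Y : overCat U ⥤ᵇ 𝒴, objCls Y = cls y := by
  obtain ⟨y0, hy⟩ := y
  subst hy
  have : 𝒴.p.IsFibered := Groth.Agent.FibFiberwise.isFibered_of_isFibGrpd 𝒴.p h𝒴
  obtain ⟨e, he⟩ := yBased_id_iso y0
  refine ⟨yBased y0, ?_⟩
  exact cls_eq_of_hom h𝒴 (x := ⟨(yBased y0).obj (Over.mk (𝟙 _)), (yBased y0).w_obj _⟩)
    (y := ⟨y0, rfl⟩) e.hom he

/-- Every class over `U` is the class of a functor from the slice. -/
theorem exists_functor_of_cls {𝒴 : AlgSt.Cat S} (h𝒴 : IsFibGrpd 𝒴.p) {U : Over S}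
    (c : IsoCl 𝒴 U) : ∃ Y : overCat U ⥤ᵇ 𝒴, objCls Y = c := by
  obtain ⟨y, rfl⟩ := Quotient.exists_rep c
  exact exists_functor_of_fiber h𝒴 y

/-- Charts corresponding under an `FIso` give a commuting square of maps of isomorphism
classes. -/
theorem comm_chart {𝒳 𝒴 : AlgSt.Cat S} (h𝒴 : IsFibGrpd 𝒴.p) (φ : FIso 𝒳 𝒴) {U : Over S}
    (x : overCat U ⥤ᵇ 𝒳) (y : overCat U ⥤ᵇ 𝒴) (h : φ.toEquiv U (objCls x) = objCls y)
    (T : Over S) (c : IsoCl (overCat U) T) :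
    φ.toEquiv T (mapCls x T c) = mapCls y T c := by
  obtain ⟨t, rfl⟩ := Quotient.exists_rep c
  change φ.toEquiv T (mapCls x T (cls t)) = mapCls y T (cls t)
  rw [mapCls_cls, mapCls_cls]
  let k : t.1 ⟶ Over.mk (𝟙 U) := Over.homMk t.1.hom (by simp)
  obtain ⟨g, hg⟩ : ∃ g : T ⟶ U, (overCat U).p.IsHomLift g k :=
    exists_base (𝒳 := overCat U) t.2 (rfl : (overCat U).p.obj (Over.mk (𝟙 U)) = U) k
  have hxk : 𝒳.p.IsHomLift g (x.map k) := inferInstance
  have hyk : 𝒴.p.IsHomLift g (y.map k) := inferInstance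
  obtain ⟨y₁, y₀, b, hb, e₁, e₀⟩ := φ.natural g ⟨x.obj t.1, (x.w_obj t.1).trans t.2⟩
    ⟨x.obj (Over.mk (𝟙 U)), x.w_obj _⟩ (x.map k) hxk
  rw [e₁]
  have e₀' : cls y₀ = cls ⟨y.obj (Over.mk (𝟙 U)), y.w_obj _⟩ := e₀.symm.trans h
  obtain ⟨c₀, hc₀⟩ := exists_hom_of_cls_eq e₀'
  have hbc : 𝒴.p.IsHomLift g (b ≫ c₀) := by
    have : 𝒴.p.IsHomLift (g ≫ 𝟙 U) (b ≫ c₀) := inferInstance
    simpa using this
  exact cls_eq_of_lifts h𝒴 g (b ≫ c₀) (y.map k) hbc hyk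

/-- The `FIsoSq` between corresponding charts. -/
def fIsoSqChart {𝒳 𝒴 : AlgSt.Cat S} (h𝒴 : IsFibGrpd 𝒴.p) (φ : FIso 𝒳 𝒴) {U : Over S}
    (x : overCat U ⥤ᵇ 𝒳) (y : overCat U ⥤ᵇ 𝒴) (h : φ.toEquiv U (objCls x) = objCls y) :
    FIsoSq x y where
  src := fIsoRefl (overCat U)
  tgt := φ
  comm := fun T c => comm_chart h𝒴 φ x y h T c

end Groth.Agent.Lib.helper4.AlgStIsoNat3
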