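import Groth.Agent.Lib.Helper4.AlgStPts2
set_option autoImplicit false
set_option backward.isDefEq.respectTransparency false
set_option backward.isDefEq.respectTransparency.types false
set_option linter.unusedSectionVars false
set_option linter.style.haveILetI false
set_option linter.unusedVariables false
open CategoryTheory CategoryTheory.Functor CategoryTheory.Limits Opposite AlgebraicGeometry
universe u

/-! The topology on the points of an algebraic stack: charts are open, maps are continuous. -/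

namespace Groth.Agent.Lib.helper4.AlgStPts
open Groth.Agent.FibEquiv Groth.Agent.FibYoneda Groth.Agent.FibFpProj Stk FibCat
open Groth.Agent.Lib.helper4.Descent Groth.Agent.Lib.helper4.PshDict Groth.Agent.Lib.helper4.FibPaste
open Groth.Agent.Lib.helper4.AlgStEquiv Groth.Agent.Lib.helper4.PshRep Groth.Agent.Lib.helper4.PshPB
open Groth.Agent.Lib.helper4.FibSwap Groth.Agent.Lib.helper4.AlgStSetoid Groth.Agent.Lib.helper4.AlgStCoreA
open Groth.Agent.Lib.helper4.AlgStDescent Groth.Agent.Lib.helper4.AlgStSource Groth.Agent.Lib.helper4.AlgStDM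
open Groth.Agent.Lib.helper4.AlgStSmLoc Groth.Agent.Lib.helper4.PointsBasic Groth.Agent.Lib.helper4.AlgStRep
open AlgSt

variable {S : Scheme.{u}}

/-- every point is the image of a point of a scheme under a chart -/
theorem exists_ofChart_eq_mk {𝒳 : AlgSt.Cat S} (h𝒳 : IsFibGrpd 𝒳.p) (p : FPt 𝒳) :
    ∃ (T : Over S) (y : overCat T ⥤ᵇ 𝒳) (t : ↥T.left), Points.ofChart y t = Points.mk p := by
  have hfib : 𝒳.p.IsFibered := Groth.Agent.FibFiberwise.isFibered_of_isFibGrpd 𝒳.p h𝒳
  obtain ⟨e, -⟩ := yBased_id_iso p.obj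
  have hne : Nonempty ↥(𝒳.p.obj p.obj).left := by
    rw [p.lies]
    exact ⟨IsLocalRing.closedPoint p.K⟩
  obtain ⟨t⟩ := hne
  refine ⟨𝒳.p.obj p.obj, yBased p.obj, t, ?_⟩
  exact Points.sound ⟨_, 𝟙 _, (yBased p.obj).map (toId (resPt _ t)) ≫ e.hom, trivial⟩

section Slice

variable (T : Over S)

/-- `|(Sch/T)| ≃ T` -/
noncomputable def slicePt : Points (overCat T) ≃ ↥T.left :=
  ((Equiv.ofBijective _ (map_bijective_of_isEquivOver (toYon.{u + 1} T) (toYon_isEquivOver T))).trans
    (ptsEquiv ((AlgSp.yon S).obj T))).trans (AlgSp.Points.schemeEquiv T).symm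

theorem slicePt_apply (z : Points (overCat T)) :
    slicePt T z = AlgSp.Points.toScheme T (ptsEquiv ((AlgSp.yon S).obj T) (Points.map (toYon.{u + 1} T) z)) := rfl

theorem ptsEquiv_ofChart_toYon (t : ↥T.left) :
    ptsEquiv ((AlgSp.yon S).obj T) (Points.ofChart (toYon.{u + 1} T) t) = AlgSp.Points.ofScheme T t := by
  rw [ptsEquiv_ofChart]
  change _ = AlgSp.Points.mk (AlgSp.FieldPt.ofPt (𝟙 _) t)
  congr 1

theorem slicePt_ofChart_id (t : ↥T.left) : slicePt T (Points.ofChart (BasedFunctor.id (overCat T)) t) = t := by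
  rw [slicePt_apply, map_ofChart]
  change AlgSp.Points.toScheme T (ptsEquiv ((AlgSp.yon S).obj T) (Points.ofChart (toYon.{u + 1} T) t)) = t
  rw [ptsEquiv_ofChart_toYon, AlgSp.Points.toScheme_ofScheme]

theorem slicePt_symm_apply (t : ↥T.left) : (slicePt T).symm t = Points.ofChart (BasedFunctor.id (overCat T)) t := by
  rw [Equiv.symm_apply_eq, slicePt_ofChart_id]

theorem slicePt_map {F : AlgSp.Sp S} (Φ : AlgSt.ofSp F ⥤ᵇ overCat T) (z : Points (AlgSt.ofSp F)) :
    slicePt T (Points.map Φ z) =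
      AlgSp.Points.toScheme T (AlgSp.Points.map (AlgSt.spMapOfOver Φ) (ptsEquiv F z)) := by
  rw [slicePt_apply, ← map_comp, map_congr_iso (isoOfPshMap (BasedFunctor.comp Φ (toYon.{u + 1} T))),
    ← ptsEquiv_map]
  congr 3

end Slice

section Topology

variable {𝒳 : AlgSt.Cat S} (h𝒳 : IsFibGrpd 𝒳.p)

/-- preimage under a chart of the image of another chart, through a common chart -/
theorem preimage_image_eq {U V W : Over S} (x : overCat U ⥤ᵇ 𝒳) (x' : overCat V ⥤ᵇ 𝒳) (a : W ⟶ U) (b : W ⟶ V)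
    (i : BasedFunctor.comp (AlgSt.overMap b) x' ≅ BasedFunctor.comp (AlgSt.overMap a) x)
    (hl : ∀ (u : ↥U.left) (v : ↥V.left), Points.ofChart x u = Points.ofChart x' v →
      ∃ w : ↥W.left, a.left w = u ∧ b.left w = v) (O : Set ↥U.left) :
    Points.ofChart x' ⁻¹' (Points.ofChart x '' O) = b.left '' (a.left ⁻¹' O) := by
  ext v
  constructor
  · rintro ⟨u, hu, huv⟩
    obtain ⟨w, rfl, rfl⟩ := hl u v huv
    exact ⟨w, hu, rfl⟩
  · rintro ⟨w, hw, rfl⟩
    exact ⟨a.left w, hw, (ofChart_overMap a x w).symm.trans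
      ((ofChart_congr i w).symm.trans (ofChart_overMap b x' w))⟩

include h𝒳

/-- a chart whose base changes are open maps is open on points -/
theorem isOpenMap_ofChart {U : Over S} (x : overCat U ⥤ᵇ 𝒳) (hx : AlgSt.RepByAlgSp1 x)
    (hopen : ∀ {W V : Over S} (b : W ⟶ V),
      (∀ P : MorphismProperty Scheme.{u}, AlgSt.RepByAlgSpWith (AlgSp.LocP P) x → P b.left) → IsOpenMap b.left) :
    IsOpenMap (Points.ofChart x) := by
  intro O hO
  rw [Points.isOpen_iff]
  intro V x' hx'
  obtain ⟨W, a, b, ⟨i⟩, hl, hP, -, -, -⟩ := exists_chart_fp h𝒳 x hx x'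
  rw [preimage_image_eq x x' a b i hl O]
  exact hopen b hP _ (hO.preimage a.left.continuous)

theorem isOpenMap_ofChart_fppf {U : Over S} (x : overCat U ⥤ᵇ 𝒳)
    (hx₁ : AlgSt.RepByAlgSpWith (AlgSp.LocP @Flat) x)
    (hx₂ : AlgSt.RepByAlgSpWith (AlgSp.LocP @LocallyOfFinitePresentation) x) :
    IsOpenMap (Points.ofChart x) := by
  refine isOpenMap_ofChart h𝒳 x (Groth.Agent.Lib.helper4.AlgStFull.repByAlgSp1_of_with _ _ hx₁) ?_
  intro W V b hb
  have h1 : Flat b.left := hb _ hx₁
  have h2 : LocallyOfFinitePresentation b.left := hb _ hx₂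
  exact b.left.isOpenMap

theorem isOpenMap_ofChart_smooth {U : Over S} (x : overCat U ⥤ᵇ 𝒳)
    (hx : AlgSt.RepByAlgSpWith (AlgSp.LocP @Smooth) x) : IsOpenMap (Points.ofChart x) := by
  refine isOpenMap_ofChart h𝒳 x (Groth.Agent.Lib.helper4.AlgStFull.repByAlgSp1_of_with _ _ hx) ?_
  intro W V b hb
  have h1 : Smooth b.left := hb _ hx
  exact b.left.isOpenMap

/-- every chart of a category with a smooth surjective atlas is continuous -/
theorem continuous_ofChart (hat : AlgSt.HasAtlas (AlgSp.LocP @Smooth) 𝒳) {V : Over S} (x' : overCat V ⥤ᵇ 𝒳) :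
    Continuous (Points.ofChart x') := by
  obtain ⟨U, x, hx, hxs⟩ := hat
  rw [continuous_def]
  intro O hO
  obtain ⟨W, a, b, ⟨i⟩, hl, hP, -, hS, -⟩ :=
    exists_chart_fp h𝒳 x (Groth.Agent.Lib.helper4.AlgStFull.repByAlgSp1_of_with _ _ hx) x'
  have hb1 : Smooth b.left := hP _ hx
  have hb2 : Surjective b.left := hS hxs
  have h1 : b.left ⁻¹' (Points.ofChart x' ⁻¹' O) = a.left ⁻¹' (Points.ofChart x ⁻¹' O) := by
    ext w
    change Points.ofChart x' (b.left w) ∈ O ↔ Points.ofChart x (a.left w) ∈ O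
    rw [← ofChart_overMap b x' w, ← ofChart_overMap a x w, ofChart_congr i w]
  have h2 : IsOpen (a.left ⁻¹' (Points.ofChart x ⁻¹' O)) :=
    ((Points.isOpen_iff.1 hO) U x hx).preimage a.left.continuous
  have h3 : Points.ofChart x' ⁻¹' O = b.left '' (b.left ⁻¹' (Points.ofChart x' ⁻¹' O)) :=
    (Set.image_preimage_eq _ b.left.surjective).symm
  rw [h3, h1]
  exact b.left.isOpenMap _ h2

omit h𝒳 in
/-- the map on points of a functor to a category with a smooth surjective atlas is continuous -/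
theorem continuous_map {𝒴 : AlgSt.Cat S} (h𝒴 : IsFibGrpd 𝒴.p) (hat : AlgSt.HasAtlas (AlgSp.LocP @Smooth) 𝒴)
    (f : 𝒳 ⥤ᵇ 𝒴) : Continuous (Points.map f) := by
  rw [continuous_def]
  intro O hO
  rw [Points.isOpen_iff]
  intro U x hx
  exact (continuous_ofChart h𝒴 hat (BasedFunctor.comp x f)).isOpen_preimage O hO

end Topology

end Groth.Agent.Lib.helper4.AlgStPts
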