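import Mathlib
import Groth.Agent.Lib.Helper4.AlgStIsoNat3
import Groth.Agent.Lib.Helper4.AlgStPts3

set_option backward.isDefEq.respectTransparency false
set_option backward.isDefEq.respectTransparency.types false
set_option autoImplicit false
universe u
open CategoryTheory AlgebraicGeometry AlgSt IsoNat FibCat

/-! An isomorphism of presheaves of isomorphism classes (`IsoNat.FIso`) between categories fibred
in groupoids induces a bijection on spaces of points; for algebraic stacks (smooth atlases) it is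
a homeomorphism, compatible with the maps on points for an `IsoNat.FIsoSq`. -/

namespace Groth.Agent.Lib.helper4.AlgStIsoNatPts
open Groth.Agent.Lib.helper4.AlgStIsoNat2 Groth.Agent.Lib.helper4.AlgStIsoNat3

variable {S : Scheme.{u}}

section Symm

variable {𝒳 𝒳' : AlgSt.Cat S}

/-- The inverse of an `FIso` between categories fibred in groupoids. -/
def fIsoSymm (h𝒳 : IsFibGrpd 𝒳.p) (h𝒳' : IsFibGrpd 𝒳'.p) (φ : FIso 𝒳 𝒳') : FIso 𝒳' 𝒳 where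
  toEquiv := fun T => (φ.toEquiv T).symm
  natural := by
    intro T' T g y' y a ha
    obtain ⟨x, hx⟩ := Quotient.exists_rep ((φ.toEquiv T).symm (cls y))
    have hx' : φ.toEquiv T (cls x) = cls y := by
      change φ.toEquiv T (Quotient.mk _ x) = _
      rw [hx, Equiv.apply_symm_apply]
    obtain ⟨x₁, α, hα⟩ := h𝒳.exists_lift (x := x.1) (V := T') (g ≫ eqToHom x.2.symm)
    have hx₁ : 𝒳.p.obj x₁ = T' := IsHomLift.domain_eq 𝒳.p (g ≫ eqToHom x.2.symm) α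
    have hα' : 𝒳.p.IsHomLift g α := by
      apply IsHomLift.of_fac' _ _ _ hx₁ x.2
      have := IsHomLift.fac' 𝒳.p (g ≫ eqToHom x.2.symm) α
      rw [this]
      simp
    obtain ⟨z₁, z₀, b, hb, e₁, e₀⟩ := φ.natural g ⟨x₁, hx₁⟩ x α hα'
    obtain ⟨c, hc⟩ := exists_hom_of_cls_eq (e₀.symm.trans hx')
    have hbc : 𝒳'.p.IsHomLift g (b ≫ c) := by
      have : 𝒳'.p.IsHomLift (g ≫ 𝟙 T) (b ≫ c) := inferInstance
      simpa using this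
    have h1 : cls z₁ = cls y' := cls_eq_of_lifts h𝒳' g (b ≫ c) a hbc ha
    refine ⟨⟨x₁, hx₁⟩, x, α, hα', ?_, ?_⟩
    · rw [Equiv.symm_apply_eq, e₁, h1]
    · rw [Equiv.symm_apply_eq, hx']

@[simp] theorem fIsoSymm_toEquiv (h𝒳 : IsFibGrpd 𝒳.p) (h𝒳' : IsFibGrpd 𝒳'.p) (φ : FIso 𝒳 𝒳')
    (T : Over S) : (fIsoSymm h𝒳 h𝒳' φ).toEquiv T = (φ.toEquiv T).symm := rfl

end Symm

section Corr

variable {𝒳 𝒳' : AlgSt.Cat S}

/-- The field-valued point given by an object of the fibre over the spectrum of a field. -/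
def fptOfFib (K : Type u) [Field K] (str : Spec (CommRingCat.of K) ⟶ S)
    (x : 𝒳.p.Fiber (Over.mk str)) : FPt 𝒳 :=
  { K := K, str := str, obj := x.1, lies := x.2 }

/-- The correspondence on points induced by an `FIso`. -/
def Corr (φ : FIso 𝒳 𝒳') (z : Points 𝒳) (z' : Points 𝒳') : Prop :=
  ∃ (K : Type u) (_ : Field K) (str : Spec (CommRingCat.of K) ⟶ S)
    (x : 𝒳.p.Fiber (Over.mk str)) (x' : 𝒳'.p.Fiber (Over.mk str)),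
    φ.toEquiv _ (cls x) = cls x' ∧ Points.mk (fptOfFib K str x) = z ∧
      Points.mk (fptOfFib K str x') = z'

theorem corr_total (φ : FIso 𝒳 𝒳') (z : Points 𝒳) : ∃ z', Corr φ z z' := by
  obtain ⟨p, rfl⟩ := Points.mk_surjective z
  obtain ⟨x', hx'⟩ := Quotient.exists_rep (φ.toEquiv (Over.mk p.str) (cls ⟨p.obj, p.lies⟩))
  exact ⟨Points.mk (fptOfFib p.K p.str x'), p.K, inferInstance, p.str, ⟨p.obj, p.lies⟩, x',
    hx'.symm, rfl, rfl⟩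

theorem corr_symm (h𝒳 : IsFibGrpd 𝒳.p) (h𝒳' : IsFibGrpd 𝒳'.p) (φ : FIso 𝒳 𝒳')
    (z : Points 𝒳) (z' : Points 𝒳') : Corr (fIsoSymm h𝒳 h𝒳' φ) z' z ↔ Corr φ z z' := by
  constructor
  · rintro ⟨K, hK, str, x', x, h1, h2, h3⟩
    refine ⟨K, hK, str, x, x', ?_, h3, h2⟩
    rw [fIsoSymm_toEquiv, Equiv.symm_apply_eq] at h1
    exact h1.symm
  · rintro ⟨K, hK, str, x, x', h1, h2, h3⟩
    refine ⟨K, hK, str, x', x, ?_, h3, h2⟩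
    rw [fIsoSymm_toEquiv, Equiv.symm_apply_eq]
    exact h1.symm

/-- The correspondence is single-valued. -/
theorem corr_functional (h𝒳 : IsFibGrpd 𝒳.p) (φ : FIso 𝒳 𝒳') {z : Points 𝒳} {z₁ z₂ : Points 𝒳'}
    (h₁ : Corr φ z z₁) (h₂ : Corr φ z z₂) : z₁ = z₂ := by
  obtain ⟨K₁, hK₁, s₁, x₁, x₁', e₁, rfl, rfl⟩ := h₁
  obtain ⟨K₂, hK₂, s₂, x₂, x₂', e₂, hz, rfl⟩ := h₂
  have hrel : FPt.Rel (fptOfFib K₁ s₁ x₁) (fptOfFib K₂ s₂ x₂) := by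
    have hE := Groth.Agent.S12817.result 𝒳 h𝒳
    have : Relation.EqvGen (@FPt.Rel S 𝒳) (fptOfFib K₁ s₁ x₁) (fptOfFib K₂ s₂ x₂) :=
      Quot.eqvGen_exact hz.symm
    rwa [hE.eqvGen_iff] at this
  obtain ⟨r, a₁, a₂, -⟩ := hrel
  obtain ⟨g₁, hg₁⟩ := exists_base (𝒳 := 𝒳) r.lies x₁.2 a₁
  obtain ⟨g₂, hg₂⟩ := exists_base (𝒳 := 𝒳) r.lies x₂.2 a₂
  obtain ⟨y₁, y₀, b, hb, f₁, f₀⟩ := φ.natural g₁ ⟨r.obj, r.lies⟩ x₁ a₁ hg₁
  obtain ⟨w₁, w₀, d, hd, k₁, k₀⟩ := φ.natural g₂ ⟨r.obj, r.lies⟩ x₂ a₂ hg₂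
  obtain ⟨c₀, -⟩ := exists_hom_of_cls_eq (f₀.symm.trans e₁)
  obtain ⟨c₁, -⟩ := exists_hom_of_cls_eq (f₁.symm.trans k₁)
  obtain ⟨c₂, -⟩ := exists_hom_of_cls_eq (k₀.symm.trans e₂)
  exact Points.sound ⟨fptOfFib r.K r.str y₁, b ≫ c₀, c₁ ≫ d ≫ c₂, trivial⟩

theorem corr_cototal (h𝒳 : IsFibGrpd 𝒳.p) (h𝒳' : IsFibGrpd 𝒳'.p) (φ : FIso 𝒳 𝒳')
    (z' : Points 𝒳') : ∃ z, Corr φ z z' := by
  obtain ⟨z, hz⟩ := corr_total (fIsoSymm h𝒳 h𝒳' φ) z'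
  exact ⟨z, (corr_symm h𝒳 h𝒳' φ z z').1 hz⟩

theorem corr_injective (h𝒳 : IsFibGrpd 𝒳.p) (h𝒳' : IsFibGrpd 𝒳'.p) (φ : FIso 𝒳 𝒳')
    {z₁ z₂ : Points 𝒳} {z' : Points 𝒳'} (h₁ : Corr φ z₁ z') (h₂ : Corr φ z₂ z') : z₁ = z₂ :=
  corr_functional h𝒳' (fIsoSymm h𝒳 h𝒳' φ) ((corr_symm h𝒳 h𝒳' φ z₁ z').2 h₁)
    ((corr_symm h𝒳 h𝒳' φ z₂ z').2 h₂)

/-- The bijection on points induced by an `FIso`. -/
noncomputable def ptsEquiv (h𝒳 : IsFibGrpd 𝒳.p) (h𝒳' : IsFibGrpd 𝒳'.p) (φ : FIso 𝒳 𝒳') :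
    Points 𝒳 ≃ Points 𝒳' where
  toFun z := (corr_total φ z).choose
  invFun z' := (corr_cototal h𝒳 h𝒳' φ z').choose
  left_inv z := corr_injective h𝒳 h𝒳' φ (corr_cototal h𝒳 h𝒳' φ _).choose_spec
    (corr_total φ z).choose_spec
  right_inv z' := corr_functional h𝒳 φ (corr_total φ _).choose_spec
    (corr_cototal h𝒳 h𝒳' φ z').choose_spec

theorem corr_ptsEquiv (h𝒳 : IsFibGrpd 𝒳.p) (h𝒳' : IsFibGrpd 𝒳'.p) (φ : FIso 𝒳 𝒳')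
    (z : Points 𝒳) : Corr φ z (ptsEquiv h𝒳 h𝒳' φ z) := (corr_total φ z).choose_spec

theorem ptsEquiv_eq_iff (h𝒳 : IsFibGrpd 𝒳.p) (h𝒳' : IsFibGrpd 𝒳'.p) (φ : FIso 𝒳 𝒳')
    (z : Points 𝒳) (z' : Points 𝒳') : ptsEquiv h𝒳 h𝒳' φ z = z' ↔ Corr φ z z' :=
  ⟨fun h => h ▸ corr_ptsEquiv h𝒳 h𝒳' φ z,
    fun h => corr_functional h𝒳 φ (corr_ptsEquiv h𝒳 h𝒳' φ z) h⟩

/-- Corresponding charts induce corresponding points. -/
theorem corr_ofChart (h𝒳' : IsFibGrpd 𝒳'.p) (φ : FIso 𝒳 𝒳') {U : Over S}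
    (x : overCat U ⥤ᵇ 𝒳) (x' : overCat U ⥤ᵇ 𝒳') (h : φ.toEquiv U (objCls x) = objCls x')
    (t : ↥U.left) : Corr φ (Points.ofChart x t) (Points.ofChart x' t) := by
  let str : Spec (CommRingCat.of ↥(U.left.residueField t)) ⟶ S :=
    U.left.fromSpecResidueField t ≫ U.hom
  let a : Over U := Over.mk (Over.homMk (U.left.fromSpecResidueField t) rfl : Over.mk str ⟶ U)
  let aF : (overCat U).p.Fiber (Over.mk str) := ⟨a, rfl⟩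
  have hc := comm_chart h𝒳' φ x x' h (Over.mk str) (cls aF)
  rw [mapCls_cls, mapCls_cls] at hc
  exact ⟨↥(U.left.residueField t), inferInstance, str, _, _, hc, rfl, rfl⟩

/-- Compatibility of the correspondences with the maps on points for an `FIsoSq`. -/
theorem corr_map {𝒴 𝒴' : AlgSt.Cat S} (f : 𝒳 ⥤ᵇ 𝒴) (f' : 𝒳' ⥤ᵇ 𝒴') (φ : FIsoSq f f')
    {z : Points 𝒳} {z' : Points 𝒳'} (h : Corr φ.src z z') :
    Corr φ.tgt (Points.map f z) (Points.map f' z') := by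
  obtain ⟨K, hK, str, x, x', e, rfl, rfl⟩ := h
  refine ⟨K, hK, str, ⟨f.obj x.1, (f.w_obj x.1).trans x.2⟩, ⟨f'.obj x'.1, (f'.w_obj x'.1).trans x'.2⟩,
    ?_, rfl, rfl⟩
  have := φ.comm (Over.mk str) (cls x)
  rw [e, mapCls_cls, mapCls_cls] at this
  exact this

end Corr

section Homeo

variable {𝒳 𝒳' : AlgSt.Cat S}

/-- The bijection on points induced by an `FIso` is an open map. -/
theorem isOpenMap_ptsEquiv (h𝒳 : IsFibGrpd 𝒳.p) (h𝒳' : IsFibGrpd 𝒳'.p)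
    (hat : AlgSt.HasAtlas (AlgSp.LocP @Smooth) 𝒳) (φ : FIso 𝒳 𝒳') :
    IsOpenMap (ptsEquiv h𝒳 h𝒳' φ) := by
  intro T hT
  rw [Points.isOpen_iff]
  intro U x' _
  obtain ⟨x, hx⟩ := exists_functor_of_cls h𝒳 ((φ.toEquiv U).symm (objCls x'))
  have hx' : φ.toEquiv U (objCls x) = objCls x' := by rw [hx, Equiv.apply_symm_apply]
  have hpre : Points.ofChart x' ⁻¹' (ptsEquiv h𝒳 h𝒳' φ '' T) = Points.ofChart x ⁻¹' T := by
    ext t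
    have hc := corr_ofChart h𝒳' φ x x' hx' t
    have he : ptsEquiv h𝒳 h𝒳' φ (Points.ofChart x t) = Points.ofChart x' t :=
      (ptsEquiv_eq_iff h𝒳 h𝒳' φ _ _).2 hc
    simp only [Set.mem_preimage]
    rw [← he, (ptsEquiv h𝒳 h𝒳' φ).injective.mem_set_image]
  rw [hpre]
  exact (Groth.Agent.Lib.helper4.AlgStPts.continuous_ofChart h𝒳 hat x).isOpen_preimage T hT

theorem ptsEquiv_symm (h𝒳 : IsFibGrpd 𝒳.p) (h𝒳' : IsFibGrpd 𝒳'.p) (φ : FIso 𝒳 𝒳') :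
    (ptsEquiv h𝒳 h𝒳' φ).symm = ptsEquiv h𝒳' h𝒳 (fIsoSymm h𝒳 h𝒳' φ) := by
  ext z'
  symm
  rw [ptsEquiv_eq_iff, corr_symm, ← ptsEquiv_eq_iff h𝒳 h𝒳' φ, Equiv.apply_symm_apply]

/-- The homeomorphism on points induced by an `FIso` of algebraic stacks. -/
noncomputable def ptsHomeo (h𝒳 : IsFibGrpd 𝒳.p) (h𝒳' : IsFibGrpd 𝒳'.p)
    (hat : AlgSt.HasAtlas (AlgSp.LocP @Smooth) 𝒳) (hat' : AlgSt.HasAtlas (AlgSp.LocP @Smooth) 𝒳')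
    (φ : FIso 𝒳 𝒳') : Points 𝒳 ≃ₜ Points 𝒳' where
  toEquiv := ptsEquiv h𝒳 h𝒳' φ
  continuous_toFun := by
    have h := isOpenMap_ptsEquiv h𝒳' h𝒳 hat' (fIsoSymm h𝒳 h𝒳' φ)
    rw [← ptsEquiv_symm] at h
    rw [continuous_def]
    intro O hO
    have := h O hO
    rwa [Equiv.image_symm_eq_preimage] at this
  continuous_invFun := by
    have h := isOpenMap_ptsEquiv h𝒳 h𝒳' hat φ
    rw [continuous_def]
    intro O hO
    have := h O hO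
    rwa [Equiv.image_eq_preimage_symm] at this

theorem ptsHomeo_apply (h𝒳 : IsFibGrpd 𝒳.p) (h𝒳' : IsFibGrpd 𝒳'.p)
    (hat : AlgSt.HasAtlas (AlgSp.LocP @Smooth) 𝒳) (hat' : AlgSt.HasAtlas (AlgSp.LocP @Smooth) 𝒳')
    (φ : FIso 𝒳 𝒳') (z : Points 𝒳) :
    ptsHomeo h𝒳 h𝒳' hat hat' φ z = ptsEquiv h𝒳 h𝒳' φ z := rfl

/-- The homeomorphisms on points of an `FIsoSq` commute with the maps on points. -/
theorem ptsEquiv_map {𝒴 𝒴' : AlgSt.Cat S} (h𝒳 : IsFibGrpd 𝒳.p) (h𝒳' : IsFibGrpd 𝒳'.p)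
    (h𝒴 : IsFibGrpd 𝒴.p) (h𝒴' : IsFibGrpd 𝒴'.p) (f : 𝒳 ⥤ᵇ 𝒴) (f' : 𝒳' ⥤ᵇ 𝒴') (φ : FIsoSq f f')
    (z : Points 𝒳) :
    ptsEquiv h𝒴 h𝒴' φ.tgt (Points.map f z) = Points.map f' (ptsEquiv h𝒳 h𝒳' φ.src z) :=
  (ptsEquiv_eq_iff h𝒴 h𝒴' φ.tgt _ _).2 (corr_map f f' φ (corr_ptsEquiv h𝒳 h𝒳' φ.src z))

end Homeo

end Groth.Agent.Lib.helper4.AlgStIsoNatPts
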