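import Groth.Agent.Lib.Helper4.AlgStGrpdSq
import Groth.Agent.Lib.Helper1.QGlue
set_option autoImplicit false
set_option backward.isDefEq.respectTransparency false
set_option backward.isDefEq.respectTransparency.types false
set_option linter.unusedSectionVars false
set_option linter.style.haveILetI false
set_option linter.unusedVariables false
open CategoryTheory CategoryTheory.Functor CategoryTheory.Limits Opposite AlgebraicGeometry
universe u

/-! The largest open substack on which a morphism representable by algebraic spaces has a property `P`, for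
abstract properties `P`, `Q`, `R` of morphisms of algebraic spaces (helper4). -/

namespace Groth.Agent.Lib.helper4.AlgStLargestP
open Groth.Agent.FibEquiv Groth.Agent.FibYoneda FibCat Groth.Agent.Lib.helper4.FibPaste
open Groth.Agent.Lib.helper4.AlgStEquiv Groth.Agent.Lib.helper4.AlgStRep
open Groth.Agent.Lib.helper4.AlgStSetoid Groth.Agent.FibFpProj Groth.Agent.Lib.helper4.FibRep
open Groth.Agent.Lib.helper4.AlgStFpAlg Groth.Agent.Lib.helper4.AlgStDM Groth.Agent.Lib.helper4.AlgStSelf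
open Groth.Agent.Lib.helper4.AlgStPts Groth.Agent.Lib.helper4.FibSwap Groth.Agent.Lib.helper4.AlgStSmLoc
open Groth.Agent.Lib.helper4.AlgStQC Groth.Agent.Lib.helper4.PshDict Groth.Agent.Lib.helper4.PshRep
open Groth.Agent.Lib.helper4.PshPB Groth.Agent.Lib.helper4.AlgStQCMor Groth.Agent.Lib.helper4.PointsBasic
open Groth.Agent.Lib.helper4.AlgStDescent Groth.Agent.Lib.helper4.AlgStCoreA
open Groth.Agent.Lib.helper4.AlgStSource Groth.Agent.Lib.helper4.AlgStGraph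
open Groth.Agent.Lib.helper4.AlgStLocQ Groth.Agent.Lib.helper4.StkSub Groth.Agent.Lib.helper4.FibLiftIso
open Groth.Agent.Lib.helper4.FibGrpdSq Groth.Agent.Lib.helper4.AlgStGrpdSq
open Groth.Agent.Lib.helper4.AlgStOpenSub
open Stk AlgSt

variable {S : Scheme.{u}}

/-- the identification of the category of `h_U` with the slice is an equivalence over the base -/
theorem toOverCat_isEquivOver (U : Over S) : IsEquivOver (AlgSt.toOverCat U) :=
  ⟨AlgSt.ofOverCat U, ⟨Iso.refl _⟩, ⟨Iso.refl _⟩⟩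

theorem spMapOfOver_toOverCat (U : Over S) : AlgSt.spMapOfOver (AlgSt.toOverCat U) = 𝟙 _ := by
  apply ObjectProperty.hom_ext
  ext T x
  apply ULift.ext
  change AlgSt.secHom (AlgSt.toOverCat U) ⟨T.unop, x⟩ = x.down
  simp [AlgSt.secHom, AlgSt.toOverCat]

/-- functors from the category of a sheaf to a slice with the same map of sheaves are isomorphic -/
theorem iso_of_spMapOfOver_eq {F : AlgSp.Sp S} {U : Over S} (Φ Ψ : AlgSt.ofSp F ⥤ᵇ overCat U)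
    (h : AlgSt.spMapOfOver Φ = AlgSt.spMapOfOver Ψ) : Nonempty (Φ ≅ Ψ) := by
  apply iso_of_comp_equiv _ _ (toYon.{u + 1} U) (toYon_isEquivOver U)
  exact isoOfPshMapOfEq (by rw [← spMapOfOver_hom, ← spMapOfOver_hom, h])

/-- the range of the map on points of the category of a sheaf, in terms of the points of the sheaf -/
theorem mem_range_ofSpMap_iff {F G : AlgSp.Sp S} (a : F ⟶ G) (x : AlgSt.Points (AlgSt.ofSp G)) :
    x ∈ Set.range (AlgSt.Points.map (AlgSt.ofSpMap a)) ↔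
      ptsEquiv G x ∈ Set.range (AlgSp.Points.map a) := by
  constructor
  · rintro ⟨z, rfl⟩
    exact ⟨ptsEquiv F z, (ptsEquiv_map a z).symm⟩
  · rintro ⟨z', hz'⟩
    refine ⟨(ptsEquiv F).symm z', (ptsEquiv G).injective ?_⟩
    rw [ptsEquiv_map, Equiv.apply_symm_apply, hz']

/-- **Representability from representing data over a scheme**: a functor to a slice whose source is represented
by an algebraic space mapping to the scheme with `P` (stable under base change) is representable with `P` -/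
theorem repByAlgSpWith_of_repData {𝒜 : AlgSt.Cat S} (P : MorphismProperty (AlgSp.Sp S))
    (hPb : ∀ ⦃X₁ Y₁ X₂ Y₂ : AlgSp.Sp S⦄, AlgSp.IsAlgSpace X₁ → AlgSp.IsAlgSpace Y₁ → AlgSp.IsAlgSpace X₂ →
      AlgSp.IsAlgSpace Y₂ → ∀ (a : X₁ ⟶ Y₁) (b : Y₂ ⟶ Y₁) (a' : X₂ ⟶ Y₂) (b' : X₂ ⟶ X₁),
      IsPullback b' a' a b → P a → P a')
    {V : Over S} (g : 𝒜 ⥤ᵇ overCat V) (W₀ : AlgSp.Space S) (e₀ : AlgSt.ofSp W₀.obj ⥤ᵇ 𝒜)
    (he₀ : IsEquivOver e₀) (hP₀ : P (AlgSt.spMapOfOver (BasedFunctor.comp e₀ g))) :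
    AlgSt.RepByAlgSpWith P g := by
  have h1 : AlgSt.RepByAlgSpWith P (AlgSt.ofSpMap (AlgSt.spMapOfOver (BasedFunctor.comp e₀ g))) :=
    repByAlgSpWith_of_repBySpWith P _ (repBySpWith_of_stable P hPb W₀.property
      (AlgSp.IsAlgSpace.yon_obj V) _ hP₀)
  obtain ⟨i⟩ := iso_of_spMapOfOver_eq
    (BasedFunctor.comp (AlgSt.ofSpMap (AlgSt.spMapOfOver (BasedFunctor.comp e₀ g))) (AlgSt.toOverCat V))
    (BasedFunctor.comp e₀ g) (by
      rw [spMapOfOver_ofSpMap_comp, spMapOfOver_toOverCat, Category.comp_id])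
  exact (repByAlgSpWith_iff_of_square P g
    (AlgSt.ofSpMap (AlgSt.spMapOfOver (BasedFunctor.comp e₀ g))) e₀ (AlgSt.toOverCat V) he₀
    (toOverCat_isEquivOver V) i).2 h1

section Main

variable {𝒳 𝒴 : AlgSt.Cat S}

/-- **The largest open substack on which a representable morphism has `P`**, constructed from a smooth atlas of the
target: the largest open subspace `W` of the representing space `X` of `(Sch/V) ×_𝒴 𝒳` descends to an open
substack `Q₀` of `𝒳`, which is the largest one on which `f` has `P`; the points of `W` are those of `X` mapping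
into `Q₀`. -/
theorem exists_largest_of_atlas
    (h𝒳 : AlgSt.IsAlgStack Scheme.fppfPrecoverage 𝒳) (h𝒴 : AlgSt.IsAlgStack Scheme.fppfPrecoverage 𝒴)
    (P Q R : MorphismProperty (AlgSp.Sp S))
    (hPb : ∀ ⦃X₁ Y₁ X₂ Y₂ : AlgSp.Sp S⦄, AlgSp.IsAlgSpace X₁ → AlgSp.IsAlgSpace Y₁ → AlgSp.IsAlgSpace X₂ →
      AlgSp.IsAlgSpace Y₂ → ∀ (a : X₁ ⟶ Y₁) (b : Y₂ ⟶ Y₁) (a' : X₂ ⟶ Y₂) (b' : X₂ ⟶ X₁),
      IsPullback b' a' a b → P a → P a')
    (hQb : ∀ ⦃X₁ Y₁ X₂ Y₂ : AlgSp.Sp S⦄, AlgSp.IsAlgSpace X₁ → AlgSp.IsAlgSpace Y₁ → AlgSp.IsAlgSpace X₂ →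
      AlgSp.IsAlgSpace Y₂ → ∀ (a : X₁ ⟶ Y₁) (b : Y₂ ⟶ Y₁) (a' : X₂ ⟶ Y₂) (b' : X₂ ⟶ X₁),
      IsPullback b' a' a b → Q a → Q a')
    (hP : AlgSp.IsLocalOnBase AlgSp.IsFppfCover P) (hQ : AlgSp.IsLocalOnBase AlgSp.IsFppfCover Q)
    (h₂ : ∀ (X Y : AlgSp.Space S) (g : X ⟶ Y), AlgSp.LocP @Smooth g.hom → R g.hom)
    (h₄ : ∀ (X Y X' Y' : AlgSp.Space S) (f : X ⟶ Y) (g : Y' ⟶ Y) (f' : X' ⟶ Y') (g' : X' ⟶ X),
      IsPullback g'.hom f'.hom f.hom g.hom → Q f.hom → R g.hom →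
      ∀ (W : AlgSp.Space S) (w : W ⟶ X), (AlgSp.RepWith @IsOpenImmersion w.hom ∧ P (w ≫ f).hom ∧
          ∀ (W₁ : AlgSp.Space S) (w₁ : W₁ ⟶ X), AlgSp.RepWith @IsOpenImmersion w₁.hom → P (w₁ ≫ f).hom →
            ∃ k : W₁ ⟶ W, k ≫ w = w₁) →
        ∀ (W' : AlgSp.Space S) (w' : W' ⟶ X') (k : W' ⟶ W), IsPullback k.hom w'.hom w.hom g'.hom →
          (AlgSp.RepWith @IsOpenImmersion w'.hom ∧ P (w' ≫ f').hom ∧
          ∀ (W₁ : AlgSp.Space S) (w₁ : W₁ ⟶ X'), AlgSp.RepWith @IsOpenImmersion w₁.hom → P (w₁ ≫ f').hom →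
            ∃ k : W₁ ⟶ W', k ≫ w' = w₁))
    (f : 𝒳 ⥤ᵇ 𝒴) (hf : AlgSt.RepByAlgSpWith Q f)
    {V : Over S} (v : overCat V ⥤ᵇ 𝒴) (hv : AlgSt.RepByAlgSpWith (AlgSp.LocP @Smooth) v)
    (hvs : AlgSt.RepByAlgSpWith AlgSp.IsSurjectiveMor v)
    (X : AlgSp.Space S) (eX : AlgSt.ofSp X.obj ⥤ᵇ fp v f) (heX : IsEquivOver eX)
    (hQX : Q (AlgSt.spMapOfOver (BasedFunctor.comp eX (fpFst v f))))
    (W : AlgSp.Space S) (w : W ⟶ X)
    (hW : AlgSp.RepWith @IsOpenImmersion w.hom ∧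
      P (w ≫ (ObjectProperty.homMk (AlgSt.spMapOfOver (BasedFunctor.comp eX (fpFst v f))) :
        X ⟶ (⟨(AlgSp.yon S).obj V, AlgSp.IsAlgSpace.yon_obj V⟩ : AlgSp.Space S))).hom ∧
      ∀ (W₁ : AlgSp.Space S) (w₁ : W₁ ⟶ X), AlgSp.RepWith @IsOpenImmersion w₁.hom →
        P (w₁ ≫ (ObjectProperty.homMk (AlgSt.spMapOfOver (BasedFunctor.comp eX (fpFst v f))) :
          X ⟶ (⟨(AlgSp.yon S).obj V, AlgSp.IsAlgSpace.yon_obj V⟩ : AlgSp.Space S))).hom →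
        ∃ k : W₁ ⟶ W, k ≫ w = w₁) :
    ∃ Q₀ : 𝒳.obj → Prop, AlgSt.IsOpenSubstack 𝒳 Q₀ Scheme.fppfPrecoverage ∧
      AlgSt.RepByAlgSpWith P (BasedFunctor.comp (AlgSt.subIncl 𝒳 Q₀) f) ∧
      (∀ Q₁ : 𝒳.obj → Prop, AlgSt.IsOpenSubstack 𝒳 Q₁ Scheme.fppfPrecoverage →
        AlgSt.RepByAlgSpWith P (BasedFunctor.comp (AlgSt.subIncl 𝒳 Q₁) f) → ∀ y, Q₁ y → Q₀ y) ∧
      ∀ x : AlgSt.Points (AlgSt.ofSp X.obj), x ∈ Set.range (AlgSt.Points.map (AlgSt.ofSpMap w.hom)) ↔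
        AlgSt.Points.map (BasedFunctor.comp eX (fpSnd v f)) x ∈
          Set.range (AlgSt.Points.map (AlgSt.subIncl 𝒳 Q₀)) := by
  have hX := h𝒳.isStack.1
  have hY := h𝒴.isStack.1
  have hVf : IsFibGrpd (overCat V).p := Groth.Agent.FibOver.isFibGrpd_overCat V
  have hXf : IsFibGrpd (AlgSt.ofSp X.obj).p := isFibGrpd_ofPsh _
  have hWf : IsFibGrpd (AlgSt.ofSp W.obj).p := isFibGrpd_ofPsh _
  obtain ⟨hwoi, hwP, hwmax⟩ := hW
  let Yv : AlgSp.Space S := ⟨(AlgSp.yon S).obj V, AlgSp.IsAlgSpace.yon_obj V⟩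
  let fX : X ⟶ Yv := ObjectProperty.homMk (AlgSt.spMapOfOver (BasedFunctor.comp eX (fpFst v f)))
  have hvflat : AlgSt.RepByAlgSpWith (AlgSp.LocP @Flat) v :=
    Groth.Agent.Lib.helper4.AlgStCancel.repByAlgSpWith_mono v
      (fun F T π hπ => Groth.Agent.S10265.locP_mono
        (fun X Y f hf => by have : Smooth f := hf; exact inferInstanceAs (Flat f)) hπ) hv
  have hvlfp : AlgSt.RepByAlgSpWith (AlgSp.LocP @LocallyOfFinitePresentation) v :=
    Groth.Agent.Lib.helper4.AlgStCancel.repByAlgSpWith_mono v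
      (fun F T π hπ => Groth.Agent.S10265.locP_mono
        (fun X Y f hf => by have : Smooth f := hf; exact inferInstanceAs (LocallyOfFinitePresentation f)) hπ) hv
  have ha : AlgSt.RepByAlgSpWith (AlgSp.LocP @Smooth) (BasedFunctor.comp eX (fpSnd v f)) :=
    (repByAlgSpWith_precomp_iff _ (fpSnd v f) eX heX).1 (repByAlgSpWith_fpSnd hX hY hVf _ v f hv)
  have has : AlgSt.RepByAlgSpWith AlgSp.IsSurjectiveMor (BasedFunctor.comp eX (fpSnd v f)) :=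
    (repByAlgSpWith_precomp_iff _ (fpSnd v f) eX heX).1 (repByAlgSpWith_fpSnd hX hY hVf _ v f hvs)
  -- the groupoid of the atlas
  obtain ⟨Z, eZ, heZ, hc₁⟩ := hv V v
  have hc₂ : AlgSp.LocP @Smooth (AlgSt.spMapOfOver (BasedFunctor.comp eZ (fpSnd v v))) := by
    obtain ⟨j, hj⟩ := change_rep (fpFst v v) (BasedFunctor.comp eZ (fpSwap v v)) eZ
      (isEquivOver_comp _ _ heZ (fpSwap_isEquivOver v v)) heZ
    have h1 : AlgSt.spMapOfOver (BasedFunctor.comp eZ (fpSnd v v)) =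
        j.hom ≫ AlgSt.spMapOfOver (BasedFunctor.comp eZ (fpFst v v)) := hj
    rw [h1]
    exact locP_iso_comp j _ hc₁
  obtain ⟨T, eT', heT', -⟩ := coreA hX hY Q (isoInv_of_baseChange Q hQb) hQ f hf Z
    (BasedFunctor.comp eZ (BasedFunctor.comp (fpFst v v) v))
  obtain ⟨q₁, q₂, sq₁, sq₂, hpts⟩ := exists_groupoid_squares hX hY f v X eX heX Z eZ heZ T eT' heT'
  let c₁' : Z ⟶ Yv := ObjectProperty.homMk (AlgSt.spMapOfOver (BasedFunctor.comp eZ (fpFst v v)))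
  let c₂' : Z ⟶ Yv := ObjectProperty.homMk (AlgSt.spMapOfOver (BasedFunctor.comp eZ (fpSnd v v)))
  let p' : T ⟶ Z := ObjectProperty.homMk (ObjectProperty.homMk (pshMapOf (BasedFunctor.comp eT'
    (fpFst (BasedFunctor.comp eZ (BasedFunctor.comp (fpFst v v) v)) f))))
  let q₁' : T ⟶ X := ObjectProperty.homMk q₁
  let q₂' : T ⟶ X := ObjectProperty.homMk q₂
  have hR₁ : R c₁'.hom := h₂ Z Yv c₁' hc₁
  have hR₂ : R c₂'.hom := h₂ Z Yv c₂' hc₂
  -- the two inverse images of `W`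
  have sqW₁ : IsPullback (pullback.fst w.hom q₁) (pullback.snd w.hom q₁) w.hom q₁ :=
    IsPullback.of_hasPullback _ _
  have sqW₂ : IsPullback (pullback.fst w.hom q₂) (pullback.snd w.hom q₂) w.hom q₂ :=
    IsPullback.of_hasPullback _ _
  have hW₁ : AlgSp.IsAlgSpace (pullback w.hom q₁) :=
    Groth.Agent.Lib.helper5.isAlgSpace_of_isPullback X.property.diag W.property T.property sqW₁
  have hW₂ : AlgSp.IsAlgSpace (pullback w.hom q₂) :=
    Groth.Agent.Lib.helper5.isAlgSpace_of_isPullback X.property.diag W.property T.property sqW₂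
  let W₁' : AlgSp.Space S := ⟨pullback w.hom q₁, hW₁⟩
  let W₂' : AlgSp.Space S := ⟨pullback w.hom q₂, hW₂⟩
  let w₁' : W₁' ⟶ T := ObjectProperty.homMk (pullback.snd w.hom q₁)
  let w₂' : W₂' ⟶ T := ObjectProperty.homMk (pullback.snd w.hom q₂)
  have L₁ := h₄ X Yv T Z fX c₁' p' q₁' sq₁ hQX hR₁ W w ⟨hwoi, hwP, hwmax⟩ W₁' w₁'
    (ObjectProperty.homMk (pullback.fst w.hom q₁)) sqW₁
  have L₂ := h₄ X Yv T Z fX c₂' p' q₂' sq₂ hQX hR₂ W w ⟨hwoi, hwP, hwmax⟩ W₂' w₂'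
    (ObjectProperty.homMk (pullback.fst w.hom q₂)) sqW₂
  obtain ⟨k₁₂, hk₁₂⟩ := L₁.2.2 W₂' w₂' L₂.1 L₂.2.1
  obtain ⟨k₂₁, hk₂₁⟩ := L₂.2.2 W₁' w₁' L₁.1 L₁.2.1
  have hrange : Set.range (AlgSp.Points.map (pullback.snd w.hom q₁)) =
      Set.range (AlgSp.Points.map (pullback.snd w.hom q₂)) := by
    apply Set.Subset.antisymm
    · rintro _ ⟨z, rfl⟩
      refine ⟨AlgSp.Points.map k₂₁.hom z, ?_⟩
      rw [← AlgSp.Points.map_comp]
      exact congrArg (fun m => AlgSp.Points.map m z) (congrArg (fun m : W₁' ⟶ T => m.hom) hk₂₁)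
    · rintro _ ⟨z, rfl⟩
      refine ⟨AlgSp.Points.map k₁₂.hom z, ?_⟩
      rw [← AlgSp.Points.map_comp]
      exact congrArg (fun m => AlgSp.Points.map m z) (congrArg (fun m : W₂' ⟶ T => m.hom) hk₁₂)
  -- saturation
  have hsat : ∀ x x' : AlgSt.Points (AlgSt.ofSp X.obj),
      AlgSt.Points.map (BasedFunctor.comp eX (fpSnd v f)) x =
        AlgSt.Points.map (BasedFunctor.comp eX (fpSnd v f)) x' →
      x' ∈ Set.range (AlgSt.Points.map (AlgSt.ofSpMap w.hom)) →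
      x ∈ Set.range (AlgSt.Points.map (AlgSt.ofSpMap w.hom)) := by
    intro x x' hxx' hx'
    obtain ⟨t₀, ht₁, ht₂⟩ := hpts x x' hxx'
    rw [mem_range_ofSpMap_iff] at hx' ⊢
    rw [← ht₂, ptsEquiv_map] at hx'
    rw [← ht₁, ptsEquiv_map]
    have r₁ := Groth.Agent.H1.QGlue.range_fst_of_isPullback sqW₁.flip
    have r₂ := Groth.Agent.H1.QGlue.range_fst_of_isPullback sqW₂.flip
    have h3 : ptsEquiv T.obj t₀ ∈ AlgSp.Points.map q₂ ⁻¹' Set.range (AlgSp.Points.map w.hom) := hx'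
    rw [← r₂, ← hrange, r₁] at h3
    exact h3
  -- the open substack
  have hwsm : AlgSt.RepByAlgSpWith (AlgSp.LocP @Smooth) (AlgSt.ofSpMap w.hom) :=
    smooth_ofSpMap W.property X.property w.hom
      (Groth.Agent.S10265.locP_mono (fun X Y f hf => by have : Etale f := hf; exact inferInstanceAs (Smooth f))
        (Groth.Agent.S10265.locP_etale_of_isEtaleMor w.hom
          (Groth.Agent.Lib.helper5.LargestOpen.isEtaleMor_of_oi w.hom hwoi)))
  have hcomp : AlgSt.RepByAlgSpWith (AlgSp.LocP @Smooth)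
      (BasedFunctor.comp (AlgSt.ofSpMap w.hom) (BasedFunctor.comp eX (fpSnd v f))) :=
    smooth_comp hWf hXf hX _ _ hwsm ha
  obtain ⟨T₀, g₀, hT₀open, hT₀eq, -, -, -⟩ := exists_image_of_smooth h𝒳 W
    (BasedFunctor.comp (AlgSt.ofSpMap w.hom) (BasedFunctor.comp eX (fpSnd v f))) hcomp
  have hQ₀ := isOpenSubstack_QT h𝒳 T₀ hT₀open
  have hkey : ∀ x : AlgSt.Points (AlgSt.ofSp X.obj),
      x ∈ Set.range (AlgSt.Points.map (AlgSt.ofSpMap w.hom)) ↔
        AlgSt.Points.map (BasedFunctor.comp eX (fpSnd v f)) x ∈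
          Set.range (AlgSt.Points.map (AlgSt.subIncl 𝒳 (QT T₀))) := by
    intro x
    rw [range_subIncl_QT, hT₀eq]
    constructor
    · rintro ⟨u, rfl⟩
      exact ⟨u, map_comp _ _ u⟩
    · rintro ⟨u, hu⟩
      rw [map_comp] at hu
      exact hsat x _ hu.symm ⟨u, rfl⟩
  refine ⟨QT T₀, hQ₀, ?_, ?_, hkey⟩
  · -- `P` on the open substack
    have hsubf : IsFibGrpd (AlgSt.fullSub 𝒳 (QT T₀)).p := hQ₀.2.1.isStack.1
    obtain ⟨W₀, w₀, e₀, hoi₀, he₀, hsp₀, hpts₀⟩ :=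
      exists_rep_restrict hX hsubf f v X eX heX (AlgSt.subIncl 𝒳 (QT T₀)) hQ₀.2.2
    have hr : Set.range (AlgSp.Points.map w₀.hom) = Set.range (AlgSp.Points.map w.hom) := by
      ext x
      have h1 := mem_range_ofSpMap_iff w₀.hom ((ptsEquiv X.obj).symm x)
      have h2 := mem_range_ofSpMap_iff w.hom ((ptsEquiv X.obj).symm x)
      rw [Equiv.apply_symm_apply] at h1 h2
      rw [← h1, ← h2, hpts₀, hkey]
    obtain ⟨φ, hφiso, hφ⟩ := Groth.Agent.H1.QGlue.exists_iso_of_range_eq w₀.hom w.hom hoi₀ hwoi hr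
    have hP₀ : P (AlgSt.spMapOfOver (BasedFunctor.comp e₀
        (fpFst v (BasedFunctor.comp (AlgSt.subIncl 𝒳 (QT T₀)) f)))) := by
      rw [hsp₀, ← hφ, Category.assoc]
      haveI := hφiso
      exact hPb W.property (AlgSp.IsAlgSpace.yon_obj V) W₀.property (AlgSp.IsAlgSpace.yon_obj V)
        (w.hom ≫ fX.hom) (𝟙 _) _ φ (IsPullback.of_horiz_isIso ⟨by rw [Category.comp_id]; rfl⟩) hwP
    have h' : AlgSt.RepByAlgSpWith P (fpFst v (BasedFunctor.comp (AlgSt.subIncl 𝒳 (QT T₀)) f)) :=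
      repByAlgSpWith_of_repData P hPb _ W₀ e₀ he₀ hP₀
    have hrep : AlgSt.RepByAlgSp1 (BasedFunctor.comp (AlgSt.subIncl 𝒳 (QT T₀)) f) :=
      repByAlgSp1_comp hsubf hX hY _ _ (repByAlgSp1_of_repByAlgSpWith hQ₀.2.2)
        (repByAlgSp1_of_repByAlgSpWith hf)
    exact descent hsubf hY hVf P hPb hP _ hrep v hvflat hvlfp hvs h'
  · -- maximality
    intro Q₁ hQ₁ hP₁
    rw [le_iff_range_subset h𝒳 Q₁ (QT T₀) hQ₁ hQ₀]
    have hsub₁ : IsFibGrpd (AlgSt.fullSub 𝒳 Q₁).p := hQ₁.2.1.isStack.1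
    obtain ⟨W₁, w₁, e₁, hoi₁, he₁, hsp₁, hpts₁⟩ :=
      exists_rep_restrict hX hsub₁ f v X eX heX (AlgSt.subIncl 𝒳 Q₁) hQ₁.2.2
    obtain ⟨F, e, he, hPF⟩ := hP₁ V v
    obtain ⟨j, hj⟩ := change_rep (fpFst v (BasedFunctor.comp (AlgSt.subIncl 𝒳 Q₁) f)) e₁ e he₁ he
    have hPw₁ : P (w₁ ≫ fX).hom := by
      change P (w₁.hom ≫ AlgSt.spMapOfOver (BasedFunctor.comp eX (fpFst v f)))
      rw [← hsp₁, hj]
      exact hPb F.property (AlgSp.IsAlgSpace.yon_obj V) W₁.property (AlgSp.IsAlgSpace.yon_obj V)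
        _ (𝟙 _) _ j.hom (IsPullback.of_horiz_isIso ⟨by simp⟩) hPF
    obtain ⟨k, hk⟩ := hwmax W₁ w₁ hoi₁ hPw₁
    rintro p ⟨u, rfl⟩
    obtain ⟨x, hx⟩ := isSurjective_of_repByAlgSpWith hX (BasedFunctor.comp eX (fpSnd v f)) has
      (AlgSt.Points.map (AlgSt.subIncl 𝒳 Q₁) u)
    have hx₁ : x ∈ Set.range (AlgSt.Points.map (AlgSt.ofSpMap w₁.hom)) := (hpts₁ x).2 ⟨u, hx.symm⟩
    have hxW : x ∈ Set.range (AlgSt.Points.map (AlgSt.ofSpMap w.hom)) := by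
      obtain ⟨z, rfl⟩ := hx₁
      refine ⟨AlgSt.Points.map (AlgSt.ofSpMap k.hom) z, ?_⟩
      rw [← PointsBasic.map_comp]
      have h5 : BasedFunctor.comp (AlgSt.ofSpMap k.hom) (AlgSt.ofSpMap w.hom) = AlgSt.ofSpMap w₁.hom := by
        rw [← hk]
        rfl
      rw [h5]
    rw [← hx]
    exact (hkey x).1 hxW

end Main

end Groth.Agent.Lib.helper4.AlgStLargestP
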