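import Groth.Agent.Lib.Helper4.AlgStGrpdSqSp
set_option autoImplicit false
set_option backward.isDefEq.respectTransparency false
set_option backward.isDefEq.respectTransparency.types false
set_option linter.unusedSectionVars false
set_option linter.style.haveILetI false
set_option linter.unusedVariables false
open CategoryTheory CategoryTheory.Functor CategoryTheory.Limits Opposite AlgebraicGeometry
universe u

/-! The largest open substack on which a representable morphism has `P` is compatible with base change along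
morphisms with `R` (abstract `P`, `Q`, `R`) (helper4). -/

namespace Groth.Agent.Lib.helper4.AlgStLargestPBC
open Groth.Agent.FibEquiv Groth.Agent.FibYoneda FibCat Groth.Agent.Lib.helper4.FibPaste
open Groth.Agent.Lib.helper4.AlgStEquiv Groth.Agent.Lib.helper4.AlgStRep
open Groth.Agent.Lib.helper4.AlgStSetoid Groth.Agent.FibFpProj Groth.Agent.Lib.helper4.FibRep
open Groth.Agent.Lib.helper4.AlgStFpAlg Groth.Agent.Lib.helper4.AlgStDM Groth.Agent.Lib.helper4.AlgStSelf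
open Groth.Agent.Lib.helper4.AlgStPts Groth.Agent.Lib.helper4.FibSwap Groth.Agent.Lib.helper4.AlgStSmLoc
open Groth.Agent.Lib.helper4.AlgStQC Groth.Agent.Lib.helper4.PshDict Groth.Agent.Lib.helper4.PshRep
open Groth.Agent.Lib.helper4.PshPB Groth.Agent.Lib.helper4.AlgStQCMor Groth.Agent.Lib.helper4.PointsBasic
open Groth.Agent.Lib.helper4.AlgStDescent Groth.Agent.Lib.helper4.AlgStCoreA
open Groth.Agent.Lib.helper4.AlgStSource Groth.Agent.Lib.helper4.AlgStGraph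
open Groth.Agent.Lib.helper4.AlgStLocQ Groth.Agent.Lib.helper4.StkSub Groth.Agent.Lib.helper4.FibLiftIso
open Groth.Agent.Lib.helper4.FibGrpdSq Groth.Agent.Lib.helper4.AlgStGrpdSq
open Groth.Agent.Lib.helper4.AlgStOpenSub Groth.Agent.Lib.helper4.AlgStLargestP
open Groth.Agent.Lib.helper4.AlgStGrpdSqSp
open Stk AlgSt

variable {S : Scheme.{u}}

theorem largest_baseChange {𝒳 𝒴 𝒵 : AlgSt.Cat S}
    (h𝒳 : AlgSt.IsAlgStack Scheme.fppfPrecoverage 𝒳) (h𝒴 : AlgSt.IsAlgStack Scheme.fppfPrecoverage 𝒴)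
    (h𝒵 : AlgSt.IsAlgStack Scheme.fppfPrecoverage 𝒵)
    (P Q R : MorphismProperty (AlgSp.Sp S))
    (hPb : ∀ ⦃X₁ Y₁ X₂ Y₂ : AlgSp.Sp S⦄, AlgSp.IsAlgSpace X₁ → AlgSp.IsAlgSpace Y₁ → AlgSp.IsAlgSpace X₂ →
      AlgSp.IsAlgSpace Y₂ → ∀ (a : X₁ ⟶ Y₁) (b : Y₂ ⟶ Y₁) (a' : X₂ ⟶ Y₂) (b' : X₂ ⟶ X₁),
      IsPullback b' a' a b → P a → P a')
    (hQb : ∀ ⦃X₁ Y₁ X₂ Y₂ : AlgSp.Sp S⦄, AlgSp.IsAlgSpace X₁ → AlgSp.IsAlgSpace Y₁ → AlgSp.IsAlgSpace X₂ →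
      AlgSp.IsAlgSpace Y₂ → ∀ (a : X₁ ⟶ Y₁) (b : Y₂ ⟶ Y₁) (a' : X₂ ⟶ Y₂) (b' : X₂ ⟶ X₁),
      IsPullback b' a' a b → Q a → Q a')
    (hRb : ∀ ⦃X₁ Y₁ X₂ Y₂ : AlgSp.Sp S⦄, AlgSp.IsAlgSpace X₁ → AlgSp.IsAlgSpace Y₁ → AlgSp.IsAlgSpace X₂ →
      AlgSp.IsAlgSpace Y₂ → ∀ (a : X₁ ⟶ Y₁) (b : Y₂ ⟶ Y₁) (a' : X₂ ⟶ Y₂) (b' : X₂ ⟶ X₁),
      IsPullback b' a' a b → R a → R a')
    (hP : AlgSp.IsLocalOnBase AlgSp.IsFppfCover P) (hQ : AlgSp.IsLocalOnBase AlgSp.IsFppfCover Q)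
    (hR : AlgSp.IsLocalOnBase AlgSp.IsFppfCover R)
    (h₂ : ∀ (X Y : AlgSp.Space S) (g : X ⟶ Y), AlgSp.LocP @Smooth g.hom → R g.hom)
    (h₃ : ∀ (X Y : AlgSp.Space S) (f : X ⟶ Y), Q f.hom →
      ∃ (W : AlgSp.Space S) (w : W ⟶ X), (AlgSp.RepWith @IsOpenImmersion w.hom ∧ P (w ≫ f).hom ∧
          ∀ (W₁ : AlgSp.Space S) (w₁ : W₁ ⟶ X), AlgSp.RepWith @IsOpenImmersion w₁.hom → P (w₁ ≫ f).hom →
            ∃ k : W₁ ⟶ W, k ≫ w = w₁))
    (h₄ : ∀ (X Y X' Y' : AlgSp.Space S) (f : X ⟶ Y) (g : Y' ⟶ Y) (f' : X' ⟶ Y') (g' : X' ⟶ X),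
      IsPullback g'.hom f'.hom f.hom g.hom → Q f.hom → R g.hom →
      ∀ (W : AlgSp.Space S) (w : W ⟶ X), (AlgSp.RepWith @IsOpenImmersion w.hom ∧ P (w ≫ f).hom ∧
          ∀ (W₁ : AlgSp.Space S) (w₁ : W₁ ⟶ X), AlgSp.RepWith @IsOpenImmersion w₁.hom → P (w₁ ≫ f).hom →
            ∃ k : W₁ ⟶ W, k ≫ w = w₁) →
        ∀ (W' : AlgSp.Space S) (w' : W' ⟶ X') (k : W' ⟶ W), IsPullback k.hom w'.hom w.hom g'.hom →
          (AlgSp.RepWith @IsOpenImmersion w'.hom ∧ P (w' ≫ f').hom ∧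
          ∀ (W₁ : AlgSp.Space S) (w₁ : W₁ ⟶ X'), AlgSp.RepWith @IsOpenImmersion w₁.hom → P (w₁ ≫ f').hom →
            ∃ k : W₁ ⟶ W', k ≫ w' = w₁))
    (f : 𝒳 ⥤ᵇ 𝒴) (hf : AlgSt.RepByAlgSpWith Q f)
    (Q₀ : 𝒳.obj → Prop) (hQ₀ : AlgSt.IsOpenSubstack 𝒳 Q₀ Scheme.fppfPrecoverage)
    (hQ₀P : AlgSt.RepByAlgSpWith P (BasedFunctor.comp (AlgSt.subIncl 𝒳 Q₀) f))
    (hQ₀max : ∀ Q₁ : 𝒳.obj → Prop, AlgSt.IsOpenSubstack 𝒳 Q₁ Scheme.fppfPrecoverage →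
      AlgSt.RepByAlgSpWith P (BasedFunctor.comp (AlgSt.subIncl 𝒳 Q₁) f) → ∀ y, Q₁ y → Q₀ y)
    (z : 𝒵 ⥤ᵇ 𝒴) (hz : AlgSt.RepByAlgSpWith R z) :
    AlgSt.IsOpenSubstack (FibCat.fp z f) (fun b ↦ Q₀ b.obj.snd) Scheme.fppfPrecoverage ∧
      AlgSt.RepByAlgSpWith P
        (BasedFunctor.comp (AlgSt.subIncl (FibCat.fp z f) fun b ↦ Q₀ b.obj.snd) (FibCat.fpFst z f)) ∧
        ∀ Q₁ : (FibCat.fp z f).obj → Prop, AlgSt.IsOpenSubstack (FibCat.fp z f) Q₁ Scheme.fppfPrecoverage →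
          AlgSt.RepByAlgSpWith P (BasedFunctor.comp (AlgSt.subIncl (FibCat.fp z f) Q₁) (FibCat.fpFst z f)) →
            ∀ b, Q₁ b → Q₀ b.obj.snd := by
  have hX := h𝒳.isStack.1
  have hY := h𝒴.isStack.1
  have hZ := h𝒵.isStack.1
  have h𝒫 : AlgSt.IsAlgStack Scheme.fppfPrecoverage (fp z f) := isAlgStack_fp' h𝒵 h𝒳 h𝒴 z f
  have hPf := h𝒫.isStack.1
  -- a smooth atlas of `𝒴`, from an algebraic space
  obtain ⟨V, v₀, hv₀, hv₀s⟩ := h𝒴.atlas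
  let B : AlgSp.Space S := ⟨(AlgSp.yon S).obj V, AlgSp.IsAlgSpace.yon_obj V⟩
  let v : AlgSt.ofSp B.obj ⥤ᵇ 𝒴 := BasedFunctor.comp (AlgSt.toOverCat V) v₀
  have hv : AlgSt.RepByAlgSpWith (AlgSp.LocP @Smooth) v :=
    (repByAlgSpWith_precomp_iff _ v₀ (AlgSt.toOverCat V) (toOverCat_isEquivOver V)).1 hv₀
  have hvs : AlgSt.RepByAlgSpWith AlgSp.IsSurjectiveMor v :=
    (repByAlgSpWith_precomp_iff _ v₀ (AlgSt.toOverCat V) (toOverCat_isEquivOver V)).1 hv₀s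
  have hBf : IsFibGrpd (AlgSt.ofSp B.obj).p := isFibGrpd_ofPsh _
  -- the chart of `f`
  obtain ⟨Xv, eXv, heXv, hQXv⟩ := coreA hX hY Q (isoInv_of_baseChange Q hQb) hQ f hf B v
  let fXv : Xv ⟶ B := ObjectProperty.homMk (ObjectProperty.homMk (pshMapOf (BasedFunctor.comp eXv (fpFst v f))))
  obtain ⟨Wv, wv, hWv⟩ := h₃ Xv B fXv hQXv
  obtain ⟨Q₀c, hc1, hc2, hc3, hc4⟩ := exists_largest_of_atlas' h𝒳 h𝒴 P Q R hPb hQb hP hQ h₂ h₄ f hf B v hv hvs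
    Xv eXv heXv hQXv Wv wv hWv
  have hQeq : Q₀c = Q₀ := funext fun y => propext ⟨hQ₀max Q₀c hc1 hc2 y, hc3 Q₀ hQ₀ hQ₀P y⟩
  rw [hQeq] at hc4
  -- the base change of the atlas to `𝒵`
  obtain ⟨Z', eZ', heZ', hRc⟩ := coreA hZ hY R (isoInv_of_baseChange R hRb) hR z hz B v
  let cZ : Z' ⟶ B := ObjectProperty.homMk (ObjectProperty.homMk (pshMapOf (BasedFunctor.comp eZ' (fpFst v z))))
  let u : AlgSt.ofSp Z'.obj ⥤ᵇ 𝒵 := BasedFunctor.comp eZ' (fpSnd v z)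
  have hu : AlgSt.RepByAlgSpWith (AlgSp.LocP @Smooth) u :=
    (repByAlgSpWith_precomp_iff _ (fpSnd v z) eZ' heZ').1 (repByAlgSpWith_fpSnd hZ hY hBf _ v z hv)
  have hus : AlgSt.RepByAlgSpWith AlgSp.IsSurjectiveMor u :=
    (repByAlgSpWith_precomp_iff _ (fpSnd v z) eZ' heZ').1 (repByAlgSpWith_fpSnd hZ hY hBf _ v z hvs)
  have hZ'f : IsFibGrpd (AlgSt.ofSp Z'.obj).p := isFibGrpd_ofPsh _
  -- the base change of `f`
  have hg : AlgSt.RepByAlgSpWith Q (fpFst z f) := Groth.Agent.S12779.result hX hY hZ Q f z hf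
  obtain ⟨X', eX', heX', hQX'⟩ := coreA hPf hZ Q (isoInv_of_baseChange Q hQb) hQ (fpFst z f) hg Z' u
  let fX' : X' ⟶ Z' := ObjectProperty.homMk (ObjectProperty.homMk (pshMapOf (BasedFunctor.comp eX'
    (fpFst u (fpFst z f)))))
  obtain ⟨W', w', hW'⟩ := h₃ X' Z' fX' hQX'
  obtain ⟨Qm, hm1, hm2, hm3, hm4⟩ := exists_largest_of_atlas' h𝒫 h𝒵 P Q R hPb hQb hP hQ h₂ h₄ (fpFst z f) hg Z' u
    hu hus X' eX' heX' hQX' W' w' hW'
  have has' : AlgSt.RepByAlgSpWith AlgSp.IsSurjectiveMor (BasedFunctor.comp eX' (fpSnd u (fpFst z f))) :=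
    (repByAlgSpWith_precomp_iff _ (fpSnd u (fpFst z f)) eX' heX').1
      (repByAlgSpWith_fpSnd hPf hZ hZ'f _ u (fpFst z f) hus)
  -- the cartesian square `X' = Z' ×_B X_v`
  let eT : AlgSt.ofSp X'.obj ⥤ᵇ fp (BasedFunctor.comp (fpFst v z) v) f :=
    BasedFunctor.comp eX' (BasedFunctor.comp (fpPrecomp eZ' (fpSnd v z) (fpFst z f))
      (BasedFunctor.comp (pasteL (fpSnd v z) z f)
        (fpMap (BasedFunctor.comp (fpSnd v z) z) (BasedFunctor.comp (fpFst v z) v) f f (BasedFunctor.id _)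
          (BasedFunctor.id _) (fpIso v z).symm (Iso.refl _))))
  have heT : IsEquivOver eT := isEquivOver_comp _ _ heX'
    (isEquivOver_comp _ _ (fpPrecomp_isEquivOver eZ' (fpSnd v z) (fpFst z f) heZ')
      (isEquivOver_comp _ _ (pasteL_isEquivOver (fpSnd v z) z f)
        (fpMap_isEquivOver _ _ _ _ _ _ _ _ (isEquivOver_id' _) (isEquivOver_id' _))))
  obtain ⟨q, sqA, hqpts⟩ := exists_square' f B v Xv eXv heXv (fpFst v z) Z' eZ' heZ' (E₁ f v (fpFst v z))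
    (E₁_isEquivOver f v (fpFst v z)) (fpFst (BasedFunctor.comp (fpFst v z) v) f) (Iso.refl _) X' eT heT
    (BasedFunctor.comp eX' (fpFst u (fpFst z f))) (Iso.refl _)
  have hcompat : ∀ x : AlgSt.Points (AlgSt.ofSp X'.obj),
      AlgSt.Points.map (BasedFunctor.comp eXv (fpSnd v f)) (AlgSt.Points.map (AlgSt.ofSpMap q) x) =
        AlgSt.Points.map (fpSnd z f) (AlgSt.Points.map (BasedFunctor.comp eX' (fpSnd u (fpFst z f))) x) := by
    intro x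
    obtain ⟨y₀, hy₀⟩ := (map_bijective_of_isEquivOver _ (E₁_isEquivOver f v (fpFst v z))).2
      (AlgSt.Points.map eT x)
    have h1 := hqpts x y₀ hy₀
    rw [PointsBasic.map_comp, h1, ← PointsBasic.map_comp]
    have e1 : BasedFunctor.comp (fpSnd (fpFst v z) (fpFst v f)) (fpSnd v f) =
        BasedFunctor.comp (E₁ f v (fpFst v z)) (fpSnd (BasedFunctor.comp (fpFst v z) v) f) := rfl
    rw [e1, PointsBasic.map_comp, hy₀, ← PointsBasic.map_comp, ← PointsBasic.map_comp]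
    rfl
  -- the inverse image of `W_v` is the largest open of `X' ⟶ Z'`
  let q' : X' ⟶ Xv := ObjectProperty.homMk q
  have hRc' : R cZ.hom := hRc
  have sqW : IsPullback (pullback.fst wv.hom q) (pullback.snd wv.hom q) wv.hom q :=
    IsPullback.of_hasPullback _ _
  have hW'' : AlgSp.IsAlgSpace (pullback wv.hom q) :=
    Groth.Agent.Lib.helper5.isAlgSpace_of_isPullback Xv.property.diag Wv.property X'.property sqW
  let W'' : AlgSp.Space S := ⟨pullback wv.hom q, hW''⟩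
  let w'' : W'' ⟶ X' := ObjectProperty.homMk (pullback.snd wv.hom q)
  have L := h₄ Xv B X' Z' fXv cZ fX' q' sqA hQXv hRc' Wv wv hWv W'' w''
    (ObjectProperty.homMk (pullback.fst wv.hom q)) sqW
  obtain ⟨k₁, hk₁⟩ := L.2.2 W' w' hW'.1 hW'.2.1
  obtain ⟨k₂, hk₂⟩ := hW'.2.2 W'' w'' L.1 L.2.1
  have hrange : Set.range (AlgSp.Points.map w'.hom) =
      AlgSp.Points.map q ⁻¹' Set.range (AlgSp.Points.map wv.hom) := by
    rw [← Groth.Agent.H1.QGlue.range_fst_of_isPullback sqW.flip]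
    apply Set.Subset.antisymm
    · rintro _ ⟨t, rfl⟩
      refine ⟨AlgSp.Points.map k₁.hom t, ?_⟩
      rw [← AlgSp.Points.map_comp]
      exact congrArg (fun m => AlgSp.Points.map m t) (congrArg (fun m : W' ⟶ X' => m.hom) hk₁)
    · rintro _ ⟨t, rfl⟩
      refine ⟨AlgSp.Points.map k₂.hom t, ?_⟩
      rw [← AlgSp.Points.map_comp]
      exact congrArg (fun m => AlgSp.Points.map m t) (congrArg (fun m : W'' ⟶ X' => m.hom) hk₂)
  -- the two open substacks have the same points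
  have hpre := isOpenSubstack_preimage h𝒫 h𝒳 (fpSnd z f) Q₀ hQ₀
  have hrg : Set.range (AlgSt.Points.map (AlgSt.subIncl (fp z f) (fun b => Q₀ ((fpSnd z f).obj b)))) =
      Set.range (AlgSt.Points.map (AlgSt.subIncl (fp z f) Qm)) := by
    rw [range_subIncl_preimage h𝒫 h𝒳 (fpSnd z f) Q₀ hQ₀]
    ext p
    obtain ⟨x, rfl⟩ := isSurjective_of_repByAlgSpWith hPf (BasedFunctor.comp eX' (fpSnd u (fpFst z f))) has' p
    rw [Set.mem_preimage, ← hcompat x, ← hc4, ← hm4, mem_range_ofSpMap_iff, mem_range_ofSpMap_iff, hrange,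
      Set.mem_preimage, ptsEquiv_map]
  have heq : (fun b : (fp z f).obj => Q₀ b.obj.snd) = Qm := by
    funext b
    apply propext
    change Q₀ ((fpSnd z f).obj b) ↔ Qm b
    rw [iff_QT_range h𝒫 _ hpre b, iff_QT_range h𝒫 Qm hm1 b, hrg]
  refine ⟨hpre, ?_, ?_⟩
  · rw [heq]
    exact hm2
  · intro Q₁ h1 h2 b hb
    have := hm3 Q₁ h1 h2 b hb
    rw [← heq] at this
    exact this

end Groth.Agent.Lib.helper4.AlgStLargestPBC
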