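import Groth.Agent.Lib.Helper4.AlgStOpenSub5
set_option autoImplicit false
set_option backward.isDefEq.respectTransparency false
set_option backward.isDefEq.respectTransparency.types false
set_option linter.unusedSectionVars false
set_option linter.style.haveILetI false
set_option linter.unusedVariables false
open CategoryTheory CategoryTheory.Functor CategoryTheory.Limits Opposite AlgebraicGeometry
universe u

/-! Functors into a full subcategory: representability is tested after the inclusion. -/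

namespace Groth.Agent.Lib.helper4.AlgStOpenSub
open Groth.Agent.FibEquiv Groth.Agent.FibYoneda FibCat Groth.Agent.Lib.helper4.FibPaste
open Groth.Agent.Lib.helper4.AlgStEquiv Groth.Agent.Lib.helper4.AlgStRep
open Groth.Agent.Lib.helper4.AlgStSetoid Groth.Agent.FibFpProj Groth.Agent.Lib.helper4.FibRep
open Groth.Agent.Lib.helper4.AlgStFpAlg Groth.Agent.Lib.helper4.AlgStDM Groth.Agent.Lib.helper4.AlgStSelf
open Groth.Agent.Lib.helper4.AlgStPts Groth.Agent.Lib.helper4.FibSwap Groth.Agent.Lib.helper4.AlgStSmLoc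
open Groth.Agent.Lib.helper4.AlgStQC Groth.Agent.Lib.helper4.PshDict Groth.Agent.Lib.helper4.PshRep
open Groth.Agent.Lib.helper4.PshPB Groth.Agent.Lib.helper4.AlgStQCMor Groth.Agent.Lib.helper4.PointsBasic
open Groth.Agent.Lib.helper4.AlgStDescent Groth.Agent.Lib.helper4.AlgStCoreA
open Groth.Agent.Lib.helper4.AlgStSource Groth.Agent.Lib.helper4.AlgStGraph
open Groth.Agent.Lib.helper4.SmLocalST Groth.Agent.Lib.helper5.LocPBC
open Groth.Agent.Lib.helper4.AlgStLocQ Groth.Agent.Lib.helper4.StkSub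
open Stk AlgSt

variable {S : Scheme.{u}}

section FF
variable {𝒜 𝒴 𝒳 𝒲 : AlgSt.Cat S} (ι : 𝒴 ⥤ᵇ 𝒳) (y : 𝒲 ⥤ᵇ 𝒴) (g : 𝒜 ⥤ᵇ 𝒴)

/-- comparison of 2-fibre products over `𝒴` and over `𝒳`, for `ι : 𝒴 ⟶ 𝒳` -/
def ffCmp : fp y g ⥤ᵇ fp (BasedFunctor.comp y ι) (BasedFunctor.comp g ι) :=
  fpLift (F := BasedFunctor.comp y ι) (G := BasedFunctor.comp g ι) (fpFst y g) (fpSnd y g)
    (whiskerRightIso (fpIso y g) ι)

theorem ffCmp_fst : BasedFunctor.comp (ffCmp ι y g) (fpFst (BasedFunctor.comp y ι) (BasedFunctor.comp g ι)) =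
    fpFst y g := rfl

theorem ffCmp_snd : BasedFunctor.comp (ffCmp ι y g) (fpSnd (BasedFunctor.comp y ι) (BasedFunctor.comp g ι)) =
    fpSnd y g := rfl

instance ffCmp_faithful : (ffCmp ι y g).toFunctor.Faithful where
  map_injective {x x'} m m' h := by
    apply ObjectProperty.hom_ext
    apply CategoricalPullback.hom_ext
    · exact congrArg (fun k => k.hom.fst) h
    · exact congrArg (fun k => k.hom.snd) h

instance ffCmp_full [ι.toFunctor.Faithful] : (ffCmp ι y g).toFunctor.Full where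
  map_surjective {x x'} n := by
    have hw : y.toFunctor.map n.hom.fst ≫ x'.obj.iso.hom = x.obj.iso.hom ≫ g.toFunctor.map n.hom.snd := by
      apply ι.toFunctor.map_injective
      rw [Functor.map_comp, Functor.map_comp]
      exact n.hom.w
    refine ⟨ObjectProperty.homMk ⟨n.hom.fst, n.hom.snd, hw⟩, ?_⟩
    apply ObjectProperty.hom_ext
    apply CategoricalPullback.hom_ext
    · rfl
    · rfl

theorem ffCmp_isEquivOver [ι.toFunctor.Full] [ι.toFunctor.Faithful] : IsEquivOver (ffCmp ι y g) := by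
  apply isEquivOver_of
  intro η
  let φ : y.toFunctor.obj η.obj.fst ≅ g.toFunctor.obj η.obj.snd := ι.toFunctor.preimageIso η.obj.iso
  have hη : 𝒳.p.IsHomLift (𝟙 (𝒲.p.obj η.obj.fst)) η.obj.iso.hom := η.property
  have hφ : 𝒴.p.IsHomLift (𝟙 (𝒲.p.obj η.obj.fst)) φ.hom := by
    have h2 : 𝒳.p.IsHomLift (𝟙 (𝒲.p.obj η.obj.fst)) (ι.toFunctor.map φ.hom) := by
      change 𝒳.p.IsHomLift _ (ι.toFunctor.map (ι.toFunctor.preimage η.obj.iso.hom))
      rw [Functor.map_preimage]; exact hη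
    exact ι.isHomLift_map (𝟙 (𝒲.p.obj η.obj.fst)) _
  let ξ : (fp y g).obj := ⟨⟨η.obj.fst, η.obj.snd, φ⟩, hφ⟩
  refine ⟨ξ, ObjectProperty.isoMk _ (CategoricalPullback.mkIso (Iso.refl _) (Iso.refl _) ?_), ?_⟩
  · change (BasedFunctor.comp y ι).toFunctor.map (𝟙 _) ≫ η.obj.iso.hom =
      ι.toFunctor.map (ι.toFunctor.preimage η.obj.iso.hom) ≫ (BasedFunctor.comp g ι).toFunctor.map (𝟙 _)
    rw [Functor.map_preimage, CategoryTheory.Functor.map_id, CategoryTheory.Functor.map_id]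
    exact (Category.id_comp _).trans (Category.comp_id _).symm
  · apply Groth.Agent.FibFp.lift_to
    exact IsHomLift.id rfl

/-- a functor into a full subcategory is representable with `P` if its composite with the inclusion is -/
theorem repByAlgSpWith_of_comp_ff [ι.toFunctor.Full] [ι.toFunctor.Faithful] (P : MorphismProperty (AlgSp.Sp S))
    (h : AlgSt.RepByAlgSpWith P (BasedFunctor.comp g ι)) : AlgSt.RepByAlgSpWith P g := by
  intro W y
  exact (repData_transfer P (ffCmp ι y g) (ffCmp_isEquivOver ι y g) (fpFst y g)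
    (fpFst (BasedFunctor.comp y ι) (BasedFunctor.comp g ι)) (Iso.refl _)).2 (h W (BasedFunctor.comp y ι))

end FF

section Image
variable {𝒜 𝒳 : AlgSt.Cat S}

/-- the values of a functor have all their points in the image of the functor -/
theorem QT_range_map (h𝒜 : IsFibGrpd 𝒜.p) (h𝒳 : IsFibGrpd 𝒳.p) (w : 𝒜 ⥤ᵇ 𝒳) (a : 𝒜.obj) :
    QT (Set.range (AlgSt.Points.map w)) (w.obj a) := by
  rintro p ⟨m⟩
  haveI := h𝒳
  have hp : 𝒳.p.obj p.obj = Over.mk p.str := p.lies
  have hwa : 𝒳.p.obj (w.obj a) = 𝒜.p.obj a := w.w_obj a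
  let g : Over.mk p.str ⟶ 𝒜.p.obj a := eqToHom hp.symm ≫ 𝒳.p.map m ≫ eqToHom hwa
  have hm : 𝒳.p.IsHomLift g m := IsHomLift.of_fac _ _ _ hp hwa rfl
  obtain ⟨a', ψ, hψ⟩ := h𝒜.exists_lift (x := a) g
  have hψ' : 𝒳.p.IsHomLift g (w.toFunctor.map ψ) := w.preserves_isHomLift g ψ
  obtain ⟨ι, -⟩ := exists_iso_of_lifts 𝒳.p g m (w.toFunctor.map ψ)
  let q : AlgSt.FPt 𝒜 := { K := p.K, str := p.str, obj := a', lies := IsHomLift.domain_eq 𝒜.p g ψ }
  refine ⟨Points.mk q, ?_⟩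
  exact (Points.sound ⟨p, 𝟙 _, ι.hom, trivial⟩).symm

/-- the inclusion of a full subcategory closed under sources is injective on points -/
theorem map_subIncl_injective (h𝒳 : IsFibGrpd 𝒳.p) (Q : 𝒳.obj → Prop)
    (hpb : ∀ ⦃y x : 𝒳.obj⦄ (φ : y ⟶ x), Q x → Q y) :
    Function.Injective (AlgSt.Points.map (AlgSt.subIncl 𝒳 Q)) := by
  intro z z' h
  obtain ⟨p, rfl⟩ := Points.mk_surjective z
  obtain ⟨p', rfl⟩ := Points.mk_surjective z'
  have hrel : AlgSt.FPt.Rel (p.map (AlgSt.subIncl 𝒳 Q)) (p'.map (AlgSt.subIncl 𝒳 Q)) :=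
    (Groth.Agent.S12817.result 𝒳 h𝒳).eqvGen_iff.mp (Quot.eqvGen_exact h)
  obtain ⟨r, α, β, -⟩ := hrel
  have hr : Q r.obj := hpb α p.obj.property
  let r' : AlgSt.FPt (AlgSt.fullSub 𝒳 Q) := { K := r.K, str := r.str, obj := ⟨r.obj, hr⟩, lies := r.lies }
  exact Points.sound ⟨r', ObjectProperty.homMk α, ObjectProperty.homMk β, trivial⟩

end Image

section ImageChart
variable {𝒳 : AlgSt.Cat S} (h𝒳 : AlgSt.IsAlgStack Scheme.fppfPrecoverage 𝒳)
include h𝒳

/-- the open substack image of a smooth morphism from an algebraic space -/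
theorem exists_image_of_smooth (V : AlgSp.Space S) (w : AlgSt.ofSp V.obj ⥤ᵇ 𝒳)
    (hw : AlgSt.RepByAlgSpWith (AlgSp.LocP @Smooth) w) :
    ∃ (T : Set (AlgSt.Points 𝒳)) (g : AlgSt.ofSp V.obj ⥤ᵇ AlgSt.fullSub 𝒳 (QT T)), IsOpen T ∧
      T = Set.range (AlgSt.Points.map w) ∧
      AlgSt.RepByAlgSpWith (AlgSp.LocP @Smooth) g ∧ AlgSt.RepByAlgSpWith AlgSp.IsSurjectiveMor g ∧
        BasedFunctor.comp g (AlgSt.subIncl 𝒳 (QT T)) = w := by
  have hX := h𝒳.isStack.1
  have hVf : IsFibGrpd (AlgSt.ofSp V.obj).p := isFibGrpd_ofPsh _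
  have hwflat : AlgSt.RepByAlgSpWith (AlgSp.LocP @Flat) w :=
    Groth.Agent.Lib.helper4.AlgStCancel.repByAlgSpWith_mono w
      (fun F T π hπ => Groth.Agent.S10265.locP_mono
        (fun X Y f hf => by have : Smooth f := hf; exact inferInstanceAs (Flat f)) hπ) hw
  have hwlfp : AlgSt.RepByAlgSpWith (AlgSp.LocP @LocallyOfFinitePresentation) w :=
    Groth.Agent.Lib.helper4.AlgStCancel.repByAlgSpWith_mono w
      (fun F T π hπ => Groth.Agent.S10265.locP_mono
        (fun X Y f hf => by have : Smooth f := hf; exact inferInstanceAs (LocallyOfFinitePresentation f)) hπ) hw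
  have hopen : IsOpenMap (AlgSt.Points.map w) := isOpenMap_map_space hX V w hwflat hwlfp
  let T : Set (AlgSt.Points 𝒳) := Set.range (AlgSt.Points.map w)
  have hT : IsOpen T := hopen.isOpen_range
  let g : AlgSt.ofSp V.obj ⥤ᵇ AlgSt.fullSub 𝒳 (QT T) := liftSub (QT T) w (QT_range_map hVf hX w)
  have hY : IsFibGrpd (AlgSt.fullSub 𝒳 (QT T)).p := (isStack_fullSub_QT h𝒳.isStack T).1
  haveI : (AlgSt.subIncl 𝒳 (QT T)).toFunctor.Full := inferInstanceAs (StkSub.incl (QT T)).toFunctor.Full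
  haveI : (AlgSt.subIncl 𝒳 (QT T)).toFunctor.Faithful := inferInstanceAs (StkSub.incl (QT T)).toFunctor.Faithful
  have hg : AlgSt.RepByAlgSpWith (AlgSp.LocP @Smooth) g :=
    repByAlgSpWith_of_comp_ff (AlgSt.subIncl 𝒳 (QT T)) g _ hw
  have hgs : AlgSt.IsSurjective g := by
    intro z
    obtain ⟨q, rfl⟩ := Points.mk_surjective z
    have hq : Points.mk (q.map (AlgSt.subIncl 𝒳 (QT T))) ∈ T := q.obj.property _ ⟨𝟙 _⟩
    obtain ⟨v, hv⟩ := hq
    refine ⟨v, ?_⟩
    apply map_subIncl_injective hX (QT T) (fun _ _ φ h => QT_of_hom φ h)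
    rw [← map_comp]
    exact hv
  exact ⟨T, g, hT, rfl, hg,
    repByAlgSpWith_of_isSurjective hVf hY g (repByAlgSp1_of_repByAlgSpWith hg) hgs, rfl⟩

end ImageChart

end Groth.Agent.Lib.helper4.AlgStOpenSub
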