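import Groth.Agent.Lib.Helper4.AlgStFieldPt3
import Groth.Agent.Lib.Helper4.AlgStOpenSub6
import Groth.Agent.Lib.Helper4.AlgStDescentFam
import Groth.Agent.Lib.Helper4.AlgStNoethDiag
set_option autoImplicit false
set_option backward.isDefEq.respectTransparency false
set_option backward.isDefEq.respectTransparency.types false
set_option linter.unusedSectionVars false
set_option linter.style.haveILetI false
set_option linter.unusedVariables false
open CategoryTheory CategoryTheory.Functor CategoryTheory.Limits Opposite AlgebraicGeometry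
universe u

/-! The local essential image of a functor over `(Sch/S)` into a stack (helper4): the strictly full subcategory of
the objects which fppf-locally come from the source.  It is a stack, and charts of the functor over objects of the
local essential image inherit the fppf-local properties of the first projection of the self fibre product. -/

namespace Groth.Agent.Lib.helper4.AlgStLocIm
open Groth.Agent.Lib.helper4.AlgStLocQ
open Groth.Agent.FibEquiv Groth.Agent.FibYoneda FibCat Groth.Agent.Lib.helper4.FibPaste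
open Groth.Agent.Lib.helper4.AlgStEquiv Groth.Agent.Lib.helper4.AlgStRep
open Groth.Agent.Lib.helper4.AlgStSetoid Groth.Agent.FibFpProj Groth.Agent.Lib.helper4.FibRep
open Groth.Agent.Lib.helper4.AlgStFpAlg Groth.Agent.Lib.helper4.AlgStDM Groth.Agent.Lib.helper4.AlgStSelf
open Groth.Agent.Lib.helper4.AlgStPts Groth.Agent.Lib.helper4.FibSwap Groth.Agent.Lib.helper4.AlgStSmLoc
open Groth.Agent.Lib.helper4.AlgStQC Groth.Agent.Lib.helper4.PshDict Groth.Agent.Lib.helper4.PshRep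
open Groth.Agent.Lib.helper4.PshPB Groth.Agent.Lib.helper4.AlgStQCMor Groth.Agent.Lib.helper4.PointsBasic
open Groth.Agent.Lib.helper4.AlgStDescent Groth.Agent.Lib.helper4.AlgStCoreA
open Groth.Agent.Lib.helper4.AlgStSource Groth.Agent.Lib.helper4.AlgStGraph
open Groth.Agent.Lib.helper4.SmLocalST Groth.Agent.Lib.helper5.LocPBC
open Groth.Agent.Lib.helper4.AlgStOpenSub Groth.Agent.Lib.helper4.StkSub
open Groth.Agent.Lib.helper4.AlgStCancel Groth.Agent.Lib.helper4.Descent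
open Stk AlgSt

variable {S : Scheme.{u}}

section Def

variable {𝒰 𝒵 : AlgSt.Cat S} (z : 𝒰 ⥤ᵇ 𝒵)

/-- the local essential image of `z`: the objects `ξ` of `𝒵` which, locally for the fppf topology on their base,
receive a morphism from an object in the image of `z` -/
def locIm (ξ : 𝒵.obj) : Prop :=
  ∃ (T : Over S) (R : Sieve T), R ∈ AlgSp.J S T ∧ 𝒵.p.obj ξ = T ∧
    ∀ ⦃V : Over S⦄ (f : V ⟶ T), R f → ∃ (c : 𝒰.obj) (φ : z.obj c ⟶ ξ), 𝒵.p.IsHomLift f φ

variable {z}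

/-- the local essential image is closed under sources of morphisms -/
theorem locIm_of_hom (h𝒵 : IsFibGrpd 𝒵.p) {η ξ : 𝒵.obj} (ψ : η ⟶ ξ) (h : locIm z ξ) : locIm z η := by
  obtain ⟨T, R, hR, hT, H⟩ := h
  subst hT
  refine ⟨𝒵.p.obj η, R.pullback (𝒵.p.map ψ), (AlgSp.J S).pullback_stable _ hR, rfl, ?_⟩
  intro V f hf
  obtain ⟨c, φ, hφ⟩ := H (f ≫ 𝒵.p.map ψ) hf
  obtain ⟨κ, hκ, -⟩ := exists_factor h𝒵 (𝒵.p.map ψ) ψ f (f ≫ 𝒵.p.map ψ) rfl φ
  exact ⟨c, κ, hκ⟩

theorem locIm_isClosedUnderIsomorphisms (h𝒵 : IsFibGrpd 𝒵.p) :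
    ObjectProperty.IsClosedUnderIsomorphisms (locIm z) :=
  ⟨fun e h => locIm_of_hom h𝒵 e.inv h⟩

/-- the local essential image contains the image -/
theorem locIm_obj (h𝒰 : IsFibGrpd 𝒰.p) (c : 𝒰.obj) : locIm z (z.obj c) := by
  refine ⟨𝒰.p.obj c, ⊤, (AlgSp.J S).top_mem _, z.w_obj c, ?_⟩
  intro V f _
  obtain ⟨c', ψ, hψ⟩ := h𝒰.exists_lift (x := c) f
  exact ⟨c', z.toFunctor.map ψ, z.preserves_isHomLift f ψ⟩

/-- the local essential image is a local condition -/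
theorem locIm_local (h𝒰 : IsFibGrpd 𝒰.p) (h𝒵 : IsFibGrpd 𝒵.p) {T : Over S} (R : Sieve T) (hR : R ∈ AlgSp.J S T)
    (ξ : 𝒵.obj) (hξ : 𝒵.p.obj ξ = T)
    (H : ∀ ⦃V : Over S⦄ (f : V ⟶ T), R f → ∀ (y : 𝒵.obj) (φ : y ⟶ ξ), 𝒵.p.IsHomLift f φ → locIm z y) :
    locIm z ξ := by
  subst hξ
  let R'' : Sieve (𝒵.p.obj ξ) :=
    { arrows := fun V f => ∃ (c : 𝒰.obj) (φ : z.obj c ⟶ ξ), 𝒵.p.IsHomLift f φ
      downward_closed := by
        rintro V W f ⟨c, φ, hφ⟩ g
        have hc : 𝒰.p.obj c = V := (z.w_obj c).symm.trans (IsHomLift.domain_eq 𝒵.p f φ)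
        subst hc
        obtain ⟨c', ψ, hψ⟩ := h𝒰.exists_lift (x := c) g
        have : 𝒵.p.IsHomLift g (z.toFunctor.map ψ) := z.preserves_isHomLift g ψ
        exact ⟨c', z.toFunctor.map ψ ≫ φ, inferInstance⟩ }
  refine ⟨𝒵.p.obj ξ, R'', ?_, rfl, fun V f hf => hf⟩
  refine (AlgSp.J S).transitive hR R'' (fun V f hf => ?_)
  obtain ⟨y, φ, hφ⟩ := h𝒵.exists_lift (x := ξ) f
  obtain ⟨T₁, R₁, hR₁, hT₁, H₁⟩ := H f hf y φ hφ
  have hV : T₁ = V := hT₁.symm.trans (IsHomLift.domain_eq 𝒵.p f φ)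
  subst hV
  refine (AlgSp.J S).superset_covering ?_ hR₁
  intro W g hg
  obtain ⟨c, φ', hφ'⟩ := H₁ g hg
  exact ⟨c, φ' ≫ φ, inferInstance⟩

variable (z)

/-- the local essential image of a functor into a stack is a stack -/
theorem isStack_fullSub_locIm (h𝒰 : IsFibGrpd 𝒰.p) (h𝒵 : Stk.IsStack (AlgSp.J S) 𝒵) :
    Stk.IsStack (AlgSp.J S) (AlgSt.fullSub 𝒵 (locIm z)) := by
  refine isStack_sub (locIm z) (AlgSp.J S) h𝒵 ?_ ?_
  · intro y x φ hx
    exact ⟨y, Iso.refl y, locIm_of_hom h𝒵.1 φ hx, IsHomLift.id rfl⟩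
  · intro U R hR x hxU H
    refine ⟨x, Iso.refl x, ?_, by rw [← hxU]; exact IsHomLift.id rfl⟩
    refine locIm_local h𝒰 h𝒵.1 R hR x hxU (fun V f hf y φ hφ => ?_)
    obtain ⟨y', e, hy', -⟩ := H f hf y φ hφ
    exact locIm_of_hom h𝒵.1 e.hom hy'

/-- the functor to the local essential image -/
def toLocIm (h𝒰 : IsFibGrpd 𝒰.p) : 𝒰 ⥤ᵇ AlgSt.fullSub 𝒵 (locIm z) :=
  liftSub (locIm z) z (fun c => locIm_obj h𝒰 c)

theorem toLocIm_comp (h𝒰 : IsFibGrpd 𝒰.p) :
    BasedFunctor.comp (toLocIm z h𝒰) (AlgSt.subIncl 𝒵 (locIm z)) = z := rfl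

end Def

end Groth.Agent.Lib.helper4.AlgStLocIm
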