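import Mathlib
import Groth.Agent.Lib.Helper4.AlgStLocSurj
import Groth.Agent.Lib.Helper4.AlgSpMonoField
import Groth.Agent.Lib.Helper4.AlgStFull
import Groth.Agent.Lib.Helper4.AlgStFaithful
import Groth.Agent.Lib.Helper4.AlgStBoot3
import Groth.Agent.Lib.Helper4.AlgStDiagK3
import Groth.Agent.Lib.Helper4.AlgStPts4
import Groth.Agent.Lib.Helper4.GerbDesc
import Groth.Agent.S12794

/-!
# Monomorphisms into a stack with an fppf point from a field (helper4)
-/

set_option backward.isDefEq.respectTransparency false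
set_option backward.isDefEq.respectTransparency.types false
set_option autoImplicit false
set_option linter.style.haveILetI false
set_option linter.unusedSectionVars false
set_option linter.unusedVariables false
set_option linter.unusedSimpArgs false

universe u

open CategoryTheory CategoryTheory.Limits AlgebraicGeometry
open AlgSt Opposite

namespace Groth.Agent.Lib.helper4.AlgStMonoFieldPt

open Groth.Agent.FibEquiv FibCat Groth.Agent.Lib.helper4.FibPaste Groth.Agent.Lib.helper4.AlgStEquiv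
open Groth.Agent.FibFpProj Groth.Agent.Lib.helper4.AlgStBoot
open Groth.Agent.Lib.helper4.AlgStSource Groth.Agent.Lib.helper4.AlgStDiagCover
open Groth.Agent.Lib.helper4.AlgStSmLoc Groth.Agent.Lib.helper4.AlgStLocQ Groth.Agent.Lib.helper4.PshRep
open Groth.Agent.Lib.helper4.AlgStDiagBC Groth.Agent.Lib.helper4.AlgStFpAlg Groth.Agent.Lib.helper4.AlgStDM
open Groth.Agent.Lib.helper4.PshDict Groth.Agent.Lib.helper4.AlgStRep Groth.Agent.Lib.helper4.AlgStDiagK
open Groth.Agent.Lib.helper4.AlgStPts Groth.Agent.Lib.helper4.PointsBasic Groth.Agent.Lib.helper4.FibSwap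
open Groth.Agent.Lib.helper4.AlgStLocSurj Groth.Agent.Lib.helper4.AlgSpMonoField

variable {S : Scheme.{u}}

/-- cancel an equivalence on the right -/
theorem isEquivOver_of_comp_right {𝒜 ℬ 𝒞 : AlgSt.Cat S} (F : 𝒜 ⥤ᵇ ℬ) (G : ℬ ⥤ᵇ 𝒞)
    (hFG : IsEquivOver (BasedFunctor.comp F G)) (hG : IsEquivOver G) : IsEquivOver F := by
  obtain ⟨G', ⟨α⟩, ⟨β⟩⟩ := hG
  have hG' : IsEquivOver G' := isEquivOver_symm α β
  have h := isEquivOver_comp _ _ hFG hG'
  have i : BasedFunctor.comp (BasedFunctor.comp F G) G' ≅ F :=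
    (Iso.refl _ : BasedFunctor.comp (BasedFunctor.comp F G) G' ≅
      BasedFunctor.comp F (BasedFunctor.comp G G')) ≪≫ whiskerLeftIso F α ≪≫ Iso.refl _
  exact isEquivOver_of_iso i h

/-- cancel an equivalence on the left -/
theorem isEquivOver_of_comp_left {𝒜 ℬ 𝒞 : AlgSt.Cat S} (F : 𝒜 ⥤ᵇ ℬ) (G : ℬ ⥤ᵇ 𝒞)
    (hFG : IsEquivOver (BasedFunctor.comp F G)) (hF : IsEquivOver F) : IsEquivOver G := by
  obtain ⟨F', ⟨α⟩, ⟨β⟩⟩ := hF
  have hF' : IsEquivOver F' := isEquivOver_symm α β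
  have h := isEquivOver_comp _ _ hF' hFG
  have i : BasedFunctor.comp F' (BasedFunctor.comp F G) ≅ G :=
    (Iso.refl _ : BasedFunctor.comp F' (BasedFunctor.comp F G) ≅
      BasedFunctor.comp (BasedFunctor.comp F' F) G) ≪≫ whiskerRightIso β G ≪≫ Iso.refl _
  exact isEquivOver_of_iso i h

/-- a functor from a category represented by a sheaf to a slice whose map of sheaves is an isomorphism is an
equivalence -/
theorem isEquivOver_of_isIso_spMapOfOver {F : AlgSp.Sp S} {V : Over S} (Φ : AlgSt.ofSp F ⥤ᵇ overCat V)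
    (h : IsIso (AlgSt.spMapOfOver Φ)) : IsEquivOver Φ := by
  have i0 : AlgSt.ofSpMap (AlgSt.spMapOfOver Φ) ≅ BasedFunctor.comp Φ (toYon.{u + 1} V) := by
    have := (isoOfPshMap (BasedFunctor.comp Φ (toYon.{u + 1} V))).symm
    rw [← spMapOfOver_hom] at this
    exact this
  let ip : F.obj ≅ ((AlgSp.yon S).obj V).obj :=
    (sheafToPresheaf (AlgSp.J S) (Type (u + 1))).mapIso (asIso (AlgSt.spMapOfOver Φ))
  have h2 : IsEquivOver (AlgSt.ofSpMap (AlgSt.spMapOfOver Φ)) := isEquivOver_ofPshMap_of_iso ip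
  exact isEquivOver_of_comp_right Φ (toYon.{u + 1} V) (isEquivOver_of_iso i0 h2) (toYon_isEquivOver V)

section Main

variable {𝒵' 𝒵 : AlgSt.Cat S} (h𝒵' : AlgSt.IsAlgStack Scheme.fppfPrecoverage 𝒵')
  (h𝒵 : AlgSt.IsAlgStack Scheme.fppfPrecoverage 𝒵) (f : 𝒵' ⥤ᵇ 𝒵) (hf : AlgSt.IsMono f)
  (k : Type u) [Field k] (a : Spec (CommRingCat.of k) ⟶ S) (z : overCat (Over.mk a) ⥤ᵇ 𝒵)
include h𝒵' h𝒵 hf

/-- a monomorphism of algebraic stacks hitting a surjective field point: the field point lifts -/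
theorem exists_lift_of_mono (hzs : AlgSt.RepByAlgSpWith AlgSp.IsSurjectiveMor z)
    (hne : Nonempty (AlgSt.Points 𝒵')) :
    ∃ z' : overCat (Over.mk a) ⥤ᵇ 𝒵', Nonempty (BasedFunctor.comp z' f ≅ z) := by
  have hK : IsFibGrpd (overCat (Over.mk a)).p := Groth.Agent.FibOver.isFibGrpd_overCat _
  obtain ⟨q⟩ := hne
  obtain ⟨F, e, he, hm⟩ := hf (Over.mk a) z
  have hm' : Mono (AlgSt.spMapOfOver (BasedFunctor.comp e (fpFst z f))) := hm
  obtain ⟨t, ht⟩ := isSurjective_of_repByAlgSpWith h𝒵.isStack.1 z hzs (Points.map f q)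
  obtain ⟨w, -, -⟩ := exists_points_fp h𝒵'.isStack.1 h𝒵.isStack.1 hK f z t q ht
  obtain ⟨w', -⟩ := (map_bijective_of_isEquivOver e he).2 w
  have hFne : Nonempty (AlgSp.Points F.obj) := ⟨ptsEquiv F.obj w'⟩
  have hiso := isIso_of_mono_to_field a F.property (AlgSt.spMapOfOver (BasedFunctor.comp e (fpFst z f))) hFne
  have h1 : IsEquivOver (BasedFunctor.comp e (fpFst z f)) := isEquivOver_of_isIso_spMapOfOver _ hiso
  have h2 : IsEquivOver (fpFst z f) := isEquivOver_of_comp_left e _ h1 he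
  obtain ⟨Ψ, ⟨α⟩, ⟨β⟩⟩ := h2
  refine ⟨BasedFunctor.comp Ψ (fpSnd z f), ⟨?_⟩⟩
  exact (Iso.refl _ : BasedFunctor.comp (BasedFunctor.comp Ψ (fpSnd z f)) f ≅
      BasedFunctor.comp Ψ (BasedFunctor.comp (fpSnd z f) f)) ≪≫
    whiskerLeftIso Ψ (fpIso z f).symm ≪≫
    (Iso.refl _ : BasedFunctor.comp Ψ (BasedFunctor.comp (fpFst z f) z) ≅
      BasedFunctor.comp (BasedFunctor.comp Ψ (fpFst z f)) z) ≪≫
    whiskerRightIso β z ≪≫ Iso.refl _

/-- S16807 -/
theorem isEmpty_or_isEquivOver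
    (hzp : AlgSt.RepByAlgSpWith (AlgSp.LocP @LocallyOfFinitePresentation) z)
    (hzs : AlgSt.RepByAlgSpWith AlgSp.IsSurjectiveMor z) (hzf : AlgSt.RepByAlgSpWith (AlgSp.LocP @Flat) z) :
    IsEmpty (AlgSt.Points 𝒵') ∨ FibCat.IsEquivOver f := by
  by_cases hne : IsEmpty (AlgSt.Points 𝒵')
  · exact Or.inl hne
  right
  rw [not_isEmpty_iff] at hne
  have hK : IsFibGrpd (overCat (Over.mk a)).p := Groth.Agent.FibOver.isFibGrpd_overCat _
  obtain ⟨z', ⟨γ⟩⟩ := exists_lift_of_mono h𝒵' h𝒵 f hf k a z hzs hne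
  have hloc : Gerb.LocSurjObj (QuotSh.J Scheme.fppfPrecoverage S) f := by
    apply Groth.Agent.Lib.helper4.GerbDesc.locSurjObj_of_comp _ z' f
    exact Groth.Agent.Lib.helper4.GerbBasic.locSurjObj_of_iso _ γ.symm
      (locSurjObj_of_fppf hK h𝒵.isStack.1 z hzf hzp hzs)
  haveI : f.toFunctor.Full :=
    Groth.Agent.Lib.helper4.AlgStFull.full_of_isMono h𝒵'.isStack.1 h𝒵.isStack.1 f hf
  haveI : f.toFunctor.Faithful :=
    Groth.Agent.Lib.helper4.AlgStFaithful.faithful_of_repByAlgSp1 h𝒵'.isStack.1 h𝒵.isStack.1 f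
      (fun U y => by
        obtain ⟨F, e, he, -⟩ := hf U y
        exact ⟨F, e, he⟩)
  exact (Groth.Agent.S12794.result _ h𝒵'.isStack h𝒵.isStack f).2 hloc

end Main

end Groth.Agent.Lib.helper4.AlgStMonoFieldPt
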