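import Groth.Agent.Lib.Helper4.AlgStPts1
import Groth.Agent.Lib.Helper4.AlgStSmLoc
import Groth.Agent.Lib.Helper4.PshRepGen
set_option autoImplicit false
set_option backward.isDefEq.respectTransparency false
set_option backward.isDefEq.respectTransparency.types false
set_option linter.unusedSectionVars false
set_option linter.style.haveILetI false
set_option linter.unusedVariables false
open CategoryTheory CategoryTheory.Functor CategoryTheory.Limits Opposite AlgebraicGeometry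
universe u

/-! Points of 2-fibre products and the common chart of two charts. -/

namespace Groth.Agent.Lib.helper4.AlgStPts
open Groth.Agent.FibEquiv Groth.Agent.FibYoneda Groth.Agent.FibFpProj Stk FibCat
open Groth.Agent.Lib.helper4.Descent Groth.Agent.Lib.helper4.PshDict Groth.Agent.Lib.helper4.FibPaste
open Groth.Agent.Lib.helper4.AlgStEquiv Groth.Agent.Lib.helper4.PshRep Groth.Agent.Lib.helper4.PshPB
open Groth.Agent.Lib.helper4.FibSwap Groth.Agent.Lib.helper4.AlgStSetoid Groth.Agent.Lib.helper4.AlgStCoreA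
open Groth.Agent.Lib.helper4.AlgStDescent Groth.Agent.Lib.helper4.AlgStSource Groth.Agent.Lib.helper4.AlgStDM
open Groth.Agent.Lib.helper4.AlgStSmLoc Groth.Agent.Lib.helper4.PointsBasic Groth.Agent.Lib.helper4.AlgStRep
open AlgSt

variable {S : Scheme.{u}}

/-- In a category fibred in groupoids, two morphisms with the same target lying over the same
base morphism have sources isomorphic over the identity. -/
theorem exists_iso_of_lifts {C : Type*} [Category C] {𝒳 : Type*} [Category 𝒳] (p : 𝒳 ⥤ C)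
    [hp : FibCat.IsFibGrpd p] {R T : C} (c : R ⟶ T) {x y z : 𝒳} (ψ : x ⟶ z) (ψ' : y ⟶ z)
    [h1 : p.IsHomLift c ψ] [h2 : p.IsHomLift c ψ'] :
    ∃ ι : x ≅ y, p.IsHomLift (𝟙 R) ι.hom := by
  have sc : p.IsStronglyCartesian c ψ' := by
    obtain ⟨⟩ := h2
    exact hp.isStronglyCartesian ψ'
  have sc' : p.IsStronglyCartesian c ψ := by
    obtain ⟨⟩ := h1
    exact hp.isStronglyCartesian ψ
  exact ⟨Functor.IsCartesian.domainUniqueUpToIso p c ψ' ψ, inferInstance⟩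

theorem isHomLift_id_of_eq {C : Type*} [Category C] {𝒳 : Type*} [Category 𝒳] (p : 𝒳 ⥤ C)
    {R R' : C} (h : R = R') {x y : 𝒳} (ι : x ⟶ y) (hι : p.IsHomLift (𝟙 R) ι) :
    p.IsHomLift (𝟙 R') ι := by
  subst h; exact hι



/-- S12818 for categories fibred in groupoids -/
theorem exists_points_fp {𝒳 𝒴 𝒵 : AlgSt.Cat S} (hX : FibCat.IsFibGrpd 𝒳.p) (hY : FibCat.IsFibGrpd 𝒴.p)
    (hZ : FibCat.IsFibGrpd 𝒵.p) (f : 𝒳 ⥤ᵇ 𝒴) (g : 𝒵 ⥤ᵇ 𝒴)
    (z : AlgSt.Points 𝒵) (x : AlgSt.Points 𝒳) (h : AlgSt.Points.map g z = AlgSt.Points.map f x) :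
    ∃ w : AlgSt.Points (FibCat.fp g f),
      AlgSt.Points.map (FibCat.fpFst g f) w = z ∧ AlgSt.Points.map (FibCat.fpSnd g f) w = x := by
  obtain ⟨z₀, rfl⟩ := AlgSt.Points.mk_surjective z
  obtain ⟨x₀, rfl⟩ := AlgSt.Points.mk_surjective x
  have hrel : AlgSt.FPt.Rel (z₀.map g) (x₀.map f) := by
    have h' := Quot.eqvGen_exact h
    exact (Groth.Agent.S12817.result 𝒴 hY).eqvGen_iff.mp h'
  obtain ⟨r, α₀, β₀, -⟩ := hrel
  obtain ⟨α, -⟩ : ∃ α : r.obj ⟶ g.obj z₀.obj, α = α₀ := ⟨α₀, rfl⟩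
  obtain ⟨β, -⟩ : ∃ β : r.obj ⟶ f.obj x₀.obj, β = β₀ := ⟨β₀, rfl⟩
  -- base morphisms
  have ha : 𝒴.p.IsHomLift (𝒴.p.map α ≫ eqToHom (g.w_obj z₀.obj)) α := inferInstance
  have hb : 𝒴.p.IsHomLift (𝒴.p.map β ≫ eqToHom (f.w_obj x₀.obj)) β := inferInstance
  obtain ⟨z', φ, hφ⟩ := hZ.exists_lift (𝒴.p.map α ≫ eqToHom (g.w_obj z₀.obj))
  obtain ⟨x', ψ, hψ⟩ := hX.exists_lift (𝒴.p.map β ≫ eqToHom (f.w_obj x₀.obj))
  have hgφ : 𝒴.p.IsHomLift (𝒴.p.map α ≫ eqToHom (g.w_obj z₀.obj)) (g.map φ) := inferInstance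
  have hfψ : 𝒴.p.IsHomLift (𝒴.p.map β ≫ eqToHom (f.w_obj x₀.obj)) (f.map ψ) := inferInstance
  obtain ⟨ι₁, hι₁⟩ := exists_iso_of_lifts 𝒴.p (𝒴.p.map α ≫ eqToHom (g.w_obj z₀.obj)) (g.map φ) α
  obtain ⟨ι₂, hι₂⟩ := exists_iso_of_lifts 𝒴.p (𝒴.p.map β ≫ eqToHom (f.w_obj x₀.obj)) β (f.map ψ)
  have hz' : 𝒵.p.obj z' = 𝒴.p.obj r.obj :=
    CategoryTheory.IsHomLift.domain_eq 𝒵.p (𝒴.p.map α ≫ eqToHom (g.w_obj z₀.obj)) φ
  have hι : 𝒴.p.IsHomLift (𝟙 (𝒵.p.obj z')) (ι₁ ≪≫ ι₂).hom := by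
    apply isHomLift_id_of_eq 𝒴.p hz'.symm
    have : 𝒴.p.IsHomLift (𝟙 (𝒴.p.obj r.obj) ≫ 𝟙 (𝒴.p.obj r.obj)) (ι₁.hom ≫ ι₂.hom) :=
      inferInstance
    simpa using this
  let o : (FibCat.fp g f).obj := ⟨⟨z', x', ι₁ ≪≫ ι₂⟩, hι⟩
  let w₀ : AlgSt.FPt (FibCat.fp g f) :=
    { K := r.K, str := r.str, obj := o, lies := hz'.trans r.lies }
  refine ⟨AlgSt.Points.mk w₀, ?_, ?_⟩
  · rw [AlgSt.Points.map_mk]
    apply AlgSt.Points.sound
    exact ⟨w₀.map (FibCat.fpFst g f), 𝟙 _, (φ : z' ⟶ z₀.obj), trivial⟩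
  · rw [AlgSt.Points.map_mk]
    apply AlgSt.Points.sound
    exact ⟨w₀.map (FibCat.fpSnd g f), 𝟙 _, (ψ : x' ⟶ x₀.obj), trivial⟩


/-- cancel an equivalence on the right of a 2-isomorphism -/
theorem iso_of_comp_equiv {𝒜 ℬ 𝒞 : AlgSt.Cat S} (A A' : 𝒜 ⥤ᵇ ℬ) (E : ℬ ⥤ᵇ 𝒞) (hE : IsEquivOver E)
    (i : BasedFunctor.comp A E ≅ BasedFunctor.comp A' E) : Nonempty (A ≅ A') := by
  obtain ⟨Ei, ⟨α⟩, ⟨β⟩⟩ := hE
  have i1 : BasedFunctor.comp A (BasedFunctor.comp E Ei) ≅ A := whiskerLeftIso A α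
  have i2 : BasedFunctor.comp A' (BasedFunctor.comp E Ei) ≅ A' := whiskerLeftIso A' α
  have i3 : BasedFunctor.comp A (BasedFunctor.comp E Ei) ≅ BasedFunctor.comp A' (BasedFunctor.comp E Ei) :=
    whiskerRightIso i Ei
  exact ⟨i1.symm ≪≫ i3 ≪≫ i2⟩

/-- a functor `(Sch/W) ⥤ (Sch/V)` obtained from a chart of an algebraic space is composition with a morphism -/
theorem overMap_iso_of_eq {W V : Over S} {F : AlgSp.Sp S} (p : (AlgSp.yon S).obj W ⟶ F)
    (Φ : AlgSt.ofSp F ⥤ᵇ overCat V) (b : W ⟶ V) (hb : (AlgSp.yon S).map b = p ≫ AlgSt.spMapOfOver Φ) :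
    Nonempty (AlgSt.overMap b ≅ BasedFunctor.comp (ofMap p) Φ) := by
  apply iso_of_comp_equiv _ _ (toYon.{u + 1} V) (toYon_isEquivOver V)
  have i1 : BasedFunctor.comp (AlgSt.overMap b) (toYon.{u + 1} V) ≅
      BasedFunctor.comp (toYon.{u + 1} W) (ofPshMap (uliftYoneda.{u + 1}.map b)) :=
    Groth.Agent.Lib.helper4.PshRepGen.overMapIso.{u + 1} b
  let Ψ : ofPsh ((AlgSp.yon S).obj W).obj ⥤ᵇ ofPsh (uliftYoneda.{u + 1}.obj V) :=
    BasedFunctor.comp (ofPshMap p.hom) (BasedFunctor.comp Φ (toYon.{u + 1} V))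
  have hΨ : pshMapOf Ψ = uliftYoneda.{u + 1}.map b := by
    have h1 : ((AlgSp.yon S).map b).hom = p.hom ≫ (AlgSt.spMapOfOver Φ).hom := by rw [hb]; rfl
    rw [spMapOfOver_hom] at h1
    change uliftYoneda.{u + 1}.map b = _ at h1
    rw [h1]
    refine Eq.trans (pshMapOf_comp _ _) ?_
    rw [pshMapOf_ofPshMap]
  have i2 : BasedFunctor.comp (toYon.{u + 1} W) Ψ ≅
      BasedFunctor.comp (toYon.{u + 1} W) (ofPshMap (uliftYoneda.{u + 1}.map b)) := by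
    have := whiskerLeftIso (toYon.{u + 1} W) (isoOfPshMap Ψ)
    rwa [hΨ] at this
  exact i1 ≪≫ i2.symm

/-- **Common chart**: for a chart `x : U ⟶ 𝒳` representable by algebraic spaces and any `x' : V ⟶ 𝒳` there is a
scheme `W` with `a : W ⟶ U`, `b : W ⟶ V`, a 2-isomorphism `x' ∘ b ≅ x ∘ a`, hitting every pair of points with the same
image in `|𝒳|`; `b` inherits the properties of `x`, and `a` those of `x'` -/
theorem exists_chart_fp {𝒳 : AlgSt.Cat S} (h𝒳 : IsFibGrpd 𝒳.p) {U V : Over S}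
    (x : overCat U ⥤ᵇ 𝒳) (hx : AlgSt.RepByAlgSp1 x) (x' : overCat V ⥤ᵇ 𝒳) :
    ∃ (W : Over S) (a : W ⟶ U) (b : W ⟶ V),
      Nonempty (BasedFunctor.comp (AlgSt.overMap b) x' ≅ BasedFunctor.comp (AlgSt.overMap a) x) ∧
      (∀ (u : ↥U.left) (v : ↥V.left), Points.ofChart x u = Points.ofChart x' v →
        ∃ w : ↥W.left, a.left w = u ∧ b.left w = v) ∧
      (∀ P : MorphismProperty Scheme.{u}, AlgSt.RepByAlgSpWith (AlgSp.LocP P) x → P b.left) ∧
      (∀ P : MorphismProperty Scheme.{u}, AlgSt.RepByAlgSpWith (AlgSp.LocP P) x' → P a.left) ∧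
      (AlgSt.RepByAlgSpWith AlgSp.IsSurjectiveMor x → Surjective b.left) ∧
      (AlgSt.RepByAlgSpWith AlgSp.IsSurjectiveMor x' → Surjective a.left) := by
  obtain ⟨F, e, he⟩ := hx V x'
  obtain ⟨W, p, hp1, hp2⟩ := F.property.atlas
  let Φ₁ : AlgSt.ofSp F.obj ⥤ᵇ overCat V := BasedFunctor.comp e (fpFst x' x)
  let Φ₂ : AlgSt.ofSp F.obj ⥤ᵇ overCat U := BasedFunctor.comp e (fpSnd x' x)
  obtain ⟨b, hb⟩ := (AlgSp.yon S).map_surjective (p ≫ AlgSt.spMapOfOver Φ₁)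
  obtain ⟨a, ha⟩ := (AlgSp.yon S).map_surjective (p ≫ AlgSt.spMapOfOver Φ₂)
  obtain ⟨ib⟩ := overMap_iso_of_eq p Φ₁ b hb
  obtain ⟨ia⟩ := overMap_iso_of_eq p Φ₂ a ha
  have hswap : IsEquivOver (BasedFunctor.comp e (fpSwap x' x)) :=
    isEquivOver_comp _ _ he (fpSwap_isEquivOver x' x)
  refine ⟨W, a, b, ?_, ?_, ?_, ?_, ?_, ?_⟩
  · have i1 : BasedFunctor.comp (AlgSt.overMap b) x' ≅
        BasedFunctor.comp (BasedFunctor.comp (ofMap p) e) (BasedFunctor.comp (fpFst x' x) x') :=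
      whiskerRightIso ib x'
    have i2 : BasedFunctor.comp (BasedFunctor.comp (ofMap p) e) (BasedFunctor.comp (fpFst x' x) x') ≅
        BasedFunctor.comp (BasedFunctor.comp (ofMap p) e) (BasedFunctor.comp (fpSnd x' x) x) :=
      whiskerLeftIso (BasedFunctor.comp (ofMap p) e) (fpIso x' x)
    have i3 : BasedFunctor.comp (AlgSt.overMap a) x ≅
        BasedFunctor.comp (BasedFunctor.comp (ofMap p) e) (BasedFunctor.comp (fpSnd x' x) x) :=
      whiskerRightIso ia x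
    exact ⟨i1 ≪≫ i2 ≪≫ i3.symm⟩
  · intro u v huv
    have hU : IsFibGrpd (overCat U).p := Groth.Agent.FibOver.isFibGrpd_overCat U
    have hV : IsFibGrpd (overCat V).p := Groth.Agent.FibOver.isFibGrpd_overCat V
    have h1 : Points.map x' (Points.ofChart (BasedFunctor.id (overCat V)) v) =
        Points.map x (Points.ofChart (BasedFunctor.id (overCat U)) u) := huv.symm
    obtain ⟨w, hw1, hw2⟩ := exists_points_fp hU h𝒳 hV x x' _ _ h1
    obtain ⟨w₁, rfl⟩ := (map_bijective_of_isEquivOver e he).2 w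
    obtain ⟨w₀, rfl⟩ := exists_ofChart_ofMap_eq F.obj p hp2 w₁
    refine ⟨w₀, ?_, ?_⟩
    · apply ofChart_id_injective U
      rw [← hw2]
      have h2 := ofChart_overMap a (BasedFunctor.id (overCat U)) w₀
      have h3 := ofChart_congr ia w₀
      exact h2.symm.trans h3
    · apply ofChart_id_injective V
      rw [← hw1]
      have h2 := ofChart_overMap b (BasedFunctor.id (overCat V)) w₀
      have h3 := ofChart_congr ib w₀
      exact h2.symm.trans h3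
  · intro P hP
    obtain ⟨F₂, e₂, he₂, h₂⟩ := hP V x'
    obtain ⟨j, hj⟩ := change_rep (fpFst x' x) e e₂ he he₂
    have h3 : AlgSp.LocP P (AlgSt.spMapOfOver Φ₁) := by
      change AlgSp.LocP P (AlgSt.spMapOfOver (BasedFunctor.comp e (fpFst x' x)))
      rw [hj]; exact locP_iso_comp j _ h₂
    exact h3 p (𝟙 _) b hp1 (AlgSp.repWith_id _ V) (by rw [hb, Category.comp_id])
  · intro P hP
    obtain ⟨F₂, e₂, he₂, h₂⟩ := hP U x
    obtain ⟨j, hj⟩ := change_rep (fpFst x x') (BasedFunctor.comp e (fpSwap x' x)) e₂ hswap he₂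
    have h3 : AlgSp.LocP P (AlgSt.spMapOfOver Φ₂) := by
      change AlgSp.LocP P (AlgSt.spMapOfOver
        (BasedFunctor.comp (BasedFunctor.comp e (fpSwap x' x)) (fpFst x x')))
      rw [hj]; exact locP_iso_comp j _ h₂
    exact h3 p (𝟙 _) a hp1 (AlgSp.repWith_id _ U) (by rw [ha, Category.comp_id])
  · intro hs
    obtain ⟨F₂, e₂, he₂, h₂⟩ := hs V x'
    obtain ⟨j, hj⟩ := change_rep (fpFst x' x) e e₂ he he₂
    apply surjective_of_isSurjectiveMor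
    rw [hb]
    change AlgSp.IsSurjectiveMor (p ≫ AlgSt.spMapOfOver (BasedFunctor.comp e (fpFst x' x)))
    rw [hj]
    intro z
    obtain ⟨y, hy⟩ := isSurjectiveMor_iso_comp j _ h₂ z
    obtain ⟨w, hw⟩ := Groth.Agent.Lib.helper5.surjective_map_of_repWith_surjective p hp2 y
    exact ⟨w, by rw [AlgSp.Points.map_comp, hw, hy]⟩
  · intro hs
    obtain ⟨F₂, e₂, he₂, h₂⟩ := hs U x
    obtain ⟨j, hj⟩ := change_rep (fpFst x x') (BasedFunctor.comp e (fpSwap x' x)) e₂ hswap he₂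
    apply surjective_of_isSurjectiveMor
    rw [ha]
    change AlgSp.IsSurjectiveMor (p ≫ AlgSt.spMapOfOver
      (BasedFunctor.comp (BasedFunctor.comp e (fpSwap x' x)) (fpFst x x')))
    rw [hj]
    intro z
    obtain ⟨y, hy⟩ := isSurjectiveMor_iso_comp j _ h₂ z
    obtain ⟨w, hw⟩ := Groth.Agent.Lib.helper5.surjective_map_of_repWith_surjective p hp2 y
    exact ⟨w, by rw [AlgSp.Points.map_comp, hw, hy]⟩

end Groth.Agent.Lib.helper4.AlgStPts
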