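import Groth.Agent.Lib.Helper4.AlgStLocIm
import Groth.Agent.Lib.Helper4.AlgStMonoFieldPt
import Groth.Agent.Lib.Helper4.AlgStPts2
import Groth.Agent.Lib.Helper4.AlgStBoot3
import Groth.Agent.Lib.Helper4.AlgStBootFppf
import Groth.Agent.Lib.Helper4.AlgStDiagBC
set_option autoImplicit false
set_option backward.isDefEq.respectTransparency false
set_option backward.isDefEq.respectTransparency.types false
set_option linter.unusedSectionVars false
set_option linter.style.haveILetI false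
set_option linter.unusedVariables false
open CategoryTheory CategoryTheory.Functor CategoryTheory.Limits Opposite AlgebraicGeometry
universe u

/-! The local essential image of a flat, surjective, locally finite type field point of an algebraic stack is the
unique strictly full algebraic substack with a flat, surjective, locally finitely presented field point (helper4).
* `exists_iso_overMap`, `chart_prop_of_locIm`: charts over objects of the local essential image.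
* `repByAlgSpWith_toLocIm`, `repByAlgSp1_subIncl_locIm`, `locIm_fieldPt_data`: algebraicity.
* `imp_of_fieldPt_substacks`, `iff_of_fieldPt_substacks`: uniqueness.
* `existsUnique_fullSub_lfp_fieldPt`: S16808. -/

namespace Groth.Agent.Lib.helper4.AlgStLocIm
open Groth.Agent.Lib.helper4.AlgStLocQ
open Groth.Agent.FibEquiv Groth.Agent.FibYoneda FibCat Groth.Agent.Lib.helper4.FibPaste
open Groth.Agent.Lib.helper4.AlgStEquiv Groth.Agent.Lib.helper4.AlgStRep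
open Groth.Agent.Lib.helper4.AlgStSetoid Groth.Agent.FibFpProj Groth.Agent.Lib.helper4.FibRep
open Groth.Agent.Lib.helper4.AlgStFpAlg Groth.Agent.Lib.helper4.AlgStDM Groth.Agent.Lib.helper4.AlgStSelf
open Groth.Agent.Lib.helper4.AlgStPts Groth.Agent.Lib.helper4.FibSwap Groth.Agent.Lib.helper4.AlgStSmLoc
open Groth.Agent.Lib.helper4.AlgStQC Groth.Agent.Lib.helper4.PshDict Groth.Agent.Lib.helper4.PshRep
open Groth.Agent.Lib.helper4.PshPB Groth.Agent.Lib.helper4.AlgStQCMor Groth.Agent.Lib.helper4.PointsBasic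
open Groth.Agent.Lib.helper4.AlgStDescent Groth.Agent.Lib.helper4.AlgStCoreA
open Groth.Agent.Lib.helper4.AlgStSource Groth.Agent.Lib.helper4.AlgStGraph
open Groth.Agent.Lib.helper4.SmLocalST Groth.Agent.Lib.helper5.LocPBC
open Groth.Agent.Lib.helper4.AlgStOpenSub Groth.Agent.Lib.helper4.StkSub
open Groth.Agent.Lib.helper4.AlgStCancel Groth.Agent.Lib.helper4.Descent
open Groth.Agent.Lib.helper4.AlgStNoethDiag Groth.Agent.Lib.helper4.AlgStDescentFam
open Stk AlgSt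

variable {S : Scheme.{u}}

section Chart

variable {𝒵 : AlgSt.Cat S} (h𝒵 : IsFibGrpd 𝒵.p) {K : Over S} (z : overCat K ⥤ᵇ 𝒵)
include h𝒵

theorem exists_iso_overMap {T : Over S} (y : overCat T ⥤ᵇ 𝒵) {V : Over S} (h : V ⟶ T) (c : Over K)
    (φ : z.obj c ⟶ y.obj (Over.mk (𝟙 T))) (hφ : 𝒵.p.IsHomLift h φ) :
    ∃ c' : V ⟶ K, Nonempty (BasedFunctor.comp (AlgSt.overMap c') z ≅ BasedFunctor.comp (AlgSt.overMap h) y) := by
  have hc : c.left = V := (z.w_obj c).symm.trans (IsHomLift.domain_eq 𝒵.p h φ)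
  subst hc
  refine ⟨c.hom, ?_⟩
  let e₁ : (Over.map c.hom).obj (Over.mk (𝟙 c.left)) ≅ c := Over.isoMk (Iso.refl _) (by simp)
  have ha₁ : 𝒵.p.IsHomLift (𝟙 c.left) (z.toFunctor.map e₁.hom) := map_hom_isHomLift z e₁.hom
  let m : (Over.map h).obj (Over.mk (𝟙 c.left)) ⟶ Over.mk (𝟙 T) := Over.homMk h (by simp)
  have hψ : 𝒵.p.IsHomLift h (y.toFunctor.map m) := map_hom_isHomLift y m
  have hcomp : 𝒵.p.IsHomLift h (z.toFunctor.map e₁.hom ≫ φ) := by
    have : 𝒵.p.IsHomLift (𝟙 c.left ≫ h) (z.toFunctor.map e₁.hom ≫ φ) := inferInstance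
    simpa using this
  obtain ⟨κ, hκ, hκe⟩ := exists_factor h𝒵 h (y.toFunctor.map m) (𝟙 _) h (by simp) (z.toFunctor.map e₁.hom ≫ φ)
  have hiso : IsIso κ := isIso_of_lift h𝒵 (𝟙 c.left) κ
  exact exists_iso_of_app_id h𝒵 (U := c.left) (G := BasedFunctor.comp (AlgSt.overMap c.hom) z)
    (H := BasedFunctor.comp (AlgSt.overMap h) y) (asIso κ) hκ

/-- **charts over the local essential image**: a property which is fppf local on the base and holds for the first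
projection of the self fibre product of `z` holds for the chart of `z` over every functor from a slice whose value
at the identity lies in the local essential image -/
theorem chart_prop_of_locIm (P : MorphismProperty (AlgSp.Sp S)) (hP : AlgSp.IsLocalOnBase AlgSp.IsFppfCover P)
    (H : AlgSt.RepByAlgSpWith P (fpFst z z))
    {T : Over S} (y : overCat T ⥤ᵇ 𝒵) (hy : locIm z (y.obj (Over.mk (𝟙 T))))
    (X : AlgSp.Space S) (eX : AlgSt.ofSp X.obj ⥤ᵇ fp y z) (heX : IsEquivOver eX) :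
    P (AlgSt.spMapOfOver (BasedFunctor.comp eX (fpFst y z))) := by
  obtain ⟨T', R, hR, hT, HR⟩ := hy
  have hT' : T' = T := hT.symm.trans (y.w_obj _)
  subst hT'
  refine descent_sieve P hP z y X eX heX R hR (fun V h hh => ?_)
  obtain ⟨c, φ, hφ⟩ := HR h hh
  obtain ⟨c', ⟨θ⟩⟩ := exists_iso_overMap h𝒵 z y h c φ hφ
  obtain ⟨F, e, he, hPF⟩ := H V (AlgSt.overMap c')
  have h1 := (repData_transfer P (pasteL (AlgSt.overMap c') z z) (pasteL_isEquivOver _ z z)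
    (fpFst (AlgSt.overMap c') (fpFst z z)) (fpFst (BasedFunctor.comp (AlgSt.overMap c') z) z)
    (Iso.refl _)).1 ⟨F, e, he, hPF⟩
  exact (repData_transfer P
    (fpMap (BasedFunctor.comp (AlgSt.overMap c') z) (BasedFunctor.comp (AlgSt.overMap h) y) z z
      (BasedFunctor.id _) (BasedFunctor.id _) θ (Iso.refl _))
    (fpMap_isEquivOver _ _ _ _ _ _ _ _ (isEquivOver_id' _) (isEquivOver_id' _))
    (fpFst (BasedFunctor.comp (AlgSt.overMap c') z) z) (fpFst (BasedFunctor.comp (AlgSt.overMap h) y) z)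
    (Iso.refl _)).1 h1

end Chart
section Alg

variable {𝒵 : AlgSt.Cat S} (h𝒵 : AlgSt.IsAlgStack Scheme.fppfPrecoverage 𝒵) {K : Over S} (z : overCat K ⥤ᵇ 𝒵)
include h𝒵

instance subIncl_full (Q : 𝒵.obj → Prop) : (AlgSt.subIncl 𝒵 Q).toFunctor.Full :=
  inferInstanceAs (StkSub.incl Q).toFunctor.Full

instance subIncl_faithful (Q : 𝒵.obj → Prop) : (AlgSt.subIncl 𝒵 Q).toFunctor.Faithful :=
  inferInstanceAs (StkSub.incl Q).toFunctor.Faithful

/-- the functor to the local essential image has every property which is fppf local on the base and holds for the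
first projection of the self fibre product -/
theorem repByAlgSpWith_toLocIm (P : MorphismProperty (AlgSp.Sp S))
    (hP : AlgSp.IsLocalOnBase AlgSp.IsFppfCover P) (H : AlgSt.RepByAlgSpWith P (fpFst z z)) :
    AlgSt.RepByAlgSpWith P (toLocIm z (Groth.Agent.FibOver.isFibGrpd_overCat K)) := by
  intro T y''
  have hz1 : AlgSt.RepByAlgSp1 z := Groth.Agent.Lib.helper4.AlgStDiag.repByAlgSp1_of_diag h𝒵.diag _ z
  obtain ⟨X, eX, heX⟩ := hz1 T (BasedFunctor.comp y'' (AlgSt.subIncl 𝒵 (locIm z)))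
  have hy : locIm z ((BasedFunctor.comp y'' (AlgSt.subIncl 𝒵 (locIm z))).obj (Over.mk (𝟙 T))) :=
    (y''.obj (Over.mk (𝟙 T))).property
  have hPX := chart_prop_of_locIm h𝒵.isStack.1 z P hP H _ hy X eX heX
  exact (repData_transfer P (ffCmp (AlgSt.subIncl 𝒵 (locIm z)) y'' (toLocIm z _))
    (ffCmp_isEquivOver (AlgSt.subIncl 𝒵 (locIm z)) y'' (toLocIm z _))
    (fpFst y'' (toLocIm z _)) (fpFst (BasedFunctor.comp y'' (AlgSt.subIncl 𝒵 (locIm z))) z) (Iso.refl _)).2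
    ⟨X, eX, heX, hPX⟩

end Alg

section Alg2

variable {𝒵 : AlgSt.Cat S} (h𝒵 : AlgSt.IsAlgStack Scheme.fppfPrecoverage 𝒵) {K : Over S} (z : overCat K ⥤ᵇ 𝒵)
include h𝒵

/-- if the functor to the local essential image is flat, locally finitely presented and surjective, the inclusion of
the local essential image is representable by algebraic spaces -/
theorem repByAlgSp1_subIncl_locIm
    (h1 : AlgSt.RepByAlgSpWith (AlgSp.LocP @Flat) (toLocIm z (Groth.Agent.FibOver.isFibGrpd_overCat K)))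
    (h2 : AlgSt.RepByAlgSpWith (AlgSp.LocP @LocallyOfFinitePresentation)
      (toLocIm z (Groth.Agent.FibOver.isFibGrpd_overCat K)))
    (h3 : AlgSt.RepByAlgSpWith AlgSp.IsSurjectiveMor (toLocIm z (Groth.Agent.FibOver.isFibGrpd_overCat K))) :
    AlgSt.RepByAlgSp1 (AlgSt.subIncl 𝒵 (locIm z)) := by
  intro T y
  have hK : IsFibGrpd (overCat K).p := Groth.Agent.FibOver.isFibGrpd_overCat K
  have hT : IsFibGrpd (overCat T).p := Groth.Agent.FibOver.isFibGrpd_overCat T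
  have hst' : Stk.IsStack (AlgSp.J S) (AlgSt.fullSub 𝒵 (locIm z)) := isStack_fullSub_locIm z hK h𝒵.isStack
  have hz1 : AlgSt.RepByAlgSp1 z := Groth.Agent.Lib.helper4.AlgStDiag.repByAlgSp1_of_diag h𝒵.diag _ z
  have hst : Stk.IsStack (AlgSp.J S) (fp y (AlgSt.subIncl 𝒵 (locIm z))) :=
    Groth.Agent.StkFp.isStack_fp y (AlgSt.subIncl 𝒵 (locIm z)) _ (isAlgStack_overCat T).isStack hst'
      (Groth.Agent.StkFp.isPrestack_of_isStack _ h𝒵.isStack)
  haveI : (fpFst y (AlgSt.subIncl 𝒵 (locIm z))).toFunctor.Faithful := fpFst_faithful_of_faithful _ _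
  have hset : IsFibSetoid (fp y (AlgSt.subIncl 𝒵 (locIm z))).p :=
    ⟨hst.1, Groth.Agent.StkLib.thin_source (fpFst y (AlgSt.subIncl 𝒵 (locIm z))) (thin_overCat T)⟩
  have h𝒲' : IsFibGrpd (fp (fpSnd y (AlgSt.subIncl 𝒵 (locIm z))) (toLocIm z hK)).p :=
    isFibGrpd_fp _ _ hst.1 hK hst'.1
  have hrep0 : AlgSt.RepByAlgSp (fp y (BasedFunctor.comp (toLocIm z hK) (AlgSt.subIncl 𝒵 (locIm z)))) :=
    hz1 T y
  obtain ⟨Ri, ⟨α⟩, ⟨β⟩⟩ := pasteR_isEquivOver y (AlgSt.subIncl 𝒵 (locIm z)) (toLocIm z hK)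
  have hrep : AlgSt.RepByAlgSp (fp (fpSnd y (AlgSt.subIncl 𝒵 (locIm z))) (toLocIm z hK)) :=
    repByAlgSp_of_isEquivOver Ri (isEquivOver_symm α β) hrep0
  exact Groth.Agent.Lib.helper4.AlgStBootFppf.repByAlgSp_of_isFibSetoid_of_fppfCover hst hset h𝒲' hrep
    (fpFst (fpSnd y (AlgSt.subIncl 𝒵 (locIm z))) (toLocIm z hK))
    (Groth.Agent.Lib.helper4.AlgStDiagBC.repByAlgSpWith_fpFst _ _ _ h1)
    (Groth.Agent.Lib.helper4.AlgStDiagBC.repByAlgSpWith_fpFst _ _ _ h2)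
    (Groth.Agent.Lib.helper4.AlgStDiagBC.repByAlgSpWith_fpFst _ _ _ h3)

end Alg2

section Main

/-- the slice of a locally Noetherian scheme is locally Noetherian as a stack -/
theorem smoothLocally_isLocallyNoetherian_overCat (K : Over S) [IsLocallyNoetherian K.left] :
    AlgSt.SmoothLocally (fun T => IsLocallyNoetherian T) (overCat K) := by
  intro U x hx
  obtain ⟨w, ⟨α⟩⟩ := exists_overMap_iso x
  have hw : Smooth w.left := AlgSp.locP_yon_map
    (prop_of_repByAlgSpWith_overMap _ (isoInv_locP _) w ((repByAlgSpWith_congr _ α).1 hx))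
  exact LocallyOfFiniteType.isLocallyNoetherian w.left

variable {𝒵 : AlgSt.Cat S} (h𝒵 : AlgSt.IsAlgStack Scheme.fppfPrecoverage 𝒵)
  (k : Type u) [Field k] (a : Spec (CommRingCat.of k) ⟶ S) (z : overCat (Over.mk a) ⥤ᵇ 𝒵)
include h𝒵

/-- **the local essential image of a flat, surjective, locally finite type field point** is an algebraic stack, the
field point is flat, surjective and locally finitely presented over it, and its inclusion is a monomorphism -/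
theorem locIm_fieldPt_data (hzl : AlgSt.RepByAlgSpWith (AlgSp.LocP @LocallyOfFiniteType) z)
    (hzs : AlgSt.RepByAlgSpWith AlgSp.IsSurjectiveMor z) (hzf : AlgSt.RepByAlgSpWith (AlgSp.LocP @Flat) z) :
    AlgSt.IsAlgStack Scheme.fppfPrecoverage (AlgSt.fullSub 𝒵 (locIm z)) ∧
      AlgSt.RepByAlgSpWith (AlgSp.LocP @LocallyOfFinitePresentation)
        (toLocIm z (Groth.Agent.FibOver.isFibGrpd_overCat (Over.mk a))) ∧
      AlgSt.RepByAlgSpWith AlgSp.IsSurjectiveMor (toLocIm z (Groth.Agent.FibOver.isFibGrpd_overCat (Over.mk a))) ∧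
      AlgSt.RepByAlgSpWith (AlgSp.LocP @Flat) (toLocIm z (Groth.Agent.FibOver.isFibGrpd_overCat (Over.mk a))) ∧
      AlgSt.IsMono (AlgSt.subIncl 𝒵 (locIm z)) := by
  have hK : AlgSt.IsAlgStack Scheme.fppfPrecoverage (overCat (Over.mk a)) := isAlgStack_overCat _
  have hfp : AlgSt.IsAlgStack Scheme.fppfPrecoverage (fp z z) := isAlgStack_fp' hK hK h𝒵 z z
  have Hf : AlgSt.RepByAlgSpWith (AlgSp.LocP @Flat) (fpFst z z) :=
    Groth.Agent.Lib.helper4.AlgStDiagBC.repByAlgSpWith_fpFst _ z z hzf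
  have Hs : AlgSt.RepByAlgSpWith AlgSp.IsSurjectiveMor (fpFst z z) :=
    Groth.Agent.Lib.helper4.AlgStDiagBC.repByAlgSpWith_fpFst _ z z hzs
  have Hl : AlgSt.RepByAlgSpWith (AlgSp.LocP @LocallyOfFiniteType) (fpFst z z) :=
    Groth.Agent.Lib.helper4.AlgStDiagBC.repByAlgSpWith_fpFst _ z z hzl
  have hz1 : AlgSt.RepByAlgSp1 z := Groth.Agent.Lib.helper4.AlgStDiag.repByAlgSp1_of_diag h𝒵.diag _ z
  have hpr1 : AlgSt.RepByAlgSp1 (fpFst z z) :=
    (repByAlgSp1_iff_top _).2 (Groth.Agent.Lib.helper4.AlgStDiagBC.repByAlgSpWith_fpFst ⊤ z z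
      ((repByAlgSp1_iff_top z).1 hz1))
  have hkN : IsLocallyNoetherian (Over.mk a).left := by
    change IsLocallyNoetherian (Spec (CommRingCat.of k)); infer_instance
  have hnoeth := smoothLocally_isLocallyNoetherian_overCat (Over.mk a)
  have Hp : AlgSt.RepByAlgSpWith (AlgSp.LocP @LocallyOfFinitePresentation) (fpFst z z) :=
    Groth.Agent.Lib.helper4.AlgStFieldPt.repByAlgSpWith_lfp_of_lft hK hfp hnoeth (fpFst z z) hpr1 Hl
  have z'f := repByAlgSpWith_toLocIm h𝒵 z _ (isLocalOnBase_fppf_of_fpqc (Groth.Agent.S10530.result S)) Hf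
  have z'p := repByAlgSpWith_toLocIm h𝒵 z _ (isLocalOnBase_fppf_of_fpqc (Groth.Agent.S10527.result S)) Hp
  have z's := repByAlgSpWith_toLocIm h𝒵 z _ isLocalOnBase_isSurjectiveMor Hs
  have hj1 := repByAlgSp1_subIncl_locIm h𝒵 z z'f z'p z's
  have halg : AlgSt.IsAlgStack Scheme.fppfPrecoverage (AlgSt.fullSub 𝒵 (locIm z)) :=
    isAlgStack_of_repByAlgSp1_of_isStack
      (isStack_fullSub_locIm z (Groth.Agent.FibOver.isFibGrpd_overCat _) h𝒵.isStack) h𝒵 _ hj1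
  exact ⟨halg, z'p, z's, z'f,
    Groth.Agent.Lib.helper4.AlgStBoot.isMono_of_full_of_faithful halg h𝒵 (AlgSt.subIncl 𝒵 (locIm z))⟩

end Main

section Unique

variable {𝒳 : AlgSt.Cat S} (h𝒳 : AlgSt.IsAlgStack Scheme.fppfPrecoverage 𝒳)
include h𝒳

/-- one half of the comparison of two strictly full algebraic substacks with field points -/
theorem imp_of_fieldPt_substacks (Q Q' : 𝒳.obj → Prop)
    (hQ' : ObjectProperty.IsClosedUnderIsomorphisms Q')
    (hA : AlgSt.IsAlgStack Scheme.fppfPrecoverage (AlgSt.fullSub 𝒳 Q))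
    (hA' : AlgSt.IsAlgStack Scheme.fppfPrecoverage (AlgSt.fullSub 𝒳 Q'))
    (k : Type u) [Field k] (a : Spec (CommRingCat.of k) ⟶ S)
    (w : overCat (Over.mk a) ⥤ᵇ AlgSt.fullSub 𝒳 Q)
    (hwp : AlgSt.RepByAlgSpWith (AlgSp.LocP @LocallyOfFinitePresentation) w)
    (hws : AlgSt.RepByAlgSpWith AlgSp.IsSurjectiveMor w) (hwf : AlgSt.RepByAlgSpWith (AlgSp.LocP @Flat) w)
    (p : AlgSt.Points (AlgSt.fullSub 𝒳 Q)) (p' : AlgSt.Points (AlgSt.fullSub 𝒳 Q'))
    (hpt : AlgSt.Points.map (AlgSt.subIncl 𝒳 Q) p = AlgSt.Points.map (AlgSt.subIncl 𝒳 Q') p')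
    (ξ : 𝒳.obj) (hξ : Q ξ) : Q' ξ := by
  have hj'm : AlgSt.IsMono (AlgSt.subIncl 𝒳 Q') :=
    Groth.Agent.Lib.helper4.AlgStBoot.isMono_of_full_of_faithful hA' h𝒳 _
  have h𝒫 : AlgSt.IsAlgStack Scheme.fppfPrecoverage (fp (AlgSt.subIncl 𝒳 Q) (AlgSt.subIncl 𝒳 Q')) :=
    isAlgStack_fp' hA hA' h𝒳 _ _
  obtain ⟨q, -, -⟩ := Groth.Agent.Lib.helper4.AlgStPts.exists_points_fp hA'.isStack.1 h𝒳.isStack.1 hA.isStack.1
    (AlgSt.subIncl 𝒳 Q') (AlgSt.subIncl 𝒳 Q) p p' hpt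
  have hm : AlgSt.IsMono (fpFst (AlgSt.subIncl 𝒳 Q) (AlgSt.subIncl 𝒳 Q')) :=
    Groth.Agent.Lib.helper4.AlgStDiagBC.repByAlgSpWith_fpFst _ _ _ hj'm
  have hE : IsEquivOver (fpFst (AlgSt.subIncl 𝒳 Q) (AlgSt.subIncl 𝒳 Q')) := by
    rcases Groth.Agent.Lib.helper4.AlgStMonoFieldPt.isEmpty_or_isEquivOver h𝒫 hA _ hm k a w hwp hws hwf with h | h
    · exact (h.false q).elim
    · exact h
  obtain ⟨-, hess⟩ := of_isEquivOver _ hE
  obtain ⟨t, e, -⟩ := hess ⟨ξ, hξ⟩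
  have e1 : t.obj.fst.obj ≅ ξ := (AlgSt.subIncl 𝒳 Q).toFunctor.mapIso e
  exact hQ'.of_iso (t.obj.iso.symm ≪≫ e1) t.obj.snd.property

/-- two strictly full algebraic substacks with flat, surjective, locally finitely presented field points, sharing a
point, coincide -/
theorem iff_of_fieldPt_substacks (Q Q' : 𝒳.obj → Prop)
    (hQ : ObjectProperty.IsClosedUnderIsomorphisms Q) (hQ' : ObjectProperty.IsClosedUnderIsomorphisms Q')
    (hA : AlgSt.IsAlgStack Scheme.fppfPrecoverage (AlgSt.fullSub 𝒳 Q))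
    (hA' : AlgSt.IsAlgStack Scheme.fppfPrecoverage (AlgSt.fullSub 𝒳 Q'))
    (k : Type u) [Field k] (a : Spec (CommRingCat.of k) ⟶ S)
    (w : overCat (Over.mk a) ⥤ᵇ AlgSt.fullSub 𝒳 Q)
    (hwp : AlgSt.RepByAlgSpWith (AlgSp.LocP @LocallyOfFinitePresentation) w)
    (hws : AlgSt.RepByAlgSpWith AlgSp.IsSurjectiveMor w) (hwf : AlgSt.RepByAlgSpWith (AlgSp.LocP @Flat) w)
    (k' : Type u) [Field k'] (a' : Spec (CommRingCat.of k') ⟶ S)
    (w' : overCat (Over.mk a') ⥤ᵇ AlgSt.fullSub 𝒳 Q')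
    (hw'p : AlgSt.RepByAlgSpWith (AlgSp.LocP @LocallyOfFinitePresentation) w')
    (hw's : AlgSt.RepByAlgSpWith AlgSp.IsSurjectiveMor w') (hw'f : AlgSt.RepByAlgSpWith (AlgSp.LocP @Flat) w')
    (p : AlgSt.Points (AlgSt.fullSub 𝒳 Q)) (p' : AlgSt.Points (AlgSt.fullSub 𝒳 Q'))
    (hpt : AlgSt.Points.map (AlgSt.subIncl 𝒳 Q) p = AlgSt.Points.map (AlgSt.subIncl 𝒳 Q') p')
    (ξ : 𝒳.obj) : Q ξ ↔ Q' ξ :=
  ⟨imp_of_fieldPt_substacks h𝒳 Q Q' hQ' hA hA' k a w hwp hws hwf p p' hpt ξ,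
    imp_of_fieldPt_substacks h𝒳 Q' Q hQ hA' hA k' a' w' hw'p hw's hw'f p' p hpt.symm ξ⟩

end Unique

section S16808

variable {𝒵 : AlgSt.Cat S} (h𝒵 : AlgSt.IsAlgStack Scheme.fppfPrecoverage 𝒵)
include h𝒵

/-- S16808 -/
theorem existsUnique_fullSub_lfp_fieldPt
    (k : Type u) [Field k] (a : Spec (CommRingCat.of k) ⟶ S)
    (z : FibCat.overCat (Over.mk a) ⥤ᵇ 𝒵)
    (hzs : AlgSt.RepByAlgSpWith AlgSp.IsSurjectiveMor z) (hzf : AlgSt.RepByAlgSpWith (AlgSp.LocP @Flat) z) :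
    ∃ Q : 𝒵.obj → Prop,
      (ObjectProperty.IsClosedUnderIsomorphisms Q ∧ AlgSt.IsAlgStack Scheme.fppfPrecoverage (AlgSt.fullSub 𝒵 Q) ∧
        (∃ (k' : Type u) (_ : Field k') (a' : Spec (CommRingCat.of k') ⟶ S)
          (z' : FibCat.overCat (Over.mk a') ⥤ᵇ AlgSt.fullSub 𝒵 Q),
          AlgSt.RepByAlgSpWith (AlgSp.LocP @LocallyOfFinitePresentation) z' ∧
            AlgSt.RepByAlgSpWith AlgSp.IsSurjectiveMor z' ∧ AlgSt.RepByAlgSpWith (AlgSp.LocP @Flat) z') ∧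
        AlgSt.IsMono (AlgSt.subIncl 𝒵 Q)) ∧
      ∀ Q' : 𝒵.obj → Prop, ObjectProperty.IsClosedUnderIsomorphisms Q' → AlgSt.IsAlgStack Scheme.fppfPrecoverage (AlgSt.fullSub 𝒵 Q') →
        (∃ (k' : Type u) (_ : Field k') (a' : Spec (CommRingCat.of k') ⟶ S)
          (z' : FibCat.overCat (Over.mk a') ⥤ᵇ AlgSt.fullSub 𝒵 Q'),
          AlgSt.RepByAlgSpWith (AlgSp.LocP @LocallyOfFinitePresentation) z' ∧
            AlgSt.RepByAlgSpWith AlgSp.IsSurjectiveMor z' ∧ AlgSt.RepByAlgSpWith (AlgSp.LocP @Flat) z') →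
        ∀ ξ : 𝒵.obj, Q' ξ ↔ Q ξ := by
  have h12 := (Groth.Agent.Lib.helper4.AlgStFieldPt.tfae_fieldPt h𝒵).out 1 2
  obtain ⟨k₀, inst₀, a₀, z₀, hz₀l, hz₀s, hz₀f⟩ := h12.1 ⟨k, inferInstance, a, z, hzs, hzf⟩
  letI : Field k₀ := inst₀
  obtain ⟨halg, z'p, z's, z'f, hmono⟩ := locIm_fieldPt_data h𝒵 k₀ a₀ z₀ hz₀l hz₀s hz₀f
  have hiso : ObjectProperty.IsClosedUnderIsomorphisms (locIm z₀) :=
    locIm_isClosedUnderIsomorphisms h𝒵.isStack.1
  have hK₀ : IsFibGrpd (overCat (Over.mk a₀)).p := Groth.Agent.FibOver.isFibGrpd_overCat (Over.mk a₀)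
  refine ⟨locIm z₀, ⟨hiso, halg, ⟨k₀, inst₀, a₀, toLocIm z₀ hK₀, z'p, z's, z'f⟩, hmono⟩, ?_⟩
  rintro Q' hQ' hA' ⟨k', inst', a', w', hw'p, hw's, hw'f⟩ ξ
  letI : Field k' := inst'
  have hsub : Subsingleton (AlgSt.Points 𝒵) :=
    Groth.Agent.Lib.helper4.AlgStFieldPt.subsingleton_points h𝒵 k a z hzs
  obtain ⟨p₀⟩ := Groth.Agent.Lib.helper4.AlgStFieldPt.nonempty_points_field k₀ a₀
  obtain ⟨p₁⟩ := Groth.Agent.Lib.helper4.AlgStFieldPt.nonempty_points_field k' a'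
  have hpt : AlgSt.Points.map (AlgSt.subIncl 𝒵 Q') (AlgSt.Points.map w' p₁) =
      AlgSt.Points.map (AlgSt.subIncl 𝒵 (locIm z₀)) (AlgSt.Points.map (toLocIm z₀ hK₀) p₀) :=
    Subsingleton.elim _ _
  exact iff_of_fieldPt_substacks h𝒵 Q' (locIm z₀) hQ' hiso hA' halg k' a' w' hw'p hw's hw'f
    k₀ a₀ (toLocIm z₀ hK₀) z'p z's z'f (AlgSt.Points.map w' p₁) (AlgSt.Points.map (toLocIm z₀ hK₀) p₀)
    hpt ξ

end S16808

end Groth.Agent.Lib.helper4.AlgStLocIm
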