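import Groth.Agent.StkLib
set_option autoImplicit false
set_option backward.isDefEq.respectTransparency false
set_option backward.isDefEq.respectTransparency.types false
set_option linter.unusedSectionVars false
set_option linter.unusedVariables false
open CategoryTheory CategoryTheory.Functor CategoryTheory.Limits
universe v₄ u₄ v₃ u₃ v₂ u₂ v u

/-! Full subcategories of stacks in groupoids cut out by local conditions are stacks. -/

namespace Groth.Agent.Lib.helper4.StkSub
open Groth.Agent.FibEquiv Groth.Agent.FibFiberwise Groth.Agent.FibFp Groth.Agent.FibOver Groth.Agent.FibFpProj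
open Groth.Agent.StkLib

section general
variable {C : Type u} [Category.{v} C] {𝒳 : BasedCategory.{v₂, u₂} C} {𝒴 : BasedCategory.{v₃, u₃} C}

/-- postcomposition with a faithful functor over `C` is faithful -/
theorem postcompB_faithful (𝒜 : BasedCategory.{v₄, u₄} C) (F : 𝒳 ⥤ᵇ 𝒴) [F.toFunctor.Faithful] :
    (postcompB 𝒜 F).Faithful where
  map_injective {H H'} α β h := by
    apply BasedNatTrans.homCategory.ext
    ext a
    apply F.toFunctor.map_injective
    exact congrArg (fun k => k.toNatTrans.app a) h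

/-- postcomposition with a fully faithful functor over `C` is full -/
theorem postcompB_full (𝒜 : BasedCategory.{v₄, u₄} C) (F : 𝒳 ⥤ᵇ 𝒴) [F.toFunctor.Full]
    [F.toFunctor.Faithful] : (postcompB 𝒜 F).Full where
  map_surjective {H H'} γ := by
    let α : H ⟶ H' :=
      { toNatTrans :=
          { app := fun a => F.toFunctor.preimage (γ.toNatTrans.app a)
            naturality := fun a b m => by
              apply F.toFunctor.map_injective
              simp only [Functor.map_comp, Functor.map_preimage]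
              exact γ.toNatTrans.naturality m }
        isHomLift' := fun a => by
          have h1 : 𝒴.p.IsHomLift (𝟙 (𝒜.p.obj a)) (γ.toNatTrans.app a) := γ.isHomLift' a
          have h2 : 𝒴.p.IsHomLift (𝟙 (𝒜.p.obj a))
              (F.toFunctor.map (F.toFunctor.preimage (γ.toNatTrans.app a))) := by
            rw [Functor.map_preimage]; exact h1
          exact F.isHomLift_map (𝟙 (𝒜.p.obj a)) _ }
    refine ⟨α, ?_⟩
    apply BasedNatTrans.homCategory.ext
    ext a
    exact F.toFunctor.map_preimage (γ.toNatTrans.app a)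

end general

section sub
variable {C : Type u} [Category.{v} C] {𝒳 : BasedCategory.{v₂, u₂} C} (Q : ObjectProperty 𝒳.obj)

/-- the full subcategory on `Q` as a category over `C` -/
abbrev sub : BasedCategory.{v₂, u₂} C := BasedCategory.ofFunctor (Q.ι ⋙ 𝒳.p)

/-- the inclusion of the full subcategory -/
def incl : sub Q ⥤ᵇ 𝒳 where
  toFunctor := Q.ι
  w := rfl

instance incl_full : (incl Q).toFunctor.Full := inferInstanceAs Q.ι.Full
instance incl_faithful : (incl Q).toFunctor.Faithful := inferInstanceAs Q.ι.Faithful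

/-- a functor over `C` whose values satisfy `Q` factors through the full subcategory -/
def liftSub {𝒜 : BasedCategory.{v₄, u₄} C} (G : 𝒜 ⥤ᵇ 𝒳) (h : ∀ a, Q (G.toFunctor.obj a)) : 𝒜 ⥤ᵇ sub Q where
  toFunctor := Q.lift G.toFunctor h
  w := G.w

theorem liftSub_comp_incl {𝒜 : BasedCategory.{v₄, u₄} C} (G : 𝒜 ⥤ᵇ 𝒳) (h : ∀ a, Q (G.toFunctor.obj a)) :
    BasedFunctor.comp (liftSub Q G h) (incl Q) = G := rfl

/-- a full subcategory closed under sources of morphisms is fibred in groupoids -/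
theorem isFibGrpd_sub (h𝒳 : FibCat.IsFibGrpd 𝒳.p) (hpb : ∀ ⦃y x : 𝒳.obj⦄ (φ : y ⟶ x), Q x → Q y) :
    FibCat.IsFibGrpd (sub Q).p where
  exists_lift := by
    intro x V f
    obtain ⟨y, φ, hφ⟩ := h𝒳.exists_lift (x := x.obj) f
    refine ⟨⟨y, hpb φ x.property⟩, ObjectProperty.homMk φ, ?_⟩
    have h2 : 𝒳.p.IsHomLift f ((incl Q).toFunctor.map (ObjectProperty.homMk φ :
        (⟨y, hpb φ x.property⟩ : Q.FullSubcategory) ⟶ x)) := hφ
    exact (incl Q).isHomLift_map f _
  isStronglyCartesian := by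
    intro y x φ
    have h1 : 𝒳.p.IsStronglyCartesian ((sub Q).p.map φ) ((incl Q).toFunctor.map φ) :=
      h𝒳.isStronglyCartesian φ.hom
    exact isStronglyCartesian_of_map (incl Q) ((sub Q).p.map φ) φ

end sub

section stackFor
variable {C : Type u} [Category.{v} C] {𝒳 : BasedCategory.{v₂, u₂} C} (Q : ObjectProperty 𝒳.obj)

/-- the values of a functor from a slice all satisfy a condition closed under sources as soon as the value at the
identity does -/
theorem forall_of_id (hpb : ∀ ⦃y x : 𝒳.obj⦄ (φ : y ⟶ x), Q x → Q y) {U : C} (G : FibCat.overCat U ⥤ᵇ 𝒳)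
    (h : Q (G.toFunctor.obj (Over.mk (𝟙 U)))) (a : (FibCat.overCat U).obj) : Q (G.toFunctor.obj a) := by
  have m : a ⟶ (Over.mk (𝟙 U) : Over U) := Over.homMk a.hom (by simp)
  exact hpb (G.toFunctor.map m) h

/-- objects and morphisms of a full subcategory cut out by a local condition glue along a sieve along which those
of the ambient category do -/
theorem isStackFor_sub (h𝒳 : FibCat.IsFibGrpd 𝒳.p) {U : C} (R : Sieve U) (hR : Stk.IsStackFor R 𝒳)
    (hpb : ∀ ⦃y x : 𝒳.obj⦄ (φ : y ⟶ x), Q x → Q y)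
    (hloc : ∀ x : 𝒳.obj, 𝒳.p.obj x = U →
      (∀ ⦃V : C⦄ (f : V ⟶ U), R f → ∀ (y : 𝒳.obj) (φ : y ⟶ x), 𝒳.p.IsHomLift f φ → Q y) → Q x) :
    Stk.IsStackFor R (sub Q) := by
  unfold Stk.IsStackFor Stk.resSieve at hR ⊢
  have e := restrPostcompBIso (Stk.sieveIncl R) (incl Q)
  have f1 : (postcompB (Stk.sieveCat R) (incl Q)).Faithful := postcompB_faithful _ _
  have f2 : (postcompB (Stk.sieveCat R) (incl Q)).Full := postcompB_full _ _
  have f3 : (postcompB (FibCat.overCat U) (incl Q)).Faithful := postcompB_faithful _ _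
  have f4 : (postcompB (FibCat.overCat U) (incl Q)).Full := postcompB_full _ _
  have g1 : (postcompB (FibCat.overCat U) (incl Q) ⋙ Stk.restr (Stk.sieveIncl R) 𝒳).Full := inferInstance
  have g2 : (postcompB (FibCat.overCat U) (incl Q) ⋙ Stk.restr (Stk.sieveIncl R) 𝒳).Faithful := inferInstance
  have g3 : (Stk.restr (Stk.sieveIncl R) (sub Q) ⋙ postcompB (Stk.sieveCat R) (incl Q)).Full :=
    Functor.Full.of_iso e.symm
  have g4 : (Stk.restr (Stk.sieveIncl R) (sub Q) ⋙ postcompB (Stk.sieveCat R) (incl Q)).Faithful :=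
    Functor.Faithful.of_iso e.symm
  have k1 : (Stk.restr (Stk.sieveIncl R) (sub Q)).Full :=
    Functor.Full.of_comp_faithful _ (postcompB (Stk.sieveCat R) (incl Q))
  have k2 : (Stk.restr (Stk.sieveIncl R) (sub Q)).Faithful :=
    Functor.Faithful.of_comp _ (postcompB (Stk.sieveCat R) (incl Q))
  have k3 : (Stk.restr (Stk.sieveIncl R) (sub Q)).EssSurj := by
    constructor
    intro F
    let F' : Stk.sieveCat R ⥤ᵇ 𝒳 := BasedFunctor.comp F (incl Q)
    let G' : FibCat.overCat U ⥤ᵇ 𝒳 := (Stk.restr (Stk.sieveIncl R) 𝒳).objPreimage F'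
    let i : (Stk.restr (Stk.sieveIncl R) 𝒳).obj G' ≅ F' :=
      (Stk.restr (Stk.sieveIncl R) 𝒳).objObjPreimageIso F'
    -- values on the sieve
    have hs : ∀ b : (Stk.sieveCat R).obj, Q (G'.toFunctor.obj ((Stk.sieveIncl R).toFunctor.obj b)) := by
      intro b
      exact hpb (i.hom.toNatTrans.app b) (F.toFunctor.obj b).property
    -- value at the identity
    have hx : Q (G'.toFunctor.obj (Over.mk (𝟙 U))) := by
      apply hloc _ (G'.w_obj _)
      intro V f hf y φ hφ
      let b : (Stk.sieveCat R).obj := ⟨Over.mk f, hf⟩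
      let m : (Over.mk f : Over U) ⟶ Over.mk (𝟙 U) := Over.homMk f (by simp)
      have hm : 𝒳.p.IsHomLift f (G'.toFunctor.map m) := by
        have h0 : (FibCat.overCat U).p.IsHomLift f m := Groth.Agent.FibYoneda.hom_isHomLift m
        exact G'.preserves_isHomLift f m
      have hc : 𝒳.p.IsStronglyCartesian f (G'.toFunctor.map m) :=
        isStronglyCartesian_of_isFibGrpd 𝒳.p h𝒳 f _
      have χ : y ⟶ G'.toFunctor.obj (Over.mk f) :=
        Functor.IsStronglyCartesian.map 𝒳.p f (G'.toFunctor.map m) (g := 𝟙 V) (f' := f) (by simp) φ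
      exact hpb χ (hs b)
    let G : FibCat.overCat U ⥤ᵇ sub Q := liftSub Q G' (forall_of_id Q hpb G' hx)
    refine ⟨G, ⟨?_⟩⟩
    have j : (postcompB (Stk.sieveCat R) (incl Q)).obj ((Stk.restr (Stk.sieveIncl R) (sub Q)).obj G) ≅
        (postcompB (Stk.sieveCat R) (incl Q)).obj F := i
    exact (postcompB (Stk.sieveCat R) (incl Q)).preimageIso j
  exact { faithful := k2, full := k1, essSurj := k3 }

end stackFor

section closure
variable {C : Type u} [Category.{v} C] {𝒳 : BasedCategory.{v₂, u₂} C} (Q : ObjectProperty 𝒳.obj)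

/-- closure of a property of objects under isomorphisms lying over identities -/
def isoCl : ObjectProperty 𝒳.obj := fun x =>
  ∃ (x' : 𝒳.obj) (e : x ≅ x'), Q x' ∧ 𝒳.p.IsHomLift (𝟙 (𝒳.p.obj x)) e.hom

theorem le_isoCl : Q ≤ isoCl Q := fun x hx => ⟨x, Iso.refl x, hx, by
  change 𝒳.p.IsHomLift (𝟙 (𝒳.p.obj x)) (𝟙 x)
  infer_instance⟩

/-- the inclusion of the full subcategory into that of the closure -/
def inclCl : sub Q ⥤ᵇ sub (isoCl Q) where
  toFunctor := ObjectProperty.ιOfLE (le_isoCl Q)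
  w := rfl

instance inclCl_full : (inclCl Q).toFunctor.Full := inferInstanceAs (ObjectProperty.ιOfLE (le_isoCl Q)).Full
instance inclCl_faithful : (inclCl Q).toFunctor.Faithful :=
  inferInstanceAs (ObjectProperty.ιOfLE (le_isoCl Q)).Faithful

theorem inclCl_isEquivOver : FibCat.IsEquivOver (inclCl Q) := by
  apply isEquivOver_of
  intro η
  obtain ⟨x', e, hx', he⟩ := η.property
  refine ⟨⟨x', hx'⟩, ObjectProperty.isoMk _ e.symm, ?_⟩
  have h1 : 𝒳.p.IsHomLift (𝟙 (𝒳.p.obj η.obj)) e.symm.hom := by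
    change 𝒳.p.IsHomLift (𝟙 (𝒳.p.obj η.obj)) e.inv
    infer_instance
  have h2 : 𝒳.p.IsHomLift (𝟙 (𝒳.p.obj η.obj))
      ((incl (isoCl Q)).toFunctor.map (ObjectProperty.isoMk (isoCl Q) e.symm :
        (⟨x', le_isoCl Q _ hx'⟩ : (isoCl Q).FullSubcategory) ≅ η).hom) := h1
  exact (incl (isoCl Q)).isHomLift_map (𝟙 (𝒳.p.obj η.obj)) _

/-- S12795, universe-general -/
theorem isStack_sub (J : GrothendieckTopology C) (h𝒳 : Stk.IsStack J 𝒳)
    (h1 : ∀ ⦃y x : 𝒳.obj⦄ (φ : y ⟶ x), Q x →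
      ∃ (y' : 𝒳.obj) (e : y ≅ y'), Q y' ∧ 𝒳.p.IsHomLift (𝟙 (𝒳.p.obj y)) e.hom)
    (h3 : ∀ ⦃U : C⦄ (R : Sieve U), R ∈ J U → ∀ (x : 𝒳.obj), 𝒳.p.obj x = U →
      (∀ ⦃V : C⦄ (f : V ⟶ U), R f → ∀ (y : 𝒳.obj) (φ : y ⟶ x), 𝒳.p.IsHomLift f φ →
        ∃ (y' : 𝒳.obj) (e : y ≅ y'), Q y' ∧ 𝒳.p.IsHomLift (𝟙 V) e.hom) →
      ∃ (x' : 𝒳.obj) (e : x ≅ x'), Q x' ∧ 𝒳.p.IsHomLift (𝟙 U) e.hom) :
    Stk.IsStack J (sub Q) := by
  rw [isStack_iff_of_isEquivOver' J (inclCl Q) (inclCl_isEquivOver Q)]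
  have hpb : ∀ ⦃y x : 𝒳.obj⦄ (φ : y ⟶ x), isoCl Q x → isoCl Q y := by
    rintro y x φ ⟨x', e, hx', he⟩
    exact h1 (φ ≫ e.hom) hx'
  refine ⟨isFibGrpd_sub _ h𝒳.1 hpb, fun U R hR => isStackFor_sub _ h𝒳.1 R (h𝒳.2 R hR) hpb ?_⟩
  intro x hxU H
  obtain ⟨x', e, hx', he⟩ := h3 R hR x hxU (fun V f hf y φ hφ => by
    obtain ⟨y', e', hy', he'⟩ := H f hf y φ hφ
    exact ⟨y', e', hy', isHomLift_of_eq 𝒳.p (IsHomLift.domain_eq 𝒳.p f φ) e'.hom⟩)
  exact ⟨x', e, hx', isHomLift_of_eq 𝒳.p hxU.symm e.hom⟩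

end closure

end Groth.Agent.Lib.helper4.StkSub
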