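import Mathlib
import Groth.Agent.Lib.Helper4.AlgStMonoFieldPt
import Groth.Agent.Lib.Helper4.AlgStPts3
import Groth.Agent.Lib.Helper4.StkSub

/-!
# Lifting field points through monomorphisms; essential images of monomorphisms (helper4)
-/

set_option backward.isDefEq.respectTransparency false
set_option backward.isDefEq.respectTransparency.types false
set_option autoImplicit false
set_option linter.style.haveILetI false
set_option linter.unusedSectionVars false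
set_option linter.unusedVariables false
set_option linter.unusedSimpArgs false

universe u

open CategoryTheory CategoryTheory.Limits AlgebraicGeometry
open AlgSt Opposite

namespace Groth.Agent.Lib.helper4.AlgStMonoFieldPt

open Groth.Agent.FibEquiv FibCat Groth.Agent.Lib.helper4.FibPaste Groth.Agent.Lib.helper4.AlgStEquiv
open Groth.Agent.FibFpProj Groth.Agent.Lib.helper4.AlgStBoot
open Groth.Agent.Lib.helper4.AlgStSource Groth.Agent.Lib.helper4.AlgStDiagCover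
open Groth.Agent.Lib.helper4.AlgStSmLoc Groth.Agent.Lib.helper4.AlgStLocQ Groth.Agent.Lib.helper4.PshRep
open Groth.Agent.Lib.helper4.AlgStDiagBC Groth.Agent.Lib.helper4.AlgStFpAlg Groth.Agent.Lib.helper4.AlgStDM
open Groth.Agent.Lib.helper4.PshDict Groth.Agent.Lib.helper4.AlgStRep Groth.Agent.Lib.helper4.AlgStDiagK
open Groth.Agent.Lib.helper4.AlgStPts Groth.Agent.Lib.helper4.PointsBasic Groth.Agent.Lib.helper4.FibSwap
open Groth.Agent.Lib.helper4.AlgStLocSurj Groth.Agent.Lib.helper4.AlgSpMonoField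

variable {S : Scheme.{u}}

/-- a field point of the target of a monomorphism whose point is in the image lifts to the source -/
theorem exists_lift_of_mono_of_point {𝒵' 𝒵 : AlgSt.Cat S} (h𝒵' : IsFibGrpd 𝒵'.p) (h𝒵 : IsFibGrpd 𝒵.p)
    (f : 𝒵' ⥤ᵇ 𝒵) (hf : AlgSt.IsMono f)
    (k : Type u) [Field k] (a : Spec (CommRingCat.of k) ⟶ S) (z : overCat (Over.mk a) ⥤ᵇ 𝒵)
    (t : AlgSt.Points (overCat (Over.mk a))) (q : AlgSt.Points 𝒵')
    (ht : AlgSt.Points.map z t = AlgSt.Points.map f q) :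
    ∃ z' : overCat (Over.mk a) ⥤ᵇ 𝒵', Nonempty (BasedFunctor.comp z' f ≅ z) := by
  have hK : IsFibGrpd (overCat (Over.mk a)).p := Groth.Agent.FibOver.isFibGrpd_overCat _
  obtain ⟨F, e, he, hm⟩ := hf (Over.mk a) z
  have hm' : Mono (AlgSt.spMapOfOver (BasedFunctor.comp e (fpFst z f))) := hm
  obtain ⟨w, -, -⟩ := exists_points_fp h𝒵' h𝒵 hK f z t q ht
  obtain ⟨w', -⟩ := (map_bijective_of_isEquivOver e he).2 w
  have hFne : Nonempty (AlgSp.Points F.obj) := ⟨ptsEquiv F.obj w'⟩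
  have hiso := isIso_of_mono_to_field a F.property
    (AlgSt.spMapOfOver (BasedFunctor.comp e (fpFst z f))) hFne
  have h1 : IsEquivOver (BasedFunctor.comp e (fpFst z f)) := isEquivOver_of_isIso_spMapOfOver _ hiso
  have h2 : IsEquivOver (fpFst z f) := isEquivOver_of_comp_left e _ h1 he
  obtain ⟨Ψ, ⟨α⟩, ⟨β⟩⟩ := h2
  refine ⟨BasedFunctor.comp Ψ (fpSnd z f), ⟨?_⟩⟩
  exact (Iso.refl _ : BasedFunctor.comp (BasedFunctor.comp Ψ (fpSnd z f)) f ≅
      BasedFunctor.comp Ψ (BasedFunctor.comp (fpSnd z f) f)) ≪≫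
    whiskerLeftIso Ψ (fpIso z f).symm ≪≫
    (Iso.refl _ : BasedFunctor.comp Ψ (BasedFunctor.comp (fpFst z f) z) ≅
      BasedFunctor.comp (BasedFunctor.comp Ψ (fpFst z f)) z) ≪≫
    whiskerRightIso β z ≪≫ Iso.refl _

/-- S16813: a field point in the class of `x` factors through the residual gerbe at `x` -/
theorem exists_factor_resGerbe {𝒳 : AlgSt.Cat S} (h𝒳 : AlgSt.IsAlgStack Scheme.fppfPrecoverage 𝒳)
    (x : AlgSt.Points 𝒳) (Q : 𝒳.obj → Prop) (hQ : Gerb.IsResGerbe Scheme.fppfPrecoverage 𝒳 x Q)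
    (K : Type u) [Field K] (a : Spec (CommRingCat.of K) ⟶ S)
    (p : FibCat.overCat (Over.mk a) ⥤ᵇ 𝒳)
    (hp : ∀ t : ↥(Over.mk a).left, AlgSt.Points.ofChart p t = x) :
    ∃ q : FibCat.overCat (Over.mk a) ⥤ᵇ AlgSt.fullSub 𝒳 Q,
      Nonempty (BasedFunctor.comp q (AlgSt.subIncl 𝒳 Q) ≅ p) := by
  obtain ⟨hcl, halg, -, -, ⟨q₀⟩, -, hx⟩ := hQ
  haveI : (AlgSt.subIncl 𝒳 Q).toFunctor.Full := inferInstanceAs (ObjectProperty.ι Q).Full
  haveI : (AlgSt.subIncl 𝒳 Q).toFunctor.Faithful := inferInstanceAs (ObjectProperty.ι Q).Faithful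
  have hmono : AlgSt.IsMono (AlgSt.subIncl 𝒳 Q) := isMono_of_full_of_faithful halg h𝒳 _
  have hne : Nonempty ↥(Over.mk a).left := by
    change Nonempty (PrimeSpectrum K); infer_instance
  obtain ⟨t₀⟩ := hne
  refine exists_lift_of_mono_of_point halg.isStack.1 h𝒳.isStack.1 _ hmono K a p
    (Points.ofChart (BasedFunctor.id _) t₀) q₀ ?_
  rw [hx q₀, map_ofChart]
  exact hp t₀

section EssImage

open Groth.Agent.Lib.helper4.StkSub

variable {𝒵 𝒳 : AlgSt.Cat S} (f : 𝒵 ⥤ᵇ 𝒳)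

/-- the essential image of a functor -/
def essImg : 𝒳.obj → Prop := fun ξ => ∃ ζ : 𝒵.obj, Nonempty (f.toFunctor.obj ζ ≅ ξ)

instance essImg_closed : ObjectProperty.IsClosedUnderIsomorphisms (essImg f) where
  of_iso := by
    rintro ξ ξ' i ⟨ζ, ⟨j⟩⟩
    exact ⟨ζ, ⟨j ≪≫ i⟩⟩

/-- the corestriction of a functor to its essential image -/
def toEssImg : 𝒵 ⥤ᵇ AlgSt.fullSub 𝒳 (essImg f) :=
  liftSub (essImg f) f (fun ζ => ⟨ζ, ⟨Iso.refl _⟩⟩)

theorem toEssImg_comp : BasedFunctor.comp (toEssImg f) (AlgSt.subIncl 𝒳 (essImg f)) = f := rfl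

theorem toEssImg_isEquivOver (h𝒵 : IsFibGrpd 𝒵.p) [f.toFunctor.Full] [f.toFunctor.Faithful] :
    IsEquivOver (toEssImg f) := by
  haveI : (toEssImg f).toFunctor.Full :=
    inferInstanceAs (ObjectProperty.lift (essImg f) f.toFunctor (fun ζ => ⟨ζ, ⟨Iso.refl _⟩⟩)).Full
  haveI : (toEssImg f).toFunctor.Faithful :=
    inferInstanceAs (ObjectProperty.lift (essImg f) f.toFunctor (fun ζ => ⟨ζ, ⟨Iso.refl _⟩⟩)).Faithful
  apply isEquivOver_of
  rintro ⟨ξ, ζ, ⟨i⟩⟩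
  -- the base morphism of `i`, transported to the base of `ζ`
  have hζ : 𝒳.p.obj (f.toFunctor.obj ζ) = 𝒵.p.obj ζ := f.w_obj ζ
  let b : 𝒳.p.obj ξ ⟶ 𝒵.p.obj ζ := 𝒳.p.map i.inv ≫ eqToHom hζ
  obtain ⟨ζ', ψ, hψ⟩ := h𝒵.exists_lift (x := ζ) b
  have hfψ : 𝒳.p.IsHomLift b (f.toFunctor.map ψ) := inferInstance
  have hi : 𝒳.p.IsHomLift (eqToHom hζ.symm ≫ 𝒳.p.map i.hom) i.hom := inferInstance
  have hcomp : 𝒳.p.IsHomLift (b ≫ eqToHom hζ.symm ≫ 𝒳.p.map i.hom) (f.toFunctor.map ψ ≫ i.hom) :=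
    inferInstance
  have hb : b ≫ eqToHom hζ.symm ≫ 𝒳.p.map i.hom = 𝟙 _ := by
    simp only [b, Category.assoc, eqToHom_trans_assoc, eqToHom_refl, Category.id_comp]
    rw [← 𝒳.p.map_comp, Iso.inv_hom_id, 𝒳.p.map_id]
  rw [hb] at hcomp
  haveI : IsIso b := by
    change IsIso (𝒳.p.map i.inv ≫ eqToHom hζ)
    infer_instance
  haveI : IsIso ψ := Groth.Agent.Lib.helper4.Descent.isIso_of_lift h𝒵 b ψ
  let j : f.toFunctor.obj ζ' ≅ ξ := f.toFunctor.mapIso (asIso ψ) ≪≫ i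
  refine ⟨ζ', ObjectProperty.isoMk _ j, ?_⟩
  have hcomp' : 𝒳.p.IsHomLift (𝟙 (𝒳.p.obj ξ))
      ((AlgSt.subIncl 𝒳 (essImg f)).toFunctor.map (ObjectProperty.isoMk (essImg f) j :
        (toEssImg f).toFunctor.obj ζ' ≅ ⟨ξ, ζ, ⟨i⟩⟩).hom) := hcomp
  exact @BasedFunctor.isHomLift_map _ _ _ _ (AlgSt.subIncl 𝒳 (essImg f)) _ _ _ _ (𝟙 _) _ hcomp'

/-- smooth-local properties transfer along equivalences -/
theorem smoothLocally_of_isEquivOver {𝒵 𝒲 : AlgSt.Cat S} (e : 𝒵 ⥤ᵇ 𝒲) (he : IsEquivOver e)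
    (P : Scheme.{u} → Prop) (h : AlgSt.SmoothLocally P 𝒵) : AlgSt.SmoothLocally P 𝒲 := by
  intro U x' hx'
  obtain ⟨ei, ⟨α⟩, ⟨β⟩⟩ := id he
  have i : BasedFunctor.comp (BasedFunctor.comp x' ei) e ≅ BasedFunctor.comp (BasedFunctor.id _) x' :=
    (Iso.refl _ : BasedFunctor.comp (BasedFunctor.comp x' ei) e ≅
      BasedFunctor.comp x' (BasedFunctor.comp ei e)) ≪≫ whiskerLeftIso x' β ≪≫ Iso.refl _
  exact h U (BasedFunctor.comp x' ei)
    ((repByAlgSpWith_iff_of_square _ x' (BasedFunctor.comp x' ei) (BasedFunctor.id _) e (isEquivOver_id' _) he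
      i).1 hx')

/-- S16812 -/
theorem exists_isResGerbe_of_mono {𝒳 : AlgSt.Cat S} (h𝒳 : AlgSt.IsAlgStack Scheme.fppfPrecoverage 𝒳)
    (x : AlgSt.Points 𝒳) {𝒵 : AlgSt.Cat S} (h𝒵 : AlgSt.IsAlgStack Scheme.fppfPrecoverage 𝒵)
    (hred : AlgSt.SmoothLocally (fun T => IsReduced T) 𝒵)
    (hnoeth : AlgSt.SmoothLocally (fun T => IsLocallyNoetherian T) 𝒵)
    (hne : Nonempty (AlgSt.Points 𝒵)) (hsub : Subsingleton (AlgSt.Points 𝒵))
    (f : 𝒵 ⥤ᵇ 𝒳) (hf : AlgSt.IsMono f) (hfx : ∀ p : AlgSt.Points 𝒵, AlgSt.Points.map f p = x) :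
    ∃ Q : 𝒳.obj → Prop, Gerb.IsResGerbe Scheme.fppfPrecoverage 𝒳 x Q ∧
      ∃ e : 𝒵 ⥤ᵇ AlgSt.fullSub 𝒳 Q, FibCat.IsEquivOver e ∧
        Nonempty (BasedFunctor.comp e (AlgSt.subIncl 𝒳 Q) ≅ f) := by
  haveI : f.toFunctor.Full :=
    Groth.Agent.Lib.helper4.AlgStFull.full_of_isMono h𝒵.isStack.1 h𝒳.isStack.1 f hf
  haveI : f.toFunctor.Faithful :=
    Groth.Agent.Lib.helper4.AlgStFaithful.faithful_of_repByAlgSp1 h𝒵.isStack.1 h𝒳.isStack.1 f
      (fun U y => by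
        obtain ⟨F, e, he, -⟩ := hf U y
        exact ⟨F, e, he⟩)
  have he := toEssImg_isEquivOver f h𝒵.isStack.1
  have hbij := map_bijective_of_isEquivOver (toEssImg f) he
  refine ⟨essImg f, ⟨essImg_closed f, (isAlgStack_iff_of_isEquivOver _ (toEssImg f) he).1 h𝒵,
    smoothLocally_of_isEquivOver _ he _ hred, smoothLocally_of_isEquivOver _ he _ hnoeth, ?_, ?_, ?_⟩,
    toEssImg f, he, ⟨Iso.refl _⟩⟩
  · obtain ⟨p⟩ := hne
    exact ⟨Points.map (toEssImg f) p⟩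
  · constructor
    intro a b
    obtain ⟨a', rfl⟩ := hbij.2 a
    obtain ⟨b', rfl⟩ := hbij.2 b
    rw [Subsingleton.elim a' b']
  · intro z
    obtain ⟨z', rfl⟩ := hbij.2 z
    rw [← map_comp]
    exact hfx z'

end EssImage

end Groth.Agent.Lib.helper4.AlgStMonoFieldPt
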