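import Groth.Agent.Lib.Helper4.AlgStLocIm2
import Groth.Agent.Lib.Helper4.AlgStMonoFieldPt2
set_option autoImplicit false
set_option backward.isDefEq.respectTransparency false
set_option backward.isDefEq.respectTransparency.types false
set_option linter.unusedSectionVars false
set_option linter.style.haveILetI false
set_option linter.unusedVariables false
open CategoryTheory CategoryTheory.Functor CategoryTheory.Limits Opposite AlgebraicGeometry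
universe u

/-! Existence and uniqueness of the residual gerbe at the image point of a monomorphism from a reduced algebraic stack
with exactly one point (helper4). -/

namespace Groth.Agent.Lib.helper4.AlgStLocIm
open Groth.Agent.Lib.helper4.AlgStLocQ
open Groth.Agent.FibEquiv Groth.Agent.FibYoneda FibCat Groth.Agent.Lib.helper4.FibPaste
open Groth.Agent.Lib.helper4.AlgStEquiv Groth.Agent.Lib.helper4.AlgStRep
open Groth.Agent.Lib.helper4.AlgStSetoid Groth.Agent.FibFpProj Groth.Agent.Lib.helper4.FibRep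
open Groth.Agent.Lib.helper4.AlgStFpAlg Groth.Agent.Lib.helper4.AlgStDM Groth.Agent.Lib.helper4.AlgStSelf
open Groth.Agent.Lib.helper4.AlgStPts Groth.Agent.Lib.helper4.FibSwap Groth.Agent.Lib.helper4.AlgStSmLoc
open Groth.Agent.Lib.helper4.AlgStQC Groth.Agent.Lib.helper4.PshDict Groth.Agent.Lib.helper4.PshRep
open Groth.Agent.Lib.helper4.PshPB Groth.Agent.Lib.helper4.AlgStQCMor Groth.Agent.Lib.helper4.PointsBasic
open Groth.Agent.Lib.helper4.AlgStDescent Groth.Agent.Lib.helper4.AlgStCoreA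
open Groth.Agent.Lib.helper4.AlgStSource Groth.Agent.Lib.helper4.AlgStGraph
open Groth.Agent.Lib.helper4.SmLocalST Groth.Agent.Lib.helper5.LocPBC
open Groth.Agent.Lib.helper4.AlgStOpenSub Groth.Agent.Lib.helper4.StkSub
open Groth.Agent.Lib.helper4.AlgStCancel Groth.Agent.Lib.helper4.Descent
open Groth.Agent.Lib.helper4.AlgStFieldPt
open Stk AlgSt

variable {S : Scheme.{u}}

section ResGerbe

variable {𝒳 : AlgSt.Cat S} (h𝒳 : AlgSt.IsAlgStack Scheme.fppfPrecoverage 𝒳) (x : AlgSt.Points 𝒳)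
include h𝒳

/-- composites of monomorphisms of algebraic stacks are monomorphisms -/
theorem isMono_comp {𝒜 ℬ : AlgSt.Cat S} (h𝒜 : AlgSt.IsAlgStack Scheme.fppfPrecoverage 𝒜)
    (hℬ : AlgSt.IsAlgStack Scheme.fppfPrecoverage ℬ) (j : 𝒜 ⥤ᵇ ℬ) (f : ℬ ⥤ᵇ 𝒳) (hj : AlgSt.IsMono j)
    (hf : AlgSt.IsMono f) : AlgSt.IsMono (BasedFunctor.comp j f) := by
  haveI : f.toFunctor.Full := Groth.Agent.Lib.helper4.AlgStFull.full_of_isMono hℬ.isStack.1 h𝒳.isStack.1 f hf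
  haveI : f.toFunctor.Faithful :=
    Groth.Agent.Lib.helper4.AlgStFaithful.faithful_of_repByAlgSp1 hℬ.isStack.1 h𝒳.isStack.1 f
      (fun U y => by obtain ⟨F, e, he, -⟩ := hf U y; exact ⟨F, e, he⟩)
  haveI : j.toFunctor.Full := Groth.Agent.Lib.helper4.AlgStFull.full_of_isMono h𝒜.isStack.1 hℬ.isStack.1 j hj
  haveI : j.toFunctor.Faithful :=
    Groth.Agent.Lib.helper4.AlgStFaithful.faithful_of_repByAlgSp1 h𝒜.isStack.1 hℬ.isStack.1 j
      (fun U y => by obtain ⟨F, e, he, -⟩ := hj U y; exact ⟨F, e, he⟩)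
  haveI : (BasedFunctor.comp j f).toFunctor.Full := inferInstanceAs (j.toFunctor ⋙ f.toFunctor).Full
  haveI : (BasedFunctor.comp j f).toFunctor.Faithful := inferInstanceAs (j.toFunctor ⋙ f.toFunctor).Faithful
  exact Groth.Agent.Lib.helper4.AlgStBoot.isMono_of_full_of_faithful h𝒜 h𝒳 _

/-- the residual gerbe at a point is unique -/
theorem isResGerbe_unique (Q Q' : 𝒳.obj → Prop) (hQ : Gerb.IsResGerbe Scheme.fppfPrecoverage 𝒳 x Q)
    (hQ' : Gerb.IsResGerbe Scheme.fppfPrecoverage 𝒳 x Q') (ξ : 𝒳.obj) : Q' ξ ↔ Q ξ := by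
  obtain ⟨hiso, halg, hred, hnoeth, hne, hsub, hx⟩ := hQ
  obtain ⟨hiso', halg', hred', hnoeth', hne', hsub', hx'⟩ := hQ'
  obtain ⟨k, inst, a, w, hwp, hws, hwf⟩ := (fieldPt_lfp_iff halg).1 ⟨hred, hnoeth, hne, hsub⟩
  obtain ⟨k', inst', a', w', hw'p, hw's, hw'f⟩ := (fieldPt_lfp_iff halg').1 ⟨hred', hnoeth', hne', hsub'⟩
  letI : Field k := inst
  letI : Field k' := inst'
  obtain ⟨p⟩ := hne
  obtain ⟨p'⟩ := hne'
  exact iff_of_fieldPt_substacks h𝒳 Q' Q hiso' hiso halg' halg k' a' w' hw'p hw's hw'f k a w hwp hws hwf p' p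
    ((hx' p').trans (hx p).symm) ξ

/-- S16810 -/
theorem existsUnique_isResGerbe {𝒵 : AlgSt.Cat S} (h𝒵 : AlgSt.IsAlgStack Scheme.fppfPrecoverage 𝒵)
    (hred : AlgSt.SmoothLocally (fun T => IsReduced T) 𝒵)
    (hne : Nonempty (AlgSt.Points 𝒵)) (hsub : Subsingleton (AlgSt.Points 𝒵))
    (f : 𝒵 ⥤ᵇ 𝒳) (hf : AlgSt.IsMono f) (hfx : ∀ p : AlgSt.Points 𝒵, AlgSt.Points.map f p = x) :
    ∃ Q : 𝒳.obj → Prop, Gerb.IsResGerbe Scheme.fppfPrecoverage 𝒳 x Q ∧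
      ∀ Q' : 𝒳.obj → Prop, Gerb.IsResGerbe Scheme.fppfPrecoverage 𝒳 x Q' → ∀ ξ : 𝒳.obj, Q' ξ ↔ Q ξ := by
  have h01 := (tfae_fieldPt h𝒵).out 0 1
  obtain ⟨k, inst, a, z, hzs, hzf⟩ := h01.1 ⟨hred, hne, hsub⟩
  letI : Field k := inst
  obtain ⟨Q₀, ⟨hiso₀, halg₀, ⟨k', inst', a', z', hz'p, hz's, hz'f⟩, hmono₀⟩, -⟩ :=
    existsUnique_fullSub_lfp_fieldPt h𝒵 k a z hzs hzf
  letI : Field k' := inst'
  obtain ⟨hred₀, hnoeth₀, hne₀, hsub₀⟩ := (fieldPt_lfp_iff halg₀).2 ⟨k', inst', a', z', hz'p, hz's, hz'f⟩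
  have hmono : AlgSt.IsMono (BasedFunctor.comp (AlgSt.subIncl 𝒵 Q₀) f) :=
    isMono_comp h𝒳 halg₀ h𝒵 _ f hmono₀ hf
  have hfx₀ : ∀ p : AlgSt.Points (AlgSt.fullSub 𝒵 Q₀),
      AlgSt.Points.map (BasedFunctor.comp (AlgSt.subIncl 𝒵 Q₀) f) p = x := by
    intro p
    rw [map_comp]
    exact hfx _
  obtain ⟨Q, hQ, -⟩ := Groth.Agent.Lib.helper4.AlgStMonoFieldPt.exists_isResGerbe_of_mono h𝒳 x halg₀ hred₀ hnoeth₀
    hne₀ hsub₀ _ hmono hfx₀
  exact ⟨Q, hQ, fun Q' hQ' ξ => isResGerbe_unique h𝒳 x Q Q' hQ hQ' ξ⟩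

end ResGerbe

end Groth.Agent.Lib.helper4.AlgStLocIm
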