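import Groth.Agent.Lib.Helper4.AlgStLocIm3
set_option autoImplicit false
set_option backward.isDefEq.respectTransparency false
set_option backward.isDefEq.respectTransparency.types false
set_option linter.unusedSectionVars false
set_option linter.style.haveILetI false
set_option linter.unusedVariables false
open CategoryTheory CategoryTheory.Functor CategoryTheory.Limits Opposite AlgebraicGeometry
universe u

/-! The local essential image of a locally finite type field point of an arbitrary algebraic stack is the residual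
gerbe at that point; equivalent conditions for the existence of the residual gerbe (helper4). -/

namespace Groth.Agent.Lib.helper4.AlgStLocIm4
open Groth.Agent.Lib.helper4.AlgStLocQ
open Groth.Agent.FibEquiv Groth.Agent.FibYoneda FibCat Groth.Agent.Lib.helper4.FibPaste
open Groth.Agent.Lib.helper4.AlgStEquiv Groth.Agent.Lib.helper4.AlgStRep
open Groth.Agent.Lib.helper4.AlgStSetoid Groth.Agent.FibFpProj Groth.Agent.Lib.helper4.FibRep
open Groth.Agent.Lib.helper4.AlgStFpAlg Groth.Agent.Lib.helper4.AlgStDM Groth.Agent.Lib.helper4.AlgStSelf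
open Groth.Agent.Lib.helper4.AlgStPts Groth.Agent.Lib.helper4.FibSwap Groth.Agent.Lib.helper4.AlgStSmLoc
open Groth.Agent.Lib.helper4.AlgStQC Groth.Agent.Lib.helper4.PshDict Groth.Agent.Lib.helper4.PshRep
open Groth.Agent.Lib.helper4.PshPB Groth.Agent.Lib.helper4.AlgStQCMor Groth.Agent.Lib.helper4.PointsBasic
open Groth.Agent.Lib.helper4.AlgStDescent Groth.Agent.Lib.helper4.AlgStCoreA
open Groth.Agent.Lib.helper4.AlgStSource Groth.Agent.Lib.helper4.AlgStGraph
open Groth.Agent.Lib.helper4.SmLocalST Groth.Agent.Lib.helper5.LocPBC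
open Groth.Agent.Lib.helper4.AlgStOpenSub Groth.Agent.Lib.helper4.StkSub
open Groth.Agent.Lib.helper4.AlgStCancel Groth.Agent.Lib.helper4.Descent
open Groth.Agent.Lib.helper4.AlgStFieldPt Groth.Agent.Lib.helper4.AlgStLocIm
open Stk AlgSt

variable {S : Scheme.{u}}

section Main

variable {𝒵 : AlgSt.Cat S} (h𝒵 : AlgSt.IsAlgStack Scheme.fppfPrecoverage 𝒵)
  (k : Type u) [Field k] (a : Spec (CommRingCat.of k) ⟶ S) (z : overCat (Over.mk a) ⥤ᵇ 𝒵)
include h𝒵

/-- **the local essential image of a locally finite type field point** of an arbitrary algebraic stack is an algebraic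
stack, the field point is flat, surjective and locally finitely presented over it, and its inclusion is a
monomorphism -/
theorem locIm_lftPt_data (hzl : AlgSt.RepByAlgSpWith (AlgSp.LocP @LocallyOfFiniteType) z) :
    AlgSt.IsAlgStack Scheme.fppfPrecoverage (AlgSt.fullSub 𝒵 (locIm z)) ∧
      AlgSt.RepByAlgSpWith (AlgSp.LocP @LocallyOfFinitePresentation)
        (toLocIm z (Groth.Agent.FibOver.isFibGrpd_overCat (Over.mk a))) ∧
      AlgSt.RepByAlgSpWith AlgSp.IsSurjectiveMor (toLocIm z (Groth.Agent.FibOver.isFibGrpd_overCat (Over.mk a))) ∧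
      AlgSt.RepByAlgSpWith (AlgSp.LocP @Flat) (toLocIm z (Groth.Agent.FibOver.isFibGrpd_overCat (Over.mk a))) ∧
      AlgSt.IsMono (AlgSt.subIncl 𝒵 (locIm z)) := by
  have hK : AlgSt.IsAlgStack Scheme.fppfPrecoverage (overCat (Over.mk a)) := isAlgStack_overCat _
  have hfp : AlgSt.IsAlgStack Scheme.fppfPrecoverage (fp z z) := isAlgStack_fp' hK hK h𝒵 z z
  have hz1 : AlgSt.RepByAlgSp1 z := Groth.Agent.Lib.helper4.AlgStDiag.repByAlgSp1_of_diag h𝒵.diag _ z
  have hpr1 : AlgSt.RepByAlgSp1 (fpFst z z) :=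
    (repByAlgSp1_iff_top _).2 (Groth.Agent.Lib.helper4.AlgStDiagBC.repByAlgSpWith_fpFst ⊤ z z
      ((repByAlgSp1_iff_top z).1 hz1))
  have Hf : AlgSt.RepByAlgSpWith (AlgSp.LocP @Flat) (fpFst z z) := by
    have hq : AlgSt.LocQ (AlgSp.LocP @Flat) (fpFst z z) := locQ_flat_to_field k a hfp _
    exact (locQ_iff_repByAlgSpWith hfp hK (fpFst z z) _ isSmoothLocalST_flat
      (fun X₁ Y₁ X₂ Y₂ h1 h2 _ h4 a b a' b' sq ha => locP_of_isPullback locPData_flat h1 h2 h4 sq ha)
      hpr1).1 hq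
  have Hs : AlgSt.RepByAlgSpWith AlgSp.IsSurjectiveMor (fpFst z z) := by
    have hs' : AlgSt.IsSurjective (fpFst z z) := by
      intro w
      obtain ⟨p⟩ := nonempty_points_field k a
      obtain ⟨q, hq, -⟩ := Groth.Agent.Lib.helper4.AlgStPts.exists_points_fp hK.isStack.1 h𝒵.isStack.1 hK.isStack.1
        z z p p rfl
      exact ⟨q, Subsingleton.elim _ _⟩
    exact repByAlgSpWith_of_isSurjective hfp.isStack.1 hK.isStack.1 (fpFst z z) hpr1 hs'
  have Hl : AlgSt.RepByAlgSpWith (AlgSp.LocP @LocallyOfFiniteType) (fpFst z z) :=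
    Groth.Agent.Lib.helper4.AlgStDiagBC.repByAlgSpWith_fpFst _ z z hzl
  have hkN : IsLocallyNoetherian (Over.mk a).left := by
    change IsLocallyNoetherian (Spec (CommRingCat.of k)); infer_instance
  have hnoeth := smoothLocally_isLocallyNoetherian_overCat (Over.mk a)
  have Hp : AlgSt.RepByAlgSpWith (AlgSp.LocP @LocallyOfFinitePresentation) (fpFst z z) :=
    Groth.Agent.Lib.helper4.AlgStFieldPt.repByAlgSpWith_lfp_of_lft hK hfp hnoeth (fpFst z z) hpr1 Hl
  have z'f := repByAlgSpWith_toLocIm h𝒵 z _ (isLocalOnBase_fppf_of_fpqc (Groth.Agent.S10530.result S)) Hf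
  have z'p := repByAlgSpWith_toLocIm h𝒵 z _ (isLocalOnBase_fppf_of_fpqc (Groth.Agent.S10527.result S)) Hp
  have z's := repByAlgSpWith_toLocIm h𝒵 z _ isLocalOnBase_isSurjectiveMor Hs
  have hj1 := repByAlgSp1_subIncl_locIm h𝒵 z z'f z'p z's
  have halg : AlgSt.IsAlgStack Scheme.fppfPrecoverage (AlgSt.fullSub 𝒵 (locIm z)) :=
    isAlgStack_of_repByAlgSp1_of_isStack
      (isStack_fullSub_locIm z (Groth.Agent.FibOver.isFibGrpd_overCat _) h𝒵.isStack) h𝒵 _ hj1
  exact ⟨halg, z'p, z's, z'f,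
    Groth.Agent.Lib.helper4.AlgStBoot.isMono_of_full_of_faithful halg h𝒵 (AlgSt.subIncl 𝒵 (locIm z))⟩

/-- the local essential image of a locally finite type field point is the residual gerbe at the point it represents -/
theorem isResGerbe_locIm_of_lft (hzl : AlgSt.RepByAlgSpWith (AlgSp.LocP @LocallyOfFiniteType) z)
    (p : AlgSt.Points (overCat (Over.mk a))) :
    Gerb.IsResGerbe Scheme.fppfPrecoverage 𝒵 (AlgSt.Points.map z p) (locIm z) := by
  obtain ⟨halg, z'p, z's, z'f, hmono⟩ := locIm_lftPt_data h𝒵 k a z hzl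
  obtain ⟨hred, hnoeth, hne, hsub⟩ := (fieldPt_lfp_iff halg).2 ⟨k, inferInstance, a, _, z'p, z's, z'f⟩
  refine ⟨locIm_isClosedUnderIsomorphisms h𝒵.isStack.1, halg, hred, hnoeth, hne, hsub, fun q => ?_⟩
  have hq : q = AlgSt.Points.map (toLocIm z (Groth.Agent.FibOver.isFibGrpd_overCat (Over.mk a))) p :=
    Subsingleton.elim _ _
  rw [hq, ← PointsBasic.map_comp]
  rfl

end Main

section TFAE

variable {𝒳 : AlgSt.Cat S} (h𝒳 : AlgSt.IsAlgStack Scheme.fppfPrecoverage 𝒳) (x : AlgSt.Points 𝒳)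
include h𝒳

/-- S16809 -/
theorem resGerbeExists_tfae :
    [Gerb.ResGerbeExists Scheme.fppfPrecoverage 𝒳 x,
      ∃ (𝒵 : AlgSt.Cat S) (f : 𝒵 ⥤ᵇ 𝒳), AlgSt.IsAlgStack Scheme.fppfPrecoverage 𝒵 ∧
        AlgSt.SmoothLocally (fun T => IsReduced T) 𝒵 ∧ AlgSt.IsMono f ∧
        Nonempty (AlgSt.Points 𝒵) ∧ Subsingleton (AlgSt.Points 𝒵) ∧ ∀ p, AlgSt.Points.map f p = x,
      ∃ (𝒵 : AlgSt.Cat S) (f : 𝒵 ⥤ᵇ 𝒳) (k : Type u) (_ : Field k) (a : Spec (CommRingCat.of k) ⟶ S)
        (z : FibCat.overCat (Over.mk a) ⥤ᵇ 𝒵), AlgSt.IsAlgStack Scheme.fppfPrecoverage 𝒵 ∧ AlgSt.IsMono f ∧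
        AlgSt.RepByAlgSpWith AlgSp.IsSurjectiveMor z ∧ AlgSt.RepByAlgSpWith (AlgSp.LocP @Flat) z ∧
        ∀ t : ↥(Over.mk a).left, AlgSt.Points.map f (AlgSt.Points.ofChart z t) = x].TFAE := by
  tfae_have 1 → 2 := by
    rintro ⟨𝒵, i, halg, hmono, hne, hsub, hx⟩
    obtain ⟨k, inst, a, z, hzl⟩ := exists_lft_fieldPt halg hne
    letI : Field k := inst
    obtain ⟨halg', z'p, z's, z'f, hmono'⟩ := locIm_lftPt_data halg k a z hzl
    obtain ⟨hred, hnoeth, hne', hsub'⟩ := (fieldPt_lfp_iff halg').2 ⟨k, inst, a, _, z'p, z's, z'f⟩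
    refine ⟨AlgSt.fullSub 𝒵 (locIm z), BasedFunctor.comp (AlgSt.subIncl 𝒵 (locIm z)) i, halg', hred,
      isMono_comp h𝒳 halg' halg _ i hmono' hmono, hne', hsub', fun p => ?_⟩
    rw [PointsBasic.map_comp]
    exact hx _
  tfae_have 2 → 3 := by
    rintro ⟨𝒵, f, halg, hred, hmono, hne, hsub, hx⟩
    have h01 := (tfae_fieldPt halg).out 0 1
    obtain ⟨k, inst, a, z, hzs, hzf⟩ := h01.1 ⟨hred, hne, hsub⟩
    exact ⟨𝒵, f, k, inst, a, z, halg, hmono, hzs, hzf, fun t => hx _⟩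
  tfae_have 3 → 1 := by
    rintro ⟨𝒵, f, k, inst, a, z, halg, hmono, hzs, hzf, hpt⟩
    letI : Field k := inst
    have hsub : Subsingleton (AlgSt.Points 𝒵) := subsingleton_points halg k a z hzs
    have hne0 : Nonempty ↥(Over.mk a).left := by
      change Nonempty (PrimeSpectrum k); infer_instance
    obtain ⟨t⟩ := hne0
    refine ⟨𝒵, f, halg, hmono, ⟨AlgSt.Points.ofChart z t⟩, hsub, fun p => ?_⟩
    rw [Subsingleton.elim p (AlgSt.Points.ofChart z t)]
    exact hpt t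
  tfae_finish

end TFAE

end Groth.Agent.Lib.helper4.AlgStLocIm4
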