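import Groth.Agent.Lib.Helper4.AlgStLocQ
import Groth.Agent.Lib.Helper5.AlgSpSmLocal
set_option autoImplicit false
set_option backward.isDefEq.respectTransparency false
set_option backward.isDefEq.respectTransparency.types false
set_option linter.unusedSectionVars false
set_option linter.style.haveILetI false
set_option linter.unusedVariables false
open CategoryTheory CategoryTheory.Functor CategoryTheory.Limits Opposite AlgebraicGeometry
universe u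

/-! `AlgSt.LocQ`: chart squares of algebraic spaces, morphisms of algebraic spaces, and morphisms representable by
algebraic spaces. -/

namespace Groth.Agent.Lib.helper4.AlgStLocQ
open Groth.Agent.FibEquiv Groth.Agent.FibYoneda FibCat Groth.Agent.Lib.helper4.FibPaste
open Groth.Agent.Lib.helper4.AlgStEquiv Groth.Agent.Lib.helper4.AlgStRep
open Groth.Agent.Lib.helper4.AlgStSetoid Groth.Agent.FibFpProj Groth.Agent.Lib.helper4.FibRep
open Groth.Agent.Lib.helper4.AlgStFpAlg Groth.Agent.Lib.helper4.AlgStDM Groth.Agent.Lib.helper4.AlgStSelf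
open Groth.Agent.Lib.helper4.AlgStPts Groth.Agent.Lib.helper4.FibSwap Groth.Agent.Lib.helper4.AlgStSmLoc
open Groth.Agent.Lib.helper4.AlgStQC Groth.Agent.Lib.helper4.PshDict Groth.Agent.Lib.helper4.PshRep
open Groth.Agent.Lib.helper4.PshPB Groth.Agent.Lib.helper4.AlgStQCMor Groth.Agent.Lib.helper4.PointsBasic
open Groth.Agent.Lib.helper4.AlgStDescent Groth.Agent.Lib.helper4.AlgStCoreA
open Groth.Agent.Lib.helper4.AlgStSource Groth.Agent.Lib.helper4.AlgStGraph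
open Stk AlgSt

variable {S : Scheme.{u}}

section Transport

variable {𝒳 𝒴 𝒳' 𝒴' : AlgSt.Cat S}

/-- `LocQ` is invariant under equivalences of source and target -/
theorem locQ_of_square_equiv (P : MorphismProperty (AlgSp.Sp S)) (f : 𝒳 ⥤ᵇ 𝒴) (f' : 𝒳' ⥤ᵇ 𝒴')
    (a : 𝒳' ⥤ᵇ 𝒳) (b : 𝒴' ⥤ᵇ 𝒴) (ha : IsEquivOver a) (hb : IsEquivOver b)
    (e : BasedFunctor.comp f' b ≅ BasedFunctor.comp a f) (h : AlgSt.LocQ P f') : AlgSt.LocQ P f := by
  obtain ⟨U, V, x, y, k, α, hx, hxs, hy, hPk⟩ := h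
  refine ⟨U, V, BasedFunctor.comp x a, BasedFunctor.comp y b, k,
    whiskerLeftIso x e.symm ≪≫ whiskerRightIso α b, ?_, ?_, ?_, hPk⟩
  · exact (repByAlgSpWith_iff_of_square _ (BasedFunctor.comp x a) x (BasedFunctor.id _) a (isEquivOver_id' _) ha
      (Iso.refl _)).2 hx
  · exact (repByAlgSpWith_iff_of_square _ (BasedFunctor.comp x a) x (BasedFunctor.id _) a (isEquivOver_id' _) ha
      (Iso.refl _)).2 hxs
  · exact (repByAlgSpWith_iff_of_square _ (BasedFunctor.comp y b) y (BasedFunctor.id _) b (isEquivOver_id' _) hb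
      (Iso.refl _)).2 hy

theorem locQ_congr (P : MorphismProperty (AlgSp.Sp S)) {f f' : 𝒳 ⥤ᵇ 𝒴} (i : f ≅ f') (h : AlgSt.LocQ P f') :
    AlgSt.LocQ P f :=
  locQ_of_square_equiv P f f' (BasedFunctor.id _) (BasedFunctor.id _) (isEquivOver_id' _) (isEquivOver_id' _)
    i.symm h

end Transport

section Spaces

theorem isLocalOnBase_smooth' : AlgSp.IsLocalOnBase (AlgSp.IsFppfCover (S := S)) (AlgSp.LocP @Smooth) :=
  isLocalOnBase_fppf_of_fpqc (Groth.Agent.S10542.result S)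

/-- cancel an equivalence on the left of a 2-isomorphism -/
theorem iso_of_equiv_comp {𝒜 ℬ 𝒞 : AlgSt.Cat S} (E : 𝒜 ⥤ᵇ ℬ) (hE : IsEquivOver E) (A B : ℬ ⥤ᵇ 𝒞)
    (i : BasedFunctor.comp E A ≅ BasedFunctor.comp E B) : Nonempty (A ≅ B) := by
  obtain ⟨Ei, ⟨α⟩, ⟨β⟩⟩ := hE
  have i1 : BasedFunctor.comp (BasedFunctor.comp Ei E) A ≅ A := whiskerRightIso β A
  have i2 : BasedFunctor.comp (BasedFunctor.comp Ei E) B ≅ B := whiskerRightIso β B
  have i3 : BasedFunctor.comp Ei (BasedFunctor.comp E A) ≅ BasedFunctor.comp Ei (BasedFunctor.comp E B) :=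
    whiskerLeftIso Ei i
  exact ⟨i1.symm ≪≫ i3 ≪≫ i2⟩

/-- the map of sheaves of a chart of the category of an algebraic space has the properties of the chart -/
theorem prop_of_chart (Q : MorphismProperty (AlgSp.Sp S)) (hQ : IsoInv Q)
    (hloc : AlgSp.IsLocalOnBase AlgSp.IsFppfCover Q) {F : AlgSp.Sp S} (hF : AlgSp.IsAlgSpace F) {U : Over S}
    (x : overCat U ⥤ᵇ AlgSt.ofSp F) (ξ : (AlgSp.yon S).obj U ⟶ F) (ix : x ≅ ofMap ξ)
    (hx : AlgSt.RepByAlgSpWith Q x) : Q ξ := by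
  have h1 : AlgSt.RepByAlgSpWith Q (ofMap ξ) := (repByAlgSpWith_congr _ ix).1 hx
  have h2 : AlgSt.RepByAlgSpWith Q (AlgSt.ofSpMap ξ) :=
    (repByAlgSpWith_precomp_iff _ (AlgSt.ofSpMap ξ) (toYon.{u + 1} U) (toYon_isEquivOver U)).2 h1
  exact prop_of_repByAlgSpWith_ofSpMap Q hQ hloc (AlgSp.IsAlgSpace.yon_obj U) hF ξ h2

/-- S12992, forward direction -/
theorem prop_of_locQ_ofSpMap (P : MorphismProperty (AlgSp.Sp S)) (hP : AlgSp.IsSmoothLocalST P)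
    (F G : AlgSp.Space S) (a : F ⟶ G) (h : AlgSt.LocQ P (AlgSt.ofSpMap a.hom)) : P a.hom := by
  obtain ⟨U, V, x, y, k, α, hx, hxs, hy, hPk⟩ := h
  obtain ⟨ξ, ⟨ix⟩⟩ := exists_map_of_chart x
  obtain ⟨η, ⟨iy⟩⟩ := exists_map_of_chart y
  have hξ : AlgSp.LocP @Smooth ξ :=
    prop_of_chart _ (isoInv_locP _) isLocalOnBase_smooth' F.property x ξ ix hx
  have hξs : AlgSp.IsSurjectiveMor ξ :=
    prop_of_chart _ isoInv_isSurjectiveMor isLocalOnBase_isSurjectiveMor F.property x ξ ix hxs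
  have hη : AlgSp.LocP @Smooth η :=
    prop_of_chart _ (isoInv_locP _) isLocalOnBase_smooth' G.property y η iy hy
  have heq : ξ ≫ a.hom = (AlgSp.yon S).map k ≫ η := by
    have i1 : BasedFunctor.comp (toYon.{u + 1} U)
          (BasedFunctor.comp (AlgSt.ofSpMap ξ) (AlgSt.ofSpMap a.hom)) ≅
        BasedFunctor.comp (toYon.{u + 1} U)
          (BasedFunctor.comp (AlgSt.ofSpMap ((AlgSp.yon S).map k)) (AlgSt.ofSpMap η)) :=
      whiskerRightIso ix.symm (AlgSt.ofSpMap a.hom) ≪≫ α ≪≫ whiskerLeftIso (AlgSt.overMap k) iy ≪≫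
        whiskerRightIso (Groth.Agent.Lib.helper4.PshRepGen.overMapIso.{u + 1} k) (AlgSt.ofSpMap η)
    obtain ⟨i2⟩ := iso_of_equiv_comp _ (toYon_isEquivOver U) _ _ i1
    have h3 := pshMapOf_congr i2
    have h1 : pshMapOf (BasedFunctor.comp (AlgSt.ofSpMap ξ) (AlgSt.ofSpMap a.hom)) = ξ.hom ≫ a.hom.hom := by
      refine (pshMapOf_comp _ _).trans ?_
      rw [pshMapOf_ofPshMap, pshMapOf_ofPshMap]
    have h2 : pshMapOf (BasedFunctor.comp (AlgSt.ofSpMap ((AlgSp.yon S).map k)) (AlgSt.ofSpMap η)) =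
        ((AlgSp.yon S).map k).hom ≫ η.hom := by
      refine (pshMapOf_comp _ _).trans ?_
      rw [pshMapOf_ofPshMap, pshMapOf_ofPshMap]
    rw [h1, h2] at h3
    apply ObjectProperty.hom_ext
    exact h3
  refine (hP.locality F.property G.property a.hom).2 (fun pt => ?_)
  obtain ⟨v, hv⟩ := hξs pt
  exact ⟨_, _, ξ, η, (AlgSp.yon S).map k, v, AlgSp.IsAlgSpace.yon_obj U, AlgSp.IsAlgSpace.yon_obj V, hξ, hη,
    heq, hv, hPk⟩

end Spaces

section Main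

theorem repByAlgSpWith_id (Q : MorphismProperty (AlgSp.Sp S))
    (hPb : ∀ ⦃X₁ Y₁ X₂ Y₂ : AlgSp.Sp S⦄, AlgSp.IsAlgSpace X₁ → AlgSp.IsAlgSpace Y₁ → AlgSp.IsAlgSpace X₂ →
      AlgSp.IsAlgSpace Y₂ → ∀ (a : X₁ ⟶ Y₁) (b : Y₂ ⟶ Y₁) (a' : X₂ ⟶ Y₂) (b' : X₂ ⟶ X₁),
      IsPullback b' a' a b → Q a → Q a')
    {F : AlgSp.Sp S} (hF : AlgSp.IsAlgSpace F) (hid : Q (𝟙 F)) :
    AlgSt.RepByAlgSpWith Q (BasedFunctor.id (AlgSt.ofSp F)) := by
  have h1 : AlgSt.RepByAlgSpWith Q (AlgSt.ofSpMap (𝟙 F)) :=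
    repByAlgSpWith_of_repBySpWith _ (𝟙 F : F ⟶ F).hom (repBySpWith_of_stable _ hPb hF hF (𝟙 F) hid)
  refine (repByAlgSpWith_congr _ (isoOfPshMapOfEq ?_)).1 h1
  rw [pshMapOf_ofPshMap, pshMapOf_id]
  rfl

theorem smooth_id {F : AlgSp.Sp S} (hF : AlgSp.IsAlgSpace F) :
    AlgSt.RepByAlgSpWith (AlgSp.LocP @Smooth) (BasedFunctor.id (AlgSt.ofSp F)) :=
  repByAlgSpWith_id _ (fun X₁ Y₁ X₂ Y₂ h1 h2 _ h4 a b a' b' sq ha =>
      Groth.Agent.Lib.helper5.LocPBC.locP_of_isPullback Groth.Agent.Lib.helper5.LocPBC.locPData_smooth h1 h2 h4 sq ha)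
    hF (Groth.Agent.Lib.helper5.SmLocal.locP_smooth_id F)

theorem surj_id {F : AlgSp.Sp S} (hF : AlgSp.IsAlgSpace F) :
    AlgSt.RepByAlgSpWith AlgSp.IsSurjectiveMor (BasedFunctor.id (AlgSt.ofSp F)) :=
  repByAlgSpWith_id _ (fun X₁ Y₁ X₂ Y₂ _ _ _ _ a b a' b' sq ha z => by
      obtain ⟨x, hx⟩ := ha (AlgSp.Points.map b z)
      obtain ⟨w, -, hw⟩ := Groth.Agent.Lib.helper10.exists_point_of_isPullback sq x z hx
      exact ⟨w, hw⟩)
    hF (fun z => ⟨z, AlgSp.Points.map_id z⟩)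

/-- S12992 -/
theorem locQ_ofSpMap_iff (P : MorphismProperty (AlgSp.Sp S)) (hP : AlgSp.IsSmoothLocalST P)
    (F G : AlgSp.Space S) (a : F ⟶ G) : AlgSt.LocQ P (AlgSt.ofSpMap a.hom) ↔ P a.hom := by
  refine ⟨prop_of_locQ_ofSpMap P hP F G a, fun h => ?_⟩
  exact locQ_of_space_square (isFibGrpd_ofPsh _) (isFibGrpd_ofPsh _) (AlgSt.ofSpMap a.hom) P hP F G
    (BasedFunctor.id _) (BasedFunctor.id _) a (Iso.refl _) (smooth_id F.property) (surj_id F.property)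
    (smooth_id G.property) h

variable {𝒳 𝒴 : AlgSt.Cat S} (h𝒳 : AlgSt.IsAlgStack Scheme.fppfPrecoverage 𝒳)
  (h𝒴 : AlgSt.IsAlgStack Scheme.fppfPrecoverage 𝒴) (f : 𝒳 ⥤ᵇ 𝒴)
include h𝒳 h𝒴

/-- S12991 -/
theorem locQ_iff_exists_space_square (P : MorphismProperty (AlgSp.Sp S)) (hP : AlgSp.IsSmoothLocalST P) :
    AlgSt.LocQ P f ↔
      ∃ (U V : AlgSp.Space S) (x : AlgSt.ofSp U.obj ⥤ᵇ 𝒳) (y : AlgSt.ofSp V.obj ⥤ᵇ 𝒴) (h : U ⟶ V)
        (_ : BasedFunctor.comp x f ≅ BasedFunctor.comp (AlgSt.ofSpMap h.hom) y),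
        AlgSt.RepByAlgSpWith (AlgSp.LocP @Smooth) x ∧ AlgSt.RepByAlgSpWith AlgSp.IsSurjectiveMor x ∧
        AlgSt.RepByAlgSpWith (AlgSp.LocP @Smooth) y ∧ P h.hom := by
  constructor
  · rintro ⟨U, V, x, y, h, α, hx, hxs, hy, hPh⟩
    obtain ⟨YiU, ⟨αU⟩, ⟨βU⟩⟩ := toYon_isEquivOver.{u + 1} U
    have hYiU : IsEquivOver YiU := isEquivOver_symm αU βU
    obtain ⟨YiV, ⟨αV⟩, ⟨βV⟩⟩ := toYon_isEquivOver.{u + 1} V
    have hYiV : IsEquivOver YiV := isEquivOver_symm αV βV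
    have i1 : BasedFunctor.comp YiU (AlgSt.overMap h) ≅
        BasedFunctor.comp (AlgSt.ofSpMap ((AlgSp.yon S).map h)) YiV :=
      (whiskerLeftIso (BasedFunctor.comp YiU (AlgSt.overMap h)) αV).symm ≪≫
        whiskerLeftIso YiU (whiskerRightIso (Groth.Agent.Lib.helper4.PshRepGen.overMapIso.{u + 1} h) YiV) ≪≫
        whiskerRightIso βU (BasedFunctor.comp (AlgSt.ofSpMap ((AlgSp.yon S).map h)) YiV)
    refine ⟨⟨(AlgSp.yon S).obj U, AlgSp.IsAlgSpace.yon_obj U⟩, ⟨(AlgSp.yon S).obj V, AlgSp.IsAlgSpace.yon_obj V⟩,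
      BasedFunctor.comp YiU x, BasedFunctor.comp YiV y, ObjectProperty.homMk ((AlgSp.yon S).map h),
      whiskerLeftIso YiU α ≪≫ whiskerRightIso i1 y, ?_, ?_, ?_, hPh⟩
    · exact (repByAlgSpWith_precomp_iff _ x YiU hYiU).1 hx
    · exact (repByAlgSpWith_precomp_iff _ x YiU hYiU).1 hxs
    · exact (repByAlgSpWith_precomp_iff _ y YiV hYiV).1 hy
  · rintro ⟨U, V, x, y, h, α, hx, hxs, hy, hPh⟩
    exact locQ_of_space_square h𝒳.isStack.1 h𝒴.isStack.1 f P hP U V x y h α hx hxs hy hPh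

/-- a morphism representable by algebraic spaces with `P` has `P` on a chart square (only precomposition with smooth
morphisms is used) -/
theorem locQ_of_repByAlgSpWith_gen (P : MorphismProperty (AlgSp.Sp S))
    (hbc : ∀ ⦃X Y X' Y' : AlgSp.Sp S⦄, AlgSp.IsAlgSpace X → AlgSp.IsAlgSpace Y → AlgSp.IsAlgSpace X' →
      AlgSp.IsAlgSpace Y' → ∀ (f : X ⟶ Y) (g : Y' ⟶ Y) (f' : X' ⟶ Y') (g' : X' ⟶ X),
      IsPullback g' f' f g → AlgSp.RepWith @Etale g → P f → P f')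
    (hpre : ∀ ⦃X Y Z : AlgSp.Sp S⦄, AlgSp.IsAlgSpace X → AlgSp.IsAlgSpace Y → AlgSp.IsAlgSpace Z →
      ∀ (f : X ⟶ Y) (g : Y ⟶ Z), AlgSp.RepWith @Etale f → P g → P (f ≫ g))
    (h : AlgSt.RepByAlgSpWith P f) : AlgSt.LocQ P f := by
  obtain ⟨V, y, hy, hys⟩ := h𝒴.atlas
  obtain ⟨F, e, he, hPF⟩ := h V y
  have hVf : IsFibGrpd (overCat V).p := Groth.Agent.FibOver.isFibGrpd_overCat V
  obtain ⟨YiV, ⟨αV⟩, ⟨βV⟩⟩ := toYon_isEquivOver.{u + 1} V
  have hYiV : IsEquivOver YiV := isEquivOver_symm αV βV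
  have hx : AlgSt.RepByAlgSpWith (AlgSp.LocP @Smooth) (BasedFunctor.comp e (fpSnd y f)) :=
    (repByAlgSpWith_precomp_iff _ (fpSnd y f) e he).1 (repByAlgSpWith_fpSnd h𝒳.isStack.1 h𝒴.isStack.1 hVf _ y f hy)
  have hxs : AlgSt.RepByAlgSpWith AlgSp.IsSurjectiveMor (BasedFunctor.comp e (fpSnd y f)) :=
    (repByAlgSpWith_precomp_iff _ (fpSnd y f) e he).1 (repByAlgSpWith_fpSnd h𝒳.isStack.1 h𝒴.isStack.1 hVf _ y f hys)
  have hy' : AlgSt.RepByAlgSpWith (AlgSp.LocP @Smooth) (BasedFunctor.comp YiV y) :=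
    (repByAlgSpWith_precomp_iff _ y YiV hYiV).1 hy
  have i0 : AlgSt.ofSpMap (AlgSt.spMapOfOver (BasedFunctor.comp e (fpFst y f))) ≅
      BasedFunctor.comp (BasedFunctor.comp e (fpFst y f)) (toYon.{u + 1} V) := by
    have := (isoOfPshMap (BasedFunctor.comp (BasedFunctor.comp e (fpFst y f)) (toYon.{u + 1} V))).symm
    rw [← spMapOfOver_hom] at this
    exact this
  have i1 : BasedFunctor.comp (AlgSt.ofSpMap (AlgSt.spMapOfOver (BasedFunctor.comp e (fpFst y f)))) YiV ≅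
      BasedFunctor.comp e (fpFst y f) :=
    whiskerRightIso i0 YiV ≪≫ whiskerLeftIso (BasedFunctor.comp e (fpFst y f)) αV
  have α : BasedFunctor.comp (BasedFunctor.comp e (fpSnd y f)) f ≅
      BasedFunctor.comp (AlgSt.ofSpMap (AlgSt.spMapOfOver (BasedFunctor.comp e (fpFst y f))))
        (BasedFunctor.comp YiV y) :=
    whiskerLeftIso e (fpIso y f).symm ≪≫ whiskerRightIso i1.symm y
  exact locQ_of_space_square_gen h𝒳.isStack.1 h𝒴.isStack.1 f P F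
    ⟨(AlgSp.yon S).obj V, AlgSp.IsAlgSpace.yon_obj V⟩ _ _
    (ObjectProperty.homMk (AlgSt.spMapOfOver (BasedFunctor.comp e (fpFst y f))))
    (fun {V₀} q hq {W} hW pr₁ pr₂ sq =>
      hbc F.property (AlgSp.IsAlgSpace.yon_obj V) hW (AlgSp.IsAlgSpace.yon_obj V₀) _ q _ _ sq hq hPF)
    (fun {U₀ V₀ W} hW p g hp hg =>
      hpre (AlgSp.IsAlgSpace.yon_obj U₀) hW (AlgSp.IsAlgSpace.yon_obj V₀) p g hp hg)
    α hx hxs hy'

/-- a morphism representable by algebraic spaces with `P` has `P` on a chart square -/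
theorem locQ_of_repByAlgSpWith (P : MorphismProperty (AlgSp.Sp S)) (hP : AlgSp.IsSmoothLocalST P)
    (h : AlgSt.RepByAlgSpWith P f) : AlgSt.LocQ P f :=
  locQ_of_repByAlgSpWith_gen h𝒳 h𝒴 f P
    (fun X Y X' Y' hX hY hX' hY' f g f' g' sq hg hf =>
      hP.baseChange hX hY hX' hY' f g f' g' sq (locP_smooth_of_etale g hg) hf)
    (fun X Y Z hX hY hZ f g hf hg => hP.precomp hX hY hZ f g (locP_smooth_of_etale f hf) hg) h

/-- the same for properties of schemes read on etale charts -/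
theorem locQ_locP_of_repByAlgSpWith {Q₀ : MorphismProperty Scheme.{u}}
    (hQ₀ : Groth.Agent.Lib.helper5.LocPBC.LocPData Q₀) (h : AlgSt.RepByAlgSpWith (AlgSp.LocP Q₀) f) :
    AlgSt.LocQ (AlgSp.LocP Q₀) f :=
  locQ_of_repByAlgSpWith_gen h𝒳 h𝒴 f _
    (fun X Y X' Y' hX hY hX' hY' f g f' g' sq hg hf =>
      Groth.Agent.Lib.helper5.LocPBC.locP_of_isPullback hQ₀ hX hY hY' sq hf)
    (fun X Y Z hX hY hZ f g hf hg => by
      intro U V a b k ha hb hsq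
      refine hg (a ≫ f) b k ((AlgSp.RepWith (S := S) @Etale).comp_mem _ _ ha hf) hb ?_
      rw [Category.assoc]
      exact hsq) h

/-- S12993 -/
theorem locQ_iff_repByAlgSpWith (P : MorphismProperty (AlgSp.Sp S)) (hP : AlgSp.IsSmoothLocalST P)
    (hP₁ : ∀ ⦃X₁ Y₁ X₂ Y₂ : AlgSp.Sp S⦄, AlgSp.IsAlgSpace X₁ → AlgSp.IsAlgSpace Y₁ → AlgSp.IsAlgSpace X₂ →
      AlgSp.IsAlgSpace Y₂ → ∀ (a : X₁ ⟶ Y₁) (b : Y₂ ⟶ Y₁) (a' : X₂ ⟶ Y₂) (b' : X₂ ⟶ X₁),
      IsPullback b' a' a b → P a → P a')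
    (hf : AlgSt.RepByAlgSp1 f) : AlgSt.LocQ P f ↔ AlgSt.RepByAlgSpWith P f := by
  refine ⟨fun h => ?_, locQ_of_repByAlgSpWith h𝒳 h𝒴 f P hP⟩
  intro T t
  obtain ⟨F, e, he⟩ := hf T t
  refine ⟨F, e, he, ?_⟩
  have h1 : AlgSt.LocQ P (fpFst t f) := locQ_fpFst h𝒳 h𝒴 (isAlgStack_overCat T) f t P hP hP₁ h
  obtain ⟨ei, ⟨αe⟩, ⟨βe⟩⟩ := id he
  have hei : IsEquivOver ei := isEquivOver_symm αe βe
  have i0 : AlgSt.ofSpMap (AlgSt.spMapOfOver (BasedFunctor.comp e (fpFst t f))) ≅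
      BasedFunctor.comp (BasedFunctor.comp e (fpFst t f)) (toYon.{u + 1} T) := by
    have := (isoOfPshMap (BasedFunctor.comp (BasedFunctor.comp e (fpFst t f)) (toYon.{u + 1} T))).symm
    rw [← spMapOfOver_hom] at this
    exact this
  have i1 : BasedFunctor.comp (fpFst t f) (toYon.{u + 1} T) ≅
      BasedFunctor.comp ei (AlgSt.ofSpMap (AlgSt.spMapOfOver (BasedFunctor.comp e (fpFst t f)))) :=
    (whiskerRightIso βe (BasedFunctor.comp (fpFst t f) (toYon.{u + 1} T))).symm ≪≫ whiskerLeftIso ei i0.symm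
  have h2 : AlgSt.LocQ P (AlgSt.ofSpMap (AlgSt.spMapOfOver (BasedFunctor.comp e (fpFst t f)))) :=
    locQ_of_square_equiv P _ (fpFst t f) ei (toYon.{u + 1} T) hei (toYon_isEquivOver T) i1 h1
  exact prop_of_locQ_ofSpMap P hP F ⟨(AlgSp.yon S).obj T, AlgSp.IsAlgSpace.yon_obj T⟩
    (ObjectProperty.homMk (AlgSt.spMapOfOver (BasedFunctor.comp e (fpFst t f)))) h2

end Main

end Groth.Agent.Lib.helper4.AlgStLocQ
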