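import Groth.Agent.Lib.Helper4.AlgStLocQ3
import Groth.Agent.Lib.Helper4.AlgSpSmLocalST
set_option autoImplicit false
set_option backward.isDefEq.respectTransparency false
set_option backward.isDefEq.respectTransparency.types false
set_option linter.unusedSectionVars false
set_option linter.style.haveILetI false
set_option linter.unusedVariables false
open CategoryTheory CategoryTheory.Functor CategoryTheory.Limits Opposite AlgebraicGeometry
universe u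

/-! Towers of good chart squares over a composite of morphisms of algebraic stacks. -/

namespace Groth.Agent.Lib.helper4.AlgStLocQ
open Groth.Agent.FibEquiv Groth.Agent.FibYoneda FibCat Groth.Agent.Lib.helper4.FibPaste
open Groth.Agent.Lib.helper4.AlgStEquiv Groth.Agent.Lib.helper4.AlgStRep
open Groth.Agent.Lib.helper4.AlgStSetoid Groth.Agent.FibFpProj Groth.Agent.Lib.helper4.FibRep
open Groth.Agent.Lib.helper4.AlgStFpAlg Groth.Agent.Lib.helper4.AlgStDM Groth.Agent.Lib.helper4.AlgStSelf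
open Groth.Agent.Lib.helper4.AlgStPts Groth.Agent.Lib.helper4.FibSwap Groth.Agent.Lib.helper4.AlgStSmLoc
open Groth.Agent.Lib.helper4.AlgStQC Groth.Agent.Lib.helper4.PshDict Groth.Agent.Lib.helper4.PshRep
open Groth.Agent.Lib.helper4.PshPB Groth.Agent.Lib.helper4.AlgStQCMor Groth.Agent.Lib.helper4.PointsBasic
open Groth.Agent.Lib.helper4.AlgStDescent Groth.Agent.Lib.helper4.AlgStCoreA
open Groth.Agent.Lib.helper4.AlgStSource Groth.Agent.Lib.helper4.AlgStGraph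
open Stk AlgSt

variable {S : Scheme.{u}}

/-- postcomposition with an equivalence preserves representability with `P` -/
theorem repByAlgSpWith_comp_equiv {𝒜 ℬ ℬ' : AlgSt.Cat S} (P : MorphismProperty (AlgSp.Sp S))
    (Φ : 𝒜 ⥤ᵇ ℬ) (E : ℬ ⥤ᵇ ℬ') (hE : IsEquivOver E) (hΦ : AlgSt.RepByAlgSpWith P Φ) :
    AlgSt.RepByAlgSpWith P (BasedFunctor.comp Φ E) :=
  (repByAlgSpWith_iff_of_square P (BasedFunctor.comp Φ E) Φ (BasedFunctor.id _) E (isEquivOver_id' _) hE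
    (Iso.refl _)).2 hΦ

section Tower

variable {𝒳 𝒴 𝒵 : AlgSt.Cat S} (h𝒳 : AlgSt.IsAlgStack Scheme.fppfPrecoverage 𝒳)
  (h𝒴 : AlgSt.IsAlgStack Scheme.fppfPrecoverage 𝒴) (h𝒵 : AlgSt.IsAlgStack Scheme.fppfPrecoverage 𝒵)
  (f : 𝒳 ⥤ᵇ 𝒴) (g : 𝒴 ⥤ᵇ 𝒵)
include h𝒳 h𝒴 h𝒵

/-- over a smooth chart of `𝒵` there are compatible good chart squares for `g`, `f` and `f ⋙ g` -/
theorem exists_tower {W : Over S} (z : overCat W ⥤ᵇ 𝒵)
    (hz : AlgSt.RepByAlgSpWith (AlgSp.LocP @Smooth) z) :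
    ∃ (V : Over S) (y : overCat V ⥤ᵇ 𝒴) (k : V ⟶ W)
      (β : BasedFunctor.comp y g ≅ BasedFunctor.comp (AlgSt.overMap k) z)
      (U : Over S) (x : overCat U ⥤ᵇ 𝒳) (h : U ⟶ V)
      (α : BasedFunctor.comp x f ≅ BasedFunctor.comp (AlgSt.overMap h) y)
      (γ : BasedFunctor.comp x (BasedFunctor.comp f g) ≅ BasedFunctor.comp (AlgSt.overMap (h ≫ k)) z),
      AlgSt.RepByAlgSpWith (AlgSp.LocP @Smooth) y ∧
      AlgSt.RepByAlgSpWith (AlgSp.LocP @Smooth) (fpLift y (AlgSt.overMap k) β) ∧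
      (AlgSt.RepByAlgSpWith AlgSp.IsSurjectiveMor z → AlgSt.RepByAlgSpWith AlgSp.IsSurjectiveMor y) ∧
      AlgSt.RepByAlgSpWith (AlgSp.LocP @Smooth) x ∧
      AlgSt.RepByAlgSpWith (AlgSp.LocP @Smooth) (fpLift x (AlgSt.overMap h) α) ∧
      AlgSt.RepByAlgSpWith AlgSp.IsSurjectiveMor (fpLift x (AlgSt.overMap h) α) ∧
      (AlgSt.RepByAlgSpWith AlgSp.IsSurjectiveMor y → AlgSt.RepByAlgSpWith AlgSp.IsSurjectiveMor x) ∧
      AlgSt.RepByAlgSpWith (AlgSp.LocP @Smooth) (fpLift x (AlgSt.overMap (h ≫ k)) γ) := by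
  have hWa : AlgSt.IsAlgStack Scheme.fppfPrecoverage (overCat W) := isAlgStack_overCat W
  have h𝒫 : AlgSt.IsAlgStack Scheme.fppfPrecoverage (fp g z) := isAlgStack_fp' h𝒴 hWa h𝒵 g z
  obtain ⟨V, v, hv, hvs⟩ := h𝒫.atlas
  have hVa : AlgSt.IsAlgStack Scheme.fppfPrecoverage (overCat V) := isAlgStack_overCat V
  have hVf : IsFibGrpd (overCat V).p := Groth.Agent.FibOver.isFibGrpd_overCat V
  obtain ⟨k, ⟨ψk⟩⟩ := exists_overMap_iso (BasedFunctor.comp v (fpSnd g z))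
  have hπ : AlgSt.RepByAlgSpWith (AlgSp.LocP @Smooth) (fpFst g z) :=
    Groth.Agent.Lib.helper4.AlgStDiagBC.repByAlgSpWith_fpFst _ z g hz
  have hy : AlgSt.RepByAlgSpWith (AlgSp.LocP @Smooth) (BasedFunctor.comp v (fpFst g z)) :=
    smooth_comp hVf h𝒫.isStack.1 h𝒴.isStack.1 _ _ hv hπ
  have h𝒬 : AlgSt.IsAlgStack Scheme.fppfPrecoverage (fp f (fpFst g z)) :=
    isAlgStack_fp' h𝒳 h𝒫 h𝒴 f (fpFst g z)
  have hℛ : AlgSt.IsAlgStack Scheme.fppfPrecoverage (fp (fpSnd f (fpFst g z)) v) :=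
    isAlgStack_fp' h𝒬 hVa h𝒫 (fpSnd f (fpFst g z)) v
  obtain ⟨U, u, hu, hus⟩ := hℛ.atlas
  have hUf : IsFibGrpd (overCat U).p := Groth.Agent.FibOver.isFibGrpd_overCat U
  have h𝒬y : AlgSt.IsAlgStack Scheme.fppfPrecoverage (fp f (BasedFunctor.comp v (fpFst g z))) :=
    isAlgStack_fp' h𝒳 hVa h𝒴 f (BasedFunctor.comp v (fpFst g z))
  -- the lift to `𝒳 ×_𝒴 V`
  let Lx : overCat U ⥤ᵇ fp f (BasedFunctor.comp v (fpFst g z)) :=
    BasedFunctor.comp u (pasteR f (fpFst g z) v)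
  have hLx : AlgSt.RepByAlgSpWith (AlgSp.LocP @Smooth) Lx :=
    repByAlgSpWith_comp_equiv _ u _ (pasteR_isEquivOver f (fpFst g z) v) hu
  have hLxs : AlgSt.RepByAlgSpWith AlgSp.IsSurjectiveMor Lx :=
    repByAlgSpWith_comp_equiv _ u _ (pasteR_isEquivOver f (fpFst g z) v) hus
  obtain ⟨h, ⟨ψh⟩⟩ := exists_overMap_iso
    (BasedFunctor.comp Lx (fpSnd f (BasedFunctor.comp v (fpFst g z))))
  have hpr : AlgSt.RepByAlgSpWith (AlgSp.LocP @Smooth) (fpFst f (BasedFunctor.comp v (fpFst g z))) :=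
    Groth.Agent.Lib.helper4.AlgStDiagBC.repByAlgSpWith_fpFst _ _ f hy
  -- the lift to `𝒳 ×_𝒵 W`
  have h𝒯 : AlgSt.IsAlgStack Scheme.fppfPrecoverage (fp (BasedFunctor.comp f g) z) :=
    isAlgStack_fp' h𝒳 hWa h𝒵 (BasedFunctor.comp f g) z
  let L' : overCat U ⥤ᵇ fp (BasedFunctor.comp f g) z :=
    BasedFunctor.comp (BasedFunctor.comp u (fpFst (fpSnd f (fpFst g z)) v)) (pasteL f g z)
  have hbc : AlgSt.RepByAlgSpWith (AlgSp.LocP @Smooth) (fpFst (fpSnd f (fpFst g z)) v) :=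
    Groth.Agent.Lib.helper4.AlgStDiagBC.repByAlgSpWith_fpFst _ v (fpSnd f (fpFst g z)) hv
  have hL' : AlgSt.RepByAlgSpWith (AlgSp.LocP @Smooth) L' :=
    repByAlgSpWith_comp_equiv _ _ _ (pasteL_isEquivOver f g z)
      (smooth_comp hUf hℛ.isStack.1 h𝒬.isStack.1 _ _ hu hbc)
  have ψ : BasedFunctor.comp L' (fpSnd (BasedFunctor.comp f g) z) ≅ AlgSt.overMap (h ≫ k) :=
    whiskerLeftIso u (whiskerRightIso (fpIso (fpSnd f (fpFst g z)) v) (fpSnd g z)) ≪≫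
      whiskerRightIso ψh (BasedFunctor.comp v (fpSnd g z)) ≪≫
      whiskerLeftIso (AlgSt.overMap h) ψk ≪≫ overMapCompIso h k
  refine ⟨V, BasedFunctor.comp v (fpFst g z), k,
    whiskerLeftIso v (fpIso g z) ≪≫ whiskerRightIso ψk z,
    U, BasedFunctor.comp Lx (fpFst f (BasedFunctor.comp v (fpFst g z))), h,
    whiskerLeftIso Lx (fpIso f (BasedFunctor.comp v (fpFst g z))) ≪≫
      whiskerRightIso ψh (BasedFunctor.comp v (fpFst g z)),
    whiskerLeftIso L' (fpIso (BasedFunctor.comp f g) z) ≪≫ whiskerRightIso ψ z,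
    hy, ?_, ?_, ?_, ?_, ?_, ?_, ?_⟩
  · exact (repByAlgSpWith_congr _ (Groth.Agent.Lib.helper4.FibLiftIso.fpLiftOfSnd g z v ψk)).2 hv
  · intro hzs
    exact surj_comp hVf h𝒫.isStack.1 h𝒴.isStack.1 _ _ hvs
      (Groth.Agent.Lib.helper4.AlgStDiagBC.repByAlgSpWith_fpFst _ z g hzs)
  · exact smooth_comp hUf h𝒬y.isStack.1 h𝒳.isStack.1 _ _ hLx hpr
  · exact (repByAlgSpWith_congr _ (Groth.Agent.Lib.helper4.FibLiftIso.fpLiftOfSnd f _ Lx ψh)).2 hLx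
  · exact (repByAlgSpWith_congr _ (Groth.Agent.Lib.helper4.FibLiftIso.fpLiftOfSnd f _ Lx ψh)).2 hLxs
  · intro hys
    exact surj_comp hUf h𝒬y.isStack.1 h𝒳.isStack.1 _ _ hLxs
      (Groth.Agent.Lib.helper4.AlgStDiagBC.repByAlgSpWith_fpFst _ _ f hys)
  · exact (repByAlgSpWith_congr _
      (Groth.Agent.Lib.helper4.FibLiftIso.fpLiftOfSnd (BasedFunctor.comp f g) z L' ψ)).2 hL'

end Tower

end Groth.Agent.Lib.helper4.AlgStLocQ
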