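import Groth.Agent.Lib.Helper4.AlgStLocQ4
import Groth.Agent.Lib.Helper22.FlatSrc
set_option autoImplicit false
set_option backward.isDefEq.respectTransparency false
set_option backward.isDefEq.respectTransparency.types false
set_option linter.unusedSectionVars false
set_option linter.style.haveILetI false
set_option linter.unusedVariables false
open CategoryTheory CategoryTheory.Functor CategoryTheory.Limits Opposite AlgebraicGeometry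
universe u

/-! Cancellation properties of `AlgSt.LocQ` for locally of finite type / presentation and flat morphisms. -/

namespace Groth.Agent.Lib.helper4.AlgStLocQ
open Groth.Agent.FibEquiv Groth.Agent.FibYoneda FibCat Groth.Agent.Lib.helper4.FibPaste
open Groth.Agent.Lib.helper4.AlgStEquiv Groth.Agent.Lib.helper4.AlgStRep
open Groth.Agent.Lib.helper4.AlgStSetoid Groth.Agent.FibFpProj Groth.Agent.Lib.helper4.FibRep
open Groth.Agent.Lib.helper4.AlgStFpAlg Groth.Agent.Lib.helper4.AlgStDM Groth.Agent.Lib.helper4.AlgStSelf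
open Groth.Agent.Lib.helper4.AlgStPts Groth.Agent.Lib.helper4.FibSwap Groth.Agent.Lib.helper4.AlgStSmLoc
open Groth.Agent.Lib.helper4.AlgStQC Groth.Agent.Lib.helper4.PshDict Groth.Agent.Lib.helper4.PshRep
open Groth.Agent.Lib.helper4.PshPB Groth.Agent.Lib.helper4.AlgStQCMor Groth.Agent.Lib.helper4.PointsBasic
open Groth.Agent.Lib.helper4.AlgStDescent Groth.Agent.Lib.helper4.AlgStCoreA
open Groth.Agent.Lib.helper4.AlgStSource Groth.Agent.Lib.helper4.AlgStGraph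
open Groth.Agent.Lib.helper4.SmLocalST Groth.Agent.Lib.helper5.LocPBC
open Stk AlgSt

variable {S : Scheme.{u}}

section Cancel

variable {𝒳 𝒴 𝒵 : AlgSt.Cat S} (h𝒳 : AlgSt.IsAlgStack Scheme.fppfPrecoverage 𝒳)
  (h𝒴 : AlgSt.IsAlgStack Scheme.fppfPrecoverage 𝒴) (h𝒵 : AlgSt.IsAlgStack Scheme.fppfPrecoverage 𝒵)
  (f : 𝒳 ⥤ᵇ 𝒴) (g : 𝒴 ⥤ᵇ 𝒵)
include h𝒳 h𝒴 h𝒵

/-- S13002 -/
theorem locQ_lft_of_comp
    (hfg : AlgSt.LocQ (AlgSp.LocP @LocallyOfFiniteType) (BasedFunctor.comp f g)) :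
    AlgSt.LocQ (AlgSp.LocP @LocallyOfFiniteType) f := by
  obtain ⟨W, z, hz, hzs⟩ := h𝒵.atlas
  obtain ⟨V, y, k, β, U, x, h, α, γ, hy, hly, hys, hx, hlx, hlxs, hxs, hlγ⟩ :=
    exists_tower h𝒳 h𝒴 h𝒵 f g z hz
  have h1 : AlgSp.LocP @LocallyOfFiniteType ((AlgSp.yon S).map (h ≫ k)) :=
    (locQ_iff_forall h𝒳 h𝒵 (BasedFunctor.comp f g) _ isSmoothLocalST_lft).1 hfg U W x z (h ≫ k) γ hx hz hlγ
  have h2 : LocallyOfFiniteType (h ≫ k).left := AlgSp.locP_yon_map h1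
  rw [Over.comp_left] at h2
  have h3 : LocallyOfFiniteType h.left := locallyOfFiniteType_of_comp h.left k.left
  exact ⟨U, V, x, y, h, α, hx, hxs (hys hzs), hy,
    locP_yon_map_of locPData_lft h h3⟩

/-- S13005 -/
theorem locQ_lfp_of_comp
    (hfg : AlgSt.LocQ (AlgSp.LocP @LocallyOfFinitePresentation) (BasedFunctor.comp f g))
    (hg : AlgSt.LocQ (AlgSp.LocP @LocallyOfFiniteType) g) :
    AlgSt.LocQ (AlgSp.LocP @LocallyOfFinitePresentation) f := by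
  obtain ⟨W, z, hz, hzs⟩ := h𝒵.atlas
  obtain ⟨V, y, k, β, U, x, h, α, γ, hy, hly, hys, hx, hlx, hlxs, hxs, hlγ⟩ :=
    exists_tower h𝒳 h𝒴 h𝒵 f g z hz
  have h1 : AlgSp.LocP @LocallyOfFinitePresentation ((AlgSp.yon S).map (h ≫ k)) :=
    (locQ_iff_forall h𝒳 h𝒵 (BasedFunctor.comp f g) _ isSmoothLocalST_lfp).1 hfg U W x z (h ≫ k) γ hx hz hlγ
  have h2 : LocallyOfFinitePresentation (h ≫ k).left := AlgSp.locP_yon_map h1
  rw [Over.comp_left] at h2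
  have hk : LocallyOfFiniteType k.left :=
    AlgSp.locP_yon_map ((locQ_iff_forall h𝒴 h𝒵 g _ isSmoothLocalST_lft).1 hg V W y z k β hy hz hly)
  have h3 : LocallyOfFinitePresentation h.left :=
    Groth.Agent.Lib.helper7.locallyOfFinitePresentation_of_comp h.left k.left
  exact ⟨U, V, x, y, h, α, hx, hxs (hys hzs), hy,
    locP_yon_map_of locPData_lfp h h3⟩

end Cancel

/-- the identity of schemes, on slices -/
def overMapIdIso (U : Over S) : AlgSt.overMap (𝟙 U) ≅ BasedFunctor.id (overCat U) :=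
  BasedNatIso.mkNatIso (Over.mapId U)
    (fun a => by
      have h1 := Groth.Agent.FibYoneda.hom_isHomLift (U := U) ((Over.mapId U).hom.app a)
      have h2 : ((Over.mapId U).hom.app a).left = 𝟙 _ := by
        simp [Over.mapId]
      rw [h2] at h1
      exact h1)

section Diag

variable {𝒳 𝒴 : AlgSt.Cat S} (h𝒳 : AlgSt.IsAlgStack Scheme.fppfPrecoverage 𝒳)
  (h𝒴 : AlgSt.IsAlgStack Scheme.fppfPrecoverage 𝒴) (f : 𝒳 ⥤ᵇ 𝒴)

include h𝒳 in
/-- the identity of an algebraic stack has every property that identities of schemes have -/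
theorem locQ_id (P : MorphismProperty (AlgSp.Sp S))
    (hid : ∀ U : Over S, P ((AlgSp.yon S).map (𝟙 U))) : AlgSt.LocQ P (BasedFunctor.id 𝒳) := by
  obtain ⟨U, x, hx, hxs⟩ := h𝒳.atlas
  exact ⟨U, U, x, x, 𝟙 U, (whiskerRightIso (overMapIdIso U) x).symm, hx, hxs, hx, hid U⟩

include h𝒳 h𝒴 in
/-- S13006 -/
theorem locQ_lfp_diag (hf : AlgSt.LocQ (AlgSp.LocP @LocallyOfFiniteType) f) :
    AlgSt.LocQ (AlgSp.LocP @LocallyOfFinitePresentation) (FibCat.diag f) := by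
  have h𝒫 : AlgSt.IsAlgStack Scheme.fppfPrecoverage (fp f f) := isAlgStack_fp' h𝒳 h𝒳 h𝒴 f f
  have h1 : AlgSt.LocQ (AlgSp.LocP @LocallyOfFiniteType) (fpFst f f) :=
    locQ_fpFst h𝒳 h𝒴 h𝒳 f f _ isSmoothLocalST_lft
      (fun X₁ Y₁ X₂ Y₂ h1 h2 _ h4 a b a' b' sq ha => locP_of_isPullback locPData_lft h1 h2 h4 sq ha) hf
  have h2 : AlgSt.LocQ (AlgSp.LocP @LocallyOfFinitePresentation)
      (BasedFunctor.comp (FibCat.diag f) (fpFst f f)) := by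
    have h3 : AlgSt.LocQ (AlgSp.LocP @LocallyOfFinitePresentation) (BasedFunctor.id 𝒳) :=
      locQ_id h𝒳 _ (fun U => locP_yon_map_of locPData_lfp (𝟙 U) (by
        change LocallyOfFinitePresentation (𝟙 U.left)
        infer_instance))
    exact h3
  exact locQ_lfp_of_comp h𝒳 h𝒫 h𝒳 (FibCat.diag f) (fpFst f f) h2 h1

end Diag

section Flat

variable {𝒳 𝒴 𝒵 : AlgSt.Cat S} (h𝒳 : AlgSt.IsAlgStack Scheme.fppfPrecoverage 𝒳)
  (h𝒴 : AlgSt.IsAlgStack Scheme.fppfPrecoverage 𝒴) (h𝒵 : AlgSt.IsAlgStack Scheme.fppfPrecoverage 𝒵)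
  (f : 𝒳 ⥤ᵇ 𝒴) (g : 𝒴 ⥤ᵇ 𝒵)

include h𝒳 h𝒴 in
/-- in a chart square over a surjective morphism whose comparison functor is surjective, the morphism of schemes is
surjective -/
theorem surjective_of_square (hf : AlgSt.IsSurjective f) {U V : Over S} (x : overCat U ⥤ᵇ 𝒳)
    (y : overCat V ⥤ᵇ 𝒴) (h : U ⟶ V)
    (α : BasedFunctor.comp x f ≅ BasedFunctor.comp (AlgSt.overMap h) y)
    (hl : AlgSt.RepByAlgSpWith AlgSp.IsSurjectiveMor (fpLift x (AlgSt.overMap h) α)) :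
    Function.Surjective h.left := by
  intro v₀
  have hVf : IsFibGrpd (overCat V).p := Groth.Agent.FibOver.isFibGrpd_overCat V
  have hfp : IsFibGrpd (fp f y).p := isFibGrpd_fp _ _ h𝒳.isStack.1 hVf h𝒴.isStack.1
  obtain ⟨x₀, hx₀⟩ := hf (Points.map y (Points.ofChart (BasedFunctor.id (overCat V)) v₀))
  obtain ⟨w, -, hw⟩ := exists_points_fp hVf h𝒴.isStack.1 h𝒳.isStack.1 y f x₀
    (Points.ofChart (BasedFunctor.id (overCat V)) v₀) hx₀
  obtain ⟨u₀, hu₀⟩ := ofChart_surjective hfp (fpLift x (AlgSt.overMap h) α) hl w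
  refine ⟨u₀, ?_⟩
  apply ofChart_id_injective V
  rw [← hw, ← hu₀]
  exact (ofChart_overMap h (BasedFunctor.id (overCat V)) u₀).symm

include h𝒳 h𝒴 h𝒵 in
/-- S13004 -/
theorem locQ_flat_of_comp (hf₁ : AlgSt.LocQ (AlgSp.LocP @Flat) f) (hf₂ : AlgSt.IsSurjective f)
    (hfg : AlgSt.LocQ (AlgSp.LocP @Flat) (BasedFunctor.comp f g)) :
    AlgSt.LocQ (AlgSp.LocP @Flat) g := by
  obtain ⟨W, z, hz, hzs⟩ := h𝒵.atlas
  obtain ⟨V, y, k, β, U, x, h, α, γ, hy, hly, hys, hx, hlx, hlxs, hxs, hlγ⟩ :=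
    exists_tower h𝒳 h𝒴 h𝒵 f g z hz
  have h1 : Flat (h ≫ k).left := AlgSp.locP_yon_map
    ((locQ_iff_forall h𝒳 h𝒵 (BasedFunctor.comp f g) _ isSmoothLocalST_flat).1 hfg U W x z (h ≫ k) γ hx hz hlγ)
  rw [Over.comp_left] at h1
  have h2 : Flat h.left := AlgSp.locP_yon_map
    ((locQ_iff_forall h𝒳 h𝒴 f _ isSmoothLocalST_flat).1 hf₁ U V x y h α hx hy hlx)
  have h3 : Surjective h.left := ⟨surjective_of_square h𝒳 h𝒴 f hf₂ x y h α hlxs⟩
  have h4 : Flat k.left := Groth.Agent.Lib.helper22.flat_of_flat_comp h.left k.left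
  exact ⟨V, W, y, z, k, β, hy, hys hzs, hz, locP_yon_map_of locPData_flat k h4⟩

include h𝒳 h𝒴 h𝒵 in
/-- the second projection of a 2-fibre product is a base change of the first functor -/
theorem locQ_fpSnd (P : MorphismProperty (AlgSp.Sp S)) (hP : AlgSp.IsSmoothLocalST P)
    (hPb : ∀ ⦃X₁ Y₁ X₂ Y₂ : AlgSp.Sp S⦄, AlgSp.IsAlgSpace X₁ → AlgSp.IsAlgSpace Y₁ → AlgSp.IsAlgSpace X₂ →
      AlgSp.IsAlgSpace Y₂ → ∀ (a : X₁ ⟶ Y₁) (b : Y₂ ⟶ Y₁) (a' : X₂ ⟶ Y₂) (b' : X₂ ⟶ X₁),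
      IsPullback b' a' a b → P a → P a')
    (q : 𝒵 ⥤ᵇ 𝒴) (hq : AlgSt.LocQ P q) : AlgSt.LocQ P (fpSnd q f) := by
  have h1 : AlgSt.LocQ P (fpFst f q) := locQ_fpFst h𝒵 h𝒴 h𝒳 q f P hP hPb hq
  exact locQ_of_square_equiv P (fpSnd q f) (fpFst f q) (fpSwap f q) (BasedFunctor.id _)
    (fpSwap_isEquivOver f q) (isEquivOver_id' _) (Iso.refl _) h1

include h𝒳 h𝒴 h𝒵 in
/-- S13003 -/
theorem locQ_flat_of_fpFst (q : 𝒵 ⥤ᵇ 𝒴) (hq₁ : AlgSt.LocQ (AlgSp.LocP @Flat) q)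
    (hq₂ : AlgSt.IsSurjective q) (hpr : AlgSt.LocQ (AlgSp.LocP @Flat) (fpFst q f)) :
    AlgSt.LocQ (AlgSp.LocP @Flat) f := by
  have h𝒫 : AlgSt.IsAlgStack Scheme.fppfPrecoverage (fp q f) := isAlgStack_fp' h𝒵 h𝒳 h𝒴 q f
  have hbc : ∀ ⦃X₁ Y₁ X₂ Y₂ : AlgSp.Sp S⦄, AlgSp.IsAlgSpace X₁ → AlgSp.IsAlgSpace Y₁ → AlgSp.IsAlgSpace X₂ →
      AlgSp.IsAlgSpace Y₂ → ∀ (a : X₁ ⟶ Y₁) (b : Y₂ ⟶ Y₁) (a' : X₂ ⟶ Y₂) (b' : X₂ ⟶ X₁),
      IsPullback b' a' a b → AlgSp.LocP @Flat a → AlgSp.LocP @Flat a' :=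
    fun X₁ Y₁ X₂ Y₂ h1 h2 _ h4 a b a' b' sq ha => locP_of_isPullback locPData_flat h1 h2 h4 sq ha
  have h1 : AlgSt.LocQ (AlgSp.LocP @Flat) (fpSnd q f) :=
    locQ_fpSnd h𝒳 h𝒴 h𝒵 f _ isSmoothLocalST_flat hbc q hq₁
  have h2 : AlgSt.IsSurjective (fpSnd q f) := by
    intro x₀
    obtain ⟨z₀, hz₀⟩ := hq₂ (Points.map f x₀)
    obtain ⟨w, -, hw⟩ := exists_points_fp h𝒳.isStack.1 h𝒴.isStack.1 h𝒵.isStack.1 f q z₀ x₀ hz₀
    exact ⟨w, hw⟩
  have h3 : AlgSt.LocQ (AlgSp.LocP @Flat) (BasedFunctor.comp (fpSnd q f) f) := by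
    refine locQ_congr _ (fpIso q f).symm ?_
    exact locQ_comp h𝒫 h𝒵 h𝒴 (fpFst q f) q _ isSmoothLocalST_flat
      (fun X₁ Y₁ Z₁ _ hY _ a b ha hb =>
        Groth.Agent.H1.LocPStable.locP_comp locPData_flat.descend hY a b ha hb) hpr hq₁
  exact locQ_flat_of_comp h𝒫 h𝒳 h𝒴 (fpSnd q f) f h1 h2 h3

include h𝒳 h𝒴 in
/-- S13008 -/
theorem isOpenMor_of_flat_lfp (hf₁ : AlgSt.LocQ (AlgSp.LocP @Flat) f)
    (hf₂ : AlgSt.LocQ (AlgSp.LocP @LocallyOfFinitePresentation) f) : AlgSt.IsOpenMor f := by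
  obtain ⟨V, y, hy, hys⟩ := h𝒴.atlas
  obtain ⟨U, x, h, α, hx, hl, hls, hxs⟩ := exists_good_square h𝒳 h𝒴 f y hy
  have h1 : Flat h.left := AlgSp.locP_yon_map
    ((locQ_iff_forall h𝒳 h𝒴 f _ isSmoothLocalST_flat).1 hf₁ U V x y h α hx hy hl)
  have h2 : LocallyOfFinitePresentation h.left := AlgSp.locP_yon_map
    ((locQ_iff_forall h𝒳 h𝒴 f _ isSmoothLocalST_lfp).1 hf₂ U V x y h α hx hy hl)
  have hopen : IsOpenMap h.left := h.left.isOpenMap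
  have hxsurj := ofChart_surjective h𝒳.isStack.1 x (hxs hys)
  have key : ∀ u : ↥U.left, Points.map f (Points.ofChart x u) = Points.ofChart y (h.left u) := by
    intro u
    rw [map_ofChart, ofChart_congr α, ofChart_overMap]
  intro T hT
  have himg : Points.map f '' T = Points.ofChart y '' (h.left '' (Points.ofChart x ⁻¹' T)) := by
    ext p
    constructor
    · rintro ⟨q, hq, rfl⟩
      obtain ⟨u, rfl⟩ := hxsurj q
      exact ⟨h.left u, ⟨u, hq, rfl⟩, (key u).symm⟩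
    · rintro ⟨_, ⟨u, hu, rfl⟩, rfl⟩
      exact ⟨Points.ofChart x u, hu, key u⟩
  rw [himg]
  exact isOpenMap_ofChart_smooth h𝒴.isStack.1 y hy _
    (hopen _ (hT.preimage (continuous_ofChart h𝒳.isStack.1 h𝒳.atlas x)))

end Flat

end Groth.Agent.Lib.helper4.AlgStLocQ
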