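import Groth.Agent.Lib.Helper4.AlgStLocQ5
set_option autoImplicit false
set_option backward.isDefEq.respectTransparency false
set_option backward.isDefEq.respectTransparency.types false
set_option linter.unusedSectionVars false
set_option linter.style.haveILetI false
set_option linter.unusedVariables false
open CategoryTheory CategoryTheory.Functor CategoryTheory.Limits Opposite AlgebraicGeometry
universe u

/-! fppf coverings of schemes from flat, locally finitely presented, surjective morphisms of algebraic stacks. -/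

namespace Groth.Agent.Lib.helper4.AlgStLocQ
open Groth.Agent.FibEquiv Groth.Agent.FibYoneda FibCat Groth.Agent.Lib.helper4.FibPaste
open Groth.Agent.Lib.helper4.AlgStEquiv Groth.Agent.Lib.helper4.AlgStRep
open Groth.Agent.Lib.helper4.AlgStSetoid Groth.Agent.FibFpProj Groth.Agent.Lib.helper4.FibRep
open Groth.Agent.Lib.helper4.AlgStFpAlg Groth.Agent.Lib.helper4.AlgStDM Groth.Agent.Lib.helper4.AlgStSelf
open Groth.Agent.Lib.helper4.AlgStPts Groth.Agent.Lib.helper4.FibSwap Groth.Agent.Lib.helper4.AlgStSmLoc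
open Groth.Agent.Lib.helper4.AlgStQC Groth.Agent.Lib.helper4.PshDict Groth.Agent.Lib.helper4.PshRep
open Groth.Agent.Lib.helper4.PshPB Groth.Agent.Lib.helper4.AlgStQCMor Groth.Agent.Lib.helper4.PointsBasic
open Groth.Agent.Lib.helper4.AlgStDescent Groth.Agent.Lib.helper4.AlgStCoreA
open Groth.Agent.Lib.helper4.AlgStSource Groth.Agent.Lib.helper4.AlgStGraph
open Groth.Agent.Lib.helper4.SmLocalST Groth.Agent.Lib.helper5.LocPBC
open Stk AlgSt

variable {S : Scheme.{u}}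

theorem smooth_id_overCat (U : Over S) :
    AlgSt.RepByAlgSpWith (AlgSp.LocP @Smooth) (BasedFunctor.id (overCat U)) :=
  (repByAlgSpWith_congr _ (overMapIdIso U)).1
    (locP_overMap locPData_smooth (𝟙 U) (by
      change Smooth (𝟙 U.left)
      infer_instance))

theorem surj_id_overCat (U : Over S) :
    AlgSt.RepByAlgSpWith AlgSp.IsSurjectiveMor (BasedFunctor.id (overCat U)) :=
  (repByAlgSpWith_congr _ (overMapIdIso U)).1
    (surj_overMap (𝟙 U) (by
      change Surjective (𝟙 U.left)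
      infer_instance))

section Square

variable {𝒳 𝒴 : AlgSt.Cat S} (h𝒳 : AlgSt.IsAlgStack Scheme.fppfPrecoverage 𝒳)
  (h𝒴 : AlgSt.IsAlgStack Scheme.fppfPrecoverage 𝒴) (f : 𝒳 ⥤ᵇ 𝒴)
include h𝒳 h𝒴

/-- in a chart square whose comparison functor is surjective, the morphism of schemes hits every point whose image
lies in the image of `f` -/
theorem mem_range_of_square {U V : Over S} (x : overCat U ⥤ᵇ 𝒳)
    (y : overCat V ⥤ᵇ 𝒴) (h : U ⟶ V)
    (α : BasedFunctor.comp x f ≅ BasedFunctor.comp (AlgSt.overMap h) y)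
    (hl : AlgSt.RepByAlgSpWith AlgSp.IsSurjectiveMor (fpLift x (AlgSt.overMap h) α))
    (v₀ : ↥V.left) (hv₀ : Points.ofChart y v₀ ∈ Set.range (Points.map f)) :
    v₀ ∈ Set.range h.left := by
  have hVf : IsFibGrpd (overCat V).p := Groth.Agent.FibOver.isFibGrpd_overCat V
  have hfp : IsFibGrpd (fp f y).p := isFibGrpd_fp _ _ h𝒳.isStack.1 hVf h𝒴.isStack.1
  obtain ⟨x₀, hx₀⟩ := hv₀
  obtain ⟨w, -, hw⟩ := exists_points_fp hVf h𝒴.isStack.1 h𝒳.isStack.1 y f x₀
    (Points.ofChart (BasedFunctor.id (overCat V)) v₀) hx₀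
  obtain ⟨u₀, hu₀⟩ := ofChart_surjective hfp (fpLift x (AlgSt.overMap h) α) hl w
  refine ⟨u₀, ?_⟩
  apply ofChart_id_injective V
  rw [← hw, ← hu₀]
  exact (ofChart_overMap h (BasedFunctor.id (overCat V)) u₀).symm

end Square

section Cover

variable {𝒳 : AlgSt.Cat S} (h𝒳 : AlgSt.IsAlgStack Scheme.fppfPrecoverage 𝒳)
include h𝒳

/-- a flat, locally finitely presented morphism to an algebraic stack admits, over any scheme-valued point of the
target, a flat locally finitely presented morphism of schemes through which the point lifts, hitting every point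
in the image -/
theorem exists_fppf_lift {𝒳' : AlgSt.Cat S} (h𝒳' : AlgSt.IsAlgStack Scheme.fppfPrecoverage 𝒳') (f : 𝒳' ⥤ᵇ 𝒳)
    (hf₁ : AlgSt.LocQ (AlgSp.LocP @Flat) f) (hf₂ : AlgSt.LocQ (AlgSp.LocP @LocallyOfFinitePresentation) f)
    (U : Over S) (x : overCat U ⥤ᵇ 𝒳) :
    ∃ (V : Over S) (g : V ⟶ U) (x' : overCat V ⥤ᵇ 𝒳'), Flat g.left ∧ LocallyOfFinitePresentation g.left ∧
      Nonempty (BasedFunctor.comp x' f ≅ BasedFunctor.comp (AlgSt.overMap g) x) ∧
      ∀ u : ↥U.left, Points.ofChart x u ∈ Set.range (Points.map f) → u ∈ Set.range g.left := by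
  have hUa : AlgSt.IsAlgStack Scheme.fppfPrecoverage (overCat U) := isAlgStack_overCat U
  have hUf : IsFibGrpd (overCat U).p := Groth.Agent.FibOver.isFibGrpd_overCat U
  have h𝒫 : AlgSt.IsAlgStack Scheme.fppfPrecoverage (fp x f) := isAlgStack_fp' hUa h𝒳' h𝒳 x f
  have hζ₁ : AlgSt.LocQ (AlgSp.LocP @Flat) (fpFst x f) :=
    locQ_fpFst h𝒳' h𝒳 hUa f x _ isSmoothLocalST_flat
      (fun X₁ Y₁ X₂ Y₂ h1 h2 _ h4 a b a' b' sq ha => locP_of_isPullback locPData_flat h1 h2 h4 sq ha) hf₁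
  have hζ₂ : AlgSt.LocQ (AlgSp.LocP @LocallyOfFinitePresentation) (fpFst x f) :=
    locQ_fpFst h𝒳' h𝒳 hUa f x _ isSmoothLocalST_lfp
      (fun X₁ Y₁ X₂ Y₂ h1 h2 _ h4 a b a' b' sq ha => locP_of_isPullback locPData_lfp h1 h2 h4 sq ha) hf₂
  obtain ⟨V, w, g, α, hw, hl, hls, -⟩ :=
    exists_good_square h𝒫 hUa (fpFst x f) (BasedFunctor.id _) (smooth_id_overCat U)
  have h1 : Flat g.left := AlgSp.locP_yon_map
    ((locQ_iff_forall h𝒫 hUa (fpFst x f) _ isSmoothLocalST_flat).1 hζ₁ V U w _ g α hw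
      (smooth_id_overCat U) hl)
  have h2 : LocallyOfFinitePresentation g.left := AlgSp.locP_yon_map
    ((locQ_iff_forall h𝒫 hUa (fpFst x f) _ isSmoothLocalST_lfp).1 hζ₂ V U w _ g α hw
      (smooth_id_overCat U) hl)
  refine ⟨V, g, BasedFunctor.comp w (fpSnd x f), h1, h2, ⟨?_⟩, ?_⟩
  · exact (whiskerLeftIso w (fpIso x f)).symm ≪≫ whiskerRightIso α x
  · intro u hu
    apply mem_range_of_square h𝒫 hUa (fpFst x f) w (BasedFunctor.id _) g α hls u
    obtain ⟨q, hq⟩ := hu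
    obtain ⟨p, hp, -⟩ := exists_points_fp h𝒳'.isStack.1 h𝒳.isStack.1 hUf f x
      (Points.ofChart (BasedFunctor.id (overCat U)) u) q hq.symm
    exact ⟨p, hp⟩

/-- S13022 -/
theorem exists_fppf_cover_lift (J : Type u) (𝒳' : J → AlgSt.Cat S)
    (h𝒳' : ∀ j, AlgSt.IsAlgStack Scheme.fppfPrecoverage (𝒳' j)) (f : ∀ j, 𝒳' j ⥤ᵇ 𝒳)
    (hf₁ : ∀ j, AlgSt.LocQ (AlgSp.LocP @Flat) (f j))
    (hf₂ : ∀ j, AlgSt.LocQ (AlgSp.LocP @LocallyOfFinitePresentation) (f j))
    (hf₃ : ∀ p : AlgSt.Points 𝒳, ∃ j, p ∈ Set.range (AlgSt.Points.map (f j)))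
    (U : Over S) (x : FibCat.overCat U ⥤ᵇ 𝒳) :
    ∃ (ι : Type u) (V : ι → Over S) (g : ∀ i, V i ⟶ U) (c : ι → J),
      (Presieve.ofArrows (fun i ↦ (V i).left) fun i ↦ (g i).left) ∈ Scheme.fppfPrecoverage U.left ∧
      ∀ i, ∃ x' : FibCat.overCat (V i) ⥤ᵇ 𝒳' (c i),
        Nonempty (BasedFunctor.comp x' (f (c i)) ≅ BasedFunctor.comp (AlgSt.overMap (g i)) x) := by
  choose V g x' hfl hlfp hiso hsurj using
    fun j => exists_fppf_lift h𝒳 (h𝒳' j) (f j) (hf₁ j) (hf₂ j) U x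
  refine ⟨J, V, g, id, ?_, fun j => ⟨x' j, hiso j⟩⟩
  rw [Scheme.fppfPrecoverage, Scheme.ofArrows_mem_precoverage_iff]
  refine ⟨fun u => ?_, fun j => ⟨hfl j, hlfp j⟩⟩
  obtain ⟨j, hj⟩ := hf₃ (Points.ofChart x u)
  exact ⟨j, hsurj j u hj⟩

end Cover

end Groth.Agent.Lib.helper4.AlgStLocQ
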