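import Groth.Agent.Lib.Helper4.AlgStLocQ6
import Groth.Agent.S12825
set_option autoImplicit false
set_option backward.isDefEq.respectTransparency false
set_option backward.isDefEq.respectTransparency.types false
set_option linter.unusedSectionVars false
set_option linter.style.haveILetI false
set_option linter.unusedVariables false
open CategoryTheory CategoryTheory.Functor CategoryTheory.Limits Opposite AlgebraicGeometry
universe u

/-! Quasi-compactness of morphisms of algebraic stacks descends along flat, locally finitely presented, surjective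
morphisms. -/

namespace Groth.Agent.Lib.helper4.AlgStLocQ
open Groth.Agent.FibEquiv Groth.Agent.FibYoneda FibCat Groth.Agent.Lib.helper4.FibPaste
open Groth.Agent.Lib.helper4.AlgStEquiv Groth.Agent.Lib.helper4.AlgStRep
open Groth.Agent.Lib.helper4.AlgStSetoid Groth.Agent.FibFpProj Groth.Agent.Lib.helper4.FibRep
open Groth.Agent.Lib.helper4.AlgStFpAlg Groth.Agent.Lib.helper4.AlgStDM Groth.Agent.Lib.helper4.AlgStSelf
open Groth.Agent.Lib.helper4.AlgStPts Groth.Agent.Lib.helper4.FibSwap Groth.Agent.Lib.helper4.AlgStSmLoc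
open Groth.Agent.Lib.helper4.AlgStQC Groth.Agent.Lib.helper4.PshDict Groth.Agent.Lib.helper4.PshRep
open Groth.Agent.Lib.helper4.PshPB Groth.Agent.Lib.helper4.AlgStQCMor Groth.Agent.Lib.helper4.PointsBasic
open Groth.Agent.Lib.helper4.AlgStDescent Groth.Agent.Lib.helper4.AlgStCoreA
open Groth.Agent.Lib.helper4.AlgStSource Groth.Agent.Lib.helper4.AlgStGraph
open Groth.Agent.Lib.helper4.SmLocalST Groth.Agent.Lib.helper5.LocPBC
open Stk AlgSt

variable {S : Scheme.{u}}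

/-- the slice of a quasi-compact scheme is a quasi-compact stack -/
theorem isQuasiCompact_overCat (V : Over S) [IsAffine V.left] : AlgSt.IsQuasiCompact (overCat V) :=
  ⟨V, BasedFunctor.id _, inferInstance, smooth_id_overCat V, surj_id_overCat V⟩

section Compact

variable {𝒯' 𝒯 : AlgSt.Cat S} (h𝒯' : AlgSt.IsAlgStack Scheme.fppfPrecoverage 𝒯')
  (h𝒯 : AlgSt.IsAlgStack Scheme.fppfPrecoverage 𝒯)
include h𝒯' h𝒯

/-- an open surjective morphism onto a quasi-compact stack is already surjective on a quasi-compact chart -/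
theorem exists_compact_chart_of_isOpenMor (ζ : 𝒯' ⥤ᵇ 𝒯) (hζo : AlgSt.IsOpenMor ζ) (hζs : AlgSt.IsSurjective ζ)
    (hqc : AlgSt.IsQuasiCompact 𝒯) :
    ∃ (V : Over S) (a' : overCat V ⥤ᵇ 𝒯'), IsAffine V.left ∧
      AlgSt.IsSurjective (BasedFunctor.comp a' ζ) := by
  have := compactSpace_points_of_isQuasiCompact h𝒯.isStack.1 hqc
  obtain ⟨U, x₀, hx₀, hxs⟩ := h𝒯'.atlas
  have ho : IsOpenMap (Points.ofChart x₀) := isOpenMap_ofChart_smooth h𝒯'.isStack.1 x₀ hx₀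
  have hsur := ofChart_surjective h𝒯'.isStack.1 x₀ hxs
  have hcov : (Set.univ : Set (AlgSt.Points 𝒯)) ⊆
      ⋃ A : U.left.affineOpens, Points.map ζ '' (Points.ofChart x₀ '' (A.1 : Set ↥U.left)) := by
    intro z _
    obtain ⟨z', rfl⟩ := hζs z
    obtain ⟨u, rfl⟩ := hsur z'
    obtain ⟨_, ⟨A, hA, rfl⟩, huA, -⟩ :=
      U.left.isBasis_affineOpens.exists_subset_of_mem_open (Set.mem_univ u) isOpen_univ
    exact Set.mem_iUnion.2 ⟨⟨A, hA⟩, _, ⟨u, huA, rfl⟩, rfl⟩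
  obtain ⟨t, ht⟩ := isCompact_univ.elim_finite_subcover _
    (fun A : U.left.affineOpens => hζo _ (ho _ A.1.2)) hcov
  let O : U.left.Opens := ⨆ A ∈ t, (A : U.left.affineOpens).1
  have hOc : IsCompact (O : Set ↥U.left) := by
    have : (O : Set ↥U.left) = ⋃ A ∈ t, ((A : U.left.affineOpens).1 : Set ↥U.left) := by
      simp [O]
    rw [this]
    exact t.isCompact_biUnion (fun A _ => A.2.isCompact)
  have : CompactSpace ↥(O : Scheme) := isCompact_iff_compactSpace.1 hOc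
  obtain ⟨Y, p, hp1, hp2, hY⟩ := Scheme.exists_hom_isAffine_of_isZariskiLocalAtSource @Etale (O : Scheme)
  let g₀ : Y ⟶ U.left := p ≫ O.ι
  let V : Over S := Over.mk (g₀ ≫ U.hom)
  let g : V ⟶ U := Over.homMk g₀ rfl
  refine ⟨V, BasedFunctor.comp (AlgSt.overMap g) x₀, hY, ?_⟩
  intro z
  obtain ⟨A, hA, _, ⟨u, huA, rfl⟩, rfl⟩ : ∃ A ∈ t, z ∈ Points.map ζ ''
      (Points.ofChart x₀ '' ((A : U.left.affineOpens).1 : Set ↥U.left)) := by
    have := ht (Set.mem_univ z)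
    simpa using this
  have huO : u ∈ O := by
    simp only [O]
    exact TopologicalSpace.Opens.mem_iSup.2 ⟨A, TopologicalSpace.Opens.mem_iSup.2 ⟨hA, huA⟩⟩
  obtain ⟨y, hy⟩ := hp1.surj ⟨u, huO⟩
  refine ⟨Points.ofChart (BasedFunctor.id (overCat V)) y, ?_⟩
  have h1 : g.left y = u := by
    change (p ≫ O.ι) y = u
    rw [Scheme.Hom.comp_apply, hy]
    rfl
  rw [← h1, ← ofChart_overMap g x₀ y]
  rfl

end Compact

section QC

variable {𝒳 𝒴 𝒵 : AlgSt.Cat S} (h𝒳 : AlgSt.IsAlgStack Scheme.fppfPrecoverage 𝒳)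
  (h𝒴 : AlgSt.IsAlgStack Scheme.fppfPrecoverage 𝒴) (h𝒵 : AlgSt.IsAlgStack Scheme.fppfPrecoverage 𝒵)
  (f : 𝒳 ⥤ᵇ 𝒴)
include h𝒳 h𝒴 h𝒵

/-- S13009 -/
theorem isQuasiCompactMor_of_fpFst_fppf (z : 𝒵 ⥤ᵇ 𝒴) (hz₁ : AlgSt.LocQ (AlgSp.LocP @Flat) z)
    (hz₂ : AlgSt.LocQ (AlgSp.LocP @LocallyOfFinitePresentation) z) (hz₃ : AlgSt.IsSurjective z)
    (h : AlgSt.IsQuasiCompactMor Scheme.fppfPrecoverage (fpFst z f)) :
    AlgSt.IsQuasiCompactMor Scheme.fppfPrecoverage f := by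
  intro 𝒯 h𝒯 hqc a
  have h𝒯' : AlgSt.IsAlgStack Scheme.fppfPrecoverage (fp a z) := isAlgStack_fp' h𝒯 h𝒵 h𝒴 a z
  have hζ₁ : AlgSt.LocQ (AlgSp.LocP @Flat) (fpFst a z) :=
    locQ_fpFst h𝒵 h𝒴 h𝒯 z a _ isSmoothLocalST_flat
      (fun X₁ Y₁ X₂ Y₂ h1 h2 _ h4 a b a' b' sq ha => locP_of_isPullback locPData_flat h1 h2 h4 sq ha) hz₁
  have hζ₂ : AlgSt.LocQ (AlgSp.LocP @LocallyOfFinitePresentation) (fpFst a z) :=
    locQ_fpFst h𝒵 h𝒴 h𝒯 z a _ isSmoothLocalST_lfp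
      (fun X₁ Y₁ X₂ Y₂ h1 h2 _ h4 a b a' b' sq ha => locP_of_isPullback locPData_lfp h1 h2 h4 sq ha) hz₂
  have hζo : AlgSt.IsOpenMor (fpFst a z) := isOpenMor_of_flat_lfp h𝒯' h𝒯 _ hζ₁ hζ₂
  have hζs : AlgSt.IsSurjective (fpFst a z) := Groth.Agent.S12825.result h𝒵 h𝒴 h𝒯 z a hz₃
  obtain ⟨V, a', hV, ha's⟩ := exists_compact_chart_of_isOpenMor h𝒯' h𝒯 (fpFst a z) hζo hζs hqc
  have hVa : AlgSt.IsAlgStack Scheme.fppfPrecoverage (overCat V) := isAlgStack_overCat V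
  -- `b : V ⟶ 𝒵`
  have h1 : AlgSt.IsQuasiCompact (fp (BasedFunctor.comp a' (fpSnd a z)) (fpFst z f)) :=
    h _ hVa (isQuasiCompact_overCat V) _
  have h2 : AlgSt.IsQuasiCompact (fp (BasedFunctor.comp (BasedFunctor.comp a' (fpSnd a z)) z) f) :=
    isQuasiCompact_of_isEquivOver _ (pasteL_isEquivOver (BasedFunctor.comp a' (fpSnd a z)) z f) h1
  have θ : BasedFunctor.comp (BasedFunctor.comp (BasedFunctor.comp a' (fpSnd a z)) z) (BasedFunctor.id _) ≅
      BasedFunctor.comp (BasedFunctor.comp a' (fpFst a z)) a :=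
    (whiskerLeftIso a' (fpIso a z)).symm
  have h3 : AlgSt.IsQuasiCompact (fp (BasedFunctor.comp (BasedFunctor.comp a' (fpFst a z)) a) f) :=
    isQuasiCompact_of_isEquivOver
      (fpMap (BasedFunctor.comp (BasedFunctor.comp a' (fpSnd a z)) z)
        (BasedFunctor.comp (BasedFunctor.comp a' (fpFst a z)) a) f f (BasedFunctor.id _) (BasedFunctor.id _)
        θ (Iso.refl _))
      (fpMap_isEquivOver _ _ _ _ _ _ _ _ (isEquivOver_id' _) (isEquivOver_id' _)) h2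
  have h4 : AlgSt.IsQuasiCompact (fp (BasedFunctor.comp a' (fpFst a z)) (fpFst a f)) :=
    isQuasiCompact_of_isEquivOver' _ (pasteL_isEquivOver (BasedFunctor.comp a' (fpFst a z)) a f) h3
  have h𝒫 : AlgSt.IsAlgStack Scheme.fppfPrecoverage (fp a f) := isAlgStack_fp' h𝒯 h𝒳 h𝒴 a f
  have h𝒬 : AlgSt.IsAlgStack Scheme.fppfPrecoverage (fp (BasedFunctor.comp a' (fpFst a z)) (fpFst a f)) :=
    isAlgStack_fp' hVa h𝒫 h𝒯 _ _
  have h5 : AlgSt.IsSurjective (fpSnd (BasedFunctor.comp a' (fpFst a z)) (fpFst a f)) := by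
    intro p
    obtain ⟨v, hv⟩ := ha's (Points.map (fpFst a f) p)
    obtain ⟨w, -, hw⟩ := exists_points_fp h𝒫.isStack.1 h𝒯.isStack.1 hVa.isStack.1 (fpFst a f)
      (BasedFunctor.comp a' (fpFst a z)) v p hv
    exact ⟨w, hw⟩
  exact isQuasiCompact_of_isSurjective h𝒬.isStack.1 h𝒫.isStack.1 h𝒫.atlas _ h5 h4

end QC

end Groth.Agent.Lib.helper4.AlgStLocQ
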