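import Groth.Agent.Lib.Helper4.AlgStLocQ7
import Groth.Agent.Lib.Helper4.AlgStPts7
set_option autoImplicit false
set_option backward.isDefEq.respectTransparency false
set_option backward.isDefEq.respectTransparency.types false
set_option linter.unusedSectionVars false
set_option linter.style.haveILetI false
set_option linter.unusedVariables false
open CategoryTheory CategoryTheory.Functor CategoryTheory.Limits Opposite AlgebraicGeometry
universe u

/-! Properties of morphisms representable by algebraic spaces descend along flat, locally finitely presented,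
surjective morphisms of algebraic stacks. -/

namespace Groth.Agent.Lib.helper4.AlgStLocQ
open Groth.Agent.FibEquiv Groth.Agent.FibYoneda FibCat Groth.Agent.Lib.helper4.FibPaste
open Groth.Agent.Lib.helper4.AlgStEquiv Groth.Agent.Lib.helper4.AlgStRep
open Groth.Agent.Lib.helper4.AlgStSetoid Groth.Agent.FibFpProj Groth.Agent.Lib.helper4.FibRep
open Groth.Agent.Lib.helper4.AlgStFpAlg Groth.Agent.Lib.helper4.AlgStDM Groth.Agent.Lib.helper4.AlgStSelf
open Groth.Agent.Lib.helper4.AlgStPts Groth.Agent.Lib.helper4.FibSwap Groth.Agent.Lib.helper4.AlgStSmLoc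
open Groth.Agent.Lib.helper4.AlgStQC Groth.Agent.Lib.helper4.PshDict Groth.Agent.Lib.helper4.PshRep
open Groth.Agent.Lib.helper4.PshPB Groth.Agent.Lib.helper4.AlgStQCMor Groth.Agent.Lib.helper4.PointsBasic
open Groth.Agent.Lib.helper4.AlgStDescent Groth.Agent.Lib.helper4.AlgStCoreA
open Groth.Agent.Lib.helper4.AlgStSource Groth.Agent.Lib.helper4.AlgStGraph
open Groth.Agent.Lib.helper4.SmLocalST Groth.Agent.Lib.helper5.LocPBC
open Stk AlgSt

variable {S : Scheme.{u}}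

section RepDescent

variable {𝒳 𝒴 𝒵 : AlgSt.Cat S} (h𝒳 : AlgSt.IsAlgStack Scheme.fppfPrecoverage 𝒳)
  (h𝒴 : AlgSt.IsAlgStack Scheme.fppfPrecoverage 𝒴) (h𝒵 : AlgSt.IsAlgStack Scheme.fppfPrecoverage 𝒵)
  (f : 𝒳 ⥤ᵇ 𝒴)
include h𝒳 h𝒴 h𝒵

/-- S12995, converse direction -/
theorem repByAlgSpWith_of_fpFst_fppf (P : MorphismProperty (AlgSp.Sp S))
    (hP₁ : ∀ ⦃X₁ Y₁ X₂ Y₂ : AlgSp.Sp S⦄, AlgSp.IsAlgSpace X₁ → AlgSp.IsAlgSpace Y₁ → AlgSp.IsAlgSpace X₂ →
      AlgSp.IsAlgSpace Y₂ → ∀ (a : X₁ ⟶ Y₁) (b : Y₂ ⟶ Y₁) (a' : X₂ ⟶ Y₂) (b' : X₂ ⟶ X₁),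
      IsPullback b' a' a b → P a → P a')
    (hP₂ : AlgSp.IsLocalOnBase AlgSp.IsFppfCover P) (hf : AlgSt.RepByAlgSp1 f) (z : 𝒵 ⥤ᵇ 𝒴)
    (hz₁ : AlgSt.LocQ (AlgSp.LocP @Flat) z) (hz₂ : AlgSt.LocQ (AlgSp.LocP @LocallyOfFinitePresentation) z)
    (hz₃ : AlgSt.IsSurjective z) (h : AlgSt.RepByAlgSpWith P (fpFst z f)) : AlgSt.RepByAlgSpWith P f := by
  have hQ : IsoInv P := isoInv_of_baseChange P hP₁
  intro T t
  obtain ⟨F, e, he⟩ := hf T t
  refine ⟨F, e, he, ?_⟩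
  obtain ⟨W, c, t', hc₁, hc₂, ⟨ι⟩, hc₃⟩ := exists_fppf_lift h𝒴 h𝒵 z hz₁ hz₂ T t
  have hcs : Surjective c.left := ⟨fun u => hc₃ u (hz₃ _)⟩
  have hTf : IsFibGrpd (overCat T).p := Groth.Agent.FibOver.isFibGrpd_overCat T
  have hWf : IsFibGrpd (overCat W).p := Groth.Agent.FibOver.isFibGrpd_overCat W
  have hfp : IsFibGrpd (fp t f).p := isFibGrpd_fp _ _ hTf h𝒳.isStack.1 h𝒴.isStack.1
  have hc1 : AlgSt.RepByAlgSpWith (AlgSp.LocP @Flat) (AlgSt.overMap c) :=
    repByAlgSpWith_overMap _ c (repBySpWith_locP_of locPData_flat c hc₁)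
  have hc2 : AlgSt.RepByAlgSpWith (AlgSp.LocP @LocallyOfFinitePresentation) (AlgSt.overMap c) :=
    repByAlgSpWith_overMap _ c (repBySpWith_locP_of locPData_lfp c hc₂)
  have hc3 : AlgSt.RepByAlgSpWith AlgSp.IsSurjectiveMor (AlgSt.overMap c) :=
    repByAlgSpWith_overMap _ c (repBySpWith_isSurjectiveMor _ ((AlgSp.repWith_yon_map_iff @Surjective c).2 hcs))
  have hf' : AlgSt.RepByAlgSp1 (fpFst t f) :=
    (repByAlgSp1_iff_top _).2 (Groth.Agent.Lib.helper4.AlgStDiagBC.repByAlgSpWith_fpFst ⊤ f t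
      ((repByAlgSp1_iff_top _).1 hf))
  have h1 : AlgSt.RepByAlgSpWith P (fpFst t' (fpFst z f)) :=
    Groth.Agent.Lib.helper4.AlgStDiagBC.repByAlgSpWith_fpFst P (fpFst z f) t' h
  -- compare `fp (overMap c) (fpFst t f)` with `fp t' (fpFst z f)`
  let E : fp t' (fpFst z f) ⥤ᵇ fp (BasedFunctor.comp (AlgSt.overMap c) t) f :=
    BasedFunctor.comp (pasteL t' z f)
      (fpMap (BasedFunctor.comp t' z) (BasedFunctor.comp (AlgSt.overMap c) t) f f (BasedFunctor.id _)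
        (BasedFunctor.id _) ι (Iso.refl _))
  have hE : IsEquivOver E := isEquivOver_comp _ _ (pasteL_isEquivOver _ _ _)
    (fpMap_isEquivOver _ _ _ _ _ _ _ _ (isEquivOver_id' _) (isEquivOver_id' _))
  obtain ⟨Ei, ⟨αE⟩, ⟨βE⟩⟩ := id hE
  have hEi : IsEquivOver Ei := isEquivOver_symm αE βE
  have hG : IsEquivOver (BasedFunctor.comp (pasteL (AlgSt.overMap c) t f) Ei) :=
    isEquivOver_comp _ _ (pasteL_isEquivOver _ _ _) hEi
  have θ : BasedFunctor.comp (fpFst (AlgSt.overMap c) (fpFst t f)) (BasedFunctor.id (overCat W)) ≅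
      BasedFunctor.comp (BasedFunctor.comp (pasteL (AlgSt.overMap c) t f) Ei) (fpFst t' (fpFst z f)) := by
    have j1 : BasedFunctor.comp (BasedFunctor.comp (pasteL (AlgSt.overMap c) t f) Ei)
          (BasedFunctor.comp E (fpFst (BasedFunctor.comp (AlgSt.overMap c) t) f)) ≅
        BasedFunctor.comp (pasteL (AlgSt.overMap c) t f) (fpFst (BasedFunctor.comp (AlgSt.overMap c) t) f) :=
      whiskerLeftIso (pasteL (AlgSt.overMap c) t f)
        (whiskerRightIso βE (fpFst (BasedFunctor.comp (AlgSt.overMap c) t) f))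
    exact j1.symm
  have h2 : AlgSt.RepByAlgSpWith P (fpFst (AlgSt.overMap c) (fpFst t f)) :=
    (repByAlgSpWith_iff_of_square P (fpFst t' (fpFst z f)) (fpFst (AlgSt.overMap c) (fpFst t f))
      (BasedFunctor.comp (pasteL (AlgSt.overMap c) t f) Ei) (BasedFunctor.id _) hG (isEquivOver_id' _) θ).1 h1
  have hrep : AlgSt.RepByAlgSpWith P (fpFst t f) :=
    descent hfp hTf hWf P hP₁ hP₂ (fpFst t f) hf' (AlgSt.overMap c) hc1 hc2 hc3 h2
  exact spMapOfOver_of_repByAlgSpWith P hQ (fpFst t f) hrep F e he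

end RepDescent

end Groth.Agent.Lib.helper4.AlgStLocQ
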