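import Groth.Agent.Lib.Helper4.AlgStLocQ9
import Groth.Agent.Lib.Helper4.AlgSpSmLocalST2
import Groth.Agent.Lib.Helper5.FppfSrcSmooth2
set_option autoImplicit false
set_option backward.isDefEq.respectTransparency false
set_option backward.isDefEq.respectTransparency.types false
set_option linter.unusedSectionVars false
set_option linter.style.haveILetI false
set_option linter.unusedVariables false
open CategoryTheory CategoryTheory.Functor CategoryTheory.Limits Opposite AlgebraicGeometry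
universe u

/-! Smoothness of morphisms of algebraic stacks descends along flat, locally finitely presented, surjective
morphisms to the source (helper4; scheme case by helper5). -/

namespace Groth.Agent.Lib.helper4.AlgStLocQ
open Groth.Agent.FibEquiv Groth.Agent.FibYoneda FibCat Groth.Agent.Lib.helper4.FibPaste
open Groth.Agent.Lib.helper4.AlgStEquiv Groth.Agent.Lib.helper4.AlgStRep
open Groth.Agent.Lib.helper4.AlgStSetoid Groth.Agent.FibFpProj Groth.Agent.Lib.helper4.FibRep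
open Groth.Agent.Lib.helper4.AlgStFpAlg Groth.Agent.Lib.helper4.AlgStDM Groth.Agent.Lib.helper4.AlgStSelf
open Groth.Agent.Lib.helper4.AlgStPts Groth.Agent.Lib.helper4.FibSwap Groth.Agent.Lib.helper4.AlgStSmLoc
open Groth.Agent.Lib.helper4.AlgStQC Groth.Agent.Lib.helper4.PshDict Groth.Agent.Lib.helper4.PshRep
open Groth.Agent.Lib.helper4.PshPB Groth.Agent.Lib.helper4.AlgStQCMor Groth.Agent.Lib.helper4.PointsBasic
open Groth.Agent.Lib.helper4.AlgStDescent Groth.Agent.Lib.helper4.AlgStCoreA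
open Groth.Agent.Lib.helper4.AlgStSource Groth.Agent.Lib.helper4.AlgStGraph
open Groth.Agent.Lib.helper4.SmLocalST Groth.Agent.Lib.helper5.LocPBC
open Stk AlgSt

variable {S : Scheme.{u}}

variable {𝒳 𝒴 𝒵 : AlgSt.Cat S} (h𝒳 : AlgSt.IsAlgStack Scheme.fppfPrecoverage 𝒳)
  (h𝒴 : AlgSt.IsAlgStack Scheme.fppfPrecoverage 𝒴) (h𝒵 : AlgSt.IsAlgStack Scheme.fppfPrecoverage 𝒵)
  (f : 𝒳 ⥤ᵇ 𝒴) (g : 𝒴 ⥤ᵇ 𝒵)

include h𝒳 h𝒴 h𝒵 in
/-- smoothness descends along a flat, locally finitely presented, surjective morphism to the source -/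
theorem locQ_smooth_of_comp (hf₁ : AlgSt.LocQ (AlgSp.LocP @Flat) f)
    (hf₁' : AlgSt.LocQ (AlgSp.LocP @LocallyOfFinitePresentation) f) (hf₂ : AlgSt.IsSurjective f)
    (hfg : AlgSt.LocQ (AlgSp.LocP @Smooth) (BasedFunctor.comp f g)) :
    AlgSt.LocQ (AlgSp.LocP @Smooth) g := by
  obtain ⟨W, z, hz, hzs⟩ := h𝒵.atlas
  obtain ⟨V, y, k, β, U, x, h, α, γ, hy, hly, hys, hx, hlx, hlxs, hxs, hlγ⟩ :=
    exists_tower h𝒳 h𝒴 h𝒵 f g z hz
  have h1 : Smooth (h ≫ k).left := AlgSp.locP_yon_map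
    ((locQ_iff_forall h𝒳 h𝒵 (BasedFunctor.comp f g) _ isSmoothLocalST_smooth).1 hfg U W x z (h ≫ k) γ hx hz hlγ)
  rw [Over.comp_left] at h1
  have h2 : Flat h.left := AlgSp.locP_yon_map
    ((locQ_iff_forall h𝒳 h𝒴 f _ isSmoothLocalST_flat).1 hf₁ U V x y h α hx hy hlx)
  have h2' : LocallyOfFinitePresentation h.left := AlgSp.locP_yon_map
    ((locQ_iff_forall h𝒳 h𝒴 f _ isSmoothLocalST_lfp).1 hf₁' U V x y h α hx hy hlx)
  have h3 : Surjective h.left := ⟨surjective_of_square h𝒳 h𝒴 f hf₂ x y h α hlxs⟩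
  have h4 : Smooth k.left := Groth.Agent.Lib.helper5.FppfSrcSmooth.smooth_of_comp h.left k.left
  exact ⟨V, W, y, z, k, β, hy, hys hzs, hz, locP_yon_map_of locPData_smooth k h4⟩

end Groth.Agent.Lib.helper4.AlgStLocQ
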