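import Groth.Agent.Lib.Helper4.DiagBC
set_option autoImplicit false
set_option backward.isDefEq.respectTransparency false
set_option backward.isDefEq.respectTransparency.types false
open CategoryTheory CategoryTheory.Functor CategoryTheory.Limits
universe v₇ u₇ v₆ u₆ v₅ u₅ v₄ u₄ v₃ u₃ v₂ u₂ v u

/-! The comparison `𝒳 ×_𝒵 𝒴 ⟶ 𝒳 ×_𝒯 𝒴` is a base change of the diagonal of `𝒵 ⟶ 𝒯` (over `C`). -/

namespace Groth.Agent.Lib.helper4.MagicSq
open Groth.Agent.FibEquiv Groth.Agent.Lib.helper4.FibPaste Groth.Agent.Lib.helper4.DiagBC FibCat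

variable {C : Type u} [Category.{v} C]
  {𝒳 : BasedCategory.{v₂, u₂} C} {𝒴 : BasedCategory.{v₃, u₃} C} {𝒵 : BasedCategory.{v₄, u₄} C}
  {𝒯 : BasedCategory.{v₅, u₅} C}
  (f : 𝒳 ⥤ᵇ 𝒵) (g : 𝒴 ⥤ᵇ 𝒵) (t : 𝒵 ⥤ᵇ 𝒯)
  (e : BasedFunctor.comp (fpFst f g) (BasedFunctor.comp f t) ≅
      BasedFunctor.comp (fpSnd f g) (BasedFunctor.comp g t))
  (he : ∀ x, e.hom.toNatTrans.app x = t.toFunctor.map x.obj.iso.hom)

/-- `Φ : 𝒳 ×_𝒯 𝒴 ⟶ 𝒵 ×_𝒯 𝒵` -/
def Φ : fp (BasedFunctor.comp f t) (BasedFunctor.comp g t) ⥤ᵇ fp t t :=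
  fpLift (BasedFunctor.comp (fpFst (BasedFunctor.comp f t) (BasedFunctor.comp g t)) f)
    (BasedFunctor.comp (fpSnd (BasedFunctor.comp f t) (BasedFunctor.comp g t)) g)
    (fpIso (BasedFunctor.comp f t) (BasedFunctor.comp g t))

theorem Φ_obj_iso_hom (b : (fp (BasedFunctor.comp f t) (BasedFunctor.comp g t)).obj) :
    ((Φ f g t).toFunctor.obj b).obj.iso.hom = b.obj.iso.hom := rfl

/-- the comparison functor `i` -/
abbrev ι : fp f g ⥤ᵇ fp (BasedFunctor.comp f t) (BasedFunctor.comp g t) :=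
  fpLift (fpFst f g) (fpSnd f g) e

theorem ι_obj_iso_hom (a : (fp f g).obj) :
    ((ι f g t e).toFunctor.obj a).obj.iso.hom = e.hom.toNatTrans.app a := rfl

include he in
theorem ι_obj_iso_hom' (a : (fp f g).obj) :
    ((ι f g t e).toFunctor.obj a).obj.iso.hom = t.toFunctor.map a.obj.iso.hom := by
  rw [ι_obj_iso_hom, he]

/-- the 2-isomorphism of the magic square -/
def kappa : BasedFunctor.comp (ι f g t e) (Φ f g t) ≅
    BasedFunctor.comp (BasedFunctor.comp (fpFst f g) f) (FibCat.diag t) :=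
  BasedNatIso.mkNatIso
    (NatIso.ofComponents
      (fun a => fpIsoMk t t (Iso.refl (f.toFunctor.obj a.obj.fst)) a.obj.iso.symm (by
        change t.toFunctor.map (𝟙 _) ≫ 𝟙 _ =
          ((ι f g t e).toFunctor.obj a).obj.iso.hom ≫ t.toFunctor.map a.obj.iso.inv
        rw [ι_obj_iso_hom' f g t e he, ← CategoryTheory.Functor.map_comp, Iso.hom_inv_id]
        simp
        rfl))
      (fun {a a'} m => by
        have hw : f.toFunctor.map m.hom.fst ≫ a'.obj.iso.hom =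
          a.obj.iso.hom ≫ g.toFunctor.map m.hom.snd := m.hom.w
        apply fp_hom_ext
        · change f.toFunctor.map m.hom.fst ≫ 𝟙 _ = 𝟙 _ ≫ f.toFunctor.map m.hom.fst
          simp
        · change g.toFunctor.map m.hom.snd ≫ a'.obj.iso.inv =
            a.obj.iso.inv ≫ f.toFunctor.map m.hom.fst
          rw [Iso.comp_inv_eq, Category.assoc, hw, Iso.inv_hom_id_assoc]))
    (fun a => by
      apply Groth.Agent.FibFp.lift_to
      change 𝒵.p.IsHomLift (𝟙 (𝒳.p.obj a.obj.fst)) (𝟙 (f.toFunctor.obj a.obj.fst))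
      exact IsHomLift.id (f.w_obj a.obj.fst))

/-- the comparison functor of the magic square -/
def cmp : fp f g ⥤ᵇ fp (Φ f g t) (FibCat.diag t) :=
  fpLift (ι f g t e) (BasedFunctor.comp (fpFst f g) f) (kappa f g t e he)

instance cmp_faithful : (cmp f g t e he).toFunctor.Faithful where
  map_injective {a a'} m m' h := by
    have h1 : ((cmp f g t e he).toFunctor.map m).hom.fst.hom.fst =
        ((cmp f g t e he).toFunctor.map m').hom.fst.hom.fst := by rw [h]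
    have h2 : ((cmp f g t e he).toFunctor.map m).hom.fst.hom.snd =
        ((cmp f g t e he).toFunctor.map m').hom.fst.hom.snd := by rw [h]
    exact fp_hom_ext f g h1 h2

instance cmp_full : (cmp f g t e he).toFunctor.Full where
  map_surjective {a a'} n := by
    let n₁ : a.obj.fst ⟶ a'.obj.fst := n.hom.fst.hom.fst
    let n₂ : a.obj.snd ⟶ a'.obj.snd := n.hom.fst.hom.snd
    let nz : f.toFunctor.obj a.obj.fst ⟶ f.toFunctor.obj a'.obj.fst := n.hom.snd
    have e2 := n.hom.w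
    have e3 : f.toFunctor.map n₁ = nz := by
      have := congrArg (fun k => k.hom.fst) e2
      change f.toFunctor.map n₁ ≫ 𝟙 _ = 𝟙 _ ≫ nz at this
      simpa using this
    have e4 : g.toFunctor.map n₂ ≫ a'.obj.iso.inv = a.obj.iso.inv ≫ nz := by
      have := congrArg (fun k => k.hom.snd) e2
      exact this
    have hw : f.toFunctor.map n₁ ≫ a'.obj.iso.hom = a.obj.iso.hom ≫ g.toFunctor.map n₂ := by
      rw [e3, ← cancel_epi a.obj.iso.inv, ← Category.assoc, ← e4]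
      simp
    refine ⟨fpHomMk f g n₁ n₂ hw, ?_⟩
    apply fp_hom_ext
    · apply fp_hom_ext
      · rfl
      · rfl
    · exact e3

theorem cmp_isEquivOver : IsEquivOver (cmp f g t e he) := by
  apply isEquivOver_of
  intro z
  let b : (fp (BasedFunctor.comp f t) (BasedFunctor.comp g t)).obj := z.obj.fst
  let z₀ : 𝒵.obj := z.obj.snd
  let τ : (Φ f g t).toFunctor.obj b ≅ (FibCat.diag t).toFunctor.obj z₀ := z.obj.iso
  let x : 𝒳.obj := b.obj.fst
  let y : 𝒴.obj := b.obj.snd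
  let τ₁ : f.toFunctor.obj x ≅ z₀ := isoFst t t τ
  let τ₂ : g.toFunctor.obj y ≅ z₀ := isoSnd t t τ
  have hτ : t.toFunctor.map τ₁.hom ≫ 𝟙 _ = b.obj.iso.hom ≫ t.toFunctor.map τ₂.hom := τ.hom.hom.w
  have hτl : (fp t t).p.IsHomLift (𝟙 (𝒳.p.obj x)) τ.hom := fp_iso_isHomLift _ _ z
  have hτ₁ : 𝒵.p.IsHomLift (𝟙 (𝒳.p.obj x)) τ₁.hom := Groth.Agent.FibFp.lift_from t t _ τ.hom hτl
  have hτ₂ : 𝒵.p.IsHomLift (𝟙 (𝒳.p.obj x)) τ₂.hom := Groth.Agent.FibFp.lift_from_snd t t _ τ.hom hτl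
  have hτ₂' : 𝒵.p.IsHomLift (𝟙 (𝒳.p.obj x)) τ₂.inv := IsHomLift.lift_id_inv _ _ _
  let φ : f.toFunctor.obj x ≅ g.toFunctor.obj y := τ₁ ≪≫ τ₂.symm
  have hφ : 𝒵.p.IsHomLift (𝟙 (𝒳.p.obj x)) φ.hom := by
    change 𝒵.p.IsHomLift (𝟙 (𝒳.p.obj x)) (τ₁.hom ≫ τ₂.inv)
    infer_instance
  let a : (fp f g).obj := ⟨⟨x, y, φ⟩, hφ⟩
  let ea : (ι f g t e).toFunctor.obj a ≅ b :=
    fpIsoMk (BasedFunctor.comp f t) (BasedFunctor.comp g t) (Iso.refl x) (Iso.refl y) (by
      change t.toFunctor.map (f.toFunctor.map (𝟙 x)) ≫ b.obj.iso.hom =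
        ((ι f g t e).toFunctor.obj a).obj.iso.hom ≫ t.toFunctor.map (g.toFunctor.map (𝟙 y))
      rw [ι_obj_iso_hom' f g t e he]
      change _ = t.toFunctor.map (τ₁.hom ≫ τ₂.inv) ≫ _
      rw [Category.comp_id] at hτ
      rw [CategoryTheory.Functor.map_comp, hτ]
      have h1 : t.toFunctor.map (f.toFunctor.map (𝟙 x)) = 𝟙 _ := by
        rw [CategoryTheory.Functor.map_id, CategoryTheory.Functor.map_id]
      have h2 : t.toFunctor.map (g.toFunctor.map (𝟙 y)) = 𝟙 _ := by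
        rw [CategoryTheory.Functor.map_id, CategoryTheory.Functor.map_id]
      rw [h1, h2, Category.id_comp, Category.comp_id, Category.assoc,
        ← CategoryTheory.Functor.map_comp, Iso.hom_inv_id, CategoryTheory.Functor.map_id]
      exact (Category.comp_id _).symm)
  refine ⟨a, fpIsoMk (Φ f g t) (FibCat.diag t) ea τ₁ ?_, ?_⟩
  · apply fp_hom_ext
    · change f.toFunctor.map (𝟙 x) ≫ τ₁.hom = 𝟙 _ ≫ τ₁.hom
      simp
    · change g.toFunctor.map (𝟙 y) ≫ τ₂.hom = (τ₁ ≪≫ τ₂.symm).inv ≫ τ₁.hom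
      simp
  · apply Groth.Agent.FibFp.lift_to
    apply Groth.Agent.FibFp.lift_to
    change 𝒳.p.IsHomLift (𝟙 (𝒳.p.obj x)) (𝟙 x)
    infer_instance

end Groth.Agent.Lib.helper4.MagicSq
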