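import Groth.Agent.Lib.Helper4.AlgStDiagBC
import Groth.Agent.Lib.Helper4.MagicSq
set_option autoImplicit false
set_option backward.isDefEq.respectTransparency false
set_option backward.isDefEq.respectTransparency.types false
open CategoryTheory CategoryTheory.Functor CategoryTheory.Limits AlgebraicGeometry
universe u

/-! Morphisms that are base changes of a diagonal: the comparison `𝒳 ×_𝒵 𝒴 ⟶ 𝒳 ×_𝒯 𝒴`. -/

namespace Groth.Agent.Lib.helper4.AlgStMagic
open Groth.Agent.FibEquiv Groth.Agent.Lib.helper4.FibPaste Groth.Agent.Lib.helper4.AlgStRep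
open Groth.Agent.Lib.helper4.AlgStEquiv Groth.Agent.Lib.helper4.AlgStDiagBC FibCat

variable {S : Scheme.{u}}

/-- If the diagonal of `t : 𝒵 ⟶ 𝒯` is representable by algebraic spaces with property `P`, so is
the comparison `𝒳 ×_𝒵 𝒴 ⟶ 𝒳 ×_𝒯 𝒴` (for every property `P`). -/
theorem repByAlgSpWith_fpComparison {𝒳 𝒴 𝒵 𝒯 : AlgSt.Cat S} (P : MorphismProperty (AlgSp.Sp S))
    (f : 𝒳 ⥤ᵇ 𝒵) (g : 𝒴 ⥤ᵇ 𝒵) (t : 𝒵 ⥤ᵇ 𝒯)
    (e : BasedFunctor.comp (fpFst f g) (BasedFunctor.comp f t) ≅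
      BasedFunctor.comp (fpSnd f g) (BasedFunctor.comp g t))
    (he : ∀ x, e.hom.toNatTrans.app x = t.toFunctor.map x.obj.iso.hom)
    (h : AlgSt.RepByAlgSpWith P (FibCat.diag t)) :
    AlgSt.RepByAlgSpWith P (fpLift (fpFst f g) (fpSnd f g) e) := by
  have h1 : AlgSt.RepByAlgSpWith P (fpFst (MagicSq.Φ f g t) (FibCat.diag t)) :=
    repByAlgSpWith_fpFst P (FibCat.diag t) (MagicSq.Φ f g t) h
  exact (repByAlgSpWith_iff_of_square P (fpFst (MagicSq.Φ f g t) (FibCat.diag t))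
    (MagicSq.ι f g t e) (MagicSq.cmp f g t e he) (BasedFunctor.id _)
    (MagicSq.cmp_isEquivOver f g t e he) (isEquivOver_id _) (Iso.refl _)).mp h1

end Groth.Agent.Lib.helper4.AlgStMagic
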