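import Mathlib

/-!
# Monomorphisms of schemes: residue fields, field-valued points, valuative lifting and
reflecting specializations (helper4)
-/

set_option backward.isDefEq.respectTransparency false
set_option backward.isDefEq.respectTransparency.types false

universe u

open CategoryTheory CategoryTheory.Limits AlgebraicGeometry TensorProduct IsLocalRing

namespace Groth.Agent.Lib.Helper4.SchMonoVal

/-- An epimorphism of fields is bijective. -/
lemma bijective_algebraMap_of_isEpi (k L : Type*) [Field k] [Field L] [Algebra k L]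
    [Algebra.IsEpi k L] : Function.Bijective (algebraMap k L) := by
  refine ⟨(algebraMap k L).injective, ?_⟩
  by_contra hns
  have hlt : LinearMap.range (Algebra.linearMap k L) < ⊤ := by
    rw [lt_top_iff_ne_top]
    intro htop
    apply hns
    intro a
    have : a ∈ LinearMap.range (Algebra.linearMap k L) := by rw [htop]; trivial
    obtain ⟨r, hr⟩ := this
    exact ⟨r, hr⟩
  obtain ⟨φ, hφ0, hφ⟩ := Submodule.exists_le_ker_of_lt_top _ hlt
  have h1 : φ 1 = 0 := by
    have : (1 : L) ∈ LinearMap.range (Algebra.linearMap k L) := ⟨1, by simp⟩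
    exact hφ this
  obtain ⟨a, ha⟩ : ∃ a, φ a ≠ 0 := by
    by_contra h
    push Not at h
    exact hφ0 (LinearMap.ext h)
  have key := (Algebra.isEpi_iff_forall_one_tmul_eq k L).mp inferInstance a
  let ψ : L ⊗[k] L →ₗ[k] L := TensorProduct.lift ((LinearMap.lsmul k L).comp φ)
  have h2 := congrArg ψ key
  simp only [ψ, TensorProduct.lift.tmul, LinearMap.comp_apply, LinearMap.lsmul_apply, h1,
    zero_smul] at h2
  apply ha
  have h3 : φ a • (1 : L) = 0 := h2.symm
  rcases smul_eq_zero.mp h3 with h | h
  · exact h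
  · exact absurd h one_ne_zero

/-- A monomorphism of schemes induces isomorphisms on residue fields. -/
lemma isIso_residueFieldMap_of_mono {X Y : Scheme.{u}} (f : Y ⟶ X) [Mono f] (y : Y) :
    IsIso (f.residueFieldMap y) := by
  have h1 : Mono (Spec.map (f.residueFieldMap y) ≫ X.fromSpecResidueField (f y)) := by
    rw [Scheme.Hom.SpecMap_residueFieldMap_fromSpecResidueField]
    infer_instance
  have h2 : Mono (Spec.map (f.residueFieldMap y)) :=
    mono_of_mono _ (X.fromSpecResidueField (f y))
  have h3 : Mono (f.residueFieldMap y).op :=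
    (Functor.mono_map_iff_mono Scheme.Spec _).mp h2
  have h4 : Epi (f.residueFieldMap y) := show Epi (f.residueFieldMap y).op.unop by infer_instance
  algebraize [(f.residueFieldMap y).hom]
  have h5 : Algebra.IsEpi (X.residueField (f y)) (Y.residueField y) :=
    CommRingCat.epi_iff_epi.mp h4
  have h6 := bijective_algebraMap_of_isEpi (X.residueField (f y)) (Y.residueField y)
  exact (ConcreteCategory.isIso_iff_bijective _).mpr h6

lemma exists_lift_field_of_mono_aux {X Y : Scheme.{u}} (f : Y ⟶ X) [Mono f]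
    (K : Type u) [Field K] (y : Y) (x : X) (hx : x = f y)
    (φ : X.residueField x ⟶ CommRingCat.of K) :
    ∃ l : Spec (CommRingCat.of K) ⟶ Y, l ≫ f = Spec.map φ ≫ X.fromSpecResidueField x := by
  subst hx
  have := isIso_residueFieldMap_of_mono f y
  refine ⟨Spec.map (inv (f.residueFieldMap y) ≫ φ) ≫ Y.fromSpecResidueField y, ?_⟩
  rw [Category.assoc, ← Scheme.Hom.SpecMap_residueFieldMap_fromSpecResidueField,
    ← Spec.map_comp_assoc, IsIso.hom_inv_id_assoc]

/-- A field-valued point of `X` whose image point lies in the image of the monomorphism `f`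
lifts to `Y`. -/
lemma exists_lift_field_of_mono {X Y : Scheme.{u}} (f : Y ⟶ X) [Mono f]
    (K : Type u) [Field K] (t : Spec (CommRingCat.of K) ⟶ X) (y : Y)
    (hy : t (closedPoint K) = f y) :
    ∃ l : Spec (CommRingCat.of K) ⟶ Y, l ≫ f = t := by
  have ht := Scheme.descResidueField_stalkClosedPointTo_fromSpecResidueField K X t
  obtain ⟨l, hl⟩ := exists_lift_field_of_mono_aux f K y _ hy
    (X.descResidueField (Scheme.stalkClosedPointTo t))
  exact ⟨l, hl.trans ht⟩

/-- Lifts of field-valued points through a monomorphism hit the expected point. -/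
lemma lift_apply_of_mono {X Y : Scheme.{u}} (f : Y ⟶ X) [Mono f]
    {T : Scheme.{u}} (t : T ⟶ X) (l : T ⟶ Y) (hl : l ≫ f = t) (p : T) (y : Y)
    (hy : t p = f y) : l p = y := by
  apply f.injective
  rw [← Scheme.Hom.comp_apply, hl, hy]


/-- The point of `Spec K` maps to the generic point; it specializes to the closed point. -/
lemma specMap_algebraMap_specializes (R : Type u) [CommRing R] [IsLocalRing R]
    (K : Type u) [CommRing K] [Algebra R K] (p : Spec (CommRingCat.of K)) :
    Spec.map (CommRingCat.ofHom (algebraMap R K)) p ⤳ (closedPoint R : Spec (CommRingCat.of R)) :=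
  specializes_closedPoint _

/-- Key lemma: if a specialization downstairs is realised by a valuative square which has the
lifting property (once the closed point lifts), then the specialization lifts through the
monomorphism. -/
lemma specializes_of_hasLift {X Y X' : Scheme.{u}} (f : Y ⟶ X) [Mono f] (g : X' ⟶ X)
    (y₀ y₁ : ↥(pullback f g)) (S : ValuativeCommSq f)
    (i : Spec (CommRingCat.of S.R) ⟶ X') (hi : i ≫ g = S.i₂)
    (i₁ : Spec (CommRingCat.of S.K) ⟶ pullback f g) (hi₁ : i₁ ≫ pullback.fst f g = S.i₁)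
    (hsq : i₁ ≫ pullback.snd f g = Spec.map (CommRingCat.ofHom (algebraMap S.R S.K)) ≫ i)
    (h₁ : i₁ (closedPoint S.K) = y₁) (h₀ : i (closedPoint S.R) = pullback.snd f g y₀)
    (hlift : (∃ l₀ : Spec (CommRingCat.of (IsLocalRing.ResidueField S.R)) ⟶ Y,
        l₀ ≫ f = Spec.map (CommRingCat.ofHom (IsLocalRing.residue S.R)) ≫ S.i₂) →
      S.commSq.HasLift) : y₁ ⤳ y₀ := by
  -- the closed point lifts
  have hl₀ : ∃ l₀ : Spec (CommRingCat.of (IsLocalRing.ResidueField S.R)) ⟶ Y,
      l₀ ≫ f = Spec.map (CommRingCat.ofHom (IsLocalRing.residue S.R)) ≫ S.i₂ := by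
    apply exists_lift_field_of_mono f (IsLocalRing.ResidueField S.R) _ (pullback.fst f g y₀)
    rw [Scheme.Hom.comp_apply]
    have h2 : Spec.map (CommRingCat.ofHom (IsLocalRing.residue S.R))
        (closedPoint (IsLocalRing.ResidueField S.R)) = closedPoint S.R :=
      IsLocalRing.PrimeSpectrum.comap_residue S.R _
    rw [h2, ← hi, Scheme.Hom.comp_apply, h₀, ← Scheme.Hom.comp_apply, ← Scheme.Hom.comp_apply,
      pullback.condition]
  obtain ⟨l, hl₁, hl₂⟩ := (hlift hl₀).exists_lift
  let l' : Spec (CommRingCat.of S.R) ⟶ pullback f g := pullback.lift l i (by rw [hl₂, hi])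
  have hl'₁ : Spec.map (CommRingCat.ofHom (algebraMap S.R S.K)) ≫ l' = i₁ := by
    apply pullback.hom_ext
    · rw [Category.assoc, pullback.lift_fst, hl₁, hi₁]
    · rw [Category.assoc, pullback.lift_snd, hsq]
  have hl'₀ : l' (closedPoint S.R) = y₀ := by
    have : Mono (pullback.snd f g) := inferInstance
    apply (pullback.snd f g).injective
    rw [← Scheme.Hom.comp_apply, pullback.lift_snd, h₀]
  have hsp := specMap_algebraMap_specializes S.R S.K (closedPoint S.K)
  have hsp' := hsp.map l'.continuous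
  rw [← h₁, ← hl'₀, ← hl'₁]
  exact hsp'


/-- Valuative lifting (given a lift of the closed point) for a monomorphism implies that
every base change reflects specializations. -/
theorem reflects_of_valuative {X Y : Scheme.{u}} (f : Y ⟶ X) [Mono f]
    (H : ∀ S : ValuativeCommSq f,
      (∃ l₀ : Spec (CommRingCat.of (IsLocalRing.ResidueField S.R)) ⟶ Y,
          l₀ ≫ f = Spec.map (CommRingCat.ofHom (IsLocalRing.residue S.R)) ≫ S.i₂) →
        S.commSq.HasLift)
    (X' : Scheme.{u}) (g : X' ⟶ X) (y₀ y₁ : ↥(pullback f g))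
    (h : (pullback.snd f g) y₁ ⤳ (pullback.snd f g) y₀) : y₁ ⤳ y₀ := by
  let ψ : X'.presheaf.stalk ((pullback.snd f g) y₀) ⟶ (pullback f g).residueField y₁ :=
    X'.presheaf.stalkSpecializes h ≫ (pullback.snd f g).stalkMap y₁ ≫ (pullback f g).residue y₁
  obtain ⟨A, hA, hA_local⟩ := exists_factor_valuationRing ψ.hom
  let ψA : X'.presheaf.stalk ((pullback.snd f g) y₀) ⟶ CommRingCat.of A :=
    CommRingCat.ofHom (ψ.hom.codRestrict _ hA)
  have w : (pullback f g).fromSpecResidueField y₁ ≫ pullback.snd f g =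
      Spec.map (CommRingCat.ofHom (algebraMap A ((pullback f g).residueField y₁))) ≫
        Spec.map ψA ≫ X'.fromSpecStalk ((pullback.snd f g) y₀) := by
    rw [Scheme.fromSpecResidueField, Category.assoc, ← Scheme.SpecMap_stalkMap_fromSpecStalk,
      ← Scheme.SpecMap_stalkSpecializes_fromSpecStalk h]
    simp_rw [← Spec.map_comp_assoc]
    rfl
  let i : Spec (CommRingCat.of A) ⟶ X' :=
    Spec.map ψA ≫ X'.fromSpecStalk ((pullback.snd f g) y₀)
  have hw' : ((pullback f g).fromSpecResidueField y₁ ≫ pullback.fst f g) ≫ f =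
      Spec.map (CommRingCat.ofHom (algebraMap A ((pullback f g).residueField y₁))) ≫ i ≫ g := by
    rw [Category.assoc, pullback.condition, ← Category.assoc, w]
    simp only [Category.assoc, i]
  let S : ValuativeCommSq f :=
    { R := A, K := (pullback f g).residueField y₁,
      i₁ := (pullback f g).fromSpecResidueField y₁ ≫ pullback.fst f g,
      i₂ := i ≫ g, commSq := ⟨hw'⟩ }
  refine specializes_of_hasLift f g y₀ y₁ S i rfl ((pullback f g).fromSpecResidueField y₁) rfl w
    ?_ ?_ (H S)
  · exact Scheme.fromSpecResidueField_apply _ _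
  · have h3 : Spec.map ψA (closedPoint A) =
        closedPoint (X'.presheaf.stalk ((pullback.snd f g) y₀)) :=
      comap_closedPoint (S := A) (ψ.hom.codRestrict A.toSubring hA)
    change (Spec.map ψA ≫ X'.fromSpecStalk ((pullback.snd f g) y₀)) (closedPoint A) = _
    rw [Scheme.Hom.comp_apply, h3, X'.fromSpecStalk_closedPoint]


instance isLocalHom_iso_hom' {R S : CommRingCat} (e : R ≅ S) : IsLocalHom e.hom.hom :=
  isLocalHom_of_isIso _

/-- Core of Mathlib's `ValuativeCriterion.Existence.of_specializingMap`: a valuative square has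
a lift as soon as the `K`-point of the base change specializes to a point over the closed
point. -/
lemma hasLift_of_specializes {X Y : Scheme.{u}} (f : X ⟶ Y) (S : ValuativeCommSq f)
    (x : ↥(pullback S.i₂ f))
    (h₁ : (pullback.lift (Spec.map (CommRingCat.ofHom (algebraMap S.R S.K))) S.i₁
      S.commSq.w.symm) (closedPoint S.K) ⤳ x)
    (h₂ : pullback.fst S.i₂ f x = closedPoint S.R) : S.commSq.HasLift := by
  obtain ⟨R, K, i₁, i₂, ⟨w⟩⟩ := S
  have : IsDomain (CommRingCat.of R) := ‹_›
  have : ValuationRing (CommRingCat.of R) := ‹_›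
  let : Field (CommRingCat.of K) := ‹_›
  let lft := pullback.lift (Spec.map (CommRingCat.ofHom (algebraMap R K))) i₁ w.symm
  let e : CommRingCat.of R ≅ (Spec <| .of R).presheaf.stalk (pullback.fst i₂ f x) :=
    (stalkClosedPointIso (.of R)).symm ≪≫
      (Spec <| .of R).presheaf.stalkCongr (.of_eq h₂.symm)
  let α := e.hom ≫ (pullback.fst i₂ f).stalkMap x
  have : IsLocalHom e.hom.hom := isLocalHom_of_isIso e.hom
  have : IsLocalHom α.hom := inferInstanceAs
    (IsLocalHom (((pullback.fst i₂ f).stalkMap x).hom.comp e.hom.hom))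
  let β := (pullback i₂ f).presheaf.stalkSpecializes h₁ ≫ Scheme.stalkClosedPointTo lft
  have hαβ : α ≫ β = CommRingCat.ofHom (algebraMap R K) := by
    simp only [CommRingCat.coe_of, Iso.trans_hom, Iso.symm_hom, TopCat.Presheaf.stalkCongr_hom,
      Category.assoc, α, e, β, stalkClosedPointIso_inv, StructureSheaf.toStalk]
    change (Scheme.ΓSpecIso (.of R)).inv ≫ (Spec <| .of R).presheaf.germ _ _ _ ≫ _ = _
    simp only [TopCat.Presheaf.germ_stalkSpecializes_assoc, Scheme.Hom.germ_stalkMap_assoc]
    simp only [TopologicalSpace.Opens.map_top]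
    rw [Scheme.germ_stalkClosedPointTo lft ⊤ trivial]
    erw [← Scheme.Hom.comp_app_assoc lft (pullback.fst i₂ f)]
    rw [pullback.lift_fst]
    simp
  have hbij := (bijective_rangeRestrict_comp_of_valuationRing (R := R) (K := K) α.hom β.hom
    (CommRingCat.hom_ext_iff.mp hαβ))
  let φ : (pullback i₂ f).presheaf.stalk x ⟶ CommRingCat.of R := CommRingCat.ofHom <|
    (RingEquiv.ofBijective _ hbij).symm.toRingHom.comp β.hom.rangeRestrict
  have hαφ : α ≫ φ = 𝟙 _ := by ext x; exact (RingEquiv.ofBijective _ hbij).symm_apply_apply x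
  have hαφ' : (pullback.fst i₂ f).stalkMap x ≫ φ = e.inv := by
    rw [← cancel_epi e.hom, ← Category.assoc, hαφ, e.hom_inv_id]
  have hφβ : φ ≫ CommRingCat.ofHom (algebraMap R K) = β :=
    hαβ ▸ CommRingCat.hom_ext (RingHom.ext fun x ↦ congr_arg Subtype.val
      ((RingEquiv.ofBijective _ hbij).apply_symm_apply (β.hom.rangeRestrict x)))
  refine ⟨⟨⟨Spec.map ((pullback.snd i₂ f).stalkMap x ≫ φ) ≫ X.fromSpecStalk _, ?_, ?_⟩⟩⟩
  · simp only [← Spec.map_comp_assoc, Category.assoc, hφβ]
    simp only [Spec.map_comp, Category.assoc, Scheme.SpecMap_stalkMap_fromSpecStalk,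
      Scheme.SpecMap_stalkSpecializes_fromSpecStalk_assoc, β]
    rw [Scheme.Spec_stalkClosedPointTo_fromSpecStalk_assoc]
    simp [lft]
  · simp only [Spec.map_comp, Category.assoc, Scheme.SpecMap_stalkMap_fromSpecStalk,
      ← pullback.condition]
    rw [← Scheme.SpecMap_stalkMap_fromSpecStalk_assoc, ← Spec.map_comp_assoc, hαφ']
    simp only [Iso.trans_inv, TopCat.Presheaf.stalkCongr_inv, Iso.symm_inv, Spec.map_comp,
      Category.assoc, Scheme.SpecMap_stalkSpecializes_fromSpecStalk_assoc, e]
    rw [← Spec_stalkClosedPointIso, ← Spec.map_comp_assoc,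
      Iso.inv_hom_id, Spec.map_id, Category.id_comp]


/-- If the base change of `f` along `S.i₂` reflects specializations, the valuative square `S`
has a lift as soon as the closed point lifts. -/
theorem hasLift_of_reflects {X Y : Scheme.{u}} (f : Y ⟶ X) (S : ValuativeCommSq f)
    (H : ∀ (y₀ y₁ : ↥(pullback f S.i₂)),
      (pullback.snd f S.i₂) y₁ ⤳ (pullback.snd f S.i₂) y₀ → y₁ ⤳ y₀)
    (h₀ : ∃ l₀ : Spec (CommRingCat.of (IsLocalRing.ResidueField S.R)) ⟶ Y,
      l₀ ≫ f = Spec.map (CommRingCat.ofHom (IsLocalRing.residue S.R)) ≫ S.i₂) :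
    S.commSq.HasLift := by
  obtain ⟨l₀, hl₀⟩ := h₀
  let lft' : Spec (CommRingCat.of S.K) ⟶ pullback f S.i₂ :=
    pullback.lift S.i₁ (Spec.map (CommRingCat.ofHom (algebraMap S.R S.K))) S.commSq.w
  let lft₀ : Spec (CommRingCat.of (IsLocalRing.ResidueField S.R)) ⟶ pullback f S.i₂ :=
    pullback.lift l₀ (Spec.map (CommRingCat.ofHom (IsLocalRing.residue S.R))) hl₀
  let y₁ := lft' (closedPoint S.K)
  let y₀ := lft₀ (closedPoint (IsLocalRing.ResidueField S.R))
  have hy₀ : (pullback.snd f S.i₂) y₀ = closedPoint S.R := by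
    change (pullback.snd f S.i₂) (lft₀ _) = _
    rw [← Scheme.Hom.comp_apply, pullback.lift_snd]
    exact IsLocalRing.PrimeSpectrum.comap_residue S.R _
  have hsp : y₁ ⤳ y₀ := by
    apply H
    rw [hy₀]
    exact specializes_closedPoint _
  let σ := (pullbackSymmetry f S.i₂).hom
  have hlft : pullback.lift (Spec.map (CommRingCat.ofHom (algebraMap S.R S.K))) S.i₁
      S.commSq.w.symm = lft' ≫ σ := by
    apply pullback.hom_ext
    · rw [pullback.lift_fst, Category.assoc, pullbackSymmetry_hom_comp_fst, pullback.lift_snd]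
    · rw [pullback.lift_snd, Category.assoc, pullbackSymmetry_hom_comp_snd, pullback.lift_fst]
  refine hasLift_of_specializes f S (σ y₀) ?_ ?_
  · rw [hlft, Scheme.Hom.comp_apply]
    exact hsp.map σ.continuous
  · rw [← Scheme.Hom.comp_apply, pullbackSymmetry_hom_comp_fst]
    exact hy₀

end Groth.Agent.Lib.Helper4.SchMonoVal
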