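import Groth.Agent.Lib.Helper4.AlgSpNoethMono
set_option autoImplicit false
set_option backward.isDefEq.respectTransparency false
set_option backward.isDefEq.respectTransparency.types false
set_option linter.unusedSectionVars false
set_option linter.style.haveILetI false
set_option linter.unusedVariables false
open CategoryTheory CategoryTheory.Functor CategoryTheory.Limits Opposite AlgebraicGeometry
universe u

/-! Monomorphisms of schemes into locally Noetherian schemes: the generic lifting criterion for
quasi-compactness, deduced from the case of algebraic spaces. -/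

namespace Groth.Agent.Lib.helper4.SchNoethMono
open AlgSp Groth.Agent.Lib.helper5 Groth.Agent.Lib.helper7.AlgSpFibre
open Groth.Agent.Lib.helper4.AlgSpNoethMono

variable {S : Scheme.{u}}

/-- a morphism of schemes over `S` whose map of sheaves is quasi-compact is quasi-compact -/
theorem quasiCompact_of_isQuasiCompactMor_yon_map {U V : Over S} (g : U ⟶ V)
    (h : IsQuasiCompactMor ((yon S).map g)) : QuasiCompact g.left := by
  rw [quasiCompact_iff_forall_isAffineOpen]
  intro W hW
  let Wo : Over S := Over.mk (W.ι ≫ V.hom)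
  let jW : Wo ⟶ V := Over.homMk W.ι rfl
  let P : Over S := Over.mk ((g.left ⁻¹ᵁ W).ι ≫ U.hom)
  let pι : P ⟶ U := Over.homMk (g.left ⁻¹ᵁ W).ι rfl
  let r : P ⟶ Wo := Over.homMk (g.left ∣_ W) (by
    change (g.left ∣_ W) ≫ W.ι ≫ V.hom = (g.left ⁻¹ᵁ W).ι ≫ U.hom
    rw [morphismRestrict_ι_assoc, Over.w g])
  have comm : pι ≫ g = r ≫ jW := by
    apply Over.OverMorphism.ext
    change (g.left ⁻¹ᵁ W).ι ≫ g.left = (g.left ∣_ W) ≫ W.ι
    exact (morphismRestrict_ι _ _).symm
  have sq0 : IsPullback pι r g jW := by
    apply IsPullback.of_map (Over.forget S) comm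
    exact (isPullback_morphismRestrict g.left W).flip
  have sq1 := sq0.map (yon S)
  have : CompactSpace ↥Wo.left := isCompact_iff_compactSpace.mp hW.isCompact
  have hq := h (IsAlgSpace.yon_obj Wo) (Groth.Agent.Lib.helper7.AlgSpQC.isQuasiCompactSp_yon Wo) _ _ _ sq1
  have hc := Groth.Agent.Lib.helper7.AlgSpQC.compactSpace_of_isQuasiCompactSp_yon P hq
  exact isCompact_iff_compactSpace.mpr hc

/-- **S15349**: a monomorphism into a locally Noetherian scheme satisfying the generic lifting hypothesis is
quasi-compact -/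
theorem quasiCompact_of_mono_of_generic_lifting {X Y : Scheme.{u}} [IsLocallyNoetherian X]
    (f : Y ⟶ X) [Mono f]
    (hc : ∀ (A : Type u) [CommRing A] [IsDomain A] (s : Spec (CommRingCat.of A) ⟶ X) (D : Set ↥(Spec (CommRingCat.of A))),
        Dense D →
        (∀ p ∈ D, ∃ l : Spec ((Spec (CommRingCat.of A)).residueField p) ⟶ Y,
            l ≫ f = (Spec (CommRingCat.of A)).fromSpecResidueField p ≫ s) →
          ∃ U : (Spec (CommRingCat.of A)).Opens, (U : Set ↥(Spec (CommRingCat.of A))).Nonempty ∧
            ∃ l : (U : Scheme.{u}) ⟶ Y, l ≫ f = U.ι ≫ s) :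
    QuasiCompact f := by
  let X₀ : Over X := Over.mk (𝟙 X)
  let Y₀ : Over X := Over.mk f
  let f₀ : Y₀ ⟶ X₀ := Over.homMk f (Category.comp_id f)
  have hm : Mono f₀ := (Over.forget X).mono_of_mono_map (inferInstanceAs (Mono f))
  have hmy : Mono ((yon X).map f₀) := Groth.Agent.Lib.helper10.mono_yon_map f₀
  have hN : IsLocallyNoetherian X₀.left := inferInstanceAs (IsLocallyNoetherian X)
  have H : HLift ((yon X).map f₀) := by
    intro A _ _ sA g D hD hl
    have hg : g.left = sA := by
      have := Over.w g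
      change g.left ≫ 𝟙 X = sA at this
      exact (Category.comp_id g.left).symm.trans this
    obtain ⟨U, hU, l, hl'⟩ := hc A sA D hD (by
      intro p hp
      obtain ⟨σ, hσ⟩ := hl p hp
      obtain ⟨τ, rfl⟩ := (yon X).map_surjective σ
      exact ⟨τ.left, Over.w τ⟩)
    refine ⟨U, hU, (yon X).map (Over.homMk l hl' : Over.mk (U.ι ≫ sA) ⟶ Y₀), ?_⟩
    rw [← Functor.map_comp]
    congr 1
    apply Over.OverMorphism.ext
    change l ≫ f = U.ι ≫ g.left
    rw [hg, hl']
  have hq := isQuasiCompactMor_of_mono (IsAlgSpace.yon_obj Y₀) X₀ _ H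
  exact quasiCompact_of_isQuasiCompactMor_yon_map f₀ hq

end Groth.Agent.Lib.helper4.SchNoethMono
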