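import Mathlib
import Groth.Agent.S9213
import Groth.Agent.Lib.Helper9.DVRTools
import Groth.Agent.Lib.Helper4.SchMonoVal
import Groth.Agent.Lib.Helper4.SchNoethMono

/-!
# Monomorphisms into locally Noetherian schemes: a valuative criterion for immersions (helper4)

A quasi-compact monomorphism locally of finite type into a locally Noetherian scheme which has the
lifting property for discrete valuation rings (given a lift of the closed point) is an immersion.
-/

set_option backward.isDefEq.respectTransparency false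
set_option backward.isDefEq.respectTransparency.types false

universe u

open CategoryTheory CategoryTheory.Limits AlgebraicGeometry IsLocalRing

namespace Groth.Agent.Lib.Helper4.SchNoethImm

open Groth.Agent.Lib.Helper4.SchMonoVal

/-- The lifting hypothesis for discrete valuation rings. -/
def DvrLifting {X Y : Scheme.{u}} (f : Y ⟶ X) : Prop :=
  ∀ S : ValuativeCommSq f, IsDiscreteValuationRing S.R →
    (∃ l₀ : Spec (CommRingCat.of (IsLocalRing.ResidueField S.R)) ⟶ Y,
        l₀ ≫ f = Spec.map (CommRingCat.ofHom (IsLocalRing.residue S.R)) ≫ S.i₂) →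
      S.commSq.HasLift

/-- Key claim: in the étale local decomposition `V ⊔ W` of the base change, the image of `W`
stays away from the point below `v ∈ V`. -/
lemma not_mem_closure_range {X Y : Scheme.{u}} (f : Y ⟶ X) [Mono f]
    [LocallyOfFiniteType f] [QuasiCompact f] (hb : DvrLifting f)
    {U : Scheme.{u}} [IsLocallyNoetherian U] (g : U ⟶ X) (V W : (pullback f g).Opens)
    (hVW : IsCompl V W) (v : ↥(pullback f g)) (hv : v ∈ V) :
    (pullback.snd f g) v ∉ closure (Set.range (W.ι ≫ pullback.snd f g)) := by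
  have hVW' : (W : Set ↥(pullback f g)) = (↑V)ᶜ :=
    eq_compl_iff_isCompl.mpr (hVW.map TopologicalSpace.Opens.frameHom).symm
  have : IsClosedImmersion W.ι := .of_isPreimmersion _ (by simpa [hVW'] using V.2)
  intro hcl
  obtain ⟨w₁, hw₁⟩ := Groth.Agent.Lib.helper9.exists_specializes_of_mem_closure_range
    (W.ι ≫ pullback.snd f g) _ hcl
  have hWmem : W.ι w₁ ∈ W := w₁.2
  have hne : (pullback.snd f g) v ≠ (W.ι ≫ pullback.snd f g) w₁ := by
    intro h
    rw [Scheme.Hom.comp_apply] at h
    have h2 : v = W.ι w₁ := (pullback.snd f g).injective h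
    have h3 : v ∈ (W : Set ↥(pullback f g)) := by rw [h2]; exact hWmem
    rw [hVW'] at h3
    exact h3 hv
  obtain ⟨A, h, hA, hcl', hgen⟩ := Groth.Agent.S4450.result (W.ι ≫ pullback.snd f g) w₁
    ((pullback.snd f g) v) hw₁ hne
  let i₁ : Spec (CommRingCat.of (W.toScheme.residueField w₁)) ⟶ pullback f g :=
    W.toScheme.fromSpecResidueField w₁ ≫ W.ι
  have hsq : i₁ ≫ pullback.snd f g =
      Spec.map (CommRingCat.ofHom (algebraMap A (W.toScheme.residueField w₁))) ≫ h := by
    have h2 : Spec.map (CommRingCat.ofHom A.subtype) ≫ h =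
        W.toScheme.fromSpecResidueField w₁ ≫ W.ι ≫ pullback.snd f g := hgen
    rw [Category.assoc]
    exact h2.symm
  let S : ValuativeCommSq f :=
    { R := A, K := W.toScheme.residueField w₁,
      i₁ := i₁ ≫ pullback.fst f g, i₂ := h ≫ g,
      commSq := ⟨by rw [Category.assoc, pullback.condition, ← Category.assoc, hsq,
        Category.assoc]⟩ }
  have hi₁pt : i₁ (closedPoint (W.toScheme.residueField w₁)) = W.ι w₁ := by
    change (W.toScheme.fromSpecResidueField w₁ ≫ W.ι) _ = _
    rw [Scheme.Hom.comp_apply, Scheme.fromSpecResidueField_apply]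
  have hsp : W.ι w₁ ⤳ v :=
    specializes_of_hasLift f g v (W.ι w₁) S h rfl i₁ rfl hsq hi₁pt hcl' (hb S hA)
  have h4 : W.ι w₁ ∈ V := hsp.mem_open V.2 hv
  have h5 : W.ι w₁ ∈ (W : Set ↥(pullback f g)) := hWmem
  rw [hVW'] at h5
  exact h5 h4


/-- The image of a quasi-compact monomorphism locally of finite type into a locally Noetherian
scheme with lifting for discrete valuation rings is locally closed. -/
theorem isLocallyClosed_range_of_dvr {X Y : Scheme.{u}} [IsLocallyNoetherian X] (f : Y ⟶ X)
    [Mono f] [LocallyOfFiniteType f] [QuasiCompact f] (hb : DvrLifting f) :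
    IsLocallyClosed (Set.range f) := by
  refine ((isLocallyClosed_tfae (Set.range f)).out 0 3).mpr ?_
  rintro _ ⟨y₀, rfl⟩
  have hqf : f.QuasiFiniteAt y₀ := f.quasiFiniteAt y₀
  obtain ⟨U, g, hg, -, V, W, v, hVW, hfin, hv⟩ := exists_etale_isCompl_of_quasiFiniteAt f rfl hqf
  have : IsLocallyNoetherian U := LocallyOfFiniteType.isLocallyNoetherian g
  have hclaim := not_mem_closure_range f hb g V W hVW v.1 v.2
  let U' : Set U := (closure (Set.range (W.ι ≫ pullback.snd f g)))ᶜ
  have hU'open : IsOpen U' := isClosed_closure.isOpen_compl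
  have hgopen : IsOpenMap g := g.isOpenMap
  refine ⟨g '' U', ⟨pullback.snd f g v.1, hclaim, ?_⟩, hgopen _ hU'open, ?_⟩
  · rw [← Scheme.Hom.comp_apply, ← pullback.condition, Scheme.Hom.comp_apply, hv]
  · rintro x ⟨⟨u, hu, rfl⟩, hxcl⟩
    have h1 : u ∈ closure (g ⁻¹' Set.range f) :=
      hgopen.preimage_closure_subset_closure_preimage hxcl
    rw [← Scheme.Pullback.range_snd] at h1
    have h2 : Set.range (pullback.snd f g) =
        Set.range (V.ι ≫ pullback.snd f g) ∪ Set.range (W.ι ≫ pullback.snd f g) := by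
      apply Set.Subset.antisymm
      · rintro _ ⟨z, rfl⟩
        have hz : z ∈ (V ⊔ W : (pullback f g).Opens) := by
          rw [hVW.sup_eq_top]; trivial
        rcases hz with hz | hz
        · exact Or.inl ⟨⟨z, hz⟩, rfl⟩
        · exact Or.inr ⟨⟨z, hz⟩, rfl⟩
      · rintro _ (⟨z, rfl⟩ | ⟨z, rfl⟩)
        · exact ⟨V.ι z, rfl⟩
        · exact ⟨W.ι z, rfl⟩
    rw [h2, closure_union] at h1
    rcases h1 with h1 | h1
    · have hcl : IsClosed (Set.range (V.ι ≫ pullback.snd f g)) :=
        (V.ι ≫ pullback.snd f g).isClosedMap.isClosed_range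
      rw [hcl.closure_eq] at h1
      obtain ⟨z, hz⟩ := h1
      refine ⟨pullback.fst f g (V.ι z), ?_⟩
      rw [← Scheme.Hom.comp_apply, pullback.condition, Scheme.Hom.comp_apply, ← hz]
      rfl
    · exact absurd h1 hu


/-- A quasi-compact monomorphism locally of finite type into a locally Noetherian scheme with
lifting for discrete valuation rings (given a lift of the closed point) is an immersion. -/
theorem isImmersion_of_dvr {X Y : Scheme.{u}} [IsLocallyNoetherian X] (f : Y ⟶ X)
    [Mono f] [LocallyOfFiniteType f] [QuasiCompact f] (hb : DvrLifting f) :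
    IsImmersion f := by
  have hlc := isLocallyClosed_range_of_dvr f hb
  let X₁ : X.Opens := ⟨coborder (Set.range f), hlc.isOpen_coborder⟩
  have hsub : Set.range f ⊆ Set.range X₁.ι := by
    rw [Scheme.Opens.range_ι]
    exact subset_coborder
  let f₁ : Y ⟶ X₁ := IsOpenImmersion.lift X₁.ι f hsub
  have hf₁ : f₁ ≫ X₁.ι = f := IsOpenImmersion.lift_fac _ _ _
  have hmono : Mono f₁ := by
    have : Mono (f₁ ≫ X₁.ι) := by rw [hf₁]; infer_instance
    exact mono_of_mono f₁ X₁.ι
  have hlft : LocallyOfFiniteType f₁ := by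
    have : LocallyOfFiniteType (f₁ ≫ X₁.ι) := by rw [hf₁]; infer_instance
    exact locallyOfFiniteType_of_comp f₁ X₁.ι
  have hqc : QuasiCompact f₁ := by
    have : QuasiCompact (f₁ ≫ X₁.ι) := by rw [hf₁]; infer_instance
    exact QuasiCompact.of_comp f₁ X₁.ι
  have hclosed : IsClosed (Set.range f₁) := by
    rw [X₁.ι.isOpenEmbedding.isInducing.isClosed_iff]
    refine ⟨closure (Set.range f), isClosed_closure, ?_⟩
    ext z
    constructor
    · intro hz
      have hz1 : X₁.ι z ∈ coborder (Set.range f) := z.2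
      have hz2 : X₁.ι z ∈ coborder (Set.range f) ∩ closure (Set.range f) := ⟨hz1, hz⟩
      rw [coborder_inter_closure] at hz2
      obtain ⟨y, hy⟩ := hz2
      refine ⟨y, X₁.ι.isOpenEmbedding.injective ?_⟩
      rw [← Scheme.Hom.comp_apply, hf₁, hy]
    · rintro ⟨y, rfl⟩
      apply subset_closure
      exact ⟨y, by rw [← hf₁, Scheme.Hom.comp_apply]⟩
  have huc : UniversallyClosed f₁ := by
    rw [Groth.Agent.S9213.result f₁]
    intro A _ _ _ x y hxy
    -- the closed point maps into the range of `f₁`
    have hsp : y (Spec.map (CommRingCat.ofHom (algebraMap A (FractionRing A)))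
        (closedPoint (FractionRing A))) ⤳ y (closedPoint A) :=
      (specMap_algebraMap_specializes A (FractionRing A) _).map y.continuous
    have hgen : y (Spec.map (CommRingCat.ofHom (algebraMap A (FractionRing A)))
        (closedPoint (FractionRing A))) ∈ Set.range f₁ := by
      refine ⟨x (closedPoint (FractionRing A)), ?_⟩
      rw [← Scheme.Hom.comp_apply, hxy, Scheme.Hom.comp_apply]
    obtain ⟨y₀, hy₀⟩ := hsp.mem_closed hclosed hgen
    have hl₀ : ∃ l₀ : Spec (CommRingCat.of (IsLocalRing.ResidueField A)) ⟶ Y,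
        l₀ ≫ f = Spec.map (CommRingCat.ofHom (IsLocalRing.residue A)) ≫ y ≫ X₁.ι := by
      apply exists_lift_field_of_mono f (IsLocalRing.ResidueField A) _ y₀
      rw [Scheme.Hom.comp_apply, Scheme.Hom.comp_apply]
      have h2 : Spec.map (CommRingCat.ofHom (IsLocalRing.residue A))
          (closedPoint (IsLocalRing.ResidueField A)) = closedPoint A :=
        IsLocalRing.PrimeSpectrum.comap_residue A _
      rw [h2, ← hy₀, ← Scheme.Hom.comp_apply, hf₁]
    let S : ValuativeCommSq f :=
      { R := A, K := FractionRing A, i₁ := x, i₂ := y ≫ X₁.ι,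
        commSq := ⟨by rw [← hf₁, ← Category.assoc, hxy, Category.assoc]⟩ }
    obtain ⟨l, hl₁, hl₂⟩ := (hb S ‹_› hl₀).exists_lift
    refine ⟨l, ?_, hl₁⟩
    rw [← cancel_mono X₁.ι, Category.assoc, hf₁]
    exact hl₂
  have hproper : IsProper f₁ := {}
  have hci : IsClosedImmersion f₁ :=
    (IsClosedImmersion.iff_isProper_and_mono f₁).mpr ⟨hproper, hmono⟩
  rw [← hf₁]
  infer_instance

end Groth.Agent.Lib.Helper4.SchNoethImm
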