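import Groth.Agent.Lib.Helper4.AlgStNoethMono
import Groth.Agent.Lib.Helper4.AlgStNoethHB
import Groth.Agent.Lib.Helper4.SchNoethImm
import Groth.Agent.Lib.Helper4.SchNoethMono
import Groth.Agent.S10613
import Groth.Agent.S10538
set_option autoImplicit false
set_option backward.isDefEq.respectTransparency false
set_option backward.isDefEq.respectTransparency.types false
set_option linter.unusedSectionVars false
set_option linter.style.haveILetI false
set_option linter.unusedVariables false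
open CategoryTheory CategoryTheory.Functor CategoryTheory.Limits Opposite AlgebraicGeometry
universe u

/-! Monomorphisms into locally Noetherian algebraic stacks: the discrete valuation ring criterion for quasi-compact
immersions. -/

namespace Groth.Agent.Lib.helper4.AlgStNoethImm2
open Groth.Agent.Lib.helper4.AlgStLocQ
open Groth.Agent.FibEquiv Groth.Agent.FibYoneda FibCat Groth.Agent.Lib.helper4.FibPaste
open Groth.Agent.Lib.helper4.AlgStEquiv Groth.Agent.Lib.helper4.AlgStRep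
open Groth.Agent.Lib.helper4.AlgStSetoid Groth.Agent.FibFpProj Groth.Agent.Lib.helper4.FibRep
open Groth.Agent.Lib.helper4.AlgStFpAlg Groth.Agent.Lib.helper4.AlgStDM Groth.Agent.Lib.helper4.AlgStSelf
open Groth.Agent.Lib.helper4.AlgStPts Groth.Agent.Lib.helper4.FibSwap Groth.Agent.Lib.helper4.AlgStSmLoc
open Groth.Agent.Lib.helper4.AlgStQC Groth.Agent.Lib.helper4.PshDict Groth.Agent.Lib.helper4.PshRep
open Groth.Agent.Lib.helper4.PshPB Groth.Agent.Lib.helper4.AlgStQCMor Groth.Agent.Lib.helper4.PointsBasic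
open Groth.Agent.Lib.helper4.AlgStDescent Groth.Agent.Lib.helper4.AlgStCoreA
open Groth.Agent.Lib.helper4.AlgStSource Groth.Agent.Lib.helper4.AlgStGraph
open Groth.Agent.Lib.helper4.SmLocalST Groth.Agent.Lib.helper5.LocPBC
open Groth.Agent.Lib.helper4.AlgStNoethImm Groth.Agent.Lib.helper4.AlgSpNoethMono
open Groth.Agent.Lib.helper4.AlgStNoethMono Groth.Agent.Lib.helper4.AlgStNoethHB
open Stk AlgSt

variable {S : Scheme.{u}}

section Dict

variable {𝒳 𝒴 : AlgSt.Cat S} (f : 𝒴 ⥤ᵇ 𝒳) {V : Over S} (y : overCat V ⥤ᵇ 𝒳)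
  (F : AlgSp.Space S) (e : AlgSt.ofSp F.obj ⥤ᵇ fp y f)

/-- a section of the fibre product over a scheme gives a lift -/
theorem lift_of_section {T : Over S} (t : T ⟶ V) (σ : (AlgSp.yon S).obj T ⟶ F.obj)
    (hσ : σ ≫ AlgSt.spMapOfOver (BasedFunctor.comp e (fpFst y f)) = (AlgSp.yon S).map t) :
    ∃ yT : overCat T ⥤ᵇ 𝒴, Nonempty (BasedFunctor.comp yT f ≅ BasedFunctor.comp (AlgSt.overMap t) y) := by
  obtain ⟨i⟩ := overMap_iso_of_eq σ (BasedFunctor.comp e (fpFst y f)) _ hσ.symm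
  refine ⟨BasedFunctor.comp (BasedFunctor.comp (ofMap σ) e) (fpSnd y f), ⟨?_⟩⟩
  have i1 : BasedFunctor.comp (BasedFunctor.comp (ofMap σ) e) (BasedFunctor.comp (fpSnd y f) f) ≅
      BasedFunctor.comp (BasedFunctor.comp (ofMap σ) e) (BasedFunctor.comp (fpFst y f) y) :=
    whiskerLeftIso _ (fpIso y f).symm
  have i2 : BasedFunctor.comp (BasedFunctor.comp (ofMap σ) (BasedFunctor.comp e (fpFst y f))) y ≅
      BasedFunctor.comp (AlgSt.overMap t) y :=
    whiskerRightIso i.symm y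
  exact i1 ≪≫ i2

/-- a lift gives a section of the fibre product -/
theorem section_of_lift (he : IsEquivOver e) {T : Over S} (t : T ⟶ V) (yT : overCat T ⥤ᵇ 𝒴)
    (α : BasedFunctor.comp yT f ≅ BasedFunctor.comp (AlgSt.overMap t) y) :
    ∃ σ : (AlgSp.yon S).obj T ⟶ F.obj,
      σ ≫ AlgSt.spMapOfOver (BasedFunctor.comp e (fpFst y f)) = (AlgSp.yon S).map t := by
  let L : overCat T ⥤ᵇ fp y f := fpLift (AlgSt.overMap t) yT α.symm
  obtain ⟨Ei, ⟨α₁⟩, ⟨β₁⟩⟩ := he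
  obtain ⟨σ, ⟨i⟩⟩ := exists_map_of_chart (BasedFunctor.comp L Ei)
  refine ⟨σ, (eq_of_overMap_iso σ (BasedFunctor.comp e (fpFst y f)) t ?_).symm⟩
  have j1 : BasedFunctor.comp (ofMap σ) (BasedFunctor.comp e (fpFst y f)) ≅
      BasedFunctor.comp (BasedFunctor.comp L Ei) (BasedFunctor.comp e (fpFst y f)) :=
    whiskerRightIso i.symm _
  have j2 : BasedFunctor.comp L (BasedFunctor.comp (BasedFunctor.comp Ei e) (fpFst y f)) ≅
      BasedFunctor.comp L (BasedFunctor.comp (BasedFunctor.id _) (fpFst y f)) :=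
    whiskerLeftIso L (whiskerRightIso β₁ (fpFst y f))
  exact (j1 ≪≫ j2).symm

end Dict

section Dvr

variable {𝒳 𝒴 : AlgSt.Cat S} (f : 𝒴 ⥤ᵇ 𝒳) {V : Over S} (y : overCat V ⥤ᵇ 𝒳)
  (F : AlgSp.Space S) (e : AlgSt.ofSp F.obj ⥤ᵇ fp y f)

/-- the stack-level lifting hypothesis gives the scheme-level one when the fibre product is a scheme -/
theorem dvrLifting_of_hb (hb : HB f) (he : IsEquivOver e) {Y : Over S} (g : Y ⟶ V)
    (φ : (AlgSp.yon S).obj Y ≅ F.obj)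
    (hφ : φ.hom ≫ AlgSt.spMapOfOver (BasedFunctor.comp e (fpFst y f)) = (AlgSp.yon S).map g) [Mono g.left] :
    Groth.Agent.Lib.Helper4.SchNoethImm.DvrLifting g.left := by
  rintro Sq hR ⟨l₀, hl₀⟩
  haveI := hR
  let sA : Spec (CommRingCat.of Sq.R) ⟶ S := Sq.i₂ ≫ V.hom
  let tA : Over.mk sA ⟶ V := Over.homMk Sq.i₂ rfl
  let rK : Over.mk (Spec.map (CommRingCat.ofHom (algebraMap Sq.R Sq.K)) ≫ sA) ⟶ Over.mk sA :=
    Over.homMk (Spec.map (CommRingCat.ofHom (algebraMap Sq.R Sq.K))) rfl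
  let rk : Over.mk (Spec.map (CommRingCat.ofHom (IsLocalRing.residue Sq.R)) ≫ sA) ⟶ Over.mk sA :=
    Over.homMk (Spec.map (CommRingCat.ofHom (IsLocalRing.residue Sq.R))) rfl
  have hK0 : Sq.i₁ ≫ Y.hom = Spec.map (CommRingCat.ofHom (algebraMap Sq.R Sq.K)) ≫ sA := by
    rw [← Over.w g, ← Category.assoc, Sq.commSq.w, Category.assoc]
  let pK : Over.mk (Spec.map (CommRingCat.ofHom (algebraMap Sq.R Sq.K)) ≫ sA) ⟶ Y := Over.homMk Sq.i₁ hK0
  have hK : pK ≫ g = rK ≫ tA := by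
    apply Over.OverMorphism.ext
    exact Sq.commSq.w
  have hk0 : l₀ ≫ Y.hom = Spec.map (CommRingCat.ofHom (IsLocalRing.residue Sq.R)) ≫ sA := by
    rw [← Over.w g, ← Category.assoc, hl₀, Category.assoc]
  let pk : Over.mk (Spec.map (CommRingCat.ofHom (IsLocalRing.residue Sq.R)) ≫ sA) ⟶ Y := Over.homMk l₀ hk0
  have hk : pk ≫ g = rk ≫ tA := by
    apply Over.OverMorphism.ext
    exact hl₀
  obtain ⟨yK, ⟨iK⟩⟩ := lift_of_section f y F e (rK ≫ tA) ((AlgSp.yon S).map pK ≫ φ.hom) (by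
    rw [Category.assoc, hφ, ← CategoryTheory.Functor.map_comp, hK])
  obtain ⟨yk, ⟨ik⟩⟩ := lift_of_section f y F e (rk ≫ tA) ((AlgSp.yon S).map pk ≫ φ.hom) (by
    rw [Category.assoc, hφ, ← CategoryTheory.Functor.map_comp, hk])
  have hyK : ∃ yK : FibCat.overCat (Over.mk (Spec.map (CommRingCat.ofHom (algebraMap Sq.R Sq.K)) ≫ sA)) ⥤ᵇ 𝒴,
      Nonempty (BasedFunctor.comp yK f ≅
        BasedFunctor.comp (AlgSt.overMap rK) (BasedFunctor.comp (AlgSt.overMap tA) y)) :=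
    ⟨yK, ⟨iK ≪≫ whiskerRightIso (overMapCompIso rK tA).symm y⟩⟩
  have hyk : ∃ yk : FibCat.overCat (Over.mk (Spec.map (CommRingCat.ofHom (IsLocalRing.residue Sq.R)) ≫ sA)) ⥤ᵇ 𝒴,
      Nonempty (BasedFunctor.comp yk f ≅
        BasedFunctor.comp (AlgSt.overMap rk) (BasedFunctor.comp (AlgSt.overMap tA) y)) :=
    ⟨yk, ⟨ik ≪≫ whiskerRightIso (overMapCompIso rk tA).symm y⟩⟩
  have hb' := hb Sq.R Sq.K sA (BasedFunctor.comp (AlgSt.overMap tA) y)
  have hb'' := hb' hyK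
  obtain ⟨y', ⟨α⟩⟩ := hb'' hyk
  obtain ⟨σ, hσ⟩ := section_of_lift f y F e he tA y' α
  obtain ⟨l, hl⟩ := (AlgSp.yon S).map_surjective (σ ≫ φ.inv)
  have hlg : l ≫ g = tA := by
    apply (AlgSp.yon S).map_injective
    rw [CategoryTheory.Functor.map_comp, hl, Category.assoc, ← hφ, Iso.inv_hom_id_assoc, hσ]
  have h2 : l.left ≫ g.left = Sq.i₂ := congrArg CommaMorphism.left hlg
  refine ⟨⟨{ l := l.left, fac_left := ?_, fac_right := h2 }⟩⟩
  rw [← cancel_mono g.left, Category.assoc, h2, Sq.commSq.w]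

end Dvr

theorem lfp_le_lft : @LocallyOfFinitePresentation.{u} ≤ @LocallyOfFiniteType := fun _ _ f hf => by
  have := hf
  exact (inferInstance : LocallyOfFiniteType f)

theorem isQuasiCompactMor_iso_comp {Z₁ Z₂ G : AlgSp.Sp S} (j : Z₁ ≅ Z₂) (c : Z₂ ⟶ G)
    (h : AlgSp.IsQuasiCompactMor c) : AlgSp.IsQuasiCompactMor (j.hom ≫ c) := by
  intro Z Z' hZ hZq k fst' snd' sq'
  exact h hZ hZq k (fst' ≫ j.hom) snd'
    (IsPullback.of_iso sq' (Iso.refl _) j (Iso.refl _) (Iso.refl _) (by simp) (by simp) (by simp) (by simp))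

section Main

variable {𝒳 𝒴 : AlgSt.Cat S} (h𝒳 : AlgSt.IsAlgStack Scheme.fppfPrecoverage 𝒳)
  (h𝒴 : AlgSt.IsAlgStack Scheme.fppfPrecoverage 𝒴) (f : 𝒴 ⥤ᵇ 𝒳)
include h𝒳 h𝒴

/-- S15356 -/
theorem main (hnoeth : AlgSt.SmoothLocally (fun X => IsLocallyNoetherian X) 𝒳) (hrep : AlgSt.RepByAlgSp1 f)
    (hlfp : AlgSt.RepByAlgSpWith (AlgSp.LocP @LocallyOfFinitePresentation) f)
    (ha : AlgSt.IsMono f) (hb : HB f) (hc : HC f) :
    AlgSt.RepByAlgSpWith (AlgSp.RepWith (@IsImmersion ⊓ @QuasiCompact)) f := by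
  obtain ⟨V, y, hy, hys⟩ := h𝒳.atlas
  have hV : IsLocallyNoetherian V.left := hnoeth V y hy
  have hVf : IsFibGrpd (overCat V).p := Groth.Agent.FibOver.isFibGrpd_overCat V
  have hPb : ∀ ⦃X₁ Y₁ X₂ Y₂ : AlgSp.Sp S⦄, AlgSp.IsAlgSpace X₁ → AlgSp.IsAlgSpace Y₁ → AlgSp.IsAlgSpace X₂ →
      AlgSp.IsAlgSpace Y₂ → ∀ (a : X₁ ⟶ Y₁) (b : Y₂ ⟶ Y₁) (a' : X₂ ⟶ Y₂) (b' : X₂ ⟶ X₁),
      IsPullback b' a' a b → AlgSp.RepWith (@IsImmersion ⊓ @QuasiCompact) a →
        AlgSp.RepWith (@IsImmersion ⊓ @QuasiCompact) a' :=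
    fun _ _ _ _ _ _ _ _ a b a' b' sq ha =>
      (AlgSp.repWith_isStableUnderBaseChange (S := S) (@IsImmersion ⊓ @QuasiCompact)).of_isPullback sq ha
  have hy₁ : AlgSt.RepByAlgSpWith (AlgSp.LocP @Flat) y :=
    Groth.Agent.Lib.helper4.AlgStCancel.repByAlgSpWith_mono y
      (fun F T π hπ => locP_mono smooth_le_flat hπ) hy
  have hy₂ : AlgSt.RepByAlgSpWith (AlgSp.LocP @LocallyOfFinitePresentation) y :=
    Groth.Agent.Lib.helper4.AlgStCancel.repByAlgSpWith_mono y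
      (fun F T π hπ => locP_mono smooth_le_lfp hπ) hy
  refine descent h𝒴.isStack.1 h𝒳.isStack.1 hVf _ hPb
    (isLocalOnBase_fppf_of_fpqc (Groth.Agent.S10538.result S)) f hrep y hy₁ hy₂ hys ?_
  obtain ⟨F, e, he, hl⟩ := hlfp V y
  have hΦ : AlgSt.IsMono (fpFst y f) := Groth.Agent.Lib.helper4.AlgStDiagBC.repByAlgSpWith_fpFst _ f y ha
  have hp : Mono (AlgSt.spMapOfOver (BasedFunctor.comp e (fpFst y f))) :=
    spMapOfOver_of_repByAlgSpWith (MorphismProperty.monomorphisms (AlgSp.Sp S)) (isoInv_of_respectsIso _)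
      (fpFst y f) hΦ F e he
  have hq : AlgSp.IsQuasiCompactMor (AlgSt.spMapOfOver (BasedFunctor.comp e (fpFst y f))) :=
    isQuasiCompactMor_of_mono F.property V _ (hLift_of_hc f hc y F e he)
  obtain ⟨hrepπ, -, -⟩ := (Groth.Agent.S10613.result (X := F)
    (Y := ⟨(AlgSp.yon S).obj V, AlgSp.IsAlgSpace.yon_obj V⟩)
    (ObjectProperty.homMk (AlgSt.spMapOfOver (BasedFunctor.comp e (fpFst y f))))).2.2.2
    ⟨locP_mono lfp_le_lft hl, hp⟩
  obtain ⟨Y, g, fst, sq⟩ := hrepπ (𝟙 ((AlgSp.yon S).obj V))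
  haveI : IsIso fst := sq.isIso_fst_of_isIso
  let φ : (AlgSp.yon S).obj Y ≅ F.obj := asIso fst
  have hφ : φ.hom ≫ AlgSt.spMapOfOver (BasedFunctor.comp e (fpFst y f)) = (AlgSp.yon S).map g := by
    have := sq.w
    rw [Category.comp_id] at this
    exact this
  have hmono_g : Mono ((AlgSp.yon S).map g) := by
    rw [← hφ]
    infer_instance
  haveI : Mono g := (AlgSp.yon S).mono_of_mono_map hmono_g
  haveI : Mono g.left := inferInstance
  haveI hlfp_g : LocallyOfFinitePresentation g.left := AlgSp.locP_yon_map (by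
    rw [← hφ]
    exact locP_iso_comp φ _ hl)
  haveI hqc_g : QuasiCompact g.left :=
    Groth.Agent.Lib.helper4.SchNoethMono.quasiCompact_of_isQuasiCompactMor_yon_map g (by
      rw [← hφ]
      exact isQuasiCompactMor_iso_comp φ _ hq)
  have himm : IsImmersion g.left :=
    Groth.Agent.Lib.Helper4.SchNoethImm.isImmersion_of_dvr g.left (dvrLifting_of_hb f y F e hb he g φ hφ)
  have hPg : AlgSp.RepWith (@IsImmersion ⊓ @QuasiCompact) ((AlgSp.yon S).map g) :=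
    (AlgSp.repWith_yon_map_iff (@IsImmersion ⊓ @QuasiCompact) g).2 ⟨himm, hqc_g⟩
  have hPπ : AlgSp.RepWith (@IsImmersion ⊓ @QuasiCompact)
      (AlgSt.spMapOfOver (BasedFunctor.comp e (fpFst y f))) := by
    have h0 : AlgSt.spMapOfOver (BasedFunctor.comp e (fpFst y f)) = φ.inv ≫ (AlgSp.yon S).map g := by
      rw [← hφ, Iso.inv_hom_id_assoc]
    rw [h0]
    exact (MorphismProperty.cancel_left_of_respectsIso _ φ.inv _).2 hPg
  exact repByAlgSpWith_of_spMapOfOver _ hPb (fpFst y f) F e he hPπ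

end Main

end Groth.Agent.Lib.helper4.AlgStNoethImm2
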