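import Groth.Agent.Lib.Helper4.AlgStLocQ9
import Groth.Agent.Lib.Helper4.AlgStPts6
set_option autoImplicit false
set_option backward.isDefEq.respectTransparency false
set_option backward.isDefEq.respectTransparency.types false
set_option linter.unusedSectionVars false
set_option linter.style.haveILetI false
set_option linter.unusedVariables false
open CategoryTheory CategoryTheory.Functor CategoryTheory.Limits Opposite AlgebraicGeometry
universe u

/-! Open immersions of algebraic stacks are flat and open on points; finite subcovers of quasi-compact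
open substacks. -/

namespace Groth.Agent.Lib.helper4.AlgStOpenSub
open Groth.Agent.FibEquiv Groth.Agent.FibYoneda FibCat Groth.Agent.Lib.helper4.FibPaste
open Groth.Agent.Lib.helper4.AlgStEquiv Groth.Agent.Lib.helper4.AlgStRep
open Groth.Agent.Lib.helper4.AlgStSetoid Groth.Agent.FibFpProj Groth.Agent.Lib.helper4.FibRep
open Groth.Agent.Lib.helper4.AlgStFpAlg Groth.Agent.Lib.helper4.AlgStDM Groth.Agent.Lib.helper4.AlgStSelf
open Groth.Agent.Lib.helper4.AlgStPts Groth.Agent.Lib.helper4.FibSwap Groth.Agent.Lib.helper4.AlgStSmLoc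
open Groth.Agent.Lib.helper4.AlgStQC Groth.Agent.Lib.helper4.PshDict Groth.Agent.Lib.helper4.PshRep
open Groth.Agent.Lib.helper4.PshPB Groth.Agent.Lib.helper4.AlgStQCMor Groth.Agent.Lib.helper4.PointsBasic
open Groth.Agent.Lib.helper4.AlgStDescent Groth.Agent.Lib.helper4.AlgStCoreA
open Groth.Agent.Lib.helper4.AlgStSource Groth.Agent.Lib.helper4.AlgStGraph
open Groth.Agent.Lib.helper4.SmLocalST Groth.Agent.Lib.helper5.LocPBC
open Groth.Agent.Lib.helper4.AlgStLocQ
open Stk AlgSt

variable {S : Scheme.{u}}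

section Imm

variable {𝒳 𝒴 : AlgSt.Cat S} (h𝒳 : AlgSt.IsAlgStack Scheme.fppfPrecoverage 𝒳)
  (h𝒴 : AlgSt.IsAlgStack Scheme.fppfPrecoverage 𝒴) (f : 𝒳 ⥤ᵇ 𝒴)
include h𝒳 h𝒴

/-- open immersions of algebraic stacks are flat -/
theorem locQ_flat_of_isOpenImm (h : AlgSt.IsOpenImm f) : AlgSt.LocQ (AlgSp.LocP @Flat) f := by
  apply locQ_locP_of_repByAlgSpWith h𝒳 h𝒴 f Groth.Agent.Lib.helper5.LocPBC.locPData_flat
  refine Groth.Agent.Lib.helper4.AlgStCancel.repByAlgSpWith_mono f ?_ h
  intro F G c hc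
  refine locP_of_repWith (Q := @IsOpenImmersion) ?_ c hc
  intro X Y Z e g he hg
  have : Etale e := he
  have : IsOpenImmersion g := hg
  exact inferInstanceAs (Flat (e ≫ g))

/-- open immersions of algebraic stacks are open on points -/
theorem isOpenMor_of_isOpenImm (h : AlgSt.IsOpenImm f) : AlgSt.IsOpenMor f :=
  isOpenMor_of_flat_lfp h𝒳 h𝒴 f (locQ_flat_of_isOpenImm h𝒳 h𝒴 f h) (locQ_lfp_of_isOpenImm h𝒳 h𝒴 f h)

/-- the image of an open immersion on points is open -/
theorem isOpen_range_of_isOpenImm (h : AlgSt.IsOpenImm f) : IsOpen (Set.range (AlgSt.Points.map f)) :=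
  (isOpenMor_of_isOpenImm h𝒳 h𝒴 f h).isOpen_range

end Imm

end Groth.Agent.Lib.helper4.AlgStOpenSub
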