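import Groth.Agent.Lib.Helper4.AlgStOpenSub9
set_option autoImplicit false
set_option backward.isDefEq.respectTransparency false
set_option backward.isDefEq.respectTransparency.types false
set_option linter.unusedSectionVars false
set_option linter.style.haveILetI false
set_option linter.unusedVariables false
open CategoryTheory CategoryTheory.Functor CategoryTheory.Limits Opposite AlgebraicGeometry
universe u

/-! The largest open substack on which a morphism of algebraic stacks is smooth, read on an arbitrary good chart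
square (helper4). -/

namespace Groth.Agent.Lib.helper4.AlgStOpenSub
open Groth.Agent.FibEquiv Groth.Agent.FibYoneda FibCat Groth.Agent.Lib.helper4.FibPaste
open Groth.Agent.Lib.helper4.AlgStEquiv Groth.Agent.Lib.helper4.AlgStRep
open Groth.Agent.Lib.helper4.AlgStSetoid Groth.Agent.FibFpProj Groth.Agent.Lib.helper4.FibRep
open Groth.Agent.Lib.helper4.AlgStFpAlg Groth.Agent.Lib.helper4.AlgStDM Groth.Agent.Lib.helper4.AlgStSelf
open Groth.Agent.Lib.helper4.AlgStPts Groth.Agent.Lib.helper4.FibSwap Groth.Agent.Lib.helper4.AlgStSmLoc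
open Groth.Agent.Lib.helper4.AlgStQC Groth.Agent.Lib.helper4.PshDict Groth.Agent.Lib.helper4.PshRep
open Groth.Agent.Lib.helper4.PshPB Groth.Agent.Lib.helper4.AlgStQCMor Groth.Agent.Lib.helper4.PointsBasic
open Groth.Agent.Lib.helper4.AlgStDescent Groth.Agent.Lib.helper4.AlgStCoreA
open Groth.Agent.Lib.helper4.AlgStSource Groth.Agent.Lib.helper4.AlgStGraph
open Groth.Agent.Lib.helper4.SmLocalST Groth.Agent.Lib.helper5.LocPBC
open Groth.Agent.Lib.helper4.AlgStLocQ Groth.Agent.Lib.helper4.StkSub Groth.Agent.Lib.helper4.FibLiftIso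
open Stk AlgSt

variable {S : Scheme.{u}}

section Square
variable {𝒳 𝒴 : AlgSt.Cat S} (h𝒳 : AlgSt.IsAlgStack Scheme.fppfPrecoverage 𝒳)
  (h𝒴 : AlgSt.IsAlgStack Scheme.fppfPrecoverage 𝒴) (f : 𝒳 ⥤ᵇ 𝒴)
  {U V : Over S} (x : overCat U ⥤ᵇ 𝒳) (y : overCat V ⥤ᵇ 𝒴) (h : U ⟶ V)
  (α : BasedFunctor.comp x f ≅ BasedFunctor.comp (AlgSt.overMap h) y)
  (hx : AlgSt.RepByAlgSpWith (AlgSp.LocP @Smooth) x)
  (hy : AlgSt.RepByAlgSpWith (AlgSp.LocP @Smooth) y)
  (hl : AlgSt.RepByAlgSpWith (AlgSp.LocP @Smooth) (fpLift x (AlgSt.overMap h) α))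
include h𝒳 h𝒴 hx hy hl

/-- on a good chart square, the image of an open of the source chart on which the chart morphism is smooth is an
open substack on which `f` is smooth -/
theorem locQ_smooth_of_square_open (W : U.left.Opens) (hW : Smooth (W.ι ≫ h.left)) :
    IsOpen (Set.range (Points.ofChart (BasedFunctor.comp (AlgSt.overMap (opensIncl U W)) x))) ∧
    AlgSt.LocQ (AlgSp.LocP @Smooth) (BasedFunctor.comp (AlgSt.subIncl 𝒳
      (QT (Set.range (Points.ofChart (BasedFunctor.comp (AlgSt.overMap (opensIncl U W)) x))))) f) := by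
  have hX := h𝒳.isStack.1
  have hY := h𝒴.isStack.1
  let w : overCat (opensOver U W) ⥤ᵇ 𝒳 := BasedFunctor.comp (AlgSt.overMap (opensIncl U W)) x
  have hw : AlgSt.RepByAlgSpWith (AlgSp.LocP @Smooth) w :=
    smooth_overMap_comp hX (opensIncl U W) (etale_opensIncl U W) x hx
  let T : Set (AlgSt.Points 𝒳) := Set.range (Points.ofChart w)
  have hT : IsOpen T := (isOpenMap_ofChart_smooth hX w hw).isOpen_range
  have hQT := isOpenSubstack_QT h𝒳 T hT
  refine ⟨hT, ?_⟩
  have hval : ∀ a, QT T (w.obj a) := fun a =>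
    (QT_iff_chart hX T w a).2 (fun v => ⟨a.hom.left v, rfl⟩)
  obtain ⟨x'', α'', hx''eq, hx'', hl''⟩ :=
    restrict_square hX hY f x y h α hx hl (QT T) (opensIncl U W) (etale_opensIncl U W) hval
  have hUWf : IsFibGrpd (overCat (opensOver U W)).p := Groth.Agent.FibOver.isFibGrpd_overCat _
  have hSub : IsFibGrpd (AlgSt.fullSub 𝒳 (QT T)).p := hQT.2.1.isStack.1
  have hsurj : AlgSt.IsSurjective x'' := by
    intro z
    obtain ⟨q, rfl⟩ := Points.mk_surjective z
    have hq : Points.mk (q.map (AlgSt.subIncl 𝒳 (QT T))) ∈ T := q.obj.property _ ⟨𝟙 _⟩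
    obtain ⟨v, hv⟩ := hq
    refine ⟨Points.ofChart (BasedFunctor.id _) v, ?_⟩
    apply map_subIncl_injective hX (QT T) (fun _ _ φ h => QT_of_hom φ h)
    rw [← map_comp]
    have : BasedFunctor.comp x'' (AlgSt.subIncl 𝒳 (QT T)) = w := hx''eq
    rw [this]
    exact hv
  refine ⟨opensOver U W, V, x'', y, opensIncl U W ≫ h, α'', hx'',
    repByAlgSpWith_of_isSurjective hUWf hSub x'' (repByAlgSp1_of_repByAlgSpWith hx'') hsurj, hy, ?_⟩
  refine locP_yon_map_of locPData_smooth (opensIncl U W ≫ h) ?_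
  rw [Over.comp_left]
  exact hW

/-- on a good chart square, the chart morphism is smooth on every open of the source chart mapping into an open
substack on which `f` is smooth -/
theorem smooth_of_locQ_square (Q' : 𝒳.obj → Prop) (hQ' : AlgSt.IsOpenSubstack 𝒳 Q' Scheme.fppfPrecoverage)
    (hLoc : AlgSt.LocQ (AlgSp.LocP @Smooth) (BasedFunctor.comp (AlgSt.subIncl 𝒳 Q') f))
    (O : U.left.Opens)
    (hO : ∀ u ∈ O, Points.ofChart x u ∈ Set.range (AlgSt.Points.map (AlgSt.subIncl 𝒳 Q'))) :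
    Smooth (O.ι ≫ h.left) := by
  have hX := h𝒳.isStack.1
  have hY := h𝒴.isStack.1
  have hvalO : ∀ a, Q' ((BasedFunctor.comp (AlgSt.overMap (opensIncl U O)) x).obj a) := fun a => by
    rw [iff_QT_range h𝒳 Q' hQ', QT_iff_chart hX _ (BasedFunctor.comp (AlgSt.overMap (opensIncl U O)) x) a]
    intro v
    rw [ofChart_overMap]
    have : O.ι (a.hom.left v) ∈ O := by
      have := Set.mem_range_self (f := O.ι) (a.hom.left v)
      rwa [Scheme.Opens.range_ι] at this
    exact hO _ this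
  obtain ⟨xO, αO, -, hxO, hlO⟩ :=
    restrict_square hX hY f x y h α hx hl Q' (opensIncl U O) (etale_opensIncl U O) hvalO
  have hsm : AlgSp.LocP @Smooth ((AlgSp.yon S).map (opensIncl U O ≫ h)) :=
    (locQ_iff_forall hQ'.2.1 h𝒴 (BasedFunctor.comp (AlgSt.subIncl 𝒳 Q') f) _ isSmoothLocalST_smooth).1 hLoc
      (opensOver U O) V xO y (opensIncl U O ≫ h) αO hxO hy hlO
  have := AlgSp.locP_yon_map hsm
  rwa [Over.comp_left] at this

/-- **the largest open substack on which `f` is smooth, on a good chart square**: a point of the source chart maps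
into it iff the chart morphism is smooth at that point -/
theorem mem_largest_iff (Q : 𝒳.obj → Prop) (hQ₁ : AlgSt.IsOpenSubstack 𝒳 Q Scheme.fppfPrecoverage)
    (hQ₂ : AlgSt.LocQ (AlgSp.LocP @Smooth) (BasedFunctor.comp (AlgSt.subIncl 𝒳 Q) f))
    (hQ₃ : ∀ Q' : 𝒳.obj → Prop, AlgSt.IsOpenSubstack 𝒳 Q' Scheme.fppfPrecoverage →
      AlgSt.LocQ (AlgSp.LocP @Smooth) (BasedFunctor.comp (AlgSt.subIncl 𝒳 Q') f) → ∀ a, Q' a → Q a)
    (W : U.left.Opens) (hW : Smooth (W.ι ≫ h.left)) (hWmax : ∀ O : U.left.Opens, Smooth (O.ι ≫ h.left) → O ≤ W)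
    (u : U.left) :
    Points.ofChart x u ∈ Set.range (AlgSt.Points.map (AlgSt.subIncl 𝒳 Q)) ↔ u ∈ W := by
  have hX := h𝒳.isStack.1
  constructor
  · intro hu
    have hT' : IsOpen (Set.range (AlgSt.Points.map (AlgSt.subIncl 𝒳 Q))) :=
      isOpen_range_of_isOpenImm hQ₁.2.1 h𝒳 _ hQ₁.2.2
    have hcont : Continuous (Points.ofChart x) := continuous_ofChart hX h𝒳.atlas x
    let O : U.left.Opens :=
      ⟨Points.ofChart x ⁻¹' Set.range (AlgSt.Points.map (AlgSt.subIncl 𝒳 Q)), hT'.preimage hcont⟩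
    have hsm := smooth_of_locQ_square h𝒳 h𝒴 f x y h α hx hy hl Q hQ₁ hQ₂ O (fun u hu => hu)
    exact hWmax O hsm hu
  · intro hu
    obtain ⟨hT, hLoc⟩ := locQ_smooth_of_square_open h𝒳 h𝒴 f x y h α hx hy hl W hW
    have hQT := isOpenSubstack_QT h𝒳 _ hT
    have hle := (le_iff_range_subset h𝒳 _ Q hQT hQ₁).1 (hQ₃ _ hQT hLoc)
    rw [range_subIncl_QT] at hle
    apply hle
    have : u ∈ Set.range W.ι := by rw [Scheme.Opens.range_ι]; exact hu
    obtain ⟨w₀, rfl⟩ := this
    exact ⟨w₀, ofChart_overMap (opensIncl U W) x w₀⟩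

end Square

end Groth.Agent.Lib.helper4.AlgStOpenSub
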