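import Groth.Agent.Lib.Helper4.AlgStOpenSub10
import Groth.Agent.Lib.Helper5.FppfSrcSmooth2
set_option autoImplicit false
set_option backward.isDefEq.respectTransparency false
set_option backward.isDefEq.respectTransparency.types false
set_option linter.unusedSectionVars false
set_option linter.style.haveILetI false
set_option linter.unusedVariables false
open CategoryTheory CategoryTheory.Functor CategoryTheory.Limits Opposite AlgebraicGeometry
universe u

/-! Inverse images of open substacks; the largest open substack on which a morphism is smooth is compatible with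
smooth precomposition (helper4). -/

namespace Groth.Agent.Lib.helper4.AlgStOpenSub
open Groth.Agent.FibEquiv Groth.Agent.FibYoneda FibCat Groth.Agent.Lib.helper4.FibPaste
open Groth.Agent.Lib.helper4.AlgStEquiv Groth.Agent.Lib.helper4.AlgStRep
open Groth.Agent.Lib.helper4.AlgStSetoid Groth.Agent.FibFpProj Groth.Agent.Lib.helper4.FibRep
open Groth.Agent.Lib.helper4.AlgStFpAlg Groth.Agent.Lib.helper4.AlgStDM Groth.Agent.Lib.helper4.AlgStSelf
open Groth.Agent.Lib.helper4.AlgStPts Groth.Agent.Lib.helper4.FibSwap Groth.Agent.Lib.helper4.AlgStSmLoc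
open Groth.Agent.Lib.helper4.AlgStQC Groth.Agent.Lib.helper4.PshDict Groth.Agent.Lib.helper4.PshRep
open Groth.Agent.Lib.helper4.PshPB Groth.Agent.Lib.helper4.AlgStQCMor Groth.Agent.Lib.helper4.PointsBasic
open Groth.Agent.Lib.helper4.AlgStDescent Groth.Agent.Lib.helper4.AlgStCoreA
open Groth.Agent.Lib.helper4.AlgStSource Groth.Agent.Lib.helper4.AlgStGraph
open Groth.Agent.Lib.helper4.SmLocalST Groth.Agent.Lib.helper5.LocPBC
open Groth.Agent.Lib.helper4.AlgStLocQ Groth.Agent.Lib.helper4.StkSub Groth.Agent.Lib.helper4.FibLiftIso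
open Stk AlgSt

variable {S : Scheme.{u}}

section Preimage
variable {𝒜 𝒳 : AlgSt.Cat S}

/-- the inverse image of `QT T` under a functor is `QT` of the inverse image of `T` -/
theorem QT_map_iff (h𝒜 : IsFibGrpd 𝒜.p) (h𝒳 : IsFibGrpd 𝒳.p) (g : 𝒜 ⥤ᵇ 𝒳) (T : Set (AlgSt.Points 𝒳))
    (a : 𝒜.obj) : QT T (g.obj a) ↔ QT (AlgSt.Points.map g ⁻¹' T) a := by
  constructor
  · intro hq p' ⟨m⟩
    exact hq (p'.map g) ⟨g.toFunctor.map m⟩
  · rintro hq p ⟨m⟩
    haveI := h𝒳
    have hp : 𝒳.p.obj p.obj = Over.mk p.str := p.lies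
    have hga : 𝒳.p.obj (g.obj a) = 𝒜.p.obj a := g.w_obj a
    let g₀ : Over.mk p.str ⟶ 𝒜.p.obj a := eqToHom hp.symm ≫ 𝒳.p.map m ≫ eqToHom hga
    have hm : 𝒳.p.IsHomLift g₀ m := IsHomLift.of_fac _ _ _ hp hga rfl
    obtain ⟨a', ψ, hψ⟩ := h𝒜.exists_lift (x := a) g₀
    have hψ' : 𝒳.p.IsHomLift g₀ (g.toFunctor.map ψ) := g.preserves_isHomLift g₀ ψ
    obtain ⟨ι, -⟩ := exists_iso_of_lifts 𝒳.p g₀ m (g.toFunctor.map ψ)
    let q : AlgSt.FPt 𝒜 := { K := p.K, str := p.str, obj := a', lies := IsHomLift.domain_eq 𝒜.p g₀ ψ }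
    have h1 : AlgSt.Points.map g (Points.mk q) ∈ T := hq q ⟨ψ⟩
    have h2 : Points.mk p = AlgSt.Points.map g (Points.mk q) :=
      Points.sound ⟨p, 𝟙 _, ι.hom, trivial⟩
    rw [h2]
    exact h1

variable (h𝒜 : AlgSt.IsAlgStack Scheme.fppfPrecoverage 𝒜) (h𝒳 : AlgSt.IsAlgStack Scheme.fppfPrecoverage 𝒳)
include h𝒜 h𝒳

/-- the inverse image of an open substack is the substack of the inverse image of its set of points -/
theorem preimage_eq_QT (g : 𝒜 ⥤ᵇ 𝒳) (Q : 𝒳.obj → Prop)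
    (hQ : AlgSt.IsOpenSubstack 𝒳 Q Scheme.fppfPrecoverage) :
    (fun a => Q (g.obj a)) =
      QT (AlgSt.Points.map g ⁻¹' Set.range (AlgSt.Points.map (AlgSt.subIncl 𝒳 Q))) := by
  funext a
  apply propext
  rw [iff_QT_range h𝒳 Q hQ, QT_map_iff h𝒜.isStack.1 h𝒳.isStack.1 g]

/-- the inverse image of an open substack is an open substack -/
theorem isOpenSubstack_preimage (g : 𝒜 ⥤ᵇ 𝒳) (Q : 𝒳.obj → Prop)
    (hQ : AlgSt.IsOpenSubstack 𝒳 Q Scheme.fppfPrecoverage) :
    AlgSt.IsOpenSubstack 𝒜 (fun a => Q (g.obj a)) Scheme.fppfPrecoverage := by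
  rw [preimage_eq_QT h𝒜 h𝒳 g Q hQ]
  refine isOpenSubstack_QT h𝒜 _ ?_
  have hT' : IsOpen (Set.range (AlgSt.Points.map (AlgSt.subIncl 𝒳 Q))) :=
    isOpen_range_of_isOpenImm hQ.2.1 h𝒳 _ hQ.2.2
  exact hT'.preimage (continuous_map h𝒳.isStack.1 h𝒳.atlas g)

/-- the points of the inverse image of an open substack -/
theorem range_subIncl_preimage (g : 𝒜 ⥤ᵇ 𝒳) (Q : 𝒳.obj → Prop)
    (hQ : AlgSt.IsOpenSubstack 𝒳 Q Scheme.fppfPrecoverage) :
    Set.range (AlgSt.Points.map (AlgSt.subIncl 𝒜 (fun a => Q (g.obj a)))) =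
      AlgSt.Points.map g ⁻¹' Set.range (AlgSt.Points.map (AlgSt.subIncl 𝒳 Q)) := by
  rw [preimage_eq_QT h𝒜 h𝒳 g Q hQ, range_subIncl_QT]

end Preimage

section Scheme

/-- for a smooth morphism `h`, the largest open on which `h ≫ k` is smooth is the inverse image of the largest open
on which `k` is smooth -/
theorem mem_largest_comp_smooth_iff {U V₁ V : Scheme.{u}} (h : U ⟶ V₁) (k : V₁ ⟶ V) [Smooth h]
    (W₁ : V₁.Opens) (hW₁ : Smooth (W₁.ι ≫ k)) (hW₁max : ∀ O : V₁.Opens, Smooth (O.ι ≫ k) → O ≤ W₁)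
    (W : U.Opens) (hW : Smooth (W.ι ≫ h ≫ k)) (hWmax : ∀ O : U.Opens, Smooth (O.ι ≫ h ≫ k) → O ≤ W)
    (u : U) : u ∈ W ↔ h u ∈ W₁ := by
  constructor
  · intro hu
    -- the image of `W` under the open map `h`
    let O₁ : V₁.Opens := ⟨h '' (W : Set U), h.isOpenMap _ W.isOpen⟩
    have hr : Set.range (W.ι ≫ h) ⊆ Set.range O₁.ι := by
      rw [Scheme.Opens.range_ι]
      rintro _ ⟨w, rfl⟩
      refine ⟨W.ι w, ?_, rfl⟩
      have := Set.mem_range_self (f := W.ι) w
      rwa [Scheme.Opens.range_ι] at this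
    let hO : W.toScheme ⟶ O₁.toScheme := IsOpenImmersion.lift O₁.ι (W.ι ≫ h) hr
    have hfac : hO ≫ O₁.ι = W.ι ≫ h := IsOpenImmersion.lift_fac _ _ _
    have hsm : Smooth (hO ≫ O₁.ι) := by rw [hfac]; infer_instance
    haveI hOsm : Smooth hO :=
      MorphismProperty.of_postcomp (W := @Smooth) (W' := @IsOpenImmersion) hO O₁.ι inferInstance hsm
    haveI hOsurj : Surjective hO := by
      refine ⟨fun z => ?_⟩
      have hz : O₁.ι z ∈ O₁ := by
        have := Set.mem_range_self (f := O₁.ι) z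
        rwa [Scheme.Opens.range_ι] at this
      obtain ⟨u₀, hu₀, hu₀z⟩ := hz
      have : u₀ ∈ Set.range W.ι := by rw [Scheme.Opens.range_ι]; exact hu₀
      obtain ⟨w₀, rfl⟩ := this
      refine ⟨w₀, ?_⟩
      apply O₁.ι.isOpenEmbedding.injective
      rw [← hu₀z, ← Scheme.Hom.comp_apply, hfac, Scheme.Hom.comp_apply]
    haveI : Smooth (hO ≫ O₁.ι ≫ k) := by
      rw [← Category.assoc, hfac, Category.assoc]
      exact hW
    have hk : Smooth (O₁.ι ≫ k) := Groth.Agent.Lib.helper5.FppfSrcSmooth.smooth_of_comp hO (O₁.ι ≫ k)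
    exact hW₁max O₁ hk ⟨u, hu, rfl⟩
  · intro hu
    let O : U.Opens := h ⁻¹ᵁ W₁
    have hr : Set.range (O.ι ≫ h) ⊆ Set.range W₁.ι := by
      rw [Scheme.Opens.range_ι]
      rintro _ ⟨w, rfl⟩
      have : O.ι w ∈ O := by
        have := Set.mem_range_self (f := O.ι) w
        rwa [Scheme.Opens.range_ι] at this
      exact this
    let hO : O.toScheme ⟶ W₁.toScheme := IsOpenImmersion.lift W₁.ι (O.ι ≫ h) hr
    have hfac : hO ≫ W₁.ι = O.ι ≫ h := IsOpenImmersion.lift_fac _ _ _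
    have hsm : Smooth (hO ≫ W₁.ι) := by rw [hfac]; infer_instance
    haveI hOsm : Smooth hO :=
      MorphismProperty.of_postcomp (W := @Smooth) (W' := @IsOpenImmersion) hO W₁.ι inferInstance hsm
    have : Smooth (O.ι ≫ h ≫ k) := by
      rw [← Category.assoc, ← hfac, Category.assoc]
      infer_instance
    exact hWmax O this hu

end Scheme

end Groth.Agent.Lib.helper4.AlgStOpenSub
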