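import Groth.Agent.Lib.Helper4.AlgStOpenSub11
set_option autoImplicit false
set_option backward.isDefEq.respectTransparency false
set_option backward.isDefEq.respectTransparency.types false
set_option linter.unusedSectionVars false
set_option linter.style.haveILetI false
set_option linter.unusedVariables false
open CategoryTheory CategoryTheory.Functor CategoryTheory.Limits Opposite AlgebraicGeometry
universe u

/-! The largest open substack on which a morphism is smooth is compatible with smooth precomposition (helper4). -/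

namespace Groth.Agent.Lib.helper4.AlgStOpenSub
open Groth.Agent.FibEquiv Groth.Agent.FibYoneda FibCat Groth.Agent.Lib.helper4.FibPaste
open Groth.Agent.Lib.helper4.AlgStEquiv Groth.Agent.Lib.helper4.AlgStRep
open Groth.Agent.Lib.helper4.AlgStSetoid Groth.Agent.FibFpProj Groth.Agent.Lib.helper4.FibRep
open Groth.Agent.Lib.helper4.AlgStFpAlg Groth.Agent.Lib.helper4.AlgStDM Groth.Agent.Lib.helper4.AlgStSelf
open Groth.Agent.Lib.helper4.AlgStPts Groth.Agent.Lib.helper4.FibSwap Groth.Agent.Lib.helper4.AlgStSmLoc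
open Groth.Agent.Lib.helper4.AlgStQC Groth.Agent.Lib.helper4.PshDict Groth.Agent.Lib.helper4.PshRep
open Groth.Agent.Lib.helper4.PshPB Groth.Agent.Lib.helper4.AlgStQCMor Groth.Agent.Lib.helper4.PointsBasic
open Groth.Agent.Lib.helper4.AlgStDescent Groth.Agent.Lib.helper4.AlgStCoreA
open Groth.Agent.Lib.helper4.AlgStSource Groth.Agent.Lib.helper4.AlgStGraph
open Groth.Agent.Lib.helper4.SmLocalST Groth.Agent.Lib.helper5.LocPBC
open Groth.Agent.Lib.helper4.AlgStLocQ Groth.Agent.Lib.helper4.StkSub Groth.Agent.Lib.helper4.FibLiftIso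
open Stk AlgSt

variable {S : Scheme.{u}}

section Precomp
variable {𝒳' 𝒳 𝒴 : AlgSt.Cat S} (h𝒳' : AlgSt.IsAlgStack Scheme.fppfPrecoverage 𝒳')
  (h𝒳 : AlgSt.IsAlgStack Scheme.fppfPrecoverage 𝒳) (h𝒴 : AlgSt.IsAlgStack Scheme.fppfPrecoverage 𝒴)
  (g : 𝒳' ⥤ᵇ 𝒳) (hg : AlgSt.LocQ (AlgSp.LocP @Smooth) g) (f : 𝒳 ⥤ᵇ 𝒴)
  (Q : 𝒳.obj → Prop) (hQ₁ : AlgSt.IsOpenSubstack 𝒳 Q Scheme.fppfPrecoverage)
  (hQ₂ : AlgSt.LocQ (AlgSp.LocP @Smooth) (BasedFunctor.comp (AlgSt.subIncl 𝒳 Q) f))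
  (hQ₃ : ∀ Q' : 𝒳.obj → Prop, AlgSt.IsOpenSubstack 𝒳 Q' Scheme.fppfPrecoverage →
    AlgSt.LocQ (AlgSp.LocP @Smooth) (BasedFunctor.comp (AlgSt.subIncl 𝒳 Q') f) → ∀ a, Q' a → Q a)
  (Qm : 𝒳'.obj → Prop) (hm₁ : AlgSt.IsOpenSubstack 𝒳' Qm Scheme.fppfPrecoverage)
  (hm₂ : AlgSt.LocQ (AlgSp.LocP @Smooth) (BasedFunctor.comp (AlgSt.subIncl 𝒳' Qm) (BasedFunctor.comp g f)))
  (hm₃ : ∀ Q' : 𝒳'.obj → Prop, AlgSt.IsOpenSubstack 𝒳' Q' Scheme.fppfPrecoverage →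
    AlgSt.LocQ (AlgSp.LocP @Smooth) (BasedFunctor.comp (AlgSt.subIncl 𝒳' Q') (BasedFunctor.comp g f)) →
      ∀ a, Q' a → Qm a)
include h𝒳' h𝒳 h𝒴 hg hQ₁ hQ₂ hQ₃ hm₁ hm₂ hm₃

/-- the largest open substack on which `g ≫ f` is smooth, for smooth `g`, is the inverse image of the largest open
substack on which `f` is smooth -/
theorem largest_comp_smooth_eq : (fun a => Q (g.obj a)) = Qm := by
  have hX' := h𝒳'.isStack.1
  have hX := h𝒳.isStack.1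
  have hpre := isOpenSubstack_preimage h𝒳' h𝒳 g Q hQ₁
  have hrange : Set.range (AlgSt.Points.map (AlgSt.subIncl 𝒳' (fun a => Q (g.obj a)))) =
      Set.range (AlgSt.Points.map (AlgSt.subIncl 𝒳' Qm)) := by
    rw [range_subIncl_preimage h𝒳' h𝒳 g Q hQ₁]
    obtain ⟨W0, z, hz, hzs⟩ := h𝒴.atlas
    obtain ⟨V, y, k, β, U, x, h, α, γ, hy, hly, hys, hx, hlx, hlxs, hxs, hlγ⟩ :=
      exists_tower h𝒳' h𝒳 h𝒴 g f z hz
    have hxsurj := hxs (hys hzs)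
    haveI hsm_h : Smooth h.left := AlgSp.locP_yon_map
      ((locQ_iff_forall h𝒳' h𝒳 g _ isSmoothLocalST_smooth).1 hg U V x y h α hx hy hlx)
    obtain ⟨W₁, hW₁, hW₁max⟩ := exists_largest_open_smooth k.left
    obtain ⟨W, hW, hWmax⟩ := exists_largest_open_smooth (h ≫ k).left
    have hA := mem_largest_iff h𝒳 h𝒴 f y z k β hy hz hly Q hQ₁ hQ₂ hQ₃ W₁ hW₁ hW₁max
    have hB := mem_largest_iff h𝒳' h𝒴 (BasedFunctor.comp g f) x z (h ≫ k) γ hx hz hlγ Qm hm₁ hm₂ hm₃ W hW hWmax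
    have hC : ∀ u : U.left, u ∈ W ↔ h.left u ∈ W₁ := fun u =>
      mem_largest_comp_smooth_iff h.left k.left W₁ hW₁ hW₁max W
        (by rw [Over.comp_left] at hW; exact hW)
        (fun O hO => hWmax O (by rw [Over.comp_left]; exact hO)) u
    ext p
    obtain ⟨u, rfl⟩ := ofChart_surjective hX' x hxsurj p
    rw [hB u, hC u, ← hA (h.left u), Set.mem_preimage, map_ofChart, ofChart_congr α u, ofChart_overMap]
  funext a
  apply propext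
  rw [iff_QT_range h𝒳' _ hpre a, iff_QT_range h𝒳' Qm hm₁ a, hrange]

end Precomp

/-- **S19902** -/
theorem largest_locQ_smooth_open_comp {𝒳' 𝒳 𝒴 : AlgSt.Cat S}
    (h𝒳' : AlgSt.IsAlgStack Scheme.fppfPrecoverage 𝒳')
    (h𝒳 : AlgSt.IsAlgStack Scheme.fppfPrecoverage 𝒳) (h𝒴 : AlgSt.IsAlgStack Scheme.fppfPrecoverage 𝒴)
    (g : 𝒳' ⥤ᵇ 𝒳) (hg : AlgSt.LocQ (AlgSp.LocP @Smooth) g) (f : 𝒳 ⥤ᵇ 𝒴)
    (Q : 𝒳.obj → Prop) (hQ₁ : AlgSt.IsOpenSubstack 𝒳 Q Scheme.fppfPrecoverage)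
    (hQ₂ : AlgSt.LocQ (AlgSp.LocP @Smooth) (BasedFunctor.comp (AlgSt.subIncl 𝒳 Q) f))
    (hQ₃ : ∀ Q' : 𝒳.obj → Prop, AlgSt.IsOpenSubstack 𝒳 Q' Scheme.fppfPrecoverage →
      AlgSt.LocQ (AlgSp.LocP @Smooth) (BasedFunctor.comp (AlgSt.subIncl 𝒳 Q') f) → ∀ a, Q' a → Q a) :
    AlgSt.IsOpenSubstack 𝒳' (fun a ↦ Q (g.obj a)) Scheme.fppfPrecoverage ∧
      AlgSt.LocQ (AlgSp.LocP @Smooth)
        (BasedFunctor.comp (AlgSt.subIncl 𝒳' (fun a ↦ Q (g.obj a))) (BasedFunctor.comp g f)) ∧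
      ∀ Q' : 𝒳'.obj → Prop, AlgSt.IsOpenSubstack 𝒳' Q' Scheme.fppfPrecoverage →
        AlgSt.LocQ (AlgSp.LocP @Smooth) (BasedFunctor.comp (AlgSt.subIncl 𝒳' Q') (BasedFunctor.comp g f)) →
        ∀ a, Q' a → Q (g.obj a) := by
  obtain ⟨Qm, hm₁, hm₂, hm₃⟩ := exists_largest_isOpenSubstack_locQ_smooth h𝒳' h𝒴 (BasedFunctor.comp g f)
  have heq := largest_comp_smooth_eq h𝒳' h𝒳 h𝒴 g hg f Q hQ₁ hQ₂ hQ₃ Qm hm₁ hm₂ hm₃
  refine ⟨isOpenSubstack_preimage h𝒳' h𝒳 g Q hQ₁, ?_, ?_⟩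
  · rw [heq]
    exact hm₂
  · intro Q' h1 h2 a ha
    have := hm₃ Q' h1 h2 a ha
    rw [← heq] at this
    exact this

end Groth.Agent.Lib.helper4.AlgStOpenSub
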