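import Groth.Agent.Lib.Helper4.AlgStOpenSub1
import Groth.Agent.Lib.Helper4.StkSub
set_option autoImplicit false
set_option backward.isDefEq.respectTransparency false
set_option backward.isDefEq.respectTransparency.types false
set_option linter.unusedSectionVars false
set_option linter.style.haveILetI false
set_option linter.unusedVariables false
open CategoryTheory CategoryTheory.Functor CategoryTheory.Limits Opposite AlgebraicGeometry
universe u

/-! A stack in groupoids with a morphism, representable by algebraic spaces, to an algebraic stack is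
algebraic. -/

namespace Groth.Agent.Lib.helper4.AlgStOpenSub
open Groth.Agent.FibEquiv Groth.Agent.FibYoneda FibCat Groth.Agent.Lib.helper4.FibPaste
open Groth.Agent.Lib.helper4.AlgStEquiv Groth.Agent.Lib.helper4.AlgStRep
open Groth.Agent.Lib.helper4.AlgStSetoid Groth.Agent.FibFpProj Groth.Agent.Lib.helper4.FibRep
open Groth.Agent.Lib.helper4.AlgStFpAlg Groth.Agent.Lib.helper4.AlgStDM Groth.Agent.Lib.helper4.AlgStSelf
open Groth.Agent.Lib.helper4.AlgStPts Groth.Agent.Lib.helper4.FibSwap Groth.Agent.Lib.helper4.AlgStSmLoc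
open Groth.Agent.Lib.helper4.AlgStQC Groth.Agent.Lib.helper4.PshDict Groth.Agent.Lib.helper4.PshRep
open Groth.Agent.Lib.helper4.PshPB Groth.Agent.Lib.helper4.AlgStQCMor Groth.Agent.Lib.helper4.PointsBasic
open Groth.Agent.Lib.helper4.AlgStDescent Groth.Agent.Lib.helper4.AlgStCoreA
open Groth.Agent.Lib.helper4.AlgStSource Groth.Agent.Lib.helper4.AlgStGraph
open Groth.Agent.Lib.helper4.SmLocalST Groth.Agent.Lib.helper5.LocPBC
open Groth.Agent.Lib.helper4.AlgStLocQ
open Stk AlgSt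

variable {S : Scheme.{u}}

/-- every chart of a category with a morphism, representable by algebraic spaces, to a category with
representable diagonal is representable by algebraic spaces -/
theorem repByAlgSp1_chart_of_repByAlgSp1 {𝒳 𝒴 : AlgSt.Cat S} (hX : IsFibGrpd 𝒳.p) (hY : IsFibGrpd 𝒴.p)
    (hΔ : ∀ (U : Over S) (y : overCat U ⥤ᵇ 𝒴), AlgSt.RepByAlgSp1 y) (j : 𝒳 ⥤ᵇ 𝒴) (hj : AlgSt.RepByAlgSp1 j)
    {U : Over S} (x : overCat U ⥤ᵇ 𝒳) : AlgSt.RepByAlgSp1 x := by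
  have hU : IsFibGrpd (overCat U).p := Groth.Agent.FibOver.isFibGrpd_overCat U
  have hfp : IsFibGrpd (fp (BasedFunctor.comp x j) j).p := isFibGrpd_fp _ _ hU hX hY
  refine repByAlgSp1_of_section hX hY j x (hΔ U _) ?_
  exact Groth.Agent.S12775.result hU hfp (repByAlgSp_overCat U) (hj U (BasedFunctor.comp x j)) _

/-- a smooth surjective atlas of a category with a morphism, representable by algebraic spaces, to a category
with a smooth surjective atlas -/
theorem hasAtlas_of_repByAlgSp1 {𝒳 𝒴 : AlgSt.Cat S} (hX : IsFibGrpd 𝒳.p) (hY : IsFibGrpd 𝒴.p)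
    (hat : AlgSt.HasAtlas (AlgSp.LocP @Smooth) 𝒴) (j : 𝒳 ⥤ᵇ 𝒴) (hj : AlgSt.RepByAlgSp1 j) :
    AlgSt.HasAtlas (AlgSp.LocP @Smooth) 𝒳 := by
  obtain ⟨V, y₀, hy₀, hys₀⟩ := hat
  have hV : IsFibGrpd (overCat V).p := Groth.Agent.FibOver.isFibGrpd_overCat V
  have hfp : IsFibGrpd (fp y₀ j).p := isFibGrpd_fp _ _ hV hX hY
  obtain ⟨F, e, he⟩ := hj V y₀
  have h1 : AlgSt.RepByAlgSpWith (AlgSp.LocP @Smooth) (fpSnd y₀ j) := repByAlgSpWith_fpSnd hX hY hV _ y₀ j hy₀
  have h2 : AlgSt.RepByAlgSpWith AlgSp.IsSurjectiveMor (fpSnd y₀ j) := repByAlgSpWith_fpSnd hX hY hV _ y₀ j hys₀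
  have h1' := (repByAlgSpWith_precomp_iff _ (fpSnd y₀ j) e he).1 h1
  have h2' := (repByAlgSpWith_precomp_iff _ (fpSnd y₀ j) e he).1 h2
  obtain ⟨W, p, hp1, hp2⟩ := F.property.atlas
  obtain ⟨h3, h4⟩ := Groth.Agent.Lib.helper4.AlgStQC.chart_of_space_chart hX _ h1' h2' p hp1 hp2
  exact ⟨W, _, h3, h4⟩

/-- a stack in groupoids with a morphism, representable by algebraic spaces, to an algebraic stack is
algebraic -/
theorem isAlgStack_of_repByAlgSp1_of_isStack {𝒳 𝒴 : AlgSt.Cat S}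
    (h𝒳 : Stk.IsStack (QuotSh.J Scheme.fppfPrecoverage S) 𝒳)
    (h𝒴 : AlgSt.IsAlgStack Scheme.fppfPrecoverage 𝒴) (j : 𝒳 ⥤ᵇ 𝒴) (hj : AlgSt.RepByAlgSp1 j) :
    AlgSt.IsAlgStack Scheme.fppfPrecoverage 𝒳 := by
  have hX := h𝒳.1
  have hY := h𝒴.isStack.1
  have hΔ := (Groth.Agent.S12765.result hY).1 h𝒴.diag
  exact ⟨h𝒳, (Groth.Agent.S12765.result hX).2 (fun U x => repByAlgSp1_chart_of_repByAlgSp1 hX hY hΔ j hj x),
    hasAtlas_of_repByAlgSp1 hX hY h𝒴.atlas j hj⟩

end Groth.Agent.Lib.helper4.AlgStOpenSub
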