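import Groth.Agent.Lib.Helper4.AlgStOpenSub2
import Groth.Agent.Lib.Helper5.AlgSpOpenSub
set_option autoImplicit false
set_option backward.isDefEq.respectTransparency false
set_option backward.isDefEq.respectTransparency.types false
set_option linter.unusedSectionVars false
set_option linter.style.haveILetI false
set_option linter.unusedVariables false
open CategoryTheory CategoryTheory.Functor CategoryTheory.Limits Opposite AlgebraicGeometry
universe u

/-! The full subcategory of an algebraic stack on the objects all of whose points lie in a given set of points. -/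

namespace Groth.Agent.Lib.helper4.AlgStOpenSub
open Groth.Agent.FibEquiv Groth.Agent.FibYoneda FibCat Groth.Agent.Lib.helper4.FibPaste
open Groth.Agent.Lib.helper4.AlgStEquiv Groth.Agent.Lib.helper4.AlgStRep
open Groth.Agent.Lib.helper4.AlgStSetoid Groth.Agent.FibFpProj Groth.Agent.Lib.helper4.FibRep
open Groth.Agent.Lib.helper4.AlgStFpAlg Groth.Agent.Lib.helper4.AlgStDM Groth.Agent.Lib.helper4.AlgStSelf
open Groth.Agent.Lib.helper4.AlgStPts Groth.Agent.Lib.helper4.FibSwap Groth.Agent.Lib.helper4.AlgStSmLoc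
open Groth.Agent.Lib.helper4.AlgStQC Groth.Agent.Lib.helper4.PshDict Groth.Agent.Lib.helper4.PshRep
open Groth.Agent.Lib.helper4.PshPB Groth.Agent.Lib.helper4.AlgStQCMor Groth.Agent.Lib.helper4.PointsBasic
open Groth.Agent.Lib.helper4.AlgStDescent Groth.Agent.Lib.helper4.AlgStCoreA
open Groth.Agent.Lib.helper4.AlgStSource Groth.Agent.Lib.helper4.AlgStGraph
open Groth.Agent.Lib.helper4.SmLocalST Groth.Agent.Lib.helper5.LocPBC
open Groth.Agent.Lib.helper4.AlgStLocQ Groth.Agent.Lib.helper4.StkSub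
open Stk AlgSt

variable {S : Scheme.{u}} {𝒳 : AlgSt.Cat S}

/-- the objects all of whose field-valued points lie in `T` -/
def QT (T : Set (AlgSt.Points 𝒳)) : 𝒳.obj → Prop :=
  fun a => ∀ p : AlgSt.FPt 𝒳, Nonempty (p.obj ⟶ a) → AlgSt.Points.mk p ∈ T

theorem QT_of_hom {T : Set (AlgSt.Points 𝒳)} {a b : 𝒳.obj} (φ : b ⟶ a) (h : QT T a) : QT T b :=
  fun p ⟨m⟩ => h p ⟨m ≫ φ⟩

theorem QT_mono {T T' : Set (AlgSt.Points 𝒳)} (h : T ⊆ T') (a : 𝒳.obj) (ha : QT T a) : QT T' a :=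
  fun p hp => h (ha p hp)

theorem QT_isClosedUnderIsomorphisms (T : Set (AlgSt.Points 𝒳)) :
    ObjectProperty.IsClosedUnderIsomorphisms (QT T) :=
  ⟨fun e h => QT_of_hom e.inv h⟩

/-- a field-valued point mapping to a value of a chart is a point of the chart -/
theorem exists_mk_eq_ofChart (h𝒳 : IsFibGrpd 𝒳.p) (p : AlgSt.FPt 𝒳) {U : Over S} (y : overCat U ⥤ᵇ 𝒳)
    (a : Over U) (m : p.obj ⟶ y.obj a) :
    ∃ v : ↥a.left.left, AlgSt.Points.mk p = AlgSt.Points.ofChart y (a.hom.left v) := by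
  haveI := h𝒳
  have hp : 𝒳.p.obj p.obj = Over.mk p.str := p.lies
  have hya : 𝒳.p.obj (y.obj a) = a.left := y.w_obj a
  let g : Over.mk p.str ⟶ a.left := eqToHom hp.symm ≫ 𝒳.p.map m ≫ eqToHom hya
  have hm : 𝒳.p.IsHomLift g m := IsHomLift.of_fac _ _ _ hp hya rfl
  let b : Over U := Over.mk (g ≫ a.hom)
  let k : b ⟶ a := Over.homMk g rfl
  have hk : 𝒳.p.IsHomLift g (y.map k) := map_hom_isHomLift y k
  obtain ⟨ι, hι⟩ := exists_iso_of_lifts 𝒳.p g m (y.map k)
  let t : ↥b.left.left := IsLocalRing.closedPoint p.K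
  refine ⟨g.left t, ?_⟩
  have h1 : AlgSt.Points.ofChart y (a.hom.left (g.left t)) =
      AlgSt.Points.ofChart (BasedFunctor.comp (AlgSt.overMap b.hom) y) t :=
    (ofChart_overMap b.hom y t).symm
  rw [h1]
  let c : (Over.map b.hom).obj (resPt b.left t) ⟶ b := Over.homMk (resPt b.left t).hom rfl
  exact (Points.sound ⟨_, 𝟙 _, y.map c ≫ ι.inv, trivial⟩).symm

/-- the points of a chart under an object satisfying `QT T` lie in `T` -/
theorem ofChart_mem_of_QT {T : Set (AlgSt.Points 𝒳)} {U : Over S} (y : overCat U ⥤ᵇ 𝒳) (a : Over U)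
    (h : QT T (y.obj a)) (v : ↥a.left.left) : AlgSt.Points.ofChart y (a.hom.left v) ∈ T := by
  rw [← ofChart_overMap a.hom y v]
  let c : (Over.map a.hom).obj (resPt a.left v) ⟶ a := Over.homMk (resPt a.left v).hom rfl
  exact h _ ⟨y.map c⟩

theorem QT_iff_chart (h𝒳 : IsFibGrpd 𝒳.p) (T : Set (AlgSt.Points 𝒳)) {U : Over S} (y : overCat U ⥤ᵇ 𝒳)
    (a : Over U) : QT T (y.obj a) ↔ ∀ v : ↥a.left.left, AlgSt.Points.ofChart y (a.hom.left v) ∈ T := by
  refine ⟨ofChart_mem_of_QT y a, fun h p ⟨m⟩ => ?_⟩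
  obtain ⟨v, hv⟩ := exists_mk_eq_ofChart h𝒳 p y a m
  rw [hv]
  exact h v

/-- `QT T` is local for the fppf topology -/
theorem QT_local (h𝒳 : IsFibGrpd 𝒳.p) (T : Set (AlgSt.Points 𝒳)) {U : Over S} (R : Sieve U)
    (hR : R ∈ QuotSh.J Scheme.fppfPrecoverage S U) (x : 𝒳.obj) (hx : 𝒳.p.obj x = U)
    (h : ∀ ⦃V : Over S⦄ (f : V ⟶ U), R f → ∀ (y : 𝒳.obj) (φ : y ⟶ x), 𝒳.p.IsHomLift f φ → QT T y) :
    QT T x := by
  subst hx
  haveI hfib : 𝒳.p.IsFibered := Groth.Agent.FibFiberwise.isFibered_of_isFibGrpd 𝒳.p h𝒳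
  obtain ⟨e, -⟩ := yBased_id_iso x
  refine QT_of_hom e.inv ?_
  rw [QT_iff_chart h𝒳 T (yBased x) (Over.mk (𝟙 (𝒳.p.obj x)))]
  intro v
  obtain ⟨V, f, v', hf, hv'⟩ := Groth.Agent.Lib.helper5.OpenSub.exists_mem_of_mem_J R hR v
  have h1 : QT T ((yBased x).obj (Over.mk f)) :=
    h f hf _ (yMap x (Over.mk f)) (yMap_isStronglyCartesian x (Over.mk f)).toIsHomLift
  have h2 := ofChart_mem_of_QT (yBased x) (Over.mk f) h1 v'
  change AlgSt.Points.ofChart (yBased x) (f.left v') ∈ T at h2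
  rw [hv'] at h2
  exact h2

/-- the full subcategory on `QT T` of a stack in groupoids is a stack in groupoids -/
theorem isStack_fullSub_QT (h𝒳 : Stk.IsStack (QuotSh.J Scheme.fppfPrecoverage S) 𝒳) (T : Set (AlgSt.Points 𝒳)) :
    Stk.IsStack (QuotSh.J Scheme.fppfPrecoverage S) (AlgSt.fullSub 𝒳 (QT T)) :=
  ⟨isFibGrpd_sub (QT T) h𝒳.1 (fun _ _ φ h => QT_of_hom φ h), fun U R hR =>
    isStackFor_sub (QT T) h𝒳.1 R (h𝒳.2 R hR) (fun _ _ φ h => QT_of_hom φ h)
      (fun x hx h => QT_local h𝒳.1 T R hR x hx h)⟩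

end Groth.Agent.Lib.helper4.AlgStOpenSub
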