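import Groth.Agent.Lib.Helper4.AlgStOpenSub4
set_option autoImplicit false
set_option backward.isDefEq.respectTransparency false
set_option backward.isDefEq.respectTransparency.types false
set_option linter.unusedSectionVars false
set_option linter.style.haveILetI false
set_option linter.unusedVariables false
open CategoryTheory CategoryTheory.Functor CategoryTheory.Limits Opposite AlgebraicGeometry
universe u

/-! Open substacks of an algebraic stack are determined by their points. -/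

namespace Groth.Agent.Lib.helper4.AlgStOpenSub
open Groth.Agent.FibEquiv Groth.Agent.FibYoneda FibCat Groth.Agent.Lib.helper4.FibPaste
open Groth.Agent.Lib.helper4.AlgStEquiv Groth.Agent.Lib.helper4.AlgStRep
open Groth.Agent.Lib.helper4.AlgStSetoid Groth.Agent.FibFpProj Groth.Agent.Lib.helper4.FibRep
open Groth.Agent.Lib.helper4.AlgStFpAlg Groth.Agent.Lib.helper4.AlgStDM Groth.Agent.Lib.helper4.AlgStSelf
open Groth.Agent.Lib.helper4.AlgStPts Groth.Agent.Lib.helper4.FibSwap Groth.Agent.Lib.helper4.AlgStSmLoc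
open Groth.Agent.Lib.helper4.AlgStQC Groth.Agent.Lib.helper4.PshDict Groth.Agent.Lib.helper4.PshRep
open Groth.Agent.Lib.helper4.PshPB Groth.Agent.Lib.helper4.AlgStQCMor Groth.Agent.Lib.helper4.PointsBasic
open Groth.Agent.Lib.helper4.AlgStDescent Groth.Agent.Lib.helper4.AlgStCoreA
open Groth.Agent.Lib.helper4.AlgStSource Groth.Agent.Lib.helper4.AlgStGraph
open Groth.Agent.Lib.helper4.SmLocalST Groth.Agent.Lib.helper5.LocPBC
open Groth.Agent.Lib.helper4.AlgStLocQ Groth.Agent.Lib.helper4.StkSub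
open Stk AlgSt

variable {S : Scheme.{u}} {𝒳 : AlgSt.Cat S}

section Sub
variable (h𝒳 : IsFibGrpd 𝒳.p) (Q : 𝒳.obj → Prop) (hiso : ObjectProperty.IsClosedUnderIsomorphisms Q)
  (hsub : IsFibGrpd (AlgSt.fullSub 𝒳 Q).p)
include h𝒳 hiso hsub

/-- a strictly full subcategory fibred in groupoids is closed under sources of morphisms -/
theorem of_hom_of_isFibGrpd {a b : 𝒳.obj} (φ : b ⟶ a) (ha : Q a) : Q b := by
  haveI := h𝒳
  obtain ⟨y', ψ, hψ⟩ := hsub.exists_lift (x := (⟨a, ha⟩ : (AlgSt.fullSub 𝒳 Q).obj)) (𝒳.p.map φ)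
  have h1 : 𝒳.p.IsHomLift (𝒳.p.map φ) ((AlgSt.subIncl 𝒳 Q).toFunctor.map ψ) :=
    (AlgSt.subIncl 𝒳 Q).preserves_isHomLift _ ψ
  have h2 : 𝒳.p.IsHomLift (𝒳.p.map φ) φ := inferInstance
  obtain ⟨ι, -⟩ := exists_iso_of_lifts 𝒳.p (𝒳.p.map φ) ((AlgSt.subIncl 𝒳 Q).toFunctor.map ψ) φ
  exact hiso.of_iso ι y'.property

/-- the objects of a strictly full subcategory fibred in groupoids have all their points in it -/
theorem le_QT_range (a : 𝒳.obj) (ha : Q a) :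
    QT (Set.range (AlgSt.Points.map (AlgSt.subIncl 𝒳 Q))) a := by
  rintro p ⟨m⟩
  have hp : Q p.obj := of_hom_of_isFibGrpd h𝒳 Q hiso hsub m ha
  exact ⟨Points.mk { K := p.K, str := p.str, obj := ⟨p.obj, hp⟩, lies := p.lies }, rfl⟩

end Sub

section KL
variable (h𝒳 : IsFibGrpd 𝒳.p) (Q : 𝒳.obj → Prop) (hiso : ObjectProperty.IsClosedUnderIsomorphisms Q)
  (hsub : IsFibGrpd (AlgSt.fullSub 𝒳 Q).p) (hopen : AlgSt.IsOpenImm (AlgSt.subIncl 𝒳 Q))
include h𝒳 hiso hsub hopen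

/-- an object all of whose points lie in an open substack lies in it -/
theorem of_QT_range (a : 𝒳.obj) (ha : QT (Set.range (AlgSt.Points.map (AlgSt.subIncl 𝒳 Q))) a) : Q a := by
  haveI hfib : 𝒳.p.IsFibered := Groth.Agent.FibFiberwise.isFibered_of_isFibGrpd 𝒳.p h𝒳
  obtain ⟨e0, -⟩ := yBased_id_iso a
  have hU : IsFibGrpd (overCat (𝒳.p.obj a)).p := Groth.Agent.FibOver.isFibGrpd_overCat _
  obtain ⟨F, e, he, hc⟩ := hopen (𝒳.p.obj a) (yBased a)
  have hsurj : AlgSp.IsSurjectiveMor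
      (AlgSt.spMapOfOver (BasedFunctor.comp e (fpFst (yBased a) (AlgSt.subIncl 𝒳 Q)))) := by
    intro z'
    have h0 := ofChart_mem_of_QT (yBased a) (Over.mk (𝟙 (𝒳.p.obj a))) (QT_of_hom e0.hom ha)
      (AlgSp.Points.toScheme (𝒳.p.obj a) z')
    obtain ⟨ξ, hξ⟩ := h0
    have h1 : Points.map (yBased a) (Points.ofChart (BasedFunctor.id (overCat (𝒳.p.obj a)))
        (AlgSp.Points.toScheme (𝒳.p.obj a) z')) = Points.map (AlgSt.subIncl 𝒳 Q) ξ := hξ.symm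
    obtain ⟨w, hw1, -⟩ := exists_points_fp hsub h𝒳 hU (AlgSt.subIncl 𝒳 Q) (yBased a) _ ξ h1
    obtain ⟨w₁, rfl⟩ := (map_bijective_of_isEquivOver e he).2 w
    refine ⟨ptsEquiv F.obj w₁, ?_⟩
    have h2 := congrArg (slicePt (𝒳.p.obj a)) hw1
    rw [slicePt_fpFst, slicePt_ofChart_id] at h2
    have h3 := congrArg (AlgSp.Points.ofScheme (𝒳.p.obj a)) h2
    rwa [AlgSp.Points.ofScheme_toScheme, AlgSp.Points.ofScheme_toScheme] at h3
  have hci : IsIso (AlgSt.spMapOfOver (BasedFunctor.comp e (fpFst (yBased a) (AlgSt.subIncl 𝒳 Q)))) :=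
    Groth.Agent.S10194.isIso_of_openImmersion_of_surjective _ hc hsurj
  let Φ : AlgSt.ofSp F.obj ⥤ᵇ overCat (𝒳.p.obj a) :=
    BasedFunctor.comp e (fpFst (yBased a) (AlgSt.subIncl 𝒳 Q))
  let x₀ : F.obj.obj.obj (op (𝒳.p.obj a)) := (inv (AlgSt.spMapOfOver Φ)).hom.app (op (𝒳.p.obj a)) ⟨𝟙 _⟩
  have hx₀ : (AlgSt.spMapOfOver Φ).hom.app (op (𝒳.p.obj a)) x₀ = ⟨𝟙 _⟩ :=
    congrArg (fun k => k.hom.app (op (𝒳.p.obj a)) ⟨𝟙 _⟩) (IsIso.inv_hom_id (AlgSt.spMapOfOver Φ))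
  rw [AlgSt.spMapOfOver_app] at hx₀
  have hsec : AlgSt.secHom Φ ⟨𝒳.p.obj a, x₀⟩ = 𝟙 _ := congrArg ULift.down hx₀
  let η : (fp (yBased a) (AlgSt.subIncl 𝒳 Q)).obj := e.obj ⟨𝒳.p.obj a, x₀⟩
  have hw : 𝒳.p.obj a = η.obj.fst.left := (Φ.w_obj ⟨𝒳.p.obj a, x₀⟩).symm
  let k : (Over.mk (𝟙 (𝒳.p.obj a)) : Over (𝒳.p.obj a)) ⟶ η.obj.fst := Over.homMk (eqToHom hw) hsec
  exact of_hom_of_isFibGrpd h𝒳 Q hiso hsub (e0.inv ≫ (yBased a).map k ≫ η.obj.iso.hom) η.obj.snd.property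

end KL

section Main
variable (h𝒳 : AlgSt.IsAlgStack Scheme.fppfPrecoverage 𝒳)
include h𝒳

/-- an open substack consists of the objects all of whose points lie in it -/
theorem iff_QT_range (Q : 𝒳.obj → Prop) (hQ : AlgSt.IsOpenSubstack 𝒳 Q Scheme.fppfPrecoverage) (a : 𝒳.obj) :
    Q a ↔ QT (Set.range (AlgSt.Points.map (AlgSt.subIncl 𝒳 Q))) a :=
  ⟨le_QT_range h𝒳.isStack.1 Q hQ.1 hQ.2.1.isStack.1 a,
    of_QT_range h𝒳.isStack.1 Q hQ.1 hQ.2.1.isStack.1 hQ.2.2 a⟩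

theorem eq_QT_range (Q : 𝒳.obj → Prop) (hQ : AlgSt.IsOpenSubstack 𝒳 Q Scheme.fppfPrecoverage) :
    Q = QT (Set.range (AlgSt.Points.map (AlgSt.subIncl 𝒳 Q))) :=
  funext fun a => propext (iff_QT_range h𝒳 Q hQ a)

/-- containment of open substacks is containment of their sets of points -/
theorem le_iff_range_subset (Q Q' : 𝒳.obj → Prop) (hQ : AlgSt.IsOpenSubstack 𝒳 Q Scheme.fppfPrecoverage)
    (hQ' : AlgSt.IsOpenSubstack 𝒳 Q' Scheme.fppfPrecoverage) :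
    (∀ y, Q y → Q' y) ↔ Set.range (AlgSt.Points.map (AlgSt.subIncl 𝒳 Q)) ⊆
      Set.range (AlgSt.Points.map (AlgSt.subIncl 𝒳 Q')) := by
  constructor
  · intro h
    rintro _ ⟨w, rfl⟩
    obtain ⟨p, rfl⟩ := Points.mk_surjective w
    exact ⟨Points.mk { K := p.K, str := p.str, obj := ⟨p.obj.obj, h _ p.obj.property⟩, lies := p.lies }, rfl⟩
  · intro h y hy
    exact (iff_QT_range h𝒳 Q' hQ' y).2 (QT_mono h y ((iff_QT_range h𝒳 Q hQ y).1 hy))

/-- S12859 -/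
theorem bijOn_range :
    Set.BijOn (fun Q : 𝒳.obj → Prop => Set.range (AlgSt.Points.map (AlgSt.subIncl 𝒳 Q)))
      {Q | AlgSt.IsOpenSubstack 𝒳 Q Scheme.fppfPrecoverage} {T | IsOpen T} := by
  refine ⟨?_, ?_, ?_⟩
  · intro Q hQ
    exact isOpen_range_of_isOpenImm hQ.2.1 h𝒳 _ hQ.2.2
  · intro Q hQ Q' hQ' h
    have h' : Set.range (AlgSt.Points.map (AlgSt.subIncl 𝒳 Q)) =
        Set.range (AlgSt.Points.map (AlgSt.subIncl 𝒳 Q')) := h
    funext a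
    apply propext
    rw [iff_QT_range h𝒳 Q hQ a, iff_QT_range h𝒳 Q' hQ' a, h']
  · intro T hT
    exact ⟨QT T, isOpenSubstack_QT h𝒳 T hT, range_subIncl_QT T⟩

end Main

end Groth.Agent.Lib.helper4.AlgStOpenSub
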