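import Groth.Agent.Lib.Helper4.AlgStOpenSub6
import Groth.Agent.Lib.Helper4.FibLiftIso
set_option autoImplicit false
set_option backward.isDefEq.respectTransparency false
set_option backward.isDefEq.respectTransparency.types false
set_option linter.unusedSectionVars false
set_option linter.style.haveILetI false
set_option linter.unusedVariables false
open CategoryTheory CategoryTheory.Functor CategoryTheory.Limits Opposite AlgebraicGeometry
universe u

/-! Restriction of chart squares to open substacks; the largest open substack on which a morphism is smooth. -/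

namespace Groth.Agent.Lib.helper4.AlgStOpenSub
open Groth.Agent.FibEquiv Groth.Agent.FibYoneda FibCat Groth.Agent.Lib.helper4.FibPaste
open Groth.Agent.Lib.helper4.AlgStEquiv Groth.Agent.Lib.helper4.AlgStRep
open Groth.Agent.Lib.helper4.AlgStSetoid Groth.Agent.FibFpProj Groth.Agent.Lib.helper4.FibRep
open Groth.Agent.Lib.helper4.AlgStFpAlg Groth.Agent.Lib.helper4.AlgStDM Groth.Agent.Lib.helper4.AlgStSelf
open Groth.Agent.Lib.helper4.AlgStPts Groth.Agent.Lib.helper4.FibSwap Groth.Agent.Lib.helper4.AlgStSmLoc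
open Groth.Agent.Lib.helper4.AlgStQC Groth.Agent.Lib.helper4.PshDict Groth.Agent.Lib.helper4.PshRep
open Groth.Agent.Lib.helper4.PshPB Groth.Agent.Lib.helper4.AlgStQCMor Groth.Agent.Lib.helper4.PointsBasic
open Groth.Agent.Lib.helper4.AlgStDescent Groth.Agent.Lib.helper4.AlgStCoreA
open Groth.Agent.Lib.helper4.AlgStSource Groth.Agent.Lib.helper4.AlgStGraph
open Groth.Agent.Lib.helper4.SmLocalST Groth.Agent.Lib.helper5.LocPBC
open Groth.Agent.Lib.helper4.AlgStLocQ Groth.Agent.Lib.helper4.StkSub Groth.Agent.Lib.helper4.FibLiftIso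
open Stk AlgSt

variable {S : Scheme.{u}}

/-- the largest open subscheme on which a morphism of schemes is smooth -/
theorem exists_largest_open_smooth {X Y : Scheme.{u}} (h : X ⟶ Y) :
    ∃ W : X.Opens, Smooth (W.ι ≫ h) ∧ ∀ O : X.Opens, Smooth (O.ι ≫ h) → O ≤ W := by
  let 𝒪 : Set X.Opens := {O | Smooth (O.ι ≫ h)}
  refine ⟨sSup 𝒪, ?_, fun O hO => le_sSup hO⟩
  refine IsZariskiLocalAtSource.of_iSup_eq_top (P := @Smooth) (fun O : 𝒪 => (sSup 𝒪).ι ⁻¹ᵁ O.1) ?_ ?_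
  · rw [eq_top_iff]
    rintro w -
    have hw : (sSup 𝒪).ι w ∈ sSup 𝒪 := by
      have := Set.mem_range_self (f := (sSup 𝒪).ι) w
      rwa [Scheme.Opens.range_ι] at this
    obtain ⟨O, hO, hwO⟩ := TopologicalSpace.Opens.mem_sSup.1 hw
    exact TopologicalSpace.Opens.mem_iSup.2 ⟨⟨O, hO⟩, hwO⟩
  · intro O
    have hO : Smooth (O.1.ι ≫ h) := O.2
    have hr : Set.range (((sSup 𝒪).ι ⁻¹ᵁ O.1).ι ≫ (sSup 𝒪).ι) ⊆ Set.range O.1.ι := by
      rw [Scheme.Opens.range_ι]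
      rintro _ ⟨w, rfl⟩
      exact w.2
    let k := IsOpenImmersion.lift O.1.ι (((sSup 𝒪).ι ⁻¹ᵁ O.1).ι ≫ (sSup 𝒪).ι) hr
    have hk : k ≫ O.1.ι = ((sSup 𝒪).ι ⁻¹ᵁ O.1).ι ≫ (sSup 𝒪).ι := IsOpenImmersion.lift_fac _ _ _
    have hki : IsOpenImmersion k := by
      have : IsOpenImmersion (k ≫ O.1.ι) := by rw [hk]; infer_instance
      exact IsOpenImmersion.of_comp k O.1.ι
    have : ((sSup 𝒪).ι ⁻¹ᵁ O.1).ι ≫ (sSup 𝒪).ι ≫ h = k ≫ O.1.ι ≫ h := by
      rw [← Category.assoc, ← hk, Category.assoc]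
    rw [this]
    infer_instance

section FstCmp
variable {𝒰 𝒳 𝒴 𝒱 : AlgSt.Cat S} (ι : 𝒰 ⥤ᵇ 𝒳) (f : 𝒳 ⥤ᵇ 𝒴) (y : 𝒱 ⥤ᵇ 𝒴)

/-- the functor `𝒰 ×_𝒴 𝒱 ⟶ 𝒳 ×_𝒴 𝒱` induced by `ι : 𝒰 ⟶ 𝒳` -/
def fstCmp : fp (BasedFunctor.comp ι f) y ⥤ᵇ fp f y :=
  fpLift (F := f) (G := y) (BasedFunctor.comp (fpFst (BasedFunctor.comp ι f) y) ι)
    (fpSnd (BasedFunctor.comp ι f) y) (fpIso (BasedFunctor.comp ι f) y)

instance fstCmp_faithful [ι.toFunctor.Faithful] : (fstCmp ι f y).toFunctor.Faithful where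
  map_injective {x x'} m m' h := by
    apply Groth.Agent.Lib.helper4.DiagBC.fp_hom_ext
    · apply ι.toFunctor.map_injective
      exact congrArg (fun k => k.hom.fst) h
    · exact congrArg (fun k => k.hom.snd) h

instance fstCmp_full [ι.toFunctor.Full] : (fstCmp ι f y).toFunctor.Full where
  map_surjective {x x'} n := by
    have hw : (BasedFunctor.comp ι f).toFunctor.map (ι.toFunctor.preimage n.hom.fst) ≫ x'.obj.iso.hom =
        x.obj.iso.hom ≫ y.toFunctor.map n.hom.snd := by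
      change f.toFunctor.map (ι.toFunctor.map (ι.toFunctor.preimage n.hom.fst)) ≫ x'.obj.iso.hom = _
      rw [Functor.map_preimage]
      exact n.hom.w
    refine ⟨ObjectProperty.homMk ⟨ι.toFunctor.preimage n.hom.fst, n.hom.snd, hw⟩, ?_⟩
    apply Groth.Agent.Lib.helper4.DiagBC.fp_hom_ext
    · exact ι.toFunctor.map_preimage n.hom.fst
    · rfl

end FstCmp

section Restrict
variable {𝒳 𝒴 : AlgSt.Cat S} (h𝒳 : IsFibGrpd 𝒳.p) (h𝒴 : IsFibGrpd 𝒴.p) (f : 𝒳 ⥤ᵇ 𝒴)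
include h𝒳 h𝒴

/-- restriction of a chart square with smooth comparison functor to an etale neighbourhood of the source chart
landing in a full subcategory -/
theorem restrict_square {U V : Over S} (x : overCat U ⥤ᵇ 𝒳) (y : overCat V ⥤ᵇ 𝒴) (h : U ⟶ V)
    (α : BasedFunctor.comp x f ≅ BasedFunctor.comp (AlgSt.overMap h) y)
    (hx : AlgSt.RepByAlgSpWith (AlgSp.LocP @Smooth) x)
    (hl : AlgSt.RepByAlgSpWith (AlgSp.LocP @Smooth) (fpLift x (AlgSt.overMap h) α))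
    (Q' : 𝒳.obj → Prop) {U' : Over S} (ι' : U' ⟶ U) (hι' : Etale ι'.left)
    (hval : ∀ a, Q' ((BasedFunctor.comp (AlgSt.overMap ι') x).obj a)) :
    ∃ (x'' : overCat U' ⥤ᵇ AlgSt.fullSub 𝒳 Q')
      (α'' : BasedFunctor.comp x'' (BasedFunctor.comp (AlgSt.subIncl 𝒳 Q') f) ≅
        BasedFunctor.comp (AlgSt.overMap (ι' ≫ h)) y),
      BasedFunctor.comp x'' (AlgSt.subIncl 𝒳 Q') = BasedFunctor.comp (AlgSt.overMap ι') x ∧
      AlgSt.RepByAlgSpWith (AlgSp.LocP @Smooth) x'' ∧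
      AlgSt.RepByAlgSpWith (AlgSp.LocP @Smooth) (fpLift x'' (AlgSt.overMap (ι' ≫ h)) α'') := by
  have hVf : IsFibGrpd (overCat V).p := Groth.Agent.FibOver.isFibGrpd_overCat V
  have hfp : IsFibGrpd (fp f y).p := isFibGrpd_fp _ _ h𝒳 hVf h𝒴
  haveI : (AlgSt.subIncl 𝒳 Q').toFunctor.Full := inferInstanceAs (StkSub.incl Q').toFunctor.Full
  haveI : (AlgSt.subIncl 𝒳 Q').toFunctor.Faithful := inferInstanceAs (StkSub.incl Q').toFunctor.Faithful
  let x'' : overCat U' ⥤ᵇ AlgSt.fullSub 𝒳 Q' := liftSub Q' (BasedFunctor.comp (AlgSt.overMap ι') x) hval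
  let α'' : BasedFunctor.comp x'' (BasedFunctor.comp (AlgSt.subIncl 𝒳 Q') f) ≅
      BasedFunctor.comp (AlgSt.overMap (ι' ≫ h)) y :=
    whiskerLeftIso (AlgSt.overMap ι') α ≪≫ whiskerRightIso (overMapCompIso ι' h) y
  have hx'' : AlgSt.RepByAlgSpWith (AlgSp.LocP @Smooth) x'' :=
    repByAlgSpWith_of_comp_ff (AlgSt.subIncl 𝒳 Q') x'' _ (smooth_overMap_comp h𝒳 ι' hι' x hx)
  refine ⟨x'', α'', rfl, hx'', ?_⟩
  haveI hff1 : (fstCmp (AlgSt.subIncl 𝒳 Q') f y).toFunctor.Faithful := fstCmp_faithful _ f y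
  haveI hff2 : (fstCmp (AlgSt.subIncl 𝒳 Q') f y).toFunctor.Full := fstCmp_full _ f y
  apply repByAlgSpWith_of_comp_ff (fstCmp (AlgSt.subIncl 𝒳 Q') f y)
  have hL₂ : AlgSt.RepByAlgSpWith (AlgSp.LocP @Smooth)
      (BasedFunctor.comp (AlgSt.overMap ι') (fpLift x (AlgSt.overMap h) α)) :=
    smooth_overMap_comp hfp ι' hι' _ hl
  let θ : BasedFunctor.comp (fpLift x'' (AlgSt.overMap (ι' ≫ h)) α'') (fstCmp (AlgSt.subIncl 𝒳 Q') f y) ≅
      BasedFunctor.comp (AlgSt.overMap ι') (fpLift x (AlgSt.overMap h) α) :=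
    fpLiftIso f y (a := BasedFunctor.comp (AlgSt.overMap ι') x) (a' := BasedFunctor.comp (AlgSt.overMap ι') x)
      (b := AlgSt.overMap (ι' ≫ h)) (b' := BasedFunctor.comp (AlgSt.overMap ι') (AlgSt.overMap h))
      α'' (whiskerLeftIso (AlgSt.overMap ι') α) (Iso.refl _) (overMapCompIso ι' h).symm (fun w => by
        have e1 : (appIso (Iso.refl (BasedFunctor.comp (AlgSt.overMap ι') x)) w).hom = 𝟙 _ := rfl
        have e2 : (appIso α'' w).hom = (appIso (whiskerLeftIso (AlgSt.overMap ι') α) w).hom ≫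
            y.toFunctor.map (appIso (overMapCompIso ι' h) w).hom := rfl
        have e3 : (appIso (overMapCompIso ι' h).symm w).hom = (appIso (overMapCompIso ι' h) w).inv := rfl
        rw [e1, e2, e3, CategoryTheory.Functor.map_id, Category.id_comp, Category.assoc,
          ← CategoryTheory.Functor.map_comp, Iso.hom_inv_id, CategoryTheory.Functor.map_id]
        exact (Category.comp_id _).symm)
  exact (repByAlgSpWith_congr _ θ).2 hL₂

end Restrict

end Groth.Agent.Lib.helper4.AlgStOpenSub
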