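import Groth.Agent.Lib.Helper4.AlgStOpenSub8
import Groth.Agent.Lib.Helper4.AlgSpSmLocalST2
set_option autoImplicit false
set_option backward.isDefEq.respectTransparency false
set_option backward.isDefEq.respectTransparency.types false
set_option linter.unusedSectionVars false
set_option linter.style.haveILetI false
set_option linter.unusedVariables false
open CategoryTheory CategoryTheory.Functor CategoryTheory.Limits Opposite AlgebraicGeometry
universe u

/-! The largest open substack on which a morphism of algebraic stacks is smooth (helper4). -/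

namespace Groth.Agent.Lib.helper4.AlgStOpenSub
open Groth.Agent.FibEquiv Groth.Agent.FibYoneda FibCat Groth.Agent.Lib.helper4.FibPaste
open Groth.Agent.Lib.helper4.AlgStEquiv Groth.Agent.Lib.helper4.AlgStRep
open Groth.Agent.Lib.helper4.AlgStSetoid Groth.Agent.FibFpProj Groth.Agent.Lib.helper4.FibRep
open Groth.Agent.Lib.helper4.AlgStFpAlg Groth.Agent.Lib.helper4.AlgStDM Groth.Agent.Lib.helper4.AlgStSelf
open Groth.Agent.Lib.helper4.AlgStPts Groth.Agent.Lib.helper4.FibSwap Groth.Agent.Lib.helper4.AlgStSmLoc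
open Groth.Agent.Lib.helper4.AlgStQC Groth.Agent.Lib.helper4.PshDict Groth.Agent.Lib.helper4.PshRep
open Groth.Agent.Lib.helper4.PshPB Groth.Agent.Lib.helper4.AlgStQCMor Groth.Agent.Lib.helper4.PointsBasic
open Groth.Agent.Lib.helper4.AlgStDescent Groth.Agent.Lib.helper4.AlgStCoreA
open Groth.Agent.Lib.helper4.AlgStSource Groth.Agent.Lib.helper4.AlgStGraph
open Groth.Agent.Lib.helper4.SmLocalST Groth.Agent.Lib.helper5.LocPBC
open Groth.Agent.Lib.helper4.AlgStLocQ Groth.Agent.Lib.helper4.StkSub Groth.Agent.Lib.helper4.FibLiftIso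
open Stk AlgSt

variable {S : Scheme.{u}}

/-- an open subscheme of a scheme over `S`, as an object over `S`, with its inclusion -/
def opensOver (U : Over S) (O : U.left.Opens) : Over S := Over.mk (O.ι ≫ U.hom)

def opensIncl (U : Over S) (O : U.left.Opens) : opensOver U O ⟶ U := Over.homMk O.ι rfl

theorem etale_opensIncl (U : Over S) (O : U.left.Opens) : Etale (opensIncl U O).left :=
  inferInstanceAs (Etale O.ι)

section Main
variable {𝒳 𝒴 : AlgSt.Cat S} (h𝒳 : AlgSt.IsAlgStack Scheme.fppfPrecoverage 𝒳)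
  (h𝒴 : AlgSt.IsAlgStack Scheme.fppfPrecoverage 𝒴) (f : 𝒳 ⥤ᵇ 𝒴)
include h𝒳 h𝒴

/-- **S13037**: the largest open substack on which a morphism of algebraic stacks is smooth -/
theorem exists_largest_isOpenSubstack_locQ_smooth :
    ∃ Q : 𝒳.obj → Prop, AlgSt.IsOpenSubstack 𝒳 Q Scheme.fppfPrecoverage ∧
      AlgSt.LocQ (AlgSp.LocP @Smooth) (BasedFunctor.comp (AlgSt.subIncl 𝒳 Q) f) ∧
      ∀ Q' : 𝒳.obj → Prop, AlgSt.IsOpenSubstack 𝒳 Q' Scheme.fppfPrecoverage →
        AlgSt.LocQ (AlgSp.LocP @Smooth) (BasedFunctor.comp (AlgSt.subIncl 𝒳 Q') f) → ∀ a, Q' a → Q a := by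
  have hX := h𝒳.isStack.1
  have hY := h𝒴.isStack.1
  obtain ⟨V, y, hy, hys⟩ := h𝒴.atlas
  obtain ⟨U, x, h, α, hx, hl, hls, hxs⟩ := exists_good_square h𝒳 h𝒴 f y hy
  have hxs' := hxs hys
  obtain ⟨W, hW, hWmax⟩ := exists_largest_open_smooth h.left
  let w : overCat (opensOver U W) ⥤ᵇ 𝒳 := BasedFunctor.comp (AlgSt.overMap (opensIncl U W)) x
  have hw : AlgSt.RepByAlgSpWith (AlgSp.LocP @Smooth) w :=
    smooth_overMap_comp hX (opensIncl U W) (etale_opensIncl U W) x hx
  let T : Set (AlgSt.Points 𝒳) := Set.range (Points.ofChart w)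
  have hT : IsOpen T := (isOpenMap_ofChart_smooth hX w hw).isOpen_range
  have hQT := isOpenSubstack_QT h𝒳 T hT
  refine ⟨QT T, hQT, ?_, ?_⟩
  · have hval : ∀ a, QT T (w.obj a) := fun a =>
      (QT_iff_chart hX T w a).2 (fun v => ⟨a.hom.left v, rfl⟩)
    obtain ⟨x'', α'', hx''eq, hx'', hl''⟩ :=
      restrict_square hX hY f x y h α hx hl (QT T) (opensIncl U W) (etale_opensIncl U W) hval
    have hUWf : IsFibGrpd (overCat (opensOver U W)).p := Groth.Agent.FibOver.isFibGrpd_overCat _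
    have hSub : IsFibGrpd (AlgSt.fullSub 𝒳 (QT T)).p := hQT.2.1.isStack.1
    have hsurj : AlgSt.IsSurjective x'' := by
      intro z
      obtain ⟨q, rfl⟩ := Points.mk_surjective z
      have hq : Points.mk (q.map (AlgSt.subIncl 𝒳 (QT T))) ∈ T := q.obj.property _ ⟨𝟙 _⟩
      obtain ⟨v, hv⟩ := hq
      refine ⟨Points.ofChart (BasedFunctor.id _) v, ?_⟩
      apply map_subIncl_injective hX (QT T) (fun _ _ φ h => QT_of_hom φ h)
      rw [← map_comp]
      have : BasedFunctor.comp x'' (AlgSt.subIncl 𝒳 (QT T)) = w := hx''eq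
      rw [this]
      exact hv
    refine ⟨opensOver U W, V, x'', y, opensIncl U W ≫ h, α'', hx'',
      repByAlgSpWith_of_isSurjective hUWf hSub x'' (repByAlgSp1_of_repByAlgSpWith hx'') hsurj, hy, ?_⟩
    refine locP_yon_map_of locPData_smooth (opensIncl U W ≫ h) ?_
    rw [Over.comp_left]
    exact hW
  · intro Q' hQ' hLoc
    rw [le_iff_range_subset h𝒳 Q' (QT T) hQ' hQT, range_subIncl_QT]
    have hT' : IsOpen (Set.range (AlgSt.Points.map (AlgSt.subIncl 𝒳 Q'))) :=
      isOpen_range_of_isOpenImm hQ'.2.1 h𝒳 _ hQ'.2.2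
    have hcont : Continuous (Points.ofChart x) := continuous_ofChart hX h𝒳.atlas x
    let O : U.left.Opens :=
      ⟨Points.ofChart x ⁻¹' Set.range (AlgSt.Points.map (AlgSt.subIncl 𝒳 Q')), hT'.preimage hcont⟩
    have hvalO : ∀ a, Q' ((BasedFunctor.comp (AlgSt.overMap (opensIncl U O)) x).obj a) := fun a => by
      rw [iff_QT_range h𝒳 Q' hQ', QT_iff_chart hX _ (BasedFunctor.comp (AlgSt.overMap (opensIncl U O)) x) a]
      intro v
      rw [ofChart_overMap]
      have : O.ι (a.hom.left v) ∈ O := by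
        have := Set.mem_range_self (f := O.ι) (a.hom.left v)
        rwa [Scheme.Opens.range_ι] at this
      exact this
    obtain ⟨xO, αO, -, hxO, hlO⟩ :=
      restrict_square hX hY f x y h α hx hl Q' (opensIncl U O) (etale_opensIncl U O) hvalO
    have hsm : AlgSp.LocP @Smooth ((AlgSp.yon S).map (opensIncl U O ≫ h)) :=
      (locQ_iff_forall hQ'.2.1 h𝒴 (BasedFunctor.comp (AlgSt.subIncl 𝒳 Q') f) _ isSmoothLocalST_smooth).1 hLoc
        (opensOver U O) V xO y (opensIncl U O ≫ h) αO hxO hy hlO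
    have hsm' : Smooth (O.ι ≫ h.left) := by
      have := AlgSp.locP_yon_map hsm
      rwa [Over.comp_left] at this
    have hOW : O ≤ W := hWmax O hsm'
    rintro p hp
    obtain ⟨u, rfl⟩ := ofChart_surjective hX x hxs' p
    have hu : u ∈ O := hp
    have huW : u ∈ W := hOW hu
    have : u ∈ Set.range W.ι := by rw [Scheme.Opens.range_ι]; exact huW
    obtain ⟨w₀, rfl⟩ := this
    exact ⟨w₀, ofChart_overMap (opensIncl U W) x w₀⟩

end Main

end Groth.Agent.Lib.helper4.AlgStOpenSub
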