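import Groth.Agent.Lib.Helper4.AlgStOpenSub12
set_option autoImplicit false
set_option backward.isDefEq.respectTransparency false
set_option backward.isDefEq.respectTransparency.types false
set_option linter.unusedSectionVars false
set_option linter.style.haveILetI false
set_option linter.unusedVariables false
open CategoryTheory CategoryTheory.Functor CategoryTheory.Limits Opposite AlgebraicGeometry
universe u

/-! The slice category of a fibre product of schemes is the 2-fibre product of the slice categories (helper4). -/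

namespace Groth.Agent.Lib.helper4.AlgStOverPB
open Groth.Agent.FibEquiv Groth.Agent.FibYoneda FibCat Groth.Agent.Lib.helper4.FibPaste
open Groth.Agent.Lib.helper4.DiagBC
open Stk AlgSt

variable {S : Scheme.{u}} {T U W V : Over S} (pW : T ⟶ W) (pU : T ⟶ U) (c : W ⟶ V) (h : U ⟶ V)

/-- the 2-isomorphism of a commutative square of schemes over `S` -/
def sqIso (w : pW ≫ c = pU ≫ h) :
    BasedFunctor.comp (AlgSt.overMap pW) (AlgSt.overMap c) ≅
      BasedFunctor.comp (AlgSt.overMap pU) (AlgSt.overMap h) :=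
  BasedNatIso.mkNatIso
    (NatIso.ofComponents
      (fun a => Over.isoMk (Iso.refl _) (by
        change 𝟙 _ ≫ (a.hom ≫ pU) ≫ h = (a.hom ≫ pW) ≫ c
        rw [Category.id_comp, Category.assoc, Category.assoc, w]))
      (fun {a a'} m => by
        apply Over.OverMorphism.ext
        change m.left ≫ 𝟙 _ = 𝟙 _ ≫ m.left
        simp))
    (fun a => by
      have h1 := Groth.Agent.FibYoneda.hom_isHomLift (U := V)
        (Over.isoMk (Iso.refl a.left) (by
          change 𝟙 _ ≫ (a.hom ≫ pU) ≫ h = (a.hom ≫ pW) ≫ c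
          rw [Category.id_comp, Category.assoc, Category.assoc, w]) :
          (Over.map c).obj ((Over.map pW).obj a) ≅ (Over.map h).obj ((Over.map pU).obj a)).hom
      exact h1)

/-- the comparison functor `(Sch/T) ⟶ (Sch/W) ×_{(Sch/V)} (Sch/U)` of a commutative square -/
def cmp (w : pW ≫ c = pU ≫ h) : overCat T ⥤ᵇ fp (AlgSt.overMap c) (AlgSt.overMap h) :=
  fpLift (AlgSt.overMap pW) (AlgSt.overMap pU) (sqIso pW pU c h w)

theorem cmp_fst (w : pW ≫ c = pU ≫ h) :
    BasedFunctor.comp (cmp pW pU c h w) (fpFst (AlgSt.overMap c) (AlgSt.overMap h)) = AlgSt.overMap pW := rfl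

theorem cmp_snd (w : pW ≫ c = pU ≫ h) :
    BasedFunctor.comp (cmp pW pU c h w) (fpSnd (AlgSt.overMap c) (AlgSt.overMap h)) = AlgSt.overMap pU := rfl

instance cmp_faithful (w : pW ≫ c = pU ≫ h) : (cmp pW pU c h w).toFunctor.Faithful where
  map_injective {a a'} m m' hmm := by
    have h1 : (Over.map pW).map m = (Over.map pW).map m' := congrArg (fun k => k.hom.fst) hmm
    apply Over.OverMorphism.ext
    exact congrArg (fun k => k.left) h1

theorem cmp_full (sq : IsPullback pW pU c h) : (cmp pW pU c h sq.w).toFunctor.Full where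
  map_surjective {a a'} n := by
    have hw := n.hom.w
    have hl : n.hom.fst.left = n.hom.snd.left := by
      have := congrArg (fun k => k.left) hw
      change n.hom.fst.left ≫ 𝟙 _ = 𝟙 _ ≫ n.hom.snd.left at this
      simpa using this
    have h1 : n.hom.fst.left ≫ (a'.hom ≫ pW) = a.hom ≫ pW := Over.w n.hom.fst
    have h2 : n.hom.snd.left ≫ (a'.hom ≫ pU) = a.hom ≫ pU := Over.w n.hom.snd
    have hk : n.hom.fst.left ≫ a'.hom = a.hom := by
      apply sq.hom_ext
      · rw [Category.assoc]; exact h1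
      · rw [Category.assoc, hl]; exact h2
    refine ⟨Over.homMk n.hom.fst.left hk, ?_⟩
    apply fp_hom_ext
    · apply Over.OverMorphism.ext
      rfl
    · apply Over.OverMorphism.ext
      exact hl

/-- for a cartesian square of schemes over `S`, the comparison functor is an equivalence -/
theorem cmp_isEquivOver (sq : IsPullback pW pU c h) : IsEquivOver (cmp pW pU c h sq.w) := by
  haveI := cmp_full pW pU c h sq
  apply isEquivOver_of
  intro η
  let a₁ : Over W := η.obj.fst
  let a₂ : Over U := η.obj.snd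
  let θ : (Over.map c).obj a₁ ≅ (Over.map h).obj a₂ := η.obj.iso
  have hθ : θ.hom.left ≫ (a₂.hom ≫ h) = a₁.hom ≫ c := Over.w θ.hom
  let ξ : Over T := Over.mk (sq.lift a₁.hom (θ.hom.left ≫ a₂.hom) (by rw [Category.assoc]; exact hθ.symm))
  let e₁ : (Over.map pW).obj ξ ≅ a₁ := Over.isoMk (Iso.refl _) (by
    change 𝟙 _ ≫ a₁.hom = sq.lift _ _ _ ≫ pW
    simp)
  let e₂ : (Over.map pU).obj ξ ≅ a₂ := Over.isoMk ((Over.forget V).mapIso θ) (by
    change θ.hom.left ≫ a₂.hom = sq.lift _ _ _ ≫ pU
    simp)
  refine ⟨ξ, fpIsoMk _ _ e₁ e₂ ?_, ?_⟩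
  · apply Over.OverMorphism.ext
    change 𝟙 _ ≫ θ.hom.left = 𝟙 _ ≫ θ.hom.left
    rfl
  · apply Groth.Agent.FibFp.lift_to
    have h1 := Groth.Agent.FibYoneda.hom_isHomLift (U := W) e₁.hom
    exact h1

end Groth.Agent.Lib.helper4.AlgStOverPB
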