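import Groth.Agent.Lib.Helper4.PointsBasic
import Groth.Agent.Lib.Helper4.AlgStDM
import Groth.Agent.S12817
set_option autoImplicit false
set_option backward.isDefEq.respectTransparency false
set_option backward.isDefEq.respectTransparency.types false
set_option linter.unusedSectionVars false
set_option linter.style.haveILetI false
set_option linter.unusedVariables false
open CategoryTheory CategoryTheory.Functor CategoryTheory.Limits Opposite AlgebraicGeometry
universe u

/-! Points of categories over `(Sch/S)`: charts, and the comparison `|ofSp F| ≃ AlgSp.Points F`. -/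

namespace Groth.Agent.Lib.helper4.AlgStPts
open Groth.Agent.FibEquiv Groth.Agent.FibYoneda Groth.Agent.FibFpProj Stk FibCat
open Groth.Agent.Lib.helper4.Descent Groth.Agent.Lib.helper4.PshDict Groth.Agent.Lib.helper4.FibPaste
open Groth.Agent.Lib.helper4.PointsBasic Groth.Agent.Lib.helper4.AlgStDM
open AlgSt

variable {S : Scheme.{u}} {𝒳 𝒴 : AlgSt.Cat S}

section Chart

variable {U T : Over S}

/-- the point `Spec κ(t) ⟶ U` of the slice -/
noncomputable def resPt (U : Over S) (t : ↥U.left) : Over U :=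
  Over.mk (Over.homMk (U.left.fromSpecResidueField t) rfl :
    Over.mk (U.left.fromSpecResidueField t ≫ U.hom) ⟶ U)

theorem ofChart_congr {x x' : overCat U ⥤ᵇ 𝒳} (α : x ≅ x') (t : ↥U.left) :
    Points.ofChart x t = Points.ofChart x' t :=
  Points.sound ⟨_, 𝟙 _, α.hom.toNatTrans.app (resPt U t), trivial⟩

theorem map_ofChart (f : 𝒳 ⥤ᵇ 𝒴) (x : overCat U ⥤ᵇ 𝒳) (t : ↥U.left) :
    Points.map f (Points.ofChart x t) = Points.ofChart (BasedFunctor.comp x f) t := rfl

/-- the morphism `Spec κ(t) ⟶ Spec κ(h t)` over `U` -/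
noncomputable def resPtMap (h : T ⟶ U) (t : ↥T.left) : (Over.map h).obj (resPt T t) ⟶ resPt U (h.left t) :=
  Over.homMk (Over.homMk (Spec.map (h.left.residueFieldMap t)) (by
    change Spec.map (h.left.residueFieldMap t) ≫ U.left.fromSpecResidueField (h.left t) ≫ U.hom =
      T.left.fromSpecResidueField t ≫ T.hom
    rw [← Category.assoc, Scheme.Hom.SpecMap_residueFieldMap_fromSpecResidueField, Category.assoc, Over.w h]))
    (by
      apply Over.OverMorphism.ext
      change Spec.map (h.left.residueFieldMap t) ≫ U.left.fromSpecResidueField (h.left t) =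
        T.left.fromSpecResidueField t ≫ h.left
      exact Scheme.Hom.SpecMap_residueFieldMap_fromSpecResidueField _ _)

theorem ofChart_overMap (h : T ⟶ U) (x : overCat U ⥤ᵇ 𝒳) (t : ↥T.left) :
    Points.ofChart (BasedFunctor.comp (AlgSt.overMap h) x) t = Points.ofChart x (h.left t) :=
  Points.sound ⟨_, 𝟙 _, x.map (resPtMap h t), trivial⟩

end Chart

section OfSp

variable (F : AlgSp.Sp S)

theorem baseEq (p : FPt (ofSp F)) : p.obj.base = Over.mk p.str := p.lies

/-- a field point of the category of a sheaf as a field point of the sheaf -/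
noncomputable def toFieldPt (p : FPt (ofSp F)) : AlgSp.FieldPt F :=
  { K := p.K, str := p.str, val := F.obj.map (eqToHom (baseEq F p).symm).op p.obj.sec }

/-- a field point of a sheaf as a field point of its category -/
noncomputable def ofFieldPt (q : AlgSp.FieldPt F) : FPt (ofSp F) :=
  { K := q.K, str := q.str, obj := ⟨Over.mk q.str, q.val⟩, lies := rfl }

theorem toFieldPt_ofFieldPt (q : AlgSp.FieldPt F) : toFieldPt F (ofFieldPt F q) = q := by
  obtain ⟨K, str, val⟩ := q
  change (⟨K, str, F.obj.map (eqToHom _).op val⟩ : AlgSp.FieldPt F) = ⟨K, str, val⟩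
  rw [eqToHom_op_refl_apply]

theorem toFieldPt_rel {p q : FPt (ofSp F)} (h : FPt.Rel p q) :
    AlgSp.FieldPt.Rel (toFieldPt F p) (toFieldPt F q) := by
  obtain ⟨r, m₁, m₂, -⟩ := h
  have h₁ : F.obj.map m₁.hom.op p.obj.sec = r.obj.sec := m₁.map_sec
  have h₂ : F.obj.map m₂.hom.op q.obj.sec = r.obj.sec := m₂.map_sec
  refine ⟨r.K, r.field, r.str, eqToHom (baseEq F r).symm ≫ m₁.hom ≫ eqToHom (baseEq F p),
    eqToHom (baseEq F r).symm ≫ m₂.hom ≫ eqToHom (baseEq F q), ?_⟩
  change F.obj.map (eqToHom (baseEq F r).symm ≫ m₁.hom ≫ eqToHom (baseEq F p)).op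
      (F.obj.map (eqToHom (baseEq F p).symm).op p.obj.sec) =
    F.obj.map (eqToHom (baseEq F r).symm ≫ m₂.hom ≫ eqToHom (baseEq F q)).op
      (F.obj.map (eqToHom (baseEq F q).symm).op q.obj.sec)
  rw [map_comp_op_apply, map_comp_op_apply, eqToHom_op_comp_apply, eqToHom_op_refl_apply, h₁,
    map_comp_op_apply, map_comp_op_apply, eqToHom_op_comp_apply, eqToHom_op_refl_apply, h₂]

theorem ofFieldPt_rel {p q : AlgSp.FieldPt F} (h : AlgSp.FieldPt.Rel p q) :
    FPt.Rel (ofFieldPt F p) (ofFieldPt F q) := by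
  obtain ⟨Ω, _, w, a, b, h⟩ := h
  exact ⟨{ K := Ω, str := w, obj := ⟨Over.mk w, F.obj.map a.op p.val⟩, lies := rfl },
    ⟨a, rfl⟩, ⟨b, h.symm⟩, trivial⟩

theorem rel_ofFieldPt_toFieldPt (p : FPt (ofSp F)) : FPt.Rel (ofFieldPt F (toFieldPt F p)) p :=
  ⟨ofFieldPt F (toFieldPt F p), 𝟙 _, ⟨eqToHom (baseEq F p).symm, rfl⟩, trivial⟩

/-- `|ofSp F| ≃ |F|` -/
noncomputable def ptsEquiv : Points (ofSp F) ≃ AlgSp.Points F where
  toFun := Quot.lift (fun p => AlgSp.Points.mk (toFieldPt F p))
    (fun _ _ h => AlgSp.Points.sound (toFieldPt_rel F h))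
  invFun := Quotient.lift (fun q => Points.mk (ofFieldPt F q))
    (fun _ _ h => Points.sound (ofFieldPt_rel F h))
  left_inv z := by
    obtain ⟨p, rfl⟩ := Points.mk_surjective z
    exact Points.sound (rel_ofFieldPt_toFieldPt F p)
  right_inv z := by
    induction z using AlgSp.Points.ind with
    | h q => exact congrArg AlgSp.Points.mk (toFieldPt_ofFieldPt F q)

theorem ptsEquiv_mk (p : FPt (ofSp F)) : ptsEquiv F (Points.mk p) = AlgSp.Points.mk (toFieldPt F p) := rfl

theorem ptsEquiv_symm_mk (q : AlgSp.FieldPt F) :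
    (ptsEquiv F).symm (AlgSp.Points.mk q) = Points.mk (ofFieldPt F q) := rfl

theorem ptsEquiv_map {F G : AlgSp.Sp S} (a : F ⟶ G) (z : Points (ofSp F)) :
    ptsEquiv G (Points.map (ofSpMap a) z) = AlgSp.Points.map a (ptsEquiv F z) := by
  obtain ⟨p, rfl⟩ := Points.mk_surjective z
  change AlgSp.Points.mk (toFieldPt G (p.map (ofSpMap a))) = AlgSp.Points.mk ((toFieldPt F p).map a)
  congr 1
  have h : G.obj.map (eqToHom (baseEq F p).symm).op (a.hom.app _ p.obj.sec) =
      a.hom.app _ (F.obj.map (eqToHom (baseEq F p).symm).op p.obj.sec) :=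
    (NatTrans.naturality_apply a.hom (eqToHom (baseEq F p).symm).op p.obj.sec).symm
  exact congrArg (fun v => (⟨p.K, p.str, v⟩ : AlgSp.FieldPt G)) h

theorem ptsEquiv_ofChart {T : Over S} (y : overCat T ⥤ᵇ ofSp F) (t : ↥T.left) :
    ptsEquiv F (Points.ofChart y t) =
      AlgSp.Points.mk ⟨↥(T.left.residueField t), T.left.fromSpecResidueField t ≫ T.hom,
        secOf y (resPt T t)⟩ := rfl

theorem ptsEquiv_ofChart_ofMap {T : Over S} (p : (AlgSp.yon S).obj T ⟶ F) (t : ↥T.left) :
    ptsEquiv F (Points.ofChart (ofMap p) t) = AlgSp.Points.ofPt p t := by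
  rw [ptsEquiv_ofChart]
  change _ = AlgSp.Points.mk (AlgSp.FieldPt.ofPt p t)
  congr 1
  have h : secOf (ofMap p) (resPt T t) = p.hom.app (op (Over.mk (T.left.fromSpecResidueField t ≫ T.hom)))
      ⟨Over.homMk (T.left.fromSpecResidueField t) rfl⟩ := secOf_toYon_comp p.hom (resPt T t)
  exact congrArg (fun v => (⟨↥(T.left.residueField t), T.left.fromSpecResidueField t ≫ T.hom, v⟩ :
    AlgSp.FieldPt F)) h

/-- a representable surjective chart is surjective on points -/
theorem exists_ofChart_ofMap_eq {T : Over S} (p : (AlgSp.yon S).obj T ⟶ F) (hp : AlgSp.RepWith @Surjective p)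
    (z : Points (ofSp F)) : ∃ t : ↥T.left, Points.ofChart (ofMap p) t = z := by
  obtain ⟨y, hy⟩ := Groth.Agent.Lib.helper5.surjective_map_of_repWith_surjective p hp (ptsEquiv F z)
  refine ⟨AlgSp.Points.toScheme T y, (ptsEquiv F).injective ?_⟩
  rw [ptsEquiv_ofChart_ofMap, ← hy, AlgSp.Points.ofPt_eq_map_ofScheme, AlgSp.Points.ofScheme_toScheme]

end OfSp

/-- distinct points of a scheme give distinct points of its slice -/
theorem ofChart_id_injective (V : Over S) :
    Function.Injective (Points.ofChart (BasedFunctor.id (overCat V))) := by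
  intro v v' h
  have h1 := congrArg (Points.map (toYon.{u + 1} V)) h
  rw [map_ofChart, map_ofChart] at h1
  have h2 := congrArg (ptsEquiv ((AlgSp.yon S).obj V)) h1
  have key : ∀ t : ↥V.left, ptsEquiv ((AlgSp.yon S).obj V)
      (Points.ofChart (BasedFunctor.comp (BasedFunctor.id (overCat V)) (toYon.{u + 1} V)) t) =
      AlgSp.Points.ofScheme V t := by
    intro t
    rw [ptsEquiv_ofChart]
    change _ = AlgSp.Points.mk (AlgSp.FieldPt.ofPt (𝟙 _) t)
    congr 1
  rw [key, key] at h2
  have h3 := congrArg (AlgSp.Points.toScheme V) h2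
  rwa [AlgSp.Points.toScheme_ofScheme, AlgSp.Points.toScheme_ofScheme] at h3

end Groth.Agent.Lib.helper4.AlgStPts
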