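import Groth.Agent.Lib.Helper4.AlgStSelf
import Groth.Agent.Lib.Helper4.AlgStPts6
import Groth.Agent.Lib.Helper4.AlgStQC
import Groth.Agent.S12825
set_option autoImplicit false
set_option backward.isDefEq.respectTransparency false
set_option backward.isDefEq.respectTransparency.types false
set_option linter.unusedSectionVars false
set_option linter.style.haveILetI false
set_option linter.unusedVariables false
open CategoryTheory CategoryTheory.Functor CategoryTheory.Limits Opposite AlgebraicGeometry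
universe u

/-! Quasi-compact morphisms of algebraic stacks. -/

namespace Groth.Agent.Lib.helper4.AlgStQCMor
open Groth.Agent.FibEquiv FibCat Groth.Agent.Lib.helper4.FibPaste Groth.Agent.Lib.helper4.AlgStEquiv
open Groth.Agent.Lib.helper4.AlgStSetoid Groth.Agent.FibFpProj Groth.Agent.Lib.helper4.FibRep
open Groth.Agent.Lib.helper4.AlgStFpAlg Groth.Agent.Lib.helper4.AlgStDM Groth.Agent.Lib.helper4.AlgStSelf
open Groth.Agent.Lib.helper4.AlgStPts Groth.Agent.Lib.helper4.FibSwap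

variable {S : Scheme.{u}}

theorem isQuasiCompact_of_isEquivOver {𝒜 ℬ : AlgSt.Cat S} (E : 𝒜 ⥤ᵇ ℬ) (hE : IsEquivOver E)
    (h : AlgSt.IsQuasiCompact 𝒜) : AlgSt.IsQuasiCompact ℬ := by
  obtain ⟨U, x, hU, h1, h2⟩ := h
  refine ⟨U, BasedFunctor.comp x E, hU, ?_, ?_⟩
  · exact (repByAlgSpWith_iff_of_square _ (BasedFunctor.comp x E) x (BasedFunctor.id _) E
      (isEquivOver_id _) hE (Iso.refl _)).mpr h1
  · exact (repByAlgSpWith_iff_of_square _ (BasedFunctor.comp x E) x (BasedFunctor.id _) E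
      (isEquivOver_id _) hE (Iso.refl _)).mpr h2

theorem isQuasiCompact_of_isEquivOver' {𝒜 ℬ : AlgSt.Cat S} (E : 𝒜 ⥤ᵇ ℬ) (hE : IsEquivOver E)
    (h : AlgSt.IsQuasiCompact ℬ) : AlgSt.IsQuasiCompact 𝒜 := by
  obtain ⟨Ei, ⟨α⟩, ⟨β⟩⟩ := hE
  exact isQuasiCompact_of_isEquivOver Ei (isEquivOver_symm α β) h

section

variable {𝒳 𝒴 𝒵 : AlgSt.Cat S} (h𝒳 : AlgSt.IsAlgStack Scheme.fppfPrecoverage 𝒳)
  (h𝒴 : AlgSt.IsAlgStack Scheme.fppfPrecoverage 𝒴) (h𝒵 : AlgSt.IsAlgStack Scheme.fppfPrecoverage 𝒵)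

omit h𝒳 h𝒴 h𝒵 in
theorem isQuasiCompactMor_congr {f f' : 𝒳 ⥤ᵇ 𝒴} (e : f ≅ f')
    (h : AlgSt.IsQuasiCompactMor Scheme.fppfPrecoverage f) :
    AlgSt.IsQuasiCompactMor Scheme.fppfPrecoverage f' := by
  intro 𝒲 h𝒲 hqc a
  exact isQuasiCompact_of_isEquivOver (fpMap a a f f' (BasedFunctor.id _) (BasedFunctor.id _) (Iso.refl _) e)
    (fpMap_isEquivOver _ _ _ _ _ _ _ _ (isEquivOver_id' _) (isEquivOver_id' _)) (h 𝒲 h𝒲 hqc a)

include h𝒳 h𝒴 h𝒵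

/-- S12983 -/
theorem isQuasiCompactMor_comp (f : 𝒳 ⥤ᵇ 𝒴) (g : 𝒴 ⥤ᵇ 𝒵)
    (hf : AlgSt.IsQuasiCompactMor Scheme.fppfPrecoverage f)
    (hg : AlgSt.IsQuasiCompactMor Scheme.fppfPrecoverage g) :
    AlgSt.IsQuasiCompactMor Scheme.fppfPrecoverage (BasedFunctor.comp f g) := by
  intro 𝒲 h𝒲 hqc a
  have h1 : AlgSt.IsQuasiCompact (fp a g) := hg 𝒲 h𝒲 hqc a
  have h2 : AlgSt.IsAlgStack Scheme.fppfPrecoverage (fp a g) := isAlgStack_fp' h𝒲 h𝒴 h𝒵 a g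
  have h3 : AlgSt.IsQuasiCompact (fp (fpSnd a g) f) := hf _ h2 h1 (fpSnd a g)
  exact isQuasiCompact_of_isEquivOver (pasteR a g f) (pasteR_isEquivOver a g f) h3

/-- S12985 -/
theorem isQuasiCompactMor_of_isSurjective_of_triangle (f : 𝒳 ⥤ᵇ 𝒴) (p : 𝒳 ⥤ᵇ 𝒵) (q : 𝒴 ⥤ᵇ 𝒵)
    (e : BasedFunctor.comp f q ≅ p) (hf : AlgSt.IsSurjective f)
    (hp : AlgSt.IsQuasiCompactMor Scheme.fppfPrecoverage p) :
    AlgSt.IsQuasiCompactMor Scheme.fppfPrecoverage q := by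
  intro 𝒲 h𝒲 hqc a
  have hp' : AlgSt.IsQuasiCompactMor Scheme.fppfPrecoverage (BasedFunctor.comp f q) :=
    isQuasiCompactMor_congr e.symm hp
  have h1 : AlgSt.IsQuasiCompact (fp a (BasedFunctor.comp f q)) := hp' 𝒲 h𝒲 hqc a
  have h2 : AlgSt.IsAlgStack Scheme.fppfPrecoverage (fp a q) := isAlgStack_fp' h𝒲 h𝒴 h𝒵 a q
  have h3 : AlgSt.IsQuasiCompact (fp (fpSnd a q) f) :=
    isQuasiCompact_of_isEquivOver' (pasteR a q f) (pasteR_isEquivOver a q f) h1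
  have h4 : AlgSt.IsSurjective (fpFst (fpSnd a q) f) :=
    Groth.Agent.S12825.result h𝒳 h𝒴 h2 f (fpSnd a q) hf
  have h5 : AlgSt.IsAlgStack Scheme.fppfPrecoverage (fp (fpSnd a q) f) := isAlgStack_fp' h2 h𝒳 h𝒴 _ _
  exact isQuasiCompact_of_isSurjective h5.isStack.1 h2.isStack.1 h2.atlas _ h4 h3

end

end Groth.Agent.Lib.helper4.AlgStQCMor
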