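import Groth.Agent.Lib.Helper4.AlgStQCMor2
import Groth.Agent.Lib.Helper4.AlgStPts5
import Groth.Agent.Lib.Helper4.AlgStPts4
set_option autoImplicit false
set_option backward.isDefEq.respectTransparency false
set_option backward.isDefEq.respectTransparency.types false
set_option linter.unusedSectionVars false
set_option linter.style.haveILetI false
set_option linter.unusedVariables false
open CategoryTheory CategoryTheory.Functor CategoryTheory.Limits Opposite AlgebraicGeometry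
universe u

/-! Quasi-compactness of algebraic stacks and of morphisms of algebraic stacks, fppf locally on the target. -/

namespace Groth.Agent.Lib.helper4.AlgStQCMor
open Groth.Agent.FibEquiv FibCat Groth.Agent.Lib.helper4.FibPaste Groth.Agent.Lib.helper4.AlgStEquiv
open Groth.Agent.Lib.helper4.AlgStSetoid Groth.Agent.FibFpProj Groth.Agent.Lib.helper4.FibRep
open Groth.Agent.Lib.helper4.AlgStFpAlg Groth.Agent.Lib.helper4.AlgStDM Groth.Agent.Lib.helper4.AlgStSelf
open Groth.Agent.Lib.helper4.AlgStPts Groth.Agent.Lib.helper4.FibSwap Groth.Agent.Lib.helper4.AlgStSmLoc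
open Groth.Agent.Lib.helper4.AlgStQC Groth.Agent.Lib.helper4.PshDict Groth.Agent.Lib.helper4.PshRep
open Groth.Agent.Lib.helper4.PshPB Stk AlgSt

variable {S : Scheme.{u}}

theorem isQuasiCompact_overCat (Z : Over S) [CompactSpace ↥Z.left] : AlgSt.IsQuasiCompact (overCat Z) :=
  isQuasiCompact_of_isEquivOver' (toYon.{u + 1} Z) (toYon_isEquivOver Z)
    (isQuasiCompact_ofSp _ (Groth.Agent.Lib.helper7.AlgSpQC.isQuasiCompactSp_yon Z))

/-- **Q1**: an algebraic stack over a quasi-compact scheme `Z` is quasi-compact as soon as its base changes to the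
members of an affine cover of an fppf cover `V₀` of `Z` are -/
theorem isQuasiCompact_of_fppf_cover {𝒬 : AlgSt.Cat S} (h𝒬 : AlgSt.IsAlgStack Scheme.fppfPrecoverage 𝒬)
    (Z : Over S) [CompactSpace ↥Z.left] (m : 𝒬 ⥤ᵇ overCat Z) (V₀ : Over S) (c₀ : overCat V₀ ⥤ᵇ overCat Z)
    (hc₁ : AlgSt.RepByAlgSpWith (AlgSp.LocP @Flat) c₀)
    (hc₂ : AlgSt.RepByAlgSpWith (AlgSp.LocP @LocallyOfFinitePresentation) c₀)
    (hc₃ : AlgSt.RepByAlgSpWith AlgSp.IsSurjectiveMor c₀)
    (H : ∀ (V : Over S) (j : V ⟶ V₀), IsAffine V.left →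
      AlgSt.IsQuasiCompact (fp (BasedFunctor.comp (AlgSt.overMap j) c₀) m)) :
    AlgSt.IsQuasiCompact 𝒬 := by
  have hZf : IsFibGrpd (overCat Z).p := Groth.Agent.FibOver.isFibGrpd_overCat Z
  have h𝒬f : IsFibGrpd 𝒬.p := h𝒬.isStack.1
  have hZc : CompactSpace (AlgSt.Points (overCat Z)) :=
    compactSpace_points_of_isQuasiCompact hZf (isQuasiCompact_overCat Z)
  let 𝒰 := V₀.left.affineCover
  let Vv : 𝒰.I₀ → Over S := fun v => Over.mk (𝒰.f v ≫ V₀.hom)
  let jv : ∀ v, Vv v ⟶ V₀ := fun v => Over.homMk (𝒰.f v) rfl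
  have hopenmap : IsOpenMap (Points.ofChart c₀) := isOpenMap_ofChart_fppf hZf c₀ hc₁ hc₂
  have hopen : ∀ v, IsOpen (Points.ofChart c₀ '' Set.range (𝒰.f v)) := fun v =>
    hopenmap _ (𝒰.f v).isOpenEmbedding.isOpen_range
  have hsurj : Function.Surjective (Points.ofChart c₀) := ofChart_surjective hZf c₀ hc₃
  obtain ⟨s, hs⟩ := isCompact_univ.elim_finite_subcover
    (fun v => Points.ofChart c₀ '' Set.range (𝒰.f v)) hopen (by
      intro z _
      obtain ⟨t, rfl⟩ := hsurj z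
      obtain ⟨v, t', ht'⟩ := 𝒰.exists_eq t
      exact Set.mem_iUnion.mpr ⟨v, t, ⟨t', ht'⟩, rfl⟩)
  have hVf : ∀ v, IsFibGrpd (overCat (Vv v)).p := fun v => Groth.Agent.FibOver.isFibGrpd_overCat _
  have hfpAlg : ∀ v, AlgSt.IsAlgStack Scheme.fppfPrecoverage
      (fp (BasedFunctor.comp (AlgSt.overMap (jv v)) c₀) m) := fun v =>
    isAlgStack_fp' (isAlgStack_overCat _) h𝒬 (isAlgStack_overCat Z) _ _
  have hcomp : ∀ v, IsCompact (Set.range (Points.map (fpSnd (BasedFunctor.comp (AlgSt.overMap (jv v)) c₀) m))) := by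
    intro v
    have hq : AlgSt.IsQuasiCompact (fp (BasedFunctor.comp (AlgSt.overMap (jv v)) c₀) m) :=
      H (Vv v) (jv v) (by change IsAffine (𝒰.X v); infer_instance)
    have := compactSpace_points_of_isQuasiCompact (hfpAlg v).isStack.1 hq
    exact isCompact_range (continuous_map h𝒬f h𝒬.atlas _)
  have hcs : CompactSpace (AlgSt.Points 𝒬) := by
    constructor
    have : (Set.univ : Set (AlgSt.Points 𝒬)) =
        ⋃ v ∈ s, Set.range (Points.map (fpSnd (BasedFunctor.comp (AlgSt.overMap (jv v)) c₀) m)) := by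
      symm
      rw [Set.eq_univ_iff_forall]
      intro ξ
      have := hs (Set.mem_univ (Points.map m ξ))
      simp only [Set.mem_iUnion] at this
      obtain ⟨v, hv, t, ⟨t', ht'⟩, hz⟩ := this
      have e1 : Points.map (BasedFunctor.comp (AlgSt.overMap (jv v)) c₀)
          (Points.ofChart (BasedFunctor.id (overCat (Vv v))) t') = Points.map m ξ := by
        rw [map_ofChart]
        change Points.ofChart (BasedFunctor.comp (AlgSt.overMap (jv v)) c₀) t' = _
        rw [ofChart_overMap, ← hz]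
        change Points.ofChart c₀ ((𝒰.f v) t') = _
        rw [ht']
      obtain ⟨w, -, hw⟩ := exists_points_fp h𝒬f hZf (hVf v) m
        (BasedFunctor.comp (AlgSt.overMap (jv v)) c₀) _ ξ e1
      exact Set.mem_iUnion₂.mpr ⟨v, hv, w, hw⟩
    rw [this]
    exact s.isCompact_biUnion fun v _ => hcomp v
  exact isQuasiCompact_of_compactSpace_points h𝒬f h𝒬.atlas

section Descent

variable {𝒳 𝒴 : AlgSt.Cat S} (h𝒳 : AlgSt.IsAlgStack Scheme.fppfPrecoverage 𝒳)
  (h𝒴 : AlgSt.IsAlgStack Scheme.fppfPrecoverage 𝒴) (f : 𝒳 ⥤ᵇ 𝒴)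
include h𝒳 h𝒴

/-- quasi-compactness of a morphism of algebraic stacks can be tested on affine schemes -/
theorem isQuasiCompactMor_of_affine
    (H : ∀ (Z : Over S) (y : overCat Z ⥤ᵇ 𝒴), IsAffine Z.left → AlgSt.IsQuasiCompact (fp y f)) :
    AlgSt.IsQuasiCompactMor Scheme.fppfPrecoverage f := by
  intro 𝒲 h𝒲 hqc a
  obtain ⟨Z, z₀, hZ, hz, hzs⟩ := hqc
  have hZf : IsFibGrpd (overCat Z).p := Groth.Agent.FibOver.isFibGrpd_overCat Z
  have h1 : AlgSt.IsQuasiCompact (fp (BasedFunctor.comp z₀ a) f) := H Z _ hZ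
  have h2 : AlgSt.IsQuasiCompact (fp z₀ (fpFst a f)) :=
    isQuasiCompact_of_isEquivOver' (pasteL z₀ a f) (pasteL_isEquivOver z₀ a f) h1
  have hfpa : AlgSt.IsAlgStack Scheme.fppfPrecoverage (fp a f) := isAlgStack_fp' h𝒲 h𝒳 h𝒴 a f
  have hs : AlgSt.RepByAlgSpWith AlgSp.IsSurjectiveMor (fpSnd z₀ (fpFst a f)) :=
    repByAlgSpWith_fpSnd hfpa.isStack.1 h𝒲.isStack.1 hZf _ z₀ (fpFst a f) hzs
  have hs' : AlgSt.IsSurjective (fpSnd z₀ (fpFst a f)) :=
    isSurjective_of_repByAlgSpWith hfpa.isStack.1 _ hs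
  have hfp2 : AlgSt.IsAlgStack Scheme.fppfPrecoverage (fp z₀ (fpFst a f)) :=
    isAlgStack_fp' (isAlgStack_overCat Z) hfpa h𝒲 _ _
  exact isQuasiCompact_of_isSurjective hfp2.isStack.1 hfpa.isStack.1 hfpa.atlas _ hs' h2

/-- S12989 -/
theorem isQuasiCompactMor_of_fpFst_cover (W : AlgSp.Space S) (w : AlgSt.ofSp W.obj ⥤ᵇ 𝒴)
    (hw₁ : AlgSt.RepByAlgSpWith (AlgSp.LocP @Flat) w)
    (hw₂ : AlgSt.RepByAlgSpWith (AlgSp.LocP @LocallyOfFinitePresentation) w)
    (hw₃ : AlgSt.RepByAlgSpWith AlgSp.IsSurjectiveMor w)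
    (hq : AlgSt.IsQuasiCompactMor Scheme.fppfPrecoverage (fpFst w f)) :
    AlgSt.IsQuasiCompactMor Scheme.fppfPrecoverage f := by
  apply isQuasiCompactMor_of_affine h𝒳 h𝒴 f
  intro Z y hZ
  have : IsAffine Z.left := hZ
  have hZf : IsFibGrpd (overCat Z).p := Groth.Agent.FibOver.isFibGrpd_overCat Z
  have hWf : IsFibGrpd (AlgSt.ofSp W.obj).p := isFibGrpd_ofPsh _
  have h𝒴f : IsFibGrpd 𝒴.p := h𝒴.isStack.1
  obtain ⟨Z'', e'', he'', -⟩ := hw₁ Z y
  obtain ⟨V₀, p, hp1, hp2⟩ := Z''.property.atlas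
  have hV₀f : IsFibGrpd (overCat V₀).p := Groth.Agent.FibOver.isFibGrpd_overCat V₀
  have hfyw : IsFibGrpd (fp y w).p := isFibGrpd_fp _ _ hZf hWf h𝒴f
  have hb₁ : AlgSt.RepByAlgSpWith (AlgSp.LocP @Flat) (BasedFunctor.comp (ofMap p) e'') :=
    (repByAlgSpWith_iff_of_square _ (BasedFunctor.comp (ofMap p) e'') (ofMap p) (BasedFunctor.id _) e''
      (isEquivOver_id _) he'' (Iso.refl _)).mpr
      (locP_ofMap _ (fun g hg => by
        have : Etale g := hg
        exact (inferInstance : Flat g)) p hp1)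
  have hb₂ : AlgSt.RepByAlgSpWith (AlgSp.LocP @LocallyOfFinitePresentation)
      (BasedFunctor.comp (ofMap p) e'') :=
    (repByAlgSpWith_iff_of_square _ (BasedFunctor.comp (ofMap p) e'') (ofMap p) (BasedFunctor.id _) e''
      (isEquivOver_id _) he'' (Iso.refl _)).mpr
      (locP_ofMap _ (fun g hg => by
        have : Etale g := hg
        exact (inferInstance : LocallyOfFinitePresentation g)) p hp1)
  have hb₃ : AlgSt.RepByAlgSpWith AlgSp.IsSurjectiveMor (BasedFunctor.comp (ofMap p) e'') :=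
    (repByAlgSpWith_iff_of_square _ (BasedFunctor.comp (ofMap p) e'') (ofMap p) (BasedFunctor.id _) e''
      (isEquivOver_id _) he'' (Iso.refl _)).mpr (surj_ofMap p hp2)
  have hc₁ := flat_comp hV₀f hfyw hZf (BasedFunctor.comp (ofMap p) e'') (fpFst y w) hb₁
    (Groth.Agent.S12779.result hWf h𝒴f hZf _ w y hw₁)
  have hc₂ := lfp_comp hV₀f hfyw hZf (BasedFunctor.comp (ofMap p) e'') (fpFst y w) hb₂
    (Groth.Agent.S12779.result hWf h𝒴f hZf _ w y hw₂)
  have hc₃ := surj_comp hV₀f hfyw hZf (BasedFunctor.comp (ofMap p) e'') (fpFst y w) hb₃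
    (Groth.Agent.S12779.result hWf h𝒴f hZf _ w y hw₃)
  refine isQuasiCompact_of_fppf_cover (isAlgStack_fp' (isAlgStack_overCat Z) h𝒳 h𝒴 y f) Z (fpFst y f) V₀
    (BasedFunctor.comp (BasedFunctor.comp (ofMap p) e'') (fpFst y w)) hc₁ hc₂ hc₃ ?_
  intro V j hV
  have : IsAffine V.left := hV
  let b : overCat V ⥤ᵇ fp y w := BasedFunctor.comp (AlgSt.overMap j) (BasedFunctor.comp (ofMap p) e'')
  have q1 : AlgSt.IsQuasiCompact (fp (BasedFunctor.comp b (fpSnd y w)) (fpFst w f)) :=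
    hq _ (isAlgStack_overCat V) (isQuasiCompact_overCat V) _
  have q2 : AlgSt.IsQuasiCompact (fp (BasedFunctor.comp (BasedFunctor.comp b (fpSnd y w)) w) f) :=
    isQuasiCompact_of_isEquivOver (pasteL _ w f) (pasteL_isEquivOver _ w f) q1
  have q3 : AlgSt.IsQuasiCompact (fp (BasedFunctor.comp (BasedFunctor.comp b (fpFst y w)) y) f) :=
    isQuasiCompact_of_isEquivOver
      (fpMap (BasedFunctor.comp (BasedFunctor.comp b (fpSnd y w)) w)
        (BasedFunctor.comp (BasedFunctor.comp b (fpFst y w)) y) f f (BasedFunctor.id _) (BasedFunctor.id _)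
        (whiskerLeftIso b (fpIso y w)).symm (Iso.refl _))
      (fpMap_isEquivOver _ _ _ _ _ _ _ _ (isEquivOver_id' _) (isEquivOver_id' _)) q2
  exact isQuasiCompact_of_isEquivOver' (pasteL _ y f) (pasteL_isEquivOver _ y f) q3

end Descent

end Groth.Agent.Lib.helper4.AlgStQCMor
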