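import Groth.Agent.Lib.Helper4.FibProd
import Groth.Agent.Lib.Helper4.AlgStDiag
set_option autoImplicit false
set_option backward.isDefEq.respectTransparency false
set_option backward.isDefEq.respectTransparency.types false
set_option linter.unusedSectionVars false
set_option linter.style.haveILetI false
open CategoryTheory CategoryTheory.Functor CategoryTheory.Limits
universe v₂ u₂ v u

/-! `C/(V × U) ≃ C/V ×_C C/U`, and `(H ∘ pr₁, G ∘ pr₂)` as a product of morphisms. -/

namespace Groth.Agent.Lib.helper4.FibOverProd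
open Groth.Agent.FibEquiv Groth.Agent.Lib.helper4.FibPaste Groth.Agent.Lib.helper4.FibRep FibCat
open Groth.Agent.Lib.helper4.FibProd Groth.Agent.Lib.helper4.AlgStDiag

variable {C : Type u} [Category.{v} C] [HasBinaryProducts C] (V U : C)

/-- `C/(V × U) ⟶ C/V ×_C C/U` -/
noncomputable def toPrd : overCat (V ⨯ U) ⥤ᵇ prd (overCat V) (overCat U) :=
  fpLift (prj₁ V U) (prj₂ V U) (eqToIso (toSelf_unique _ _))

instance toPrd_faithful : (toPrd V U).toFunctor.Faithful where
  map_injective {c c'} m m' h := by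
    have h1 : (prj₁ V U).toFunctor.map m = (prj₁ V U).toFunctor.map m' :=
      congrArg (fun k => k.hom.fst) h
    apply Over.OverMorphism.ext
    exact congrArg (fun k => k.left) h1

instance toPrd_full : (toPrd V U).toFunctor.Full where
  map_surjective {c c'} n := by
    let n₁ : (prj₁ V U).toFunctor.obj c ⟶ (prj₁ V U).toFunctor.obj c' := n.hom.fst
    let n₂ : (prj₂ V U).toFunctor.obj c ⟶ (prj₂ V U).toFunctor.obj c' := n.hom.snd
    have hn₂ : (overCat U).p.IsHomLift n₁.left n₂ :=
      fp_isHomLift_snd (toSelf (overCat V)) (toSelf (overCat U)) n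
    have hn₂' : n₂.left = n₁.left := by
      have := IsHomLift.fac' (overCat U).p n₁.left n₂
      rw [eqToHom_refl, eqToHom_refl, Category.id_comp, Category.comp_id] at this
      exact this
    have e₁ : n₁.left ≫ c'.hom ≫ prod.fst = c.hom ≫ prod.fst := Over.w n₁
    have e₂ : n₁.left ≫ c'.hom ≫ prod.snd = c.hom ≫ prod.snd := by
      rw [← hn₂']; exact Over.w n₂
    let m₁ : c ⟶ c' := Over.homMk n₁.left (by
      apply Limits.prod.hom_ext
      · rw [Category.assoc]; exact e₁
      · rw [Category.assoc]; exact e₂)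
    refine ⟨m₁, ?_⟩
    apply prd_hom_ext
    · apply Over.OverMorphism.ext; rfl
    · apply Over.OverMorphism.ext; exact hn₂'.symm

theorem toPrd_isEquivOver : IsEquivOver (toPrd V U) := by
  apply isEquivOver_of
  intro η
  let a : Over V := η.obj.fst
  let b : Over U := η.obj.snd
  have hb : b.left = a.left := fp_snd_obj (toSelf (overCat V)) (toSelf (overCat U)) η
  let c : Over (V ⨯ U) := Over.mk (prod.lift a.hom (eqToHom hb.symm ≫ b.hom))
  let ia : (prj₁ V U).toFunctor.obj c ≅ a := Over.isoMk (Iso.refl _) (by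
    change 𝟙 _ ≫ a.hom = prod.lift a.hom (eqToHom hb.symm ≫ b.hom) ≫ prod.fst
    rw [Category.id_comp, prod.lift_fst])
  let ib : (prj₂ V U).toFunctor.obj c ≅ b := Over.isoMk (eqToIso hb.symm) (by
    change eqToHom hb.symm ≫ b.hom = prod.lift a.hom (eqToHom hb.symm ≫ b.hom) ≫ prod.snd
    rw [prod.lift_snd])
  have hia : (overCat V).p.IsHomLift (𝟙 a.left) ia.hom :=
    Groth.Agent.FibYoneda.hom_isHomLift ia.hom
  have hib : (overCat U).p.IsHomLift (𝟙 a.left) ib.hom := by
    have h0 : (overCat U).p.IsHomLift (eqToHom hb.symm) ib.hom :=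
      Groth.Agent.FibYoneda.hom_isHomLift ib.hom
    have h1 : (overCat U).p.IsHomLift (𝟙 a.left ≫ eqToHom hb.symm) ib.hom := by
      rw [Category.id_comp]; exact h0
    exact (IsHomLift.lift_comp_eqToHom_iff (overCat U).p (𝟙 a.left) ib.hom hb.symm).mp h1
  refine ⟨c, prdIsoMk (X := (toPrd V U).toFunctor.obj c) (Y := η) a.left ia ib hia hib, ?_⟩
  exact prdIsoMk_isHomLift (X := (toPrd V U).toFunctor.obj c) (Y := η) a.left ia ib hia hib

variable {V U} {𝒮 : BasedCategory.{v₂, u₂} C} (H : overCat V ⥤ᵇ 𝒮) (G : overCat U ⥤ᵇ 𝒮)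

/-- `(H ∘ pr₁, G ∘ pr₂)` is `H × G` up to the equivalence `C/(V × U) ≃ C/V ×_C C/U` -/
noncomputable def pairKIso :
    pairK H G ≅ BasedFunctor.comp (toPrd V U) (prodMapE H G (canIso H G)) :=
  sqFunctorIso _ _ (Iso.refl _) (Iso.refl _)

end Groth.Agent.Lib.helper4.FibOverProd
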