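import Groth.Agent.Lib.Helper4.AlgStQCMor3
import Groth.Agent.Lib.Helper4.FibOverProd
import Groth.Agent.S12954
import Groth.Agent.S12955
import Groth.Agent.S12959
set_option autoImplicit false
set_option backward.isDefEq.respectTransparency false
set_option backward.isDefEq.respectTransparency.types false
set_option linter.unusedSectionVars false
set_option linter.style.haveILetI false
set_option linter.unusedVariables false
open CategoryTheory CategoryTheory.Functor CategoryTheory.Limits Opposite AlgebraicGeometry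
universe u

/-! Quasi-compact and quasi-separated algebraic stacks over a quasi-separated base. -/

namespace Groth.Agent.Lib.helper4.AlgStQCMor
open Groth.Agent.FibEquiv FibCat Groth.Agent.Lib.helper4.FibPaste Groth.Agent.Lib.helper4.AlgStEquiv
open Groth.Agent.Lib.helper4.AlgStSetoid Groth.Agent.FibFpProj Groth.Agent.Lib.helper4.FibRep
open Groth.Agent.Lib.helper4.AlgStFpAlg Groth.Agent.Lib.helper4.AlgStDM Groth.Agent.Lib.helper4.AlgStSelf
open Groth.Agent.Lib.helper4.AlgStPts Groth.Agent.Lib.helper4.FibSwap Groth.Agent.Lib.helper4.AlgStSmLoc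
open Groth.Agent.Lib.helper4.AlgStQC Groth.Agent.Lib.helper4.FibProd Groth.Agent.Lib.helper4.FibOverProd
open Stk AlgSt

variable {S : Scheme.{u}}

/-- the product over a quasi-separated base of two quasi-compact schemes is quasi-compact -/
theorem compactSpace_prod_left [QuasiSeparatedSpace S] (Z U : Over S) [CompactSpace ↥Z.left]
    [CompactSpace ↥U.left] : CompactSpace ↥(Z ⨯ U).left := by
  have : CompactSpace ↥(pullback Z.hom U.hom) := inferInstance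
  exact (Over.prodLeftIsoPullback Z U).symm.hom.homeomorph.compactSpace

theorem isQuasiCompact_prd_overCat [QuasiSeparatedSpace S] (Z U : Over S) [CompactSpace ↥Z.left]
    [CompactSpace ↥U.left] : AlgSt.IsQuasiCompact (prd (overCat Z) (overCat U)) := by
  have := compactSpace_prod_left Z U
  exact isQuasiCompact_of_isEquivOver (toPrd Z U) (toPrd_isEquivOver Z U) (isQuasiCompact_overCat (Z ⨯ U))

/-- a quasi-compact algebraic stack over a quasi-separated base is quasi-compact over the base -/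
theorem isQuasiCompactMor_toSelf [QuasiSeparatedSpace S] {𝒳 : AlgSt.Cat S}
    (h𝒳 : AlgSt.IsAlgStack Scheme.fppfPrecoverage 𝒳) (hqc : AlgSt.IsQuasiCompact 𝒳) :
    AlgSt.IsQuasiCompactMor Scheme.fppfPrecoverage (toSelf 𝒳) := by
  apply isQuasiCompactMor_of_affine h𝒳 isAlgStack_selfOver
  intro Z y hZ
  have : IsAffine Z.left := hZ
  obtain ⟨U, x, hU, hx, hxs⟩ := hqc
  have : IsAffine U.left := hU
  obtain rfl : y = toSelf (overCat Z) := toSelf_unique _ _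
  have hUf : IsFibGrpd (overCat U).p := Groth.Agent.FibOver.isFibGrpd_overCat U
  have h𝒳f : IsFibGrpd 𝒳.p := h𝒳.isStack.1
  have hA : AlgSt.IsAlgStack Scheme.fppfPrecoverage (fp (toSelf (overCat Z)) (toSelf 𝒳)) :=
    isAlgStack_fp' (isAlgStack_overCat Z) h𝒳 isAlgStack_selfOver _ _
  have hs : AlgSt.RepByAlgSpWith AlgSp.IsSurjectiveMor
      (fpFst (fpSnd (toSelf (overCat Z)) (toSelf 𝒳)) x) :=
    Groth.Agent.S12779.result hUf h𝒳f hA.isStack.1 _ x _ hxs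
  have hs' : AlgSt.IsSurjective (fpFst (fpSnd (toSelf (overCat Z)) (toSelf 𝒳)) x) :=
    isSurjective_of_repByAlgSpWith hA.isStack.1 _ hs
  have hB : AlgSt.IsAlgStack Scheme.fppfPrecoverage (fp (fpSnd (toSelf (overCat Z)) (toSelf 𝒳)) x) :=
    isAlgStack_fp' hA (isAlgStack_overCat U) h𝒳 _ _
  have e : BasedFunctor.comp x (toSelf 𝒳) = toSelf (overCat U) := toSelf_unique _ _
  have h1 : AlgSt.IsQuasiCompact (fp (toSelf (overCat Z)) (BasedFunctor.comp x (toSelf 𝒳))) := by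
    rw [e]
    exact isQuasiCompact_prd_overCat Z U
  have h2 : AlgSt.IsQuasiCompact (fp (fpSnd (toSelf (overCat Z)) (toSelf 𝒳)) x) :=
    isQuasiCompact_of_isEquivOver' (pasteR _ (toSelf 𝒳) x) (pasteR_isEquivOver _ (toSelf 𝒳) x) h1
  exact isQuasiCompact_of_isSurjective hB.isStack.1 hA.isStack.1 hA.atlas _ hs' h2

/-- S12987 -/
theorem isQuasiCompactMor_of_isQuasiCompact [QuasiSeparatedSpace S] {𝒳 𝒴 : AlgSt.Cat S}
    (h𝒳 : AlgSt.IsAlgStack Scheme.fppfPrecoverage 𝒳) (h𝒴 : AlgSt.IsAlgStack Scheme.fppfPrecoverage 𝒴)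
    (f : 𝒳 ⥤ᵇ 𝒴) (hqc : AlgSt.IsQuasiCompact 𝒳) (hqs : AlgSt.IsQuasiSeparatedOver 𝒴) :
    AlgSt.IsQuasiCompactMor Scheme.fppfPrecoverage f := by
  have e : BasedFunctor.comp f (toSelf 𝒴) = toSelf 𝒳 := toSelf_unique _ _
  have h1 : AlgSt.IsQuasiCompactMor Scheme.fppfPrecoverage (BasedFunctor.comp f (toSelf 𝒴)) := by
    rw [e]; exact isQuasiCompactMor_toSelf h𝒳 hqc
  exact isQuasiCompactMor_of_comp h𝒳 h𝒴 isAlgStack_selfOver f (toSelf 𝒴) h1
    (Groth.Agent.Lib.helper4.AlgStCancel.repByAlgSpWith_mono _ (fun F T π hπ => hπ.1) hqs)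

/-- the source of a quasi-compact morphism to a quasi-compact algebraic stack is quasi-compact -/
theorem isQuasiCompact_of_isQuasiCompactMor {𝒜 ℬ : AlgSt.Cat S}
    (hℬ : AlgSt.IsAlgStack Scheme.fppfPrecoverage ℬ) (m : 𝒜 ⥤ᵇ ℬ)
    (hm : AlgSt.IsQuasiCompactMor Scheme.fppfPrecoverage m) (hqc : AlgSt.IsQuasiCompact ℬ) :
    AlgSt.IsQuasiCompact 𝒜 :=
  isQuasiCompact_of_isEquivOver (fpSnd (BasedFunctor.id ℬ) m)
    (Groth.Agent.Lib.helper4.AlgStGraph.fpSnd_id_isEquivOver m) (hm ℬ hℬ hqc (BasedFunctor.id ℬ))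

/-- S12988 -/
theorem qcqs_fp [QuasiSeparatedSpace S] {𝒳 𝒴 𝒵 : AlgSt.Cat S}
    (h𝒳 : AlgSt.IsAlgStack Scheme.fppfPrecoverage 𝒳) (h𝒴 : AlgSt.IsAlgStack Scheme.fppfPrecoverage 𝒴)
    (h𝒵 : AlgSt.IsAlgStack Scheme.fppfPrecoverage 𝒵) (a : 𝒳 ⥤ᵇ 𝒴) (b : 𝒵 ⥤ᵇ 𝒴)
    (hX₁ : AlgSt.IsQuasiCompact 𝒳) (hX₂ : AlgSt.IsQuasiSeparatedOver 𝒳)
    (hY₂ : AlgSt.IsQuasiSeparatedOver 𝒴)
    (hZ₁ : AlgSt.IsQuasiCompact 𝒵) (hZ₂ : AlgSt.IsQuasiSeparatedOver 𝒵) :
    AlgSt.IsQuasiCompact (fp a b) ∧ AlgSt.IsQuasiSeparatedOver (fp a b) := by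
  have hfp : AlgSt.IsAlgStack Scheme.fppfPrecoverage (fp a b) := isAlgStack_fp' h𝒳 h𝒵 h𝒴 a b
  constructor
  · have hb : AlgSt.IsQuasiCompactMor Scheme.fppfPrecoverage b :=
      isQuasiCompactMor_of_isQuasiCompact h𝒵 h𝒴 b hZ₁ hY₂
    have h1 : AlgSt.IsQuasiCompactMor Scheme.fppfPrecoverage (fpFst a b) :=
      Groth.Agent.S12982.result S 𝒵 𝒴 𝒳 h𝒵 h𝒴 h𝒳 b a hb
    exact isQuasiCompact_of_isQuasiCompactMor h𝒳 (fpFst a b) h1 hX₁
  · have e : BasedFunctor.comp b (toSelf 𝒴) = toSelf 𝒵 := toSelf_unique _ _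
    have hb0 : AlgSt.IsQuasiSeparatedMor (BasedFunctor.comp b (toSelf 𝒴)) := by
      rw [e]; exact hZ₂
    have hb : AlgSt.IsQuasiSeparatedMor b :=
      Groth.Agent.S12959.result S 𝒵 𝒴 _ h𝒵 h𝒴 isAlgStack_selfOver b (toSelf 𝒴) hb0
        (Groth.Agent.Lib.helper4.AlgStCancel.repByAlgSpWith_mono _ (fun F T π hπ => hπ.2) hY₂)
    have h1 : AlgSt.IsQuasiSeparatedMor (fpFst a b) :=
      Groth.Agent.S12954.result S 𝒵 𝒴 𝒳 h𝒵 h𝒴 h𝒳 b a hb
    have h2 : AlgSt.IsQuasiSeparatedMor (BasedFunctor.comp (fpFst a b) (toSelf 𝒳)) :=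
      Groth.Agent.S12955.result S _ 𝒳 _ hfp h𝒳 isAlgStack_selfOver (fpFst a b) (toSelf 𝒳) h1 hX₂
    have e2 : BasedFunctor.comp (fpFst a b) (toSelf 𝒳) = toSelf (fp a b) := toSelf_unique _ _
    change AlgSt.IsQuasiSeparatedMor (toSelf (fp a b))
    rw [← e2]; exact h2

end Groth.Agent.Lib.helper4.AlgStQCMor
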