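import Groth.Agent.Lib.Helper4.AlgStNoethImm
import Groth.Agent.Lib.Helper4.AlgStOpenSub6
import Groth.Agent.Lib.Helper4.AlgStQCMor4
set_option autoImplicit false
set_option backward.isDefEq.respectTransparency false
set_option backward.isDefEq.respectTransparency.types false
set_option linter.unusedSectionVars false
set_option linter.style.haveILetI false
set_option linter.unusedVariables false
open CategoryTheory CategoryTheory.Functor CategoryTheory.Limits Opposite AlgebraicGeometry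
universe u

/-! Quasi-compact open substacks: every quasi-compact subset of the space of points lies in a
quasi-compact open substack; quasi-compactness of a morphism is tested on quasi-compact open
substacks of the target. -/

namespace Groth.Agent.Lib.helper4.AlgStQCOpen
open Groth.Agent.Lib.helper4.AlgStLocQ
open Groth.Agent.FibEquiv Groth.Agent.FibYoneda FibCat Groth.Agent.Lib.helper4.FibPaste
open Groth.Agent.Lib.helper4.AlgStEquiv Groth.Agent.Lib.helper4.AlgStRep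
open Groth.Agent.Lib.helper4.AlgStSetoid Groth.Agent.FibFpProj Groth.Agent.Lib.helper4.FibRep
open Groth.Agent.Lib.helper4.AlgStFpAlg Groth.Agent.Lib.helper4.AlgStDM Groth.Agent.Lib.helper4.AlgStSelf
open Groth.Agent.Lib.helper4.AlgStPts Groth.Agent.Lib.helper4.FibSwap Groth.Agent.Lib.helper4.AlgStSmLoc
open Groth.Agent.Lib.helper4.AlgStQC Groth.Agent.Lib.helper4.PshDict Groth.Agent.Lib.helper4.PshRep
open Groth.Agent.Lib.helper4.PshPB Groth.Agent.Lib.helper4.AlgStQCMor Groth.Agent.Lib.helper4.PointsBasic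
open Groth.Agent.Lib.helper4.AlgStDescent Groth.Agent.Lib.helper4.AlgStCoreA
open Groth.Agent.Lib.helper4.AlgStSource Groth.Agent.Lib.helper4.AlgStGraph
open Groth.Agent.Lib.helper4.SmLocalST Groth.Agent.Lib.helper5.LocPBC
open Groth.Agent.Lib.helper4.AlgStOpenSub Groth.Agent.Lib.helper4.StkSub
open Stk AlgSt

variable {S : Scheme.{u}}

section Top

variable {𝒴 : AlgSt.Cat S} (h𝒴 : AlgSt.IsAlgStack Scheme.fppfPrecoverage 𝒴)
include h𝒴

/-- a quasi-compact subset of the space of points lies in a quasi-compact open subset -/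
theorem exists_open_compact_superset (K : Set (AlgSt.Points 𝒴)) (hK : IsCompact K) :
    ∃ T : Set (AlgSt.Points 𝒴), IsOpen T ∧ IsCompact T ∧ K ⊆ T := by
  classical
  have h : ∀ x : AlgSt.Points 𝒴, ∃ V : Set (AlgSt.Points 𝒴), IsOpen V ∧ IsCompact V ∧ x ∈ V := by
    intro x
    obtain ⟨V, h1, h2, h3, -⟩ := exists_isOpen_isCompact_nhd h𝒴.isStack.1 h𝒴.atlas x Set.univ
      isOpen_univ trivial
    exact ⟨V, h1, h2, h3⟩
  choose V hVo hVc hxV using h
  obtain ⟨t, -, ht⟩ := hK.elim_nhds_subcover V (fun x _ => (hVo x).mem_nhds (hxV x))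
  exact ⟨⋃ x ∈ t, V x, isOpen_biUnion fun x _ => hVo x, t.isCompact_biUnion fun x _ => hVc x, ht⟩

/-- the open substack on a quasi-compact open set of points is quasi-compact -/
theorem isQuasiCompact_fullSub_QT (T : Set (AlgSt.Points 𝒴)) (hTo : IsOpen T) (hTc : IsCompact T) :
    AlgSt.IsQuasiCompact (AlgSt.fullSub 𝒴 (QT T)) := by
  have h𝒴' : AlgSt.IsAlgStack Scheme.fppfPrecoverage (AlgSt.fullSub 𝒴 (QT T)) :=
    isAlgStack_fullSub_QT h𝒴 T hTo
  rw [isQuasiCompact_iff_compactSpace_points h𝒴'.isStack.1 h𝒴'.atlas]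
  have hc : Continuous (Points.map (AlgSt.subIncl 𝒴 (QT T))) :=
    continuous_map h𝒴.isStack.1 h𝒴.atlas _
  have hi : Function.Injective (Points.map (AlgSt.subIncl 𝒴 (QT T))) :=
    map_subIncl_injective h𝒴.isStack.1 (QT T) (fun y x φ hx => QT_of_hom φ hx)
  have ho : IsOpenMap (Points.map (AlgSt.subIncl 𝒴 (QT T))) :=
    isOpenMor_of_isOpenImm h𝒴' h𝒴 _ (isOpenImm_subIncl_QT h𝒴 T hTo)
  have hemb := Topology.IsOpenEmbedding.of_continuous_injective_isOpenMap hc hi ho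
  refine ⟨(hemb.isInducing.isCompact_iff).2 ?_⟩
  rw [Set.image_univ, range_subIncl_QT]
  exact hTc

end Top

section QS

/-- separated with quasi-compact … implies quasi-compact and quasi-separated, for the diagonal -/
theorem isQuasiSeparatedOver_of_diag {𝒴 : AlgSt.Cat S}
    (h𝒴d : AlgSt.RepByAlgSpWith (AlgSp.IsSeparatedMor ⊓ AlgSp.IsQuasiCompactMor)
      (FibCat.diag (FibCat.toSelf 𝒴))) : AlgSt.IsQuasiSeparatedOver 𝒴 := by
  refine Groth.Agent.Lib.helper4.AlgStCancel.repByAlgSpWith_mono _ ?_ h𝒴d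
  intro F T π hπ
  refine ⟨hπ.2, ?_⟩
  have h1 : AlgSp.RepWith @IsClosedImmersion (pullback.diagonal π) := hπ.1
  obtain ⟨hrep, hq⟩ := (AlgSp.repWith_iff _ _).1 h1
  exact (AlgSp.repWith_iff _ _).2 ⟨hrep, fun U V g fst snd sq => by
    have := hq g fst snd sq
    infer_instance⟩

/-- an open substack of a quasi-separated algebraic stack is quasi-separated -/
theorem isQuasiSeparatedOver_of_isOpenImm {𝒳 𝒴 : AlgSt.Cat S}
    (h𝒳 : AlgSt.IsAlgStack Scheme.fppfPrecoverage 𝒳) (h𝒴 : AlgSt.IsAlgStack Scheme.fppfPrecoverage 𝒴)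
    (j : 𝒳 ⥤ᵇ 𝒴) (hj : AlgSt.IsOpenImm j) (hqs : AlgSt.IsQuasiSeparatedOver 𝒴) :
    AlgSt.IsQuasiSeparatedOver 𝒳 := by
  have hj' : AlgSt.IsImm j := by
    refine Groth.Agent.Lib.helper4.AlgStCancel.repByAlgSpWith_mono _ ?_ hj
    intro F T π hπ
    obtain ⟨hrep, hq⟩ := (AlgSp.repWith_iff _ _).1 hπ
    exact (AlgSp.repWith_iff _ _).2 ⟨hrep, fun U V g fst snd sq => by
      have := hq g fst snd sq
      infer_instance⟩
  have h3 : AlgSt.IsQuasiSeparatedMor (BasedFunctor.comp j (toSelf 𝒴)) :=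
    Groth.Agent.Lib.helper4.AlgStDiagComp.isQuasiSeparatedMor_comp' h𝒳.isStack.1 h𝒴.isStack.1
      isFibGrpd_selfOver j (toSelf 𝒴)
      (Groth.Agent.Lib.helper4.AlgStNoethImm.isQuasiSeparatedMor_of_isImm h𝒳 h𝒴 j hj') hqs
  have h4 : BasedFunctor.comp j (toSelf 𝒴) = toSelf 𝒳 := Groth.Agent.Lib.helper4.FibRep.toSelf_unique _ _
  rw [h4] at h3
  exact h3

end QS

section Main

variable [QuasiSeparatedSpace S] {𝒳 𝒴 : AlgSt.Cat S} (h𝒳 : AlgSt.IsAlgStack Scheme.fppfPrecoverage 𝒳)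
  (h𝒴 : AlgSt.IsAlgStack Scheme.fppfPrecoverage 𝒴) (f : 𝒳 ⥤ᵇ 𝒴)
include h𝒳 h𝒴

/-- quasi-compactness of a morphism to a quasi-separated algebraic stack is tested on the
quasi-compact open substacks of the target -/
theorem isQuasiCompactMor_of_openImm (hqs : AlgSt.IsQuasiSeparatedOver 𝒴)
    (H : ∀ (𝒴' : AlgSt.Cat S), AlgSt.IsAlgStack Scheme.fppfPrecoverage 𝒴' → AlgSt.IsQuasiCompact 𝒴' →
      ∀ (j : 𝒴' ⥤ᵇ 𝒴), AlgSt.IsOpenImm j → AlgSt.IsQuasiCompact (FibCat.fp j f)) :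
    AlgSt.IsQuasiCompactMor Scheme.fppfPrecoverage f := by
  apply isQuasiCompactMor_of_affine h𝒳 h𝒴 f
  intro Z y hZ
  have : IsAffine Z.left := hZ
  have hZf : IsFibGrpd (overCat Z).p := Groth.Agent.FibOver.isFibGrpd_overCat Z
  have hZa : AlgSt.IsAlgStack Scheme.fppfPrecoverage (overCat Z) := isAlgStack_overCat Z
  have hZq : AlgSt.IsQuasiCompact (overCat Z) := Groth.Agent.Lib.helper4.AlgStLocQ.isQuasiCompact_overCat Z
  have hcZ : CompactSpace (AlgSt.Points (overCat Z)) := compactSpace_points_of_isQuasiCompact hZf hZq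
  have hK : IsCompact (Set.range (Points.map y)) :=
    isCompact_range (continuous_map h𝒴.isStack.1 h𝒴.atlas y)
  obtain ⟨T, hTo, hTc, hsub⟩ := exists_open_compact_superset h𝒴 _ hK
  have h𝒴' : AlgSt.IsAlgStack Scheme.fppfPrecoverage (AlgSt.fullSub 𝒴 (QT T)) :=
    isAlgStack_fullSub_QT h𝒴 T hTo
  have hj : AlgSt.IsOpenImm (AlgSt.subIncl 𝒴 (QT T)) := isOpenImm_subIncl_QT h𝒴 T hTo
  have hqc' : AlgSt.IsQuasiCompact (AlgSt.fullSub 𝒴 (QT T)) := isQuasiCompact_fullSub_QT h𝒴 T hTo hTc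
  have hW : AlgSt.IsQuasiCompact (fp (AlgSt.subIncl 𝒴 (QT T)) f) := H _ h𝒴' hqc' _ hj
  have hyQ : ∀ a, QT T (y.toFunctor.obj a) := fun a =>
    QT_mono hsub _ (QT_range_map hZf h𝒴.isStack.1 y a)
  let y' : overCat Z ⥤ᵇ AlgSt.fullSub 𝒴 (QT T) := liftSub (QT T) y hyQ
  have hfpa : AlgSt.IsAlgStack Scheme.fppfPrecoverage (fp (AlgSt.subIncl 𝒴 (QT T)) f) :=
    isAlgStack_fp' h𝒴' h𝒳 h𝒴 _ f
  have hqs' : AlgSt.IsQuasiSeparatedOver (AlgSt.fullSub 𝒴 (QT T)) :=
    isQuasiSeparatedOver_of_isOpenImm h𝒴' h𝒴 _ hj hqs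
  have hm : AlgSt.IsQuasiCompactMor Scheme.fppfPrecoverage (fpFst (AlgSt.subIncl 𝒴 (QT T)) f) :=
    isQuasiCompactMor_of_isQuasiCompact hfpa h𝒴' _ hW hqs'
  have h1 : AlgSt.IsQuasiCompact (fp y' (fpFst (AlgSt.subIncl 𝒴 (QT T)) f)) := hm _ hZa hZq y'
  exact isQuasiCompact_of_isEquivOver (pasteL y' (AlgSt.subIncl 𝒴 (QT T)) f)
    (pasteL_isEquivOver y' (AlgSt.subIncl 𝒴 (QT T)) f) h1

end Main

end Groth.Agent.Lib.helper4.AlgStQCOpen
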