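import Groth.Agent.Lib.Helper4.AlgStQCOpen
set_option autoImplicit false
set_option backward.isDefEq.respectTransparency false
set_option backward.isDefEq.respectTransparency.types false
set_option linter.unusedSectionVars false
set_option linter.style.haveILetI false
set_option linter.unusedVariables false
open CategoryTheory CategoryTheory.Functor CategoryTheory.Limits Opposite AlgebraicGeometry
universe u

/-! A topological criterion for quasi-compact morphisms of algebraic stacks with quasi-separated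
target: preimages of quasi-compact open subsets of the space of points are quasi-compact. -/

namespace Groth.Agent.Lib.helper4.AlgStQCTop
open Groth.Agent.Lib.helper4.AlgStLocQ
open Groth.Agent.FibEquiv Groth.Agent.FibYoneda FibCat Groth.Agent.Lib.helper4.FibPaste
open Groth.Agent.Lib.helper4.AlgStEquiv Groth.Agent.Lib.helper4.AlgStRep
open Groth.Agent.Lib.helper4.AlgStSetoid Groth.Agent.FibFpProj Groth.Agent.Lib.helper4.FibRep
open Groth.Agent.Lib.helper4.AlgStFpAlg Groth.Agent.Lib.helper4.AlgStDM Groth.Agent.Lib.helper4.AlgStSelf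
open Groth.Agent.Lib.helper4.AlgStPts Groth.Agent.Lib.helper4.FibSwap Groth.Agent.Lib.helper4.AlgStSmLoc
open Groth.Agent.Lib.helper4.AlgStQC Groth.Agent.Lib.helper4.PshDict Groth.Agent.Lib.helper4.PshRep
open Groth.Agent.Lib.helper4.PshPB Groth.Agent.Lib.helper4.AlgStQCMor Groth.Agent.Lib.helper4.PointsBasic
open Groth.Agent.Lib.helper4.AlgStDescent Groth.Agent.Lib.helper4.AlgStCoreA
open Groth.Agent.Lib.helper4.AlgStSource Groth.Agent.Lib.helper4.AlgStGraph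
open Groth.Agent.Lib.helper4.SmLocalST Groth.Agent.Lib.helper5.LocPBC
open Groth.Agent.Lib.helper4.AlgStOpenSub Groth.Agent.Lib.helper4.StkSub
open Groth.Agent.Lib.helper4.AlgStQCOpen
open Stk AlgSt

variable {S : Scheme.{u}}

section Pts

variable {𝒳 𝒴 𝒵 : AlgSt.Cat S}

/-- a full functor between categories fibred in groupoids is injective on points -/
theorem map_injective_of_full (h𝒵 : IsFibGrpd 𝒵.p) (h𝒳 : IsFibGrpd 𝒳.p) (i : 𝒵 ⥤ᵇ 𝒳)
    [i.toFunctor.Full] : Function.Injective (Points.map i) := by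
  intro z z' h
  obtain ⟨p, rfl⟩ := Points.mk_surjective z
  obtain ⟨p', rfl⟩ := Points.mk_surjective z'
  have hrel : AlgSt.FPt.Rel (p.map i) (p'.map i) :=
    (Groth.Agent.S12817.result 𝒳 h𝒳).eqvGen_iff.mp (Quot.eqvGen_exact h)
  obtain ⟨r, α, β, -⟩ := hrel
  have hr : 𝒳.p.obj r.obj = Over.mk r.str := r.lies
  have hp : 𝒳.p.obj (i.obj p.obj) = 𝒵.p.obj p.obj := i.w_obj p.obj
  have hp' : 𝒳.p.obj (i.obj p'.obj) = 𝒵.p.obj p'.obj := i.w_obj p'.obj
  let g₁ : Over.mk r.str ⟶ 𝒵.p.obj p.obj := eqToHom hr.symm ≫ 𝒳.p.map α ≫ eqToHom hp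
  let g₂ : Over.mk r.str ⟶ 𝒵.p.obj p'.obj := eqToHom hr.symm ≫ 𝒳.p.map β ≫ eqToHom hp'
  have hα : 𝒳.p.IsHomLift g₁ α := IsHomLift.of_fac _ _ _ hr hp rfl
  have hβ : 𝒳.p.IsHomLift g₂ β := IsHomLift.of_fac _ _ _ hr hp' rfl
  obtain ⟨s₁, ψ₁, hψ₁⟩ := h𝒵.exists_lift (x := p.obj) g₁
  obtain ⟨s₂, ψ₂, hψ₂⟩ := h𝒵.exists_lift (x := p'.obj) g₂
  have hψ₁' : 𝒳.p.IsHomLift g₁ (i.toFunctor.map ψ₁) := i.preserves_isHomLift g₁ ψ₁
  have hψ₂' : 𝒳.p.IsHomLift g₂ (i.toFunctor.map ψ₂) := i.preserves_isHomLift g₂ ψ₂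
  haveI := h𝒳
  obtain ⟨ι₁, -⟩ := exists_iso_of_lifts 𝒳.p g₁ (i.toFunctor.map ψ₁) α
  obtain ⟨ι₂, -⟩ := exists_iso_of_lifts 𝒳.p g₂ β (i.toFunctor.map ψ₂)
  let κ : s₁ ⟶ s₂ := i.toFunctor.preimage (ι₁.hom ≫ ι₂.hom)
  let q : AlgSt.FPt 𝒵 := { K := r.K, str := r.str, obj := s₁, lies := IsHomLift.domain_eq 𝒵.p g₁ ψ₁ }
  exact Points.sound ⟨q, ψ₁, κ ≫ ψ₂, trivial⟩

/-- the image on points of the second projection of a 2-fibre product is the preimage of the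
image of the first functor -/
theorem range_fpSnd (h𝒳 : IsFibGrpd 𝒳.p) (h𝒴 : IsFibGrpd 𝒴.p) (h𝒵 : IsFibGrpd 𝒵.p)
    (j : 𝒵 ⥤ᵇ 𝒴) (f : 𝒳 ⥤ᵇ 𝒴) :
    Set.range (Points.map (fpSnd j f)) = Points.map f ⁻¹' Set.range (Points.map j) := by
  ext x
  constructor
  · rintro ⟨w, rfl⟩
    refine ⟨Points.map (fpFst j f) w, ?_⟩
    rw [← map_comp, ← map_comp]
    exact map_congr_iso (fpIso j f) w
  · rintro ⟨z, hz⟩
    obtain ⟨w, -, hw⟩ := exists_points_fp h𝒳 h𝒴 h𝒵 f j z x hz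
    exact ⟨w, hw⟩

end Pts

section Main

variable {𝒳 𝒴 : AlgSt.Cat S} (h𝒳 : AlgSt.IsAlgStack Scheme.fppfPrecoverage 𝒳)
  (h𝒴 : AlgSt.IsAlgStack Scheme.fppfPrecoverage 𝒴) (f : 𝒳 ⥤ᵇ 𝒴)
include h𝒳 h𝒴

/-- for an open immersion `j`, the 2-fibre product `𝒵 ×_𝒴 𝒳` is quasi-compact iff the preimage
of the image of `j` is quasi-compact -/
theorem isQuasiCompact_fp_iff {𝒵 : AlgSt.Cat S} (h𝒵 : AlgSt.IsAlgStack Scheme.fppfPrecoverage 𝒵)
    (j : 𝒵 ⥤ᵇ 𝒴) (hj : AlgSt.IsOpenImm j) :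
    AlgSt.IsQuasiCompact (fp j f) ↔ IsCompact (Points.map f ⁻¹' Set.range (Points.map j)) := by
  have hfp : AlgSt.IsAlgStack Scheme.fppfPrecoverage (fp j f) := isAlgStack_fp' h𝒵 h𝒳 h𝒴 j f
  have hs : AlgSt.IsOpenImm (fpSnd j f) :=
    repByAlgSpWith_fpSnd h𝒳.isStack.1 h𝒴.isStack.1 h𝒵.isStack.1 _ j f hj
  have hmono : AlgSt.IsMono (fpSnd j f) := by
    refine Groth.Agent.S12868.result _ ?_
    refine Groth.Agent.Lib.helper4.AlgStCancel.repByAlgSpWith_mono _ ?_ hs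
    intro F T π hπ
    obtain ⟨hrep, hq⟩ := (AlgSp.repWith_iff _ _).1 hπ
    exact (AlgSp.repWith_iff _ _).2 ⟨hrep, fun U V g fst snd sq => by
      have := hq g fst snd sq
      infer_instance⟩
  haveI : (fpSnd j f).toFunctor.Full :=
    Groth.Agent.Lib.helper4.AlgStFull.full_of_isMono hfp.isStack.1 h𝒳.isStack.1 _ hmono
  have hc : Continuous (Points.map (fpSnd j f)) := continuous_map h𝒳.isStack.1 h𝒳.atlas _
  have hi : Function.Injective (Points.map (fpSnd j f)) :=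
    map_injective_of_full hfp.isStack.1 h𝒳.isStack.1 _
  have ho : IsOpenMap (Points.map (fpSnd j f)) := isOpenMor_of_isOpenImm hfp h𝒳 _ hs
  have hemb := Topology.IsOpenEmbedding.of_continuous_injective_isOpenMap hc hi ho
  rw [isQuasiCompact_iff_compactSpace_points hfp.isStack.1 hfp.atlas,
    ← range_fpSnd h𝒳.isStack.1 h𝒴.isStack.1 h𝒵.isStack.1 j f, ← Set.image_univ,
    ← hemb.isInducing.isCompact_iff, isCompact_univ_iff]

/-- a quasi-compact morphism has quasi-compact preimages of quasi-compact opens -/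
theorem isCompact_preimage_of_isQuasiCompactMor
    (hf : AlgSt.IsQuasiCompactMor Scheme.fppfPrecoverage f) (T : Set (AlgSt.Points 𝒴))
    (hTo : IsOpen T) (hTc : IsCompact T) : IsCompact (Points.map f ⁻¹' T) := by
  have h𝒴' : AlgSt.IsAlgStack Scheme.fppfPrecoverage (AlgSt.fullSub 𝒴 (QT T)) :=
    isAlgStack_fullSub_QT h𝒴 T hTo
  have hj : AlgSt.IsOpenImm (AlgSt.subIncl 𝒴 (QT T)) := isOpenImm_subIncl_QT h𝒴 T hTo
  have hqc' : AlgSt.IsQuasiCompact (AlgSt.fullSub 𝒴 (QT T)) := isQuasiCompact_fullSub_QT h𝒴 T hTo hTc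
  have h1 := (isQuasiCompact_fp_iff h𝒳 h𝒴 f h𝒴' _ hj).1 (hf _ h𝒴' hqc' _)
  rwa [range_subIncl_QT] at h1

/-- the topological criterion for quasi-compact morphisms -/
theorem isQuasiCompactMor_iff_isCompact_preimage [QuasiSeparatedSpace S]
    (hqs : AlgSt.IsQuasiSeparatedOver 𝒴) :
    AlgSt.IsQuasiCompactMor Scheme.fppfPrecoverage f ↔
      ∀ T : Set (AlgSt.Points 𝒴), IsOpen T → IsCompact T → IsCompact (Points.map f ⁻¹' T) := by
  constructor
  · intro hf T hTo hTc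
    exact isCompact_preimage_of_isQuasiCompactMor h𝒳 h𝒴 f hf T hTo hTc
  · intro H
    apply isQuasiCompactMor_of_openImm h𝒳 h𝒴 f hqs
    intro 𝒴' h𝒴' hqc j hj
    rw [isQuasiCompact_fp_iff h𝒳 h𝒴 f h𝒴' j hj]
    apply H
    · exact isOpen_range_of_isOpenImm h𝒴' h𝒴 j hj
    · have : CompactSpace (AlgSt.Points 𝒴') := compactSpace_points_of_isQuasiCompact h𝒴'.isStack.1 hqc
      exact isCompact_range (continuous_map h𝒴.isStack.1 h𝒴.atlas j)

end Main

end Groth.Agent.Lib.helper4.AlgStQCTop
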