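import Groth.Agent.Lib.Helper4.AlgStFieldPt3
import Groth.Agent.S1535
import Groth.Agent.S0565
set_option autoImplicit false
set_option backward.isDefEq.respectTransparency false
set_option backward.isDefEq.respectTransparency.types false
set_option linter.unusedSectionVars false
set_option linter.style.haveILetI false
set_option linter.unusedVariables false
open CategoryTheory CategoryTheory.Functor CategoryTheory.Limits Opposite AlgebraicGeometry
universe u

/-! A reduced, locally Noetherian algebraic stack with exactly one point is regular (helper4). -/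

namespace Groth.Agent.Lib.helper4.AlgStRegular
open Groth.Agent.Lib.helper4.AlgStLocQ
open Groth.Agent.FibEquiv Groth.Agent.FibYoneda FibCat Groth.Agent.Lib.helper4.FibPaste
open Groth.Agent.Lib.helper4.AlgStEquiv Groth.Agent.Lib.helper4.AlgStRep
open Groth.Agent.Lib.helper4.AlgStSetoid Groth.Agent.FibFpProj Groth.Agent.Lib.helper4.FibRep
open Groth.Agent.Lib.helper4.AlgStFpAlg Groth.Agent.Lib.helper4.AlgStDM Groth.Agent.Lib.helper4.AlgStSelf
open Groth.Agent.Lib.helper4.AlgStPts Groth.Agent.Lib.helper4.FibSwap Groth.Agent.Lib.helper4.AlgStSmLoc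
open Groth.Agent.Lib.helper4.AlgStQC Groth.Agent.Lib.helper4.PshDict Groth.Agent.Lib.helper4.PshRep
open Groth.Agent.Lib.helper4.PshPB Groth.Agent.Lib.helper4.AlgStQCMor Groth.Agent.Lib.helper4.PointsBasic
open Groth.Agent.Lib.helper4.AlgStDescent Groth.Agent.Lib.helper4.AlgStCoreA
open Groth.Agent.Lib.helper4.AlgStSource Groth.Agent.Lib.helper4.AlgStGraph
open Groth.Agent.Lib.helper4.SmLocalST Groth.Agent.Lib.helper5.LocPBC
open Groth.Agent.Lib.helper4.AlgStCancel
open Groth.Agent.Lib.helper4.AlgStFieldPt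
open Stk AlgSt

variable {S : Scheme.{u}}

/-- regularity of all local rings descends along flat surjective morphisms to locally Noetherian schemes -/
theorem isRegularLocalRing_stalk_of_flat_surjective {X Y : Scheme.{u}} (f : X ⟶ Y) [Flat f] [Surjective f]
    [IsLocallyNoetherian Y] (hX : ∀ x : X, IsRegularLocalRing (X.presheaf.stalk x)) (y : Y) :
    IsRegularLocalRing (Y.presheaf.stalk y) := by
  obtain ⟨x, rfl⟩ := f.surjective y
  haveI := hX x
  letI : Algebra (Y.presheaf.stalk (f x)) (X.presheaf.stalk x) := (f.stalkMap x).hom.toAlgebra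
  haveI : IsLocalHom (algebraMap (Y.presheaf.stalk (f x)) (X.presheaf.stalk x)) :=
    inferInstanceAs (IsLocalHom (f.stalkMap x).hom)
  haveI : Module.Flat (Y.presheaf.stalk (f x)) (X.presheaf.stalk x) := Flat.stalkMap f x
  haveI : IsNoetherianRing (Y.presheaf.stalk (f x)) := inferInstance
  exact Groth.Agent.S0565.result (Y.presheaf.stalk (f x)) (X.presheaf.stalk x)

variable {𝒵 : AlgSt.Cat S} (h𝒵 : AlgSt.IsAlgStack Scheme.fppfPrecoverage 𝒵)
include h𝒵

/-- a locally Noetherian stack with a surjective, flat morphism from the spectrum of a field is regular -/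
theorem smoothLocally_isRegular_of_fieldPt (k : Type u) [Field k] (a : Spec (CommRingCat.of k) ⟶ S)
    (z : overCat (Over.mk a) ⥤ᵇ 𝒵) (hzs : AlgSt.RepByAlgSpWith AlgSp.IsSurjectiveMor z)
    (hzf : AlgSt.RepByAlgSpWith (AlgSp.LocP @Flat) z)
    (hnoeth : AlgSt.SmoothLocally (fun T => IsLocallyNoetherian T) 𝒵) :
    AlgSt.SmoothLocally (fun T => ∀ t : T, IsRegularLocalRing (T.presheaf.stalk t)) 𝒵 := by
  intro U' x' hx'
  obtain ⟨W, a', b, ha, hb, hs⟩ := exists_common_chart_gen @Flat @Smooth z x' hzf hx'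
  have hbs : Surjective b.left := hs hzs
  have hsm : Smooth a'.left := ha
  have hbf : Flat b.left := hb
  have hU : IsLocallyNoetherian U'.left := hnoeth U' x' hx'
  letI : W.left.Over (Spec (CommRingCat.of k)) := ⟨a'.left⟩
  have hsm' : Smooth (W.left ↘ (Spec (CommRingCat.of k))) := hsm
  have hW : ∀ w : W.left, IsRegularLocalRing (W.left.presheaf.stalk w) :=
    fun w => Groth.Agent.S1535.result k W.left w
  exact isRegularLocalRing_stalk_of_flat_surjective b.left hW

/-- S16811 -/
theorem smoothLocally_isRegular (hred : AlgSt.SmoothLocally (fun T => IsReduced T) 𝒵)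
    (hnoeth : AlgSt.SmoothLocally (fun T => IsLocallyNoetherian T) 𝒵)
    (hne : Nonempty (AlgSt.Points 𝒵)) (hsub : Subsingleton (AlgSt.Points 𝒵)) :
    AlgSt.SmoothLocally (fun T => ∀ t : T, IsRegularLocalRing (T.presheaf.stalk t)) 𝒵 := by
  obtain ⟨k, inst, a, z, hzp, hzs, hzf⟩ := (fieldPt_lfp_iff h𝒵).1 ⟨hred, hnoeth, hne, hsub⟩
  letI : Field k := inst
  exact smoothLocally_isRegular_of_fieldPt h𝒵 k a z hzs hzf hnoeth

end Groth.Agent.Lib.helper4.AlgStRegular
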