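import Groth.Agent.Lib.Helper4.StkFibres
import Groth.Agent.Lib.Helper4.AlgStFpAlg
import Groth.Agent.Lib.Helper4.AlgStOpenSub2
set_option autoImplicit false
set_option backward.isDefEq.respectTransparency false
set_option backward.isDefEq.respectTransparency.types false
set_option linter.unusedSectionVars false
set_option linter.style.haveILetI false
set_option linter.unusedVariables false
open CategoryTheory CategoryTheory.Functor CategoryTheory.Limits Opposite AlgebraicGeometry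
universe u

/-! The source of a functor representable by algebraic spaces into a stack is a stack; into an algebraic
stack, an algebraic stack. -/

namespace Groth.Agent.Lib.helper4.AlgStRepStack
open Groth.Agent.FibEquiv Groth.Agent.FibFpProj Stk FibCat
open Groth.Agent.Lib.helper4.AlgStDM Groth.Agent.Lib.helper4.AlgStFpAlg Groth.Agent.Lib.helper4.AlgStRep
open Groth.Agent.Lib.helper4.AlgStEquiv
open AlgSt

variable {S : Scheme.{u}}

/-- a category representable by an algebraic space is a stack for the fppf topology -/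
theorem isStack_of_repByAlgSp {𝒲 : AlgSt.Cat S} (h : AlgSt.RepByAlgSp 𝒲) :
    Stk.IsStack (QuotSh.J Scheme.fppfPrecoverage S) 𝒲 :=
  (isDM_of_repByAlgSp h).1.1

/-- the source of a functor representable by algebraic spaces into a stack is a stack -/
theorem isStack_of_repByAlgSp1 {𝒳 𝒴 : AlgSt.Cat S} (h𝒳 : FibCat.IsFibGrpd 𝒳.p)
    (h𝒴 : Stk.IsStack (QuotSh.J Scheme.fppfPrecoverage S) 𝒴) (j : 𝒳 ⥤ᵇ 𝒴) (hj : AlgSt.RepByAlgSp1 j) :
    Stk.IsStack (QuotSh.J Scheme.fppfPrecoverage S) 𝒳 :=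
  Groth.Agent.Lib.helper4.StkFibres.isStack_of_fibres j _ h𝒳 h𝒴
    (fun U y => isStack_of_repByAlgSp (hj U y))

/-- S12768 -/
theorem isAlgStack_of_repByAlgSp1 {𝒳 𝒴 : AlgSt.Cat S} (h𝒳 : FibCat.IsFibGrpd 𝒳.p)
    (h𝒴 : AlgSt.IsAlgStack Scheme.fppfPrecoverage 𝒴) (j : 𝒳 ⥤ᵇ 𝒴) (hj : AlgSt.RepByAlgSp1 j) :
    AlgSt.IsAlgStack Scheme.fppfPrecoverage 𝒳 :=
  Groth.Agent.Lib.helper4.AlgStOpenSub.isAlgStack_of_repByAlgSp1_of_isStack
    (isStack_of_repByAlgSp1 h𝒳 h𝒴.1 j hj) h𝒴 j hj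

/-- S12769 -/
theorem isStack_fp_of_repByAlgSp1 {𝒳 𝒴 𝒵 : AlgSt.Cat S}
    (h𝒳 : FibCat.IsFibGrpd 𝒳.p) (h𝒵 : FibCat.IsFibGrpd 𝒵.p)
    (h𝒴 : Stk.IsStack (QuotSh.J Scheme.fppfPrecoverage S) 𝒴)
    (f : 𝒳 ⥤ᵇ 𝒵) (g : 𝒴 ⥤ᵇ 𝒵) (hf : AlgSt.RepByAlgSp1 f) :
    Stk.IsStack (QuotSh.J Scheme.fppfPrecoverage S) (FibCat.fp f g) :=
  isStack_of_repByAlgSp1 (isFibGrpd_fp f g h𝒳 h𝒴.1 h𝒵) h𝒴 (fpSnd f g)
    ((repByAlgSp1_iff_top _).2 (repByAlgSpWith_fpSnd h𝒴.1 h𝒵 h𝒳 ⊤ f g ((repByAlgSp1_iff_top f).1 hf)))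

end Groth.Agent.Lib.helper4.AlgStRepStack
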