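import Groth.Agent.Lib.Helper4.AlgStLocIm3
set_option autoImplicit false
set_option backward.isDefEq.respectTransparency false
set_option backward.isDefEq.respectTransparency.types false
set_option linter.unusedSectionVars false
set_option linter.style.haveILetI false
set_option linter.unusedVariables false
open CategoryTheory CategoryTheory.Functor CategoryTheory.Limits Opposite AlgebraicGeometry
universe u

/-! Functoriality of residual gerbes: a morphism of algebraic stacks maps the residual gerbe at a point into the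
residual gerbe at the image point (helper4). -/

namespace Groth.Agent.Lib.helper4.AlgStResGerbeFun
open Groth.Agent.Lib.helper4.AlgStLocQ
open Groth.Agent.FibEquiv Groth.Agent.FibYoneda FibCat Groth.Agent.Lib.helper4.FibPaste
open Groth.Agent.Lib.helper4.AlgStEquiv Groth.Agent.Lib.helper4.AlgStRep
open Groth.Agent.Lib.helper4.AlgStSetoid Groth.Agent.FibFpProj Groth.Agent.Lib.helper4.FibRep
open Groth.Agent.Lib.helper4.AlgStFpAlg Groth.Agent.Lib.helper4.AlgStDM Groth.Agent.Lib.helper4.AlgStSelf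
open Groth.Agent.Lib.helper4.AlgStPts Groth.Agent.Lib.helper4.FibSwap Groth.Agent.Lib.helper4.AlgStSmLoc
open Groth.Agent.Lib.helper4.AlgStQC Groth.Agent.Lib.helper4.PshDict Groth.Agent.Lib.helper4.PshRep
open Groth.Agent.Lib.helper4.PshPB Groth.Agent.Lib.helper4.AlgStQCMor Groth.Agent.Lib.helper4.PointsBasic
open Groth.Agent.Lib.helper4.AlgStDescent Groth.Agent.Lib.helper4.AlgStCoreA
open Groth.Agent.Lib.helper4.AlgStSource Groth.Agent.Lib.helper4.AlgStGraph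
open Groth.Agent.Lib.helper4.SmLocalST Groth.Agent.Lib.helper5.LocPBC
open Groth.Agent.Lib.helper4.AlgStOpenSub Groth.Agent.Lib.helper4.StkSub
open Groth.Agent.Lib.helper4.AlgStCancel Groth.Agent.Lib.helper4.Descent
open Groth.Agent.Lib.helper4.AlgStFieldPt Groth.Agent.Lib.helper4.AlgStLocIm
open Stk AlgSt

variable {S : Scheme.{u}}

/-- a morphism of algebraic stacks maps objects of the residual gerbe at `x` to objects of the residual gerbe at the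
image of `x` -/
theorem map_mem_of_isResGerbe {𝒳 𝒴 : AlgSt.Cat S} (h𝒳 : AlgSt.IsAlgStack Scheme.fppfPrecoverage 𝒳)
    (h𝒴 : AlgSt.IsAlgStack Scheme.fppfPrecoverage 𝒴) (f : 𝒳 ⥤ᵇ 𝒴) (x : AlgSt.Points 𝒳)
    (Q : 𝒳.obj → Prop) (hQ : Gerb.IsResGerbe Scheme.fppfPrecoverage 𝒳 x Q)
    (Q' : 𝒴.obj → Prop) (hQ' : Gerb.IsResGerbe Scheme.fppfPrecoverage 𝒴 (AlgSt.Points.map f x) Q')
    (ξ : 𝒳.obj) (hξ : Q ξ) : Q' (f.obj ξ) := by
  obtain ⟨hiso, halg, hred, hnoeth, hne, hsub, hx⟩ := hQ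
  obtain ⟨hiso', halg', hred', hnoeth', hne', hsub', hx'⟩ := hQ'
  obtain ⟨k, inst, a, w, hwp, hws, hwf⟩ := (fieldPt_lfp_iff halg).1 ⟨hred, hnoeth, hne, hsub⟩
  letI : Field k := inst
  obtain ⟨p⟩ := hne
  obtain ⟨p'⟩ := hne'
  have hpt : AlgSt.Points.map (BasedFunctor.comp (AlgSt.subIncl 𝒳 Q) f) p =
      AlgSt.Points.map (AlgSt.subIncl 𝒴 Q') p' := by
    rw [PointsBasic.map_comp, hx p, hx' p']
  have hj'm : AlgSt.IsMono (AlgSt.subIncl 𝒴 Q') :=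
    Groth.Agent.Lib.helper4.AlgStBoot.isMono_of_full_of_faithful halg' h𝒴 _
  have h𝒫 : AlgSt.IsAlgStack Scheme.fppfPrecoverage
      (fp (BasedFunctor.comp (AlgSt.subIncl 𝒳 Q) f) (AlgSt.subIncl 𝒴 Q')) :=
    isAlgStack_fp' halg halg' h𝒴 _ _
  obtain ⟨q, -, -⟩ := Groth.Agent.Lib.helper4.AlgStPts.exists_points_fp halg'.isStack.1 h𝒴.isStack.1 halg.isStack.1
    (AlgSt.subIncl 𝒴 Q') (BasedFunctor.comp (AlgSt.subIncl 𝒳 Q) f) p p' hpt
  have hm : AlgSt.IsMono (fpFst (BasedFunctor.comp (AlgSt.subIncl 𝒳 Q) f) (AlgSt.subIncl 𝒴 Q')) :=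
    Groth.Agent.Lib.helper4.AlgStDiagBC.repByAlgSpWith_fpFst _ _ _ hj'm
  have hE : IsEquivOver (fpFst (BasedFunctor.comp (AlgSt.subIncl 𝒳 Q) f) (AlgSt.subIncl 𝒴 Q')) := by
    rcases Groth.Agent.Lib.helper4.AlgStMonoFieldPt.isEmpty_or_isEquivOver h𝒫 halg _ hm k a w hwp hws hwf with h | h
    · exact (h.false q).elim
    · exact h
  obtain ⟨-, hess⟩ := of_isEquivOver _ hE
  obtain ⟨t, e, -⟩ := hess ⟨ξ, hξ⟩
  have e1 : f.obj t.obj.fst.obj ≅ f.obj ξ :=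
    f.toFunctor.mapIso ((AlgSt.subIncl 𝒳 Q).toFunctor.mapIso e)
  exact hiso'.of_iso (t.obj.iso.symm ≪≫ e1) t.obj.snd.property

/-- S16814 -/
theorem exists_fullSub_map_of_isResGerbe {𝒳 𝒴 : AlgSt.Cat S} (h𝒳 : AlgSt.IsAlgStack Scheme.fppfPrecoverage 𝒳)
    (h𝒴 : AlgSt.IsAlgStack Scheme.fppfPrecoverage 𝒴) (f : 𝒳 ⥤ᵇ 𝒴) (x : AlgSt.Points 𝒳)
    (Q : 𝒳.obj → Prop) (hQ : Gerb.IsResGerbe Scheme.fppfPrecoverage 𝒳 x Q)
    (Q' : 𝒴.obj → Prop) (hQ' : Gerb.IsResGerbe Scheme.fppfPrecoverage 𝒴 (AlgSt.Points.map f x) Q') :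
    ∃ g : AlgSt.fullSub 𝒳 Q ⥤ᵇ AlgSt.fullSub 𝒴 Q',
      Nonempty (BasedFunctor.comp g (AlgSt.subIncl 𝒴 Q') ≅ BasedFunctor.comp (AlgSt.subIncl 𝒳 Q) f) :=
  ⟨liftSub Q' (BasedFunctor.comp (AlgSt.subIncl 𝒳 Q) f)
      (fun a => map_mem_of_isResGerbe h𝒳 h𝒴 f x Q hQ Q' hQ' a.obj a.property), ⟨Iso.refl _⟩⟩

end Groth.Agent.Lib.helper4.AlgStResGerbeFun
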