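import Groth.Agent.Lib.Helper4.PshRep2
import Groth.Agent.Lib.Helper4.PshOfSetoid
import Groth.Agent.Lib.Helper4.PshStack
import Groth.Agent.StkFp
import Groth.Agent.S12779
set_option autoImplicit false
set_option backward.isDefEq.respectTransparency false
set_option backward.isDefEq.respectTransparency.types false
set_option linter.unusedSectionVars false
set_option linter.style.haveILetI false
open CategoryTheory CategoryTheory.Functor CategoryTheory.Limits Opposite AlgebraicGeometry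
universe u

/-! Fibre products over a category fibred in groupoids of categories representable by algebraic spaces. -/

namespace Groth.Agent.Lib.helper4.AlgStSetoid
open Groth.Agent.FibEquiv Groth.Agent.FibYoneda Groth.Agent.FibFpProj Stk FibCat
open Groth.Agent.Lib.helper4.Descent Groth.Agent.Lib.helper4.PshDict Groth.Agent.Lib.helper4.FibPaste
open Groth.Agent.Lib.helper4.AlgStEquiv Groth.Agent.H1.AlgSpBootstrap Groth.Agent.Lib.helper4.PshRep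
open Groth.Agent.Lib.helper4.PshOfSetoid Groth.Agent.Lib.helper4.FibSwap

variable {S : Scheme.{u}}

/-- a category fibred in setoids with a functor, representable by algebraic spaces, to a category
representable by an algebraic space is representable by an algebraic space -/
theorem repByAlgSp_of_repByAlgSp1 {𝒵 𝒰 : AlgSt.Cat S} (h𝒵 : IsFibSetoid 𝒵.p) (hU : AlgSt.RepByAlgSp 𝒰)
    (q : 𝒵 ⥤ᵇ 𝒰) (hq : AlgSt.RepByAlgSp1 q) : AlgSt.RepByAlgSp 𝒵 := by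
  obtain ⟨F, eU, heU⟩ := hU
  obtain ⟨eUi, ⟨α⟩, ⟨β⟩⟩ := heU
  obtain ⟨Ei, ⟨γ⟩, ⟨δ⟩⟩ := toCls_isEquivOver h𝒵
  have hEi : IsEquivOver Ei := isEquivOver_symm γ δ
  have h1 := (repByAlgSpWith_iff_pshMapOf ⊤ q Ei hEi eU eUi β ⟨eUi, ⟨α⟩, ⟨β⟩⟩).1
    ((repByAlgSp1_iff_top q).1 hq)
  have h2 : AlgSp.RepBySp (pshMapOf (BasedFunctor.comp (BasedFunctor.comp Ei q) eUi)) := h1.repBySp
  obtain ⟨hs, hA⟩ := isAlgSpaceP_of_repBySp _ h2 ((AlgSp.isAlgSpaceP_obj_iff F.obj).2 F.property)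
  exact ⟨⟨⟨_, hs⟩, hA⟩, Ei, hEi⟩

/-- the slice over a scheme is representable by an algebraic space -/
theorem repByAlgSp_overCat (U : Over S) : AlgSt.RepByAlgSp (overCat U) := by
  obtain ⟨G, ⟨α⟩, ⟨β⟩⟩ := toYon_isEquivOver.{u + 1} U
  exact ⟨⟨(AlgSp.yon S).obj U, AlgSp.IsAlgSpace.yon_obj U⟩, G, isEquivOver_symm α β⟩

theorem thin_overCat (U : Over S) : ∀ V : Over S, Quiver.IsThin ((overCat U).p.Fiber V) :=
  Groth.Agent.Lib.helper4.AlgStFaithful.thin_of_repByAlgSp (repByAlgSp_overCat U)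

/-- `𝒰 ×_𝒳 𝒱` is representable by an algebraic space when `𝒰` is, `𝒱` has thin fibres and `𝒱 ⟶ 𝒳` is
representable by algebraic spaces -/
theorem repByAlgSp_fp {𝒳 𝒰 𝒱 : AlgSt.Cat S} (h𝒳 : IsFibGrpd 𝒳.p) (h𝒰 : IsFibGrpd 𝒰.p) (h𝒱 : IsFibGrpd 𝒱.p)
    (hU : AlgSt.RepByAlgSp 𝒰) (hVthin : ∀ V : Over S, Quiver.IsThin (𝒱.p.Fiber V))
    (x : 𝒰 ⥤ᵇ 𝒳) (y : 𝒱 ⥤ᵇ 𝒳) (hy : AlgSt.RepByAlgSp1 y) : AlgSt.RepByAlgSp (fp x y) := by
  have hset : IsFibSetoid (fp x y).p :=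
    ⟨isFibGrpd_fp x y h𝒰 h𝒱 h𝒳,
      Groth.Agent.StkFp.thin_fp x y (Groth.Agent.Lib.helper4.AlgStFaithful.thin_of_repByAlgSp hU) hVthin⟩
  have hq : AlgSt.RepByAlgSp1 (fpFst x y) :=
    (repByAlgSp1_iff_top _).2
      (Groth.Agent.S12779.result h𝒱 h𝒳 h𝒰 ⊤ y x ((repByAlgSp1_iff_top y).1 hy))
  exact repByAlgSp_of_repByAlgSp1 hset hU (fpFst x y) hq

/-- transport of representability along an equivalence -/
theorem repByAlgSp_of_isEquivOver {𝒜 ℬ : AlgSt.Cat S} (E : 𝒜 ⥤ᵇ ℬ) (hE : IsEquivOver E)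
    (h : AlgSt.RepByAlgSp 𝒜) : AlgSt.RepByAlgSp ℬ := by
  obtain ⟨F, e, he⟩ := h
  exact ⟨F, BasedFunctor.comp e E, isEquivOver_comp e E he hE⟩

end Groth.Agent.Lib.helper4.AlgStSetoid
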