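import Groth.Agent.Lib.Helper4.AlgStDescent
import Groth.Agent.S10542
import Groth.Agent.S10544
import Groth.Agent.S10530
import Groth.Agent.S10527
import Groth.Agent.S10505
set_option autoImplicit false
set_option backward.isDefEq.respectTransparency false
set_option backward.isDefEq.respectTransparency.types false
set_option linter.unusedSectionVars false
set_option linter.style.haveILetI false
open CategoryTheory CategoryTheory.Functor CategoryTheory.Limits Opposite AlgebraicGeometry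
universe u

/-! Properties local on the source descend along surjective covers by morphisms representable by algebraic spaces. -/

namespace Groth.Agent.Lib.helper4.AlgStSource
open Groth.Agent.FibEquiv Groth.Agent.FibYoneda Groth.Agent.FibFpProj Stk FibCat
open Groth.Agent.Lib.helper4.Descent Groth.Agent.Lib.helper4.PshDict Groth.Agent.Lib.helper4.FibPaste
open Groth.Agent.Lib.helper4.AlgStEquiv Groth.Agent.Lib.helper4.PshRep Groth.Agent.Lib.helper4.PshPB
open Groth.Agent.Lib.helper4.FibSwap Groth.Agent.Lib.helper4.AlgStSetoid Groth.Agent.Lib.helper4.AlgStCoreA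
open Groth.Agent.Lib.helper4.AlgStDescent

variable {S : Scheme.{u}}

/-- locality on the base for fpqc coverings gives locality on the base for fppf coverings -/
theorem isLocalOnBase_fppf_of_fpqc {Q : MorphismProperty (AlgSp.Sp S)}
    (h : AlgSp.IsLocalOnBase (AlgSp.IsFpqcCover (S := S)) Q) : AlgSp.IsLocalOnBase (AlgSp.IsFppfCover (S := S)) Q := by
  intro ι Y Yi g hY hYi hcov X f hX Xi p q hXi sq
  exact h Yi g hY hYi
    (Groth.Agent.S10505.result ⟨Y, hY⟩ (fun i => ⟨Yi i, hYi i⟩) (fun i => ObjectProperty.homMk (g i)) hcov)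
    f hX Xi p q hXi sq

/-- the conjunction of two properties local on the base is local on the base -/
theorem isLocalOnBase_and {τ : AlgSp.CovNotion S} {Q₁ Q₂ : MorphismProperty (AlgSp.Sp S)}
    (h₁ : AlgSp.IsLocalOnBase τ Q₁) (h₂ : AlgSp.IsLocalOnBase τ Q₂) :
    AlgSp.IsLocalOnBase τ (fun _ _ f => Q₁ f ∧ Q₂ f) := by
  intro ι Y Yi g hY hYi hcov X f hX Xi p q hXi sq
  have e₁ := h₁ Yi g hY hYi hcov f hX Xi p q hXi sq
  have e₂ := h₂ Yi g hY hYi hcov f hX Xi p q hXi sq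
  change (Q₁ f ∧ Q₂ f) ↔ ∀ i, (Q₁ (p i) ∧ Q₂ (p i))
  rw [e₁, e₂]
  exact ⟨fun h i => ⟨h.1 i, h.2 i⟩, fun h => ⟨fun i => (h i).1, fun i => (h i).2⟩⟩

/-- surjectivity on points is local on the base for jointly surjective families -/
theorem isLocalOnBase_isSurjectiveMor :
    AlgSp.IsLocalOnBase (AlgSp.IsFppfCover (S := S)) AlgSp.IsSurjectiveMor := by
  intro ι Y Yi g hY hYi hcov X f hX Xi p q hXi sq
  constructor
  · intro hf i z
    obtain ⟨x, hx⟩ := hf (AlgSp.Points.map (g i) z)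
    obtain ⟨w, -, hw⟩ := Groth.Agent.Lib.helper10.exists_point_of_isPullback (sq i) x z hx
    exact ⟨w, hw⟩
  · intro h y
    obtain ⟨i, z, rfl⟩ := hcov.2 y
    obtain ⟨w, rfl⟩ := h i z
    refine ⟨AlgSp.Points.map (q i) w, ?_⟩
    rw [← AlgSp.Points.map_comp, (sq i).w, AlgSp.Points.map_comp]

theorem isoInv_locP (P : MorphismProperty Scheme.{u}) : IsoInv (AlgSp.LocP (S := S) P) := by
  intro A B U j s _ _ h
  have := locP_iso_comp j.symm _ h
  rwa [Iso.symm_hom, Iso.inv_hom_id_assoc] at this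

theorem isoInv_isSurjectiveMor : IsoInv (AlgSp.IsSurjectiveMor (S := S)) := by
  intro A B U j s _ _ h
  have := isSurjectiveMor_iso_comp j.symm _ h
  rwa [Iso.symm_hom, Iso.inv_hom_id_assoc] at this

theorem isoInv_isEtaleMor : IsoInv (AlgSp.IsEtaleMor (S := S)) := by
  intro A B U j s _ _ h V φ hφ
  have := h (φ ≫ j.inv) (MorphismProperty.RespectsIso.postcomp _ j.inv φ hφ)
  rwa [Category.assoc, Iso.inv_hom_id_assoc] at this

theorem isoInv_and {Q₁ Q₂ : MorphismProperty (AlgSp.Sp S)} (h₁ : IsoInv Q₁) (h₂ : IsoInv Q₂) :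
    IsoInv (fun _ _ f => Q₁ f ∧ Q₂ f) :=
  fun j s hA hB h => ⟨h₁ j s hA hB h.1, h₂ j s hA hB h.2⟩

/-- combine two properties of a functor representable by algebraic spaces -/
theorem repByAlgSpWith_and {𝒳 𝒴 : AlgSt.Cat S} (x : 𝒳 ⥤ᵇ 𝒴) {Q₁ Q₂ : MorphismProperty (AlgSp.Sp S)}
    (hQ₂ : IsoInv Q₂) (h₁ : AlgSt.RepByAlgSpWith Q₁ x) (h₂ : AlgSt.RepByAlgSpWith Q₂ x) :
    AlgSt.RepByAlgSpWith (fun _ _ f => Q₁ f ∧ Q₂ f) x := by
  intro U y
  obtain ⟨Z₁, e₁, he₁, c₁⟩ := h₁ U y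
  obtain ⟨Z₂, e₂, he₂, c₂⟩ := h₂ U y
  obtain ⟨j, hj⟩ := change_rep (fpFst y x) e₁ e₂ he₁ he₂
  refine ⟨Z₁, e₁, he₁, c₁, ?_⟩
  rw [hj]
  apply hQ₂ j.symm _ Z₂.property Z₁.property
  rw [Iso.symm_hom, Iso.inv_hom_id_assoc]
  exact c₂

/-- **Descent along a covering of the source**: if `x` is representable by algebraic spaces with a property `Q` making
its base changes to algebraic spaces `τ`-coverings, `P` is `τ`-local on the source and `y ∘ x` has `P`, then `y` has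
`P` -/
theorem of_comp_cover {𝒳 𝒴 𝒵 : AlgSt.Cat S} (h𝒳 : IsFibGrpd 𝒳.p) (h𝒴 : IsFibGrpd 𝒴.p)
    (P : MorphismProperty (AlgSp.Sp S)) (hPiso : IsoInv P)
    (τ : AlgSp.CovNotion S) (hP' : AlgSp.IsLocalOnSource τ P)
    (Q : MorphismProperty (AlgSp.Sp S)) (hQiso : IsoInv Q) (hQloc : AlgSp.IsLocalOnBase AlgSp.IsFppfCover Q)
    (hτ : ∀ {H G : AlgSp.Sp S} (s : H ⟶ G), Q s → τ (fun _ : PUnit.{u + 1} => H) (fun _ => s))
    (x : 𝒳 ⥤ᵇ 𝒴) (y : 𝒴 ⥤ᵇ 𝒵) (hy : AlgSt.RepByAlgSp1 y) (hx : AlgSt.RepByAlgSpWith Q x)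
    (h : AlgSt.RepByAlgSpWith P (BasedFunctor.comp x y)) : AlgSt.RepByAlgSpWith P y := by
  intro U z
  obtain ⟨Y', eY, heY⟩ := hy U z
  refine ⟨Y', eY, heY, ?_⟩
  obtain ⟨H, eH, heH, hQs⟩ := coreA h𝒳 h𝒴 Q hQiso hQloc x hx Y' (BasedFunctor.comp eY (fpSnd z y))
  refine (hP' (fun _ : PUnit.{u + 1} => H.obj) (fun _ => ObjectProperty.homMk
      (pshMapOf (BasedFunctor.comp eH (fpFst (BasedFunctor.comp eY (fpSnd z y)) x)))) Y'.property
    (fun _ => H.property) (hτ _ hQs) (AlgSt.spMapOfOver (BasedFunctor.comp eY (fpFst z y)))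
    (AlgSp.IsAlgSpace.yon_obj U)).2 (fun _ => ?_)
  have he' : IsEquivOver (BasedFunctor.comp eH (BasedFunctor.comp (fpPrecomp eY (fpSnd z y) x) (pasteR z y x))) :=
    isEquivOver_comp _ _ heH (isEquivOver_comp _ _ (fpPrecomp_isEquivOver _ _ _ heY) (pasteR_isEquivOver z y x))
  have key : AlgSt.spMapOfOver (BasedFunctor.comp (BasedFunctor.comp eH
        (BasedFunctor.comp (fpPrecomp eY (fpSnd z y) x) (pasteR z y x))) (fpFst z (BasedFunctor.comp x y))) =
      (ObjectProperty.homMk (pshMapOf (BasedFunctor.comp eH (fpFst (BasedFunctor.comp eY (fpSnd z y)) x))) :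
        H.obj ⟶ Y'.obj) ≫ AlgSt.spMapOfOver (BasedFunctor.comp eY (fpFst z y)) := by
    apply ObjectProperty.hom_ext
    rw [spMapOfOver_hom]
    change _ = pshMapOf (BasedFunctor.comp eH (fpFst (BasedFunctor.comp eY (fpSnd z y)) x)) ≫
      (AlgSt.spMapOfOver (BasedFunctor.comp eY (fpFst z y))).hom
    rw [spMapOfOver_hom]
    refine Eq.trans ?_ (pshMapOf_comp (P := H.obj.obj) (Q := Y'.obj.obj)
      (BasedFunctor.comp eH (fpFst (BasedFunctor.comp eY (fpSnd z y)) x))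
      (BasedFunctor.comp (BasedFunctor.comp eY (fpFst z y)) (toYon.{u + 1} U)))
    rfl
  rw [← key]
  obtain ⟨F, e'', he'', hP''⟩ := h U z
  obtain ⟨j, hj⟩ := change_rep (fpFst z (BasedFunctor.comp x y)) _ e'' he' he''
  rw [hj]
  apply hPiso j.symm _ F.property H.property
  rw [Iso.symm_hom, Iso.inv_hom_id_assoc]
  exact hP''

end Groth.Agent.Lib.helper4.AlgStSource
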