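import Groth.Agent.Lib.Helper4.AlgStLocQ
set_option autoImplicit false
set_option backward.isDefEq.respectTransparency false
set_option backward.isDefEq.respectTransparency.types false
set_option linter.unusedSectionVars false
set_option linter.style.haveILetI false
set_option linter.unusedVariables false
open CategoryTheory CategoryTheory.Functor CategoryTheory.Limits Opposite AlgebraicGeometry
universe u

/-! Testing a property of a morphism representable by algebraic spaces against all algebraic spaces. -/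

namespace Groth.Agent.Lib.helper4.AlgStSpaceTest
open Groth.Agent.Lib.helper4.AlgStLocQ
open Groth.Agent.FibEquiv Groth.Agent.FibYoneda FibCat Groth.Agent.Lib.helper4.FibPaste
open Groth.Agent.Lib.helper4.AlgStEquiv Groth.Agent.Lib.helper4.AlgStRep
open Groth.Agent.Lib.helper4.AlgStSetoid Groth.Agent.FibFpProj Groth.Agent.Lib.helper4.FibRep
open Groth.Agent.Lib.helper4.AlgStFpAlg Groth.Agent.Lib.helper4.AlgStDM Groth.Agent.Lib.helper4.AlgStSelf
open Groth.Agent.Lib.helper4.AlgStPts Groth.Agent.Lib.helper4.FibSwap Groth.Agent.Lib.helper4.AlgStSmLoc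
open Groth.Agent.Lib.helper4.AlgStQC Groth.Agent.Lib.helper4.PshDict Groth.Agent.Lib.helper4.PshRep
open Groth.Agent.Lib.helper4.PshPB Groth.Agent.Lib.helper4.AlgStQCMor Groth.Agent.Lib.helper4.PointsBasic
open Groth.Agent.Lib.helper4.AlgStDescent Groth.Agent.Lib.helper4.AlgStCoreA
open Groth.Agent.Lib.helper4.AlgStSource Groth.Agent.Lib.helper4.AlgStGraph
open Stk AlgSt

variable {S : Scheme.{u}}

theorem spMapOfOver_yonInv {T : Over S} (YiT : AlgSt.ofSp ((AlgSp.yon S).obj T) ⥤ᵇ overCat T)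
    (βT : BasedFunctor.comp YiT (toYon.{u + 1} T) ≅ BasedFunctor.id _) : AlgSt.spMapOfOver YiT = 𝟙 _ := by
  apply ObjectProperty.hom_ext
  rw [spMapOfOver_hom, pshMapOf_congr βT, pshMapOf_id]
  rfl

/-- S12845 -/
theorem repByAlgSpWith_iff_forall_space {𝒳 𝒴 : AlgSt.Cat S}
    (h𝒳 : AlgSt.IsAlgStack Scheme.fppfPrecoverage 𝒳) (h𝒴 : AlgSt.IsAlgStack Scheme.fppfPrecoverage 𝒴)
    (P : MorphismProperty (AlgSp.Sp S))
    (hPb : ∀ ⦃X₁ Y₁ X₂ Y₂ : AlgSp.Sp S⦄, AlgSp.IsAlgSpace X₁ → AlgSp.IsAlgSpace Y₁ → AlgSp.IsAlgSpace X₂ →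
      AlgSp.IsAlgSpace Y₂ → ∀ (a : X₁ ⟶ Y₁) (b : Y₂ ⟶ Y₁) (a' : X₂ ⟶ Y₂) (b' : X₂ ⟶ X₁),
      IsPullback b' a' a b → P a → P a')
    (hP : AlgSp.IsLocalOnBase AlgSp.IsFppfCover P)
    (f : 𝒳 ⥤ᵇ 𝒴) :
    AlgSt.RepByAlgSpWith P f ↔
      ∀ (Z : AlgSp.Space S) (z : AlgSt.ofSp Z.obj ⥤ᵇ 𝒴),
        ∃ (V : AlgSp.Space S) (a : V ⟶ Z) (e : AlgSt.ofSp V.obj ⥤ᵇ FibCat.fp z f),
          FibCat.IsEquivOver e ∧
            Nonempty (BasedFunctor.comp e (FibCat.fpFst z f) ≅ AlgSt.ofSpMap a.hom) ∧ P a.hom := by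
  have hQ : IsoInv P := isoInv_of_baseChange P hPb
  constructor
  · intro h Z z
    obtain ⟨H, e, he, hPH⟩ := coreA h𝒳.isStack.1 h𝒴.isStack.1 P hQ hP f h Z z
    exact ⟨H, ObjectProperty.homMk (ObjectProperty.homMk (pshMapOf (BasedFunctor.comp e (fpFst z f)))), e, he,
      ⟨isoOfPshMap _⟩, hPH⟩
  · intro H T t
    obtain ⟨YiT, ⟨αT⟩, ⟨βT⟩⟩ := toYon_isEquivOver.{u + 1} T
    have hYiT : IsEquivOver YiT := isEquivOver_symm αT βT
    obtain ⟨V, a, e, he, ⟨i⟩, hPa⟩ := H ⟨(AlgSp.yon S).obj T, AlgSp.IsAlgSpace.yon_obj T⟩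
      (BasedFunctor.comp YiT t)
    refine ⟨V, BasedFunctor.comp e (fpPrecomp YiT t f),
      isEquivOver_comp _ _ he (fpPrecomp_isEquivOver _ _ _ hYiT), ?_⟩
    have j : BasedFunctor.comp (BasedFunctor.comp e (fpPrecomp YiT t f)) (fpFst t f) ≅
        BasedFunctor.comp (AlgSt.ofSpMap a.hom) YiT := whiskerRightIso i YiT
    rw [spMapOfOver_congr j, spMapOfOver_ofSpMap_comp, spMapOfOver_yonInv YiT βT, Category.comp_id]
    exact hPa

end Groth.Agent.Lib.helper4.AlgStSpaceTest
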