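import Groth.Agent.Lib.Helper4.AlgStQCTop
import Groth.Agent.Lib.Helper4.TopSpectralQuot
set_option autoImplicit false
set_option backward.isDefEq.respectTransparency false
set_option backward.isDefEq.respectTransparency.types false
set_option linter.unusedSectionVars false
set_option linter.style.haveILetI false
set_option linter.unusedVariables false
open CategoryTheory CategoryTheory.Functor CategoryTheory.Limits Opposite AlgebraicGeometry
universe u

/-! The space of points of an algebraic stack with quasi-compact diagonal is locally spectral. -/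

namespace Groth.Agent.Lib.helper4.AlgStSpectral
open Groth.Agent.Lib.helper4.AlgStLocQ
open Groth.Agent.FibEquiv Groth.Agent.FibYoneda FibCat Groth.Agent.Lib.helper4.FibPaste
open Groth.Agent.Lib.helper4.AlgStEquiv Groth.Agent.Lib.helper4.AlgStRep
open Groth.Agent.Lib.helper4.AlgStSetoid Groth.Agent.FibFpProj Groth.Agent.Lib.helper4.FibRep
open Groth.Agent.Lib.helper4.AlgStFpAlg Groth.Agent.Lib.helper4.AlgStDM Groth.Agent.Lib.helper4.AlgStSelf
open Groth.Agent.Lib.helper4.AlgStPts Groth.Agent.Lib.helper4.FibSwap Groth.Agent.Lib.helper4.AlgStSmLoc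
open Groth.Agent.Lib.helper4.AlgStQC Groth.Agent.Lib.helper4.PshDict Groth.Agent.Lib.helper4.PshRep
open Groth.Agent.Lib.helper4.PshPB Groth.Agent.Lib.helper4.AlgStQCMor Groth.Agent.Lib.helper4.PointsBasic
open Groth.Agent.Lib.helper4.AlgStDescent Groth.Agent.Lib.helper4.AlgStCoreA
open Groth.Agent.Lib.helper4.AlgStSource Groth.Agent.Lib.helper4.AlgStGraph
open Groth.Agent.Lib.helper4.AlgStQCOpen
open Stk AlgSt

variable {S : Scheme.{u}}

instance spectralSpace_of_isAffine (U : Scheme.{u}) [IsAffine U] : SpectralSpace U where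

theorem isSpectralMap_of_isAffine {W U : Scheme.{u}} [IsAffine W] [IsAffine U] (f : W ⟶ U) :
    IsSpectralMap f := f.isSpectralMap

theorem isQuasiCompact_overCat (T : Over S) [CompactSpace T.left] : AlgSt.IsQuasiCompact (overCat T) :=
  isQuasiCompact_of_isEquivOver' (toYon.{u + 1} T) (toYon_isEquivOver T)
    (isQuasiCompact_ofSp _ (Groth.Agent.Lib.helper7.AlgSpQC.isQuasiCompactSp_yon T))

theorem compactSpace_prod [QuasiSeparatedSpace S] (V U : Over S) [CompactSpace V.left] [CompactSpace U.left] :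
    CompactSpace (V ⨯ U).left := by
  have : CompactSpace ↑(pullback V.hom U.hom) := inferInstance
  exact (Scheme.homeoOfIso (Over.prodLeftIsoPullback V U)).symm.compactSpace

/-- **Common affine chart**: for an algebraic stack with quasi-compact diagonal over a quasi-separated base, two
charts from quasi-compact schemes have a common chart from an affine scheme hitting every pair of points with the
same image -/
theorem exists_affine_chart_fp [QuasiSeparatedSpace S] {𝒳 : AlgSt.Cat S}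
    (h𝒳 : AlgSt.IsAlgStack Scheme.fppfPrecoverage 𝒳)
    (hΔ : AlgSt.RepByAlgSpWith AlgSp.IsQuasiCompactMor (FibCat.diag (toSelf 𝒳)))
    {U V : Over S} [CompactSpace U.left] [CompactSpace V.left]
    (x : overCat U ⥤ᵇ 𝒳) (x' : overCat V ⥤ᵇ 𝒳) :
    ∃ (W : Over S) (a : W ⟶ U) (b : W ⟶ V), IsAffine W.left ∧
      Nonempty (BasedFunctor.comp (AlgSt.overMap b) x' ≅ BasedFunctor.comp (AlgSt.overMap a) x) ∧
      (∀ (u : ↥U.left) (v : ↥V.left), Points.ofChart x u = Points.ofChart x' v →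
        ∃ w : ↥W.left, a.left w = u ∧ b.left w = v) := by
  have h𝒳' : IsFibGrpd 𝒳.p := h𝒳.isStack.1
  have hsq : IsFibGrpd (sq 𝒳).p := isFibGrpd_fp _ _ h𝒳' h𝒳' isFibGrpd_selfOver
  have hU : IsFibGrpd (overCat U).p := Groth.Agent.FibOver.isFibGrpd_overCat U
  have hV : IsFibGrpd (overCat V).p := Groth.Agent.FibOver.isFibGrpd_overCat V
  have hfp : IsFibGrpd (fp x' x).p := isFibGrpd_fp _ _ hV hU h𝒳'
  have hqcΔ : AlgSt.IsQuasiCompactMor Scheme.fppfPrecoverage (FibCat.diag (toSelf 𝒳)) :=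
    isQuasiCompactMor_of_repByAlgSpWith h𝒳' hsq _ hΔ
  haveI : CompactSpace (V ⨯ U).left := compactSpace_prod V U
  have h1 : AlgSt.IsQuasiCompact (fp (pairK x' x) (Δ 𝒳)) :=
    hqcΔ _ (isAlgStack_overCat _) (isQuasiCompact_overCat _) (pairK x' x)
  have h2 : AlgSt.IsQuasiCompact (fp x' x) :=
    isQuasiCompact_of_isEquivOver (compare x' x) (compare_isEquivOver x' x) h1
  obtain ⟨W, w, hW, hw1, hw2⟩ := h2
  obtain ⟨b, ⟨ib⟩⟩ := exists_overMap_iso (BasedFunctor.comp w (fpFst x' x))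
  obtain ⟨a, ⟨ia⟩⟩ := exists_overMap_iso (BasedFunctor.comp w (fpSnd x' x))
  refine ⟨W, a, b, hW, ?_, ?_⟩
  · have i1 : BasedFunctor.comp (AlgSt.overMap b) x' ≅
        BasedFunctor.comp w (BasedFunctor.comp (fpFst x' x) x') := whiskerRightIso ib.symm x'
    have i2 : BasedFunctor.comp w (BasedFunctor.comp (fpFst x' x) x') ≅
        BasedFunctor.comp w (BasedFunctor.comp (fpSnd x' x) x) := whiskerLeftIso w (fpIso x' x)
    have i3 : BasedFunctor.comp (AlgSt.overMap a) x ≅
        BasedFunctor.comp w (BasedFunctor.comp (fpSnd x' x) x) := whiskerRightIso ia.symm x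
    exact ⟨i1 ≪≫ i2 ≪≫ i3.symm⟩
  · intro u v huv
    have h1 : Points.map x' (Points.ofChart (BasedFunctor.id (overCat V)) v) =
        Points.map x (Points.ofChart (BasedFunctor.id (overCat U)) u) := huv.symm
    obtain ⟨ξ, hξ1, hξ2⟩ := exists_points_fp hU h𝒳' hV x x' _ _ h1
    obtain ⟨w₀, rfl⟩ := ofChart_surjective hfp w hw2 ξ
    refine ⟨w₀, ?_, ?_⟩
    · apply ofChart_id_injective U
      rw [← hξ2]
      have h2 := ofChart_overMap a (BasedFunctor.id (overCat U)) w₀
      have h3 := ofChart_congr ia w₀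
      exact h2.symm.trans h3.symm
    · apply ofChart_id_injective V
      rw [← hξ1]
      have h2 := ofChart_overMap b (BasedFunctor.id (overCat V)) w₀
      have h3 := ofChart_congr ib w₀
      exact h2.symm.trans h3.symm

section Main

variable [QuasiSeparatedSpace S] {𝒳 : AlgSt.Cat S} (h𝒳 : AlgSt.IsAlgStack Scheme.fppfPrecoverage 𝒳)
  (hΔ : AlgSt.RepByAlgSpWith AlgSp.IsQuasiCompactMor (FibCat.diag (toSelf 𝒳)))
include h𝒳 hΔ

/-- the image of a smooth chart from an affine scheme is a spectral space -/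
theorem spectralSpace_range_ofChart {U : Over S} [IsAffine U.left] (x : overCat U ⥤ᵇ 𝒳)
    (hx : AlgSt.RepByAlgSpWith (AlgSp.LocP @Smooth) x) :
    SpectralSpace (Set.range (Points.ofChart x)) := by
  have h𝒳' : IsFibGrpd 𝒳.p := h𝒳.isStack.1
  obtain ⟨W, a, b, hW, ⟨i⟩, hl⟩ := exists_affine_chart_fp h𝒳 hΔ x x
  haveI := hW
  refine Groth.Agent.Lib.helper4.TopSpectralQuot.spectralSpace_range (Points.ofChart x)
    (continuous_ofChart h𝒳' h𝒳.atlas x) (isOpenMap_ofChart_smooth h𝒳' x hx) a.left b.left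
    (isSpectralMap_of_isAffine _) (isSpectralMap_of_isAffine _) ?_
  intro u v
  constructor
  · intro h
    exact hl u v h
  · rintro ⟨w, rfl, rfl⟩
    exact (ofChart_overMap a x w).symm.trans ((ofChart_congr i w).symm.trans (ofChart_overMap b x w))

/-- S12834 -/
theorem spectralSpace_points (hqc : AlgSt.IsQuasiCompact 𝒳) : SpectralSpace (AlgSt.Points 𝒳) := by
  have h𝒳' : IsFibGrpd 𝒳.p := h𝒳.isStack.1
  obtain ⟨U, x, hU, hx, hxs⟩ := hqc
  haveI := hU
  have h1 := spectralSpace_range_ofChart h𝒳 hΔ x hx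
  have hsurj := ofChart_surjective h𝒳' x hxs
  rw [hsurj.range_eq] at h1
  haveI : CompactSpace (AlgSt.Points 𝒳) := hsurj.compactSpace (continuous_ofChart h𝒳' h𝒳.atlas x)
  exact (Homeomorph.Set.univ _).symm.isOpenEmbedding.spectralSpace

/-- every point has an open neighbourhood which is a spectral space -/
theorem exists_isOpen_spectralSpace (y : AlgSt.Points 𝒳) :
    ∃ T : Set (AlgSt.Points 𝒳), IsOpen T ∧ y ∈ T ∧ SpectralSpace ↥T := by
  have h𝒳' : IsFibGrpd 𝒳.p := h𝒳.isStack.1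
  obtain ⟨V, xV, hxV, hxVs⟩ := h𝒳.atlas
  obtain ⟨v, rfl⟩ := ofChart_surjective h𝒳' xV hxVs y
  obtain ⟨_, ⟨U₁, hU₁ : IsAffineOpen U₁, rfl⟩, hvU₁, -⟩ :=
    V.left.isBasis_affineOpens.exists_subset_of_mem_open (Set.mem_univ v) isOpen_univ
  obtain ⟨U₀, hU₀, hvU₀⟩ : ∃ U₀ : V.left.Opens, IsAffineOpen U₀ ∧ v ∈ U₀ := ⟨U₁, hU₁, hvU₁⟩
  let U : Over S := Over.mk (U₀.ι ≫ V.hom)
  let g : U ⟶ V := Over.homMk U₀.ι rfl
  haveI : IsAffine U.left := hU₀
  have hg : Etale g.left := by
    change Etale U₀.ι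
    infer_instance
  have hx : AlgSt.RepByAlgSpWith (AlgSp.LocP @Smooth) (BasedFunctor.comp (AlgSt.overMap g) xV) :=
    smooth_overMap_comp h𝒳' g hg xV hxV
  refine ⟨Set.range (Points.ofChart (BasedFunctor.comp (AlgSt.overMap g) xV)),
    (isOpenMap_ofChart_smooth h𝒳' _ hx).isOpen_range, ?_, spectralSpace_range_ofChart h𝒳 hΔ _ hx⟩
  refine ⟨(⟨v, hvU₀⟩ : U₀), ?_⟩
  rw [ofChart_overMap]
  rfl

/-- S12835 -/
theorem locallySpectral_points :
    (∀ x : AlgSt.Points 𝒳, ∃ U : Set (AlgSt.Points 𝒳), IsOpen U ∧ x ∈ U ∧ SpectralSpace ↥U) ∧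
      QuasiSober (AlgSt.Points 𝒳) ∧ T0Space (AlgSt.Points 𝒳) := by
  refine ⟨exists_isOpen_spectralSpace h𝒳 hΔ, ?_, ?_⟩
  · let 𝒮 : Set (Set (AlgSt.Points 𝒳)) := {T | IsOpen T ∧ SpectralSpace ↥T}
    haveI : ∀ s : 𝒮, QuasiSober s := fun s => by
      haveI := s.2.2
      infer_instance
    refine quasiSober_of_open_cover 𝒮 (fun s => s.2.1) ?_
    rw [Set.top_eq_univ, Set.eq_univ_iff_forall]
    intro y
    obtain ⟨T, h1, h2, h3⟩ := exists_isOpen_spectralSpace h𝒳 hΔ y
    exact ⟨T, ⟨h1, h3⟩, h2⟩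
  · refine T0Space.of_open_cover fun y => ?_
    obtain ⟨T, h1, h2, h3⟩ := exists_isOpen_spectralSpace h𝒳 hΔ y
    exact ⟨T, h2, h1, inferInstance⟩

end Main

end Groth.Agent.Lib.helper4.AlgStSpectral
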