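import Groth.Agent.Lib.Helper4.AlgStUniv
set_option autoImplicit false
set_option backward.isDefEq.respectTransparency false
set_option backward.isDefEq.respectTransparency.types false
set_option linter.unusedSectionVars false
set_option linter.style.haveILetI false
set_option linter.unusedVariables false
open CategoryTheory CategoryTheory.Functor CategoryTheory.Limits Opposite AlgebraicGeometry
universe u

/-! Universally injective morphisms of algebraic stacks: criteria. -/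

namespace Groth.Agent.Lib.helper4.AlgStUnivInj
open Groth.Agent.FibEquiv Groth.Agent.FibYoneda FibCat Groth.Agent.Lib.helper4.FibPaste
open Groth.Agent.Lib.helper4.AlgStEquiv
open Groth.Agent.Lib.helper4.AlgStSetoid Groth.Agent.FibFpProj Groth.Agent.Lib.helper4.FibRep
open Groth.Agent.Lib.helper4.AlgStFpAlg Groth.Agent.Lib.helper4.AlgStDM Groth.Agent.Lib.helper4.AlgStSelf
open Groth.Agent.Lib.helper4.AlgStPts Groth.Agent.Lib.helper4.FibSwap Groth.Agent.Lib.helper4.AlgStSmLoc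
open Groth.Agent.Lib.helper4.AlgStQC Groth.Agent.Lib.helper4.PshDict Groth.Agent.Lib.helper4.PshRep
open Groth.Agent.Lib.helper4.PshPB Groth.Agent.Lib.helper4.AlgStQCMor Groth.Agent.Lib.helper4.PointsBasic
open Groth.Agent.Lib.helper4.TopSquare Stk AlgSt

variable {S : Scheme.{u}}

/-- every point is the image of a point of an affine scheme under a chart -/
theorem exists_affine_ofChart_eq_mk {𝒳 : AlgSt.Cat S} (h𝒳 : IsFibGrpd 𝒳.p) (p : FPt 𝒳) :
    ∃ (T : Over S) (_ : IsAffine T.left) (y : overCat T ⥤ᵇ 𝒳) (t : ↥T.left),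
      Points.ofChart y t = Points.mk p := by
  have hfib : 𝒳.p.IsFibered := Groth.Agent.FibFiberwise.isFibered_of_isFibGrpd 𝒳.p h𝒳
  obtain ⟨e, -⟩ := yBased_id_iso p.obj
  have hne : Nonempty ↥(𝒳.p.obj p.obj).left := by
    rw [p.lies]
    exact ⟨IsLocalRing.closedPoint p.K⟩
  have haff : IsAffine (𝒳.p.obj p.obj).left := by
    rw [p.lies]
    change IsAffine (Spec (CommRingCat.of p.K))
    infer_instance
  obtain ⟨t⟩ := hne
  refine ⟨𝒳.p.obj p.obj, haff, yBased p.obj, t, ?_⟩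
  exact Points.sound ⟨_, 𝟙 _, (yBased p.obj).map (toId (resPt _ t)) ≫ e.hom, trivial⟩

/-- every point is the image of a point of the slice of an affine scheme -/
theorem exists_affine_map_eq {𝒳 : AlgSt.Cat S} (h𝒳 : IsFibGrpd 𝒳.p) (z : Points 𝒳) :
    ∃ (T : Over S) (_ : IsAffine T.left) (y : overCat T ⥤ᵇ 𝒳) (t : Points (overCat T)),
      Points.map y t = z := by
  obtain ⟨p, rfl⟩ := Points.mk_surjective z
  obtain ⟨T, hT, y, t, hy⟩ := exists_affine_ofChart_eq_mk h𝒳 p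
  refine ⟨T, hT, y, Points.ofChart (BasedFunctor.id (overCat T)) t, ?_⟩
  rw [map_ofChart]
  exact hy

/-- transport of injectivity on points along an equivalence -/
theorem injective_of_equiv {𝒜 ℬ 𝒞 : AlgSt.Cat S} (E : 𝒜 ⥤ᵇ ℬ) (hE : IsEquivOver E) (p : ℬ ⥤ᵇ 𝒞)
    (q : 𝒜 ⥤ᵇ 𝒞) (i : BasedFunctor.comp E p ≅ q) (h : Function.Injective (Points.map p)) :
    Function.Injective (Points.map q) := by
  intro a a' haa
  rw [← map_congr_iso i, ← map_congr_iso i, map_comp, map_comp] at haa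
  exact (map_bijective_of_isEquivOver E hE).1 (h haa)

theorem injective_of_equiv' {𝒜 ℬ 𝒞 : AlgSt.Cat S} (E : 𝒜 ⥤ᵇ ℬ) (hE : IsEquivOver E) (p : ℬ ⥤ᵇ 𝒞)
    (q : 𝒜 ⥤ᵇ 𝒞) (i : BasedFunctor.comp E p ≅ q) (h : Function.Injective (Points.map q)) :
    Function.Injective (Points.map p) := by
  intro b b' hbb
  obtain ⟨a, rfl⟩ := (map_bijective_of_isEquivOver E hE).2 b
  obtain ⟨a', rfl⟩ := (map_bijective_of_isEquivOver E hE).2 b'
  rw [← map_comp, ← map_comp, map_congr_iso i, map_congr_iso i] at hbb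
  rw [h hbb]

section

variable {𝒳 𝒴 : AlgSt.Cat S} (h𝒳 : AlgSt.IsAlgStack Scheme.fppfPrecoverage 𝒳)
  (h𝒴 : AlgSt.IsAlgStack Scheme.fppfPrecoverage 𝒴) (f : 𝒳 ⥤ᵇ 𝒴)

/-- a universally injective morphism is injective on points -/
theorem injective_of_isUnivInjective (h𝒴 : AlgSt.IsAlgStack Scheme.fppfPrecoverage 𝒴)
    (hf : AlgSt.IsUnivInjective Scheme.fppfPrecoverage f) : Function.Injective (Points.map f) := by
  have h1 := hf 𝒴 h𝒴 (BasedFunctor.id 𝒴)
  refine injective_of_equiv' (fpSnd (BasedFunctor.id 𝒴) f)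
    (Groth.Agent.Lib.helper4.AlgStGraph.fpSnd_id_isEquivOver f) f (fpFst (BasedFunctor.id 𝒴) f)
    (fpIso (BasedFunctor.id 𝒴) f).symm h1

include h𝒳 h𝒴

/-- if the two projections to `𝒵` of two points of `𝒵 ×_𝒴 𝒳` agree and are the image of `v` under `c : 𝒱 ⟶ 𝒵`, and
`𝒱 ×_𝒵 (𝒵 ×_𝒴 𝒳) ⟶ 𝒱` is injective on points, then the two points agree -/
theorem eq_of_injective_fp {𝒵 𝒱 : AlgSt.Cat S} (h𝒵 : IsFibGrpd 𝒵.p) (h𝒱 : IsFibGrpd 𝒱.p) (g : 𝒵 ⥤ᵇ 𝒴)
    (c : 𝒱 ⥤ᵇ 𝒵) (hinj : Function.Injective (Points.map (fpFst c (fpFst g f))))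
    (v : Points 𝒱) (a₁ a₂ : Points (fp g f)) (h₁ : Points.map c v = Points.map (fpFst g f) a₁)
    (h₂ : Points.map c v = Points.map (fpFst g f) a₂) : a₁ = a₂ := by
  have hfp : IsFibGrpd (fp g f).p := isFibGrpd_fp _ _ h𝒵 h𝒳.isStack.1 h𝒴.isStack.1
  obtain ⟨w₁, hw₁, hw₁'⟩ := exists_points_fp hfp h𝒵 h𝒱 (fpFst g f) c v a₁ h₁
  obtain ⟨w₂, hw₂, hw₂'⟩ := exists_points_fp hfp h𝒵 h𝒱 (fpFst g f) c v a₂ h₂
  have : w₁ = w₂ := hinj (hw₁.trans hw₂.symm)
  rw [← hw₁', ← hw₂', this]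

/-- S13569 -/
theorem isUnivInjective_of_forall_affine_fpFst
    (h : ∀ (Z : Over S) [IsAffine Z.left] (z : FibCat.overCat Z ⥤ᵇ 𝒴),
      AlgSt.IsUnivInjective Scheme.fppfPrecoverage (FibCat.fpFst z f)) :
    AlgSt.IsUnivInjective Scheme.fppfPrecoverage f := by
  intro 𝒵 h𝒵 g a₁ a₂ h12
  obtain ⟨T, hT, y, t, hy⟩ := exists_affine_map_eq h𝒵.isStack.1 (Points.map (fpFst g f) a₁)
  have hTf : IsFibGrpd (overCat T).p := Groth.Agent.FibOver.isFibGrpd_overCat T
  have h1 : Function.Injective (Points.map (fpFst (BasedFunctor.comp y g) f)) :=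
    injective_of_isUnivInjective _ (isAlgStack_overCat T) (h T (BasedFunctor.comp y g))
  have h2 : Function.Injective (Points.map (fpFst y (fpFst g f))) :=
    injective_of_equiv (pasteL y g f) (pasteL_isEquivOver y g f) _ _ (Iso.refl _) h1
  exact eq_of_injective_fp h𝒳 h𝒴 f h𝒵.isStack.1 hTf g y h2 t a₁ a₂ hy (hy.trans h12)

/-- S13570 -/
theorem isUnivInjective_of_fpFst_fppf_cover (W : AlgSp.Space S) (w : AlgSt.ofSp W.obj ⥤ᵇ 𝒴)
    (hw₃ : AlgSt.RepByAlgSpWith AlgSp.IsSurjectiveMor w)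
    (h : AlgSt.IsUnivInjective Scheme.fppfPrecoverage (FibCat.fpFst w f)) :
    AlgSt.IsUnivInjective Scheme.fppfPrecoverage f := by
  intro 𝒵 h𝒵 g a₁ a₂ h12
  have hWa : AlgSt.IsAlgStack Scheme.fppfPrecoverage (AlgSt.ofSp W.obj) := isAlgStack_ofSp W
  have hVa : AlgSt.IsAlgStack Scheme.fppfPrecoverage (fp g w) := isAlgStack_fp' h𝒵 hWa h𝒴 g w
  obtain ⟨ω, hω⟩ := isSurjective_of_repByAlgSpWith h𝒴.isStack.1 w hw₃
    (Points.map g (Points.map (fpFst g f) a₁))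
  obtain ⟨v, hv, -⟩ := exists_points_fp hWa.isStack.1 h𝒴.isStack.1 h𝒵.isStack.1 w g
    (Points.map (fpFst g f) a₁) ω hω.symm
  have inj0 : Function.Injective (Points.map (fpFst (fpSnd g w) (fpFst w f))) := h _ hVa (fpSnd g w)
  have inj1 : Function.Injective (Points.map (fpFst (BasedFunctor.comp (fpSnd g w) w) f)) :=
    injective_of_equiv' (pasteL (fpSnd g w) w f) (pasteL_isEquivOver _ _ _) _ _ (Iso.refl _) inj0
  have inj2 : Function.Injective (Points.map (fpFst (BasedFunctor.comp (fpFst g w) g) f)) :=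
    injective_of_equiv (fpMap (BasedFunctor.comp (fpFst g w) g) (BasedFunctor.comp (fpSnd g w) w) f f
      (BasedFunctor.id _) (BasedFunctor.id _) (fpIso g w) (Iso.refl _))
      (fpMap_isEquivOver _ _ _ _ _ _ _ _ (isEquivOver_id' _) (isEquivOver_id' _)) _ _ (Iso.refl _) inj1
  have inj3 : Function.Injective (Points.map (fpFst (fpFst g w) (fpFst g f))) :=
    injective_of_equiv (pasteL (fpFst g w) g f) (pasteL_isEquivOver _ _ _) _ _ (Iso.refl _) inj2
  exact eq_of_injective_fp h𝒳 h𝒴 f h𝒵.isStack.1 hVa.isStack.1 g (fpFst g w) inj3 v a₁ a₂ hv (hv.trans h12)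

/-- S13568 -/
theorem isUnivInjective_comp {𝒵 : AlgSt.Cat S} (h𝒵 : AlgSt.IsAlgStack Scheme.fppfPrecoverage 𝒵)
    (g : 𝒴 ⥤ᵇ 𝒵) (hf : AlgSt.IsUnivInjective Scheme.fppfPrecoverage f)
    (hg : AlgSt.IsUnivInjective Scheme.fppfPrecoverage g) :
    AlgSt.IsUnivInjective Scheme.fppfPrecoverage (BasedFunctor.comp f g) := by
  intro 𝒲 h𝒲 a
  have hfp : AlgSt.IsAlgStack Scheme.fppfPrecoverage (fp a g) := isAlgStack_fp' h𝒲 h𝒴 h𝒵 a g
  have h1 : Function.Injective (Points.map (fpFst (fpSnd a g) f)) := hf _ hfp (fpSnd a g)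
  have h2 : Function.Injective (Points.map (fpFst a g)) := hg _ h𝒲 a
  have h3 : Function.Injective (Points.map (BasedFunctor.comp (fpFst (fpSnd a g) f) (fpFst a g))) := by
    intro x x' hxx
    rw [map_comp, map_comp] at hxx
    exact h1 (h2 hxx)
  exact injective_of_equiv' (pasteR a g f) (pasteR_isEquivOver a g f) _ _ (Iso.refl _) h3

/-- S12831, forward direction -/
theorem isSurjective_diag_of_isUnivInjective (hf : AlgSt.IsUnivInjective Scheme.fppfPrecoverage f) :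
    AlgSt.IsSurjective (FibCat.diag f) := by
  intro u
  have h1 : Function.Injective (Points.map (fpFst f f)) := hf _ h𝒳 f
  refine ⟨Points.map (fpFst f f) u, h1 ?_⟩
  rw [← map_comp]
  exact map_id _

/-- S12831, backward direction -/
theorem isUnivInjective_of_isSurjective_diag (hf : AlgSt.IsSurjective (FibCat.diag f)) :
    AlgSt.IsUnivInjective Scheme.fppfPrecoverage f := by
  intro 𝒵 h𝒵 g a₁ a₂ h12
  have hP : IsFibGrpd (fp g f).p := isFibGrpd_fp _ _ h𝒵.isStack.1 h𝒳.isStack.1 h𝒴.isStack.1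
  have hff : IsFibGrpd (fp f f).p := isFibGrpd_fp _ _ h𝒳.isStack.1 h𝒳.isStack.1 h𝒴.isStack.1
  have hππ : IsFibGrpd (fp (fpFst g f) (fpFst g f)).p := isFibGrpd_fp _ _ hP hP h𝒵.isStack.1
  obtain ⟨u, hu₁, hu₂⟩ := exists_points_fp hP h𝒵.isStack.1 hP (fpFst g f) (fpFst g f) a₁ a₂ h12
  obtain ⟨x, hx⟩ := hf (Points.map (Groth.Agent.Lib.helper4.DiagBC.Ψ g f) u)
  obtain ⟨w, hw, -⟩ := exists_points_fp h𝒳.isStack.1 hff hππ (FibCat.diag f)
    (Groth.Agent.Lib.helper4.DiagBC.Ψ g f) u x hx.symm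
  obtain ⟨a, rfl⟩ := (map_bijective_of_isEquivOver _ (Groth.Agent.Lib.helper4.DiagBC.cmp_isEquivOver g f)).2 w
  have hd : Points.map (FibCat.diag (fpFst g f)) a = u := by
    rw [← hw, ← map_comp]
    rfl
  have e₁ : a₁ = a := by
    rw [← hu₁, ← hd, ← map_comp]
    exact map_id _
  have e₂ : a₂ = a := by
    rw [← hu₂, ← hd, ← map_comp]
    exact map_id _
  rw [e₁, e₂]

end

end Groth.Agent.Lib.helper4.AlgStUnivInj
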