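import Mathlib

/-!
# Lifting valuation rings along flat morphisms (helper4)

Let `q : W ⟶ Spec A` be a flat morphism with `A` a valuation ring, and `w` a point over the closed point. Then there
are an extension of valuation rings `A → A'` and a morphism `Spec A' ⟶ W` over `Spec A`.
-/

set_option backward.isDefEq.respectTransparency false
set_option backward.isDefEq.respectTransparency.types false
set_option autoImplicit false
set_option linter.style.haveILetI false
set_option linter.unusedSectionVars false
set_option linter.unusedVariables false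
set_option linter.unusedSimpArgs false

universe u

open CategoryTheory CategoryTheory.Limits AlgebraicGeometry

namespace Groth.Agent.Lib.helper4.ValLift

theorem exists_valuationRing_lift {W : Scheme.{u}} (A : Type u) [CommRing A] [IsDomain A] [ValuationRing A]
    (q : W ⟶ Spec (CommRingCat.of A)) [Flat q] (w : W) (hw : q.base w = IsLocalRing.closedPoint A) :
    ∃ (A' : Type u) (_ : CommRing A') (_ : IsDomain A') (_ : ValuationRing A') (φ : A →+* A'),
      Function.Injective φ ∧ IsLocalHom φ ∧
        ∃ l : Spec (CommRingCat.of A') ⟶ W, l ≫ q = Spec.map (CommRingCat.ofHom φ) := by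
  classical
  -- the generic point
  let η : Spec (CommRingCat.of A) := show PrimeSpectrum A from ⟨⊥, Ideal.isPrime_bot⟩
  have hη : η ⤳ q.base w := by
    rw [hw]
    exact IsLocalRing.specializes_closedPoint (show PrimeSpectrum A from η)
  obtain ⟨w', hw', hqw'⟩ := Flat.generalizingMap q hη
  -- the valuation ring
  let K := W.residueField w'
  let ψ₀ : W.presheaf.stalk w ⟶ W.residueField w' := W.presheaf.stalkSpecializes hw' ≫ W.residue w'
  obtain ⟨B, hB, hBloc⟩ := IsLocalRing.exists_factor_valuationRing ψ₀.hom
  let ψ : W.presheaf.stalk w ⟶ CommRingCat.of B := CommRingCat.ofHom (ψ₀.hom.codRestrict _ hB)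
  let l : Spec (CommRingCat.of B) ⟶ W := Spec.map ψ ≫ W.fromSpecStalk w
  let φ₀ : CommRingCat.of A ⟶ CommRingCat.of B := Spec.preimage (l ≫ q)
  have hφ₀ : Spec.map φ₀ = l ≫ q := Spec.map_preimage _
  refine ⟨B, inferInstance, inferInstance, inferInstance, φ₀.hom, ?_, ?_, l, ?_⟩
  · -- injective
    rw [RingHom.injective_iff_ker_eq_bot]
    -- the generic point of `Spec B` maps to `w'`
    let ι : CommRingCat.of B ⟶ W.residueField w' := CommRingCat.ofHom (algebraMap B K)
    have h1 : Spec.map ι ≫ l = W.fromSpecResidueField w' := by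
      change Spec.map ι ≫ Spec.map ψ ≫ W.fromSpecStalk w = _
      rw [← Spec.map_comp_assoc]
      have : ψ ≫ ι = ψ₀ := rfl
      rw [this, Spec.map_comp_assoc, Scheme.SpecMap_stalkSpecializes_fromSpecStalk]
      rfl
    let pK : Spec (W.residueField w') := show PrimeSpectrum K from ⊥
    have h2 : (Spec.map ι ≫ l ≫ q).base pK = η := by
      rw [← Category.assoc, h1, Scheme.Hom.comp_base, TopCat.coe_comp, Function.comp_apply,
        Scheme.fromSpecResidueField_apply, hqw']
    rw [← hφ₀, ← Spec.map_comp] at h2
    have h3 : RingHom.ker φ₀.hom ≤ RingHom.ker (φ₀ ≫ ι).hom := by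
      intro a ha
      rw [RingHom.mem_ker] at ha ⊢
      change ι.hom (φ₀.hom a) = 0
      rw [ha, map_zero]
    have h4 : RingHom.ker (φ₀ ≫ ι).hom = ⊥ := by
      have := congrArg PrimeSpectrum.asIdeal h2
      change Ideal.comap (φ₀ ≫ ι).hom ⊥ = ⊥ at this
      exact this
    rw [h4] at h3
    exact le_bot_iff.1 h3
  · -- local
    rw [IsLocalRing.isLocalHom_iff_comap_closedPoint]
    have h1 : (Spec.map φ₀).base (IsLocalRing.closedPoint B) = IsLocalRing.closedPoint A := by
      rw [hφ₀]
      simp only [Scheme.Hom.comp_base, TopCat.coe_comp, Function.comp_apply, l]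
      have : Spec.map ψ (IsLocalRing.closedPoint B) = IsLocalRing.closedPoint (W.presheaf.stalk w) :=
        IsLocalRing.comap_closedPoint (S := B) (ψ₀.hom.codRestrict B.toSubring hB)
      rw [this, W.fromSpecStalk_closedPoint, hw]
    exact h1
  · exact hφ₀.symm

end Groth.Agent.Lib.helper4.ValLift
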