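import Mathlib
import Groth.Agent.Lib.Helper4.AlgStMonoFieldPt2
import Groth.Agent.Lib.Helper4.AlgStLocQ9
import Groth.Agent.Lib.Helper4.ValLift

/-!
# Lifting valuation rings along flat morphisms of algebraic stacks (helper4)
-/

set_option backward.isDefEq.respectTransparency false
set_option backward.isDefEq.respectTransparency.types false
set_option autoImplicit false
set_option linter.style.haveILetI false
set_option linter.unusedSectionVars false
set_option linter.unusedVariables false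
set_option linter.unusedSimpArgs false

universe u

open CategoryTheory CategoryTheory.Limits AlgebraicGeometry
open AlgSt Opposite

namespace Groth.Agent.Lib.helper4.AlgStValLift

open Groth.Agent.FibEquiv FibCat Groth.Agent.Lib.helper4.FibPaste Groth.Agent.Lib.helper4.AlgStEquiv
open Groth.Agent.FibFpProj Groth.Agent.Lib.helper4.AlgStBoot
open Groth.Agent.Lib.helper4.AlgStSource Groth.Agent.Lib.helper4.AlgStDiagCover
open Groth.Agent.Lib.helper4.AlgStSmLoc Groth.Agent.Lib.helper4.AlgStLocQ Groth.Agent.Lib.helper4.PshRep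
open Groth.Agent.Lib.helper4.AlgStDiagBC Groth.Agent.Lib.helper4.AlgStFpAlg Groth.Agent.Lib.helper4.AlgStDM
open Groth.Agent.Lib.helper4.PshDict Groth.Agent.Lib.helper4.AlgStRep Groth.Agent.Lib.helper4.AlgStDiagK
open Groth.Agent.Lib.helper4.AlgStPts Groth.Agent.Lib.helper4.PointsBasic Groth.Agent.Lib.helper4.FibSwap
open Groth.Agent.Lib.helper4.AlgStSelf Groth.Agent.Lib.helper4.ValLift

variable {S : Scheme.{u}}

/-- every point of a slice comes from a point of the scheme -/
theorem exists_ofChart_id_eq (T : Over S) (z : AlgSt.Points (overCat T)) :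
    ∃ t : ↥T.left, Points.ofChart (BasedFunctor.id (overCat T)) t = z :=
  ⟨slicePt T z, by rw [← slicePt_symm_apply, Equiv.symm_apply_apply]⟩

theorem exists_valuationRing_lift (𝒳 𝒴 : AlgSt.Cat S)
    (h𝒳 : AlgSt.IsAlgStack Scheme.fppfPrecoverage 𝒳)
    (h𝒴 : AlgSt.IsAlgStack Scheme.fppfPrecoverage 𝒴)
    (f : 𝒳 ⥤ᵇ 𝒴)
    (hf : AlgSt.LocQ (AlgSp.LocP @Flat) f)
    (A : Type u) [CommRing A] [IsDomain A] [ValuationRing A] (sA : Spec (CommRingCat.of A) ⟶ S)
    (a : FibCat.overCat (Over.mk sA) ⥤ᵇ 𝒴)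
    (ha : AlgSt.Points.ofChart a (IsLocalRing.closedPoint A) ∈ Set.range (AlgSt.Points.map f)) :
    ∃ (A' : Type u) (_ : CommRing A') (_ : IsDomain A') (_ : ValuationRing A') (φ : A →+* A'),
      Function.Injective φ ∧ IsLocalHom φ ∧
      ∃ x : FibCat.overCat (Over.mk (Spec.map (CommRingCat.ofHom φ) ≫ sA)) ⥤ᵇ 𝒳,
        Nonempty (BasedFunctor.comp x f ≅
          BasedFunctor.comp (AlgSt.overMap (Over.homMk (Spec.map (CommRingCat.ofHom φ)) rfl :
            Over.mk (Spec.map (CommRingCat.ofHom φ) ≫ sA) ⟶ Over.mk sA)) a) := by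
  obtain ⟨U, V, x, y, h, α, hx, hxs, hy, hflat⟩ := hf
  have hh : Flat h.left := AlgSp.locP_yon_map hflat
  obtain ⟨ξ, hξ⟩ := ha
  set s : ↥(Over.mk sA).left := IsLocalRing.closedPoint A with hs
  -- lift the point to the chart `U`
  obtain ⟨zU, hzU⟩ := isSurjective_of_repByAlgSpWith h𝒳.isStack.1 x hxs ξ
  obtain ⟨u, rfl⟩ := exists_ofChart_id_eq U zU
  have hξ' : Points.ofChart x u = ξ := by
    rw [← hzU, map_ofChart]
    rfl
  set v : ↥V.left := h.left u with hv
  have hyv : Points.ofChart y v = Points.ofChart a s := by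
    rw [← hξ, ← hξ', map_ofChart, ofChart_congr α, ofChart_overMap]
  -- the fibre product `Spec A ×_𝒴 V`
  have hAa : AlgSt.IsAlgStack Scheme.fppfPrecoverage (overCat (Over.mk sA)) := isAlgStack_overCat _
  have hVa : AlgSt.IsAlgStack Scheme.fppfPrecoverage (overCat V) := isAlgStack_overCat _
  have hfp : AlgSt.IsAlgStack Scheme.fppfPrecoverage (fp a y) := isAlgStack_fp' hAa hVa h𝒴 a y
  obtain ⟨Z₁, ζ, hζ, hζs⟩ := hfp.atlas
  have hZf : IsFibGrpd (overCat Z₁).p := Groth.Agent.FibOver.isFibGrpd_overCat Z₁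
  have hAf : IsFibGrpd (overCat (Over.mk sA)).p := Groth.Agent.FibOver.isFibGrpd_overCat _
  have hVf : IsFibGrpd (overCat V).p := Groth.Agent.FibOver.isFibGrpd_overCat V
  obtain ⟨w, hw1, hw2⟩ := exists_points_fp hVf h𝒴.isStack.1 hAf y a
    (Points.ofChart (BasedFunctor.id _) s) (Points.ofChart (BasedFunctor.id _) v) (by
      rw [map_ofChart, map_ofChart]
      exact hyv.symm)
  obtain ⟨zZ, hzZ⟩ := isSurjective_of_repByAlgSpWith hfp.isStack.1 ζ hζs w
  obtain ⟨z₁, rfl⟩ := exists_ofChart_id_eq Z₁ zZ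
  have hw : Points.ofChart ζ z₁ = w := by
    rw [← hzZ, map_ofChart]
    rfl
  -- the two projections as morphisms of schemes
  obtain ⟨r, ⟨ψr⟩⟩ := exists_overMap_iso (BasedFunctor.comp ζ (fpFst a y))
  obtain ⟨g₁, ⟨ψg⟩⟩ := exists_overMap_iso (BasedFunctor.comp ζ (fpSnd a y))
  have hr : r.left z₁ = s := by
    apply ofChart_id_injective (Over.mk sA)
    rw [← hw1, ← hw, map_ofChart, ofChart_congr ψr]
    exact (ofChart_overMap r (BasedFunctor.id _) z₁).symm
  have hg₁ : g₁.left z₁ = v := by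
    apply ofChart_id_injective V
    rw [← hw2, ← hw, map_ofChart, ofChart_congr ψg]
    exact (ofChart_overMap g₁ (BasedFunctor.id _) z₁).symm
  -- `r` is smooth
  have hπ : AlgSt.RepByAlgSpWith (AlgSp.LocP @Smooth) (fpFst a y) := repByAlgSpWith_fpFst _ y a hy
  have hrs : AlgSt.RepByAlgSpWith (AlgSp.LocP @Smooth) (AlgSt.overMap r) :=
    (repByAlgSpWith_congr _ ψr).1 (smooth_comp hZf hfp.isStack.1 hAf ζ (fpFst a y) hζ hπ)
  have hr' : Smooth r.left :=
    AlgSp.locP_yon_map (prop_of_repByAlgSpWith_overMap _ (isoInv_locP _) r hrs)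
  -- the scheme-level fibre product
  have hcond : h.left u = g₁.left z₁ := by rw [hg₁]
  obtain ⟨w₀, hw₀1, hw₀2⟩ := Scheme.Pullback.exists_preimage_pullback u z₁ hcond
  let q : pullback h.left g₁.left ⟶ Spec (CommRingCat.of A) := pullback.snd h.left g₁.left ≫ r.left
  have : Flat q := by
    have : Flat (pullback.snd h.left g₁.left) := inferInstance
    have : Flat r.left := inferInstance
    exact inferInstanceAs (Flat (pullback.snd h.left g₁.left ≫ r.left))
  have hq : q.base w₀ = IsLocalRing.closedPoint A := by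
    change (pullback.snd h.left g₁.left ≫ r.left).base w₀ = _
    rw [Scheme.Hom.comp_base, TopCat.coe_comp, Function.comp_apply, hw₀2]
    exact hr
  obtain ⟨A', i1, i2, i3, φ, hφi, hφl, l, hl⟩ :=
    Groth.Agent.Lib.helper4.ValLift.exists_valuationRing_lift A q w₀ hq
  refine ⟨A', i1, i2, i3, φ, hφi, hφl, ?_⟩
  -- the morphisms over `S`
  have e1 : (l ≫ pullback.snd h.left g₁.left) ≫ Z₁.hom = Spec.map (CommRingCat.ofHom φ) ≫ sA := by
    rw [← hl]
    have := Over.w r
    change r.left ≫ sA = Z₁.hom at this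
    rw [← this]
    simp only [Category.assoc, q]
  have e2 : (l ≫ pullback.fst h.left g₁.left) ≫ U.hom = Spec.map (CommRingCat.ofHom φ) ≫ sA := by
    rw [← e1, ← Over.w h, ← Over.w g₁]
    simp only [Category.assoc]
    rw [pullback.condition_assoc]
  let mZ : Over.mk (Spec.map (CommRingCat.ofHom φ) ≫ sA) ⟶ Z₁ :=
    Over.homMk (l ≫ pullback.snd h.left g₁.left) e1
  let mU : Over.mk (Spec.map (CommRingCat.ofHom φ) ≫ sA) ⟶ U :=
    Over.homMk (l ≫ pullback.fst h.left g₁.left) e2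
  let mφ : Over.mk (Spec.map (CommRingCat.ofHom φ) ≫ sA) ⟶ Over.mk sA :=
    Over.homMk (Spec.map (CommRingCat.ofHom φ)) rfl
  have c1 : mU ≫ h = mZ ≫ g₁ := by
    apply Over.OverMorphism.ext
    change (l ≫ pullback.fst h.left g₁.left) ≫ h.left = (l ≫ pullback.snd h.left g₁.left) ≫ g₁.left
    rw [Category.assoc, Category.assoc, pullback.condition]
  have c2 : mZ ≫ r = mφ := by
    apply Over.OverMorphism.ext
    change (l ≫ pullback.snd h.left g₁.left) ≫ r.left = Spec.map (CommRingCat.ofHom φ)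
    rw [Category.assoc]
    exact hl
  refine ⟨BasedFunctor.comp (AlgSt.overMap mU) x, ⟨?_⟩⟩
  exact (Iso.refl _ : BasedFunctor.comp (BasedFunctor.comp (AlgSt.overMap mU) x) f ≅
      BasedFunctor.comp (AlgSt.overMap mU) (BasedFunctor.comp x f)) ≪≫
    whiskerLeftIso (AlgSt.overMap mU) α ≪≫
    (Iso.refl _ : BasedFunctor.comp (AlgSt.overMap mU) (BasedFunctor.comp (AlgSt.overMap h) y) ≅
      BasedFunctor.comp (BasedFunctor.comp (AlgSt.overMap mU) (AlgSt.overMap h)) y) ≪≫
    whiskerRightIso (overMapCompIso mU h) y ≪≫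
    eqToIso (by rw [c1]) ≪≫
    whiskerRightIso (overMapCompIso mZ g₁).symm y ≪≫
    (Iso.refl _ : BasedFunctor.comp (BasedFunctor.comp (AlgSt.overMap mZ) (AlgSt.overMap g₁)) y ≅
      BasedFunctor.comp (AlgSt.overMap mZ) (BasedFunctor.comp (AlgSt.overMap g₁) y)) ≪≫
    whiskerLeftIso (AlgSt.overMap mZ) (whiskerRightIso ψg.symm y) ≪≫
    (Iso.refl _ : BasedFunctor.comp (AlgSt.overMap mZ)
        (BasedFunctor.comp (BasedFunctor.comp ζ (fpSnd a y)) y) ≅
      BasedFunctor.comp (AlgSt.overMap mZ) (BasedFunctor.comp ζ (BasedFunctor.comp (fpSnd a y) y))) ≪≫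
    whiskerLeftIso (AlgSt.overMap mZ) (whiskerLeftIso ζ (fpIso a y).symm) ≪≫
    (Iso.refl _ : BasedFunctor.comp (AlgSt.overMap mZ)
        (BasedFunctor.comp ζ (BasedFunctor.comp (fpFst a y) a)) ≅
      BasedFunctor.comp (AlgSt.overMap mZ) (BasedFunctor.comp (BasedFunctor.comp ζ (fpFst a y)) a)) ≪≫
    whiskerLeftIso (AlgSt.overMap mZ) (whiskerRightIso ψr a) ≪≫
    (Iso.refl _ : BasedFunctor.comp (AlgSt.overMap mZ) (BasedFunctor.comp (AlgSt.overMap r) a) ≅
      BasedFunctor.comp (BasedFunctor.comp (AlgSt.overMap mZ) (AlgSt.overMap r)) a) ≪≫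
    whiskerRightIso (overMapCompIso mZ r) a ≪≫
    eqToIso (by rw [c2])

end Groth.Agent.Lib.helper4.AlgStValLift
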