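import Mathlib

/-!
# Valuation rings witnessing points in the closure of the image (helper4)

For a morphism `g : U ⟶ V` of affine schemes and a point `v` in the closure of the image of `g`, there are a
valuation ring `A`, a morphism `Spec A ⟶ V` sending the closed point to `v` and a lift of the generic point to `U`.
-/

set_option backward.isDefEq.respectTransparency false
set_option backward.isDefEq.respectTransparency.types false
set_option autoImplicit false
set_option linter.style.haveILetI false
set_option linter.unusedSectionVars false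
set_option linter.unusedVariables false
set_option linter.unusedSimpArgs false

universe u

open CategoryTheory CategoryTheory.Limits AlgebraicGeometry

namespace Groth.Agent.Lib.helper4.ValWitness

/-- ring-level form -/
theorem exists_valuationRing_ring {R S : Type u} [CommRing R] [CommRing S] (φ : R →+* S)
    (v : PrimeSpectrum R) (hv : v ∈ closure (Set.range (PrimeSpectrum.comap φ))) :
    ∃ (A : Type u) (_ : CommRing A) (_ : IsDomain A) (_ : ValuationRing A) (sp : R →+* A)
      (gen : S →+* FractionRing A),
      (algebraMap A (FractionRing A)).comp sp = gen.comp φ ∧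
        PrimeSpectrum.comap sp (IsLocalRing.closedPoint A) = v := by
  classical
  rw [PrimeSpectrum.closure_range_comap, PrimeSpectrum.mem_zeroLocus] at hv
  have hv' : RingHom.ker φ ≤ v.asIdeal := hv
  obtain ⟨p₀, hp₀, hp₀v⟩ := Ideal.exists_minimalPrimes_le hv'
  obtain ⟨u', hu', -, hcomap⟩ := Ideal.exists_comap_eq_of_mem_minimalPrimes φ (I := ⊥) p₀ (by
    rwa [← RingHom.ker_eq_comap_bot])
  -- the residue field of `u'`
  let K := u'.ResidueField
  let ρ : S →+* K := algebraMap S K
  have hker : ∀ r : R, ρ (φ r) = 0 → r ∈ v.asIdeal := by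
    intro r hr
    apply hp₀v
    rw [← hcomap, Ideal.mem_comap]
    have : φ r ∈ RingHom.ker (algebraMap S u'.ResidueField) := hr
    rwa [Ideal.ker_algebraMap_residueField] at this
  -- extend to the localization at `v`
  let Rv := Localization.AtPrime v.asIdeal
  have hunits : ∀ y : v.asIdeal.primeCompl, IsUnit ((ρ.comp φ) y) := by
    intro y
    rw [isUnit_iff_ne_zero]
    intro h0
    exact y.2 (hker y h0)
  let ψ₀ : Rv →+* K := IsLocalization.lift (M := v.asIdeal.primeCompl) (g := ρ.comp φ) hunits
  obtain ⟨B, hB, hBloc⟩ := IsLocalRing.exists_factor_valuationRing ψ₀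
  let ψ : Rv →+* B := ψ₀.codRestrict B.toSubring hB
  let sp : R →+* B := ψ.comp (algebraMap R Rv)
  let e : FractionRing B ≃ₐ[B] K := FractionRing.algEquiv B K
  let gen : S →+* FractionRing B := (e.symm : K →+* FractionRing B).comp ρ
  refine ⟨B, inferInstance, inferInstance, inferInstance, sp, gen, ?_, ?_⟩
  · ext r
    change algebraMap B (FractionRing B) (sp r) = e.symm (ρ (φ r))
    have h1 : ρ (φ r) = algebraMap B K (sp r) := by
      change ρ (φ r) = ((ψ₀.codRestrict B.toSubring hB) (algebraMap R Rv r) : K)
      rw [RingHom.codRestrict_apply]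
      exact (IsLocalization.lift_eq (M := v.asIdeal.primeCompl) hunits r).symm
    rw [h1, AlgEquiv.commutes]
  · apply PrimeSpectrum.ext
    change Ideal.comap sp (IsLocalRing.maximalIdeal B) = v.asIdeal
    have h1 : Ideal.comap ψ (IsLocalRing.maximalIdeal B) = IsLocalRing.maximalIdeal Rv := by
      have := (IsLocalRing.isLocalHom_iff_comap_closedPoint ψ).1 hBloc
      exact congrArg PrimeSpectrum.asIdeal this
    change Ideal.comap (ψ.comp (algebraMap R Rv)) (IsLocalRing.maximalIdeal B) = v.asIdeal
    rw [← Ideal.comap_comap, h1]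
    exact Localization.AtPrime.under_maximalIdeal

/-- scheme-level form for affine schemes -/
theorem exists_valuationRing_affine {U V : Scheme.{u}} [IsAffine U] [IsAffine V] (g : U ⟶ V)
    (v : V) (hv : v ∈ closure (Set.range g.base)) :
    ∃ (A : Type u) (_ : CommRing A) (_ : IsDomain A) (_ : ValuationRing A)
      (sp : Spec (CommRingCat.of A) ⟶ V) (gen : Spec (CommRingCat.of (FractionRing A)) ⟶ U),
      gen ≫ g = Spec.map (CommRingCat.ofHom (algebraMap A (FractionRing A))) ≫ sp ∧
        sp.base (IsLocalRing.closedPoint A) = v := by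
  let φ := g.appTop
  have hnat : U.isoSpec.hom ≫ Spec.map φ = g ≫ V.isoSpec.hom := Scheme.isoSpec_hom_naturality g
  let v' : PrimeSpectrum Γ(V, ⊤) := V.isoSpec.hom.base v
  have hv' : v' ∈ closure (Set.range (PrimeSpectrum.comap φ.hom)) := by
    have h1 : v' ∈ V.isoSpec.hom.base '' closure (Set.range g.base) := ⟨v, hv, rfl⟩
    have h2 := image_closure_subset_closure_image V.isoSpec.hom.continuous h1
    refine closure_mono ?_ h2
    rintro _ ⟨_, ⟨u, rfl⟩, rfl⟩
    refine ⟨U.isoSpec.hom.base u, ?_⟩
    have := congrArg (fun f => f.base u) hnat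
    simp only [Scheme.Hom.comp_base, TopCat.coe_comp, Function.comp_apply] at this
    exact this
  obtain ⟨A, i1, i2, i3, sp, gen, hcomm, hsp⟩ := exists_valuationRing_ring φ.hom v' hv'
  refine ⟨A, i1, i2, i3, Spec.map (CommRingCat.ofHom sp) ≫ V.isoSpec.inv,
    Spec.map (CommRingCat.ofHom gen) ≫ U.isoSpec.inv, ?_, ?_⟩
  · have h1 : U.isoSpec.inv ≫ g = Spec.map φ ≫ V.isoSpec.inv := by
      rw [Iso.inv_comp_eq, ← Category.assoc, hnat, Category.assoc, Iso.hom_inv_id, Category.comp_id]
    rw [Category.assoc, h1, ← Category.assoc, ← Category.assoc, ← Spec.map_comp, ← Spec.map_comp]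
    congr 2
    ext r
    exact (congrArg (fun f => f r) hcomm).symm
  · have h1 : (Spec.map (CommRingCat.ofHom sp)).base (IsLocalRing.closedPoint A) = v' := hsp
    rw [Scheme.Hom.comp_base, TopCat.coe_comp, Function.comp_apply, h1]
    change V.isoSpec.inv.base (V.isoSpec.hom.base v) = v
    rw [← Scheme.Hom.comp_apply, Iso.hom_inv_id]
    rfl

end Groth.Agent.Lib.helper4.ValWitness
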