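import Mathlib
import Groth.Agent.Lib.Helper4.AlgStValLift
import Groth.Agent.Lib.Helper4.AlgStLocQ7
import Groth.Agent.Lib.Helper4.ValWitness

/-!
# Valuation rings witnessing points in the closure of the image of a quasi-compact morphism of algebraic stacks
(helper4)
-/

set_option backward.isDefEq.respectTransparency false
set_option backward.isDefEq.respectTransparency.types false
set_option autoImplicit false
set_option linter.style.haveILetI false
set_option linter.unusedSectionVars false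
set_option linter.unusedVariables false
set_option linter.unusedSimpArgs false

universe u

open CategoryTheory CategoryTheory.Limits AlgebraicGeometry
open AlgSt Opposite

namespace Groth.Agent.Lib.helper4.AlgStValWitness

open Groth.Agent.FibEquiv FibCat Groth.Agent.Lib.helper4.FibPaste Groth.Agent.Lib.helper4.AlgStEquiv
open Groth.Agent.FibFpProj Groth.Agent.Lib.helper4.AlgStBoot
open Groth.Agent.Lib.helper4.AlgStSource Groth.Agent.Lib.helper4.AlgStDiagCover
open Groth.Agent.Lib.helper4.AlgStSmLoc Groth.Agent.Lib.helper4.AlgStLocQ Groth.Agent.Lib.helper4.PshRep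
open Groth.Agent.Lib.helper4.AlgStDiagBC Groth.Agent.Lib.helper4.AlgStFpAlg Groth.Agent.Lib.helper4.AlgStDM
open Groth.Agent.Lib.helper4.PshDict Groth.Agent.Lib.helper4.AlgStRep Groth.Agent.Lib.helper4.AlgStDiagK
open Groth.Agent.Lib.helper4.AlgStPts Groth.Agent.Lib.helper4.PointsBasic Groth.Agent.Lib.helper4.FibSwap
open Groth.Agent.Lib.helper4.AlgStSelf Groth.Agent.Lib.helper4.AlgStValLift

variable {S : Scheme.{u}}

theorem exists_valuationRing_witness (𝒳 𝒴 : AlgSt.Cat S)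
    (h𝒳 : AlgSt.IsAlgStack Scheme.fppfPrecoverage 𝒳)
    (h𝒴 : AlgSt.IsAlgStack Scheme.fppfPrecoverage 𝒴)
    (f : 𝒳 ⥤ᵇ 𝒴)
    (hf : AlgSt.IsQuasiCompactMor Scheme.fppfPrecoverage f)
    (y : AlgSt.Points 𝒴) (hy : y ∈ closure (Set.range (AlgSt.Points.map f))) :
    ∃ (A : Type u) (_ : CommRing A) (_ : IsDomain A) (_ : ValuationRing A) (sA : Spec (CommRingCat.of A) ⟶ S)
      (a : FibCat.overCat (Over.mk sA) ⥤ᵇ 𝒴)
      (x : FibCat.overCat (Over.mk (Spec.map (CommRingCat.ofHom (algebraMap A (FractionRing A))) ≫ sA)) ⥤ᵇ 𝒳),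
      Nonempty (BasedFunctor.comp x f ≅
        BasedFunctor.comp (AlgSt.overMap (Over.homMk (Spec.map (CommRingCat.ofHom (algebraMap A (FractionRing A)))) rfl :
          Over.mk (Spec.map (CommRingCat.ofHom (algebraMap A (FractionRing A))) ≫ sA) ⟶ Over.mk sA)) a) ∧
      AlgSt.Points.ofChart a (IsLocalRing.closedPoint A) = y := by
  obtain ⟨V, yV, hyV, hyVs⟩ := h𝒴.atlas
  obtain ⟨v, rfl⟩ := ofChart_surjective h𝒴.isStack.1 yV hyVs y
  obtain ⟨V₀, hV₀, hvV₀, -⟩ := TopologicalSpace.Opens.isBasis_iff_nbhd.1 (Scheme.isBasis_affineOpens V.left)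
    (show v ∈ (⊤ : V.left.Opens) from trivial)
  let W₀ : V.left.Opens := V₀
  have hV₀' : IsAffineOpen W₀ := hV₀
  let V₀o : Over S := Over.mk (W₀.ι ≫ V.hom)
  let j : V₀o ⟶ V := Over.homMk W₀.ι rfl
  haveI : IsAffine V₀o.left := hV₀'
  have hj : Etale j.left := inferInstanceAs (Etale W₀.ι)
  let y₀ : overCat V₀o ⥤ᵇ 𝒴 := BasedFunctor.comp (AlgSt.overMap j) yV
  have hy₀ : AlgSt.RepByAlgSpWith (AlgSp.LocP @Smooth) y₀ := smooth_overMap_comp h𝒴.isStack.1 j hj yV hyV
  have hV₀a : AlgSt.IsAlgStack Scheme.fppfPrecoverage (overCat V₀o) := isAlgStack_overCat _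
  have hqc : AlgSt.IsQuasiCompact (fp y₀ f) := hf (overCat V₀o) hV₀a (isQuasiCompact_overCat V₀o) y₀
  have hfp : AlgSt.IsAlgStack Scheme.fppfPrecoverage (fp y₀ f) := isAlgStack_fp' hV₀a h𝒳 h𝒴 y₀ f
  obtain ⟨U, xU, hUaff, hxU, hxUs⟩ := hqc
  haveI : IsAffine U.left := hUaff
  obtain ⟨g, ⟨ψ⟩⟩ := exists_overMap_iso (BasedFunctor.comp xU (fpFst y₀ f))
  let v₀ : ↥V₀o.left := ⟨v, hvV₀⟩
  have hv₀ : Points.ofChart y₀ v₀ = Points.ofChart yV v := ofChart_overMap j yV v₀
  have hV₀f : IsFibGrpd (overCat V₀o).p := Groth.Agent.FibOver.isFibGrpd_overCat _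
  -- the preimage of the image of `f` is in the image of `g`
  have hsub : Points.ofChart y₀ ⁻¹' Set.range (AlgSt.Points.map f) ⊆ Set.range g.left.base := by
    rintro v' ⟨ξ, hξ⟩
    obtain ⟨w, hw1, -⟩ := exists_points_fp h𝒳.isStack.1 h𝒴.isStack.1 hV₀f f y₀
      (Points.ofChart (BasedFunctor.id _) v') ξ (by
        rw [map_ofChart]
        exact hξ.symm)
    obtain ⟨u, hu⟩ := ofChart_surjective hfp.isStack.1 xU hxUs w
    refine ⟨u, ?_⟩
    apply ofChart_id_injective V₀o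
    rw [← hw1, ← hu, map_ofChart, ofChart_congr ψ]
    exact (ofChart_overMap g (BasedFunctor.id _) u).symm
  have hopen : IsOpenMap (Points.ofChart y₀) := isOpenMap_ofChart_smooth h𝒴.isStack.1 y₀ hy₀
  have hcl : v₀ ∈ closure (Set.range g.left.base) := by
    apply closure_mono hsub
    apply hopen.preimage_closure_subset_closure_preimage
    change Points.ofChart y₀ v₀ ∈ closure (Set.range (AlgSt.Points.map f))
    rw [hv₀]
    exact hy
  obtain ⟨A, i1, i2, i3, sp, gen, hcomm, hsp⟩ :=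
    Groth.Agent.Lib.helper4.ValWitness.exists_valuationRing_affine g.left v₀ hcl
  let sA : Spec (CommRingCat.of A) ⟶ S := sp ≫ V₀o.hom
  let msp : Over.mk sA ⟶ V₀o := Over.homMk sp rfl
  let a : overCat (Over.mk sA) ⥤ᵇ 𝒴 := BasedFunctor.comp (AlgSt.overMap msp) y₀
  let mfrac : Over.mk (Spec.map (CommRingCat.ofHom (algebraMap A (FractionRing A))) ≫ sA) ⟶ Over.mk sA :=
    Over.homMk (Spec.map (CommRingCat.ofHom (algebraMap A (FractionRing A)))) rfl
  have e1 : gen ≫ U.hom = Spec.map (CommRingCat.ofHom (algebraMap A (FractionRing A))) ≫ sA := by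
    rw [← Over.w g, ← Category.assoc, hcomm, Category.assoc]
  let mgen : Over.mk (Spec.map (CommRingCat.ofHom (algebraMap A (FractionRing A))) ≫ sA) ⟶ U :=
    Over.homMk gen e1
  have c : mgen ≫ g = mfrac ≫ msp := by
    apply Over.OverMorphism.ext
    exact hcomm
  refine ⟨A, i1, i2, i3, sA, a,
    BasedFunctor.comp (AlgSt.overMap mgen) (BasedFunctor.comp xU (fpSnd y₀ f)), ⟨?_⟩, ?_⟩
  · exact (Iso.refl _ : BasedFunctor.comp (BasedFunctor.comp (AlgSt.overMap mgen)
          (BasedFunctor.comp xU (fpSnd y₀ f))) f ≅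
        BasedFunctor.comp (AlgSt.overMap mgen) (BasedFunctor.comp xU (BasedFunctor.comp (fpSnd y₀ f) f))) ≪≫
      whiskerLeftIso (AlgSt.overMap mgen) (whiskerLeftIso xU (fpIso y₀ f).symm) ≪≫
      (Iso.refl _ : BasedFunctor.comp (AlgSt.overMap mgen)
          (BasedFunctor.comp xU (BasedFunctor.comp (fpFst y₀ f) y₀)) ≅
        BasedFunctor.comp (AlgSt.overMap mgen) (BasedFunctor.comp (BasedFunctor.comp xU (fpFst y₀ f)) y₀)) ≪≫
      whiskerLeftIso (AlgSt.overMap mgen) (whiskerRightIso ψ y₀) ≪≫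
      (Iso.refl _ : BasedFunctor.comp (AlgSt.overMap mgen) (BasedFunctor.comp (AlgSt.overMap g) y₀) ≅
        BasedFunctor.comp (BasedFunctor.comp (AlgSt.overMap mgen) (AlgSt.overMap g)) y₀) ≪≫
      whiskerRightIso (overMapCompIso mgen g) y₀ ≪≫
      eqToIso (by rw [c]) ≪≫
      whiskerRightIso (overMapCompIso mfrac msp).symm y₀ ≪≫
      Iso.refl _
  · change Points.ofChart (BasedFunctor.comp (AlgSt.overMap msp) y₀) (IsLocalRing.closedPoint A) = _
    rw [ofChart_overMap msp y₀, ← hv₀]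
    congr 1

end Groth.Agent.Lib.helper4.AlgStValWitness
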