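import Mathlib
import Groth.Agent.Lib.Helper14.Kunneth
import Groth.Agent.Lib.Helper4.QAffGrp3

/-!
# Global sections of schemes over a field: pullback maps and the Künneth map (helper4)

For `X : Over (Spec k)`:
* `algΓ X`: the `k`-algebra structure on `Γ(X, ⊤)` (a local instance in this file; the structure map is the one of the
  statements, `(ΓSpecIso k).inv ≫ X.hom.appTop`).
* `pb f : Γ(Y) →ₐ[k] Γ(X)` for `f : X ⟶ Y`, with `pb_comp`, `pb_id`.
* `kap X Y : Γ(X) ⊗[k] Γ(Y) →ₐ[k] Γ(X ⊗ Y)`, `a ⊗ b ↦ fst^* a * snd^* b`; `pb_lift_kap`; bijective for quasi-compact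
  quasi-separated `X`, `Y` (`kap_bijective`, from helper14's `Kunneth.isPushout_appTop`).
-/

set_option autoImplicit false
set_option backward.isDefEq.respectTransparency false
set_option linter.style.haveILetI false
set_option linter.unusedSectionVars false

universe u

open CategoryTheory CategoryTheory.Limits MonoidalCategory CartesianMonoidalCategory MonObj AlgebraicGeometry
open scoped TensorProduct

namespace Groth.Agent.Lib.helper4.GammaCoalg

variable {k : Type u} [Field k]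

/-- the structure ring map `k → Γ(X, ⊤)` -/
noncomputable def strΓ (X : Over (Spec (CommRingCat.of k))) : CommRingCat.of k ⟶ Γ(X.left, ⊤) :=
  (Scheme.ΓSpecIso (CommRingCat.of k)).inv ≫ X.hom.appTop

/-- the `k`-algebra structure on the global sections -/
@[instance_reducible] noncomputable def algΓ (X : Over (Spec (CommRingCat.of k))) : Algebra k Γ(X.left, ⊤) := (strΓ X).hom.toAlgebra

attribute [local instance] algΓ

theorem algebraMap_eq (X : Over (Spec (CommRingCat.of k))) : algebraMap k Γ(X.left, ⊤) = (strΓ X).hom := rfl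

theorem strΓ_comp {X Y : Over (Spec (CommRingCat.of k))} (f : X ⟶ Y) : strΓ Y ≫ f.left.appTop = strΓ X := by
  unfold strΓ
  rw [Category.assoc, ← Scheme.Hom.comp_appTop, Over.w f]

/-- pullback of global sections along a morphism over `k` -/
noncomputable def pb {X Y : Over (Spec (CommRingCat.of k))} (f : X ⟶ Y) : Γ(Y.left, ⊤) →ₐ[k] Γ(X.left, ⊤) :=
  { f.left.appTop.hom with
    commutes' := fun r => by
      have := congrArg (fun m => m.hom r) (strΓ_comp f)
      exact this }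

@[simp] theorem pb_apply {X Y : Over (Spec (CommRingCat.of k))} (f : X ⟶ Y) (a : Γ(Y.left, ⊤)) :
    pb f a = f.left.appTop.hom a := rfl

theorem pb_comp {X Y Z : Over (Spec (CommRingCat.of k))} (f : X ⟶ Y) (g : Y ⟶ Z) :
    pb (f ≫ g) = (pb f).comp (pb g) := by
  ext a
  simp only [pb_apply, AlgHom.comp_apply, Over.comp_left, Scheme.Hom.comp_appTop, CommRingCat.hom_comp,
    RingHom.comp_apply]

theorem pb_comp_apply {X Y Z : Over (Spec (CommRingCat.of k))} (f : X ⟶ Y) (g : Y ⟶ Z) (a : Γ(Z.left, ⊤)) :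
    pb (f ≫ g) a = pb f (pb g a) := by
  rw [pb_comp]; rfl

theorem pb_id (X : Over (Spec (CommRingCat.of k))) : pb (𝟙 X) = AlgHom.id k _ := by
  ext a
  simp [pb_apply]

theorem pb_bijective_of_isIso {X Y : Over (Spec (CommRingCat.of k))} (f : X ⟶ Y) [IsIso f] :
    Function.Bijective (pb f) := by
  refine ⟨fun a b h => ?_, fun a => ⟨pb (inv f) a, ?_⟩⟩
  · have := congrArg (pb (inv f)) h
    rw [← pb_comp_apply, ← pb_comp_apply, IsIso.inv_hom_id, pb_id] at this
    exact this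
  · rw [← pb_comp_apply, IsIso.hom_inv_id, pb_id]; rfl

/-- the Künneth map -/
noncomputable def kap (X Y : Over (Spec (CommRingCat.of k))) :
    Γ(X.left, ⊤) ⊗[k] Γ(Y.left, ⊤) →ₐ[k] Γ((X ⊗ Y).left, ⊤) :=
  Algebra.TensorProduct.productMap (pb (fst X Y)) (pb (snd X Y))

@[simp] theorem kap_tmul (X Y : Over (Spec (CommRingCat.of k))) (a : Γ(X.left, ⊤)) (b : Γ(Y.left, ⊤)) :
    kap X Y (a ⊗ₜ[k] b) = pb (fst X Y) a * pb (snd X Y) b := by
  simp [kap]

theorem pb_lift_kap {T X Y : Over (Spec (CommRingCat.of k))} (u : T ⟶ X) (v : T ⟶ Y)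
    (a : Γ(X.left, ⊤)) (b : Γ(Y.left, ⊤)) :
    pb (lift u v) (kap X Y (a ⊗ₜ[k] b)) = pb u a * pb v b := by
  rw [kap_tmul, map_mul, ← pb_comp_apply, ← pb_comp_apply, lift_fst, lift_snd]

theorem pb_kap {T X Y : Over (Spec (CommRingCat.of k))} (w : T ⟶ X ⊗ Y)
    (a : Γ(X.left, ⊤)) (b : Γ(Y.left, ⊤)) :
    pb w (kap X Y (a ⊗ₜ[k] b)) = pb (w ≫ fst X Y) a * pb (w ≫ snd X Y) b := by
  rw [kap_tmul, map_mul, ← pb_comp_apply, ← pb_comp_apply]

theorem kap_bijective (X Y : Over (Spec (CommRingCat.of k)))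
    [CompactSpace X.left] [QuasiSeparatedSpace X.left] [CompactSpace Y.left] [QuasiSeparatedSpace Y.left] :
    Function.Bijective (kap X Y) := by
  have h0 := Groth.Agent.Lib.Helper14.Kunneth.isPushout_appTop X Y
  have h1 : IsPushout (CommRingCat.ofHom (algebraMap k Γ(X.left, ⊤))) (CommRingCat.ofHom (algebraMap k Γ(Y.left, ⊤)))
      (fst X Y).left.appTop (snd X Y).left.appTop := by
    refine IsPushout.of_iso h0 (Scheme.ΓSpecIso (CommRingCat.of k)) (Iso.refl _) (Iso.refl _) (Iso.refl _) ?_ ?_ ?_ ?_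
    · rw [algebraMap_eq, CommRingCat.ofHom_hom, strΓ, Iso.refl_hom, Category.comp_id, Iso.hom_inv_id_assoc]
    · rw [algebraMap_eq, CommRingCat.ofHom_hom, strΓ, Iso.refl_hom, Category.comp_id, Iso.hom_inv_id_assoc]
    · simp
    · simp
  have h2 := CommRingCat.isPushout_tensorProduct k Γ(X.left, ⊤) Γ(Y.left, ⊤)
  let e := h2.isoIsPushout _ _ h1
  have e1 : ∀ a : Γ(X.left, ⊤), e.hom.hom (a ⊗ₜ[k] 1) = (fst X Y).left.appTop.hom a := fun a =>
    congrArg (fun m => m.hom a) (h2.inl_isoIsPushout_hom _ _ h1)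
  have e2 : ∀ b : Γ(Y.left, ⊤), e.hom.hom (1 ⊗ₜ[k] b) = (snd X Y).left.appTop.hom b := fun b =>
    congrArg (fun m => m.hom b) (h2.inr_isoIsPushout_hom _ _ h1)
  have hk : ∀ t : Γ(X.left, ⊤) ⊗[k] Γ(Y.left, ⊤), kap X Y t = e.hom.hom t := by
    intro t
    induction t using TensorProduct.induction_on with
    | zero => rw [map_zero, map_zero]
    | tmul a b =>
      have : (a ⊗ₜ[k] b : Γ(X.left, ⊤) ⊗[k] Γ(Y.left, ⊤)) = (a ⊗ₜ[k] 1) * (1 ⊗ₜ[k] b) := by
        rw [Algebra.TensorProduct.tmul_mul_tmul, _root_.mul_one, _root_.one_mul]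
      rw [kap_tmul, this, map_mul, e1, e2]
      rfl
    | add a b ha hb => rw [map_add, map_add, ha, hb]
  have hb : Function.Bijective e.hom.hom := ConcreteCategory.bijective_of_isIso e.hom
  refine ⟨fun a b h => hb.1 ?_, fun c => ?_⟩
  · rw [← hk, ← hk]; exact h
  · obtain ⟨t, ht⟩ := hb.2 c
    exact ⟨t, (hk t).trans ht⟩

/-- the Künneth isomorphism -/
noncomputable def kapEquiv (X Y : Over (Spec (CommRingCat.of k)))
    [CompactSpace X.left] [QuasiSeparatedSpace X.left] [CompactSpace Y.left] [QuasiSeparatedSpace Y.left] :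
    Γ(X.left, ⊤) ⊗[k] Γ(Y.left, ⊤) ≃ₐ[k] Γ((X ⊗ Y).left, ⊤) :=
  AlgEquiv.ofBijective (kap X Y) (kap_bijective X Y)

@[simp] theorem kapEquiv_apply (X Y : Over (Spec (CommRingCat.of k)))
    [CompactSpace X.left] [QuasiSeparatedSpace X.left] [CompactSpace Y.left] [QuasiSeparatedSpace Y.left]
    (t : Γ(X.left, ⊤) ⊗[k] Γ(Y.left, ⊤)) : kapEquiv X Y t = kap X Y t := rfl

theorem kap_symm (X Y : Over (Spec (CommRingCat.of k)))
    [CompactSpace X.left] [QuasiSeparatedSpace X.left] [CompactSpace Y.left] [QuasiSeparatedSpace Y.left]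
    (c : Γ((X ⊗ Y).left, ⊤)) : kap X Y ((kapEquiv X Y).symm c) = c :=
  (kapEquiv X Y).apply_symm_apply c

end Groth.Agent.Lib.helper4.GammaCoalg
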