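import Mathlib
import Groth.Agent.Lib.Helper4.GammaCoalg1

/-!
# The coalgebra structure on the global functions of a group scheme over a field (helper4)

For a quasi-compact quasi-separated group scheme `G` over a field `k` (not necessarily affine), `Γ(G, ⊤)` is a
`k`-coalgebra: the comultiplication is `μ^*` followed by the inverse of the Künneth isomorphism, the counit is `η^*`.

* `comulΓ`, `counitΓ`, `kap_comulΓ`, `algebraMap_counitΓ`.
* `coalgΓ G : Coalgebra k Γ(G.left, ⊤)` (a definition, to be used with `letI`).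
-/

set_option autoImplicit false
set_option backward.isDefEq.respectTransparency false
set_option linter.style.haveILetI false
set_option linter.unusedSectionVars false

universe u

open CategoryTheory CategoryTheory.Limits MonoidalCategory CartesianMonoidalCategory MonObj AlgebraicGeometry
open scoped TensorProduct

namespace Groth.Agent.Lib.helper4.GammaCoalg

open Groth.Agent.Lib.helper4.QAffGrp

variable {k : Type u} [Field k]

attribute [local instance] algΓ

section Unit

/-- the global functions of the base are the base field -/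
theorem algebraMap_unit_bijective :
    Function.Bijective (algebraMap k Γ((𝟙_ (Over (Spec (CommRingCat.of k)))).left, ⊤)) := by
  rw [algebraMap_eq]
  have h : strΓ (𝟙_ (Over (Spec (CommRingCat.of k)))) = (Scheme.ΓSpecIso (CommRingCat.of k)).inv := by
    unfold strΓ
    have : (𝟙_ (Over (Spec (CommRingCat.of k)))).hom = 𝟙 _ := rfl
    rw [this]
    simp
  rw [h]
  exact ConcreteCategory.bijective_of_isIso (Scheme.ΓSpecIso (CommRingCat.of k)).inv

/-- the base field as the global functions of the base -/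
noncomputable def unitEquiv : k ≃ₐ[k] Γ((𝟙_ (Over (Spec (CommRingCat.of k)))).left, ⊤) :=
  AlgEquiv.ofBijective (Algebra.ofId k _) algebraMap_unit_bijective

theorem unitEquiv_apply (c : k) : unitEquiv c = algebraMap k Γ((𝟙_ (Over (Spec (CommRingCat.of k)))).left, ⊤) c := rfl

end Unit

variable (G : Over (Spec (CommRingCat.of k))) [GrpObj G] [CompactSpace G.left] [QuasiSeparatedSpace G.left]

/-- the comultiplication on global functions -/
noncomputable def comulΓ : Γ(G.left, ⊤) →ₗ[k] Γ(G.left, ⊤) ⊗[k] Γ(G.left, ⊤) :=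
  (kapEquiv G G).symm.toLinearMap ∘ₗ (pb μ[G]).toLinearMap

theorem kap_comulΓ (x : Γ(G.left, ⊤)) : kap G G (comulΓ G x) = pb μ[G] x :=
  kap_symm G G _

/-- the counit on global functions -/
noncomputable def counitΓ : Γ(G.left, ⊤) →ₗ[k] k :=
  (unitEquiv (k := k)).symm.toLinearMap ∘ₗ (pb η[G]).toLinearMap

theorem algebraMap_counitΓ (x : Γ(G.left, ⊤)) :
    algebraMap k Γ((𝟙_ (Over (Spec (CommRingCat.of k)))).left, ⊤) (counitΓ G x) = pb η[G] x := by
  rw [← unitEquiv_apply]
  exact (unitEquiv (k := k)).apply_symm_apply _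

/-- evaluating a function pulled back from the base -/
theorem pb_algebraMap {X Y : Over (Spec (CommRingCat.of k))} (f : X ⟶ Y) (c : k) :
    pb f (algebraMap k Γ(Y.left, ⊤) c) = algebraMap k Γ(X.left, ⊤) c := (pb f).commutes c

section Coassoc

/-- the triple Künneth map, right-bracketed -/
noncomputable def kap3 : Γ(G.left, ⊤) ⊗[k] (Γ(G.left, ⊤) ⊗[k] Γ(G.left, ⊤)) →ₗ[k] Γ((G ⊗ (G ⊗ G)).left, ⊤) :=
  (kap G (G ⊗ G)).toLinearMap ∘ₗ (kap G G).toLinearMap.lTensor Γ(G.left, ⊤)

/-- the triple Künneth map, left-bracketed -/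
noncomputable def kap3' : (Γ(G.left, ⊤) ⊗[k] Γ(G.left, ⊤)) ⊗[k] Γ(G.left, ⊤) →ₗ[k] Γ(((G ⊗ G) ⊗ G).left, ⊤) :=
  (kap (G ⊗ G) G).toLinearMap ∘ₗ (kap G G).toLinearMap.rTensor Γ(G.left, ⊤)

theorem kap3_injective : Function.Injective (kap3 G) := by
  unfold kap3
  rw [LinearMap.coe_comp]
  refine Function.Injective.comp (kap_bijective G (G ⊗ G)).1 ?_
  exact Module.Flat.lTensor_preserves_injective_linearMap _ (kap_bijective G G).1

theorem kap3_lTensor_comul :
    kap3 G ∘ₗ (comulΓ G).lTensor Γ(G.left, ⊤) = (pb (G ◁ μ[G])).toLinearMap ∘ₗ (kap G G).toLinearMap := by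
  apply TensorProduct.ext'
  intro a b
  simp only [kap3, LinearMap.comp_apply, LinearMap.lTensor_tmul, AlgHom.toLinearMap_apply, kap_comulΓ]
  rw [kap_tmul, pb_kap, whiskerLeft_fst, whiskerLeft_snd, pb_comp_apply]

theorem kap3'_rTensor_comul :
    kap3' G ∘ₗ (comulΓ G).rTensor Γ(G.left, ⊤) = (pb (μ[G] ▷ G)).toLinearMap ∘ₗ (kap G G).toLinearMap := by
  apply TensorProduct.ext'
  intro a b
  simp only [kap3', LinearMap.comp_apply, LinearMap.rTensor_tmul, AlgHom.toLinearMap_apply, kap_comulΓ]
  rw [kap_tmul, pb_kap, whiskerRight_fst, whiskerRight_snd, pb_comp_apply]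

theorem kap3_assoc :
    kap3 G ∘ₗ (TensorProduct.assoc k Γ(G.left, ⊤) Γ(G.left, ⊤) Γ(G.left, ⊤)).toLinearMap =
      (pb (α_ G G G).inv).toLinearMap ∘ₗ kap3' G := by
  apply TensorProduct.ext_threefold
  intro a b c
  simp only [kap3, kap3', LinearMap.comp_apply, LinearEquiv.coe_coe, TensorProduct.assoc_tmul,
    LinearMap.lTensor_tmul, LinearMap.rTensor_tmul, AlgHom.toLinearMap_apply]
  rw [kap_tmul G G, kap_tmul G G, kap_tmul, pb_kap, map_mul, map_mul, ← pb_comp_apply, ← pb_comp_apply,
    ← pb_comp_apply, ← pb_comp_apply]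
  simp only [Category.assoc, associator_inv_fst_fst, associator_inv_fst_snd, associator_inv_snd]
  rw [_root_.mul_assoc]

theorem coassocΓ :
    (TensorProduct.assoc k Γ(G.left, ⊤) Γ(G.left, ⊤) Γ(G.left, ⊤)).toLinearMap ∘ₗ
        (comulΓ G).rTensor Γ(G.left, ⊤) ∘ₗ comulΓ G =
      (comulΓ G).lTensor Γ(G.left, ⊤) ∘ₗ comulΓ G := by
  apply LinearMap.ext
  intro x
  apply kap3_injective G
  have h1 := congrArg (fun m => m ((comulΓ G).rTensor Γ(G.left, ⊤) (comulΓ G x))) (kap3_assoc G)
  have h2 := congrArg (fun m => m (comulΓ G x)) (kap3'_rTensor_comul G)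
  have h3 := congrArg (fun m => m (comulΓ G x)) (kap3_lTensor_comul G)
  simp only [LinearMap.comp_apply, LinearEquiv.coe_coe, AlgHom.toLinearMap_apply] at h1 h2 h3 ⊢
  rw [h1, h2, h3, kap_comulΓ, ← pb_comp_apply, ← pb_comp_apply, ← pb_comp_apply, Category.assoc,
    MonObj.mul_assoc, Iso.inv_hom_id_assoc]

end Coassoc

section Counit

theorem rTensor_counitΓ :
    (counitΓ G).rTensor Γ(G.left, ⊤) ∘ₗ comulΓ G = TensorProduct.mk k _ _ 1 := by
  apply LinearMap.ext
  intro x
  apply (TensorProduct.lid k Γ(G.left, ⊤)).injective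
  -- the map `a ⊗ b ↦ ε(a) • b` in geometric terms
  have key : (pb (λ_ G).hom).toLinearMap ∘ₗ (TensorProduct.lid k Γ(G.left, ⊤)).toLinearMap ∘ₗ
      (counitΓ G).rTensor Γ(G.left, ⊤) = (pb (η[G] ▷ G)).toLinearMap ∘ₗ (kap G G).toLinearMap := by
    apply TensorProduct.ext'
    intro a b
    simp only [LinearMap.comp_apply, LinearMap.rTensor_tmul, LinearEquiv.coe_coe, TensorProduct.lid_tmul,
      AlgHom.toLinearMap_apply]
    rw [pb_kap, whiskerRight_fst, whiskerRight_snd, pb_comp_apply, ← algebraMap_counitΓ, pb_algebraMap,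
      map_smul, leftUnitor_hom, Algebra.smul_def]
  have h1 := congrArg (fun m => m (comulΓ G x)) key
  simp only [LinearMap.comp_apply, LinearEquiv.coe_coe, AlgHom.toLinearMap_apply] at h1
  rw [kap_comulΓ, ← pb_comp_apply, MonObj.one_mul] at h1
  have h2 := (pb_bijective_of_isIso (λ_ G).hom).1 h1
  rw [LinearMap.comp_apply, h2]
  simp

theorem lTensor_counitΓ :
    (counitΓ G).lTensor Γ(G.left, ⊤) ∘ₗ comulΓ G = (TensorProduct.mk k _ _).flip 1 := by
  apply LinearMap.ext
  intro x
  apply (TensorProduct.rid k Γ(G.left, ⊤)).injective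
  have key : (pb (ρ_ G).hom).toLinearMap ∘ₗ (TensorProduct.rid k Γ(G.left, ⊤)).toLinearMap ∘ₗ
      (counitΓ G).lTensor Γ(G.left, ⊤) = (pb (G ◁ η[G])).toLinearMap ∘ₗ (kap G G).toLinearMap := by
    apply TensorProduct.ext'
    intro a b
    simp only [LinearMap.comp_apply, LinearMap.lTensor_tmul, LinearEquiv.coe_coe, TensorProduct.rid_tmul,
      AlgHom.toLinearMap_apply]
    rw [pb_kap, whiskerLeft_fst, whiskerLeft_snd, pb_comp_apply (snd G (𝟙_ _)), ← algebraMap_counitΓ,
      pb_algebraMap, map_smul, rightUnitor_hom, Algebra.smul_def, _root_.mul_comm]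
  have h1 := congrArg (fun m => m (comulΓ G x)) key
  simp only [LinearMap.comp_apply, LinearEquiv.coe_coe, AlgHom.toLinearMap_apply] at h1
  rw [kap_comulΓ, ← pb_comp_apply, MonObj.mul_one] at h1
  have h2 := (pb_bijective_of_isIso (ρ_ G).hom).1 h1
  rw [LinearMap.comp_apply, h2]
  simp

end Counit

/-- the coalgebra of global functions of a quasi-compact quasi-separated group scheme over a field -/
@[instance_reducible] noncomputable def coalgΓ : Coalgebra k Γ(G.left, ⊤) where
  comul := comulΓ G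
  counit := counitΓ G
  coassoc := coassocΓ G
  rTensor_counit_comp_comul := rTensor_counitΓ G
  lTensor_counit_comp_comul := lTensor_counitΓ G

end Groth.Agent.Lib.helper4.GammaCoalg
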