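import Mathlib
import Groth.Agent.Lib.Helper4.GammaCoalg2
import Groth.Agent.Lib.Helper15.MatCoef

/-!
# Matrix coefficients of the regular representation of a group scheme over a field (helper4)

For a quasi-compact quasi-separated group scheme `G` over a field `k` (not necessarily affine) every global function `f`
lies in a finite-dimensional right-translation-stable subspace; choosing a basis gives a "group-like" matrix `a` over
`Γ(G, ⊤)`:

* `exists_matrix f`: there are `n` and `a : Matrix (Fin n) (Fin n) Γ(G)` with `(g * h)^* a = g^* a · h^* a` and `1^* a = 1` on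
  `T`-valued points (`IsGrpLike`), such that `f` is a constant as soon as `a` is the identity matrix.
-/

set_option autoImplicit false
set_option backward.isDefEq.respectTransparency false
set_option linter.style.haveILetI false
set_option linter.unusedSectionVars false

universe u

open CategoryTheory CategoryTheory.Limits MonoidalCategory CartesianMonoidalCategory MonObj AlgebraicGeometry
open scoped TensorProduct

namespace Groth.Agent.Lib.helper4.GammaCoalg

open Groth.Agent.Lib.helper4.QAffGrp

variable {k : Type u} [Field k]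

attribute [local instance] algΓ

variable (G : Over (Spec (CommRingCat.of k))) [GrpObj G]

/-- a matrix of global functions is group-like -/
structure IsGrpLike {n : ℕ} (a : Matrix (Fin n) (Fin n) Γ(G.left, ⊤)) : Prop where
  mul : ∀ {T : Over (Spec (CommRingCat.of k))} (g h : T ⟶ G) (i j : Fin n),
    pb (g * h) (a i j) = ∑ l, pb g (a i l) * pb h (a l j)
  one : ∀ (T : Over (Spec (CommRingCat.of k))) (i j : Fin n),
    pb (1 : T ⟶ G) (a i j) = if i = j then 1 else 0

variable [CompactSpace G.left] [QuasiSeparatedSpace G.left]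

theorem exists_matrix (f : Γ(G.left, ⊤)) :
    ∃ (n : ℕ) (a : Matrix (Fin n) (Fin n) Γ(G.left, ⊤)), IsGrpLike G a ∧
      ((∀ i j, a i j = if i = j then 1 else 0) → f ∈ Set.range (algebraMap k Γ(G.left, ⊤))) := by
  classical
  letI := coalgΓ G
  set W : Submodule k Γ(G.left, ⊤) := Groth.Agent.Lib.helper15.HopfSub.RC (k := k) f with hW
  have hWfg : W.FG := Groth.Agent.Lib.helper15.HopfSub.RC_fg f
  have hfW : f ∈ W := Groth.Agent.Lib.helper15.HopfSub.mem_RC f
  have hWco := Groth.Agent.Lib.helper15.HopfSub.RC_coideal (k := k) f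
  haveI : Module.Finite k W := Module.Finite.iff_fg.mpr hWfg
  let b : Module.Basis (Fin (Module.finrank k W)) k W := Module.finBasis k W
  obtain ⟨a, hab, haΔ, haε, hba⟩ := Groth.Agent.Lib.helper15.MatCoef.exists_matrix_coeff W hWco b
  have hμ : ∀ i j, pb μ[G] (a i j) = ∑ l, pb (fst G G) (a i l) * pb (snd G G) (a l j) := by
    intro i j
    have h1 : comulΓ G (a i j) = ∑ l, a i l ⊗ₜ[k] a l j := haΔ i j
    rw [← kap_comulΓ, h1, map_sum]
    exact Finset.sum_congr rfl fun l _ => kap_tmul G G _ _
  have hη : ∀ i j, pb η[G] (a i j) = if i = j then 1 else 0 := by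
    intro i j
    have h1 : counitΓ G (a i j) = if i = j then 1 else 0 := haε i j
    rw [← algebraMap_counitΓ, h1, apply_ite (algebraMap k _), map_one, map_zero]
  refine ⟨_, a, ⟨?_, ?_⟩, ?_⟩
  · intro T g h i j
    rw [Hom.mul_def, pb_comp_apply, hμ, map_sum]
    refine Finset.sum_congr rfl fun l _ => ?_
    rw [map_mul, ← pb_comp_apply, ← pb_comp_apply, lift_fst, lift_snd]
  · intro T i j
    rw [Hom.one_def, pb_comp_apply, hη, apply_ite (pb (toUnit T)), map_one, map_zero]
  · intro hI
    have hb : ∀ j, (b j : Γ(G.left, ⊤)) ∈ Set.range (algebraMap k Γ(G.left, ⊤)) := by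
      intro j
      refine ⟨counitΓ G (b j : Γ(G.left, ⊤)), ?_⟩
      have h1 := hba j
      have h2 : ∑ i, (Coalgebra.counit (R := k) (b i : Γ(G.left, ⊤))) • a i j =
          (Coalgebra.counit (R := k) (b j : Γ(G.left, ⊤))) • (1 : Γ(G.left, ⊤)) := by
        rw [Finset.sum_eq_single j]
        · rw [hI, if_pos rfl]
        · intro i _ hij
          rw [hI, if_neg hij, smul_zero]
        · intro h; exact absurd (Finset.mem_univ j) h
      conv_rhs => rw [h1, h2, Algebra.smul_def, _root_.mul_one]
      rfl
    have hW' : W ≤ (Algebra.ofId k Γ(G.left, ⊤)).toLinearMap.range := by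
      intro w hw
      have h1 := b.sum_repr ⟨w, hw⟩
      have h2 := congrArg (fun z : W => (z : Γ(G.left, ⊤))) h1
      simp only [AddSubmonoidClass.coe_finsetSum, Submodule.coe_smul] at h2
      rw [← h2]
      refine Submodule.sum_mem _ fun j _ => Submodule.smul_mem _ _ ?_
      obtain ⟨c, hc⟩ := hb j
      exact ⟨c, hc⟩
    obtain ⟨c, hc⟩ := hW' hfW
    exact ⟨c, hc⟩

end Groth.Agent.Lib.helper4.GammaCoalg
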