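import Mathlib
import Groth.Prelude.Def_AlgGrp
import Groth.Agent.Lib.Helper4.GammaCoalg3

/-!
# The linear action on affine space attached to a group-like matrix of global functions (helper4)

For a group scheme `G` over a field `k` and a group-like matrix `a : Matrix (Fin n) (Fin n) Γ(G)`
(`GammaCoalg.IsGrpLike`), `G` acts on the affine space `AX n = 𝔸ⁿ_k` by `g · y = (∑ⱼ aᵢⱼ(g) yⱼ)ᵢ`, with the origin as a
fixed rational point; if this action is trivial then `a` is the identity matrix.

* `AX n`, `vecHom`, `xc`, `pb_vecHom`, `homAX_ext`.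
* `matAct G a ha : AlgGrp.Action G (AX n)`, `isFixedPt_origin`, `eq_one_of_matAct_trivial`.
-/

set_option autoImplicit false
set_option backward.isDefEq.respectTransparency false
set_option linter.style.haveILetI false
set_option linter.unusedSectionVars false

universe u

open CategoryTheory CategoryTheory.Limits MonoidalCategory CartesianMonoidalCategory MonObj AlgebraicGeometry
open scoped TensorProduct

namespace Groth.Agent.Lib.helper4.AntiAffAct

open Groth.Agent.Lib.helper4.GammaCoalg

variable {k : Type u} [Field k]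

attribute [local instance] Groth.Agent.Lib.helper4.GammaCoalg.algΓ

/-- affine `n`-space over `k` as an object over `Spec k` -/
noncomputable def AX (n : ℕ) : Over (Spec (CommRingCat.of k)) :=
  Over.mk (𝔸(ULift.{u} (Fin n); Spec (CommRingCat.of k)) ↘ Spec (CommRingCat.of k))

instance (n : ℕ) : IsAffineHom (AX (k := k) n).hom :=
  inferInstanceAs (IsAffineHom (𝔸(ULift.{u} (Fin n); Spec (CommRingCat.of k)) ↘ Spec (CommRingCat.of k)))

instance (n : ℕ) : LocallyOfFinitePresentation (AX (k := k) n).hom :=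
  inferInstanceAs (LocallyOfFinitePresentation
    (𝔸(ULift.{u} (Fin n); Spec (CommRingCat.of k)) ↘ Spec (CommRingCat.of k)))

instance (n : ℕ) : GeometricallyIntegral (AX (k := k) n).hom :=
  inferInstanceAs (GeometricallyIntegral
    (𝔸(ULift.{u} (Fin n); Spec (CommRingCat.of k)) ↘ Spec (CommRingCat.of k)))

instance (n : ℕ) : IsIntegral (AX (k := k) n).left :=
  inferInstanceAs (IsIntegral 𝔸(ULift.{u} (Fin n); Spec (CommRingCat.of k)))

/-- the coordinate functions -/
noncomputable def xc {n : ℕ} (i : Fin n) : Γ((AX (k := k) n).left, ⊤) :=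
  AffineSpace.coord (Spec (CommRingCat.of k)) (ULift.up i)

/-- the morphism to affine space with given coordinates -/
noncomputable def vecHom {n : ℕ} {T : Over (Spec (CommRingCat.of k))} (v : Fin n → Γ(T.left, ⊤)) : T ⟶ AX n :=
  Over.homMk (AffineSpace.homOfVector T.hom fun i => v i.down) (AffineSpace.homOfVector_over _ _)

theorem pb_vecHom {n : ℕ} {T : Over (Spec (CommRingCat.of k))} (v : Fin n → Γ(T.left, ⊤)) (i : Fin n) :
    pb (vecHom v) (xc i) = v i := by
  change (AffineSpace.homOfVector T.hom fun i => v i.down).appTop.hom (AffineSpace.coord _ (ULift.up i)) = v i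
  exact AffineSpace.homOfVector_appTop_coord _ _ _

theorem homAX_ext {n : ℕ} {T : Over (Spec (CommRingCat.of k))} (f g : T ⟶ AX n)
    (h : ∀ i, pb f (xc i) = pb g (xc i)) : f = g := by
  apply Over.OverMorphism.ext
  apply AffineSpace.hom_ext
  · exact (Over.w f).trans (Over.w g).symm
  · intro i
    exact h i.down

variable (G : Over (Spec (CommRingCat.of k))) [GrpObj G] {n : ℕ} (a : Matrix (Fin n) (Fin n) Γ(G.left, ⊤))

/-- the action morphism -/
noncomputable def actHom : G ⊗ AX n ⟶ AX n :=
  vecHom fun i => ∑ j, pb (fst G (AX n)) (a i j) * pb (snd G (AX n)) (xc j)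

theorem pb_actHom (i : Fin n) :
    pb (actHom G a) (xc i) = ∑ j, pb (fst G (AX n)) (a i j) * pb (snd G (AX n)) (xc j) :=
  pb_vecHom _ i

theorem pb_comp_actHom {T : Over (Spec (CommRingCat.of k))} (w : T ⟶ G ⊗ AX n) (i : Fin n) :
    pb (w ≫ actHom G a) (xc i) = ∑ j, pb (w ≫ fst G (AX n)) (a i j) * pb (w ≫ snd G (AX n)) (xc j) := by
  rw [pb_comp_apply, pb_actHom, map_sum]
  refine Finset.sum_congr rfl fun j _ => ?_
  rw [map_mul, ← pb_comp_apply, ← pb_comp_apply]

variable {G a}

/-- the linear action on affine space of a group-like matrix -/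
noncomputable def matAct (ha : IsGrpLike G a) : AlgGrp.Action G (AX n) where
  act := actHom G a
  one_act := by
    apply homAX_ext
    intro i
    rw [pb_comp_actHom, leftUnitor_hom]
    have h1 : (η[G] ▷ AX n) ≫ fst G (AX n) = (1 : 𝟙_ _ ⊗ AX n ⟶ G) := by
      rw [whiskerRight_fst, Hom.one_def]
      congr 1
    have h2 : (η[G] ▷ AX n) ≫ snd G (AX n) = snd _ _ := whiskerRight_snd _ _
    rw [h1, h2]
    simp only [ha.one]
    rw [Finset.sum_eq_single i]
    · rw [if_pos rfl, _root_.one_mul]
    · intro j _ hji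
      rw [if_neg (Ne.symm hji), zero_mul]
    · intro h; exact absurd (Finset.mem_univ i) h
  mul_act := by
    apply homAX_ext
    intro i
    rw [pb_comp_actHom]
    have e1 : (μ[G] ▷ AX n) ≫ fst G (AX n) =
        (fst (G ⊗ G) (AX n) ≫ fst G G) * (fst (G ⊗ G) (AX n) ≫ snd G G) := by
      rw [whiskerRight_fst, Hom.mul_def, ← comp_lift_assoc, lift_fst_snd, Category.id_comp]
    have e2 : (μ[G] ▷ AX n) ≫ snd G (AX n) = snd _ _ := whiskerRight_snd _ _
    have e3 : ((α_ G G (AX n)).hom ≫ (G ◁ actHom G a) ≫ actHom G a) =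
        ((α_ G G (AX n)).hom ≫ (G ◁ actHom G a)) ≫ actHom G a := (Category.assoc _ _ _).symm
    rw [e1, e2, e3, pb_comp_actHom]
    have e4 : ((α_ G G (AX n)).hom ≫ (G ◁ actHom G a)) ≫ fst G (AX n) = fst (G ⊗ G) (AX n) ≫ fst G G := by
      rw [Category.assoc, whiskerLeft_fst, associator_hom_fst]
    have e5 : ((α_ G G (AX n)).hom ≫ (G ◁ actHom G a)) ≫ snd G (AX n) =
        ((α_ G G (AX n)).hom ≫ snd G (G ⊗ AX n)) ≫ actHom G a := by
      rw [Category.assoc, whiskerLeft_snd, Category.assoc]
    rw [e4, e5]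
    simp only [pb_comp_actHom, ha.mul]
    have e6 : ((α_ G G (AX n)).hom ≫ snd G (G ⊗ AX n)) ≫ fst G (AX n) = fst (G ⊗ G) (AX n) ≫ snd G G := by
      rw [Category.assoc, associator_hom_snd_fst]
    have e7 : ((α_ G G (AX n)).hom ≫ snd G (G ⊗ AX n)) ≫ snd G (AX n) = snd (G ⊗ G) (AX n) := by
      rw [Category.assoc, associator_hom_snd_snd]
    rw [e6, e7]
    simp only [Finset.sum_mul, Finset.mul_sum]
    rw [Finset.sum_comm]
    refine Finset.sum_congr rfl fun l _ => Finset.sum_congr rfl fun j _ => ?_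
    rw [_root_.mul_assoc]

@[simp] theorem matAct_act (ha : IsGrpLike G a) : (matAct ha).act = actHom G a := rfl

/-- the origin -/
noncomputable def origin (n : ℕ) : 𝟙_ (Over (Spec (CommRingCat.of k))) ⟶ AX n := vecHom fun _ => 0

theorem isFixedPt_origin (ha : IsGrpLike G a) : (matAct ha).IsFixedPt (origin n) := by
  intro T g
  apply homAX_ext
  intro i
  rw [matAct_act, pb_comp_actHom, lift_fst, lift_snd]
  have h0 : ∀ j, pb (toUnit T ≫ origin n) (xc j) = 0 := by
    intro j
    rw [pb_comp_apply, origin, pb_vecHom, map_zero]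
  simp only [h0, mul_zero, Finset.sum_const_zero]

/-- the `l`-th basis vector as a rational point -/
noncomputable def basisPt {n : ℕ} (l : Fin n) : 𝟙_ (Over (Spec (CommRingCat.of k))) ⟶ AX n :=
  vecHom fun j => if j = l then 1 else 0

theorem eq_one_of_matAct_trivial (ha : IsGrpLike G a) (h : (matAct ha).act = snd G (AX n)) (i l : Fin n) :
    a i l = if i = l then 1 else 0 := by
  classical
  have h1 := congrArg (fun m => pb (lift (𝟙 G) (toUnit G ≫ basisPt l) ≫ m) (xc i)) h
  simp only [matAct_act] at h1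
  rw [pb_comp_actHom, lift_fst, lift_snd, pb_id] at h1
  have h0 : ∀ j, pb (toUnit G ≫ basisPt l) (xc j) = if j = l then 1 else 0 := by
    intro j
    rw [pb_comp_apply, basisPt, pb_vecHom, apply_ite (pb (toUnit G)), map_one, map_zero]
  simp only [h0, AlgHom.id_apply, mul_ite, _root_.mul_one, mul_zero, Finset.sum_ite_eq', Finset.mem_univ,
    if_true] at h1
  exact h1

end Groth.Agent.Lib.helper4.AntiAffAct
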