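import Mathlib
import Groth.Prelude.Def_AlgGrp
import Groth.Agent.Lib.Helper4.AntiAffAct
import Groth.Agent.Lib.Helper4.QAffGrp5

/-!
# Anti-affine group schemes: actions with a fixed point are trivial, and conversely (helper4)

`G` a group scheme of finite type over a field `k`.

* `hom_affX_ext`: if `Γ(G) = k` then any two morphisms to the affinisation `Spec Γ(G)` over `k` agree.
* `act_trivial_of_bijective`: if `Γ(G) = k`, every action of `G` on a separated integral locally noetherian `k`-scheme with a
  fixed rational point is trivial.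
* `bijective_of_matrices_trivial`: if every group-like matrix of global functions is the identity then `Γ(G) = k`.
* `bijective_of_actions_trivial`: if every action of `G` on an affine space fixing the origin is trivial, `Γ(G) = k`.
-/

set_option autoImplicit false
set_option backward.isDefEq.respectTransparency false
set_option linter.style.haveILetI false
set_option linter.unusedSectionVars false

universe u

open CategoryTheory CategoryTheory.Limits MonoidalCategory CartesianMonoidalCategory MonObj AlgebraicGeometry
open scoped TensorProduct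

namespace Groth.Agent.Lib.helper4.AntiAffTriv

open Groth.Agent.Lib.helper4.GammaCoalg Groth.Agent.Lib.helper4.QAffGrp Groth.Agent.Lib.helper4.AntiAffAct

variable {k : Type u} [Field k]

attribute [local instance] Groth.Agent.Lib.helper4.GammaCoalg.algΓ

variable (G : Over (Spec (CommRingCat.of k)))

theorem hom_affX_ext (hb : Function.Bijective ((Scheme.ΓSpecIso (CommRingCat.of k)).inv ≫ G.hom.appTop).hom)
    {T : Over (Spec (CommRingCat.of k))} (u v : T ⟶ affX G) : u = v := by
  have hsurj : Function.Surjective (algebraMap k Γ((affX G).left, ⊤)) := by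
    intro c
    obtain ⟨r, hr⟩ := hb.2 (pb (jA G) c)
    refine ⟨r, ?_⟩
    have hiso : IsIso (jA G).left.appTop := (isAffn_jA G).2
    have hinj : Function.Injective (pb (jA G)) := (ConcreteCategory.bijective_of_isIso (jA G).left.appTop).1
    apply hinj
    rw [pb_algebraMap]
    exact hr
  apply Over.OverMorphism.ext
  apply ext_of_isAffine
  ext c
  obtain ⟨r, rfl⟩ := hsurj c
  exact ((pb u).commutes r).trans ((pb v).commutes r).symm

theorem act_trivial_of_bijective [GrpObj G] [LocallyOfFiniteType G.hom] [QuasiCompact G.hom]
    (hb : Function.Bijective ((Scheme.ΓSpecIso (CommRingCat.of k)).inv ≫ G.hom.appTop).hom)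
    (X : Over (Spec (CommRingCat.of k))) [IsSeparated X.hom] [IsIntegral X.left] [IsLocallyNoetherian X.left]
    (a : AlgGrp.Action G X) (x : 𝟙_ (Over (Spec (CommRingCat.of k))) ⟶ X) (hx : a.IsFixedPt x) :
    a.act = snd G X := by
  haveI := compactSpace_of_quasiCompact G
  haveI := quasiSeparatedSpace_of_lft G
  have h := ker_act_trivial G X a x hx G (𝟙 G) (hom_affX_ext G hb _ _)
  rwa [id_whiskerRight, Category.id_comp] at h

theorem bijective_of_surjective [GrpObj G]
    (hs : Function.Surjective (algebraMap k Γ(G.left, ⊤))) :
    Function.Bijective ((Scheme.ΓSpecIso (CommRingCat.of k)).inv ≫ G.hom.appTop).hom := by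
  refine ⟨?_, hs⟩
  have hne : Nontrivial Γ(G.left, ⊤) := by
    have h0 : Nonempty (Spec (CommRingCat.of k)) := inferInstance
    obtain ⟨s⟩ := h0
    have hG : Nonempty (⊤ : G.left.Opens) := ⟨⟨η[G].left s, trivial⟩⟩
    exact Scheme.component_nontrivial G.left ⊤
  exact (algebraMap k Γ(G.left, ⊤)).injective

theorem bijective_of_matrices_trivial [GrpObj G] [LocallyOfFiniteType G.hom] [QuasiCompact G.hom]
    (h : ∀ (n : ℕ) (a : Matrix (Fin n) (Fin n) Γ(G.left, ⊤)), IsGrpLike G a → ∀ i j, a i j = if i = j then 1 else 0) :
    Function.Bijective ((Scheme.ΓSpecIso (CommRingCat.of k)).inv ≫ G.hom.appTop).hom := by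
  haveI := compactSpace_of_quasiCompact G
  haveI := quasiSeparatedSpace_of_lft G
  apply bijective_of_surjective
  intro f
  obtain ⟨n, a, ha, hf⟩ := exists_matrix G f
  exact hf (h n a ha)

theorem bijective_of_actions_trivial [GrpObj G] [LocallyOfFiniteType G.hom] [QuasiCompact G.hom]
    (h : ∀ (n : ℕ) (a : AlgGrp.Action G (AX n)), a.IsFixedPt (origin n) → a.act = snd G (AX n)) :
    Function.Bijective ((Scheme.ΓSpecIso (CommRingCat.of k)).inv ≫ G.hom.appTop).hom := by
  apply bijective_of_matrices_trivial
  intro n a ha i j
  exact eq_one_of_matAct_trivial ha (h n (matAct ha) (isFixedPt_origin ha)) i j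

end Groth.Agent.Lib.helper4.AntiAffTriv
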