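import Mathlib
import Groth.Prelude.Def_FrameBundle
import Groth.Agent.Lib.Helper15.GaGm
import Groth.Agent.Lib.Helper15.GLnMat

/-!
# Points of `FrB.GLn n S` as invertible matrices (helper4)

For `x : X ⟶ FrB.GLn n S` (a point of `GL_{n,S}` with values in the `S`-scheme `X`), `mat x` is the matrix of global
functions on `X` given by the coordinate functions.  `mat_comp`, `mat_mul`, `mat_one`, `isUnit_det_mat`, `mat_injective`,
`exists_mat_eq`: the points of `GL_{n,S}` are exactly the invertible matrices, compatibly with products.  Built on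
helper15's `GaGm.pt`.
-/

set_option autoImplicit false

namespace Groth.Agent.Lib.helper4.GLnPts

open CategoryTheory MonoidalCategory CartesianMonoidalCategory MonObj GrpObj AlgebraicGeometry Limits
open scoped TensorProduct
open Groth.Agent.Lib.helper15.GaGm CoordGrp

universe u

variable {S : Scheme.{u}} {n : ℕ}

/-- the matrix of a point of `GL_{n,S}` -/
noncomputable def mat {X : Over S} (x : X ⟶ FrB.GLn n S) : Matrix (Fin n) (Fin n) Γ(X.left, ⊤) :=
  fun i j => pt (fS S) x (GLn.X i j)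

lemma mat_apply {X : Over S} (x : X ⟶ FrB.GLn n S) (i j : Fin n) :
    mat x i j = pt (fS S) x (GLn.X i j) := rfl

lemma mat_comp {X Y : Over S} (g : Y ⟶ X) (x : X ⟶ FrB.GLn n S) (i j : Fin n) :
    mat (g ≫ x) i j = g.left.appTop (mat x i j) :=
  pt_comp (fS S) g x _

lemma mat_mul {X : Over S} (x y : X ⟶ FrB.GLn n S) : mat (x * y) = mat x * mat y := by
  ext i j
  rw [mat_apply, pt_mul_eq, GLn.comul_X, map_sum, Matrix.mul_apply]
  exact Finset.sum_congr rfl fun l _ => pt₂_tmul _ _ _ _ _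

lemma mat_eq_mapMatrix {X : Over S} (x : X ⟶ FrB.GLn n S) :
    mat x = (pt (fS S) x).mapMatrix (GLn.genMat n (ULift.{u} ℤ)) := rfl

lemma isUnit_det_mat {X : Over S} (x : X ⟶ FrB.GLn n S) : IsUnit (mat x).det := by
  rw [mat_eq_mapMatrix, ← RingHom.map_det, ← GLn.det_eq]
  exact IsUnit.map _ (IsUnit.of_mul_eq_one _ GLn.det_mul_Dinv)

lemma mat_one {X : Over S} : mat (1 : X ⟶ FrB.GLn n S) = 1 := by
  have h := mat_mul (1 : X ⟶ FrB.GLn n S) 1
  rw [_root_.mul_one] at h
  have hu := isUnit_det_mat (1 : X ⟶ FrB.GLn n S)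
  set P := mat (1 : X ⟶ FrB.GLn n S) with hP
  have h1 : P⁻¹ * P = 1 := Matrix.nonsing_inv_mul P hu
  calc P = (P⁻¹ * P) * P := by rw [h1, Matrix.one_mul]
    _ = P⁻¹ * (P * P) := Matrix.mul_assoc _ _ _
    _ = P⁻¹ * P := by rw [← h]
    _ = 1 := h1

/-- ring homs out of the coordinate ring of `GL_n` over `ℤ` agreeing on the entries are equal -/
lemma ringHom_ext_GLn {B : Type u} [CommRing B] (g h : GLn n (ULift.{u} ℤ) →+* B)
    (e : ∀ i j, g (GLn.X i j) = h (GLn.X i j)) : g = h := by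
  letI : Algebra (ULift.{u} ℤ) B := ULift.algebra' ℤ B
  have hc : ∀ (f : GLn n (ULift.{u} ℤ) →+* B) (r : ULift.{u} ℤ),
      f (algebraMap (ULift.{u} ℤ) (GLn n (ULift.{u} ℤ)) r) = algebraMap (ULift.{u} ℤ) B r := by
    intro f r
    have hr : r = ((r.down : ℤ) : ULift.{u} ℤ) := by
      apply ULift.ext; simp
    rw [hr, map_intCast, map_intCast, map_intCast]
  let g' : GLn n (ULift.{u} ℤ) →ₐ[ULift.{u} ℤ] B := { g with commutes' := hc g }
  let h' : GLn n (ULift.{u} ℤ) →ₐ[ULift.{u} ℤ] B := { h with commutes' := hc h }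
  have hgh : g' = h' := Groth.Agent.Lib.helper15.GLnMat.algHom_ext_mat (by
    ext i j
    exact e i j)
  ext a
  exact congrArg (fun f : GLn n (ULift.{u} ℤ) →ₐ[ULift.{u} ℤ] B => f a) hgh

lemma mat_injective {X : Over S} (x y : X ⟶ FrB.GLn n S) (h : mat x = mat y) : x = y := by
  apply pt_injective (fS S)
  exact ringHom_ext_GLn _ _ fun i j => congrFun (congrFun h i) j

lemma exists_mat_eq {X : Over S} (M : Matrix (Fin n) (Fin n) Γ(X.left, ⊤)) (hM : IsUnit M.det) :
    ∃ x : X ⟶ FrB.GLn n S, mat x = M := by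
  letI : Algebra (ULift.{u} ℤ) Γ(X.left, ⊤) := ULift.algebra' ℤ Γ(X.left, ⊤)
  let g : GLn n (ULift.{u} ℤ) →ₐ[ULift.{u} ℤ] Γ(X.left, ⊤) :=
    Groth.Agent.Lib.helper15.GLnMat.ofMat (k := ULift.{u} ℤ) M hM
  obtain ⟨t, ht⟩ := exists_pt_eq (fS S) (X := X) (g.toRingHom)
    (specULiftZIsTerminal.hom_ext _ _)
  refine ⟨t, ?_⟩
  ext i j
  rw [mat_apply, ht]
  show g (GLn.X i j) = M i j
  simp [g, Groth.Agent.Lib.helper15.GLnMat.ofMat]

instance isAffineHom_GLn : IsAffineHom (FrB.GLn n S).hom := by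
  have h : IsAffineHom (FrB.GLZ.{u} n).hom :=
    inferInstanceAs (IsAffineHom (Spec (CommRingCat.of (GLn n (ULift.{u} ℤ))) ↘ Spec (CommRingCat.of (ULift.{u} ℤ))))
  exact MorphismProperty.pullback_snd _ _ h

end Groth.Agent.Lib.helper4.GLnPts
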