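import Mathlib
import Groth.Agent.Lib.Helper4.GLnPts
import Groth.Agent.Lib.Helper4.AntiAffTriv

/-!
# Anti-affine group schemes and homomorphisms to `GL_n` (helper4)

`G` a group scheme of finite type over a field `k`.

* `hom_eq_one_of_bijective`: if `Γ(G) = k`, every homomorphism `G ⟶ GL_{n,k}` is trivial.
* `homOfMatrix ha`: the homomorphism `G ⟶ GL_{n,k}` of a group-like matrix of global functions.
* `bijective_of_homs_trivial`: if every homomorphism `G ⟶ GL_{n,k}` is trivial then `Γ(G) = k`.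
-/

set_option autoImplicit false
set_option linter.style.haveILetI false
set_option linter.unusedSectionVars false

universe u

open CategoryTheory CategoryTheory.Limits MonoidalCategory CartesianMonoidalCategory MonObj AlgebraicGeometry
open scoped TensorProduct

namespace Groth.Agent.Lib.helper4.AntiAffGLn

open Groth.Agent.Lib.helper4.GammaCoalg Groth.Agent.Lib.helper4.GLnPts Groth.Agent.Lib.helper4.AntiAffTriv

variable {k : Type u} [Field k]

attribute [local instance] Groth.Agent.Lib.helper4.GammaCoalg.algΓ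

variable (G : Over (Spec (CommRingCat.of k))) [GrpObj G]

theorem one_unit_eq {H : Over (Spec (CommRingCat.of k))} [GrpObj H] :
    (1 : 𝟙_ (Over (Spec (CommRingCat.of k))) ⟶ H) = η[H] := by
  rw [Hom.one_def]
  have : toUnit (𝟙_ (Over (Spec (CommRingCat.of k)))) = 𝟙 _ := toUnit_unique _ _
  rw [this, Category.id_comp]

theorem algebraMap_unit_injective :
    Function.Injective (algebraMap k Γ((𝟙_ (Over (Spec (CommRingCat.of k)))).left, ⊤)) := by
  have hne : Nontrivial Γ((𝟙_ (Over (Spec (CommRingCat.of k)))).left, ⊤) := by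
    have h0 : Nonempty (Spec (CommRingCat.of k)) := inferInstance
    obtain ⟨s⟩ := h0
    have hG : Nonempty (⊤ : (𝟙_ (Over (Spec (CommRingCat.of k)))).left.Opens) := ⟨⟨s, trivial⟩⟩
    exact Scheme.component_nontrivial _ ⊤
  exact (algebraMap k Γ((𝟙_ (Over (Spec (CommRingCat.of k)))).left, ⊤)).injective

theorem hom_eq_one_of_bijective
    (hb : Function.Bijective ((Scheme.ΓSpecIso (CommRingCat.of k)).inv ≫ G.hom.appTop).hom)
    {n : ℕ} (ρ : G ⟶ FrB.GLn n (Spec (CommRingCat.of k))) (hρ : IsMonHom ρ) : ρ = 1 := by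
  apply mat_injective
  rw [mat_one]
  ext i j
  obtain ⟨r, hr⟩ := hb.2 (mat ρ i j)
  have hr' : algebraMap k Γ(G.left, ⊤) r = mat ρ i j := hr
  have h1 : η[G] ≫ ρ = (1 : 𝟙_ (Over (Spec (CommRingCat.of k))) ⟶ FrB.GLn n (Spec (CommRingCat.of k))) := by
    rw [IsMonHom.one_hom, one_unit_eq]
  have h2 : pb η[G] (mat ρ i j) =
      (1 : Matrix (Fin n) (Fin n) Γ((𝟙_ (Over (Spec (CommRingCat.of k)))).left, ⊤)) i j := by
    have h3 := mat_comp η[G] ρ i j
    rw [h1, mat_one] at h3
    exact h3.symm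
  rw [← hr', AlgHom.commutes, Matrix.one_apply] at h2
  rw [← hr', Matrix.one_apply]
  have h4 : r = if i = j then 1 else 0 := by
    apply algebraMap_unit_injective
    rw [h2]
    split_ifs
    · rw [map_one]
    · rw [map_zero]
  rw [h4]
  split_ifs
  · rw [map_one]
  · rw [map_zero]

variable {G}

theorem isUnit_det_of_isGrpLike {n : ℕ} {a : Matrix (Fin n) (Fin n) Γ(G.left, ⊤)} (ha : IsGrpLike G a) :
    IsUnit a.det := by
  have h : a * a.map (pb ((𝟙 G : G ⟶ G)⁻¹)) = 1 := by
    ext i j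
    have h1 := ha.mul (𝟙 G : G ⟶ G) ((𝟙 G : G ⟶ G)⁻¹) i j
    rw [mul_inv_cancel, ha.one G i j] at h1
    rw [Matrix.mul_apply, Matrix.one_apply, h1]
    refine Finset.sum_congr rfl fun l _ => ?_
    rw [pb_id]
    rfl
  exact Matrix.isUnit_det_of_right_inverse h

/-- the point of `GL_n` with values in `G` given by a group-like matrix -/
noncomputable def homOfMatrix {n : ℕ} {a : Matrix (Fin n) (Fin n) Γ(G.left, ⊤)} (ha : IsGrpLike G a) :
    G ⟶ FrB.GLn n (Spec (CommRingCat.of k)) :=
  (exists_mat_eq a (isUnit_det_of_isGrpLike ha)).choose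

theorem mat_homOfMatrix {n : ℕ} {a : Matrix (Fin n) (Fin n) Γ(G.left, ⊤)} (ha : IsGrpLike G a) :
    mat (homOfMatrix ha) = a :=
  (exists_mat_eq a (isUnit_det_of_isGrpLike ha)).choose_spec

theorem isMonHom_homOfMatrix {n : ℕ} {a : Matrix (Fin n) (Fin n) Γ(G.left, ⊤)} (ha : IsGrpLike G a) :
    IsMonHom (homOfMatrix ha) := by
  refine ⟨?_, ?_⟩
  · apply mat_injective
    have e1 : (η : 𝟙_ (Over (Spec (CommRingCat.of k))) ⟶ FrB.GLn n (Spec (CommRingCat.of k))) = 1 :=
      one_unit_eq.symm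
    rw [e1, mat_one]
    ext i j
    rw [mat_comp, mat_homOfMatrix, Matrix.one_apply]
    have h1 := ha.one (𝟙_ (Over (Spec (CommRingCat.of k)))) i j
    rw [one_unit_eq] at h1
    exact h1
  · have h1 : (homOfMatrix ha ⊗ₘ homOfMatrix ha) ≫ μ[FrB.GLn n (Spec (CommRingCat.of k))] =
        (fst G G ≫ homOfMatrix ha) * (snd G G ≫ homOfMatrix ha) := by
      rw [Hom.mul_def]
      have e2 : (homOfMatrix ha ⊗ₘ homOfMatrix ha) =
          lift (fst G G ≫ homOfMatrix ha) (snd G G ≫ homOfMatrix ha) :=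
        CartesianMonoidalCategory.hom_ext _ _ (by simp) (by simp)
      rw [e2]
    rw [h1]
    apply mat_injective
    rw [mat_mul]
    ext i j
    rw [mat_comp, mat_homOfMatrix, Matrix.mul_apply]
    have h2 := ha.mul (fst G G) (snd G G) i j
    have h3 : fst G G * snd G G = μ[G] := by
      rw [Hom.mul_def]
      have e3 : lift (fst G G) (snd G G) = 𝟙 _ :=
        CartesianMonoidalCategory.hom_ext _ _ (by simp) (by simp)
      rw [e3, Category.id_comp]
    rw [h3] at h2
    refine h2.trans (Finset.sum_congr rfl fun l _ => ?_)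
    rw [mat_comp, mat_comp, mat_homOfMatrix]
    rfl

theorem bijective_of_homs_trivial [LocallyOfFiniteType G.hom] [QuasiCompact G.hom]
    (h : ∀ (n : ℕ) (ρ : G ⟶ FrB.GLn n (Spec (CommRingCat.of k))), IsMonHom ρ → ρ = 1) :
    Function.Bijective ((Scheme.ΓSpecIso (CommRingCat.of k)).inv ≫ G.hom.appTop).hom := by
  apply bijective_of_matrices_trivial
  intro n a ha i j
  have h1 := h n (homOfMatrix ha) (isMonHom_homOfMatrix ha)
  have h2 := mat_homOfMatrix ha
  rw [h1, mat_one] at h2
  rw [← h2, Matrix.one_apply]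

end Groth.Agent.Lib.helper4.AntiAffGLn
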