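import Mathlib
import Groth.Agent.Lib.Helper4.QAffGrp5
import Groth.Agent.Lib.Helper14.SepGrpField

/-!
# Affineness from rational points of the kernel of the affinisation (helper4)

* `isAffine_of_field_points`: a group scheme `G` of finite type over a field `k` such that every field-valued point of
  `G` dying in the affinisation `Spec Γ(G)` is trivial is affine (the affinisation map is injective, hence quasi-finite).
* `eq_of_subsingleton`: two field-valued points over `k` of a one-point scheme locally of finite type over an
  algebraically closed field agree.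
* `isAffine_of_rational_points`: over an algebraically closed field it suffices to test rational points.
-/

set_option autoImplicit false
set_option backward.isDefEq.respectTransparency false
set_option linter.style.haveILetI false

universe u

open CategoryTheory CategoryTheory.Limits MonoidalCategory CartesianMonoidalCategory MonObj AlgebraicGeometry

namespace Groth.Agent.Lib.helper4.QAffGrp

variable {k : Type u} [Field k]

/-- if all field-valued points of the kernel of the affinisation are trivial then `G` is affine -/
theorem isAffine_of_field_points (G : Over (Spec (CommRingCat.of k))) [GrpObj G] [LocallyOfFiniteType G.hom]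
    [QuasiCompact G.hom]
    (h : haveI := compactSpace_of_quasiCompact G; haveI := quasiSeparatedSpace_of_lft G;
      ∀ (L : Type u) [Field L] (φ : Spec (CommRingCat.of L) ⟶ Spec (CommRingCat.of k))
        (g : Over.mk φ ⟶ G), g ≫ jA G = 1 → g = 1) : IsAffine G.left := by
  haveI := compactSpace_of_quasiCompact G
  haveI := quasiSeparatedSpace_of_lft G
  haveI : LocallyOfFiniteType ((jA G).left ≫ (affX G).hom) := by rw [Over.w]; infer_instance
  haveI : LocallyOfFiniteType (jA G).left := locallyOfFiniteType_of_comp (jA G).left (affX G).hom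
  haveI : IsSeparated G.hom := Groth.Agent.Lib.Helper14.SepGrpField.isSeparated_of_grpObj G
  haveI : IsSeparated ((jA G).left ≫ (affX G).hom) := by rw [Over.w]; infer_instance
  haveI : IsSeparated (jA G).left := IsSeparated.of_comp (jA G).left (affX G).hom
  have hinj : Function.Injective (jA G).left := by
    intro w₁ w₂ hw
    obtain ⟨t, ht₁, ht₂⟩ := Scheme.Pullback.exists_preimage_pullback (f := (jA G).left) (g := (jA G).left) w₁ w₂ hw
    let P := pullback (jA G).left (jA G).left
    let c : Spec (CommRingCat.of ↑(P.residueField t)) ⟶ P := P.fromSpecResidueField t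
    let T : Over (Spec (CommRingCat.of k)) := Over.mk (c ≫ pullback.fst _ _ ≫ G.hom)
    let g₁ : T ⟶ G := Over.homMk (c ≫ pullback.fst _ _) (by simp [T])
    let g₂ : T ⟶ G := Over.homMk (c ≫ pullback.snd _ _) (by
      show (c ≫ pullback.snd _ _) ≫ G.hom = c ≫ pullback.fst _ _ ≫ G.hom
      rw [← Over.w (jA G), Category.assoc, ← Category.assoc (pullback.snd _ _), ← pullback.condition]
      simp only [Category.assoc])
    have hg : g₁ ≫ jA G = g₂ ≫ jA G := by
      apply Over.OverMorphism.ext
      show (c ≫ pullback.fst _ _) ≫ (jA G).left = (c ≫ pullback.snd _ _) ≫ (jA G).left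
      rw [Category.assoc, Category.assoc, pullback.condition]
    have h1 : (g₁ * g₂⁻¹) ≫ jA G = 1 := by
      rw [MonObj.mul_comp, GrpObj.inv_comp, hg, mul_inv_cancel]
    have h2 := h (P.residueField t) (c ≫ pullback.fst _ _ ≫ G.hom) _ h1
    have h3 : g₁ = g₂ := mul_inv_eq_one.1 h2
    have h4 : (c ≫ pullback.fst _ _) = (c ≫ pullback.snd _ _) := congrArg Over.Hom.left h3
    have h5 := congrArg (fun f : Spec (CommRingCat.of ↑(P.residueField t)) ⟶ G.left =>
      f (IsLocalRing.closedPoint (P.residueField t))) h4
    simp only [Scheme.Hom.comp_apply] at h5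
    have h6 : c (IsLocalRing.closedPoint (P.residueField t)) = t := Scheme.fromSpecResidueField_apply _ _
    rw [← ht₁, ← ht₂, ← h6]
    exact h5
  haveI : LocallyQuasiFinite (jA G).left := LocallyQuasiFinite.of_injective hinj
  exact isAffine_of_locallyQuasiFinite G (jA G).left

/-- field-valued points over `k` of a one-point scheme locally of finite type over an algebraically closed field
are unique -/
theorem eq_of_subsingleton [IsAlgClosed k] {K₀ : Scheme.{u}} (f : K₀ ⟶ Spec (CommRingCat.of k))
    [LocallyOfFiniteType f] [Subsingleton K₀] (L : Type u) [Field L]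
    (g₁ g₂ : Spec (CommRingCat.of L) ⟶ K₀) (hg : g₁ ≫ f = g₂ ≫ f) : g₁ = g₂ := by
  let p₀ : K₀ := g₁ (IsLocalRing.closedPoint L)
  have hcl : IsClosed ({p₀} : Set K₀) := by
    have : ({p₀} : Set K₀) = Set.univ := by
      ext w
      simp [Subsingleton.elim w p₀]
    rw [this]
    exact isClosed_univ
  have key : ∀ g : Spec (CommRingCat.of L) ⟶ K₀,
      g = Spec.map ((residueFieldIsoBase f p₀ hcl).hom ≫ Spec.preimage (g ≫ f)) ≫ K₀.fromSpecResidueField p₀ := by
    intro g
    have h1 := (Scheme.SpecToEquivOfField L K₀).left_inv g
    have h2 : ∀ (w : K₀), w = p₀ → ∀ ψ : K₀.residueField w ⟶ CommRingCat.of L,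
        ∃ φ : K₀.residueField p₀ ⟶ CommRingCat.of L,
          Spec.map ψ ≫ K₀.fromSpecResidueField w = Spec.map φ ≫ K₀.fromSpecResidueField p₀ := by
      rintro w rfl ψ
      exact ⟨ψ, rfl⟩
    obtain ⟨φ, hφ⟩ := h2 _ (Subsingleton.elim _ p₀) ((Scheme.SpecToEquivOfField L K₀) g).2
    have h3 : g = Spec.map φ ≫ K₀.fromSpecResidueField p₀ := by
      rw [← hφ]
      exact h1.symm
    have h4 : Spec.preimage (g ≫ f) = (residueFieldIsoBase f p₀ hcl).inv ≫ φ := by
      apply Spec.map_injective
      rw [Spec.map_preimage, Spec.map_comp, SpecMap_residueFieldIsoBase_inv, h3, Category.assoc]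
    rw [h4, Iso.hom_inv_id_assoc]
    exact h3
  rw [key g₁, key g₂, hg]

/-- over an algebraically closed field, if all rational points of the kernel of the affinisation are trivial
then `G` is affine -/
theorem isAffine_of_rational_points [IsAlgClosed k] (G : Over (Spec (CommRingCat.of k))) [GrpObj G]
    [LocallyOfFiniteType G.hom] [QuasiCompact G.hom]
    (h : haveI := compactSpace_of_quasiCompact G; haveI := quasiSeparatedSpace_of_lft G;
      ∀ g : 𝟙_ (Over (Spec (CommRingCat.of k))) ⟶ G, g ≫ jA G = 1 → g = 1) : IsAffine G.left := by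
  haveI := compactSpace_of_quasiCompact G
  haveI := quasiSeparatedSpace_of_lft G
  -- the kernel
  let K : Over (Spec (CommRingCat.of k)) := pullback (jA G) η[affX G]
  let iK : K ⟶ G := pullback.fst _ _
  have hiK : iK ≫ jA G = 1 := by
    rw [Hom.one_def]
    have := pullback.condition (f := jA G) (g := η[affX G])
    rw [this]
    congr 1
    exact toUnit_unique _ _
  haveI : Mono iK := by
    haveI : Mono η[affX G] := by
      constructor
      intro Z u v _
      exact toUnit_unique _ _
    infer_instance
  have sq : IsPullback iK.left (pullback.snd (jA G) η[affX G]).left (jA G).left η[affX G].left := by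
    simpa using (IsPullback.of_hasPullback (jA G) η[affX G]).map (Over.forget _)
  haveI : Subsingleton ↥(𝟙_ (Over (Spec (CommRingCat.of k)))).left := by
    show Subsingleton (Spec (CommRingCat.of k))
    infer_instance
  haveI : IsClosedImmersion η[affX G].left :=
    isClosedImmersion_of_comp_eq_id (affX G).hom η[affX G].left (by
      have := Over.w η[affX G]
      simpa using this)
  haveI : IsClosedImmersion iK.left := MorphismProperty.of_isPullback (P := @IsClosedImmersion) sq.flip inferInstance
  haveI : LocallyOfFiniteType K.hom := by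
    rw [← Over.w iK]
    infer_instance
  -- rational points of the kernel
  have hrat : ∀ p₁ p₂ : 𝟙_ (Over (Spec (CommRingCat.of k))) ⟶ K, p₁ = p₂ := by
    intro p₁ p₂
    rw [← cancel_mono iK]
    have e1 := h (p₁ ≫ iK) (by rw [Category.assoc, hiK, MonObj.comp_one])
    have e2 := h (p₂ ≫ iK) (by rw [Category.assoc, hiK, MonObj.comp_one])
    rw [e1, e2]
  haveI hsubK : Subsingleton {p : Spec (CommRingCat.of k) ⟶ K.left // p ≫ K.hom = 𝟙 _} := by
    constructor
    rintro ⟨p₁, hp₁⟩ ⟨p₂, hp₂⟩
    have := hrat (Over.homMk p₁ (by simpa using hp₁)) (Over.homMk p₂ (by simpa using hp₂))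
    exact Subtype.ext (congrArg Over.Hom.left this)
  haveI hsubC : Subsingleton (closedPoints K.left) := (pointEquivClosedPoint K.hom).symm.subsingleton
  haveI : JacobsonSpace K.left := LocallyOfFiniteType.jacobsonSpace K.hom
  haveI : Subsingleton K.left := by
    constructor
    intro w₁ w₂
    have hcl := closure_closedPoints (X := K.left)
    have hsub : ∀ w : K.left, ∃ c ∈ closedPoints K.left, ({c} : Set K.left) = Set.univ := by
      intro w
      have hne : (closedPoints K.left).Nonempty := by
        by_contra hempty
        rw [Set.not_nonempty_iff_eq_empty] at hempty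
        rw [hempty, closure_empty] at hcl
        exact (hcl ▸ Set.mem_univ w : w ∈ (∅ : Set K.left))
      obtain ⟨c, hc⟩ := hne
      refine ⟨c, hc, ?_⟩
      have h1 : closedPoints K.left = {c} := by
        ext c'
        constructor
        · intro hc'
          exact congrArg Subtype.val (Subsingleton.elim (⟨c', hc'⟩ : closedPoints K.left) ⟨c, hc⟩)
        · rintro rfl
          exact hc
      rw [h1, closure_eq_iff_isClosed.2 hc] at hcl
      exact hcl
    obtain ⟨c, -, hc⟩ := hsub w₁
    have m1 : w₁ ∈ ({c} : Set K.left) := hc ▸ Set.mem_univ _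
    have m2 : w₂ ∈ ({c} : Set K.left) := hc ▸ Set.mem_univ _
    rw [Set.mem_singleton_iff] at m1 m2
    rw [m1, m2]
  apply isAffine_of_field_points G
  intro L _ Th g hg
  -- lift to the kernel
  let g' : Over.mk Th ⟶ K := pullback.lift g (toUnit _) (by rw [hg, Hom.one_def])
  have hg' : g' ≫ iK = g := pullback.lift_fst _ _ _
  rw [← hg']
  let e' : Over.mk Th ⟶ K := toUnit _ ≫ pullback.lift η[G] (𝟙 _) (by
    rw [IsMonHom.one_hom, Category.id_comp])
  have he' : e' ≫ iK = 1 := by
    simp only [e', Category.assoc, iK, pullback.lift_fst]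
    rw [Hom.one_def]
  rw [← he']
  congr 1
  apply Over.OverMorphism.ext
  apply eq_of_subsingleton K.hom L
  rw [Over.w, Over.w]

end Groth.Agent.Lib.helper4.QAffGrp
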