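import Mathlib
import Groth.Prelude.Def_VecGrp
import Groth.Agent.Lib.Helper4.QAffGrp7

/-!
# Matrix coefficients of a `G`-module are global functions (helper4)

For a group scheme `G` over a field `k` (not necessarily affine) and a `G`-module `M` in the sense of `VecGrp.GMod`,
every linear form `lam` on `M` and vector `v` give a global function on `G` ("matrix coefficient"), glued from the
affine opens of `G`.  Consequence (`rho_eq_of_toSpecΓ_eq`): two rational points of `G` with the same image in the
affinisation `Spec Γ(G)` act in the same way on `M`.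
-/

set_option autoImplicit false
set_option backward.isDefEq.respectTransparency false
set_option linter.style.haveILetI false

universe u

open CategoryTheory CategoryTheory.Limits MonoidalCategory CartesianMonoidalCategory MonObj AlgebraicGeometry
open scoped TensorProduct

namespace Groth.Agent.Lib.helper4.GModCoef

section Alg

variable {k : Type u} [Field k] {M : Type u} [AddCommGroup M] [Module k M]

/-- the functional `b ⊗ x ↦ lam x • b` -/
noncomputable def lamB (lam : M →ₗ[k] k) (B : Type u) [CommRing B] [Algebra k B] : (B ⊗[k] M) →ₗ[k] B :=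
  TensorProduct.lift (LinearMap.mk₂ k (fun (b : B) (x : M) => lam x • b)
    (fun b b' x => smul_add _ _ _) (fun c b x => smul_comm _ _ _)
    (fun b x x' => by simp [add_smul]) (fun c b x => by simp [mul_smul]))

@[simp] theorem lamB_tmul (lam : M →ₗ[k] k) (B : Type u) [CommRing B] [Algebra k B] (b : B) (x : M) :
    lamB lam B (b ⊗ₜ[k] x) = lam x • b := by
  simp [lamB]

theorem lamB_nat (lam : M →ₗ[k] k) {B B' : Type u} [CommRing B] [Algebra k B] [CommRing B'] [Algebra k B']
    (φ : B →ₐ[k] B') (y : B ⊗[k] M) : φ (lamB lam B y) = lamB lam B' (VecGrp.Wmap φ y) := by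
  induction y using TensorProduct.induction_on with
  | zero => simp
  | tmul b x => simp
  | add a b ha hb => simp only [map_add, ha, hb]

theorem lamB_self (lam : M →ₗ[k] k) (y : k ⊗[k] M) : lamB lam k y = lam (TensorProduct.lid k M y) := by
  induction y using TensorProduct.induction_on with
  | zero => simp
  | tmul c x => simp [mul_comm]
  | add a b ha hb => simp only [map_add, ha, hb]

theorem eq_of_lamB_eq (y y' : k ⊗[k] M) (h : ∀ lam : M →ₗ[k] k, lamB lam k y = lamB lam k y') : y = y' := by
  apply (TensorProduct.lid k M).injective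
  rw [← sub_eq_zero]
  apply (Module.forall_dual_apply_eq_zero_iff k _).mp
  intro lam
  have h1 := h lam
  rw [lamB_self, lamB_self] at h1
  rw [map_sub, sub_eq_zero]
  exact h1

end Alg

variable {k : Type u} [Field k] {G : Over (Spec (CommRingCat.of k))} [GrpObj G]
  {M : Type u} [AddCommGroup M] [Module k M] (m : VecGrp.GMod G M)

/-- the matrix coefficient of `v` against `lam` at the `B`-point `u` -/
noncomputable def coef (lam : M →ₗ[k] k) (v : M) (B : Type u) [CommRing B] [Algebra k B]
    (u : VecGrp.pt k B ⟶ G) : B :=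
  lamB lam B (m.ρ B u ((1 : B) ⊗ₜ[k] v))

theorem coef_nat (lam : M →ₗ[k] k) (v : M) {B B' : Type u} [CommRing B] [Algebra k B] [CommRing B']
    [Algebra k B'] (φ : B →ₐ[k] B') (u : VecGrp.pt k B ⟶ G) :
    φ (coef m lam v B u) = coef m lam v B' (VecGrp.ptMap φ ≫ u) := by
  unfold coef
  rw [lamB_nat, m.naturality φ u, VecGrp.Wmap_tmul, map_one]

section Geom

variable (G)

/-- the structure ring map `k → Γ(G, U)` -/
noncomputable def algU (U : G.left.Opens) : CommRingCat.of k ⟶ Γ(G.left, U) :=
  (Scheme.ΓSpecIso (CommRingCat.of k)).inv ≫ G.hom.appTop ≫ G.left.presheaf.map (homOfLE le_top).op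

/-- the `k`-algebra structure on the sections of `G` -/
noncomputable def instAlgU (U : G.left.Opens) : Algebra k Γ(G.left, U) := (algU G U).hom.toAlgebra

attribute [local instance] instAlgU

theorem algebraMap_eq (U : G.left.Opens) : algebraMap k Γ(G.left, U) = (algU G U).hom := rfl

theorem fromSpec_hom {U : G.left.Opens} (hU : IsAffineOpen U) :
    hU.fromSpec ≫ G.hom = Spec.map (CommRingCat.ofHom (algebraMap k Γ(G.left, U))) := by
  have h1 : hU.fromSpec ≫ G.hom =
      (hU.fromSpec ≫ G.hom ≫ (Spec (CommRingCat.of k)).toSpecΓ) ≫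
        Spec.map (Scheme.ΓSpecIso (CommRingCat.of k)).inv := by
    simp only [Category.assoc, toSpecΓ_SpecMap_ΓSpecIso_inv, Category.comp_id]
  rw [h1, Scheme.toSpecΓ_naturality, hU.fromSpec_toSpecΓ_assoc, algebraMap_eq, CommRingCat.ofHom_hom, algU,
    Spec.map_comp, Spec.map_comp, Category.assoc]

/-- the inclusion of an affine open, as a point of `G` -/
noncomputable def ptU {U : G.left.Opens} (hU : IsAffineOpen U) : VecGrp.pt k Γ(G.left, U) ⟶ G :=
  Over.homMk hU.fromSpec (fromSpec_hom G hU)

theorem algU_res {U V : G.left.Opens} (h : V ≤ U) :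
    algU G U ≫ G.left.presheaf.map (homOfLE h).op = algU G V := by
  simp only [algU, Category.assoc, ← Functor.map_comp]
  rfl

/-- restriction of sections as an algebra map -/
noncomputable def resAlg {U V : G.left.Opens} (h : V ≤ U) : Γ(G.left, U) →ₐ[k] Γ(G.left, V) :=
  { (G.left.presheaf.map (homOfLE h).op).hom with
    commutes' := fun r => by
      have := congrArg (fun f => f.hom r) (algU_res G h)
      exact this }

theorem ptMap_resAlg {U V : G.left.Opens} (hU : IsAffineOpen U) (hV : IsAffineOpen V) (h : V ≤ U) :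
    VecGrp.ptMap (resAlg G h) ≫ ptU G hU = ptU G hV := by
  apply Over.OverMorphism.ext
  exact hU.map_fromSpec hV (homOfLE h).op

variable {G}

/-- the matrix coefficient on an affine open -/
noncomputable def secU (lam : M →ₗ[k] k) (v : M) (U : G.left.affineOpens) : Γ(G.left, U.1) :=
  coef m lam v Γ(G.left, U.1) (ptU G U.2)

theorem secU_res (lam : M →ₗ[k] k) (v : M) (U V : G.left.affineOpens) (h : V.1 ≤ U.1) :
    (G.left.presheaf.map (homOfLE h).op).hom (secU m lam v U) = secU m lam v V := by
  have h1 := coef_nat m lam v (resAlg G h) (ptU G U.2)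
  rw [ptMap_resAlg G U.2 V.2 h] at h1
  exact h1

theorem eq_of_affine_res {X : Scheme.{u}} (O : X.Opens) (a b : Γ(X, O))
    (h : ∀ (W : X.affineOpens) (hW : W.1 ≤ O),
      (X.presheaf.map (homOfLE hW).op).hom a = (X.presheaf.map (homOfLE hW).op).hom b) : a = b := by
  refine TopCat.Sheaf.eq_of_locally_eq' X.sheaf (fun W : {W : X.affineOpens // W.1 ≤ O} => W.1.1) O
    (fun W => homOfLE W.2) ?_ a b (fun W => h W.1 W.2)
  intro x hx
  obtain ⟨_, ⟨W, hW, rfl⟩, hxW, hWO⟩ := X.isBasis_affineOpens.exists_subset_of_mem_open hx O.2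
  exact TopologicalSpace.Opens.mem_iSup.mpr ⟨⟨⟨W, hW⟩, hWO⟩, hxW⟩

theorem exists_global (lam : M →ₗ[k] k) (v : M) : ∃ c : Γ(G.left, ⊤), ∀ U : G.left.affineOpens,
    (G.left.presheaf.map (homOfLE le_top).op).hom c = secU m lam v U := by
  have hcover : (⊤ : G.left.Opens) ≤ ⨆ U : G.left.affineOpens, U.1 := by
    rw [iSup_affineOpens_eq_top]
  have hcompat : TopCat.Presheaf.IsCompatible G.left.sheaf.1 (fun U : G.left.affineOpens => U.1)
      (fun U => secU m lam v U) := by
    intro U V
    apply eq_of_affine_res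
    intro W hW
    have hWU : W.1 ≤ U.1 := hW.trans inf_le_left
    have hWV : W.1 ≤ V.1 := hW.trans inf_le_right
    have e1 := secU_res m lam v U W hWU
    have e2 := secU_res m lam v V W hWV
    have l1 : (G.left.presheaf.map (homOfLE hW).op).hom
        ((G.left.presheaf.map (TopologicalSpace.Opens.infLELeft U.1 V.1).op).hom (secU m lam v U)) =
        (G.left.presheaf.map (homOfLE hWU).op).hom (secU m lam v U) := by
      rw [← CommRingCat.comp_apply, ← Functor.map_comp]; rfl
    have l2 : (G.left.presheaf.map (homOfLE hW).op).hom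
        ((G.left.presheaf.map (TopologicalSpace.Opens.infLERight U.1 V.1).op).hom (secU m lam v V)) =
        (G.left.presheaf.map (homOfLE hWV).op).hom (secU m lam v V) := by
      rw [← CommRingCat.comp_apply, ← Functor.map_comp]; rfl
    exact (l1.trans e1).trans (l2.trans e2).symm
  obtain ⟨c, hc, -⟩ := TopCat.Sheaf.existsUnique_gluing' G.left.sheaf (fun U : G.left.affineOpens => U.1) ⊤
    (fun U => homOfLE le_top) hcover (fun U => secU m lam v U) hcompat
  exact ⟨c, hc⟩

/-- a rational point factors through an affine open; its coefficients are evaluations of the global coefficient -/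
theorem exists_theta (g : VecGrp.pt k k ⟶ G) :
    ∃ θ : Γ(G.left, ⊤) ⟶ CommRingCat.of k, g.left ≫ G.left.toSpecΓ = Spec.map θ ∧
      ∀ (lam : M →ₗ[k] k) (v : M) (c : Γ(G.left, ⊤)),
        (∀ U : G.left.affineOpens, (G.left.presheaf.map (homOfLE le_top).op).hom c = secU m lam v U) →
        coef m lam v k g = θ.hom c := by
  let x₀ : Spec (CommRingCat.of k) := (default : PrimeSpectrum k)
  obtain ⟨_, ⟨U, hU, rfl⟩, hxU, -⟩ :=
    G.left.isBasis_affineOpens.exists_subset_of_mem_open (Set.mem_univ (g.left x₀)) isOpen_univ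
  have hrange : Set.range g.left ⊆ Set.range hU.fromSpec := by
    rw [hU.range_fromSpec]
    rintro _ ⟨y, rfl⟩
    have : y = x₀ := Subsingleton.elim (α := PrimeSpectrum k) _ _
    rw [this]
    exact hxU
  let g' : Spec (CommRingCat.of k) ⟶ Spec Γ(G.left, U) := IsOpenImmersion.lift hU.fromSpec g.left hrange
  have hg' : g' ≫ hU.fromSpec = g.left := IsOpenImmersion.lift_fac _ _ _
  let ψ₀ : Γ(G.left, U) ⟶ CommRingCat.of k := Spec.preimage g'
  have hψ₀ : Spec.map ψ₀ = g' := Spec.map_preimage g'
  have halg : CommRingCat.ofHom (algebraMap k Γ(G.left, U)) ≫ ψ₀ = CommRingCat.ofHom (algebraMap k k) := by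
    apply Spec.map_injective
    rw [Spec.map_comp, hψ₀, ← fromSpec_hom G hU, ← Category.assoc, hg']
    exact Over.w g
  let ψ : Γ(G.left, U) →ₐ[k] k :=
    { ψ₀.hom with
      commutes' := fun r => by
        have := congrArg (fun f => f.hom r) halg
        exact this }
  have hgfac : g = VecGrp.ptMap ψ ≫ ptU G hU := by
    apply Over.OverMorphism.ext
    show g.left = Spec.map (CommRingCat.ofHom ψ₀.hom) ≫ hU.fromSpec
    rw [CommRingCat.ofHom_hom, hψ₀, hg']
  refine ⟨G.left.presheaf.map (homOfLE le_top).op ≫ ψ₀, ?_, ?_⟩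
  · rw [← hg', Category.assoc, hU.fromSpec_toSpecΓ, ← hψ₀, ← Spec.map_comp]
  · intro lam v c hc
    have h1 := coef_nat m lam v ψ (ptU G hU)
    rw [← hgfac] at h1
    rw [← h1]
    have h2 := hc ⟨U, hU⟩
    show ψ₀.hom (secU m lam v ⟨U, hU⟩) = _
    rw [← h2]
    rfl

/-- two rational points with the same image in the affinisation act in the same way -/
theorem rho_eq_of_toSpecΓ_eq (g₁ g₂ : VecGrp.pt k k ⟶ G)
    (h : g₁.left ≫ G.left.toSpecΓ = g₂.left ≫ G.left.toSpecΓ) : m.ρ k g₁ = m.ρ k g₂ := by
  apply LinearEquiv.ext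
  intro y
  induction y using TensorProduct.induction_on with
  | zero => simp
  | tmul c v =>
    have hcv : c ⊗ₜ[k] v = c • ((1 : k) ⊗ₜ[k] v) := by simp [TensorProduct.smul_tmul']
    rw [hcv, map_smul, map_smul]
    congr 1
    apply eq_of_lamB_eq
    intro lam
    obtain ⟨c0, hc0⟩ := exists_global m lam v
    obtain ⟨θ₁, h₁, e₁⟩ := exists_theta m g₁
    obtain ⟨θ₂, h₂, e₂⟩ := exists_theta m g₂
    have hθ : θ₁ = θ₂ := Spec.map_injective (by rw [← h₁, ← h₂, h])
    have a₁ := e₁ lam v c0 hc0
    have a₂ := e₂ lam v c0 hc0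
    rw [← hθ] at a₂
    exact a₁.trans a₂.symm
  | add a b ha hb => simp only [map_add, ha, hb]

end Geom

end Groth.Agent.Lib.helper4.GModCoef
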