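import Mathlib
import Groth.Prelude.Def_VecGrp
import Groth.Agent.Lib.Helper4.GammaCoalg3
import Groth.Agent.Lib.Helper4.GModCoef

/-!
# The `G`-module attached to a group-like matrix of global functions (helper4)

* `evB g : Γ(G) →+* B`: evaluation of global functions at a `B`-valued point, with `evB_ptMap`, `evB_ptU`.
* `matB a g`: the matrix `a` evaluated at `g`; multiplicative for group-like `a`.
* `repOfMatrix ha : VecGrp.GMod G (Fin n → k)`: the representation `g ↦ a(g)`.
* `eq_one_of_rep_trivial`: if this representation is trivial then `a` is the identity matrix.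
-/

set_option autoImplicit false
set_option backward.isDefEq.respectTransparency false
set_option linter.style.haveILetI false
set_option linter.unusedSectionVars false

universe u

open CategoryTheory CategoryTheory.Limits MonoidalCategory CartesianMonoidalCategory MonObj AlgebraicGeometry
open scoped TensorProduct

namespace Groth.Agent.Lib.helper4.AntiAffRep

open Groth.Agent.Lib.helper4.GammaCoalg Groth.Agent.Lib.helper4.GModCoef

variable {k : Type u} [Field k]

attribute [local instance] Groth.Agent.Lib.helper4.GammaCoalg.algΓ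

section Ev

variable {G : Over (Spec (CommRingCat.of k))}

/-- evaluation of global functions at a `B`-valued point -/
noncomputable def evB {B : Type u} [CommRing B] [Algebra k B] (g : VecGrp.pt k B ⟶ G) : Γ(G.left, ⊤) →+* B :=
  (Scheme.ΓSpecIso (CommRingCat.of B)).hom.hom.comp g.left.appTop.hom

theorem evB_apply {B : Type u} [CommRing B] [Algebra k B] (g : VecGrp.pt k B ⟶ G) (x : Γ(G.left, ⊤)) :
    evB g x = (Scheme.ΓSpecIso (CommRingCat.of B)).hom.hom (pb g x) := rfl

theorem evB_ptMap {B B' : Type u} [CommRing B] [Algebra k B] [CommRing B'] [Algebra k B'] (φ : B →ₐ[k] B')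
    (g : VecGrp.pt k B ⟶ G) (x : Γ(G.left, ⊤)) : evB (VecGrp.ptMap φ ≫ g) x = φ (evB g x) := by
  have h1 : (VecGrp.ptMap φ ≫ g).left.appTop =
      g.left.appTop ≫ (Spec.map (CommRingCat.ofHom φ.toRingHom)).appTop := by
    rw [Over.comp_left, Scheme.Hom.comp_appTop, VecGrp.ptMap_left]
  have h2 := Scheme.ΓSpecIso_naturality (CommRingCat.ofHom φ.toRingHom)
  have h3 := congrArg (fun m => m.hom (g.left.appTop.hom x)) h2
  simp only [CommRingCat.hom_comp, RingHom.comp_apply] at h3
  unfold evB
  rw [h1]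
  simp only [CommRingCat.hom_comp, RingHom.comp_apply]
  exact h3

theorem evB_ptU [GrpObj G] {U : G.left.Opens} (hU : IsAffineOpen U) (x : Γ(G.left, ⊤)) :
    letI := instAlgU G U
    evB (ptU G hU) x = (G.left.presheaf.map (homOfLE le_top).op).hom x := by
  letI := instAlgU G U
  have h1 : (ptU G hU).left.appTop = hU.fromSpec.app ⊤ := rfl
  unfold evB
  rw [h1, hU.fromSpec_app_of_le ⊤ le_top]
  simp only [CommRingCat.hom_comp, RingHom.comp_apply]
  have h2 : ((Spec Γ(G.left, U)).presheaf.map (homOfLE (le_top : hU.fromSpec ⁻¹ᵁ ⊤ ≤ ⊤)).op) = 𝟙 _ := by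
    have : (homOfLE (le_top : hU.fromSpec ⁻¹ᵁ ⊤ ≤ ⊤)).op = 𝟙 _ := Subsingleton.elim _ _
    rw [this, CategoryTheory.Functor.map_id]
  rw [h2]
  have h3 := congrArg (fun m => m.hom ((G.left.presheaf.map (homOfLE (le_top : U ≤ ⊤)).op).hom x))
    (Scheme.ΓSpecIso Γ(G.left, U)).inv_hom_id
  simp only [CommRingCat.hom_comp, RingHom.comp_apply, CommRingCat.hom_id, RingHom.id_apply] at h3
  exact h3

end Ev

variable {G : Over (Spec (CommRingCat.of k))} [GrpObj G] {n : ℕ} {a : Matrix (Fin n) (Fin n) Γ(G.left, ⊤)}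

/-- the matrix evaluated at a point -/
noncomputable def matB (a : Matrix (Fin n) (Fin n) Γ(G.left, ⊤)) {B : Type u} [CommRing B] [Algebra k B]
    (g : VecGrp.pt k B ⟶ G) : Matrix (Fin n) (Fin n) B := fun i j => evB g (a i j)

theorem matB_mul (ha : IsGrpLike G a) {B : Type u} [CommRing B] [Algebra k B] (g h : VecGrp.pt k B ⟶ G) :
    matB a (g * h) = matB a g * matB a h := by
  ext i j
  simp only [matB, Matrix.mul_apply, evB_apply]
  rw [ha.mul, map_sum]
  exact Finset.sum_congr rfl fun l _ => map_mul _ _ _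

theorem matB_one (ha : IsGrpLike G a) {B : Type u} [CommRing B] [Algebra k B] :
    matB a (1 : VecGrp.pt k B ⟶ G) = 1 := by
  ext i j
  simp only [matB, evB_apply, Matrix.one_apply]
  rw [ha.one, apply_ite ((Scheme.ΓSpecIso (CommRingCat.of B)).hom.hom), map_one, map_zero]

theorem matB_ptMap {B B' : Type u} [CommRing B] [Algebra k B] [CommRing B'] [Algebra k B'] (φ : B →ₐ[k] B')
    (g : VecGrp.pt k B ⟶ G) : matB a (VecGrp.ptMap φ ≫ g) = (matB a g).map φ := by
  ext i j
  simp only [matB, Matrix.map_apply, evB_ptMap]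

section Rep

variable (B : Type u) [CommRing B] [Algebra k B]

/-- coordinates on `B ⊗ kⁿ` -/
noncomputable def eB : B ⊗[k] (Fin n → k) ≃ₗ[B] (Fin n → B) := TensorProduct.piScalarRight k B B (Fin n)

theorem eB_tmul (b : B) (v : Fin n → k) : eB (n := n) B (b ⊗ₜ[k] v) = fun j => v j • b := by
  unfold eB
  rw [TensorProduct.piScalarRight_apply, TensorProduct.piScalarRightHom_tmul]

theorem eB_Wmap {B B' : Type u} [CommRing B] [Algebra k B] [CommRing B'] [Algebra k B'] (φ : B →ₐ[k] B')
    (y : B ⊗[k] (Fin n → k)) : eB (n := n) B' (VecGrp.Wmap φ y) = fun j => φ (eB B y j) := by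
  induction y using TensorProduct.induction_on with
  | zero => ext j; simp
  | tmul b v =>
    rw [VecGrp.Wmap_tmul, eB_tmul, eB_tmul]
    ext j
    simp
  | add y z hy hz =>
    rw [map_add, map_add, hy, hz]
    ext j
    simp

/-- the endomorphism of `B ⊗ kⁿ` with matrix `a(g)` -/
noncomputable def endB (ha : IsGrpLike G a) : (VecGrp.pt k B ⟶ G) →* Module.End B (B ⊗[k] (Fin n → k)) where
  toFun g := (eB B).symm.conj (Matrix.toLin' (matB a g))
  map_one' := by
    rw [matB_one ha, Matrix.toLin'_one]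
    exact LinearEquiv.conj_id _
  map_mul' g h := by
    rw [matB_mul ha, Matrix.toLin'_mul]
    exact LinearEquiv.conj_comp _ _ _

theorem endB_apply (ha : IsGrpLike G a) (g : VecGrp.pt k B ⟶ G) (y : B ⊗[k] (Fin n → k)) :
    eB B (endB B ha g y) = (matB a g).mulVec (eB B y) := by
  change eB B ((eB B).symm (Matrix.toLin' (matB a g) ((eB B).symm.symm y))) = _
  rw [LinearEquiv.apply_symm_apply, Matrix.toLin'_apply]
  rfl

end Rep

/-- the `G`-module structure on `kⁿ` given by a group-like matrix -/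
noncomputable def repOfMatrix (ha : IsGrpLike G a) : VecGrp.GMod G (Fin n → k) where
  ρ B _ _ := (LinearMap.GeneralLinearGroup.generalLinearEquiv B (B ⊗[k] (Fin n → k))).toMonoidHom.comp
    (endB B ha).toHomUnits
  naturality := by
    intro B B' _ _ _ _ φ g x
    change VecGrp.Wmap φ (endB B ha g x) = endB B' ha (VecGrp.ptMap φ ≫ g) (VecGrp.Wmap φ x)
    apply (eB B').injective
    rw [eB_Wmap, endB_apply, endB_apply, matB_ptMap, eB_Wmap]
    ext j
    simp only [Matrix.mulVec, dotProduct, Matrix.map_apply, map_sum, map_mul]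

theorem repOfMatrix_apply (ha : IsGrpLike G a) (B : Type u) [CommRing B] [Algebra k B] (g : VecGrp.pt k B ⟶ G)
    (y : B ⊗[k] (Fin n → k)) : (repOfMatrix ha).ρ B g y = endB B ha g y := rfl

theorem eq_one_of_rep_trivial (ha : IsGrpLike G a)
    (h : ∀ (B : Type u) [CommRing B] [Algebra k B] (g : VecGrp.pt k B ⟶ G), (repOfMatrix ha).ρ B g = 1)
    (i j : Fin n) : a i j = if i = j then 1 else 0 := by
  classical
  apply eq_of_affine_res ⊤
  intro W hW
  letI := instAlgU G W.1
  have h1 := h Γ(G.left, W.1) (ptU G W.2)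
  have h2 : ∀ y, endB Γ(G.left, W.1) ha (ptU G W.2) y = y := by
    intro y
    rw [← repOfMatrix_apply, h1]
    rfl
  have h3 := endB_apply Γ(G.left, W.1) ha (ptU G W.2) ((1 : Γ(G.left, W.1)) ⊗ₜ[k] (Pi.single j (1 : k)))
  rw [h2, eB_tmul] at h3
  have h4 := congrFun h3 i
  simp only [Matrix.mulVec, dotProduct, Pi.single_apply, ite_smul, one_smul, zero_smul, mul_ite, _root_.mul_one,
    mul_zero, Finset.sum_ite_eq', Finset.mem_univ, if_true, matB] at h4
  rw [evB_ptU W.2] at h4
  have e1 : (homOfLE hW) = (homOfLE (le_top : W.1 ≤ ⊤)) := Subsingleton.elim _ _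
  rw [e1, ← h4, apply_ite ((G.left.presheaf.map (homOfLE (le_top : W.1 ≤ ⊤)).op).hom), map_one, map_zero]

end Groth.Agent.Lib.helper4.AntiAffRep
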