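import Mathlib
import Groth.Prelude.Def_VecGrp
import Groth.Agent.Lib.Helper4.AntiAffRep1

/-!
# Representations of an anti-affine group scheme are trivial (helper4)

`G` a group scheme over a field `k` with `Γ(G) = k`.  Every `G`-module (`VecGrp.GMod`) is trivial: `rho_eq_one`.

Ingredients: a vector of `B ⊗ M` is determined by its coefficients (`eq_zero_of_lamB`), an element of a ring vanishing in
localisations covering the spectrum vanishes (`eq_zero_of_localization`), a `B`-valued point of `G` factors locally on `Spec B`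
through the affine opens of `G` (`exists_factor_local`).
-/

set_option autoImplicit false
set_option backward.isDefEq.respectTransparency false
set_option linter.style.haveILetI false
set_option linter.unusedSectionVars false

universe u

open CategoryTheory CategoryTheory.Limits MonoidalCategory CartesianMonoidalCategory MonObj AlgebraicGeometry
open scoped TensorProduct

namespace Groth.Agent.Lib.helper4.AntiAffRep

open Groth.Agent.Lib.helper4.GammaCoalg Groth.Agent.Lib.helper4.GModCoef

variable {k : Type u} [Field k]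

section L1

variable {M : Type u} [AddCommGroup M] [Module k M]

theorem eq_zero_of_lamB {B : Type u} [CommRing B] [Algebra k B] (y : B ⊗[k] M)
    (h : ∀ lam : M →ₗ[k] k, lamB lam B y = 0) : y = 0 := by
  classical
  let b := Module.Basis.ofVectorSpace k M
  let bB := Algebra.TensorProduct.basis B b
  have key : ∀ (y : B ⊗[k] M) i, bB.repr y i = lamB (b.coord i) B y := by
    intro y i
    induction y using TensorProduct.induction_on with
    | zero => simp
    | tmul c x =>
      rw [Algebra.TensorProduct.basis_repr_tmul, lamB_tmul]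
      simp [Algebra.smul_def, _root_.mul_comm]
    | add y z hy hz => rw [map_add, map_add, Finsupp.add_apply, hy, hz]
  apply bB.repr.injective
  rw [map_zero]
  ext i
  rw [key, h]
  rfl

end L1

section L2

theorem eq_zero_of_localization {B : Type u} [CommRing B] (c : B)
    (h : ∀ p : PrimeSpectrum B, ∃ f : B, f ∉ p.asIdeal ∧ algebraMap B (Localization.Away f) c = 0) : c = 0 := by
  let I : Ideal B := (Submodule.span B {c}).annihilator
  have hI : ∀ x, x ∈ I ↔ x * c = 0 := fun x => by
    change x ∈ (Submodule.span B {c}).annihilator ↔ _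
    rw [Submodule.mem_annihilator_span_singleton, smul_eq_mul]
  by_cases htop : I = ⊤
  · have : (1 : B) ∈ I := by rw [htop]; trivial
    rw [hI, _root_.one_mul] at this
    exact this
  · exfalso
    obtain ⟨m, hm, hIm⟩ := Ideal.exists_le_maximal I htop
    obtain ⟨f, hf, hfc⟩ := h ⟨m, hm.isPrime⟩
    rw [IsLocalization.map_eq_zero_iff (Submonoid.powers f)] at hfc
    obtain ⟨⟨_, N, rfl⟩, hN⟩ := hfc
    have h1 : f ^ N ∈ I := (hI _).2 hN
    exact hf (hm.isPrime.mem_of_pow_mem N (hIm h1))

end L2

variable {G : Over (Spec (CommRingCat.of k))} [GrpObj G]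

section L3

theorem exists_factor_local {B : Type u} [CommRing B] [Algebra k B] (g : VecGrp.pt k B ⟶ G)
    (p : PrimeSpectrum B) :
    ∃ (f : B) (_ : f ∉ p.asIdeal) (U : G.left.affineOpens),
      letI := instAlgU G U.1
      ∃ ψ : Γ(G.left, U.1) →ₐ[k] Localization.Away f,
        VecGrp.ptMap (IsScalarTower.toAlgHom k B (Localization.Away f)) ≫ g = VecGrp.ptMap ψ ≫ ptU G U.2 := by
  let x : Spec (CommRingCat.of B) := p
  obtain ⟨_, ⟨U, hU, rfl⟩, hxU, -⟩ :=
    G.left.isBasis_affineOpens.exists_subset_of_mem_open (Set.mem_univ (g.left x)) isOpen_univ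
  let V : (Spec (CommRingCat.of B)).Opens := g.left ⁻¹ᵁ U
  have hxV : x ∈ V := hxU
  obtain ⟨_, ⟨f, rfl⟩, hxf, hfV⟩ :=
    PrimeSpectrum.isTopologicalBasis_basic_opens.exists_subset_of_mem_open hxV V.2
  refine ⟨f, fun hf => hxf hf, ⟨U, hU⟩, ?_⟩
  letI := instAlgU G U
  let j : Spec (CommRingCat.of (Localization.Away f)) ⟶ Spec (CommRingCat.of B) :=
    Spec.map (CommRingCat.ofHom (algebraMap B (Localization.Away f)))
  have hjr : Set.range j = (PrimeSpectrum.basicOpen f : Set (PrimeSpectrum B)) :=
    PrimeSpectrum.localization_away_comap_range (Localization.Away f) f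
  have hrange : Set.range (j ≫ g.left) ⊆ Set.range hU.fromSpec := by
    rw [hU.range_fromSpec]
    rintro _ ⟨y, rfl⟩
    have hy : j y ∈ (PrimeSpectrum.basicOpen f : Set (PrimeSpectrum B)) := by
      rw [← hjr]; exact ⟨y, rfl⟩
    exact hfV hy
  let g' : Spec (CommRingCat.of (Localization.Away f)) ⟶ Spec Γ(G.left, U) :=
    IsOpenImmersion.lift hU.fromSpec (j ≫ g.left) hrange
  have hg' : g' ≫ hU.fromSpec = j ≫ g.left := IsOpenImmersion.lift_fac _ _ _
  let ψ₀ : Γ(G.left, U) ⟶ CommRingCat.of (Localization.Away f) := Spec.preimage g'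
  have hψ₀ : Spec.map ψ₀ = g' := Spec.map_preimage g'
  have halg : CommRingCat.ofHom (algebraMap k Γ(G.left, U)) ≫ ψ₀ =
      CommRingCat.ofHom (algebraMap k (Localization.Away f)) := by
    apply Spec.map_injective
    rw [Spec.map_comp, hψ₀, ← fromSpec_hom G hU, ← Category.assoc, hg', Category.assoc, Over.w g]
    change Spec.map _ ≫ Spec.map _ = _
    rw [← Spec.map_comp, ← CommRingCat.ofHom_comp, ← IsScalarTower.algebraMap_eq]
  let ψ : Γ(G.left, U) →ₐ[k] Localization.Away f :=
    { ψ₀.hom with
      commutes' := fun r => by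
        have := congrArg (fun f => f.hom r) halg
        exact this }
  refine ⟨ψ, ?_⟩
  apply Over.OverMorphism.ext
  change j ≫ g.left = Spec.map (CommRingCat.ofHom ψ₀.hom) ≫ hU.fromSpec
  rw [CommRingCat.ofHom_hom, hψ₀, hg']

end L3

section Main

attribute [local instance] Groth.Agent.Lib.helper4.GammaCoalg.algΓ

variable {M : Type u} [AddCommGroup M] [Module k M] (m : VecGrp.GMod G M)

theorem exists_coef_const (hs : Function.Surjective (algebraMap k Γ(G.left, ⊤))) (lam : M →ₗ[k] k) (v : M) :
    ∃ r : k, ∀ (B : Type u) [CommRing B] [Algebra k B] (g : VecGrp.pt k B ⟶ G),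
      coef m lam v B g = algebraMap k B r := by
  obtain ⟨c0, hc0⟩ := exists_global m lam v
  obtain ⟨r, rfl⟩ := hs c0
  refine ⟨r, ?_⟩
  intro B _ _ g
  rw [← sub_eq_zero]
  apply eq_zero_of_localization
  intro p
  obtain ⟨f, hf, U, ψ, hψ⟩ := exists_factor_local g p
  refine ⟨f, hf, ?_⟩
  letI := instAlgU G U.1
  rw [map_sub, sub_eq_zero]
  have h1 := coef_nat m lam v (IsScalarTower.toAlgHom k B (Localization.Away f)) g
  have h2 := coef_nat m lam v ψ (ptU G U.2)
  rw [hψ] at h1
  have h3 : coef m lam v Γ(G.left, U.1) (ptU G U.2) = algebraMap k Γ(G.left, U.1) r := by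
    change secU m lam v U = _
    rw [← hc0 U]
    rfl
  rw [h3, AlgHom.commutes] at h2
  have h4 : algebraMap B (Localization.Away f) (coef m lam v B g) =
      (IsScalarTower.toAlgHom k B (Localization.Away f)) (coef m lam v B g) := rfl
  rw [h4, h1, ← h2, ← IsScalarTower.algebraMap_apply]

theorem rho_eq_one (hs : Function.Surjective (algebraMap k Γ(G.left, ⊤)))
    (B : Type u) [CommRing B] [Algebra k B] (g : VecGrp.pt k B ⟶ G) : m.ρ B g = 1 := by
  apply LinearEquiv.ext
  intro y
  change m.ρ B g y = y
  induction y using TensorProduct.induction_on with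
  | zero => simp
  | tmul c v =>
    have hcv : c ⊗ₜ[k] v = c • ((1 : B) ⊗ₜ[k] v) := by simp [TensorProduct.smul_tmul']
    rw [hcv, map_smul]
    congr 1
    rw [← sub_eq_zero]
    apply eq_zero_of_lamB
    intro lam
    rw [map_sub, sub_eq_zero]
    obtain ⟨r, hr⟩ := exists_coef_const m hs lam v
    have h1 : lamB lam B (m.ρ B g ((1 : B) ⊗ₜ[k] v)) = algebraMap k B r := hr B g
    have h2 : coef m lam v k (1 : VecGrp.pt k k ⟶ G) = algebraMap k k r := hr k 1
    have h3 : coef m lam v k (1 : VecGrp.pt k k ⟶ G) = lam v := by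
      unfold coef
      rw [map_one]
      simp
    rw [h1, lamB_tmul, Algebra.smul_def, _root_.mul_one]
    congr 1
    rw [← h3, h2]
    rfl
  | add a b ha hb => rw [map_add, ha, hb]

end Main

end Groth.Agent.Lib.helper4.AntiAffRep
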