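import Mathlib
import Groth.Prelude.Def_ArtFun4
import Groth.Agent.LibCR29

/-!
# The local functor of a scheme at a rational point is pro-representable (helper4)

For a `k`-scheme `M` with an affine open chart `Spec B ⟶ M` (with `B` Noetherian) through which the rational point
`x₀` factors, the completion of `B` along the kernel of the point pro-represents the functor of pointed maps
`Spec A ⟶ M` from local Artinian `k`-algebras.
-/

set_option autoImplicit false
set_option linter.style.haveILetI false
set_option linter.unusedSectionVars false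
set_option linter.unusedVariables false
set_option linter.unusedSimpArgs false

universe u

open CategoryTheory CategoryTheory.Limits AlgebraicGeometry
open ArtFun

namespace Groth.Agent.Lib.helper4.ArtFunLocal

open Groth.Agent.LibCR29

variable {k : Type u} [Field k]

/-- an Artinian object as a coefficient ring -/
noncomputable def toCRing (A : Art k k) : CRing k k :=
  { carrier := A
    isNoetherianRing := inferInstance
    res := A.res
    res_surjective := A.res_surjective
    isAdicComplete := inferInstance }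

/-- the point of `Spec k` -/
noncomputable def pt (k : Type u) [Field k] : ↥(Spec (CommRingCat.of k)) :=
  show PrimeSpectrum k from ⊥

/-- the spectrum of a local Artinian ring is a point -/
lemma eq_closedPoint (A : Art k k) (p : Art.spec A) :
    p = (Art.specRes A).base (pt k) := by
  have h1 : ∀ q : PrimeSpectrum A, q.asIdeal = IsLocalRing.maximalIdeal A := fun q =>
    IsLocalRing.eq_maximalIdeal (IsArtinianRing.isMaximal_of_isPrime q.asIdeal)
  apply PrimeSpectrum.ext
  rw [h1 p]
  exact (h1 _).symm

/-- the general form on an affine chart -/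
theorem main (M : Scheme.{u}) (m : M ⟶ Spec (CommRingCat.of k))
    (x₀ : Spec (CommRingCat.of k) ⟶ M)
    (B : Type u) [CommRing B] [Algebra k B] [IsNoetherianRing B]
    (j : Spec (CommRingCat.of B) ⟶ M) [IsOpenImmersion j]
    (hj : j ≫ m = Spec.map (CommRingCat.ofHom (algebraMap k B)))
    (ε : B →ₐ[k] k) (hε : Spec.map (CommRingCat.ofHom ε.toRingHom) ≫ j = x₀) :
    ∃ (R : ArtFun.CRing k k)
      (e : ∀ A : ArtFun.Art k k, ArtFun.HomSet R.carrier R.res A ≃
        {g : ArtFun.Art.spec A ⟶ M // g ≫ m = ArtFun.Art.specMap (ArtFun.Art.ofBase A) ∧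
          ArtFun.Art.specRes A ≫ g = x₀}),
      ∀ (A B : ArtFun.Art k k) (h : A ⟶ B) (φ : ArtFun.HomSet R.carrier R.res A),
        ((e B) (ArtFun.HomSet.map h φ)).1 = ArtFun.Art.specMap h ≫ ((e A) φ).1 := by
  have hεs : Function.Surjective ε := fun c => ⟨algebraMap k B c, by simp⟩
  have fg : (RingHom.ker ε).FG := (isNoetherianRing_iff_ideal_fg B).1 inferInstance _
  obtain ⟨P, ι, hι, -, huniv⟩ := exists_compl B ε hεs fg
  -- the forward map
  have p1 : ∀ (A : Art k k) (φ : HomSet P.carrier P.res A),
      (Spec.map (CommRingCat.ofHom (φ.1.comp ι).toRingHom) ≫ j) ≫ m =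
        Art.specMap (Art.ofBase A) := by
    intro A φ
    rw [Category.assoc, hj, ← Spec.map_comp, ← CommRingCat.ofHom_comp]
    congr 2
    ext c
    change (φ.1.comp ι) (algebraMap k B c) = algebraMap k A c
    exact AlgHom.commutes _ c
  have p2 : ∀ (A : Art k k) (φ : HomSet P.carrier P.res A),
      Art.specRes A ≫ Spec.map (CommRingCat.ofHom (φ.1.comp ι).toRingHom) ≫ j = x₀ := by
    intro A φ
    rw [← hε, ← Category.assoc, ← Spec.map_comp, ← CommRingCat.ofHom_comp]
    congr 3
    have h1 : A.res.comp (φ.1.comp ι) = ε := by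
      rw [← AlgHom.comp_assoc, φ.2, hι]
    exact congrArg AlgHom.toRingHom h1
  let fwd : ∀ A : Art k k, HomSet P.carrier P.res A →
      {g : Art.spec A ⟶ M // g ≫ m = Art.specMap (Art.ofBase A) ∧ Art.specRes A ≫ g = x₀} :=
    fun A φ => ⟨Spec.map (CommRingCat.ofHom (φ.1.comp ι).toRingHom) ≫ j, p1 A φ, p2 A φ⟩
  have hbij : ∀ A : Art k k, Function.Bijective (fwd A) := by
    intro A
    constructor
    · intro φ φ' h
      have h1 : Spec.map (CommRingCat.ofHom (φ.1.comp ι).toRingHom) ≫ j =
          Spec.map (CommRingCat.ofHom (φ'.1.comp ι).toRingHom) ≫ j := congrArg Subtype.val h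
      have h2 := Spec.map_injective ((cancel_mono j).1 h1)
      have h3 : φ.1.comp ι = φ'.1.comp ι := by
        ext b
        have := congrArg (fun f => f.hom b) h2
        exact this
      have hg : (toCRing A).res.comp (φ.1.comp ι) = ε := by
        change A.res.comp (φ.1.comp ι) = ε
        rw [← AlgHom.comp_assoc, φ.2, hι]
      obtain ⟨h0, -, hu⟩ := huniv (toCRing A) (φ.1.comp ι) hg
      have e1 : φ.1 = h0 := hu φ.1 ⟨φ.2, rfl⟩
      have e2 : φ'.1 = h0 := hu φ'.1 ⟨φ'.2, h3.symm⟩
      exact Subtype.ext (e1.trans e2.symm)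
    · rintro ⟨g, hg1, hg2⟩
      have hr : Set.range g.base ⊆ Set.range j.base := by
        rintro _ ⟨p, rfl⟩
        rw [eq_closedPoint A p]
        refine ⟨(Spec.map (CommRingCat.ofHom ε.toRingHom)).base (pt k), ?_⟩
        have := congrArg (fun f => f.base (pt k)) (hε.trans hg2.symm)
        simpa using this
      let l : Art.spec A ⟶ Spec (CommRingCat.of B) := IsOpenImmersion.lift j g hr
      have hl : l ≫ j = g := IsOpenImmersion.lift_fac j g hr
      let ψ₀ : CommRingCat.of B ⟶ CommRingCat.of A := Spec.preimage l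
      have hψ₀ : Spec.map ψ₀ = l := Spec.map_preimage l
      have c1 : CommRingCat.ofHom (algebraMap k B) ≫ ψ₀ = CommRingCat.ofHom (algebraMap k A) := by
        apply Spec.map_injective
        rw [Spec.map_comp, hψ₀, ← hj, ← Category.assoc, hl, hg1]
        rfl
      let ψ : B →ₐ[k] A :=
        { ψ₀.hom with
          commutes' := fun c => congrArg (fun f => f.hom c) c1 }
      have hψ : CommRingCat.ofHom ψ.toRingHom = ψ₀ := rfl
      have c2 : A.res.comp ψ = ε := by
        have h1 : ψ₀ ≫ CommRingCat.ofHom A.res.toRingHom = CommRingCat.ofHom ε.toRingHom := by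
          apply Spec.map_injective
          rw [Spec.map_comp, hψ₀, ← cancel_mono j, Category.assoc, hl, hg2, hε]
        ext b
        exact congrArg (fun f => f.hom b) h1
      obtain ⟨h0, ⟨hh1, hh2⟩, -⟩ := huniv (toCRing A) ψ c2
      refine ⟨⟨h0, hh1⟩, ?_⟩
      apply Subtype.ext
      change Spec.map (CommRingCat.ofHom (h0.comp ι).toRingHom) ≫ j = g
      rw [hh2]
      change Spec.map ψ₀ ≫ j = g
      rw [hψ₀, hl]
  refine ⟨P, fun A => Equiv.ofBijective (fwd A) (hbij A), ?_⟩
  intro A A' h φ
  change Spec.map (CommRingCat.ofHom (((HomSet.map h φ).1).comp ι).toRingHom) ≫ j =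
    Art.specMap h ≫ Spec.map (CommRingCat.ofHom (φ.1.comp ι).toRingHom) ≫ j
  rw [← Category.assoc]
  congr 1
  change _ = Spec.map _ ≫ Spec.map _
  rw [← Spec.map_comp, ← CommRingCat.ofHom_comp]
  rfl

end Groth.Agent.Lib.helper4.ArtFunLocal
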