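import Mathlib
import Groth.Agent.Lib.Helper4.TorsorGeomQuot
import Groth.Agent.Lib.Helper4.AffineDescent

/-!
# A torsor under an affine group scheme over a field is an affine geometric quotient (helper4)
-/

set_option autoImplicit false
set_option linter.style.haveILetI false
set_option backward.isDefEq.respectTransparency false
universe u
open CategoryTheory MonoidalCategory CartesianMonoidalCategory MonObj AlgebraicGeometry
open CategoryTheory.Limits

namespace Groth.Agent.Lib.Helper4.TorsorGeomQuot

theorem isAffineHom_and_isGeomQuot {S : Scheme.{u}} {G X Y : Over S} [GrpObj G]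
    (a : AlgGrp.Action G X) (φ : X ⟶ Y)
    (hcart : IsPullback a.act (snd G X) φ φ)
    (hloc : NonAbH1.IsLocallyTrivialFor Scheme.fpqcPrecoverage (Over.mk φ.left : Over Y.left))
    (hG1 : IsAffineHom G.hom) (hG2 : UniversallyOpen G.hom) :
    IsAffineHom φ.left ∧ GIT.IsGeomQuot a φ :=
  ⟨prop_of_torsor a φ @IsAffineHom hcart hloc hG1, isGeomQuot_of_torsor a φ hcart hloc hG2⟩

end Groth.Agent.Lib.Helper4.TorsorGeomQuot
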