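import Mathlib
import Groth.Prelude.Def_ChGrp
import Groth.Prelude.Def_Desc
import Groth.Prelude.Def_NonAbH2
import Groth.Prelude.Def_W4bk4git07Quot
import Groth.Agent.Lib.Helper4.DescMain
import Groth.Agent.Lib.Helper4.TorsorGeomQuot2
import Groth.Agent.Lib.Helper4.FlatDescends

/-!
# The associated bundle `X ×^G F` of an fpqc torsor (helper4)

For an fpqc `G`-torsor `φ : X ⟶ Y` (cartesian action square + sections on an fpqc covering of `Y`) and a `G`-scheme `F`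
affine over the base:

* `dd`: the point `g` of `G` with `g • x₁ = x₀` for two points of `X` with the same image in `Y` (`dd_act`, `dd_unique`,
  `comp_dd`, `dd_self`, `dd_mul`, `dd_act_left`).
* `twO`, `tw`, `tw'`: the translation `(x₀, e) ↦ (x₁, g⁻¹ • e)`; `assocDD : Desc.SchDD φ.left`: the descent datum on
  `X ⊗ F ⟶ X`.
* `isPullback_whiskerLeft_snd`: in a cartesian monoidal category `G ⊗ A` is the pullback of `G ⊗ B` along `f : A ⟶ B`.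
* `exists_assocBundle`: the quotient `q : X ⊗ F ⟶ Q` over `Y` exists, is a `G`-torsor for the diagonal action, affine and a
  geometric quotient (S18976).
-/

set_option autoImplicit false
set_option backward.isDefEq.respectTransparency false
set_option linter.style.haveILetI false
universe u
open CategoryTheory CategoryTheory.Limits MonoidalCategory CartesianMonoidalCategory MonObj GrpObj AlgebraicGeometry

namespace Groth.Agent.Lib.Helper4.AssocBundle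

open AlgGrp.Action

variable {S : Scheme.{u}} {G X Y F : Over S} [GrpObj G] (a : AlgGrp.Action G X) (b : AlgGrp.Action G F)
  (φ : X ⟶ Y) (hcart : IsPullback a.act (snd G X) φ φ)

section dd

variable {T : Over S}

include hcart in
/-- For two points of `X` with the same image in `Y`, the point `g` of `G` with `g • x₁ = x₀`. -/
theorem exists_unique_dd (x₀ x₁ : T ⟶ X) (h : x₀ ≫ φ = x₁ ≫ φ) :
    ∃! g : T ⟶ G, lift g x₁ ≫ a.act = x₀ := by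
  refine ⟨hcart.lift x₀ x₁ h ≫ fst G X, ?_, fun g hg => ?_⟩
  · have e : lift (hcart.lift x₀ x₁ h ≫ fst G X) x₁ = hcart.lift x₀ x₁ h := by
      apply CartesianMonoidalCategory.hom_ext
      · rw [lift_fst]
      · rw [lift_snd, hcart.lift_snd]
    show lift (hcart.lift x₀ x₁ h ≫ fst G X) x₁ ≫ a.act = x₀
    rw [e, hcart.lift_fst]
  · have e : lift g x₁ = hcart.lift x₀ x₁ h := by
      apply hcart.hom_ext
      · rw [hcart.lift_fst]; exact hg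
      · rw [hcart.lift_snd, lift_snd]
    rw [← e, lift_fst]

/-- The point `g` of `G` with `g • x₁ = x₀`. -/
noncomputable def dd (x₀ x₁ : T ⟶ X) (h : x₀ ≫ φ = x₁ ≫ φ) : T ⟶ G :=
  (exists_unique_dd a φ hcart x₀ x₁ h).choose

theorem dd_act (x₀ x₁ : T ⟶ X) (h : x₀ ≫ φ = x₁ ≫ φ) : lift (dd a φ hcart x₀ x₁ h) x₁ ≫ a.act = x₀ :=
  (exists_unique_dd a φ hcart x₀ x₁ h).choose_spec.1

theorem dd_unique (x₀ x₁ : T ⟶ X) (h : x₀ ≫ φ = x₁ ≫ φ) (g : T ⟶ G) (hg : lift g x₁ ≫ a.act = x₀) :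
    g = dd a φ hcart x₀ x₁ h :=
  (exists_unique_dd a φ hcart x₀ x₁ h).choose_spec.2 g hg

theorem comp_dd {T' : Over S} (t : T' ⟶ T) (x₀ x₁ : T ⟶ X) (h : x₀ ≫ φ = x₁ ≫ φ) :
    t ≫ dd a φ hcart x₀ x₁ h = dd a φ hcart (t ≫ x₀) (t ≫ x₁) (by rw [Category.assoc, h, Category.assoc]) := by
  apply dd_unique
  rw [← comp_lift_assoc, dd_act]

theorem dd_self (x : T ⟶ X) : dd a φ hcart x x rfl = 1 :=
  (dd_unique a φ hcart x x rfl 1 (lift_one_act a x)).symm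

theorem dd_mul (x₀ x₁ x₂ : T ⟶ X) (h₀₁ : x₀ ≫ φ = x₁ ≫ φ) (h₁₂ : x₁ ≫ φ = x₂ ≫ φ) :
    dd a φ hcart x₀ x₁ h₀₁ * dd a φ hcart x₁ x₂ h₁₂ = dd a φ hcart x₀ x₂ (h₀₁.trans h₁₂) := by
  apply dd_unique
  rw [lift_mul_act, dd_act, dd_act]

theorem dd_congr {x₀ x₀' x₁ x₁' : T ⟶ X} (h : x₀ ≫ φ = x₁ ≫ φ) (e₀ : x₀ = x₀') (e₁ : x₁ = x₁') :
    dd a φ hcart x₀ x₁ h = dd a φ hcart x₀' x₁' (by rw [← e₀, ← e₁]; exact h) := by
  subst e₀ e₁; rfl

include hcart in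
/-- The invariance of `φ` in point form. -/
theorem act_φ (g : T ⟶ G) (x : T ⟶ X) : (lift g x ≫ a.act) ≫ φ = x ≫ φ := by
  rw [Category.assoc, hcart.w, ← Category.assoc, lift_snd]

theorem dd_act_left (g : T ⟶ G) (x : T ⟶ X) :
    dd a φ hcart x (lift g x ≫ a.act) (act_φ a φ hcart g x).symm = g⁻¹ := by
  symm
  apply dd_unique
  rw [← lift_mul_act, inv_mul_cancel, lift_one_act]

end dd


section tw

variable {T : Over S}

/-- `(x₀, e) ↦ (x₁, g⁻¹ • e)` where `g • x₁ = x₀`. -/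
noncomputable def twO (x₀ x₁ : T ⟶ X) (h : x₀ ≫ φ = x₁ ≫ φ) (v : T ⟶ X ⊗ F) : T ⟶ X ⊗ F :=
  lift x₁ (lift (dd a φ hcart x₀ x₁ h)⁻¹ (v ≫ snd X F) ≫ b.act)

theorem twO_fst (x₀ x₁ : T ⟶ X) (h : x₀ ≫ φ = x₁ ≫ φ) (v : T ⟶ X ⊗ F) :
    twO a b φ hcart x₀ x₁ h v ≫ fst X F = x₁ := lift_fst _ _

theorem comp_twO {T' : Over S} (t : T' ⟶ T) (x₀ x₁ : T ⟶ X) (h : x₀ ≫ φ = x₁ ≫ φ) (v : T ⟶ X ⊗ F) :
    t ≫ twO a b φ hcart x₀ x₁ h v =
      twO a b φ hcart (t ≫ x₀) (t ≫ x₁) (by rw [Category.assoc, h, Category.assoc]) (t ≫ v) := by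
  unfold twO
  rw [comp_lift, ← Category.assoc t, comp_lift, comp_inv, comp_dd]
  simp only [Category.assoc]

theorem twO_self (x : T ⟶ X) (v : T ⟶ X ⊗ F) (hv : v ≫ fst X F = x) : twO a b φ hcart x x rfl v = v := by
  unfold twO
  rw [dd_self, inv_one, lift_one_act]
  apply CartesianMonoidalCategory.hom_ext
  · rw [lift_fst, hv]
  · rw [lift_snd]

theorem twO_twO (x₀ x₁ x₂ : T ⟶ X) (h₀₁ : x₀ ≫ φ = x₁ ≫ φ) (h₁₂ : x₁ ≫ φ = x₂ ≫ φ) (v : T ⟶ X ⊗ F) :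
    twO a b φ hcart x₁ x₂ h₁₂ (twO a b φ hcart x₀ x₁ h₀₁ v) = twO a b φ hcart x₀ x₂ (h₀₁.trans h₁₂) v := by
  unfold twO
  rw [lift_snd, ← lift_mul_act, ← _root_.mul_inv_rev, dd_mul]

theorem twO_congr {x₀ x₀' x₁ x₁' : T ⟶ X} (h : x₀ ≫ φ = x₁ ≫ φ) {v v' : T ⟶ X ⊗ F} (e₀ : x₀ = x₀') (e₁ : x₁ = x₁')
    (ev : v = v') :
    twO a b φ hcart x₀ x₁ h v = twO a b φ hcart x₀' x₁' (by rw [← e₀, ← e₁]; exact h) v' := by
  subst e₀ e₁ ev; rfl

/-- Translating along `x ↦ g • x` is acting by `g`. -/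
theorem twO_act (g : T ⟶ G) (v : T ⟶ X ⊗ F) :
    twO a b φ hcart (v ≫ fst X F) (lift g (v ≫ fst X F) ≫ a.act) (act_φ a φ hcart g _).symm v =
      lift g v ≫ (a.prod b).act := by
  unfold twO
  rw [dd_act_left, _root_.inv_inv, ← lift_prod_act]
  congr 2
  apply CartesianMonoidalCategory.hom_ext
  · rw [lift_fst]
  · rw [lift_snd]

end tw


section sch

variable {T : Scheme.{u}}

/-- Scheme-level translation, with an explicit structure morphism. -/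
noncomputable def tw (t : T ⟶ S) (x₀ x₁ : T ⟶ X.left) (h₀ : x₀ ≫ X.hom = t) (h₁ : x₁ ≫ X.hom = t)
    (h : x₀ ≫ φ.left = x₁ ≫ φ.left) (v : T ⟶ (X ⊗ F).left) (hv : v ≫ (X ⊗ F).hom = t) : T ⟶ (X ⊗ F).left :=
  (twO a b φ hcart (T := Over.mk t) (Over.homMk x₀ h₀) (Over.homMk x₁ h₁) (Over.OverMorphism.ext h)
    (Over.homMk v hv)).left

theorem tw_hom (t : T ⟶ S) (x₀ x₁ : T ⟶ X.left) (h₀ : x₀ ≫ X.hom = t) (h₁ : x₁ ≫ X.hom = t)
    (h : x₀ ≫ φ.left = x₁ ≫ φ.left) (v : T ⟶ (X ⊗ F).left) (hv : v ≫ (X ⊗ F).hom = t) :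
    tw a b φ hcart t x₀ x₁ h₀ h₁ h v hv ≫ (fst X F).left = x₁ :=
  congrArg (fun m => m.left) (twO_fst a b φ hcart (T := Over.mk t) (Over.homMk x₀ h₀) (Over.homMk x₁ h₁)
    (Over.OverMorphism.ext h) (Over.homMk v hv))

theorem tw_congr {t t' : T ⟶ S} {x₀ x₀' x₁ x₁' : T ⟶ X.left} (h₀ : x₀ ≫ X.hom = t) (h₁ : x₁ ≫ X.hom = t)
    (h : x₀ ≫ φ.left = x₁ ≫ φ.left) {v v' : T ⟶ (X ⊗ F).left} (hv : v ≫ (X ⊗ F).hom = t)
    (et : t = t') (e₀ : x₀ = x₀') (e₁ : x₁ = x₁') (ev : v = v') :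
    tw a b φ hcart t x₀ x₁ h₀ h₁ h v hv =
      tw a b φ hcart t' x₀' x₁' (by rw [← et, ← e₀]; exact h₀) (by rw [← et, ← e₁]; exact h₁)
        (by rw [← e₀, ← e₁]; exact h) v' (by rw [← et, ← ev]; exact hv) := by
  subst et e₀ e₁ ev; rfl

theorem comp_tw {T' : Scheme.{u}} (g : T' ⟶ T) (t : T ⟶ S) (x₀ x₁ : T ⟶ X.left) (h₀ : x₀ ≫ X.hom = t)
    (h₁ : x₁ ≫ X.hom = t) (h : x₀ ≫ φ.left = x₁ ≫ φ.left) (v : T ⟶ (X ⊗ F).left) (hv : v ≫ (X ⊗ F).hom = t) :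
    g ≫ tw a b φ hcart t x₀ x₁ h₀ h₁ h v hv =
      tw a b φ hcart (g ≫ t) (g ≫ x₀) (g ≫ x₁) (by rw [Category.assoc, h₀]) (by rw [Category.assoc, h₁])
        (by rw [Category.assoc, h, Category.assoc]) (g ≫ v) (by rw [Category.assoc, hv]) := by
  let ĝ : Over.mk (g ≫ t) ⟶ Over.mk t := Over.homMk g rfl
  have e := comp_twO a b φ hcart ĝ (Over.homMk x₀ h₀) (Over.homMk x₁ h₁) (Over.OverMorphism.ext h)
    (Over.homMk v hv)
  have e' := congrArg (fun m => m.left) e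
  refine e'.trans ?_
  unfold tw
  exact congrArg Over.Hom.left (twO_congr a b φ hcart _ (Over.OverMorphism.ext rfl)
    (Over.OverMorphism.ext rfl) (Over.OverMorphism.ext rfl))

theorem tw_self (t : T ⟶ S) (x : T ⟶ X.left) (h₀ : x ≫ X.hom = t) (v : T ⟶ (X ⊗ F).left)
    (hv : v ≫ (X ⊗ F).hom = t) (hvx : v ≫ (fst X F).left = x) :
    tw a b φ hcart t x x h₀ h₀ rfl v hv = v :=
  congrArg (fun m => m.left) (twO_self a b φ hcart (T := Over.mk t) (Over.homMk x h₀) (Over.homMk v hv)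
    (Over.OverMorphism.ext hvx))

theorem tw_tw (t : T ⟶ S) (x₀ x₁ x₂ : T ⟶ X.left) (h₀ : x₀ ≫ X.hom = t) (h₁ : x₁ ≫ X.hom = t)
    (h₂ : x₂ ≫ X.hom = t) (h₀₁ : x₀ ≫ φ.left = x₁ ≫ φ.left) (h₁₂ : x₁ ≫ φ.left = x₂ ≫ φ.left)
    (v : T ⟶ (X ⊗ F).left) (hv : v ≫ (X ⊗ F).hom = t) (hv' : tw a b φ hcart t x₀ x₁ h₀ h₁ h₀₁ v hv ≫ (X ⊗ F).hom = t) :
    tw a b φ hcart t x₁ x₂ h₁ h₂ h₁₂ (tw a b φ hcart t x₀ x₁ h₀ h₁ h₀₁ v hv) hv' =
      tw a b φ hcart t x₀ x₂ h₀ h₂ (h₀₁.trans h₁₂) v hv := by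
  have e := twO_twO a b φ hcart (T := Over.mk t) (Over.homMk x₀ h₀) (Over.homMk x₁ h₁) (Over.homMk x₂ h₂)
    (Over.OverMorphism.ext h₀₁) (Over.OverMorphism.ext h₁₂) (Over.homMk v hv)
  refine Eq.trans ?_ (congrArg (fun m => m.left) e)
  unfold tw
  exact congrArg Over.Hom.left (twO_congr a b φ hcart _ rfl rfl (Over.OverMorphism.ext rfl))

end sch


section datum

variable {T : Scheme.{u}}

include φ in
theorem hX {x₀ x₁ : T ⟶ X.left} (h : x₀ ≫ φ.left = x₁ ≫ φ.left) : x₀ ≫ X.hom = x₁ ≫ X.hom := by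
  rw [← Over.w φ, ← Category.assoc, h, Category.assoc]

theorem hvX {x : T ⟶ X.left} {v : T ⟶ (X ⊗ F).left} (hv : v ≫ (fst X F).left = x) :
    v ≫ (X ⊗ F).hom = x ≫ X.hom := by
  rw [← hv, Category.assoc, Over.w (fst X F)]

/-- Scheme-level translation of points of `X ⊗ F` over `x₀` to points over `x₁`. -/
noncomputable def tw' (x₀ x₁ : T ⟶ X.left) (h : x₀ ≫ φ.left = x₁ ≫ φ.left) (v : T ⟶ (X ⊗ F).left)
    (hv : v ≫ (fst X F).left = x₀) : T ⟶ (X ⊗ F).left :=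
  tw a b φ hcart (x₀ ≫ X.hom) x₀ x₁ rfl (hX φ h).symm h v (hvX hv)

theorem tw'_hom (x₀ x₁ : T ⟶ X.left) (h : x₀ ≫ φ.left = x₁ ≫ φ.left) (v : T ⟶ (X ⊗ F).left)
    (hv : v ≫ (fst X F).left = x₀) : tw' a b φ hcart x₀ x₁ h v hv ≫ (fst X F).left = x₁ :=
  tw_hom a b φ hcart _ _ _ _ _ _ _ _

theorem comp_tw' {T' : Scheme.{u}} (g : T' ⟶ T) (x₀ x₁ : T ⟶ X.left) (h : x₀ ≫ φ.left = x₁ ≫ φ.left)
    (v : T ⟶ (X ⊗ F).left) (hv : v ≫ (fst X F).left = x₀) :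
    g ≫ tw' a b φ hcart x₀ x₁ h v hv =
      tw' a b φ hcart (g ≫ x₀) (g ≫ x₁) (by rw [Category.assoc, h, Category.assoc]) (g ≫ v)
        (by rw [Category.assoc, hv]) :=
  (comp_tw a b φ hcart g _ _ _ _ _ _ _ _).trans
    (tw_congr a b φ hcart _ _ _ _ (Category.assoc _ _ _).symm rfl rfl rfl)

theorem tw'_self (x : T ⟶ X.left) (v : T ⟶ (X ⊗ F).left) (hv : v ≫ (fst X F).left = x) :
    tw' a b φ hcart x x rfl v hv = v :=
  tw_self a b φ hcart _ _ _ _ _ hv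

theorem tw'_tw' (x₀ x₁ x₂ : T ⟶ X.left) (h₀₁ : x₀ ≫ φ.left = x₁ ≫ φ.left) (h₁₂ : x₁ ≫ φ.left = x₂ ≫ φ.left)
    (v : T ⟶ (X ⊗ F).left) (hv : v ≫ (fst X F).left = x₀) :
    tw' a b φ hcart x₁ x₂ h₁₂ (tw' a b φ hcart x₀ x₁ h₀₁ v hv) (tw'_hom a b φ hcart x₀ x₁ h₀₁ v hv) =
      tw' a b φ hcart x₀ x₂ (h₀₁.trans h₁₂) v hv :=
  (tw_congr a b φ hcart _ _ _ _ (hX φ h₀₁).symm rfl rfl rfl).trans
    (tw_tw a b φ hcart _ x₀ x₁ x₂ rfl (hX φ h₀₁).symm (hX φ (h₀₁.trans h₁₂)).symm h₀₁ h₁₂ v (hvX hv) _)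

theorem tw'_congr {x₀ x₀' x₁ x₁' : T ⟶ X.left} (h : x₀ ≫ φ.left = x₁ ≫ φ.left) {v v' : T ⟶ (X ⊗ F).left}
    (hv : v ≫ (fst X F).left = x₀) (e₀ : x₀ = x₀') (e₁ : x₁ = x₁') (ev : v = v') :
    tw' a b φ hcart x₀ x₁ h v hv =
      tw' a b φ hcart x₀' x₁' (by rw [← e₀, ← e₁]; exact h) v' (by rw [← e₀, ← ev]; exact hv) := by
  subst e₀ e₁ ev; rfl

/-- The descent datum on `X ⊗ F ⟶ X` relative to the torsor `φ : X ⟶ Y`. -/
noncomputable def assocDD : Desc.SchDD φ.left where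
  obj := Over.mk (fst X F).left
  φ _ x₀ x₁ h :=
    { toFun := fun v => ⟨tw' a b φ hcart x₀ x₁ h v.1 v.2, tw'_hom a b φ hcart x₀ x₁ h v.1 v.2⟩
      invFun := fun v => ⟨tw' a b φ hcart x₁ x₀ h.symm v.1 v.2, tw'_hom a b φ hcart x₁ x₀ h.symm v.1 v.2⟩
      left_inv := fun v => Subtype.ext
        ((tw'_tw' a b φ hcart x₀ x₁ x₀ h h.symm v.1 v.2).trans (tw'_self a b φ hcart x₀ v.1 v.2))
      right_inv := fun v => Subtype.ext
        ((tw'_tw' a b φ hcart x₁ x₀ x₁ h.symm h v.1 v.2).trans (tw'_self a b φ hcart x₁ v.1 v.2)) }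
  φ_natural _ _ g x₀ x₁ h h' v v' hv' :=
    (tw'_congr a b φ hcart h' v'.2 rfl rfl hv').trans (comp_tw' a b φ hcart g x₀ x₁ h v.1 v.2).symm
  φ_self _ x v := Subtype.ext (tw'_self a b φ hcart x v.1 v.2)
  φ_comp _ x₀ x₁ x₂ h₀₁ h₁₂ v := Subtype.ext (tw'_tw' a b φ hcart x₀ x₁ x₂ h₀₁ h₁₂ v.1 v.2)

theorem assocDD_φ_val {T : Scheme.{u}} (x₀ x₁ : T ⟶ X.left) (h : x₀ ≫ φ.left = x₁ ≫ φ.left)
    (v : Desc.Lifts (assocDD a b φ hcart).obj x₀) :
    ((assocDD a b φ hcart).φ x₀ x₁ h v).1 = tw' a b φ hcart x₀ x₁ h v.1 v.2 := rfl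

end datum


section product

theorem isPullback_whiskerLeft_snd {C : Type*} [Category C] [CartesianMonoidalCategory C] (G : C) {A B : C}
    (f : A ⟶ B) : IsPullback (G ◁ f) (snd G A) (snd G B) f := by
  refine ⟨⟨whiskerLeft_snd _ _⟩, ⟨PullbackCone.IsLimit.mk _ (fun s => lift (s.fst ≫ fst G B) s.snd) ?_ ?_ ?_⟩⟩
  · intro s
    apply CartesianMonoidalCategory.hom_ext
    · rw [Category.assoc, whiskerLeft_fst, lift_fst]
    · rw [Category.assoc, whiskerLeft_snd, lift_snd_assoc, s.condition]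
  · intro s
    exact lift_snd _ _
  · intro s m h1 h2
    apply CartesianMonoidalCategory.hom_ext
    · rw [lift_fst, ← h1, Category.assoc, whiskerLeft_fst]
    · rw [lift_snd, h2]

end product

section main

theorem twO_left_eq_tw {T : Over S} (x₀ x₁ : T ⟶ X) (h : x₀ ≫ φ = x₁ ≫ φ) (v : T ⟶ X ⊗ F) :
    (twO a b φ hcart x₀ x₁ h v).left =
      tw a b φ hcart T.hom x₀.left x₁.left (Over.w x₀) (Over.w x₁) (congrArg Over.Hom.left h) v.left (Over.w v) :=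
  rfl

variable (hloc : NonAbH1.IsLocallyTrivialFor Scheme.fpqcPrecoverage (Over.mk φ.left : Over Y.left))

include hloc hcart in
/-- **The associated bundle** `X ×^G F` of an fpqc `G`-torsor `φ : X ⟶ Y` and a `G`-scheme `F` affine over the base. -/
theorem exists_assocBundle (hG1 : IsAffineHom G.hom) (hG2 : Flat G.hom) (hG3 : UniversallyOpen G.hom)
    (hF : IsAffineHom F.hom) :
    ∃ (Q : Over S) (q : X ⊗ F ⟶ Q) (r : Q ⟶ Y),
      q ≫ r = fst X F ≫ φ ∧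
      IsPullback (a.prod b).act (snd G (X ⊗ F)) q q ∧
      NonAbH1.IsLocallyTrivialFor Scheme.fpqcPrecoverage (Over.mk q.left : Over Q.left) ∧
      IsAffineHom q.left ∧ GIT.IsGeomQuot (a.prod b) q := by
  -- the covering `φ.left`
  have hp1 : IsAffineHom φ.left := TorsorGeomQuot.prop_of_torsor a φ @IsAffineHom hcart hloc hG1
  have hp2 : Flat φ.left := TorsorGeomQuot.prop_of_torsor a φ @Flat hcart hloc hG2
  have hp3 : Surjective φ.left := ⟨TorsorGeomQuot.surjective_of_isLocallyTrivialFor φ.left hloc⟩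
  have hp4 : QuasiCompact φ.left := inferInstance
  -- the datum
  have hD : IsAffineHom (assocDD a b φ hcart).obj.hom := by
    change IsAffineHom (fst X F).left
    rw [Over.fst_left]
    exact MorphismProperty.pullback_fst _ _ hF
  obtain ⟨U, ⟨θ⟩⟩ := DescMain.exists_iso_toDD φ.left (assocDD a b φ hcart)
  -- the underlying isomorphism
  have hθ1 : θ.inv.hom.left ≫ θ.hom.hom.left = 𝟙 _ := congrArg (fun m => m.hom.left) θ.inv_hom_id
  have hθ2 : θ.hom.hom.left ≫ θ.inv.hom.left = 𝟙 _ := congrArg (fun m => m.hom.left) θ.hom_inv_id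
  let i : (X ⊗ F).left ≅ pullback φ.left U.hom := ⟨θ.inv.hom.left, θ.hom.hom.left, hθ1, hθ2⟩
  have hi1 : θ.inv.hom.left ≫ pullback.fst φ.left U.hom = (fst X F).left := Over.w θ.inv.hom
  let qL : (X ⊗ F).left ⟶ U.left := θ.inv.hom.left ≫ pullback.snd φ.left U.hom
  have hqU : qL ≫ U.hom = (fst X F).left ≫ φ.left := by
    rw [Category.assoc, ← pullback.condition, ← Category.assoc, hi1]
  -- invariance of `qL` under the translations
  have hstar : ∀ ⦃T : Scheme.{u}⦄ (x₀ x₁ : T ⟶ X.left) (h : x₀ ≫ φ.left = x₁ ≫ φ.left) (v : T ⟶ (X ⊗ F).left)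
      (hv : v ≫ (fst X F).left = x₀), tw' a b φ hcart x₀ x₁ h v hv ≫ qL = v ≫ qL := by
    intro T x₀ x₁ h v hv
    have hw : (v ≫ θ.inv.hom.left) ≫ pullback.fst φ.left U.hom = x₀ := by
      rw [Category.assoc, hi1, hv]
    have hc := θ.inv.comm x₀ x₁ h ⟨v, hv⟩ ⟨v ≫ θ.inv.hom.left, hw⟩ rfl
    have hc2 := congrArg (· ≫ pullback.snd φ.left U.hom) hc
    change pullback.lift _ _ _ ≫ pullback.snd φ.left U.hom = (tw' a b φ hcart x₀ x₁ h v hv ≫ θ.inv.hom.left) ≫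
      pullback.snd φ.left U.hom at hc2
    rw [pullback.lift_snd] at hc2
    exact ((Category.assoc _ _ _).symm.trans hc2.symm).trans (Category.assoc _ _ _)
  have hstar' : ∀ {T : Over S} (x₀ x₁ : T ⟶ X) (h : x₀ ≫ φ = x₁ ≫ φ) (v : T ⟶ X ⊗ F) (hv : v ≫ fst X F = x₀),
      (twO a b φ hcart x₀ x₁ h v).left ≫ qL = v.left ≫ qL := by
    intro T x₀ x₁ h v hv
    rw [twO_left_eq_tw]
    have e := hstar x₀.left x₁.left (congrArg Over.Hom.left h) v.left (congrArg Over.Hom.left hv)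
    refine Eq.trans ?_ e
    exact congrArg (· ≫ qL) (tw_congr a b φ hcart _ _ _ _ (Over.w x₀).symm rfl rfl rfl)
  -- the quotient
  let Q : Over S := Over.mk (U.hom ≫ Y.hom)
  have hq : qL ≫ Q.hom = (X ⊗ F).hom := by
    change qL ≫ U.hom ≫ Y.hom = _
    rw [← Category.assoc, hqU, Category.assoc, Over.w φ, Over.w (fst X F)]
  let q : X ⊗ F ⟶ Q := Over.homMk qL hq
  let r : Q ⟶ Y := Over.homMk U.hom rfl
  have hqr : q ≫ r = fst X F ≫ φ := Over.OverMorphism.ext hqU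
  -- the cartesian square `X ⊗ F = X ×_Y Q`
  have sqA' : IsPullback (fst X F).left qL φ.left U.hom :=
    IsPullback.of_iso_pullback ⟨hqU.symm⟩ i hi1 rfl
  have sqA : IsPullback (fst X F) q φ r := IsPullback.of_map (Over.forget S) hqr.symm sqA'
  -- invariance of `q`
  have hinv : (a.prod b).act ≫ q = snd G (X ⊗ F) ≫ q := by
    apply hom_ext_lift₂
    intro T g v
    rw [lift_snd_assoc, ← Category.assoc, ← twO_act a b φ hcart g v]
    apply Over.OverMorphism.ext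
    exact hstar' _ _ _ v rfl
  -- the torsor square
  have sqB : IsPullback ((a.prod b).act ≫ fst X F) (snd G (X ⊗ F)) φ (q ≫ r) := by
    have e1 : (a.prod b).act ≫ fst X F = (G ◁ fst X F) ≫ a.act := by rw [prod_act, lift_fst]
    rw [e1, hqr]
    exact (isPullback_whiskerLeft_snd G (fst X F)).paste_horiz hcart
  have sqT : IsPullback (a.prod b).act (snd G (X ⊗ F)) q q := IsPullback.of_right sqB hinv sqA
  have hloc' : NonAbH1.IsLocallyTrivialFor Scheme.fpqcPrecoverage (Over.mk q.left : Over Q.left) :=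
    TorsorGeomQuot.isLocallyTrivialFor_of_isPullback Scheme.fpqcPrecoverage sqA'.flip hloc
  obtain ⟨h1, h2⟩ := TorsorGeomQuot.isAffineHom_and_isGeomQuot (a.prod b) q sqT hloc' hG1 hG3
  exact ⟨Q, q, r, hqr, sqT, hloc', h1, h2⟩

end main

end Groth.Agent.Lib.Helper4.AssocBundle
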