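import Mathlib

/-!
# Products of reduced schemes over an algebraically closed field (helper4)

* `exists_character`: a finitely generated algebra over an algebraically closed field has a character with kernel in a given
  maximal ideal.
* `isReduced_tensorProduct`: over an algebraically closed field `k`, `A ⊗[k] B` is reduced for `A` reduced and `B` reduced
  and finitely generated.
* `isReduced_pullback`: `X ×_k Z` is reduced for `X` reduced and `Z` affine, reduced, locally of finite type over `k`.
-/

set_option autoImplicit false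
universe u
open TensorProduct CategoryTheory CategoryTheory.Limits AlgebraicGeometry

namespace Groth.Agent.Lib.Helper4.ReducedProduct

/-- A character of a finitely generated algebra over an algebraically closed field with prescribed maximal kernel. -/
theorem exists_character (k B : Type u) [Field k] [IsAlgClosed k] [CommRing B] [Algebra k B]
    [Algebra.FiniteType k B] (m : Ideal B) [hm : m.IsMaximal] :
    ∃ χ : B →ₐ[k] k, ∀ b, χ b = 0 → b ∈ m := by
  let _ : Field (B ⧸ m) := Ideal.Quotient.field m
  have hft : Algebra.FiniteType k (B ⧸ m) :=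
    Algebra.FiniteType.of_surjective (Ideal.Quotient.mkₐ k m) (Ideal.Quotient.mkₐ_surjective k m)
  have hfin : Module.Finite k (B ⧸ m) := finite_of_finite_type_of_isJacobsonRing k (B ⧸ m)
  have hint : Algebra.IsIntegral k (B ⧸ m) := inferInstance
  have hbij : Function.Bijective (algebraMap k (B ⧸ m)) := IsAlgClosed.algebraMap_bijective_of_isIntegral
  let e : k ≃ₐ[k] B ⧸ m := AlgEquiv.ofBijective (Algebra.ofId k (B ⧸ m)) hbij
  refine ⟨(e.symm : B ⧸ m →ₐ[k] k).comp (Ideal.Quotient.mkₐ k m), fun b hb => ?_⟩
  have h1 : e.symm (Ideal.Quotient.mk m b) = 0 := hb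
  have h2 : Ideal.Quotient.mk m b = 0 := by
    have := congrArg e h1
    simpa using this
  exact Ideal.Quotient.eq_zero_iff_mem.mp h2

/-- Over an algebraically closed field, the tensor product of a reduced algebra with a finitely generated reduced algebra
is reduced. -/
theorem isReduced_tensorProduct (k A B : Type u) [Field k] [IsAlgClosed k] [CommRing A] [CommRing B]
    [Algebra k A] [Algebra k B] [IsReduced A] [IsReduced B] [Algebra.FiniteType k B] :
    IsReduced (A ⊗[k] B) := by
  classical
  constructor
  intro ξ hξ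
  let 𝔟 := Module.Free.chooseBasis k A
  obtain ⟨c, rfl⟩ := (TensorProduct.equivFinsuppOfBasisLeft (N := B) 𝔟).symm.surjective ξ
  suffices hc : c = 0 by rw [hc, map_zero]
  ext i
  have hmem : ∀ m : Ideal B, m.IsMaximal → c i ∈ m := by
    intro m hm
    obtain ⟨χ, hχ⟩ := exists_character k B m
    apply hχ
    -- the map `A ⊗ B → A`
    let Φ : A ⊗[k] B →ₐ[k] A :=
      (Algebra.TensorProduct.rid k k A).toAlgHom.comp (Algebra.TensorProduct.map (AlgHom.id k A) χ)
    have hΦ : Φ ((TensorProduct.equivFinsuppOfBasisLeft (N := B) 𝔟).symm c) = c.sum fun j b => χ b • 𝔟 j := by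
      rw [TensorProduct.equivFinsuppOfBasisLeft_symm_apply, Finsupp.sum, map_sum]
      refine Finset.sum_congr rfl (fun j _ => ?_)
      simp [Φ]
    have hnil : IsNilpotent (Φ ((TensorProduct.equivFinsuppOfBasisLeft (N := B) 𝔟).symm c)) := hξ.map Φ
    have hzero : (c.sum fun j b => χ b • 𝔟 j) = 0 := by
      rw [← hΦ]; exact hnil.eq_zero
    -- linear independence
    have hli := 𝔟.linearIndependent
    have h0 : (Finsupp.linearCombination k 𝔟) (c.mapRange χ (map_zero χ)) = 0 := by
      rw [Finsupp.linearCombination_apply, Finsupp.sum_mapRange_index (by simp)]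
      exact hzero
    have h1 : c.mapRange χ (map_zero χ) = 0 := by
      rw [linearIndependent_iff] at hli
      exact hli _ h0
    have := congrArg (fun f => f i) h1
    simpa using this
  have hjac : (⊥ : Ideal B).jacobson = ⊥ := by
    have : IsJacobsonRing B := isJacobsonRing_of_finiteType (A := k)
    exact IsJacobsonRing.out this Ideal.isRadical_bot
  have h2 : c i ∈ (⊥ : Ideal B).jacobson := by
    rw [Ideal.jacobson, Ideal.mem_sInf]
    rintro m ⟨-, hm⟩
    exact hmem m hm
  rw [hjac] at h2
  simpa using h2


section scheme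

variable (k : Type u) [Field k] [IsAlgClosed k]

theorem isReduced_pullback_affine {X Z : Scheme.{u}} [IsAffine X] [IsAffine Z] (p : X ⟶ Spec (.of k))
    (q : Z ⟶ Spec (.of k)) [IsReduced X] [IsReduced Z] [LocallyOfFiniteType q] : IsReduced ↑(pullback p q) := by
  let A : CommRingCat.{u} := Γ(X, ⊤)
  let B : CommRingCat.{u} := Γ(Z, ⊤)
  let φA : CommRingCat.of k ⟶ A := (Scheme.ΓSpecIso (.of k)).inv ≫ p.appTop
  let φB : CommRingCat.of k ⟶ B := (Scheme.ΓSpecIso (.of k)).inv ≫ q.appTop
  have hA : X.isoSpec.hom ≫ Spec.map φA = p := by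
    rw [Spec.map_comp, Scheme.isoSpec_hom, ← Category.assoc, ← Scheme.toSpecΓ_naturality, Category.assoc,
      toSpecΓ_SpecMap_ΓSpecIso_inv, Category.comp_id]
  have hB : Z.isoSpec.hom ≫ Spec.map φB = q := by
    rw [Spec.map_comp, Scheme.isoSpec_hom, ← Category.assoc, ← Scheme.toSpecΓ_naturality, Category.assoc,
      toSpecΓ_SpecMap_ΓSpecIso_inv, Category.comp_id]
  let _ : Algebra k A := φA.hom.toAlgebra
  let _ : Algebra k B := φB.hom.toAlgebra
  have hft : Algebra.FiniteType k B := by
    have h1 : q.appTop.hom.FiniteType :=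
      (HasRingHomProperty.iff_of_isAffine (P := @LocallyOfFiniteType)).mp ‹LocallyOfFiniteType q›
    have h2 : (Scheme.ΓSpecIso (.of k)).inv.hom.FiniteType :=
      RingHom.FiniteType.of_surjective _
        ((ConcreteCategory.bijective_of_isIso (Scheme.ΓSpecIso (.of k)).inv).2)
    exact h1.comp h2
  have hred : IsReduced (A ⊗[k] B) := isReduced_tensorProduct k A B
  let e₁ : pullback p q ⟶ pullback (Spec.map (CommRingCat.ofHom (algebraMap k A)))
      (Spec.map (CommRingCat.ofHom (algebraMap k B))) :=
    pullback.map p q _ _ X.isoSpec.hom Z.isoSpec.hom (𝟙 _) (by rw [Category.comp_id]; exact hA.symm)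
      (by rw [Category.comp_id]; exact hB.symm)
  have : IsIso e₁ := by unfold e₁; infer_instance
  exact isReduced_of_isOpenImmersion (e₁ ≫ (pullbackSpecIso k A B).hom)

theorem isReduced_pullback {X Z : Scheme.{u}} [IsAffine Z] (p : X ⟶ Spec (.of k))
    (q : Z ⟶ Spec (.of k)) [IsReduced X] [IsReduced Z] [LocallyOfFiniteType q] : IsReduced ↑(pullback p q) := by
  apply +allowSynthFailures @IsReduced.of_openCover (𝒰 := Scheme.Pullback.openCoverOfLeft X.affineCover p q)
  intro (i : X.affineCover.I₀)
  have : IsReduced (X.affineCover.X i) := isReduced_of_isOpenImmersion (X.affineCover.f i)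
  exact isReduced_pullback_affine k (X.affineCover.f i ≫ p) q

end scheme

end Groth.Agent.Lib.Helper4.ReducedProduct
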