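import Mathlib
import Groth.Agent.Lib.Helper4.AssocBundle
import Groth.Agent.Lib.Helper4.ReducedProduct
import Groth.Agent.Lib.Helper4.PrincipalBundleInv
import Groth.Agent.Lib.Helper4.AffineDescent

/-!
# Associated bundles of principal bundles without hypotheses on the group (helper4)

* `exists_assocBundle_of_fpqc`: for `φ : X ⟶ Y` flat, surjective, quasi-compact with cartesian action square and `F` affine over the
  base, the associated bundle `q : X ⊗ F ⟶ Q`, `r : Q ⟶ Y` exists, with `X ⊗ F = X ×_Y Q`, `q` invariant and a torsor.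
* `exists_assocBundle_variety`: the variety version over an algebraically closed field (S16133): `Q` is reduced, separated, of
  finite type.
-/

set_option autoImplicit false
set_option backward.isDefEq.respectTransparency false
set_option linter.style.haveILetI false
universe u
open CategoryTheory CategoryTheory.Limits MonoidalCategory CartesianMonoidalCategory MonObj GrpObj AlgebraicGeometry

namespace Groth.Agent.Lib.Helper4.AssocBundle

open AlgGrp.Action

variable {S : Scheme.{u}} {G X Y F : Over S} [GrpObj G] (a : AlgGrp.Action G X) (b : AlgGrp.Action G F)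
  (φ : X ⟶ Y) (hcart : IsPullback a.act (snd G X) φ φ)

include hcart in
/-- The associated bundle of a principal bundle `φ : X ⟶ Y` (`φ` flat, surjective, quasi-compact with cartesian action square)
and a `G`-scheme `F` affine over the base: no hypothesis on `G`. -/
theorem exists_assocBundle_of_fpqc [Flat φ.left] [Surjective φ.left] [QuasiCompact φ.left]
    (hF : IsAffineHom F.hom) :
    ∃ (Q : Over S) (q : X ⊗ F ⟶ Q) (r : Q ⟶ Y),
      q ≫ r = fst X F ≫ φ ∧
      IsPullback (fst X F).left q.left φ.left r.left ∧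
      (a.prod b).act ≫ q = snd G (X ⊗ F) ≫ q ∧
      IsPullback (a.prod b).act (snd G (X ⊗ F)) q q := by
  have hD : IsAffineHom (assocDD a b φ hcart).obj.hom := by
    change IsAffineHom (fst X F).left
    rw [Over.fst_left]
    exact MorphismProperty.pullback_fst _ _ hF
  obtain ⟨U, ⟨θ⟩⟩ := DescMain.exists_iso_toDD φ.left (assocDD a b φ hcart)
  have hθ1 : θ.inv.hom.left ≫ θ.hom.hom.left = 𝟙 _ := congrArg (fun m => m.hom.left) θ.inv_hom_id
  have hθ2 : θ.hom.hom.left ≫ θ.inv.hom.left = 𝟙 _ := congrArg (fun m => m.hom.left) θ.hom_inv_id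
  let i : (X ⊗ F).left ≅ pullback φ.left U.hom := ⟨θ.inv.hom.left, θ.hom.hom.left, hθ1, hθ2⟩
  have hi1 : θ.inv.hom.left ≫ pullback.fst φ.left U.hom = (fst X F).left := Over.w θ.inv.hom
  let qL : (X ⊗ F).left ⟶ U.left := θ.inv.hom.left ≫ pullback.snd φ.left U.hom
  have hqU : qL ≫ U.hom = (fst X F).left ≫ φ.left := by
    rw [Category.assoc, ← pullback.condition, ← Category.assoc, hi1]
  have hstar : ∀ ⦃T : Scheme.{u}⦄ (x₀ x₁ : T ⟶ X.left) (h : x₀ ≫ φ.left = x₁ ≫ φ.left) (v : T ⟶ (X ⊗ F).left)
      (hv : v ≫ (fst X F).left = x₀), tw' a b φ hcart x₀ x₁ h v hv ≫ qL = v ≫ qL := by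
    intro T x₀ x₁ h v hv
    have hw : (v ≫ θ.inv.hom.left) ≫ pullback.fst φ.left U.hom = x₀ := by
      rw [Category.assoc, hi1, hv]
    have hc := θ.inv.comm x₀ x₁ h ⟨v, hv⟩ ⟨v ≫ θ.inv.hom.left, hw⟩ rfl
    have hc2 := congrArg (· ≫ pullback.snd φ.left U.hom) hc
    change pullback.lift _ _ _ ≫ pullback.snd φ.left U.hom = (tw' a b φ hcart x₀ x₁ h v hv ≫ θ.inv.hom.left) ≫
      pullback.snd φ.left U.hom at hc2
    rw [pullback.lift_snd] at hc2
    exact ((Category.assoc _ _ _).symm.trans hc2.symm).trans (Category.assoc _ _ _)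
  have hstar' : ∀ {T : Over S} (x₀ x₁ : T ⟶ X) (h : x₀ ≫ φ = x₁ ≫ φ) (v : T ⟶ X ⊗ F) (hv : v ≫ fst X F = x₀),
      (twO a b φ hcart x₀ x₁ h v).left ≫ qL = v.left ≫ qL := by
    intro T x₀ x₁ h v hv
    rw [twO_left_eq_tw]
    have e := hstar x₀.left x₁.left (congrArg Over.Hom.left h) v.left (congrArg Over.Hom.left hv)
    refine Eq.trans ?_ e
    exact congrArg (· ≫ qL) (tw_congr a b φ hcart _ _ _ _ (Over.w x₀).symm rfl rfl rfl)
  let Q : Over S := Over.mk (U.hom ≫ Y.hom)
  have hq : qL ≫ Q.hom = (X ⊗ F).hom := by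
    change qL ≫ U.hom ≫ Y.hom = _
    rw [← Category.assoc, hqU, Category.assoc, Over.w φ, Over.w (fst X F)]
  let q : X ⊗ F ⟶ Q := Over.homMk qL hq
  let r : Q ⟶ Y := Over.homMk U.hom rfl
  have hqr : q ≫ r = fst X F ≫ φ := Over.OverMorphism.ext hqU
  have sqA' : IsPullback (fst X F).left qL φ.left U.hom :=
    IsPullback.of_iso_pullback ⟨hqU.symm⟩ i hi1 rfl
  have sqA : IsPullback (fst X F) q φ r := IsPullback.of_map (Over.forget S) hqr.symm sqA'
  have hinv : (a.prod b).act ≫ q = snd G (X ⊗ F) ≫ q := by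
    apply hom_ext_lift₂
    intro T g v
    rw [lift_snd_assoc, ← Category.assoc, ← twO_act a b φ hcart g v]
    apply Over.OverMorphism.ext
    exact hstar' _ _ _ v rfl
  have sqB : IsPullback ((a.prod b).act ≫ fst X F) (snd G (X ⊗ F)) φ (q ≫ r) := by
    have e1 : (a.prod b).act ≫ fst X F = (G ◁ fst X F) ≫ a.act := by rw [prod_act, lift_fst]
    rw [e1, hqr]
    exact (isPullback_whiskerLeft_snd G (fst X F)).paste_horiz hcart
  have sqT : IsPullback (a.prod b).act (snd G (X ⊗ F)) q q := IsPullback.of_right sqB hinv sqA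
  exact ⟨Q, q, r, hqr, sqA', hinv, sqT⟩


/-- The associated bundle of a principal bundle between varieties over an algebraically closed field (S16133). -/
theorem exists_assocBundle_variety (k : Type u) [Field k] [IsAlgClosed k]
    (G X Y Z : Over (Spec (CommRingCat.of k))) [GrpObj G]
    [IsReduced X.left] [QuasiCompact X.hom]
    [IsSeparated Y.hom] [LocallyOfFiniteType Y.hom] [QuasiCompact Y.hom]
    [IsReduced Z.left] [IsAffine Z.left] [LocallyOfFiniteType Z.hom]
    (a : AlgGrp.Action G X) (f : X ⟶ Y) [Flat f.left] [Surjective f.left]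
    (hsq : IsPullback a.act.left (snd G X).left f.left f.left) (b : AlgGrp.Action G Z) :
    ∃ (W : Over (Spec (CommRingCat.of k))) (φ : X ⊗ Z ⟶ W) (ψ : W ⟶ Y),
      IsReduced W.left ∧ IsSeparated W.hom ∧ LocallyOfFiniteType W.hom ∧ QuasiCompact W.hom ∧
      (a.prod b).act ≫ φ = snd G (X ⊗ Z) ≫ φ ∧
      IsPullback (fst X Z).left φ.left f.left ψ.left := by
  have hqc0 : QuasiCompact (f.left ≫ Y.hom) := by rw [Over.w f]; infer_instance
  have hqc : QuasiCompact f.left := QuasiCompact.of_comp f.left Y.hom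
  have hcart : IsPullback a.act (snd G X) f f :=
    IsPullback.of_map (Over.forget _) (Over.OverMorphism.ext hsq.w) hsq
  have hF : IsAffineHom Z.hom := inferInstance
  obtain ⟨Q, q, r, hqr, sqA', hinv, sqT⟩ := exists_assocBundle_of_fpqc a b f hcart hF
  -- the total space of the trivial bundle is reduced
  have hprod : IsReduced (X ⊗ Z).left := by
    change IsReduced ↑(pullback X.hom Z.hom)
    exact ReducedProduct.isReduced_pullback k X.hom Z.hom
  -- `q` is an fpqc covering
  have hq1 : Flat q.left := MorphismProperty.of_isPullback sqA' (inferInstance : Flat f.left)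
  have hq2 : Surjective q.left := MorphismProperty.of_isPullback sqA' (inferInstance : Surjective f.left)
  have hq3 : QuasiCompact q.left := MorphismProperty.of_isPullback sqA' hqc
  have hloc' : NonAbH1.IsLocallyTrivialFor Scheme.fpqcPrecoverage (Over.mk q.left : Over Q.left) :=
    PrincipalBundleInv.isLocallyTrivialFor_self q.left
  have hred : IsReduced Q.left :=
    ⟨fun U => isReduced_of_injective (q.left.app U).hom
      (TorsorGeomQuot.sections_of_torsor (a.prod b) q sqT hloc' U).1⟩
  -- properties of `r`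
  have hfpqc : (@Surjective ⊓ @Flat ⊓ @QuasiCompact : MorphismProperty Scheme.{u}) f.left :=
    ⟨⟨inferInstance, inferInstance⟩, hqc⟩
  have hfst1 : IsAffineHom (fst X Z).left := by
    rw [Over.fst_left]; exact MorphismProperty.pullback_fst _ _ hF
  have hfst2 : LocallyOfFiniteType (fst X Z).left := by
    rw [Over.fst_left]; exact MorphismProperty.pullback_fst _ _ (inferInstance : LocallyOfFiniteType Z.hom)
  have hr1 : IsAffineHom r.left :=
    MorphismProperty.of_isPullback_of_descendsAlong (P := @IsAffineHom)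
      (Q := @Surjective ⊓ @Flat ⊓ @QuasiCompact) sqA' hfpqc hfst1
  have hr2 : LocallyOfFiniteType r.left :=
    MorphismProperty.of_isPullback_of_descendsAlong (P := @LocallyOfFiniteType)
      (Q := @Surjective ⊓ @Flat ⊓ @QuasiCompact) sqA' hfpqc hfst2
  have hw : r.left ≫ Y.hom = Q.hom := Over.w r
  refine ⟨Q, q, r, hred, ?_, ?_, ?_, hinv, sqA'⟩
  · rw [← hw]; infer_instance
  · rw [← hw]; infer_instance
  · rw [← hw]; infer_instance

end Groth.Agent.Lib.Helper4.AssocBundle
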