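import Mathlib
import Groth.Prelude.Def_Desc
import Groth.Agent.Lib.Helper4.DescGlueOpenSingle

/-!
# Descent data relative to a covering with Zariski-local sections are effective (helper4)

* `ph`: point form of the gluing bijections of a descent datum (`ph_hom`, `ph_congr`, `comp_ph`, `ph_self`, `ph_ph`).
* `secObj D W s`, `secHom D W s hs`: for an open `W ⊆ S` and a section `s : W ⟶ X` of `p : X ⟶ S` over `W`, the pullback
  `s^* D` as an `S`-scheme and the morphism of descent data `toDD (s^* D) ⟶ D`, an isomorphism onto the part of `D` over `W`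
  (`isOpenImmersion_mm`, `range_mm`).
* `exists_iso_toDD_of_sections`: if `p` is fpqc and has sections Zariski-locally on `S`, every descent datum relative to `p`
  is effective.
-/

set_option backward.isDefEq.respectTransparency false
set_option autoImplicit false
set_option linter.style.haveILetI false
set_option linter.unusedSectionVars false
universe u
open CategoryTheory CategoryTheory.Limits AlgebraicGeometry Desc

namespace Groth.Agent.Lib.Helper4.DescSection

variable {X S : Scheme.{u}} {p : X ⟶ S} (D : SchDD p)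

section ph

variable {T : Scheme.{u}}

/-- Point form of the gluing bijections. -/
noncomputable def ph (x₀ x₁ : T ⟶ X) (h : x₀ ≫ p = x₁ ≫ p) (d : T ⟶ D.obj.left) (hd : d ≫ D.obj.hom = x₀) :
    T ⟶ D.obj.left :=
  (D.φ x₀ x₁ h ⟨d, hd⟩).1

theorem ph_hom (x₀ x₁ : T ⟶ X) (h : x₀ ≫ p = x₁ ≫ p) (d : T ⟶ D.obj.left) (hd : d ≫ D.obj.hom = x₀) :
    ph D x₀ x₁ h d hd ≫ D.obj.hom = x₁ :=
  (D.φ x₀ x₁ h ⟨d, hd⟩).2

theorem ph_congr {x₀ x₀' x₁ x₁' : T ⟶ X} (h : x₀ ≫ p = x₁ ≫ p) {d d' : T ⟶ D.obj.left}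
    (hd : d ≫ D.obj.hom = x₀) (e₀ : x₀ = x₀') (e₁ : x₁ = x₁') (ed : d = d') :
    ph D x₀ x₁ h d hd =
      ph D x₀' x₁' (by rw [← e₀, ← e₁]; exact h) d' (by rw [← e₀, ← ed]; exact hd) := by
  subst e₀ e₁ ed; rfl

theorem comp_ph {T' : Scheme.{u}} (g : T' ⟶ T) (x₀ x₁ : T ⟶ X) (h : x₀ ≫ p = x₁ ≫ p) (d : T ⟶ D.obj.left)
    (hd : d ≫ D.obj.hom = x₀) :
    g ≫ ph D x₀ x₁ h d hd =
      ph D (g ≫ x₀) (g ≫ x₁) (by rw [Category.assoc, h, Category.assoc]) (g ≫ d)
        (by rw [Category.assoc, hd]) :=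
  (D.φ_natural g x₀ x₁ h (by rw [Category.assoc, h, Category.assoc]) ⟨d, hd⟩
    ⟨g ≫ d, by rw [Category.assoc, hd]⟩ rfl).symm

theorem ph_self (x : T ⟶ X) (d : T ⟶ D.obj.left) (hd : d ≫ D.obj.hom = x) : ph D x x rfl d hd = d :=
  congrArg Subtype.val (D.φ_self x ⟨d, hd⟩)

theorem ph_ph (x₀ x₁ x₂ : T ⟶ X) (h₀₁ : x₀ ≫ p = x₁ ≫ p) (h₁₂ : x₁ ≫ p = x₂ ≫ p) (d : T ⟶ D.obj.left)
    (hd : d ≫ D.obj.hom = x₀) :
    ph D x₁ x₂ h₁₂ (ph D x₀ x₁ h₀₁ d hd) (ph_hom D x₀ x₁ h₀₁ d hd) = ph D x₀ x₂ (h₀₁.trans h₁₂) d hd :=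
  congrArg Subtype.val (D.φ_comp x₀ x₁ x₂ h₀₁ h₁₂ ⟨d, hd⟩)

/-- variant of `ph_ph` with a free proof of the middle condition -/
theorem ph_ph' (x₀ x₁ x₂ : T ⟶ X) (h₀₁ : x₀ ≫ p = x₁ ≫ p) (h₁₂ : x₁ ≫ p = x₂ ≫ p) (d : T ⟶ D.obj.left)
    (hd : d ≫ D.obj.hom = x₀) (d' : T ⟶ D.obj.left) (hd' : d' ≫ D.obj.hom = x₁)
    (e : d' = ph D x₀ x₁ h₀₁ d hd) :
    ph D x₁ x₂ h₁₂ d' hd' = ph D x₀ x₂ (h₀₁.trans h₁₂) d hd := by
  subst e
  exact ph_ph D x₀ x₁ x₂ h₀₁ h₁₂ d hd

end ph

section sec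

variable (W : S.Opens) (s : (W : Scheme.{u}) ⟶ X)

/-- The pullback of the member of `D` along the section, as an `S`-scheme. -/
noncomputable abbrev secObj : Over S := Over.mk (pullback.snd D.obj.hom s ≫ W.ι)

/-- the `X`-component of the universal point of `X ×_S s^*D` -/
noncomputable abbrev x1 : pullback p (secObj D W s).hom ⟶ X := pullback.fst p (secObj D W s).hom

/-- the `s^*D`-component of the universal point -/
noncomputable abbrev uu : pullback p (secObj D W s).hom ⟶ pullback D.obj.hom s :=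
  pullback.snd p (secObj D W s).hom

/-- the `W`-component -/
noncomputable abbrev ww : pullback p (secObj D W s).hom ⟶ (W : Scheme.{u}) :=
  uu D W s ≫ pullback.snd D.obj.hom s

/-- the point of `X` given by the section -/
noncomputable abbrev x0 : pullback p (secObj D W s).hom ⟶ X := ww D W s ≫ s

/-- the `D`-component, lying over `x0` -/
noncomputable abbrev v0 : pullback p (secObj D W s).hom ⟶ D.obj.left :=
  uu D W s ≫ pullback.fst D.obj.hom s

theorem v0_hom : v0 D W s ≫ D.obj.hom = x0 D W s := by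
  change (uu D W s ≫ pullback.fst D.obj.hom s) ≫ D.obj.hom = (uu D W s ≫ pullback.snd D.obj.hom s) ≫ s
  rw [Category.assoc, pullback.condition, Category.assoc]

variable (hs : s ≫ p = W.ι)

include hs in
theorem x0_p : x0 D W s ≫ p = x1 D W s ≫ p := by
  change ((uu D W s ≫ pullback.snd D.obj.hom s) ≫ s) ≫ p = pullback.fst p (secObj D W s).hom ≫ p
  rw [pullback.condition, Category.assoc, hs, Category.assoc]
  rfl

/-- The comparison morphism `X ×_S s^*D ⟶ D`. -/
noncomputable def mm : pullback p (secObj D W s).hom ⟶ D.obj.left :=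
  ph D (x0 D W s) (x1 D W s) (x0_p D W s hs) (v0 D W s) (v0_hom D W s)

theorem mm_hom : mm D W s hs ≫ D.obj.hom = x1 D W s := ph_hom D _ _ _ _ _

/-- The comparison morphism of descent data. -/
noncomputable def secHom : (toDD p).obj (secObj D W s) ⟶ D :=
  ⟨Over.homMk (mm D W s hs) (mm_hom D W s hs), fun T y₀ y₁ h v w hw => by
    change (D.φ y₀ y₁ h w).1 = (canMap p (secObj D W s) y₀ y₁ h v).1 ≫ mm D W s hs
    have hv2 : v.1 ≫ x1 D W s = y₀ := v.2
    have hw' : w.1 = v.1 ≫ mm D W s hs := hw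
    -- left hand side
    have e1 : v.1 ≫ mm D W s hs = ph D (v.1 ≫ x0 D W s) y₀ (by rw [Category.assoc, x0_p D W s hs, ← Category.assoc, hv2])
        (v.1 ≫ v0 D W s) (by rw [Category.assoc, v0_hom]) := by
      unfold mm
      rw [comp_ph]
      exact ph_congr D _ _ rfl hv2 rfl
    have hL : (D.φ y₀ y₁ h w).1 = ph D (v.1 ≫ x0 D W s) y₁
        (by rw [Category.assoc, x0_p D W s hs, ← Category.assoc, hv2, h])
        (v.1 ≫ v0 D W s) (by rw [Category.assoc, v0_hom]) := by
      change ph D y₀ y₁ h w.1 w.2 = _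
      exact ph_ph' D _ y₀ y₁ _ h _ _ w.1 w.2 (hw'.trans e1)
    -- right hand side
    have hc1 : (canMap p (secObj D W s) y₀ y₁ h v).1 ≫ x1 D W s = y₁ := (canMap p (secObj D W s) y₀ y₁ h v).2
    have hc2 : (canMap p (secObj D W s) y₀ y₁ h v).1 ≫ uu D W s = v.1 ≫ uu D W s := by
      rw [canMap_val]
      exact pullback.lift_snd _ _ _
    have hR : (canMap p (secObj D W s) y₀ y₁ h v).1 ≫ mm D W s hs = ph D (v.1 ≫ x0 D W s) y₁
        (by rw [Category.assoc, x0_p D W s hs, ← Category.assoc, hv2, h])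
        (v.1 ≫ v0 D W s) (by rw [Category.assoc, v0_hom]) := by
      unfold mm
      rw [comp_ph]
      refine ph_congr D _ _ ?_ hc1 ?_
      · change (canMap p (secObj D W s) y₀ y₁ h v).1 ≫ (uu D W s ≫ pullback.snd D.obj.hom s) ≫ s = _
        rw [← Category.assoc, ← Category.assoc, hc2]
        simp only [Category.assoc]
      · change (canMap p (secObj D W s) y₀ y₁ h v).1 ≫ uu D W s ≫ pullback.fst D.obj.hom s = _
        rw [← Category.assoc, hc2, Category.assoc]
    rw [hL, hR]⟩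

@[simp] theorem secHom_hom_left : (secHom D W s hs).hom.left = mm D W s hs := rfl

/-- The part of `D` over `W`. -/
noncomputable abbrev Om : D.obj.left.Opens := (D.obj.hom ≫ p) ⁻¹ᵁ W

/-- the `W`-component of the universal point of `Om` -/
noncomputable abbrev wO : (Om D W : Scheme.{u}) ⟶ (W : Scheme.{u}) := (D.obj.hom ≫ p) ∣_ W

theorem wO_ι : wO D W ≫ W.ι = ((Om D W).ι ≫ D.obj.hom) ≫ p := by
  rw [morphismRestrict_ι, Category.assoc]

include hs in
theorem xO_p : ((Om D W).ι ≫ D.obj.hom) ≫ p = (wO D W ≫ s) ≫ p := by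
  rw [Category.assoc _ s, hs, wO_ι]

/-- the `D`-component of the inverse -/
noncomputable def dO : (Om D W : Scheme.{u}) ⟶ D.obj.left :=
  ph D ((Om D W).ι ≫ D.obj.hom) (wO D W ≫ s) (xO_p D W s hs) (Om D W).ι rfl

theorem dO_hom : dO D W s hs ≫ D.obj.hom = wO D W ≫ s := ph_hom D _ _ _ _ _

/-- The inverse of the comparison morphism on the part of `D` over `W`. -/
noncomputable def nn : (Om D W : Scheme.{u}) ⟶ pullback p (secObj D W s).hom :=
  pullback.lift ((Om D W).ι ≫ D.obj.hom) (pullback.lift (dO D W s hs) (wO D W) (dO_hom D W s hs)) (by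
    change _ = _ ≫ pullback.snd D.obj.hom s ≫ W.ι
    rw [pullback.lift_snd_assoc, wO_ι])

theorem nn_x1 : nn D W s hs ≫ x1 D W s = (Om D W).ι ≫ D.obj.hom := pullback.lift_fst _ _ _

theorem nn_uu : nn D W s hs ≫ uu D W s = pullback.lift (dO D W s hs) (wO D W) (dO_hom D W s hs) :=
  pullback.lift_snd _ _ _

theorem nn_ww : nn D W s hs ≫ ww D W s = wO D W := by
  change nn D W s hs ≫ uu D W s ≫ pullback.snd D.obj.hom s = _
  rw [← Category.assoc, nn_uu, pullback.lift_snd]

theorem nn_v0 : nn D W s hs ≫ v0 D W s = dO D W s hs := by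
  change nn D W s hs ≫ uu D W s ≫ pullback.fst D.obj.hom s = _
  rw [← Category.assoc, nn_uu, pullback.lift_fst]

theorem nn_mm : nn D W s hs ≫ mm D W s hs = (Om D W).ι := by
  unfold mm
  rw [comp_ph]
  have e0 : nn D W s hs ≫ x0 D W s = wO D W ≫ s := by
    change nn D W s hs ≫ ww D W s ≫ s = _
    rw [← Category.assoc, nn_ww]
  have h1 : (wO D W ≫ s) ≫ p = ((Om D W).ι ≫ D.obj.hom) ≫ p := (xO_p D W s hs).symm
  have e1 : ph D (nn D W s hs ≫ x0 D W s) (nn D W s hs ≫ x1 D W s)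
      (by rw [Category.assoc, x0_p D W s hs, Category.assoc]) (nn D W s hs ≫ v0 D W s)
      (by rw [Category.assoc, v0_hom]) =
      ph D (wO D W ≫ s) ((Om D W).ι ≫ D.obj.hom) h1 (dO D W s hs) (dO_hom D W s hs) :=
    ph_congr D _ _ e0 (nn_x1 D W s hs) (nn_v0 D W s hs)
  rw [e1]
  unfold dO
  rw [ph_ph]
  exact ph_self D _ _ rfl

include hs in
theorem range_mm_subset : Set.range (mm D W s hs) ⊆ Set.range (Om D W).ι := by
  rintro _ ⟨t, rfl⟩
  rw [Scheme.Opens.range_ι]
  change (D.obj.hom ≫ p) (mm D W s hs t) ∈ W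
  rw [← Scheme.Hom.comp_apply, ← Category.assoc, mm_hom, ← x0_p D W s hs]
  change ((ww D W s ≫ s) ≫ p) t ∈ W
  rw [Category.assoc, hs, Scheme.Hom.comp_apply]
  exact (ww D W s t).2

/-- the comparison morphism corestricted to the part of `D` over `W` -/
noncomputable def mO : pullback p (secObj D W s).hom ⟶ (Om D W : Scheme.{u}) :=
  IsOpenImmersion.lift (Om D W).ι (mm D W s hs) (range_mm_subset D W s hs)

theorem mO_ι : mO D W s hs ≫ (Om D W).ι = mm D W s hs := IsOpenImmersion.lift_fac _ _ _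

theorem mO_wO : mO D W s hs ≫ wO D W = ww D W s := by
  rw [← cancel_mono W.ι, Category.assoc, wO_ι, ← Category.assoc, ← Category.assoc, mO_ι, mm_hom,
    ← x0_p D W s hs]
  change (ww D W s ≫ s) ≫ p = _
  rw [Category.assoc, hs]

theorem nn_mO : nn D W s hs ≫ mO D W s hs = 𝟙 _ := by
  rw [← cancel_mono (Om D W).ι, Category.assoc, mO_ι, nn_mm, Category.id_comp]

theorem mO_nn : mO D W s hs ≫ nn D W s hs = 𝟙 _ := by
  have hx : mO D W s hs ≫ (Om D W).ι ≫ D.obj.hom = x1 D W s := by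
    rw [← Category.assoc, mO_ι, mm_hom]
  apply pullback.hom_ext
  · rw [Category.assoc, Category.id_comp]
    exact (congrArg (mO D W s hs ≫ ·) (nn_x1 D W s hs)).trans hx
  · rw [Category.assoc, Category.id_comp]
    refine (congrArg (mO D W s hs ≫ ·) (nn_uu D W s hs)).trans ?_
    apply pullback.hom_ext
    · rw [Category.assoc, pullback.lift_fst]
      unfold dO
      rw [comp_ph]
      have e0 : mO D W s hs ≫ wO D W ≫ s = x0 D W s := by
        rw [← Category.assoc, mO_wO]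
      have e1 : ph D (mO D W s hs ≫ (Om D W).ι ≫ D.obj.hom) (mO D W s hs ≫ wO D W ≫ s)
          (by
            have := xO_p D W s hs
            simp only [Category.assoc] at this ⊢
            rw [this]) (mO D W s hs ≫ (Om D W).ι)
          (by rw [Category.assoc]) =
          ph D (x1 D W s) (x0 D W s) (x0_p D W s hs).symm (mm D W s hs) (mm_hom D W s hs) :=
        ph_congr D _ _ hx e0 (mO_ι D W s hs)
      rw [e1]
      unfold mm
      rw [ph_ph]
      exact ph_self D _ _ _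
    · rw [Category.assoc, pullback.lift_snd]
      exact mO_wO D W s hs

theorem isIso_mO : IsIso (mO D W s hs) := ⟨nn D W s hs, mO_nn D W s hs, nn_mO D W s hs⟩

theorem isOpenImmersion_mm : IsOpenImmersion (mm D W s hs) := by
  haveI := isIso_mO D W s hs
  rw [← mO_ι D W s hs]
  infer_instance

theorem range_mm : Set.range (mm D W s hs) = ((Om D W : D.obj.left.Opens) : Set D.obj.left) := by
  haveI := isIso_mO D W s hs
  rw [← mO_ι D W s hs, Scheme.Hom.comp_base, TopCat.coe_comp, Set.range_comp,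
    Set.range_eq_univ.mpr (mO D W s hs).surjective, Set.image_univ, Scheme.Opens.range_ι]

end sec

/-- **Descent data relative to an fpqc morphism with Zariski-local sections are effective.** -/
theorem exists_iso_toDD_of_sections [Surjective p] [Flat p] [QuasiCompact p] (D : SchDD p)
    (hsec : ∀ y : S, ∃ (W : S.Opens) (s : (W : Scheme.{u}) ⟶ X), y ∈ W ∧ s ≫ p = W.ι) :
    ∃ U : Over S, Nonempty ((toDD p).obj U ≅ D) := by
  refine DescGlueOpenSingle.exists_iso_toDD_of_cover p D (fun v => ?_)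
  obtain ⟨W, s, hy, hs⟩ := hsec ((D.obj.hom ≫ p) v)
  refine ⟨(toDD p).obj (secObj D W s), secHom D W s hs, isOpenImmersion_mm D W s hs, ?_,
    ⟨secObj D W s, ⟨Iso.refl _⟩⟩⟩
  change v ∈ Set.range (mm D W s hs)
  rw [range_mm]
  exact hy

end Groth.Agent.Lib.Helper4.DescSection
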