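import Mathlib
import Groth.Agent.Lib.Helper4.TorsorGeomQuot

/-!
# Principal bundles are geometric quotients with free action (helper4)
-/

set_option autoImplicit false
set_option linter.style.haveILetI false
set_option backward.isDefEq.respectTransparency false
universe u
open CategoryTheory MonoidalCategory CartesianMonoidalCategory MonObj AlgebraicGeometry
open CategoryTheory.Limits

namespace Groth.Agent.Lib.Helper4.PrincipalBundle

variable {S : Scheme.{u}} {G X Y : Over S} [GrpObj G] (a : AlgGrp.Action G X) (φ : X ⟶ Y)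

theorem isPullback_of_isIso_PsiY (hinv : GIT.IsInvariant a φ) (h : IsIso (GIT.PsiY a φ hinv)) :
    IsPullback a.act (snd G X) φ φ := by
  have sq' : IsPullback a.act.left (snd G X).left φ.left φ.left :=
    IsPullback.of_iso_pullback ⟨hinv.left⟩ (asIso (GIT.PsiY a φ hinv))
      (by simp [GIT.PsiY]) (by simp [GIT.PsiY])
  exact IsPullback.of_map (Over.forget S) hinv sq'

theorem psi_left_eq (hinv : GIT.IsInvariant a φ) :
    (GIT.psi a (𝟙 X)).left = GIT.PsiY a φ hinv ≫ pullback.mapDesc φ.left φ.left Y.hom ≫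
      (pullback.congrHom (Over.w φ) (Over.w φ)).hom := by
  apply pullback.hom_ext
  · have e1 : (GIT.psi a (𝟙 X)).left ≫ pullback.fst X.hom X.hom = a.act.left := by
      rw [← Over.fst_left, ← Over.comp_left, GIT.psi, lift_fst]
      simp
    rw [e1]
    simp [GIT.PsiY]
  · have e2 : (GIT.psi a (𝟙 X)).left ≫ pullback.snd X.hom X.hom = (snd G X).left := by
      rw [← Over.snd_left, ← Over.comp_left, GIT.psi, lift_snd]
    rw [e2]
    simp [GIT.PsiY]

theorem isClosedImmersion_psi [IsSeparated Y.hom] (hinv : GIT.IsInvariant a φ)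
    (h : IsIso (GIT.PsiY a φ hinv)) : IsClosedImmersion (GIT.psi a (𝟙 X)).left := by
  rw [psi_left_eq a φ hinv]
  infer_instance

theorem isGeomQuot_of_principalBundle (hinv : GIT.IsInvariant a φ) (h : IsIso (GIT.PsiY a φ hinv))
    [Flat φ.left] [Surjective φ.left] [QuasiCompact φ.left] (hG : UniversallyOpen G.hom) :
    GIT.IsGeomQuot a φ := by
  have hcart := isPullback_of_isIso_PsiY a φ hinv h
  have hloc : NonAbH1.IsLocallyTrivialFor Scheme.fpqcPrecoverage (Over.mk φ.left : Over Y.left) := by
    refine ⟨Presieve.singleton φ.left, φ.left.singleton_mem_fpqcPrecoverage, ?_⟩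
    rintro S' f ⟨⟩
    exact ⟨𝟙 _, Category.id_comp _⟩
  exact TorsorGeomQuot.isGeomQuot_of_torsor a φ hcart hloc hG

end Groth.Agent.Lib.Helper4.PrincipalBundle
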