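import Mathlib
import Groth.Agent.Lib.Helper4.AssocBundle2
import Groth.Agent.Lib.Helper4.DescSection
import Groth.Agent.Lib.Helper4.PrincipalBundle

/-!
# Associated bundles of Zariski-locally trivial principal bundles, arbitrary fibre (helper4)

* `exists_assocBundle_of_effective`: the associated bundle `q : X ⊗ F ⟶ Q` exists as soon as the descent datum `assocDD` is
  effective (the proof of `exists_assocBundle_of_fpqc` with the effectivity as a hypothesis).
* `exists_assocBundle_of_zariski`: it exists when the principal bundle `φ : X ⟶ Y` (flat, surjective, quasi-compact) has sections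
  Zariski-locally on `Y`; no hypothesis on the fibre `F`.
* `exists_principalBundleQuot_swap`: the same with the factors swapped (`F ⊗ X`), in the `GIT.PsiY` form (S18506).
-/

set_option autoImplicit false
set_option backward.isDefEq.respectTransparency false
set_option linter.style.haveILetI false
universe u
open CategoryTheory CategoryTheory.Limits MonoidalCategory CartesianMonoidalCategory MonObj GrpObj AlgebraicGeometry

namespace Groth.Agent.Lib.Helper4.AssocBundle

open AlgGrp.Action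

variable {S : Scheme.{u}} {G X Y F : Over S} [GrpObj G] (a : AlgGrp.Action G X) (b : AlgGrp.Action G F)
  (φ : X ⟶ Y) (hcart : IsPullback a.act (snd G X) φ φ)

include hcart in
/-- The associated bundle exists as soon as the descent datum `assocDD` is effective. -/
theorem exists_assocBundle_of_effective
    (heff : ∃ U : Over Y.left, Nonempty ((Desc.toDD φ.left).obj U ≅ assocDD a b φ hcart)) :
    ∃ (Q : Over S) (q : X ⊗ F ⟶ Q) (r : Q ⟶ Y),
      q ≫ r = fst X F ≫ φ ∧
      IsPullback (fst X F).left q.left φ.left r.left ∧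
      (a.prod b).act ≫ q = snd G (X ⊗ F) ≫ q ∧
      IsPullback (a.prod b).act (snd G (X ⊗ F)) q q := by
  obtain ⟨U, ⟨θ⟩⟩ := heff
  have hθ1 : θ.inv.hom.left ≫ θ.hom.hom.left = 𝟙 _ := congrArg (fun m => m.hom.left) θ.inv_hom_id
  have hθ2 : θ.hom.hom.left ≫ θ.inv.hom.left = 𝟙 _ := congrArg (fun m => m.hom.left) θ.hom_inv_id
  let i : (X ⊗ F).left ≅ pullback φ.left U.hom := ⟨θ.inv.hom.left, θ.hom.hom.left, hθ1, hθ2⟩
  have hi1 : θ.inv.hom.left ≫ pullback.fst φ.left U.hom = (fst X F).left := Over.w θ.inv.hom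
  let qL : (X ⊗ F).left ⟶ U.left := θ.inv.hom.left ≫ pullback.snd φ.left U.hom
  have hqU : qL ≫ U.hom = (fst X F).left ≫ φ.left := by
    rw [Category.assoc, ← pullback.condition, ← Category.assoc, hi1]
  have hstar : ∀ ⦃T : Scheme.{u}⦄ (x₀ x₁ : T ⟶ X.left) (h : x₀ ≫ φ.left = x₁ ≫ φ.left) (v : T ⟶ (X ⊗ F).left)
      (hv : v ≫ (fst X F).left = x₀), tw' a b φ hcart x₀ x₁ h v hv ≫ qL = v ≫ qL := by
    intro T x₀ x₁ h v hv
    have hw : (v ≫ θ.inv.hom.left) ≫ pullback.fst φ.left U.hom = x₀ := by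
      rw [Category.assoc, hi1, hv]
    have hc := θ.inv.comm x₀ x₁ h ⟨v, hv⟩ ⟨v ≫ θ.inv.hom.left, hw⟩ rfl
    have hc2 := congrArg (· ≫ pullback.snd φ.left U.hom) hc
    change pullback.lift _ _ _ ≫ pullback.snd φ.left U.hom = (tw' a b φ hcart x₀ x₁ h v hv ≫ θ.inv.hom.left) ≫
      pullback.snd φ.left U.hom at hc2
    rw [pullback.lift_snd] at hc2
    exact ((Category.assoc _ _ _).symm.trans hc2.symm).trans (Category.assoc _ _ _)
  have hstar' : ∀ {T : Over S} (x₀ x₁ : T ⟶ X) (h : x₀ ≫ φ = x₁ ≫ φ) (v : T ⟶ X ⊗ F) (hv : v ≫ fst X F = x₀),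
      (twO a b φ hcart x₀ x₁ h v).left ≫ qL = v.left ≫ qL := by
    intro T x₀ x₁ h v hv
    rw [twO_left_eq_tw]
    have e := hstar x₀.left x₁.left (congrArg Over.Hom.left h) v.left (congrArg Over.Hom.left hv)
    refine Eq.trans ?_ e
    exact congrArg (· ≫ qL) (tw_congr a b φ hcart _ _ _ _ (Over.w x₀).symm rfl rfl rfl)
  let Q : Over S := Over.mk (U.hom ≫ Y.hom)
  have hq : qL ≫ Q.hom = (X ⊗ F).hom := by
    change qL ≫ U.hom ≫ Y.hom = _
    rw [← Category.assoc, hqU, Category.assoc, Over.w φ, Over.w (fst X F)]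
  let q : X ⊗ F ⟶ Q := Over.homMk qL hq
  let r : Q ⟶ Y := Over.homMk U.hom rfl
  have hqr : q ≫ r = fst X F ≫ φ := Over.OverMorphism.ext hqU
  have sqA' : IsPullback (fst X F).left qL φ.left U.hom :=
    IsPullback.of_iso_pullback ⟨hqU.symm⟩ i hi1 rfl
  have sqA : IsPullback (fst X F) q φ r := IsPullback.of_map (Over.forget S) hqr.symm sqA'
  have hinv : (a.prod b).act ≫ q = snd G (X ⊗ F) ≫ q := by
    apply hom_ext_lift₂
    intro T g v
    rw [lift_snd_assoc, ← Category.assoc, ← twO_act a b φ hcart g v]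
    apply Over.OverMorphism.ext
    exact hstar' _ _ _ v rfl
  have sqB : IsPullback ((a.prod b).act ≫ fst X F) (snd G (X ⊗ F)) φ (q ≫ r) := by
    have e1 : (a.prod b).act ≫ fst X F = (G ◁ fst X F) ≫ a.act := by rw [prod_act, lift_fst]
    rw [e1, hqr]
    exact (isPullback_whiskerLeft_snd G (fst X F)).paste_horiz hcart
  have sqT : IsPullback (a.prod b).act (snd G (X ⊗ F)) q q := IsPullback.of_right sqB hinv sqA
  exact ⟨Q, q, r, hqr, sqA', hinv, sqT⟩

include hcart in
/-- The associated bundle of a Zariski-locally trivial principal bundle, arbitrary fibre. -/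
theorem exists_assocBundle_of_zariski [Flat φ.left] [Surjective φ.left] [QuasiCompact φ.left]
    (hzar : ∀ y : Y.left, ∃ (W : Y.left.Opens) (s : (W : Scheme.{u}) ⟶ X.left), y ∈ W ∧ s ≫ φ.left = W.ι) :
    ∃ (Q : Over S) (q : X ⊗ F ⟶ Q) (r : Q ⟶ Y),
      q ≫ r = fst X F ≫ φ ∧
      IsPullback (fst X F).left q.left φ.left r.left ∧
      (a.prod b).act ≫ q = snd G (X ⊗ F) ≫ q ∧
      IsPullback (a.prod b).act (snd G (X ⊗ F)) q q :=
  exists_assocBundle_of_effective a b φ hcart
    (DescSection.exists_iso_toDD_of_sections (assocDD a b φ hcart) hzar)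

section swap

variable {U B : Over S}

/-- The braiding is equivariant for the diagonal actions. -/
theorem prod_act_braiding (a : AlgGrp.Action G X) (b : AlgGrp.Action G U) :
    (a.prod b).act ≫ (β_ X U).hom = (G ◁ (β_ X U).hom) ≫ (b.prod a).act := by
  apply CartesianMonoidalCategory.hom_ext
  · rw [Category.assoc, braiding_hom_fst, prod_act, lift_snd, Category.assoc, prod_act, lift_fst,
      ← MonoidalCategory.whiskerLeft_comp_assoc, braiding_hom_fst]
  · rw [Category.assoc, braiding_hom_snd, prod_act, lift_fst, Category.assoc, prod_act, lift_snd,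
      ← MonoidalCategory.whiskerLeft_comp_assoc, braiding_hom_snd]

/-- **Principal bundle quotient of `X × U`** for a Zariski-locally trivial principal bundle `π : U ⟶ B` (S18506). -/
theorem exists_principalBundleQuot_swap (a : AlgGrp.Action G X) (b : AlgGrp.Action G U) (π : U ⟶ B)
    (hinv : GIT.IsInvariant b π) [Flat π.left] [Surjective π.left] [QuasiCompact π.left]
    (hcart : IsIso (GIT.PsiY b π hinv))
    (hzar : ∀ y : B.left, ∃ (W : B.left.Opens) (s : (W : Scheme.{u}) ⟶ U.left), y ∈ W ∧ s ≫ π.left = W.ι) :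
    ∃ (Q : Over S) (ρ : X ⊗ U ⟶ Q) (hρ : GIT.IsInvariant (a.prod b) ρ),
      Flat ρ.left ∧ Surjective ρ.left ∧ IsIso (GIT.PsiY (a.prod b) ρ hρ) := by
  have hcart' : IsPullback b.act (snd G U) π π := PrincipalBundle.isPullback_of_isIso_PsiY b π hinv hcart
  obtain ⟨Q, q, r, hqr, sqA', hinvq, sqT⟩ := exists_assocBundle_of_zariski b a π hcart' hzar
  have hbr := prod_act_braiding a b
  have hbr' : (b.prod a).act ≫ (β_ X U).inv = (G ◁ (β_ X U).inv) ≫ (a.prod b).act := by
    rw [← cancel_mono (β_ X U).hom, Category.assoc, Iso.inv_hom_id, Category.comp_id, Category.assoc, hbr,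
      ← MonoidalCategory.whiskerLeft_comp_assoc, Iso.inv_hom_id, MonoidalCategory.whiskerLeft_id, Category.id_comp]
  have hρ : GIT.IsInvariant (a.prod b) ((β_ X U).hom ≫ q) := by
    change (a.prod b).act ≫ (β_ X U).hom ≫ q = snd G (X ⊗ U) ≫ (β_ X U).hom ≫ q
    rw [← Category.assoc, hbr, Category.assoc, hinvq, ← Category.assoc, whiskerLeft_snd, Category.assoc]
  have sqT' : IsPullback (a.prod b).act (snd G (X ⊗ U)) ((β_ X U).hom ≫ q) ((β_ X U).hom ≫ q) := by
    refine IsPullback.of_iso sqT (whiskerLeftIso G (β_ X U).symm) (β_ X U).symm (β_ X U).symm (Iso.refl Q)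
      ?_ ?_ ?_ ?_
    · exact hbr'
    · change snd G (U ⊗ X) ≫ (β_ X U).inv = (G ◁ (β_ X U).inv) ≫ snd G (X ⊗ U)
      rw [whiskerLeft_snd]
    · change q ≫ 𝟙 Q = (β_ X U).inv ≫ (β_ X U).hom ≫ q
      rw [Category.comp_id, Iso.inv_hom_id_assoc]
    · change q ≫ 𝟙 Q = (β_ X U).inv ≫ (β_ X U).hom ≫ q
      rw [Category.comp_id, Iso.inv_hom_id_assoc]
  have hq1 : Flat q.left := MorphismProperty.of_isPullback sqA' (inferInstance : Flat π.left)
  have hq2 : Surjective q.left := MorphismProperty.of_isPullback sqA' (inferInstance : Surjective π.left)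
  have hi : IsIso (β_ X U).hom.left := inferInstanceAs (IsIso ((Over.forget S).map (β_ X U).hom))
  refine ⟨Q, (β_ X U).hom ≫ q, hρ, ?_, ?_, ?_⟩
  · rw [Over.comp_left]; infer_instance
  · rw [Over.comp_left]; infer_instance
  · have sqL := TorsorGeomQuot.isPullback_left (a.prod b) ((β_ X U).hom ≫ q) sqT'
    have : GIT.PsiY (a.prod b) ((β_ X U).hom ≫ q) hρ = sqL.isoPullback.hom := by
      apply pullback.hom_ext <;> simp [GIT.PsiY]
    rw [this]
    infer_instance

end swap

end Groth.Agent.Lib.Helper4.AssocBundle
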