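import Mathlib
import Groth.Agent.Lib.Helper4.ExactH1

/-!
# Sections of a quotient `F/G` and reductions of the structure group, abstractly (helper4)

In a cartesian monoidal category: `G` a group object acting on `F` by `b`, `π : F ⟶ Q` with the square
`(b, snd; π, π)` cartesian ("`Q = F/G` with `F ⟶ Q` a `G`-pseudo-torsor").

* `existsUnique_of_quot`: two points of `F` with the same image in `Q` differ by a unique point of `G`.
* `section_of_reduction`: a pseudo-torsor `E` under `G` with `E ⟶ 𝟙` a universally effective epimorphism and an equivariant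
  `φ : E ⟶ F` gives a unique section `σ` of `Q` with `toUnit E ≫ σ = φ ≫ π`, and `E` is the pullback of `π` along `σ`.
* `reduction_of_section`: the pullback of `π` along a section `σ` carries an action of `G` making it a pseudo-torsor and its
  inclusion into `F` equivariant.
-/

set_option autoImplicit false
set_option linter.unusedSectionVars false
universe v₁ u₁
open CategoryTheory MonoidalCategory CartesianMonoidalCategory MonObj GrpObj Limits

namespace Groth.Agent.Lib.Helper4.QuotSection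

open Groth.Agent.Lib.Helper4.ExactH1

variable {C : Type u₁} [Category.{v₁} C] [CartesianMonoidalCategory C]
variable {G F Q : C} [GrpObj G] (b : G ⊗ F ⟶ F) (π : F ⟶ Q)

omit [GrpObj G] in
theorem existsUnique_of_quot (hsq : IsPullback b (snd G F) π π) {T : C} (x y : T ⟶ F)
    (h : x ≫ π = y ≫ π) : ∃! g : T ⟶ G, lift g y ≫ b = x := by
  refine ⟨hsq.lift x y h ≫ fst G F, ?_, fun g hg => ?_⟩
  · have h1 : hsq.lift x y h = lift (hsq.lift x y h ≫ fst G F) y := by
      apply CartesianMonoidalCategory.hom_ext <;> simp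
    show lift (hsq.lift x y h ≫ fst G F) y ≫ b = x
    rw [← h1, hsq.lift_fst]
  · have : lift g y = hsq.lift x y h := by
      apply hsq.hom_ext
      · rw [hsq.lift_fst, hg]
      · rw [hsq.lift_snd, lift_snd]
    rw [← this, lift_fst]

theorem section_of_reduction (hone : (η[G] ▷ F) ≫ b = (λ_ F).hom)
    (hmul : (μ[G] ▷ F) ≫ b = (α_ G G F).hom ≫ (G ◁ b) ≫ b)
    (hsq : IsPullback b (snd G F) π π)
    {E : C} (aE : G ⊗ E ⟶ E) (honeE : (η[G] ▷ E) ≫ aE = (λ_ E).hom)
    [IsIso (lift aE (snd G E))] (hE : EffEpi E)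
    (φ : E ⟶ F) (hφ : aE ≫ φ = (G ◁ φ) ≫ b) :
    (∃! σ : 𝟙_ C ⟶ Q, toUnit E ≫ σ = φ ≫ π) ∧
      ∀ σ : 𝟙_ C ⟶ Q, toUnit E ≫ σ = φ ≫ π → IsPullback φ (toUnit E) π σ := by
  have hφpt : ∀ {T : C} (g : T ⟶ G) (e : T ⟶ E), (lift g e ≫ aE) ≫ φ = lift g (e ≫ φ) ≫ b := by
    intro T g e
    rw [Category.assoc, hφ, ← Category.assoc]
    congr 1
    apply CartesianMonoidalCategory.hom_ext <;> simp
  have hbπ : ∀ {T : C} (g : T ⟶ G) (x : T ⟶ F), (lift g x ≫ b) ≫ π = x ≫ π := by
    intro T g x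
    rw [Category.assoc, hsq.w, ← Category.assoc, lift_snd]
  -- `φ ≫ π` is constant
  have hconst : ∀ (W : C) (x₁ x₂ : W ⟶ E), x₁ ≫ φ ≫ π = x₂ ≫ φ ≫ π := by
    intro W x₁ x₂
    obtain ⟨g, hg, -⟩ := existsUnique_act aE x₁ x₂
    rw [← hg, ← Category.assoc, hφpt, hbπ, Category.assoc]
  -- `φ` is injective on points
  have hinj : ∀ {T : C} (e₁ e₂ : T ⟶ E), e₁ ≫ φ = e₂ ≫ φ → e₁ = e₂ := by
    intro T e₁ e₂ h
    obtain ⟨g, hg, -⟩ := existsUnique_act aE e₁ e₂
    have h1 : lift g (e₂ ≫ φ) ≫ b = e₂ ≫ φ := by rw [← hφpt, hg, h]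
    obtain ⟨g₀, _, huniq⟩ := existsUnique_of_quot b π hsq (e₂ ≫ φ) (e₂ ≫ φ) rfl
    have h2 : g = 1 := by rw [huniq g h1, huniq 1 (one_pt b hone _)]
    rw [← hg, h2, one_pt aE honeE]
  have hex : ∃! σ : 𝟙_ C ⟶ Q, toUnit E ≫ σ = φ ≫ π := by
    obtain ⟨σ, hσ, hσuniq⟩ := hE (𝟙_ C) Q (fst E (𝟙_ C) ≫ φ ≫ π) (fun W x₁ x₂ t => by
      simp only [lift_fst_assoc]
      exact hconst W x₁ x₂)
    have key : ∀ σ' : 𝟙_ C ⟶ Q, snd E (𝟙_ C) ≫ σ' = fst E (𝟙_ C) ≫ φ ≫ π ↔ toUnit E ≫ σ' = φ ≫ π := by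
      intro σ'
      constructor
      · intro h
        have := congrArg (fun k => lift (𝟙 E) (toUnit E) ≫ k) h
        simpa using this
      · intro h
        rw [← h, ← Category.assoc]
        congr 1
        exact toUnit_unique _ _
    exact ⟨σ, (key σ).1 hσ, fun σ' hσ' => hσuniq σ' ((key σ').2 hσ')⟩
  refine ⟨hex, fun σ hσ => ?_⟩
  have huniv : ∀ s : PullbackCone π σ, ∃ l : s.pt ⟶ E, l ≫ φ = s.fst ∧ l ≫ toUnit E = s.snd ∧
      ∀ {m : s.pt ⟶ E}, m ≫ φ = s.fst → m ≫ toUnit E = s.snd → m = l := by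
    intro s
    have hs : s.fst ≫ π = s.snd ≫ σ := s.condition
    have hx : (fst E s.pt ≫ φ) ≫ π = (snd E s.pt ≫ s.fst) ≫ π := by
      rw [Category.assoc, ← hσ, Category.assoc, hs, ← Category.assoc, ← Category.assoc]
      congr 1
      exact toUnit_unique _ _
    obtain ⟨g, hg, -⟩ := existsUnique_of_quot b π hsq (fst E s.pt ≫ φ) (snd E s.pt ≫ s.fst) hx
    have hm : (lift g⁻¹ (fst E s.pt) ≫ aE) ≫ φ = snd E s.pt ≫ s.fst := by
      rw [hφpt, ← hg, ← mul_pt b hmul, inv_mul_cancel, one_pt b hone]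
    obtain ⟨z, hz, -⟩ := hE s.pt E (lift g⁻¹ (fst E s.pt) ≫ aE) (fun W x₁ x₂ t => by
      apply hinj
      rw [Category.assoc, hm, Category.assoc, hm]
      simp)
    have := hE.epi_snd s.pt
    have hz1 : z ≫ φ = s.fst := by
      rw [← cancel_epi (snd E s.pt), ← Category.assoc, hz, hm]
    refine ⟨z, hz1, toUnit_unique _ _, fun {m'} hm1 _ => ?_⟩
    exact hinj _ _ (hm1.trans hz1.symm)
  exact ⟨⟨hσ.symm⟩, ⟨PullbackCone.isLimitAux' _ (fun s =>
    ⟨(huniv s).choose, (huniv s).choose_spec⟩)⟩⟩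

theorem reduction_of_section (hone : (η[G] ▷ F) ≫ b = (λ_ F).hom)
    (hmul : (μ[G] ▷ F) ≫ b = (α_ G G F).hom ≫ (G ◁ b) ≫ b)
    (hsq : IsPullback b (snd G F) π π) (σ : 𝟙_ C ⟶ Q)
    {E : C} (inc : E ⟶ F) (hE : IsPullback inc (toUnit E) π σ) :
    ∃ aE : G ⊗ E ⟶ E, (η[G] ▷ E) ≫ aE = (λ_ E).hom ∧
      (μ[G] ▷ E) ≫ aE = (α_ G G E).hom ≫ (G ◁ aE) ≫ aE ∧
      IsIso (lift aE (snd G E)) ∧ aE ≫ inc = (G ◁ inc) ≫ b := by
  have hincmono : ∀ {T : C} (x y : T ⟶ E), x ≫ inc = y ≫ inc → x = y := by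
    intro T x y hxy
    exact hE.hom_ext hxy (toUnit_unique _ _)
  have hincπ : ∀ {T : C} (e : T ⟶ E), (e ≫ inc) ≫ π = toUnit T ≫ σ := by
    intro T e
    rw [Category.assoc, hE.w, ← Category.assoc]
    congr 1
    exact toUnit_unique _ _
  have hcond : ((G ◁ inc) ≫ b) ≫ π = toUnit (G ⊗ E) ≫ σ := by
    rw [Category.assoc, hsq.w, ← Category.assoc, whiskerLeft_snd, hincπ]
  let aE : G ⊗ E ⟶ E := hE.lift ((G ◁ inc) ≫ b) (toUnit _) hcond
  have haE : aE ≫ inc = (G ◁ inc) ≫ b := hE.lift_fst _ _ _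
  have hpt : ∀ {T : C} (g : T ⟶ G) (e : T ⟶ E), (lift g e ≫ aE) ≫ inc = lift g (e ≫ inc) ≫ b := by
    intro T g e
    rw [Category.assoc, haE, ← Category.assoc]
    congr 1
    apply CartesianMonoidalCategory.hom_ext <;> simp
  refine ⟨aE, ?_, ?_, ?_, haE⟩
  · apply hincmono
    have e1 : (η[G] ▷ E) = lift (1 : 𝟙_ C ⊗ E ⟶ G) (snd (𝟙_ C) E) := by
      apply CartesianMonoidalCategory.hom_ext
      · simp only [whiskerRight_fst, lift_fst, Hom.one_def]
        congr 1
        exact toUnit_unique _ _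
      · simp
    rw [e1, hpt, one_pt b hone]
    rw [CartesianMonoidalCategory.leftUnitor_hom]
  · apply hincmono
    have e1 : (μ[G] ▷ E) = lift ((fst (G ⊗ G) E ≫ fst G G) * (fst (G ⊗ G) E ≫ snd G G))
        (snd (G ⊗ G) E) := by
      apply CartesianMonoidalCategory.hom_ext
      · simp only [whiskerRight_fst, lift_fst, Hom.mul_def]
        congr 1
        apply CartesianMonoidalCategory.hom_ext <;> simp
      · simp
    have e2 : (α_ G G E).hom ≫ (G ◁ aE) = lift (fst (G ⊗ G) E ≫ fst G G)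
        (lift (fst (G ⊗ G) E ≫ snd G G) (snd (G ⊗ G) E) ≫ aE) := by
      apply CartesianMonoidalCategory.hom_ext
      · simp
      · simp only [Category.assoc, whiskerLeft_snd, lift_snd]
        rw [← Category.assoc]
        congr 1
        apply CartesianMonoidalCategory.hom_ext <;> simp
    rw [e1, hpt, mul_pt b hmul, ← Category.assoc (α_ G G E).hom, e2, hpt, hpt]
  · apply isIso_of_yoneda_map_bijective
    intro T
    constructor
    · intro w w' hww
      dsimp only at hww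
      have hq : w ≫ snd G E = w' ≫ snd G E := by
        have := congrArg (fun k => k ≫ snd E E) hww
        simpa using this
      have ha : w ≫ aE = w' ≫ aE := by
        have := congrArg (fun k => k ≫ fst E E) hww
        simpa using this
      have ew : w = lift (w ≫ fst G E) (w ≫ snd G E) := by
        apply CartesianMonoidalCategory.hom_ext <;> simp
      have ew' : w' = lift (w' ≫ fst G E) (w ≫ snd G E) := by
        apply CartesianMonoidalCategory.hom_ext <;> simp [hq]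
      have h1 : lift (w ≫ fst G E) ((w ≫ snd G E) ≫ inc) ≫ b =
          lift (w' ≫ fst G E) ((w ≫ snd G E) ≫ inc) ≫ b := by
        rw [← hpt, ← hpt, ← ew, ← ew', ha]
      obtain ⟨g₀, _, huniq⟩ := existsUnique_of_quot b π hsq
        (lift (w ≫ fst G E) ((w ≫ snd G E) ≫ inc) ≫ b) ((w ≫ snd G E) ≫ inc) (by
          rw [Category.assoc, hsq.w, ← Category.assoc, lift_snd])
      have h2 : w ≫ fst G E = w' ≫ fst G E := by
        rw [huniq _ rfl, huniq _ h1.symm]
      rw [ew, ew', h2]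
    · intro t
      set q₁ := t ≫ fst E E with hq₁
      set q₂ := t ≫ snd E E with hq₂
      obtain ⟨g, hg, -⟩ := existsUnique_of_quot b π hsq (q₁ ≫ inc) (q₂ ≫ inc) (by
        rw [hincπ, hincπ])
      refine ⟨lift g q₂, ?_⟩
      dsimp only
      apply CartesianMonoidalCategory.hom_ext
      · simp only [Category.assoc, lift_fst]
        apply hincmono
        rw [hpt, hg]
      · simp [q₂]

end Groth.Agent.Lib.Helper4.QuotSection
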