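import Mathlib
import Groth.Prelude.Def_NonAbH2
import Groth.Prelude.Def_ActBC
import Groth.Prelude.Def_BigSite
import Groth.Agent.Lib.Helper4.QuotSection
import Groth.Agent.Lib.Helper4.SheafGlue

/-!
# Sections of `F/G` and reductions of the structure group of an étale torsor (helper4)

* `reduction_of_section`: a section `σ` of `Q = F/G` gives a `G`-torsor `E` (étale) with an equivariant `E ⟶ F`, `E = σ^* F`.
* `section_of_reduction`: conversely a reduction gives a unique section, and `E` is recovered as the pullback.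
-/

set_option autoImplicit false
set_option linter.style.haveILetI false
set_option backward.isDefEq.respectTransparency false
universe u
open CategoryTheory MonoidalCategory CartesianMonoidalCategory MonObj GrpObj AlgebraicGeometry
open CategoryTheory.Limits

namespace Groth.Agent.Lib.Helper4.QuotSectionSch

theorem isLocallyTrivialFor_mono {S : Scheme.{u}} {K K' : Precoverage Scheme.{u}} (h : K ≤ K')
    (X : Over S) (hX : NonAbH1.IsLocallyTrivialFor K X) : NonAbH1.IsLocallyTrivialFor K' X := by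
  obtain ⟨R, hR, hsec⟩ := hX
  exact ⟨R, h S hR, hsec⟩

/-- Local triviality of the pullback of `π : F ⟶ Q` along a section `σ` of `Q`. -/
theorem isLocallyTrivialFor_pullback_section {S : Scheme.{u}} (K : Precoverage Scheme.{u})
    [K.IsStableUnderBaseChange] {F Q E : Over S} (π : F ⟶ Q)
    (hloc : NonAbH1.IsLocallyTrivialFor K (Over.mk π.left : Over Q.left))
    (σ : 𝟙_ (Over S) ⟶ Q) (inc : E ⟶ F) (hE : IsPullback inc (toUnit E) π σ) :
    NonAbH1.IsLocallyTrivialFor K E := by
  obtain ⟨Rv, hRv, hsecv⟩ := hloc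
  obtain ⟨𝒱, rfl⟩ := Rv.exists_eq_preZeroHypercover
  choose s hs using fun k => hsecv (𝒱.f k) (Presieve.ofArrows.mk k)
  have hs' : ∀ k, s k ≫ π.left = 𝒱.f k := hs
  have hσ : σ.left ≫ Q.hom = 𝟙 S := by
    have := Over.w σ
    exact this
  have hmem : Presieve.ofArrows (fun k => pullback σ.left (𝒱.f k))
      (fun k => pullback.fst σ.left (𝒱.f k)) ∈ K S :=
    Precoverage.mem_coverings_of_isPullback 𝒱.f hRv σ.left _
      (fun k => pullback.snd σ.left (𝒱.f k)) (fun k => IsPullback.of_hasPullback σ.left (𝒱.f k))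
  refine ⟨_, hmem, ?_⟩
  rintro S' f ⟨k⟩
  let W : Over S := Over.mk (pullback.fst σ.left (𝒱.f k))
  have hcond : pullback.fst σ.left (𝒱.f k) ≫ σ.left = pullback.snd σ.left (𝒱.f k) ≫ 𝒱.f k :=
    pullback.condition
  let pW : W ⟶ F := Over.homMk (pullback.snd σ.left (𝒱.f k) ≫ s k) (by
    change (pullback.snd σ.left (𝒱.f k) ≫ s k) ≫ F.hom = pullback.fst σ.left (𝒱.f k)
    rw [← Over.w π, Category.assoc, ← Category.assoc (s k), hs', ← Category.assoc, ← hcond,
      Category.assoc, hσ]
    exact Category.comp_id _)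
  have hpW : pW ≫ π = toUnit W ≫ σ := by
    ext
    change (pullback.snd σ.left (𝒱.f k) ≫ s k) ≫ π.left = (toUnit W).left ≫ σ.left
    rw [Category.assoc, hs', ← hcond]
    congr 1
  let q : W ⟶ E := hE.lift pW (toUnit W) hpW
  exact ⟨q.left, Over.w q⟩

theorem reduction_of_section
    {S : Scheme.{u}} {G H F Q : Over S} [GrpObj G] [GrpObj H]
    (i : G ⟶ H) [IsMonHom i]
    (aF : AlgGrp.Action H F)
    (π : F ⟶ Q)
    (hsq : IsPullback (aF.restrict i).act (snd G F) π π)
    (hloc : NonAbH1.IsLocallyTrivialFor Scheme.etalePrecoverage (Over.mk π.left : Over Q.left))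
    (σ : 𝟙_ (Over S) ⟶ Q) :
    ∃ (E : Over S) (aE : AlgGrp.Action G E) (φ : E ⟶ F),
      NonAbH1.IsTorsorFor Scheme.etalePrecoverage aE ∧
      AlgGrp.Action.IsEquivariant aE (aF.restrict i) φ ∧
      IsPullback φ (toUnit E) π σ := by
  have hE : IsPullback (pullback.fst π σ) (toUnit (pullback π σ)) π σ := by
    have h0 := IsPullback.of_hasPullback π σ
    have : pullback.snd π σ = toUnit (pullback π σ) := toUnit_unique _ _
    rwa [this] at h0
  obtain ⟨aE, h1, h2, h3, h4⟩ := QuotSection.reduction_of_section (aF.restrict i).act π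
    (aF.restrict i).one_act (aF.restrict i).mul_act hsq σ (pullback.fst π σ) hE
  refine ⟨pullback π σ, ⟨aE, h1, h2⟩, pullback.fst π σ, ⟨h3, ?_⟩, h4, hE⟩
  exact isLocallyTrivialFor_pullback_section Scheme.etalePrecoverage π hloc σ (pullback.fst π σ) hE

theorem section_of_reduction
    {S : Scheme.{u}} {G H F Q : Over S} [GrpObj G] [GrpObj H]
    (i : G ⟶ H) [IsMonHom i]
    (aF : AlgGrp.Action H F)
    (π : F ⟶ Q)
    (hsq : IsPullback (aF.restrict i).act (snd G F) π π)
    {E : Over S} (aE : AlgGrp.Action G E) (hE : NonAbH1.IsTorsorFor Scheme.etalePrecoverage aE)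
    (φ : E ⟶ F) (hφ : AlgGrp.Action.IsEquivariant aE (aF.restrict i) φ) :
    (∃! σ : 𝟙_ (Over S) ⟶ Q, toUnit E ≫ σ = φ ≫ π) ∧
      ∀ σ : 𝟙_ (Over S) ⟶ Q, toUnit E ≫ σ = φ ≫ π → IsPullback φ (toUnit E) π σ := by
  haveI : IsIso (lift aE.act (snd G E)) := hE.1
  have hEff := SheafGlue.effEpi_of_isLocallyTrivialFor E
    (isLocallyTrivialFor_mono (BigSite.etalePrecoverage_le_fppfPrecoverage.trans
      Scheme.fppfPrecoverage_le_fpqcPrecoverage) E hE.2)
  exact QuotSection.section_of_reduction (aF.restrict i).act π (aF.restrict i).one_act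
    (aF.restrict i).mul_act hsq aE.act aE.one_act hEff φ hφ

end Groth.Agent.Lib.Helper4.QuotSectionSch
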