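import Mathlib
import Groth.Prelude.Def_NonAbH2
import Groth.Prelude.Def_AlgSt5
import Groth.Agent.Lib.Helper4.SheafGlue
import Groth.Agent.Lib.Helper4.TorsorGeomQuot

/-!
# Descent of morphisms along a morphism of `S`-schemes with fpqc-local sections (helper4)

For `j : A ⟶ Y` in `Over S` such that `j` acquires sections on the members of an fpqc covering family of `Y`:

* `existsUnique_desc`: a morphism `m : A ⟶ W` over `S` which is constant on the fibres of `j` (on points) factors uniquely through `j`.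
* `epi_of_isLocallyTrivialFor`: `j` is an epimorphism of `Over S`.
* `isLocallyTrivialFor_whiskerLeft`, `epi_whiskerLeft`: the same for `G ◁ j : G ⊗ A ⟶ G ⊗ Y`.
-/

set_option autoImplicit false
universe u
open CategoryTheory CategoryTheory.Limits MonoidalCategory CartesianMonoidalCategory AlgebraicGeometry

namespace Groth.Agent.Lib.Helper4.TorsorDesc

variable {S : Scheme.{u}} {A Y W : Over S} (j : A ⟶ Y)

/-- Descent of a morphism constant on the fibres of `j`. -/
theorem existsUnique_desc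
    (hloc : NonAbH1.IsLocallyTrivialFor Scheme.fpqcPrecoverage (Over.mk j.left : Over Y.left))
    (m : A ⟶ W) (hm : ∀ (T : Over S) (x₁ x₂ : T ⟶ A), x₁ ≫ j = x₂ ≫ j → x₁ ≫ m = x₂ ≫ m) :
    ∃! m' : Y ⟶ W, j ≫ m' = m := by
  obtain ⟨R, hR, hsec⟩ := hloc
  obtain ⟨𝒰, rfl⟩ := R.exists_eq_preZeroHypercover
  choose σ hσ using fun i => hsec (𝒰.f i) (Presieve.ofArrows.mk i)
  have hσ' : ∀ i, σ i ≫ j.left = 𝒰.f i := hσ
  have hA : A.hom = j.left ≫ Y.hom := (Over.w j).symm
  have hmS : ∀ {W' : Over S} (m : A ⟶ W')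
      (hm : ∀ (T : Over S) (x₁ x₂ : T ⟶ A), x₁ ≫ j = x₂ ≫ j → x₁ ≫ m = x₂ ≫ m)
      (V : Scheme.{u}) (x₁ x₂ : V ⟶ A.left), x₁ ≫ j.left = x₂ ≫ j.left →
      x₁ ≫ m.left = x₂ ≫ m.left := by
    intro W' m hm V x₁ x₂ hx
    have h2 : x₂ ≫ A.hom = x₁ ≫ A.hom := by
      rw [hA, ← Category.assoc, ← hx, Category.assoc]
    have := hm (Over.mk (x₁ ≫ A.hom)) (Over.homMk x₁ rfl) (Over.homMk x₂ h2)
      (Over.OverMorphism.ext hx)
    exact congrArg (fun a => a.left) this
  obtain ⟨z₀, hz₀, huniq⟩ := SheafGlue.existsUnique_desc_of_sections j.left 𝒰.X 𝒰.f hR σ hσ' m.left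
    (hmS m hm)
  have hz₀S : z₀ ≫ W.hom = Y.hom := by
    obtain ⟨y, _, hy⟩ := SheafGlue.existsUnique_desc_of_sections (Z := S) j.left 𝒰.X 𝒰.f hR σ hσ' A.hom (by
      intro V x₁ x₂ hx
      rw [hA, ← Category.assoc, hx, Category.assoc])
    have h1 : j.left ≫ z₀ ≫ W.hom = A.hom := by rw [← Category.assoc, hz₀]; exact Over.w m
    rw [hy (z₀ ≫ W.hom) h1, hy Y.hom hA.symm]
  refine ⟨Over.homMk z₀ hz₀S, Over.OverMorphism.ext hz₀, fun z' hz' => ?_⟩
  apply Over.OverMorphism.ext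
  exact huniq z'.left (congrArg (fun a => a.left) hz')

/-- A morphism with fpqc-local sections is an epimorphism of `Over S`. -/
theorem epi_of_isLocallyTrivialFor
    (hloc : NonAbH1.IsLocallyTrivialFor Scheme.fpqcPrecoverage (Over.mk j.left : Over Y.left)) : Epi j := by
  refine ⟨fun {W} z₁ z₂ h => ?_⟩
  obtain ⟨z, _, huniq⟩ := existsUnique_desc j hloc (j ≫ z₁) (fun T x₁ x₂ hx => by
    rw [← Category.assoc, hx, Category.assoc])
  rw [huniq z₁ rfl, huniq z₂ h.symm]

/-- Base change of local sections to `G ⊗ -`. -/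
theorem isLocallyTrivialFor_whiskerLeft (G : Over S) (K : Precoverage Scheme.{u}) [K.IsStableUnderBaseChange]
    (hloc : NonAbH1.IsLocallyTrivialFor K (Over.mk j.left : Over Y.left)) :
    NonAbH1.IsLocallyTrivialFor K (Over.mk (G ◁ j).left : Over (G ⊗ Y).left) := by
  have sq : IsPullback (G ◁ j).left (snd G A).left (snd G Y).left j.left :=
    (AlgSt.isPullback_whiskerLeft (G := G) j).map (Over.forget S)
  exact TorsorGeomQuot.isLocallyTrivialFor_of_isPullback K sq hloc

theorem epi_whiskerLeft (G : Over S)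
    (hloc : NonAbH1.IsLocallyTrivialFor Scheme.fpqcPrecoverage (Over.mk j.left : Over Y.left)) : Epi (G ◁ j) :=
  epi_of_isLocallyTrivialFor (G ◁ j) (isLocallyTrivialFor_whiskerLeft j G _ hloc)

end Groth.Agent.Lib.Helper4.TorsorDesc
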