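import Mathlib
import Groth.Prelude.Def_ChGrp
import Groth.Prelude.Def_W4bk4git07Quot
import Groth.Agent.Lib.Helper4.TorsorDesc
import Groth.Agent.Lib.Helper4.QuotSectionSch

/-!
# Balanced products `G ×^H Z` in torsor form (helper4)

For `j : G ⊗ Z ⟶ Y` making `Y` the balanced product of `Z` along `i : H ⟶ G` (`ChGrp.IsBalProd`):

* `equivariant_pts`, `invariant_pts`, `exists_of_eq`: points forms of the three conditions.
* `catQuot_iso`: categorical quotients `Z ⟶ P` by `H` and `Y ⟶ Q` by `G` are canonically isomorphic (`Y // G ≅ Z // H`).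
-/

set_option autoImplicit false
universe u
open CategoryTheory CategoryTheory.Limits MonoidalCategory CartesianMonoidalCategory MonObj GrpObj AlgebraicGeometry

namespace Groth.Agent.Lib.Helper4.BalProd

variable {S : Scheme.{u}} {G H Z Y : Over S} [GrpObj G] [GrpObj H] (i : H ⟶ G) [IsMonHom i]
  (aZ : AlgGrp.Action H Z) (aY : AlgGrp.Action G Y) (j : G ⊗ Z ⟶ Y)

theorem pts₂ {C : Type*} [Category C] [CartesianMonoidalCategory C] {T A B : C} (z : T ⟶ A ⊗ B) :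
    z = lift (z ≫ fst A B) (z ≫ snd A B) := by
  apply CartesianMonoidalCategory.hom_ext
  · rw [lift_fst]
  · rw [lift_snd]

omit [GrpObj H] in
/-- Equivariance on points: `j (g' g, z) = g' • j (g, z)`. -/
theorem equivariant_pts
    (heq : AlgGrp.Action.IsEquivariant ((NonAbH1.trivialAction G).prod (AlgGrp.Action.trivial G Z)) aY j)
    {T : Over S} (g' g : T ⟶ G) (z : T ⟶ Z) :
    lift (g' * g) z ≫ j = lift g' (lift g z ≫ j) ≫ aY.act := by
  have h : ((NonAbH1.trivialAction G).prod (AlgGrp.Action.trivial G Z)).act ≫ j = (G ◁ j) ≫ aY.act := heq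
  have e : lift g' g ≫ (NonAbH1.trivialAction G).act = g' * g := (Hom.mul_def g' g).symm
  have h1 := congrArg (fun m => lift g' (lift g z) ≫ m) h
  rw [← Category.assoc, AlgGrp.Action.lift_prod_act, AlgGrp.Action.lift_trivial_act, e,
    lift_whiskerLeft_assoc] at h1
  exact h1

/-- Invariance on points: `j (g i(h)⁻¹, h • z) = j (g, z)`. -/
theorem invariant_pts (hw : (ChGrp.twist i aZ).act ≫ j = snd H (G ⊗ Z) ≫ j) {T : Over S} (h : T ⟶ H) (g : T ⟶ G)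
    (z : T ⟶ Z) : lift (g * (h ≫ i)⁻¹) (lift h z ≫ aZ.act) ≫ j = lift g z ≫ j := by
  have h1 := congrArg (fun m => lift h (lift g z) ≫ m) hw
  rwa [← Category.assoc, ChGrp.lift_twist_act, lift_snd_assoc] at h1

/-- Two points with the same image differ by a point of `H`. -/
theorem exists_of_eq (hcart : IsPullback (ChGrp.twist i aZ).act (snd H (G ⊗ Z)) j j) {T : Over S}
    (x₁ x₂ : T ⟶ G ⊗ Z) (hx : x₁ ≫ j = x₂ ≫ j) :
    ∃ h : T ⟶ H, lift h x₂ ≫ (ChGrp.twist i aZ).act = x₁ := by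
  refine ⟨hcart.lift x₁ x₂ hx ≫ fst _ _, ?_⟩
  have e : lift (hcart.lift x₁ x₂ hx ≫ fst _ _) x₂ = hcart.lift x₁ x₂ hx := by
    apply CartesianMonoidalCategory.hom_ext
    · rw [lift_fst]
    · rw [lift_snd, hcart.lift_snd]
  rw [e, hcart.lift_fst]

/-- `Y // G ≅ Z // H` for a balanced product `Y = G ×^H Z`. -/
theorem catQuot_iso (hY : ChGrp.IsBalProd Scheme.fppfPrecoverage i aZ aY j) {P Q : Over S}
    (πZ : Z ⟶ P) (hP : GIT.IsCatQuot aZ πZ) (πY : Y ⟶ Q) (hQ : GIT.IsCatQuot aY πY) :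
    ∃ (φ : P ⟶ Q) (χ : Q ⟶ P), φ ≫ χ = 𝟙 P ∧ χ ≫ φ = 𝟙 Q ∧
      πZ ≫ φ = lift (toUnit Z ≫ η[G]) (𝟙 Z) ≫ j ≫ πY ∧ j ≫ πY ≫ χ = snd G Z ≫ πZ := by
  obtain ⟨heq, hcart, hloc⟩ := hY
  have hloc' : NonAbH1.IsLocallyTrivialFor Scheme.fpqcPrecoverage (Over.mk j.left : Over Y.left) :=
    QuotSectionSch.isLocallyTrivialFor_mono Scheme.fppfPrecoverage_le_fpqcPrecoverage _ hloc
  have hepi : Epi j := TorsorDesc.epi_of_isLocallyTrivialFor j hloc'
  have hinvY : ∀ {T : Over S} (g : T ⟶ G) (y : T ⟶ Y), (lift g y ≫ aY.act) ≫ πY = y ≫ πY := by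
    intro T g y
    have h : aY.act ≫ πY = snd G Y ≫ πY := hQ.1
    rw [Category.assoc, h, lift_snd_assoc]
  have hinvZ : ∀ {T : Over S} (h : T ⟶ H) (z : T ⟶ Z), (lift h z ≫ aZ.act) ≫ πZ = z ≫ πZ := by
    intro T h z
    have h' : aZ.act ≫ πZ = snd H Z ≫ πZ := hP.1
    rw [Category.assoc, h', lift_snd_assoc]
  have hsec : ∀ {T W : Over S} (x : T ⟶ Z) (r : G ⊗ Z ⟶ W),
      x ≫ lift (toUnit Z ≫ η[G]) (𝟙 Z) ≫ r = lift (1 : T ⟶ G) x ≫ r := by
    intro T W x r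
    rw [← Category.assoc, comp_lift, Category.comp_id, ← Category.assoc, Hom.one_def,
      toUnit_unique (x ≫ toUnit Z) (toUnit T)]
  have hkey : ∀ {T : Over S} (g : T ⟶ G) (z : T ⟶ Z), lift g z ≫ j ≫ πY = lift (1 : T ⟶ G) z ≫ j ≫ πY := by
    intro T g z
    have h1 := equivariant_pts aY j heq g 1 z
    rw [_root_.mul_one] at h1
    rw [← Category.assoc, h1, hinvY, Category.assoc]
  have hm₁ : GIT.IsInvariant aZ (lift (toUnit Z ≫ η[G]) (𝟙 Z) ≫ j ≫ πY) := by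
    apply AlgGrp.Action.hom_ext_lift₂
    intro T h z
    have L : lift h z ≫ aZ.act ≫ lift (toUnit Z ≫ η[G]) (𝟙 Z) ≫ j ≫ πY =
        lift (1 : T ⟶ G) (lift h z ≫ aZ.act) ≫ j ≫ πY := by rw [← Category.assoc, hsec]
    have R : lift h z ≫ snd H Z ≫ lift (toUnit Z ≫ η[G]) (𝟙 Z) ≫ j ≫ πY = lift (1 : T ⟶ G) z ≫ j ≫ πY := by
      rw [lift_snd_assoc, hsec]
    rw [L, R]
    have h2 := invariant_pts i aZ j hcart.w h (h ≫ i) z
    rw [mul_inv_cancel] at h2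
    rw [← Category.assoc, h2, Category.assoc, hkey]
  obtain ⟨φ, hφ, -⟩ := hP.2 Q _ hm₁
  have hm₂ : ∀ (T : Over S) (x₁ x₂ : T ⟶ G ⊗ Z), x₁ ≫ j = x₂ ≫ j →
      x₁ ≫ snd G Z ≫ πZ = x₂ ≫ snd G Z ≫ πZ := by
    intro T x₁ x₂ hx
    obtain ⟨h, rfl⟩ := exists_of_eq i aZ j hcart x₁ x₂ hx
    have e : lift h x₂ = lift h (lift (x₂ ≫ fst G Z) (x₂ ≫ snd G Z)) := by rw [← pts₂]
    rw [e, Category.assoc, ChGrp.lift_twist_act_assoc, lift_snd_assoc, hinvZ, Category.assoc]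
  obtain ⟨m₂', hm₂', -⟩ := TorsorDesc.existsUnique_desc j hloc' (snd G Z ≫ πZ) hm₂
  have hinv₂ : GIT.IsInvariant aY m₂' := by
    have : Epi (G ◁ j) := TorsorDesc.epi_whiskerLeft j G hloc'
    show aY.act ≫ m₂' = snd G Y ≫ m₂'
    rw [← cancel_epi (G ◁ j)]
    have h : ((NonAbH1.trivialAction G).prod (AlgGrp.Action.trivial G Z)).act ≫ j = (G ◁ j) ≫ aY.act := heq
    rw [← Category.assoc, ← h, Category.assoc, hm₂', whiskerLeft_snd_assoc, hm₂']
    simp only [AlgGrp.Action.prod_act, lift_snd_assoc, AlgGrp.Action.trivial_act, whiskerLeft_snd_assoc,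
      Category.assoc]
  obtain ⟨χ, hχ, -⟩ := hQ.2 P m₂' hinv₂
  refine ⟨φ, χ, ?_, ?_, hφ, ?_⟩
  · obtain ⟨ξ, _, hξ⟩ := hP.2 P πZ hP.1
    have h1 : πZ ≫ φ ≫ χ = πZ := by
      rw [← Category.assoc, hφ, Category.assoc, Category.assoc, hχ, hm₂', ← Category.assoc, lift_snd,
        Category.id_comp]
    exact (hξ _ h1).trans (hξ _ (Category.comp_id _)).symm
  · obtain ⟨ξ, _, hξ⟩ := hQ.2 Q πY hQ.1
    have h1 : πY ≫ χ ≫ φ = πY := by
      rw [← Category.assoc, hχ, ← cancel_epi j, ← Category.assoc, hm₂', Category.assoc, hφ]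
      apply AlgGrp.Action.hom_ext_lift₂
      intro T g z
      rw [lift_snd_assoc, hsec]
      exact (hkey g z).symm
    exact (hξ _ h1).trans (hξ _ (Category.comp_id _)).symm
  · rw [hχ, hm₂']

end Groth.Agent.Lib.Helper4.BalProd
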