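import Mathlib
import Groth.Prelude.Def_ChGrp
import Groth.Agent.Lib.Helper4.TorsorDesc
import Groth.Agent.Lib.Helper4.TorsorGeomQuot

/-!
# Monomorphisms out of quotients by locally trivial maps (helper4)

* `isLocallyTrivialFor_pullback_fst`: the base change `T ×_Y A ⟶ T` of a `K`-locally trivial `j : A ⟶ Y` (in `Over S`) is
  `K`-locally trivial.
* `mono_of_inj_on_cover`: if `j' : A ⟶ Y'` has sections fpqc-locally and `m : Y' ⟶ Y` is injective on the points of `Y'` that
  come from `A`, then `m` is a monomorphism.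
-/

set_option autoImplicit false
universe u
open CategoryTheory CategoryTheory.Limits MonoidalCategory CartesianMonoidalCategory MonObj AlgebraicGeometry

namespace Groth.Agent.Lib.Helper4.BalProdFix

variable {S : Scheme.{u}}

theorem isLocallyTrivialFor_pullback_fst {A Y T : Over S} (y : T ⟶ Y) (j : A ⟶ Y) (K : Precoverage Scheme.{u})
    [K.IsStableUnderBaseChange] (hloc : NonAbH1.IsLocallyTrivialFor K (Over.mk j.left : Over Y.left)) :
    NonAbH1.IsLocallyTrivialFor K (Over.mk (pullback.fst y j).left : Over T.left) :=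
  TorsorGeomQuot.isLocallyTrivialFor_of_isPullback K ((IsPullback.of_hasPullback y j).map (Over.forget S)) hloc

theorem mono_of_inj_on_cover {A Y' Y : Over S} (j' : A ⟶ Y')
    (hloc : NonAbH1.IsLocallyTrivialFor Scheme.fpqcPrecoverage (Over.mk j'.left : Over Y'.left)) (m : Y' ⟶ Y)
    (h : ∀ (T : Over S) (p₁ p₂ : T ⟶ A), (p₁ ≫ j') ≫ m = (p₂ ≫ j') ≫ m → p₁ ≫ j' = p₂ ≫ j') : Mono m := by
  refine ⟨fun {T} y₁ y₂ he => ?_⟩
  have hπ₁ : Epi (pullback.fst y₁ j') :=
    TorsorDesc.epi_of_isLocallyTrivialFor _ (isLocallyTrivialFor_pullback_fst y₁ j' _ hloc)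
  have hπ₂ : Epi (pullback.fst (pullback.fst y₁ j' ≫ y₂) j') :=
    TorsorDesc.epi_of_isLocallyTrivialFor _ (isLocallyTrivialFor_pullback_fst _ j' _ hloc)
  rw [← cancel_epi (pullback.fst y₁ j'), ← cancel_epi (pullback.fst (pullback.fst y₁ j' ≫ y₂) j')]
  have c₁ : pullback.fst y₁ j' ≫ y₁ = pullback.snd y₁ j' ≫ j' := pullback.condition
  have c₂ : pullback.fst (pullback.fst y₁ j' ≫ y₂) j' ≫ pullback.fst y₁ j' ≫ y₂ =
      pullback.snd (pullback.fst y₁ j' ≫ y₂) j' ≫ j' := pullback.condition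
  rw [c₁, c₂, ← Category.assoc]
  apply h
  have c₁' : pullback.snd y₁ j' ≫ j' ≫ m = pullback.fst y₁ j' ≫ y₂ ≫ m := by
    rw [← Category.assoc, ← c₁, Category.assoc, he]
  have c₂' : pullback.snd (pullback.fst y₁ j' ≫ y₂) j' ≫ j' ≫ m =
      pullback.fst (pullback.fst y₁ j' ≫ y₂) j' ≫ pullback.fst y₁ j' ≫ y₂ ≫ m := by
    rw [← Category.assoc, ← c₂, Category.assoc, Category.assoc]
  simp only [Category.assoc]
  rw [c₁', c₂']

end Groth.Agent.Lib.Helper4.BalProdFix
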