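import Mathlib
import Groth.Prelude.Def_ChGrp
import Groth.Agent.Lib.Helper4.BalProd

/-!
# Invariant subobjects of a balanced product are balanced products (helper4)

`exists_sub`: for `Y = G ×^H Z` (through `j`, `ChGrp.IsBalProd K`) and a `G`-equivariant monomorphism `c : Y' ⟶ Y`, the fibre product
`Z' = Z ×_Y Y'` (along `z ↦ j (e, z)`) is an `H`-stable subobject of `Z` and `Y' = G ×^H Z'` through `(g, z') ↦ g • z'`.
-/

set_option autoImplicit false
universe u
open CategoryTheory CategoryTheory.Limits MonoidalCategory CartesianMonoidalCategory MonObj GrpObj AlgebraicGeometry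

namespace Groth.Agent.Lib.Helper4.BalProd

variable {S : Scheme.{u}} {G H Z Y : Over S} [GrpObj G] [GrpObj H] (i : H ⟶ G) [IsMonHom i]
  (aZ : AlgGrp.Action H Z) (aY : AlgGrp.Action G Y) (j : G ⊗ Z ⟶ Y)

omit [GrpObj G] in
/-- An action restricts to a subobject stable under it. -/
theorem exists_action_of_mono {Z' : Over S} (c' : Z' ⟶ Z) [Mono c'] (act' : H ⊗ Z' ⟶ Z')
    (h : act' ≫ c' = (H ◁ c') ≫ aZ.act) : ∃ aZ' : AlgGrp.Action H Z', aZ'.act = act' := by
  have hp : ∀ {T : Over S} (g : T ⟶ H) (z : T ⟶ Z'), lift g z ≫ act' ≫ c' = lift g (z ≫ c') ≫ aZ.act := by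
    intro T g z
    rw [h, lift_whiskerLeft_assoc]
  refine ⟨⟨act', ?_, ?_⟩, rfl⟩
  · rw [← cancel_mono c']
    apply AlgGrp.Action.hom_ext_lift₂
    intro T e z
    have he : e ≫ η[H] = 1 := by rw [Hom.one_def, toUnit_unique (toUnit T) e]
    simp only [Category.assoc]
    rw [lift_whiskerRight_assoc, he, hp, AlgGrp.Action.lift_one_act, leftUnitor_hom, lift_snd_assoc]
  · rw [← cancel_mono c']
    apply AlgGrp.Action.hom_ext_lift₃
    intro T g g' z
    simp only [Category.assoc]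
    rw [lift_whiskerRight_assoc, ← Hom.mul_def, hp, AlgGrp.Action.lift_mul_act,
      lift_lift_associator_hom_assoc, lift_whiskerLeft_assoc, hp, Category.assoc, hp]

theorem mono_whiskerLeft {C : Type*} [Category C] [CartesianMonoidalCategory C] (A : C) {B B' : C} (f : B' ⟶ B)
    [Mono f] : Mono (A ◁ f) := by
  refine ⟨fun {W} a b hab => ?_⟩
  apply CartesianMonoidalCategory.hom_ext
  · have := congrArg (fun m => m ≫ fst A B) hab
    simpa only [Category.assoc, whiskerLeft_fst] using this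
  · have := congrArg (fun m => m ≫ snd A B) hab
    simp only [Category.assoc, whiskerLeft_snd] at this
    rw [← cancel_mono f]
    simpa only [Category.assoc] using this

/-- **Invariant subobjects of a balanced product.** -/
theorem exists_sub (K : Precoverage Scheme.{u}) [K.IsStableUnderBaseChange] (hY : ChGrp.IsBalProd K i aZ aY j)
    {Y' : Over S} (c : Y' ⟶ Y) [Mono c] (aY' : AlgGrp.Action G Y') (hc : AlgGrp.Action.IsEquivariant aY' aY c) :
    ∃ (Z' : Over S) (c' : Z' ⟶ Z) (s' : Z' ⟶ Y') (aZ' : AlgGrp.Action H Z') (j' : G ⊗ Z' ⟶ Y'),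
      IsPullback c' s' (lift (toUnit Z ≫ η[G]) (𝟙 Z) ≫ j) c ∧ AlgGrp.Action.IsEquivariant aZ' aZ c' ∧
      j' ≫ c = (G ◁ c') ≫ j ∧ ChGrp.IsBalProd K i aZ' aY' j' := by
  obtain ⟨heq, hcart, hloc⟩ := hY
  -- points forms
  have hE : ∀ {T : Over S} (g' g : T ⟶ G) (z : T ⟶ Z), lift (g' * g) z ≫ j = lift g' (lift g z ≫ j) ≫ aY.act :=
    fun g' g z => equivariant_pts aY j heq g' g z
  have hC : ∀ {T : Over S} (g : T ⟶ G) (y : T ⟶ Y'), (lift g y ≫ aY'.act) ≫ c = lift g (y ≫ c) ≫ aY.act := by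
    intro T g y
    have h : aY'.act ≫ c = (G ◁ c) ≫ aY.act := hc
    rw [Category.assoc, h, lift_whiskerLeft_assoc]
  have hsec : ∀ {T : Over S} (x : T ⟶ Z), x ≫ lift (toUnit Z ≫ η[G]) (𝟙 Z) ≫ j = lift (1 : T ⟶ G) x ≫ j := by
    intro T x
    rw [← Category.assoc, comp_lift, Category.comp_id, ← Category.assoc, Hom.one_def,
      toUnit_unique (x ≫ toUnit Z) (toUnit T)]
  -- the subobject
  let sec : Z ⟶ Y := lift (toUnit Z ≫ η[G]) (𝟙 Z) ≫ j
  let c' : pullback sec c ⟶ Z := pullback.fst sec c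
  let s' : pullback sec c ⟶ Y' := pullback.snd sec c
  have hcond : ∀ {T : Over S} (z' : T ⟶ pullback sec c), (z' ≫ s') ≫ c = lift (1 : T ⟶ G) (z' ≫ c') ≫ j := by
    intro T z'
    rw [Category.assoc, ← pullback.condition, ← hsec]
    rfl
  -- the action on it
  have hcompat : ((H ◁ c') ≫ aZ.act) ≫ sec = ((i ⊗ₘ s') ≫ aY'.act) ≫ c := by
    apply AlgGrp.Action.hom_ext_lift₂
    intro T h z'
    have h2 := invariant_pts i aZ j hcart.w h (h ≫ i) (z' ≫ c')
    rw [mul_inv_cancel] at h2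
    have h3 := hE (h ≫ i) 1 (z' ≫ c')
    rw [_root_.mul_one] at h3
    calc lift h z' ≫ ((H ◁ c') ≫ aZ.act) ≫ sec
        = (lift h (z' ≫ c') ≫ aZ.act) ≫ lift (toUnit Z ≫ η[G]) (𝟙 Z) ≫ j := by
          rw [← Category.assoc, lift_whiskerLeft_assoc]
      _ = lift (h ≫ i) (lift (1 : T ⟶ G) (z' ≫ c') ≫ j) ≫ aY.act := by rw [hsec, h2, h3]
      _ = lift h z' ≫ ((i ⊗ₘ s') ≫ aY'.act) ≫ c := by
          rw [← Category.assoc, ← Category.assoc, lift_map, hC, hcond]
  obtain ⟨aZ', haZ'⟩ := exists_action_of_mono aZ c' (pullback.lift _ _ hcompat) (pullback.lift_fst _ _ _)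
  have haZ'c : aZ'.act ≫ c' = (H ◁ c') ≫ aZ.act := by rw [haZ']; exact pullback.lift_fst _ _ _
  have haZ's : aZ'.act ≫ s' = (i ⊗ₘ s') ≫ aY'.act := by rw [haZ']; exact pullback.lift_snd _ _ _
  have hZc : ∀ {T : Over S} (h : T ⟶ H) (z' : T ⟶ pullback sec c),
      (lift h z' ≫ aZ'.act) ≫ c' = lift h (z' ≫ c') ≫ aZ.act := by
    intro T h z'
    rw [Category.assoc, haZ'c, lift_whiskerLeft_assoc]
  -- the map `j'`
  let gm : G ⊗ pullback sec c ⟶ G ⊗ Z := G ◁ c'
  have hgmmono : Mono gm := mono_whiskerLeft G c'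
  let j' : G ⊗ pullback sec c ⟶ Y' := (G ◁ s') ≫ aY'.act
  have hj' : ∀ {T : Over S} (g : T ⟶ G) (z' : T ⟶ pullback sec c), lift g z' ≫ j' = lift g (z' ≫ s') ≫ aY'.act := by
    intro T g z'
    exact lift_whiskerLeft_assoc _ _ _ _
  have hj'c : j' ≫ c = gm ≫ j := by
    apply AlgGrp.Action.hom_ext_lift₂
    intro T g z'
    have h3 := hE g 1 (z' ≫ c')
    rw [_root_.mul_one] at h3
    rw [← Category.assoc, hj', hC, hcond, ← h3, ← Category.assoc]
    congr 1
    exact (lift_whiskerLeft _ _ _).symm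
  have hgm : ∀ {T : Over S} (g : T ⟶ G) (z' : T ⟶ pullback sec c), lift g z' ≫ gm = lift g (z' ≫ c') :=
    fun g z' => lift_whiskerLeft _ _ _
  -- equivariance of `gm` for the twisted actions
  have htw : (H ◁ gm) ≫ (ChGrp.twist i aZ).act = (ChGrp.twist i aZ').act ≫ gm := by
    apply AlgGrp.Action.hom_ext_lift₂
    intro T h x'
    rw [pts₂ x', lift_whiskerLeft_assoc, hgm, ChGrp.lift_twist_act, ChGrp.lift_twist_act_assoc, hgm, hZc]
  have hw : (ChGrp.twist i aZ').act ≫ j' = snd H (G ⊗ pullback sec c) ≫ j' := by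
    rw [← cancel_mono c, Category.assoc, hj'c, ← Category.assoc, ← htw, Category.assoc, hcart.w,
      whiskerLeft_snd_assoc, Category.assoc, hj'c]
  -- the cartesian square `Y' ×_Y (G ⊗ Z) = G ⊗ Z'`
  have hsq : IsPullback j' gm c j := by
    refine ⟨⟨hj'c⟩, ⟨PullbackCone.IsLimit.mk _
      (fun s => lift (s.snd ≫ fst G Z) (pullback.lift (s.snd ≫ snd G Z)
        (lift (s.snd ≫ fst G Z)⁻¹ s.fst ≫ aY'.act) (by
          have h4 := hE (s.snd ≫ fst G Z)⁻¹ (s.snd ≫ fst G Z) (s.snd ≫ snd G Z)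
          rw [inv_mul_cancel, ← pts₂] at h4
          change (s.snd ≫ snd G Z) ≫ lift (toUnit Z ≫ η[G]) (𝟙 Z) ≫ j = _
          rw [hsec, h4, hC, s.condition]))) ?_ ?_ ?_⟩⟩
    · intro s
      rw [hj', pullback.lift_snd, ← AlgGrp.Action.lift_mul_act, mul_inv_cancel, AlgGrp.Action.lift_one_act]
    · intro s
      rw [hgm, pullback.lift_fst, ← pts₂]
    · intro s m h1 h2
      rw [← cancel_mono gm, h2, hgm, pullback.lift_fst, ← pts₂]
  refine ⟨pullback sec c, c', s', aZ', j', IsPullback.of_hasPullback sec c, haZ'c, hj'c, ?_, ?_, ?_⟩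
  · -- equivariance of `j'`
    show ((NonAbH1.trivialAction G).prod (AlgGrp.Action.trivial G (pullback sec c))).act ≫ j' = (G ◁ j') ≫ aY'.act
    apply AlgGrp.Action.hom_ext_lift₂
    intro T g' x'
    have e : lift g' (x' ≫ fst _ _) ≫ (NonAbH1.trivialAction G).act = g' * (x' ≫ fst _ _) := (Hom.mul_def _ _).symm
    rw [pts₂ x', ← Category.assoc, AlgGrp.Action.lift_prod_act, AlgGrp.Action.lift_trivial_act, e, hj',
      lift_whiskerLeft_assoc, hj', AlgGrp.Action.lift_mul_act]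
  · -- the torsor square
    have hcomp : ∀ s : PullbackCone j' j', (s.fst ≫ gm) ≫ j = (s.snd ≫ gm) ≫ j := fun s => by
      rw [Category.assoc, Category.assoc, ← hj'c]
      exact (Category.assoc _ _ _).symm.trans ((congrArg (· ≫ c) s.condition).trans (Category.assoc _ _ _))
    refine ⟨⟨hw⟩, ⟨PullbackCone.IsLimit.mk _
      (fun s => lift (hcart.lift (s.fst ≫ gm) (s.snd ≫ gm) (hcomp s) ≫
        fst H (G ⊗ Z)) s.snd) ?_ ?_ ?_⟩⟩
    · intro s
      rw [← cancel_mono gm, Category.assoc, ← htw, lift_whiskerLeft_assoc]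
      have e : lift (hcart.lift (s.fst ≫ gm) (s.snd ≫ gm) (hcomp s) ≫
            fst H (G ⊗ Z)) (s.snd ≫ gm) = hcart.lift (s.fst ≫ gm) (s.snd ≫ gm) (hcomp s) := by
        apply CartesianMonoidalCategory.hom_ext
        · rw [lift_fst]
        · rw [lift_snd, hcart.lift_snd]
      rw [e, hcart.lift_fst]
    · intro s
      exact lift_snd _ _
    · intro s m h1 h2
      have e : hcart.lift (s.fst ≫ gm) (s.snd ≫ gm) (hcomp s) =
          m ≫ (H ◁ gm) := by
        apply hcart.hom_ext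
        · rw [hcart.lift_fst, Category.assoc, htw, ← Category.assoc, h1]
        · rw [hcart.lift_snd, Category.assoc, whiskerLeft_snd, ← Category.assoc, h2]
      apply CartesianMonoidalCategory.hom_ext
      · rw [lift_fst, e, Category.assoc, whiskerLeft_fst]
      · rw [lift_snd, h2]
  · -- local sections
    exact TorsorGeomQuot.isLocallyTrivialFor_of_isPullback K (hsq.map (Over.forget S)) hloc

end Groth.Agent.Lib.Helper4.BalProd
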