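import Mathlib
import Groth.Prelude.Def_NonAbH2
import Groth.Prelude.Def_ActBC
import Groth.Agent.Lib.Helper4.QuotSection

/-!
# Composition of torsors (helper4)

* `isPullback_comp` (abstract, cartesian monoidal category): if `φ₁ : X ⟶ Y` is an `N`-pseudo-torsor over `Y` for the restricted
  action of `N = ker (q : G ⟶ Q)`, `φ₂ : Y ⟶ Z` a `Q`-pseudo-torsor, `φ₁` equivariant along `q`, and `q` has a section on
  points through `iH : H ⟶ G` (`iH ≫ q` an isomorphism), then `φ₁ ≫ φ₂` is a `G`-pseudo-torsor.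
* `isLocallyTrivialFor_comp`: composites of morphisms of schemes which have sections locally for a precoverage `K`
  (stable under base change and composition) have sections `K`-locally.
-/

set_option autoImplicit false
set_option linter.style.haveILetI false
set_option linter.unusedSectionVars false
set_option backward.isDefEq.respectTransparency false
universe v₁ u₁ u
open CategoryTheory MonoidalCategory CartesianMonoidalCategory MonObj GrpObj AlgebraicGeometry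
open CategoryTheory.Limits

namespace Groth.Agent.Lib.Helper4.TorsorCompose

open Groth.Agent.Lib.Helper4.ExactH1 Groth.Agent.Lib.Helper4.QuotSection

section Abstract

variable {C : Type u₁} [Category.{v₁} C] [CartesianMonoidalCategory C]
variable {G N Q H X Y Z : C} [GrpObj G] [GrpObj N] [GrpObj Q] [GrpObj H]

theorem isPullback_comp (iN : N ⟶ G) [IsMonHom iN] (q : G ⟶ Q) [IsMonHom q]
    (hker : IsPullback iN (toUnit N) q η[Q]) (iH : H ⟶ G) [IsIso (iH ≫ q)]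
    (a : G ⊗ X ⟶ X) (hone : (η[G] ▷ X) ≫ a = (λ_ X).hom)
    (hmul : (μ[G] ▷ X) ≫ a = (α_ G G X).hom ≫ (G ◁ a) ≫ a)
    (φ₁ : X ⟶ Y) (h₁ : IsPullback ((iN ▷ X) ≫ a) (snd N X) φ₁ φ₁)
    (aY : Q ⊗ Y ⟶ Y) (hequiv : (q ⊗ₘ φ₁) ≫ aY = a ≫ φ₁)
    (φ₂ : Y ⟶ Z) (h₂ : IsPullback aY (snd Q Y) φ₂ φ₂) :
    IsPullback a (snd G X) (φ₁ ≫ φ₂) (φ₁ ≫ φ₂) := by
  have hpt : ∀ {T : C} (g : T ⟶ G) (x : T ⟶ X), (lift g x ≫ a) ≫ φ₁ = lift (g ≫ q) (x ≫ φ₁) ≫ aY := by
    intro T g x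
    rw [Category.assoc, ← hequiv, ← Category.assoc]
    congr 1
    apply CartesianMonoidalCategory.hom_ext <;> simp
  have hNpt : ∀ {T : C} (n : T ⟶ N) (x : T ⟶ X), lift n x ≫ (iN ▷ X) ≫ a = lift (n ≫ iN) x ≫ a := by
    intro T n x
    rw [← Category.assoc]
    congr 1
    apply CartesianMonoidalCategory.hom_ext <;> simp
  have hYφ₂ : ∀ {T : C} (c : T ⟶ Q) (y : T ⟶ Y), (lift c y ≫ aY) ≫ φ₂ = y ≫ φ₂ := by
    intro T c y
    rw [Category.assoc, h₂.w, ← Category.assoc, lift_snd]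
  have hw : a ≫ φ₁ ≫ φ₂ = snd G X ≫ φ₁ ≫ φ₂ := by
    rw [← Category.assoc, ← hequiv, Category.assoc, h₂.w, ← Category.assoc, tensorHom_snd, Category.assoc]
  -- the points statement
  have key : ∀ {T : C} (x y : T ⟶ X), x ≫ φ₁ ≫ φ₂ = y ≫ φ₁ ≫ φ₂ → ∃! g : T ⟶ G, lift g y ≫ a = x := by
    intro T x y hxy
    obtain ⟨c, hc, -⟩ := existsUnique_of_quot aY φ₂ h₂ (x ≫ φ₁) (y ≫ φ₁) (by
      rw [Category.assoc, Category.assoc, hxy])
    set g₁ : T ⟶ G := (c ≫ inv (iH ≫ q)) ≫ iH with hg₁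
    have hg₁q : g₁ ≫ q = c := by
      rw [hg₁, Category.assoc, Category.assoc, IsIso.inv_hom_id, Category.comp_id]
    have h1 : x ≫ φ₁ = (lift g₁ y ≫ a) ≫ φ₁ := by rw [hpt, hg₁q, hc]
    obtain ⟨n, hn, -⟩ := existsUnique_of_quot _ φ₁ h₁ x (lift g₁ y ≫ a) h1
    rw [hNpt] at hn
    refine ⟨(n ≫ iN) * g₁, ?_, fun g' hg' => ?_⟩
    · show lift ((n ≫ iN) * g₁) y ≫ a = x
      rw [mul_pt a hmul, hn]
    · -- uniqueness
      have hg0 : lift ((n ≫ iN) * g₁) y ≫ a = x := by rw [mul_pt a hmul, hn]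
      set g := (n ≫ iN) * g₁ with hg
      have hq : g' ≫ q = g ≫ q := by
        obtain ⟨c₀, _, huniq⟩ := existsUnique_of_quot aY φ₂ h₂ (x ≫ φ₁) (y ≫ φ₁) (by
          rw [Category.assoc, Category.assoc, hxy])
        have e1 : lift (g' ≫ q) (y ≫ φ₁) ≫ aY = x ≫ φ₁ := by rw [← hpt, hg']
        have e2 : lift (g ≫ q) (y ≫ φ₁) ≫ aY = x ≫ φ₁ := by rw [← hpt, hg0]
        rw [huniq (g' ≫ q) e1, huniq (g ≫ q) e2]
      have hq1 : (g' * g⁻¹) ≫ q = toUnit T ≫ η[Q] := by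
        rw [MonObj.mul_comp, GrpObj.inv_comp, hq, mul_inv_cancel, Hom.one_def]
      set m : T ⟶ N := hker.lift (g' * g⁻¹) (toUnit T) hq1 with hm
      have hm1 : m ≫ iN = g' * g⁻¹ := hker.lift_fst _ _ _
      have h2 : lift (m ≫ iN) x ≫ a = x := by
        rw [hm1]
        conv_lhs => rw [← hg0]
        rw [← mul_pt a hmul, inv_mul_cancel_right, hg']
      obtain ⟨m₀, _, huniq⟩ := existsUnique_of_quot _ φ₁ h₁ x x rfl
      have h3 : m = 1 := by
        have e1 : lift m x ≫ (iN ▷ X) ≫ a = x := by rw [hNpt, h2]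
        have e2 : lift (1 : T ⟶ N) x ≫ (iN ▷ X) ≫ a = x := by
          rw [hNpt, MonObj.one_comp, one_pt a hone]
        rw [huniq m e1, huniq 1 e2]
      have h4 : g' * g⁻¹ = 1 := by rw [← hm1, h3, MonObj.one_comp]
      exact mul_inv_eq_one.mp h4
  have huniv : ∀ s : PullbackCone (φ₁ ≫ φ₂) (φ₁ ≫ φ₂), ∃ l : s.pt ⟶ G ⊗ X, l ≫ a = s.fst ∧
      l ≫ snd G X = s.snd ∧ ∀ {m : s.pt ⟶ G ⊗ X}, m ≫ a = s.fst → m ≫ snd G X = s.snd → m = l := by
    intro s
    obtain ⟨g, hg, huniq⟩ := key s.fst s.snd s.condition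
    refine ⟨lift g s.snd, hg, lift_snd _ _, fun {m} hm1 hm2 => ?_⟩
    have em : m = lift (m ≫ fst G X) s.snd := by
      apply CartesianMonoidalCategory.hom_ext <;> simp [hm2]
    have := huniq (m ≫ fst G X) (by
      show lift (m ≫ fst G X) s.snd ≫ a = s.fst
      rw [← em, hm1])
    rw [em, this]
  exact ⟨⟨hw⟩, ⟨PullbackCone.isLimitAux' _ (fun s =>
    ⟨(huniv s).choose, (huniv s).choose_spec⟩)⟩⟩

end Abstract

/-- Composites of morphisms with sections `K`-locally have sections `K`-locally. -/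
theorem isLocallyTrivialFor_comp (K : Precoverage Scheme.{u}) [K.IsStableUnderBaseChange]
    [K.IsStableUnderComposition] {X Y Z : Scheme.{u}} (f : X ⟶ Y) (g : Y ⟶ Z)
    (hf : NonAbH1.IsLocallyTrivialFor K (Over.mk f)) (hg : NonAbH1.IsLocallyTrivialFor K (Over.mk g)) :
    NonAbH1.IsLocallyTrivialFor K (Over.mk (f ≫ g)) := by
  obtain ⟨Rf, hRf, hsecf⟩ := hf
  obtain ⟨Rg, hRg, hsecg⟩ := hg
  obtain ⟨𝒰, rfl⟩ := Rf.exists_eq_preZeroHypercover
  obtain ⟨𝒱, rfl⟩ := Rg.exists_eq_preZeroHypercover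
  choose s hs using fun i => hsecf (𝒰.f i) (Presieve.ofArrows.mk i)
  choose t ht using fun k => hsecg (𝒱.f k) (Presieve.ofArrows.mk k)
  have hs' : ∀ i, s i ≫ f = 𝒰.f i := hs
  have ht' : ∀ k, t k ≫ g = 𝒱.f k := ht
  have hmem : Presieve.ofArrows (fun p : Σ _ : 𝒱.I₀, 𝒰.I₀ => pullback (t p.1) (𝒰.f p.2))
      (fun p => pullback.fst (t p.1) (𝒰.f p.2) ≫ 𝒱.f p.1) ∈ K Z :=
    Precoverage.comp_mem_coverings (J := K) 𝒱.f hRg
      (σ := fun _ => 𝒰.I₀) (Y := fun k i => pullback (t k) (𝒰.f i))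
      (fun k i => pullback.fst (t k) (𝒰.f i))
      (fun k => Precoverage.mem_coverings_of_isPullback 𝒰.f hRf (t k) _
        (fun i => pullback.snd (t k) (𝒰.f i)) (fun i => IsPullback.of_hasPullback (t k) (𝒰.f i)))
  refine ⟨_, hmem, ?_⟩
  rintro S' f' ⟨⟨k, i⟩⟩
  refine ⟨pullback.snd (t k) (𝒰.f i) ≫ s i, ?_⟩
  change (pullback.snd (t k) (𝒰.f i) ≫ s i) ≫ f ≫ g = pullback.fst (t k) (𝒰.f i) ≫ 𝒱.f k
  rw [Category.assoc, ← Category.assoc (s i), hs', ← Category.assoc, ← pullback.condition,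
    Category.assoc, ht']

end Groth.Agent.Lib.Helper4.TorsorCompose
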