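import Mathlib
import Groth.Prelude.Def_ChGrp
import Groth.Prelude.Def_AlgSt5
import Groth.Agent.Lib.Helper4.BalProd
import Groth.Agent.Lib.Helper4.ActPts4
import Groth.Agent.Lib.Helper4.BalProdFix
import Groth.Agent.Lib.Helper4.TorsorCompose

/-!
# Quotient stacks of balanced products, part 1: the torsor `E ×_Y Z` (helper4)

For a balanced product `j : G ⊗ Z ⟶ Y` (`ChGrp.IsBalProd`) and an object `(E ⟶ T, ψ : E ⟶ Y)` of `[Y/G]`, the fibre product
`P = E ×_Y Z` along `iz : z ↦ j (1, z)` carries an action of `H`, `h • (e, z) = (i(h) • e, h • z)`, making it an `H`-torsor over `T`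
with the equivariant map `P ⟶ Z`: an object of `[Z/H]`.
-/

set_option autoImplicit false
universe u
open CategoryTheory CategoryTheory.Limits MonoidalCategory CartesianMonoidalCategory MonObj GrpObj AlgebraicGeometry

namespace Groth.Agent.Lib.Helper4.BalQuot

open Groth.Agent.Lib.Helper4.BalProd Groth.Agent.Lib.Helper4.ActPts4

variable {S : Scheme.{u}} {G H Z Y : Over S} [GrpObj G] [GrpObj H] (i : H ⟶ G) [IsMonHom i]
  (aZ : AlgGrp.Action H Z) (aY : AlgGrp.Action G Y) (j : G ⊗ Z ⟶ Y)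

/-- `z ↦ j (1, z)` -/
noncomputable def iz : Z ⟶ Y := lift (toUnit Z ≫ η[G]) (𝟙 Z) ≫ j

omit [GrpObj H] in
theorem comp_iz {T : Over S} (z : T ⟶ Z) : z ≫ iz j = lift (1 : T ⟶ G) z ≫ j := by
  rw [iz, ← Category.assoc, comp_lift, Category.comp_id, ← Category.assoc, Hom.one_def,
    toUnit_unique (z ≫ toUnit Z) (toUnit T)]

omit [GrpObj H] in
/-- `g • iz z = j (g, z)` -/
theorem act_iz
    (heq : AlgGrp.Action.IsEquivariant ((NonAbH1.trivialAction G).prod (AlgGrp.Action.trivial G Z)) aY j)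
    {T : Over S} (g : T ⟶ G) (z : T ⟶ Z) : lift g (z ≫ iz j) ≫ aY.act = lift g z ≫ j := by
  have h := equivariant_pts aY j heq g 1 z
  rw [_root_.mul_one] at h
  rw [comp_iz, ← h]

/-- `iz (h • z) = i(h) • iz z` -/
theorem iz_act
    (heq : AlgGrp.Action.IsEquivariant ((NonAbH1.trivialAction G).prod (AlgGrp.Action.trivial G Z)) aY j)
    (hw : (ChGrp.twist i aZ).act ≫ j = snd H (G ⊗ Z) ≫ j) {T : Over S} (h : T ⟶ H) (z : T ⟶ Z) :
    (lift h z ≫ aZ.act) ≫ iz j = lift (h ≫ i) (z ≫ iz j) ≫ aY.act := by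
  rw [act_iz aY j heq, comp_iz]
  have h2 := invariant_pts i aZ j hw h (h ≫ i) z
  rw [mul_inv_cancel] at h2
  exact h2

/-- if `iz z₁ = g • iz z₂` then `g = i(h)` and `z₁ = h • z₂` for some `h` -/
theorem exists_of_iz_eq
    (heq : AlgGrp.Action.IsEquivariant ((NonAbH1.trivialAction G).prod (AlgGrp.Action.trivial G Z)) aY j)
    (hcart : IsPullback (ChGrp.twist i aZ).act (snd H (G ⊗ Z)) j j) {T : Over S} (g : T ⟶ G) (z₁ z₂ : T ⟶ Z)
    (h : z₁ ≫ iz j = lift g (z₂ ≫ iz j) ≫ aY.act) :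
    ∃ h' : T ⟶ H, g = h' ≫ i ∧ z₁ = lift h' z₂ ≫ aZ.act := by
  rw [act_iz aY j heq, comp_iz] at h
  obtain ⟨h', hh'⟩ := exists_of_eq i aZ j hcart (lift 1 z₁) (lift g z₂) h
  rw [ChGrp.lift_twist_act] at hh'
  have h1 := congrArg (fun m => m ≫ fst G Z) hh'
  have h2 := congrArg (fun m => m ≫ snd G Z) hh'
  simp only [lift_fst, lift_snd] at h1 h2
  exact ⟨h', mul_inv_eq_one.mp h1, h2.symm⟩

/-- uniqueness of the element of `H` -/
theorem eq_of_i_eq (hcart : IsPullback (ChGrp.twist i aZ).act (snd H (G ⊗ Z)) j j) {T : Over S}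
    (h h' : T ⟶ H) (z : T ⟶ Z) (h1 : h ≫ i = h' ≫ i) (h2 : lift h z ≫ aZ.act = lift h' z ≫ aZ.act) : h = h' := by
  have e : lift h (lift (1 : T ⟶ G) z) = lift h' (lift (1 : T ⟶ G) z) := by
    apply hcart.hom_ext
    · rw [ChGrp.lift_twist_act, ChGrp.lift_twist_act, h1, h2]
    · rw [lift_snd, lift_snd]
  have := congrArg (fun m => m ≫ fst H (G ⊗ Z)) e
  simpa only [lift_fst] using this

variable {i aZ aY}
variable {K : Precoverage Scheme.{u}} (hY : ChGrp.IsBalProd K i aZ aY j) (A : AlgSt.QuotObj K G aY)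

/-- the total space `E ×_Y Z` -/
noncomputable abbrev PP : Over S := Limits.pullback A.φ (iz j)

/-- the projection to `E` -/
noncomputable abbrev p₁ : PP j A ⟶ A.P := Limits.pullback.fst A.φ (iz j)

/-- the projection to `Z` -/
noncomputable abbrev p₂ : PP j A ⟶ Z := Limits.pullback.snd A.φ (iz j)

omit [GrpObj H] in
theorem p_cond : p₁ j A ≫ A.φ = p₂ j A ≫ iz j := Limits.pullback.condition

omit [GrpObj H] in
theorem pt_ext {T : Over S} {p q : T ⟶ PP j A} (h1 : p ≫ p₁ j A = q ≫ p₁ j A) (h2 : p ≫ p₂ j A = q ≫ p₂ j A) :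
    p = q := Limits.pullback.hom_ext h1 h2

include hY in
theorem actP_cond :
    (lift (fst H (PP j A) ≫ i) (snd H (PP j A) ≫ p₁ j A) ≫ A.act.act) ≫ A.φ =
      ((H ◁ p₂ j A) ≫ aZ.act) ≫ iz j := by
  apply AlgGrp.Action.hom_ext_lift₂
  intro T h p
  simp only [Category.assoc]
  rw [A.eqv, comp_lift_assoc, lift_fst_assoc, lift_snd_assoc, lift_whiskerLeft_assoc, Category.assoc, p_cond,
    lift_whiskerLeft_assoc, ← Category.assoc (lift h (p ≫ p₂ j A)), iz_act i aZ aY j hY.1 hY.2.1.w, Category.assoc]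

/-- the action morphism `h • (e, z) = (i(h) • e, h • z)` -/
noncomputable def actP : H ⊗ PP j A ⟶ PP j A :=
  Limits.pullback.lift (lift (fst H (PP j A) ≫ i) (snd H (PP j A) ≫ p₁ j A) ≫ A.act.act) ((H ◁ p₂ j A) ≫ aZ.act)
    (actP_cond j hY A)

theorem lift_actP_p₁ {T : Over S} (h : T ⟶ H) (p : T ⟶ PP j A) :
    (lift h p ≫ actP j hY A) ≫ p₁ j A = lift (h ≫ i) (p ≫ p₁ j A) ≫ A.act.act := by
  rw [actP, Category.assoc, Limits.pullback.lift_fst, comp_lift_assoc, lift_fst_assoc, lift_snd_assoc]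

theorem lift_actP_p₂ {T : Over S} (h : T ⟶ H) (p : T ⟶ PP j A) :
    (lift h p ≫ actP j hY A) ≫ p₂ j A = lift h (p ≫ p₂ j A) ≫ aZ.act := by
  rw [actP, Category.assoc, Limits.pullback.lift_snd, lift_whiskerLeft_assoc]

/-- the action of `H` on `E ×_Y Z` -/
noncomputable def aP : AlgGrp.Action H (PP j A) where
  act := actP j hY A
  one_act := by
    apply AlgGrp.Action.hom_ext_lift₂
    intro T e p
    have he : e ≫ η[H] = 1 := by rw [Hom.one_def, toUnit_unique (toUnit T) e]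
    rw [lift_whiskerRight_assoc, he, leftUnitor_hom, lift_snd]
    apply pt_ext
    · rw [lift_actP_p₁, MonObj.one_comp, AlgGrp.Action.lift_one_act]
    · rw [lift_actP_p₂, AlgGrp.Action.lift_one_act]
  mul_act := by
    apply AlgGrp.Action.hom_ext_lift₃
    intro T h h' p
    rw [lift_whiskerRight_assoc, ← Hom.mul_def, lift_lift_associator_hom_assoc, lift_whiskerLeft_assoc]
    apply pt_ext
    · rw [lift_actP_p₁, lift_actP_p₁, lift_actP_p₁, MonObj.mul_comp, AlgGrp.Action.lift_mul_act]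
    · rw [lift_actP_p₂, lift_actP_p₂, lift_actP_p₂, AlgGrp.Action.lift_mul_act]

@[simp] theorem aP_act : (aP j hY A).act = actP j hY A := rfl

/-- the structure map to the base -/
noncomputable abbrev πP : PP j A ⟶ A.base := p₁ j A ≫ A.π

omit [GrpObj H] in
theorem act_π {T : Over S} (g : T ⟶ G) (e : T ⟶ A.P) : (lift g e ≫ A.act.act) ≫ A.π = e ≫ A.π := by
  rw [Category.assoc, A.cart.w, lift_snd_assoc]

omit [GrpObj H] in
theorem lift_act_φ {T : Over S} (g : T ⟶ G) (e : T ⟶ A.P) :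
    (lift g e ≫ A.act.act) ≫ A.φ = lift g (e ≫ A.φ) ≫ aY.act := by
  rw [Category.assoc, A.eqv, lift_whiskerLeft_assoc]

omit [GrpObj H] in
theorem exists_act {T : Over S} (e₁ e₂ : T ⟶ A.P) (h : e₁ ≫ A.π = e₂ ≫ A.π) :
    ∃ g : T ⟶ G, lift g e₂ ≫ A.act.act = e₁ := by
  refine ⟨A.cart.lift e₁ e₂ h ≫ fst G A.P, ?_⟩
  have e : lift (A.cart.lift e₁ e₂ h ≫ fst G A.P) e₂ = A.cart.lift e₁ e₂ h := by
    apply CartesianMonoidalCategory.hom_ext
    · rw [lift_fst]
    · rw [lift_snd, A.cart.lift_snd]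
  rw [e, A.cart.lift_fst]

omit [GrpObj H] in
theorem act_inj {T : Over S} (g g' : T ⟶ G) (e : T ⟶ A.P) (h : lift g e ≫ A.act.act = lift g' e ≫ A.act.act) :
    g = g' := by
  have e' : lift g e = lift g' e := by
    apply A.cart.hom_ext
    · exact h
    · rw [lift_snd, lift_snd]
  have := congrArg (fun k => k ≫ fst G A.P) e'
  simpa only [lift_fst] using this

/-- the pseudo-torsor square -/
theorem cartP : IsPullback (actP j hY A) (snd H (PP j A)) (πP j A) (πP j A) := by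
  refine isPullback_of_pts ?_ ?_ ?_
  · apply AlgGrp.Action.hom_ext_lift₂
    intro T h p
    rw [← Category.assoc, ← Category.assoc, lift_actP_p₁, act_π, lift_snd_assoc, Category.assoc]
  · intro T s t hst
    have h0 : (s ≫ p₁ j A) ≫ A.π = (t ≫ p₁ j A) ≫ A.π := by simpa only [Category.assoc] using hst
    obtain ⟨g, hg⟩ := exists_act A _ _ h0
    have h1 : (s ≫ p₂ j A) ≫ iz j = lift g ((t ≫ p₂ j A) ≫ iz j) ≫ aY.act := by
      rw [Category.assoc, ← p_cond, ← Category.assoc, ← hg, lift_act_φ, Category.assoc, Category.assoc, p_cond]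
    obtain ⟨h', hg', hz⟩ := exists_of_iz_eq i aZ aY j hY.1 hY.2.1 g _ _ h1
    refine ⟨lift h' t, ?_, lift_snd _ _⟩
    apply pt_ext
    · rw [lift_actP_p₁, ← hg', hg]
    · rw [lift_actP_p₂, ← hz]
  · intro T l l' h1 h2
    obtain ⟨h, p, rfl⟩ := exists_lift₂ l
    obtain ⟨h', p', rfl⟩ := exists_lift₂ l'
    rw [lift_snd, lift_snd] at h2
    subst h2
    have e1 := congrArg (fun m => m ≫ p₁ j A) h1
    have e2 := congrArg (fun m => m ≫ p₂ j A) h1
    simp only [lift_actP_p₁, lift_actP_p₂] at e1 e2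
    have e3 : h ≫ i = h' ≫ i := act_inj A _ _ _ e1
    rw [eq_of_i_eq i aZ j hY.2.1 h h' _ e3 e2]

/-- the map `(g, p) ↦ g • p₁ p` from `G ⊗ P` to `E` -/
noncomputable abbrev mP : G ⊗ PP j A ⟶ A.P := (G ◁ p₁ j A) ≫ A.act.act

omit [GrpObj H] in
theorem lift_mP {T : Over S} (g : T ⟶ G) (p : T ⟶ PP j A) :
    lift g p ≫ mP j A = lift g (p ≫ p₁ j A) ≫ A.act.act := by
  rw [lift_whiskerLeft_assoc]

include hY in
/-- every point of `E` whose image in `Y` lifts to `G ⊗ Z` lifts to `G ⊗ P` -/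
theorem exists_lift_mP {T : Over S} (e : T ⟶ A.P) (s : T ⟶ G ⊗ Z) (hs : s ≫ j = e ≫ A.φ) :
    ∃ s' : T ⟶ G ⊗ PP j A, s' ≫ mP j A = e := by
  obtain ⟨g, z, rfl⟩ := exists_lift₂ s
  have hc : (lift g⁻¹ e ≫ A.act.act) ≫ A.φ = z ≫ iz j := by
    rw [lift_act_φ, ← hs, ← act_iz aY j hY.1, ← AlgGrp.Action.lift_mul_act, inv_mul_cancel,
      AlgGrp.Action.lift_one_act]
  refine ⟨lift g (Limits.pullback.lift (lift g⁻¹ e ≫ A.act.act) z hc), ?_⟩
  rw [lift_mP, Limits.pullback.lift_fst, ← AlgGrp.Action.lift_mul_act, mul_inv_cancel, AlgGrp.Action.lift_one_act]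

end Groth.Agent.Lib.Helper4.BalQuot
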