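import Mathlib
import Groth.Agent.Lib.Helper4.BalQuot1

/-!
# Quotient stacks of balanced products, part 2: the functor `[Y/G] ⟶ [Z/H]` (helper4)

`Psi j hY : QuotSt K G aY ⥤ᵇ QuotSt K H aZ`, `(E, ψ) ↦ (E ×_Y Z, pr₂)`; it is faithful.
-/

set_option autoImplicit false
universe u
open CategoryTheory CategoryTheory.Limits MonoidalCategory CartesianMonoidalCategory MonObj GrpObj AlgebraicGeometry

namespace Groth.Agent.Lib.Helper4.BalQuot

open Groth.Agent.Lib.Helper4.BalProd Groth.Agent.Lib.Helper4.ActPts4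

variable {S : Scheme.{u}} {G H Z Y : Over S} [GrpObj G] [GrpObj H] {i : H ⟶ G} [IsMonHom i]
  {aZ : AlgGrp.Action H Z} {aY : AlgGrp.Action G Y} (j : G ⊗ Z ⟶ Y)
  {K : Precoverage Scheme.{u}} (hY : ChGrp.IsBalProd K i aZ aY j) (A : AlgSt.QuotObj K G aY)

include hY in
/-- `G ⊗ P ⟶ E` has sections locally -/
theorem loc_mP [K.IsStableUnderBaseChange] :
    NonAbH1.IsLocallyTrivialFor K (Over.mk (mP j A).left : Over A.P.left) :=
  isLocallyTrivialFor_of_lift_over K (φ := j) (φ' := mP j A) A.φ hY.2.2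
    (fun _ t s hst => exists_lift_mP j hY A t s hst)

theorem mP_π : mP j A ≫ A.π = snd G (PP j A) ≫ πP j A := by
  rw [Category.assoc, A.cart.w, whiskerLeft_snd_assoc]

include hY in
/-- `P ⟶ T` has sections locally -/
theorem locP [K.IsStableUnderBaseChange] [K.IsStableUnderComposition] :
    NonAbH1.IsLocallyTrivialFor K (Over.mk (πP j A).left : Over A.base.left) := by
  have h1 := TorsorCompose.isLocallyTrivialFor_comp K (mP j A).left A.π.left (loc_mP j hY A) A.loc
  have e : (mP j A).left ≫ A.π.left = (snd G (PP j A)).left ≫ (πP j A).left :=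
    congrArg (fun m => m.left) (mP_π j A)
  obtain ⟨R, hR, hs⟩ := h1
  refine ⟨R, hR, fun S' f hf => ?_⟩
  obtain ⟨s, hs'⟩ := hs f hf
  refine ⟨s ≫ (snd G (PP j A)).left, ?_⟩
  have hs'' : s ≫ (mP j A).left ≫ A.π.left = f := hs'
  change (s ≫ (snd G (PP j A)).left) ≫ (πP j A).left = f
  rw [Category.assoc, ← e, hs'']

variable [K.IsStableUnderBaseChange] [K.IsStableUnderComposition]

/-- the object `(E ×_Y Z, pr₂)` of `[Z/H]` -/
noncomputable def objPsi : AlgSt.QuotObj K H aZ where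
  base := A.base
  P := PP j A
  act := aP j hY A
  π := πP j A
  cart := cartP j hY A
  loc := locP j hY A
  φ := p₂ j A
  eqv := by
    change actP j hY A ≫ p₂ j A = (H ◁ p₂ j A) ≫ aZ.act
    rw [actP, Limits.pullback.lift_snd]

variable {A} {B : AlgSt.QuotObj K G aY}

/-- the map on total spaces -/
noncomputable def topPsi (f : A ⟶ B) : PP j A ⟶ PP j B :=
  Limits.pullback.lift (p₁ j A ≫ f.top) (p₂ j A) (by rw [Category.assoc, f.wφ, p_cond])

omit [GrpObj H] [K.IsStableUnderBaseChange] [K.IsStableUnderComposition] in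
@[reassoc (attr := simp)]
theorem topPsi_p₁ (f : A ⟶ B) : topPsi j f ≫ p₁ j B = p₁ j A ≫ f.top := Limits.pullback.lift_fst _ _ _

omit [GrpObj H] [K.IsStableUnderBaseChange] [K.IsStableUnderComposition] in
@[reassoc (attr := simp)]
theorem topPsi_p₂ (f : A ⟶ B) : topPsi j f ≫ p₂ j B = p₂ j A := Limits.pullback.lift_snd _ _ _

omit [GrpObj H] [K.IsStableUnderBaseChange] [K.IsStableUnderComposition] in
theorem lift_act_top (f : A ⟶ B) {T : Over S} (g : T ⟶ G) (e : T ⟶ A.P) :
    (lift g e ≫ A.act.act) ≫ f.top = lift g (e ≫ f.top) ≫ B.act.act := by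
  rw [Category.assoc, f.eqv, lift_whiskerLeft_assoc]

omit [GrpObj H] [K.IsStableUnderBaseChange] [K.IsStableUnderComposition] in
theorem isPullback_topPsi (f : A ⟶ B) : IsPullback (topPsi j f) (p₁ j A) (p₁ j B) f.top := by
  refine IsPullback.of_right (h₁₂ := p₂ j B) (h₂₂ := B.φ) (v₁₃ := iz j) ?_ (topPsi_p₁ j f)
    (IsPullback.of_hasPullback B.φ (iz j)).flip
  rw [topPsi_p₂, f.wφ]
  exact (IsPullback.of_hasPullback A.φ (iz j)).flip

/-- the morphism `Ψ f` -/
noncomputable def mapPsi (f : A ⟶ B) : objPsi j hY A ⟶ objPsi j hY B where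
  base := f.base
  top := topPsi j f
  eqv := by
    change actP j hY A ≫ topPsi j f = (H ◁ topPsi j f) ≫ actP j hY B
    apply AlgGrp.Action.hom_ext_lift₂
    intro T h p
    rw [lift_whiskerLeft_assoc]
    apply pt_ext
    · rw [← Category.assoc, Category.assoc, topPsi_p₁, ← Category.assoc, lift_actP_p₁, lift_act_top, lift_actP_p₁,
        Category.assoc, Category.assoc, topPsi_p₁]
    · rw [← Category.assoc, Category.assoc, topPsi_p₂, lift_actP_p₂, lift_actP_p₂, Category.assoc, topPsi_p₂]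
  cart := (isPullback_topPsi j f).paste_vert f.cart
  wφ := topPsi_p₂ j f

@[simp] theorem mapPsi_base (f : A ⟶ B) : (mapPsi j hY f).base = f.base := rfl
@[simp] theorem mapPsi_top (f : A ⟶ B) : (mapPsi j hY f).top = topPsi j f := rfl

/-- **The functor `[Y/G] ⟶ [Z/H]`, `(E, ψ) ↦ (E ×_Y Z, pr₂)`.** -/
noncomputable def Psi : AlgSt.QuotSt K G aY ⥤ᵇ AlgSt.QuotSt K H aZ where
  toFunctor :=
    { obj := fun A => objPsi j hY A
      map := fun f => mapPsi j hY f
      map_id := fun A => AlgSt.QuotObj.hom_ext rfl (by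
        apply pt_ext
        · change topPsi j (𝟙 A) ≫ p₁ j A = 𝟙 _ ≫ p₁ j A
          rw [topPsi_p₁, AlgSt.QuotObj.id_top, Category.comp_id, Category.id_comp]
        · change topPsi j (𝟙 A) ≫ p₂ j A = 𝟙 _ ≫ p₂ j A
          rw [topPsi_p₂, Category.id_comp])
      map_comp := fun {A B C} f g => AlgSt.QuotObj.hom_ext rfl (by
        apply pt_ext
        · change topPsi j (f ≫ g) ≫ p₁ j C = (topPsi j f ≫ topPsi j g) ≫ p₁ j C
          rw [topPsi_p₁, Category.assoc, topPsi_p₁, topPsi_p₁_assoc, AlgSt.QuotObj.comp_top]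
        · change topPsi j (f ≫ g) ≫ p₂ j C = (topPsi j f ≫ topPsi j g) ≫ p₂ j C
          rw [topPsi_p₂, Category.assoc, topPsi_p₂, topPsi_p₂]) }
  w := rfl

@[simp] theorem Psi_obj (A : AlgSt.QuotObj K G aY) : (Psi j hY).obj A = objPsi j hY A := rfl
@[simp] theorem Psi_map (f : A ⟶ B) : (Psi j hY).map f = mapPsi j hY f := rfl

include hY in
omit [K.IsStableUnderComposition] in
/-- `G ⊗ P ⟶ E` is an epimorphism -/
theorem epi_mP (hK : K ≤ Scheme.fpqcPrecoverage) (A : AlgSt.QuotObj K G aY) : Epi (mP j A) :=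
  TorsorDesc.epi_of_isLocallyTrivialFor _
    (QuotSectionSch.isLocallyTrivialFor_mono hK _ (loc_mP j hY A))

theorem faithful_Psi (hK : K ≤ Scheme.fpqcPrecoverage) : (Psi j hY).toFunctor.Faithful where
  map_injective {A B} f g h := by
    have h' : mapPsi j hY f = mapPsi j hY g := h
    have h1 : f.base = g.base := congrArg (fun k : objPsi j hY A ⟶ objPsi j hY B => k.base) h'
    have h2 : topPsi j f = topPsi j g := congrArg (fun k : objPsi j hY A ⟶ objPsi j hY B => k.top) h'
    apply AlgSt.QuotObj.hom_ext h1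
    have := epi_mP j hY hK A
    rw [← cancel_epi (mP j A)]
    have e : ∀ k : A ⟶ B, mP j A ≫ k.top = (G ◁ (topPsi j k ≫ p₁ j B)) ≫ B.act.act := by
      intro k
      rw [Category.assoc, k.eqv, topPsi_p₁, MonoidalCategory.whiskerLeft_comp, Category.assoc]
    rw [e f, e g, h2]

end Groth.Agent.Lib.Helper4.BalQuot
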