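import Mathlib
import Groth.Agent.Lib.Helper4.BalQuot2
import Groth.Agent.Lib.Helper4.QuotCmp5

/-!
# Quotient stacks of balanced products, part 3: `[Y/G] ⟶ [Z/H]` is full (helper4)
-/

set_option autoImplicit false
set_option backward.isDefEq.respectTransparency false
set_option backward.isDefEq.respectTransparency.types false
universe u
open CategoryTheory CategoryTheory.Limits MonoidalCategory CartesianMonoidalCategory MonObj GrpObj AlgebraicGeometry

namespace Groth.Agent.Lib.Helper4.BalQuot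

open Groth.Agent.Lib.Helper4.BalProd Groth.Agent.Lib.Helper4.ActPts4
open Groth.Agent.Lib.helper4.QuotCmp AlgSt

section Cart

variable {S : Scheme.{u}} {G : Over S} [GrpObj G] {X : Over S} {aX : AlgGrp.Action G X}

/-- an equivariant map of fppf torsors over a map of bases is cartesian -/
theorem cart_of_eqv {A B : QuotObj Scheme.fppfPrecoverage G aX} (g : A.base ⟶ B.base) (top : A.P ⟶ B.P)
    (heqv : A.act.act ≫ top = (G ◁ top) ≫ B.act.act) (hπ : top ≫ B.π = A.π ≫ g) :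
    IsPullback top A.π B.π g := by
  apply isPullback_of_map
  have wb : (AlgSp.yon S).map g ≫ (cmpObj Scheme.fppfPrecoverage G aX B).b =
      (cmpObj Scheme.fppfPrecoverage G aX A).b := by
    change (AlgSp.yon S).map g ≫ (AlgSp.yon S).map (toUnit B.base) = (AlgSp.yon S).map (toUnit A.base)
    rw [← Functor.map_comp]
    congr 1
    exact toUnit_unique _ _
  exact Groth.Agent.Lib.helper4.SpQuot.cart_of_eqv (A := cmpObj Scheme.fppfPrecoverage G aX A)
    (A' := cmpObj Scheme.fppfPrecoverage G aX B) g wb ((Y S).map top)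
    (by
      change (mu G A.P ≫ (Y S).map A.act.act) ≫ (Y S).map top =
        ((Y S).obj G ◁ (Y S).map top) ≫ mu G B.P ≫ (Y S).map B.act.act
      rw [Category.assoc, ← Functor.map_comp, heqv, Functor.map_comp, mu_whiskerLeft_assoc])
    (by
      change (Y S).map top ≫ (Y S).map B.π = (Y S).map A.π ≫ (Y S).map g
      rw [← Functor.map_comp, hπ, Functor.map_comp])

end Cart

variable {S : Scheme.{u}} {G H Z Y : Over S} [GrpObj G] [GrpObj H] {i : H ⟶ G} [IsMonHom i]
  {aZ : AlgGrp.Action H Z} {aY : AlgGrp.Action G Y} (j : G ⊗ Z ⟶ Y)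
  {K : Precoverage Scheme.{u}} (hY : ChGrp.IsBalProd K i aZ aY j) (A : AlgSt.QuotObj K G aY)

/-- the fibres of `G ⊗ P ⟶ E` are the orbits of `H` -/
theorem exists_of_mP_eq {T : Over S} (g₁ g₂ : T ⟶ G) (q₁ q₂ : T ⟶ PP j A)
    (h : lift g₁ q₁ ≫ mP j A = lift g₂ q₂ ≫ mP j A) :
    ∃ h' : T ⟶ H, g₁ = g₂ * (h' ≫ i)⁻¹ ∧ q₁ = lift h' q₂ ≫ actP j hY A := by
  rw [lift_mP, lift_mP] at h
  have h1 : lift g₁ (q₁ ≫ p₂ j A) ≫ j = lift g₂ (q₂ ≫ p₂ j A) ≫ j := by
    have h0 : (lift g₁ (q₁ ≫ p₁ j A) ≫ A.act.act) ≫ A.φ = (lift g₂ (q₂ ≫ p₁ j A) ≫ A.act.act) ≫ A.φ := by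
      rw [h]
    rw [lift_act_φ, lift_act_φ, Category.assoc, Category.assoc, p_cond] at h0
    rw [← act_iz aY j hY.1, ← act_iz aY j hY.1, Category.assoc, Category.assoc]
    exact h0
  obtain ⟨h', hh'⟩ := exists_of_eq i aZ j hY.2.1 _ _ h1
  rw [ChGrp.lift_twist_act] at hh'
  have e1 := congrArg (fun m => m ≫ fst G Z) hh'
  have e2 := congrArg (fun m => m ≫ snd G Z) hh'
  simp only [lift_fst, lift_snd] at e1 e2
  refine ⟨h', e1.symm, ?_⟩
  apply pt_ext
  · rw [lift_actP_p₁]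
    apply act_cancel A.act g₁
    rw [h, ← AlgGrp.Action.lift_mul_act, ← e1, inv_mul_cancel_right]
  · rw [lift_actP_p₂, e2]


section Full

variable {j} (hY' : ChGrp.IsBalProd Scheme.fppfPrecoverage i aZ aY j)

theorem full_Psi : (Psi j hY').toFunctor.Full where
  map_surjective {A B} k := by
    have hloc : NonAbH1.IsLocallyTrivialFor Scheme.fpqcPrecoverage (Over.mk (mP j A).left : Over A.P.left) :=
      QuotSectionSch.isLocallyTrivialFor_mono Scheme.fppfPrecoverage_le_fpqcPrecoverage _ (loc_mP j hY' A)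
    have hkeqv : actP j hY' A ≫ k.top = (H ◁ k.top) ≫ actP j hY' B := k.eqv
    have hkφ : k.top ≫ p₂ j B = p₂ j A := k.wφ
    have hkπ : k.top ≫ πP j B = πP j A ≫ k.base := k.cart.w
    have hktop : ∀ {T : Over S} (h' : T ⟶ H) (q : T ⟶ PP j A),
        (lift h' q ≫ actP j hY' A) ≫ k.top ≫ p₁ j B = lift (h' ≫ i) (q ≫ k.top ≫ p₁ j B) ≫ B.act.act := by
      intro T h' q
      rw [Category.assoc, reassoc_of% hkeqv, lift_whiskerLeft_assoc, ← Category.assoc, lift_actP_p₁, Category.assoc]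
    obtain ⟨t, ht, -⟩ := TorsorDesc.existsUnique_desc (mP j A) hloc ((G ◁ (k.top ≫ p₁ j B)) ≫ B.act.act) (by
      intro T x₁ x₂ hx
      obtain ⟨g₁, q₁, rfl⟩ := exists_lift₂ x₁
      obtain ⟨g₂, q₂, rfl⟩ := exists_lift₂ x₂
      obtain ⟨h', hg, hq⟩ := exists_of_mP_eq j hY' A g₁ g₂ q₁ q₂ hx
      rw [lift_whiskerLeft_assoc, lift_whiskerLeft_assoc, hq, hg, hktop, ← AlgGrp.Action.lift_mul_act,
        inv_mul_cancel_right])
    have htp : ∀ {T : Over S} (g : T ⟶ G) (q : T ⟶ PP j A),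
        (lift g (q ≫ p₁ j A) ≫ A.act.act) ≫ t = lift g (q ≫ k.top ≫ p₁ j B) ≫ B.act.act := by
      intro T g q
      rw [← lift_mP, Category.assoc, ht, lift_whiskerLeft_assoc]
    have h1 : p₁ j A ≫ t = k.top ≫ p₁ j B := by
      have e := htp (1 : PP j A ⟶ G) (𝟙 _)
      rwa [Category.id_comp, AlgGrp.Action.lift_one_act, Category.id_comp, AlgGrp.Action.lift_one_act] at e
    have hepi : Epi (mP j A) := TorsorDesc.epi_of_isLocallyTrivialFor _ hloc
    have hepi' : Epi (G ◁ mP j A) := TorsorDesc.epi_whiskerLeft _ G hloc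
    have hmt : ∀ {T W : Over S} (g : T ⟶ G) (q : T ⟶ PP j A) (r : A.P ⟶ W),
        lift g q ≫ mP j A ≫ r = (lift g (q ≫ p₁ j A) ≫ A.act.act) ≫ r := by
      intro T W g q r
      rw [← Category.assoc, lift_mP]
    have heqv : A.act.act ≫ t = (G ◁ t) ≫ B.act.act := by
      rw [← cancel_epi (G ◁ mP j A)]
      apply AlgGrp.Action.hom_ext_lift₂
      intro T g' x
      obtain ⟨g, q, rfl⟩ := exists_lift₂ x
      have eL : lift g' (lift g q) ≫ (G ◁ mP j A) ≫ A.act.act ≫ t =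
          lift (g' * g) (q ≫ k.top ≫ p₁ j B) ≫ B.act.act := by
        rw [lift_whiskerLeft_assoc, lift_mP, ← Category.assoc, ← AlgGrp.Action.lift_mul_act, htp]
      have eR : lift g' (lift g q) ≫ (G ◁ mP j A) ≫ (G ◁ t) ≫ B.act.act =
          lift (g' * g) (q ≫ k.top ≫ p₁ j B) ≫ B.act.act := by
        rw [lift_whiskerLeft_assoc, lift_whiskerLeft_assoc, lift_mP, htp, ← AlgGrp.Action.lift_mul_act]
      rw [eL, eR]
    have hφ : t ≫ B.φ = A.φ := by
      rw [← cancel_epi (mP j A)]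
      apply AlgGrp.Action.hom_ext_lift₂
      intro T g q
      have eL : lift g q ≫ mP j A ≫ t ≫ B.φ = lift g (q ≫ p₂ j A ≫ iz j) ≫ aY.act := by
        rw [hmt, ← Category.assoc, htp, lift_act_φ, Category.assoc, Category.assoc, p_cond, reassoc_of% hkφ]
      have eR : lift g q ≫ mP j A ≫ A.φ = lift g (q ≫ p₂ j A ≫ iz j) ≫ aY.act := by
        rw [hmt, lift_act_φ, Category.assoc, p_cond]
      rw [eL, eR]
    have hπ : t ≫ B.π = A.π ≫ k.base := by
      rw [← cancel_epi (mP j A)]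
      apply AlgGrp.Action.hom_ext_lift₂
      intro T g q
      have eL : lift g q ≫ mP j A ≫ t ≫ B.π = q ≫ πP j A ≫ k.base := by
        rw [hmt, ← Category.assoc, htp, act_π, Category.assoc, Category.assoc, hkπ]
      have eR : lift g q ≫ mP j A ≫ A.π ≫ k.base = q ≫ πP j A ≫ k.base := by
        rw [hmt, ← Category.assoc, act_π]
        simp only [Category.assoc]
      rw [eL, eR]
    refine ⟨⟨k.base, t, heqv, cart_of_eqv (A := A) (B := B) k.base t heqv hπ, hφ⟩, ?_⟩
    apply AlgSt.QuotObj.hom_ext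
    · rfl
    apply pt_ext
    · change topPsi j _ ≫ p₁ j B = k.top ≫ p₁ j B
      rw [topPsi_p₁]
      exact h1
    · change topPsi j _ ≫ p₂ j B = k.top ≫ p₂ j B
      rw [topPsi_p₂, hkφ]

end Full

end Groth.Agent.Lib.Helper4.BalQuot
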