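import Mathlib
import Groth.Agent.Lib.Helper4.BalQuot3
import Groth.Agent.Lib.Helper4.QuotSt2
import Groth.Agent.StkLocal
import Groth.Agent.StkLib

/-!
# Quotient stacks of balanced products, part 4: `[Z/H] ≃ [Y/G]` for `Y = G ×^H Z` (helper4)

`isQuotientOf_of_isBalProd`: for `G`, `H` affine over `S` and `Y` the balanced product of the `H`-scheme `Z` along
`i : H ⟶ G` for the fppf topology, `[Y/G]` is a quotient stack of `Z` by `H`.
-/

set_option autoImplicit false
set_option backward.isDefEq.respectTransparency false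
set_option backward.isDefEq.respectTransparency.types false
universe u
open CategoryTheory CategoryTheory.Limits MonoidalCategory CartesianMonoidalCategory MonObj GrpObj AlgebraicGeometry

namespace Groth.Agent.Lib.Helper4.BalQuot

open Groth.Agent.Lib.Helper4.BalProd Groth.Agent.Lib.Helper4.ActPts4
open Groth.Agent.Lib.helper4.QuotCmp AlgSt Groth.Agent.Lib.helper4.QuotSt1 Groth.Agent.Lib.helper4.QuotSt2

section Sec

variable {S : Scheme.{u}} {K : Precoverage Scheme.{u}} {H Z : Over S} [GrpObj H] {aZ : AlgGrp.Action H Z}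

/-- the sieve of the morphisms to the base over which the torsor has a section -/
def secSieve (z : QuotObj K H aZ) : Sieve z.base where
  arrows := fun V f => ∃ s : V ⟶ z.P, s ≫ z.π = f
  downward_closed := by
    rintro V V' f ⟨s, hs⟩ g
    exact ⟨g ≫ s, by rw [Category.assoc, hs]⟩

theorem secSieve_mem (z : QuotObj K H aZ) : secSieve z ∈ QuotSh.J K S z.base := by
  rw [GrothendieckTopology.mem_over_iff]
  obtain ⟨R, hR, hs⟩ := z.loc
  refine (K.toGrothendieck).superset_covering ?_ (Precoverage.generate_mem_toGrothendieck hR)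
  rintro T f ⟨W, a, b, hb, rfl⟩
  obtain ⟨s, hs'⟩ := hs b hb
  have hs'' : s ≫ z.π.left = b := hs'
  rw [Sieve.overEquiv_iff]
  have w : (a ≫ s) ≫ z.P.hom = (a ≫ b) ≫ z.base.hom := by
    rw [← Over.w z.π, Category.assoc, Category.assoc, ← Category.assoc s, hs'']
  refine ⟨Over.homMk (a ≫ s) w, ?_⟩
  apply Over.OverMorphism.ext
  change (a ≫ s) ≫ z.π.left = a ≫ b
  rw [Category.assoc, hs'']

theorem exists_triv [K.HasIsos] (A : QuotObj K H aZ) {T : Over S} (s : T ⟶ A.P) (y : T ⟶ Z) (hy : s ≫ A.φ = y) :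
    ∃ τ : (quotMap K H aZ).obj (⟨T, ⟨y⟩⟩ : (ofSch Z).obj) ⟶ A, τ.base = s ≫ A.π := by
  subst hy
  exact ⟨triv A s, rfl⟩

end Sec

variable {S : Scheme.{u}} {G H Z Y : Over S} [GrpObj G] [GrpObj H] {i : H ⟶ G} [IsMonHom i]
  {aZ : AlgGrp.Action H Z} {aY : AlgGrp.Action G Y} {j : G ⊗ Z ⟶ Y}
  (hY : ChGrp.IsBalProd Scheme.fppfPrecoverage i aZ aY j)

/-- every object of `[Z/H]` is locally in the image of `Ψ` -/
theorem locEssSurj (z : QuotObj Scheme.fppfPrecoverage H aZ) ⦃V : Over S⦄ (f : V ⟶ z.base) (hf : secSieve z f) :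
    ∃ (x : QuotObj Scheme.fppfPrecoverage G aY) (t : (Psi j hY).obj x ⟶ z),
      (QuotSt Scheme.fppfPrecoverage H aZ).p.IsHomLift f t := by
  obtain ⟨s, hs⟩ := hf
  let x : QuotObj Scheme.fppfPrecoverage G aY :=
    (quotMap Scheme.fppfPrecoverage G aY).obj (⟨V, ⟨(s ≫ z.φ) ≫ iz j⟩⟩ : (ofSch Y).obj)
  have hσc : lift (1 : V ⟶ G) (𝟙 V) ≫ x.φ = (s ≫ z.φ) ≫ iz j := by
    change lift (1 : V ⟶ G) (𝟙 V) ≫ (G ◁ ((s ≫ z.φ) ≫ iz j)) ≫ aY.act = _
    rw [lift_whiskerLeft_assoc, Category.id_comp, AlgGrp.Action.lift_one_act]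
  let σ : V ⟶ PP j x := Limits.pullback.lift (lift (1 : V ⟶ G) (𝟙 V)) (s ≫ z.φ) hσc
  have hσφ : σ ≫ ((Psi j hY).obj x).φ = s ≫ z.φ := Limits.pullback.lift_snd _ _ _
  have hσπ : σ ≫ ((Psi j hY).obj x).π = 𝟙 V := by
    change σ ≫ p₁ j x ≫ snd G V = 𝟙 V
    rw [Limits.pullback.lift_fst_assoc, lift_snd]
  obtain ⟨τ, hτ⟩ := exists_triv ((Psi j hY).obj x) σ (s ≫ z.φ) hσφ
  have hτ' : τ.base = 𝟙 V := hτ.trans hσπ
  have : IsIso τ.base := by rw [hτ']; exact IsIso.id V
  have : IsIso τ := isIso_of_isIso_base τ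
  refine ⟨x, inv τ ≫ triv z s, ?_⟩
  have hb : (QuotSt Scheme.fppfPrecoverage H aZ).p.map (inv τ ≫ triv z s) = f := by
    rw [Functor.map_comp, Functor.map_inv]
    change inv τ.base ≫ (s ≫ z.π) = f
    rw [IsIso.inv_comp_eq, hτ']
    exact hs.trans (Category.id_comp f).symm
  exact IsHomLift.of_fac _ _ _ rfl rfl (by
    rw [eqToHom_refl, eqToHom_refl, Category.id_comp, Category.comp_id]
    exact hb.symm)

/-- **`Ψ : [Y/G] ⟶ [Z/H]` is an equivalence over `(Sch/S)`.** -/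
theorem isEquivOver_Psi [IsAffineHom G.hom] [IsAffineHom H.hom] : FibCat.IsEquivOver (Psi j hY) := by
  have hGst : Stk.IsStack (QuotSh.J Scheme.fppfPrecoverage S) (QuotSt Scheme.fppfPrecoverage G aY) :=
    isStack_quotSt
  have hHst : Stk.IsStack (QuotSh.J Scheme.fppfPrecoverage S) (QuotSt Scheme.fppfPrecoverage H aZ) :=
    isStack_quotSt
  have := faithful_Psi j hY Scheme.fppfPrecoverage_le_fpqcPrecoverage
  have := full_Psi hY
  apply Groth.Agent.FibEquiv.isEquivOver_of (Psi j hY)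
  intro z
  have hR := secSieve_mem z
  have h1 := hGst.2 (secSieve z) hR
  have h2 := hHst.2 (secSieve z) hR
  unfold Stk.IsStackFor Stk.resSieve at h1 h2
  exact Groth.Agent.StkLocal.essImage_of_locally (Psi j hY) hHst.1 z (secSieve z) inferInstance inferInstance
    inferInstance (locEssSurj hY z)

include hY in
/-- **The quotient stack of a balanced product: `[Z/H] ≃ [G ×^H Z / G]`.** -/
theorem isQuotientOf_of_isBalProd [IsAffineHom G.hom] [IsAffineHom H.hom] :
    AlgSt.IsQuotientOf Scheme.fppfPrecoverage H aZ (QuotSt Scheme.fppfPrecoverage G aY) :=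
  Groth.Agent.StkLib.isEquivOver_symm (isEquivOver_Psi hY)

end Groth.Agent.Lib.Helper4.BalQuot
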