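import Mathlib
import Groth.Agent.Lib.Helper4.BalQuot4

/-!
# `G/H × X` is the balanced product `G ×^H X` (helper4)

For a homogeneous space `(Q, q₀)` of `G` with stabiliser `H` (`ChGrp.IsHomog`) and a `G`-scheme `X`, the morphism
`(g, x) ↦ (g • q₀, g • x)` makes `Q ⊗ X` (diagonal action) the balanced product of `X` (restricted action) along `H ⟶ G`.
-/

set_option autoImplicit false
universe u
open CategoryTheory CategoryTheory.Limits MonoidalCategory CartesianMonoidalCategory MonObj GrpObj AlgebraicGeometry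

namespace Groth.Agent.Lib.Helper4.BalQuot

open Groth.Agent.Lib.Helper4.ActPts4

variable {S : Scheme.{u}} {G H X Q : Over S} [GrpObj G] [GrpObj H] (i : H ⟶ G) [IsMonHom i]
  (aX : AlgGrp.Action G X) (aQ : AlgGrp.Action G Q) (q₀ : 𝟙_ (Over S) ⟶ Q)

/-- `(g, x) ↦ (g • q₀, g • x)` -/
noncomputable def jH : G ⊗ X ⟶ Q ⊗ X := lift (fst G X ≫ aQ.orbitMap q₀) aX.act

omit [GrpObj H] in
theorem lift_jH {T : Over S} (g : T ⟶ G) (x : T ⟶ X) :
    lift g x ≫ jH aX aQ q₀ = lift (g ≫ aQ.orbitMap q₀) (lift g x ≫ aX.act) := by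
  rw [jH, comp_lift, lift_fst_assoc]

omit [GrpObj H] in
theorem mul_orbitMap {T : Over S} (g' g : T ⟶ G) :
    (g' * g) ≫ aQ.orbitMap q₀ = lift g' (g ≫ aQ.orbitMap q₀) ≫ aQ.act := by
  rw [AlgGrp.Action.comp_orbitMap, AlgGrp.Action.lift_mul_act, ← AlgGrp.Action.comp_orbitMap]

variable {K : Precoverage Scheme.{u}} [K.IsStableUnderBaseChange] (hQ : ChGrp.IsHomog K i aQ q₀)

include hQ in
omit [K.IsStableUnderBaseChange] in
theorem orbit_mul {T : Over S} (g : T ⟶ G) (h : T ⟶ H) :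
    (g * (h ≫ i)) ≫ aQ.orbitMap q₀ = g ≫ aQ.orbitMap q₀ := by
  have h1 := congrArg (fun m => lift g h ≫ m) hQ.2.1.w
  simp only [Category.assoc] at h1
  rw [lift_fst_assoc, lift_whiskerLeft_assoc, ← Category.assoc, ← Hom.mul_def] at h1
  exact h1.symm

include hQ in
omit [K.IsStableUnderBaseChange] in
theorem exists_of_orbit_eq {T : Over S} (g₁ g₂ : T ⟶ G) (h : g₁ ≫ aQ.orbitMap q₀ = g₂ ≫ aQ.orbitMap q₀) :
    ∃ h' : T ⟶ H, g₁ * (h' ≫ i) = g₂ := by
  refine ⟨hQ.2.1.lift g₁ g₂ h ≫ snd G H, ?_⟩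
  have e : lift g₁ (hQ.2.1.lift g₁ g₂ h ≫ snd G H) = hQ.2.1.lift g₁ g₂ h := by
    apply CartesianMonoidalCategory.hom_ext
    · rw [lift_fst, hQ.2.1.lift_fst]
    · rw [lift_snd]
  have h2 := hQ.2.1.lift_snd g₁ g₂ h
  rw [← e, lift_whiskerLeft_assoc, ← Hom.mul_def] at h2
  exact h2

include hQ in
omit [K.IsStableUnderBaseChange] in
theorem eq_of_comp_i_eq {T : Over S} (h h' : T ⟶ H) (e : h ≫ i = h' ≫ i) : h = h' := by
  have e' : lift (1 : T ⟶ G) h = lift (1 : T ⟶ G) h' := by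
    apply hQ.2.1.hom_ext
    · rw [lift_fst, lift_fst]
    · rw [lift_whiskerLeft_assoc, lift_whiskerLeft_assoc, e]
  have := congrArg (fun m => m ≫ snd G H) e'
  simpa only [lift_snd] using this

include hQ in
/-- **`Q ⊗ X` with the diagonal action is the balanced product `G ×^H X`.** -/
theorem isBalProd_of_isHomog :
    haveI : IsMonHom i := hQ.1
    ChGrp.IsBalProd K i (aX.restrict i) (aQ.prod aX) (jH aX aQ q₀) := by
  refine ⟨?_, ?_, ?_⟩
  · -- equivariance
    show ((NonAbH1.trivialAction G).prod (AlgGrp.Action.trivial G X)).act ≫ jH aX aQ q₀ =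
      (G ◁ jH aX aQ q₀) ≫ (aQ.prod aX).act
    apply AlgGrp.Action.hom_ext_lift₂
    intro T g' p
    obtain ⟨g, x, rfl⟩ := exists_lift₂ p
    have e : lift g' g ≫ (NonAbH1.trivialAction G).act = g' * g := (Hom.mul_def g' g).symm
    rw [← Category.assoc, AlgGrp.Action.lift_prod_act, AlgGrp.Action.lift_trivial_act, e, lift_jH,
      lift_whiskerLeft_assoc, lift_jH, AlgGrp.Action.lift_prod_act, mul_orbitMap, AlgGrp.Action.lift_mul_act]
  · -- the Galois square
    have hpt : ∀ {T : Over S} (h : T ⟶ H) (g : T ⟶ G) (x : T ⟶ X),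
        lift h (lift g x) ≫ (ChGrp.twist i (aX.restrict i)).act =
          lift (g * (h ≫ i)⁻¹) (lift (h ≫ i) x ≫ aX.act) := by
      intro T h g x
      rw [ChGrp.lift_twist_act, AlgGrp.Action.lift_restrict_act]
    refine isPullback_of_pts ?_ ?_ ?_
    · apply AlgGrp.Action.hom_ext_lift₂
      intro T h p
      obtain ⟨g, x, rfl⟩ := exists_lift₂ p
      rw [← Category.assoc, hpt, lift_snd_assoc, lift_jH, lift_jH, ← AlgGrp.Action.lift_mul_act,
        inv_mul_cancel_right]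
      congr 1
      have := orbit_mul i aQ q₀ hQ (g * (h ≫ i)⁻¹) h
      rw [inv_mul_cancel_right] at this
      exact this.symm
    · intro T s t hst
      obtain ⟨g₁, x₁, rfl⟩ := exists_lift₂ s
      obtain ⟨g₂, x₂, rfl⟩ := exists_lift₂ t
      rw [lift_jH, lift_jH] at hst
      have e1 := congrArg (fun m => m ≫ fst Q X) hst
      have e2 := congrArg (fun m => m ≫ snd Q X) hst
      simp only [lift_fst, lift_snd] at e1 e2
      obtain ⟨h', hh'⟩ := exists_of_orbit_eq i aQ q₀ hQ g₁ g₂ e1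
      refine ⟨lift h' (lift g₂ x₂), ?_, lift_snd _ _⟩
      rw [hpt]
      have eg : g₂ * (h' ≫ i)⁻¹ = g₁ := by rw [← hh', mul_inv_cancel_right]
      rw [eg]
      congr 1
      apply act_cancel aX g₁
      rw [← AlgGrp.Action.lift_mul_act, hh']
      exact e2.symm
    · intro T l l' h1 h2
      obtain ⟨h, p, rfl⟩ := exists_lift₂ l
      obtain ⟨h', p', rfl⟩ := exists_lift₂ l'
      rw [lift_snd, lift_snd] at h2
      subst h2
      obtain ⟨g, x, rfl⟩ := exists_lift₂ p
      rw [hpt, hpt] at h1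
      have e1 := congrArg (fun m => m ≫ fst G X) h1
      simp only [lift_fst] at e1
      have e3 : h ≫ i = h' ≫ i := by
        have := mul_left_cancel e1
        exact inv_injective this
      rw [eq_of_comp_i_eq i aQ q₀ hQ h h' e3]
  · -- local sections
    refine isLocallyTrivialFor_of_lift_over K (φ := aQ.orbitMap q₀) (φ' := jH aX aQ q₀) (fst Q X) hQ.2.2 ?_
    intro T t s hst
    refine ⟨lift s (lift s⁻¹ (t ≫ snd Q X) ≫ aX.act), ?_⟩
    rw [lift_jH, ← AlgGrp.Action.lift_mul_act, mul_inv_cancel, AlgGrp.Action.lift_one_act, hst]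
    apply CartesianMonoidalCategory.hom_ext
    · rw [lift_fst]
    · rw [lift_snd]

end Groth.Agent.Lib.Helper4.BalQuot
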