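import Groth.Agent.Lib.Helper4.GerbFF
set_option autoImplicit false
set_option backward.isDefEq.respectTransparency false
set_option backward.isDefEq.respectTransparency.types false
set_option linter.unusedSectionVars false
set_option linter.style.haveILetI false
open CategoryTheory CategoryTheory.Functor CategoryTheory.Limits Opposite
universe v₄ u₄ v₃ u₃ v₂ u₂ v u

/-! The band of a gerbe with commutative automorphism groups: the presheaf of groups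
`U ↦ {natural families of automorphisms over identities of the objects of 𝒮 over U}`. -/

namespace Groth.Agent.Lib.helper4.Band
open Groth.Agent.FibEquiv Groth.Agent.FibFiberwise Groth.Agent.FibFpProj Groth.Agent.FibYoneda
open Groth.Agent.Lib.helper4.Descent Groth.Agent.Lib.helper4.GerbLocal Groth.Agent.Lib.helper4.GerbFF

variable {C : Type u} [Category.{v} C] (𝒮 : BasedCategory.{v₂, u₂} C)

theorem autO_mul_hom {y : 𝒮.obj} (α β : Gerb.AutO y) : (α * β).hom.1 = β.hom.1 ≫ α.hom.1 := rfl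

theorem autO_one_hom (y : 𝒮.obj) : (1 : Gerb.AutO y).hom.1 = 𝟙 y := rfl

theorem autO_inv_hom {y : 𝒮.obj} (α : Gerb.AutO y) : (α⁻¹).hom.1 = α.inv.1 := rfl

theorem autO_hom_inv {y : 𝒮.obj} (α : Gerb.AutO y) : α.hom.1 ≫ α.inv.1 = 𝟙 y :=
  congrArg Subtype.val α.hom_inv_id

theorem autO_inv_hom_id {y : 𝒮.obj} (α : Gerb.AutO y) : α.inv.1 ≫ α.hom.1 = 𝟙 y :=
  congrArg Subtype.val α.inv_hom_id

theorem autO_ext {y : 𝒮.obj} (α β : Gerb.AutO y) (h : α.hom.1 = β.hom.1) : α = β := by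
  apply Aut.ext; apply Functor.Fiber.hom_ext; exact h

/-- naturality of a family of automorphisms -/
def IsNat (U : C) (g : ∀ y : 𝒮.obj, (𝒮.p.obj y ⟶ U) → Gerb.AutO y) : Prop :=
  ∀ (y' y : 𝒮.obj) (m : y' ⟶ y) (f : 𝒮.p.obj y ⟶ U), (g y' (𝒮.p.map m ≫ f)).hom.1 ≫ m = m ≫ (g y f).hom.1

/-- the group of natural families over `U` -/
def sub (U : C) : Subgroup (∀ y : 𝒮.obj, (𝒮.p.obj y ⟶ U) → Gerb.AutO y) where
  carrier := {g | IsNat 𝒮 U g}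
  mul_mem' := by
    intro g h hg hh y' y m f
    change ((g y' _) * (h y' _)).hom.1 ≫ m = m ≫ ((g y f) * (h y f)).hom.1
    rw [autO_mul_hom, autO_mul_hom, Category.assoc, hg y' y m f, ← Category.assoc, hh y' y m f, Category.assoc]
  one_mem' := by
    intro y' y m f
    change (1 : Gerb.AutO y').hom.1 ≫ m = m ≫ (1 : Gerb.AutO y).hom.1
    rw [autO_one_hom, autO_one_hom, Category.id_comp, Category.comp_id]
  inv_mem' := by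
    intro g hg y' y m f
    change ((g y' _)⁻¹).hom.1 ≫ m = m ≫ ((g y f)⁻¹).hom.1
    rw [autO_inv_hom, autO_inv_hom]
    have h1 := hg y' y m f
    calc (g y' (𝒮.p.map m ≫ f)).inv.1 ≫ m
        = (g y' (𝒮.p.map m ≫ f)).inv.1 ≫ (m ≫ (g y f).hom.1) ≫ (g y f).inv.1 := by
          rw [Category.assoc, autO_hom_inv, Category.comp_id]
      _ = m ≫ (g y f).inv.1 := by
          rw [← h1, Category.assoc, ← Category.assoc, autO_inv_hom_id, Category.id_comp]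

variable {𝒮}

theorem sub_ext {U : C} (g g' : sub 𝒮 U) (h : ∀ y f, g.1 y f = g'.1 y f) : g = g' := by
  apply Subtype.ext; funext y f; exact h y f

/-- restriction along `h : V ⟶ U` -/
def res {U V : C} (h : V ⟶ U) : sub 𝒮 U →* sub 𝒮 V where
  toFun g := ⟨fun y f => g.1 y (f ≫ h), by
    intro y' y m f
    have := g.2 y' y m (f ≫ h)
    rw [← Category.assoc] at this
    exact this⟩
  map_one' := rfl
  map_mul' _ _ := rfl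

@[simp] theorem res_apply {U V : C} (h : V ⟶ U) (g : sub 𝒮 U) (y : 𝒮.obj) (f : 𝒮.p.obj y ⟶ V) :
    (res h g).1 y f = g.1 y (f ≫ h) := rfl

variable (𝒮) in
/-- the band presheaf -/
def bandPsh : Cᵒᵖ ⥤ GrpCat.{max u₂ v v₂} where
  obj U := GrpCat.of (sub 𝒮 U.unop)
  map {U V} h := GrpCat.ofHom (res h.unop)
  map_id U := by
    refine GrpCat.hom_ext (MonoidHom.ext fun g => ?_)
    apply sub_ext
    intro y f
    change g.1 y (f ≫ 𝟙 _) = g.1 y f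
    rw [Category.comp_id]
  map_comp {U V W} h k := by
    refine GrpCat.hom_ext (MonoidHom.ext fun g => ?_)
    apply sub_ext
    intro y f
    change g.1 y (f ≫ (k.unop ≫ h.unop)) = g.1 y ((f ≫ k.unop) ≫ h.unop)
    rw [Category.assoc]

section Extend

variable (J : GrothendieckTopology C)

/-- the sieve of maps along which the pullback of `(y, f)` satisfies `P` -/
def sieveOf (h𝒮 : FibCat.IsFibGrpd 𝒮.p) {U : C} (P : ∀ y : 𝒮.obj, (𝒮.p.obj y ⟶ U) → Prop)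
    (hPpre : ∀ (y' y : 𝒮.obj) (κ : y' ⟶ y) (f : 𝒮.p.obj y ⟶ U), P y f → P y' (𝒮.p.map κ ≫ f))
    (y : 𝒮.obj) (f : 𝒮.p.obj y ⟶ U) : Sieve (𝒮.p.obj y) where
  arrows V k := ∃ (y₂ : 𝒮.obj) (χ : y₂ ⟶ y), 𝒮.p.IsHomLift k χ ∧ P y₂ (𝒮.p.map χ ≫ f)
  downward_closed := by
    rintro V W k ⟨y₂, χ, hχ, hP⟩ l
    have hV : 𝒮.p.obj y₂ = V := IsHomLift.domain_eq 𝒮.p k χ
    subst hV
    obtain ⟨y₃, κ, hκ⟩ := h𝒮.exists_lift (x := y₂) l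
    refine ⟨y₃, κ ≫ χ, inferInstance, ?_⟩
    have := hPpre y₃ y₂ κ _ hP
    rwa [𝒮.p.map_comp, Category.assoc]

theorem sieveOf_map (h𝒮 : FibCat.IsFibGrpd 𝒮.p) {U : C} (P : ∀ y : 𝒮.obj, (𝒮.p.obj y ⟶ U) → Prop)
    (hPpre : ∀ (y' y : 𝒮.obj) (κ : y' ⟶ y) (f : 𝒮.p.obj y ⟶ U), P y f → P y' (𝒮.p.map κ ≫ f))
    {y₂ y : 𝒮.obj} (χ : y₂ ⟶ y) (f : 𝒮.p.obj y ⟶ U) :
    sieveOf h𝒮 P hPpre y f (𝒮.p.map χ) ↔ P y₂ (𝒮.p.map χ ≫ f) := by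
  constructor
  · rintro ⟨y₃, χ', hχ', hP⟩
    obtain ⟨ι, -, hιfac⟩ := exists_factor h𝒮 (𝒮.p.map χ) χ' (𝟙 _) (𝒮.p.map χ) (by simp) χ
    have := hPpre _ _ ι _ hP
    rwa [← Category.assoc, ← 𝒮.p.map_comp, hιfac] at this
  · intro h
    exact ⟨y₂, χ, inferInstance, h⟩

theorem extend_unique (h𝒮 : FibCat.IsFibGrpd 𝒮.p)
    (hfaith : ∀ ⦃U : C⦄ (R : Sieve U), R ∈ J U → (Stk.resSieve R 𝒮).Faithful)
    {U : C} (P : ∀ y : 𝒮.obj, (𝒮.p.obj y ⟶ U) → Prop)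
    (hPpre : ∀ (y' y : 𝒮.obj) (κ : y' ⟶ y) (f : 𝒮.p.obj y ⟶ U), P y f → P y' (𝒮.p.map κ ≫ f))
    (hPcov : ∀ (y : 𝒮.obj) (f : 𝒮.p.obj y ⟶ U), sieveOf h𝒮 P hPpre y f ∈ J (𝒮.p.obj y))
    (g g' : sub 𝒮 U) (h : ∀ y f, P y f → g.1 y f = g'.1 y f) : g = g' := by
  apply sub_ext
  intro y f
  apply autO_ext
  have h1 : 𝒮.p.IsHomLift (𝟙 (𝒮.p.obj y)) (g.1 y f).hom.1 := (g.1 y f).hom.2
  have h2 : 𝒮.p.IsHomLift (𝟙 (𝒮.p.obj y)) (g'.1 y f).hom.1 := (g'.1 y f).hom.2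
  apply sepJ J h𝒮 hfaith _ _ (𝟙 (𝒮.p.obj y)) (sieveOf h𝒮 P hPpre y f) (hPcov y f)
  rintro V k ⟨y₂, χ, hχ, hP⟩
  refine ⟨y₂, χ, hχ, ?_⟩
  rw [← g.2 y₂ y χ f, ← g'.2 y₂ y χ f, h _ _ hP]

theorem extend_exists (h𝒮 : FibCat.IsFibGrpd 𝒮.p)
    (hfull : ∀ ⦃U : C⦄ (R : Sieve U), R ∈ J U → (Stk.resSieve R 𝒮).Full)
    (hfaith : ∀ ⦃U : C⦄ (R : Sieve U), R ∈ J U → (Stk.resSieve R 𝒮).Faithful)
    {U : C} (P : ∀ y : 𝒮.obj, (𝒮.p.obj y ⟶ U) → Prop)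
    (hPpre : ∀ (y' y : 𝒮.obj) (κ : y' ⟶ y) (f : 𝒮.p.obj y ⟶ U), P y f → P y' (𝒮.p.map κ ≫ f))
    (hPcov : ∀ (y : 𝒮.obj) (f : 𝒮.p.obj y ⟶ U), sieveOf h𝒮 P hPpre y f ∈ J (𝒮.p.obj y))
    (a : ∀ (y : 𝒮.obj) (f : 𝒮.p.obj y ⟶ U), P y f → Gerb.AutO y)
    (hanat : ∀ (y' y : 𝒮.obj) (κ : y' ⟶ y) (f : 𝒮.p.obj y ⟶ U) (h : P y f) (h' : P y' (𝒮.p.map κ ≫ f)),
      (a y' _ h').hom.1 ≫ κ = κ ≫ (a y f h).hom.1) :
    ∃ g : sub 𝒮 U, ∀ y f (h : P y f), g.1 y f = a y f h := by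
  classical
  have a_congr : ∀ (y : 𝒮.obj) (f₁ f₂ : 𝒮.p.obj y ⟶ U) (e : f₁ = f₂) (h₁ : P y f₁) (h₂ : P y f₂),
      a y f₁ h₁ = a y f₂ h₂ := by
    intro y f₁ f₂ e h₁ h₂; subst e; rfl
  have step1 : ∀ (y : 𝒮.obj) (f : 𝒮.p.obj y ⟶ U), ∃ A : y ⟶ y, 𝒮.p.IsHomLift (𝟙 (𝒮.p.obj y)) A ∧
      ∀ (y₂ : 𝒮.obj) (χ : y₂ ⟶ y) (h : P y₂ (𝒮.p.map χ ≫ f)), χ ≫ A = (a y₂ _ h).hom.1 ≫ χ := by
    intro y f
    obtain ⟨A, hA, hfac⟩ := glue h𝒮 (x := y) (y := y) (𝟙 (𝒮.p.obj y)) (sieveOf h𝒮 P hPpre y f)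
      (hfull _ (hPcov y f))
      (fun y₂ χ hs => (a y₂ (𝒮.p.map χ ≫ f) ((sieveOf_map h𝒮 P hPpre χ f).1 hs)).hom.1 ≫ χ)
      (fun y₂ χ hs => by
        have h1 : 𝒮.p.IsHomLift (𝟙 (𝒮.p.obj y₂))
            (a y₂ (𝒮.p.map χ ≫ f) ((sieveOf_map h𝒮 P hPpre χ f).1 hs)).hom.1 :=
          (a y₂ (𝒮.p.map χ ≫ f) ((sieveOf_map h𝒮 P hPpre χ f).1 hs)).hom.2
        have : 𝒮.p.IsHomLift (𝟙 (𝒮.p.obj y₂) ≫ 𝒮.p.map χ)
            ((a y₂ (𝒮.p.map χ ≫ f) ((sieveOf_map h𝒮 P hPpre χ f).1 hs)).hom.1 ≫ χ) := inferInstance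
        simpa using this)
      (fun y₂ χ hs y₃ κ hs' => by
        have hP := (sieveOf_map h𝒮 P hPpre χ f).1 hs
        have hP' : P y₃ (𝒮.p.map κ ≫ 𝒮.p.map χ ≫ f) := hPpre _ _ κ _ hP
        have e1 := hanat y₃ y₂ κ _ hP hP'
        have e2 : a y₃ (𝒮.p.map (κ ≫ χ) ≫ f) ((sieveOf_map h𝒮 P hPpre (κ ≫ χ) f).1 hs') =
            a y₃ (𝒮.p.map κ ≫ 𝒮.p.map χ ≫ f) hP' :=
          a_congr _ _ _ (by rw [𝒮.p.map_comp, Category.assoc]) _ _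
        rw [e2, ← Category.assoc, e1, Category.assoc])
    exact ⟨A, hA, fun y₂ χ h => hfac y₂ χ ((sieveOf_map h𝒮 P hPpre χ f).2 h)⟩
  choose A hAlift hAfac using step1
  have hnat : IsNat 𝒮 U (fun y f => mkAutO h𝒮 y (A y f) (hAlift y f)) := by
    intro y' y m f
    change A y' (𝒮.p.map m ≫ f) ≫ m = m ≫ A y f
    have h1 := hAlift y' (𝒮.p.map m ≫ f)
    have h2 := hAlift y f
    have hl1 : 𝒮.p.IsHomLift (𝒮.p.map m) (A y' (𝒮.p.map m ≫ f) ≫ m) := by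
      have : 𝒮.p.IsHomLift (𝟙 _ ≫ 𝒮.p.map m) (A y' (𝒮.p.map m ≫ f) ≫ m) := inferInstance
      simpa using this
    have hl2 : 𝒮.p.IsHomLift (𝒮.p.map m) (m ≫ A y f) := by
      have : 𝒮.p.IsHomLift (𝒮.p.map m ≫ 𝟙 _) (m ≫ A y f) := inferInstance
      simpa using this
    apply sepJ J h𝒮 hfaith _ _ (𝒮.p.map m) (sieveOf h𝒮 P hPpre y' (𝒮.p.map m ≫ f)) (hPcov y' _)
    rintro V k ⟨y₂, χ, hχ, hP⟩
    refine ⟨y₂, χ, hχ, ?_⟩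
    have hP' : P y₂ (𝒮.p.map (χ ≫ m) ≫ f) := by
      rw [𝒮.p.map_comp, Category.assoc]; exact hP
    have e1 : χ ≫ A y' (𝒮.p.map m ≫ f) = (a y₂ _ hP).hom.1 ≫ χ := hAfac y' _ y₂ χ hP
    have e2 : (χ ≫ m) ≫ A y f = (a y₂ _ hP').hom.1 ≫ χ ≫ m := hAfac y f y₂ (χ ≫ m) hP'
    have e3 : a y₂ _ hP = a y₂ _ hP' := a_congr y₂ _ _ (by rw [𝒮.p.map_comp, Category.assoc]) hP hP'
    calc χ ≫ A y' (𝒮.p.map m ≫ f) ≫ m = (χ ≫ A y' (𝒮.p.map m ≫ f)) ≫ m := (Category.assoc _ _ _).symm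
      _ = ((a y₂ _ hP).hom.1 ≫ χ) ≫ m := by rw [e1]
      _ = (a y₂ _ hP').hom.1 ≫ χ ≫ m := by rw [e3]; exact Category.assoc _ _ _
      _ = (χ ≫ m) ≫ A y f := e2.symm
      _ = χ ≫ m ≫ A y f := Category.assoc _ _ _
  refine ⟨⟨fun y f => mkAutO h𝒮 y (A y f) (hAlift y f), hnat⟩, fun y f h => ?_⟩
  apply autO_ext
  change A y f = (a y f h).hom.1
  have hP : P y (𝒮.p.map (𝟙 y) ≫ f) := by
    rw [𝒮.p.map_id, Category.id_comp]; exact h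
  have := hAfac y f y (𝟙 y) hP
  rw [Category.id_comp, Category.comp_id] at this
  rw [this, a_congr y _ _ (by rw [𝒮.p.map_id, Category.id_comp]) hP h]

end Extend

end Groth.Agent.Lib.helper4.Band
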