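import Groth.Agent.Lib.Helper4.Band
set_option autoImplicit false
set_option backward.isDefEq.respectTransparency false
set_option backward.isDefEq.respectTransparency.types false
set_option linter.unusedSectionVars false
set_option linter.style.haveILetI false
open CategoryTheory CategoryTheory.Functor CategoryTheory.Limits Opposite
universe v₄ u₄ v₃ u₃ v₂ u₂ v u

/-! The band presheaf of a prestack is a sheaf; for a gerbe with commutative automorphism groups the evaluation maps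
are isomorphisms (a banding). -/

namespace Groth.Agent.Lib.helper4.Band
open Groth.Agent.FibEquiv Groth.Agent.FibFiberwise Groth.Agent.FibFpProj Groth.Agent.FibYoneda
open Groth.Agent.Lib.helper4.Descent Groth.Agent.Lib.helper4.GerbLocal Groth.Agent.Lib.helper4.GerbFF

variable {C : Type u} [Category.{v} C] (J : GrothendieckTopology C)

section SheafCond

variable {𝒮 : BasedCategory.{v₂, u₂} C}

/-- the sheaf condition for the band presheaf, in elementary form -/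
theorem band_glue (h𝒮 : FibCat.IsFibGrpd 𝒮.p)
    (hfull : ∀ ⦃U : C⦄ (R : Sieve U), R ∈ J U → (Stk.resSieve R 𝒮).Full)
    (hfaith : ∀ ⦃U : C⦄ (R : Sieve U), R ∈ J U → (Stk.resSieve R 𝒮).Faithful)
    {U : C} (R₀ : Sieve U) (hR₀ : R₀ ∈ J U)
    (x : ∀ ⦃V : C⦄ (f : V ⟶ U), R₀ f → sub 𝒮 V)
    (hx : ∀ ⦃V W : C⦄ (f : V ⟶ U) (k : W ⟶ V) (hf : R₀ f), x (k ≫ f) (R₀.downward_closed hf k) = res k (x f hf)) :
    ∃! g : sub 𝒮 U, ∀ ⦃V : C⦄ (f : V ⟶ U) (hf : R₀ f), res f g = x f hf := by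
  classical
  have x_congr : ∀ {V : C} (f₁ f₂ : V ⟶ U) (e : f₁ = f₂) (h₁ : R₀ f₁) (h₂ : R₀ f₂), x f₁ h₁ = x f₂ h₂ := by
    intro V f₁ f₂ e h₁ h₂; subst e; rfl
  let P : ∀ y : 𝒮.obj, (𝒮.p.obj y ⟶ U) → Prop := fun y f => R₀ f
  have hPpre : ∀ (y' y : 𝒮.obj) (κ : y' ⟶ y) (f : 𝒮.p.obj y ⟶ U), P y f → P y' (𝒮.p.map κ ≫ f) :=
    fun y' y κ f h => R₀.downward_closed h _
  have hPcov : ∀ (y : 𝒮.obj) (f : 𝒮.p.obj y ⟶ U), sieveOf h𝒮 P hPpre y f ∈ J (𝒮.p.obj y) := by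
    intro y f
    refine J.superset_covering ?_ (J.pullback_stable f hR₀)
    intro V k hk
    obtain ⟨y₂, χ, hχ⟩ := h𝒮.exists_lift (x := y) k
    refine ⟨y₂, χ, hχ, ?_⟩
    have hV : 𝒮.p.obj y₂ = V := IsHomLift.domain_eq 𝒮.p k χ
    subst hV
    have : 𝒮.p.map χ = k := by simpa using IsHomLift.fac' 𝒮.p k χ
    change R₀ (𝒮.p.map χ ≫ f)
    rw [this]; exact hk
  let a : ∀ (y : 𝒮.obj) (f : 𝒮.p.obj y ⟶ U), P y f → Gerb.AutO y := fun y f h => (x f h).1 y (𝟙 _)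
  have hanat : ∀ (y' y : 𝒮.obj) (κ : y' ⟶ y) (f : 𝒮.p.obj y ⟶ U) (h : P y f) (h' : P y' (𝒮.p.map κ ≫ f)),
      (a y' _ h').hom.1 ≫ κ = κ ≫ (a y f h).hom.1 := by
    intro y' y κ f h h'
    have e1 : x (𝒮.p.map κ ≫ f) h' = res (𝒮.p.map κ) (x f h) := hx f (𝒮.p.map κ) h
    have e2 : (x (𝒮.p.map κ ≫ f) h').1 y' (𝟙 _) = (x f h).1 y' (𝒮.p.map κ ≫ 𝟙 _) := by
      rw [e1, res_apply, Category.id_comp, Category.comp_id]
    change ((x (𝒮.p.map κ ≫ f) h').1 y' (𝟙 _)).hom.1 ≫ κ = κ ≫ ((x f h).1 y (𝟙 _)).hom.1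
    rw [e2]
    exact (x f h).2 y' y κ (𝟙 _)
  obtain ⟨g, hg⟩ := extend_exists J h𝒮 hfull hfaith P hPpre hPcov a hanat
  refine ⟨g, ?_, ?_⟩
  · intro V f hf
    apply sub_ext
    intro y' f'
    have hP : P y' (f' ≫ f) := R₀.downward_closed hf f'
    rw [res_apply, hg y' (f' ≫ f) hP]
    change (x (f' ≫ f) hP).1 y' (𝟙 _) = (x f hf).1 y' f'
    rw [hx f f' hf, res_apply, Category.id_comp]
  · intro g' hg'
    apply extend_unique J h𝒮 hfaith P hPpre hPcov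
    intro y f h
    rw [hg y f h]
    change g'.1 y f = (x f h).1 y (𝟙 _)
    rw [← hg' f h, res_apply, Category.id_comp]

end SheafCond

section Sheaf

variable {𝒮 : BasedCategory.{v, max u v} C}

theorem bandPsh_isSheaf (h𝒮 : FibCat.IsFibGrpd 𝒮.p)
    (hfull : ∀ ⦃U : C⦄ (R : Sieve U), R ∈ J U → (Stk.resSieve R 𝒮).Full)
    (hfaith : ∀ ⦃U : C⦄ (R : Sieve U), R ∈ J U → (Stk.resSieve R 𝒮).Faithful) :
    Presheaf.IsSheaf J (bandPsh 𝒮) := by
  rw [Presheaf.isSheaf_iff_isSheaf_forget J (bandPsh 𝒮) (forget GrpCat), isSheaf_iff_isSheaf_of_type]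
  intro U R₀ hR₀ x hx
  have hx' := (Presieve.compatible_iff_sieveCompatible x).1 hx
  obtain ⟨g, hg, huniq⟩ := band_glue J h𝒮 hfull hfaith R₀ hR₀ (fun V f hf => (x f hf : sub 𝒮 V))
    (fun V W f k hf => hx' f k hf)
  exact ⟨g, fun V f hf => hg f hf, fun g' hg' => huniq g' (fun V f hf => hg' f hf)⟩

end Sheaf

end Groth.Agent.Lib.helper4.Band
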