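import Groth.Agent.Lib.Helper4.Band2
set_option autoImplicit false
set_option backward.isDefEq.respectTransparency false
set_option backward.isDefEq.respectTransparency.types false
set_option linter.unusedSectionVars false
set_option linter.style.haveILetI false
open CategoryTheory CategoryTheory.Functor CategoryTheory.Limits Opposite
universe v₄ u₄ v₃ u₃ v₂ u₂ v u

/-! Evaluation `sub 𝒮 (p x) →* AutO x` is an isomorphism for a gerbe with commutative automorphism groups. -/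

namespace Groth.Agent.Lib.helper4.Band
open Groth.Agent.FibEquiv Groth.Agent.FibFiberwise Groth.Agent.FibFpProj Groth.Agent.FibYoneda
open Groth.Agent.Lib.helper4.Descent Groth.Agent.Lib.helper4.GerbLocal Groth.Agent.Lib.helper4.GerbFF

variable {C : Type u} [Category.{v} C] (J : GrothendieckTopology C) {𝒮 : BasedCategory.{v₂, u₂} C}

/-- evaluation at an object -/
def ev (x : 𝒮.obj) : sub 𝒮 (𝒮.p.obj x) →* Gerb.AutO x where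
  toFun g := g.1 x (𝟙 _)
  map_one' := rfl
  map_mul' _ _ := rfl

theorem map_eq_of_isHomLift {y x : 𝒮.obj} (f : 𝒮.p.obj y ⟶ 𝒮.p.obj x) (m : y ⟶ x) [𝒮.p.IsHomLift f m] :
    𝒮.p.map m = f := by
  simpa using IsHomLift.fac' 𝒮.p f m

/-- the property "maps to `x` over `f`" -/
def toX (x : 𝒮.obj) : ∀ y : 𝒮.obj, (𝒮.p.obj y ⟶ 𝒮.p.obj x) → Prop :=
  fun y f => ∃ m : y ⟶ x, 𝒮.p.IsHomLift f m

theorem toX_pre (x : 𝒮.obj) (y' y : 𝒮.obj) (κ : y' ⟶ y) (f : 𝒮.p.obj y ⟶ 𝒮.p.obj x) (h : toX x y f) :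
    toX x y' (𝒮.p.map κ ≫ f) := by
  obtain ⟨m, hm⟩ := h
  exact ⟨κ ≫ m, inferInstance⟩

theorem toX_cov (h𝒮 : Gerb.IsGerbe J 𝒮) (x : 𝒮.obj) (y : 𝒮.obj) (f : 𝒮.p.obj y ⟶ 𝒮.p.obj x) :
    sieveOf h𝒮.1.1 (toX x) (toX_pre x) y f ∈ J (𝒮.p.obj y) := by
  have hfg := h𝒮.1.1
  obtain ⟨xf, ξ, hξ⟩ := hfg.exists_lift (x := x) f
  have hxf : 𝒮.p.obj xf = 𝒮.p.obj y := IsHomLift.domain_eq 𝒮.p f ξ
  have hb : (FibCat.selfOver C).p.IsHomLift (𝟙 (𝒮.p.obj y))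
      (eqToHom hxf.symm : (FibCat.toSelf 𝒮).obj y ⟶ (FibCat.toSelf 𝒮).obj xf) :=
    IsHomLift.of_fac' _ _ _ rfl hxf (by simp [eqToHom_map])
  obtain ⟨R, hR, hloc⟩ := h𝒮.2.2 y xf (eqToHom hxf.symm) hb
  refine J.superset_covering ?_ hR
  intro V k hk
  obtain ⟨y₀, a₁, a₂, h1, h2, -⟩ := hloc k hk
  refine ⟨y₀, a₁, h1, a₂ ≫ ξ, ?_⟩
  have hV : 𝒮.p.obj y₀ = V := IsHomLift.domain_eq 𝒮.p k a₁
  subst hV
  have : 𝒮.p.map a₁ = k := map_eq_of_isHomLift k a₁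
  rw [this]
  infer_instance

theorem ev_injective (h𝒮 : Gerb.IsGerbe J 𝒮) (x : 𝒮.obj) : Function.Injective (ev (𝒮 := 𝒮) x) := by
  intro g g' hgg
  have hfg := h𝒮.1.1
  apply extend_unique J hfg (faithful_of_isStack J h𝒮.1) (toX x) (toX_pre x) (toX_cov J h𝒮 x)
  rintro y f ⟨m, hm⟩
  apply autO_ext
  have h1 : 𝒮.p.IsHomLift (𝟙 (𝒮.p.obj y)) (g.1 y f).hom.1 := (g.1 y f).hom.2
  have h2 : 𝒮.p.IsHomLift (𝟙 (𝒮.p.obj y)) (g'.1 y f).hom.1 := (g'.1 y f).hom.2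
  apply cancel_right hfg m (𝟙 (𝒮.p.obj y))
  have hpm : 𝒮.p.map m ≫ 𝟙 _ = f := by rw [Category.comp_id]; exact map_eq_of_isHomLift f m
  have e1 := g.2 y x m (𝟙 _)
  have e2 := g'.2 y x m (𝟙 _)
  rw [hpm] at e1 e2
  have e3 : (g.1 x (𝟙 _)) = (g'.1 x (𝟙 _)) := hgg
  rw [e1, e2, e3]

theorem ev_surjective (h𝒮 : Gerb.IsGerbe J 𝒮)
    (hcomm : ∀ (y : 𝒮.obj) (α β : Gerb.AutO y), α * β = β * α) (x : 𝒮.obj) :
    Function.Surjective (ev (𝒮 := 𝒮) x) := by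
  classical
  intro α
  have hfg := h𝒮.1.1
  have hα : 𝒮.p.IsHomLift (𝟙 (𝒮.p.obj x)) α.hom.1 := α.hom.2
  -- pullback of α along a morphism to x
  have hpbex : ∀ {y : 𝒮.obj} (m : y ⟶ x), ∃ r : y ⟶ y, 𝒮.p.IsHomLift (𝟙 (𝒮.p.obj y)) r ∧ r ≫ m = m ≫ α.hom.1 := by
    intro y m
    have : 𝒮.p.IsHomLift (𝒮.p.map m ≫ 𝟙 _) (m ≫ α.hom.1) := inferInstance
    exact exists_factor hfg (𝒮.p.map m) m (𝟙 _) (𝒮.p.map m ≫ 𝟙 _) (by simp) (m ≫ α.hom.1)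
  let pb : ∀ {y : 𝒮.obj} (m : y ⟶ x), y ⟶ y := fun m => (hpbex m).choose
  have pb_lift : ∀ {y : 𝒮.obj} (m : y ⟶ x), 𝒮.p.IsHomLift (𝟙 (𝒮.p.obj y)) (pb m) := fun m =>
    (hpbex m).choose_spec.1
  have pb_fac : ∀ {y : 𝒮.obj} (m : y ⟶ x), pb m ≫ m = m ≫ α.hom.1 := fun m => (hpbex m).choose_spec.2
  have pb_uniq : ∀ {y : 𝒮.obj} (m : y ⟶ x) (r : y ⟶ y), 𝒮.p.IsHomLift (𝟙 (𝒮.p.obj y)) r →
      r ≫ m = m ≫ α.hom.1 → r = pb m := by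
    intro y m r hr hrm
    have := pb_lift m
    apply cancel_right hfg m (𝟙 (𝒮.p.obj y))
    rw [hrm, pb_fac]
  have pb_indep : ∀ {y : 𝒮.obj} (m m' : y ⟶ x), 𝒮.p.map m = 𝒮.p.map m' → pb m' = pb m := by
    intro y m m' hmm
    have hm' : 𝒮.p.IsHomLift (𝒮.p.map m) m' := by rw [hmm]; infer_instance
    obtain ⟨w, hw, hwm⟩ := exists_factor hfg (𝒮.p.map m) m (𝟙 _) (𝒮.p.map m) (by simp) m'
    have hwiso : IsIso w := isIso_of_lift hfg (𝟙 (𝒮.p.obj y)) w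
    have h1 := pb_lift m
    have h2 := pb_lift m'
    have e1 : pb m' ≫ w = w ≫ pb m := by
      have hl1 : 𝒮.p.IsHomLift (𝟙 (𝒮.p.obj y)) (pb m' ≫ w) := by
        have : 𝒮.p.IsHomLift (𝟙 (𝒮.p.obj y) ≫ 𝟙 (𝒮.p.obj y)) (pb m' ≫ w) := inferInstance
        simpa using this
      have hl2 : 𝒮.p.IsHomLift (𝟙 (𝒮.p.obj y)) (w ≫ pb m) := by
        have : 𝒮.p.IsHomLift (𝟙 (𝒮.p.obj y) ≫ 𝟙 (𝒮.p.obj y)) (w ≫ pb m) := inferInstance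
        simpa using this
      apply cancel_right hfg m (𝟙 (𝒮.p.obj y))
      rw [Category.assoc, hwm, pb_fac, ← hwm, Category.assoc, Category.assoc, pb_fac]
    have e2 : w ≫ pb m = pb m ≫ w := by
      have := hcomm y (mkAutO hfg y (pb m) h1) (mkAutO hfg y w hw)
      have := congrArg (fun t => t.hom.1) this
      simpa [autO_mul_hom, mkAutO_hom] using this
    rw [e2] at e1
    exact (cancel_mono w).1 e1
  have pb_nat : ∀ {y' y : 𝒮.obj} (κ : y' ⟶ y) (m : y ⟶ x), pb (κ ≫ m) ≫ κ = κ ≫ pb m := by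
    intro y' y κ m
    have h1 := pb_lift m
    have h2 := pb_lift (κ ≫ m)
    have hl1 : 𝒮.p.IsHomLift (𝒮.p.map κ) (pb (κ ≫ m) ≫ κ) := by
      have : 𝒮.p.IsHomLift (𝟙 _ ≫ 𝒮.p.map κ) (pb (κ ≫ m) ≫ κ) := inferInstance
      simpa using this
    have hl2 : 𝒮.p.IsHomLift (𝒮.p.map κ) (κ ≫ pb m) := by
      have : 𝒮.p.IsHomLift (𝒮.p.map κ ≫ 𝟙 _) (κ ≫ pb m) := inferInstance
      simpa using this
    apply cancel_right hfg m (𝒮.p.map κ)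
    rw [Category.assoc, pb_fac, Category.assoc, Category.assoc, pb_fac]
  let a : ∀ (y : 𝒮.obj) (f : 𝒮.p.obj y ⟶ 𝒮.p.obj x), toX x y f → Gerb.AutO y := fun y f h =>
    mkAutO hfg y (pb h.choose) (pb_lift _)
  have hanat : ∀ (y' y : 𝒮.obj) (κ : y' ⟶ y) (f : 𝒮.p.obj y ⟶ 𝒮.p.obj x) (h : toX x y f)
      (h' : toX x y' (𝒮.p.map κ ≫ f)), (a y' _ h').hom.1 ≫ κ = κ ≫ (a y f h).hom.1 := by
    intro y' y κ f h h'
    change pb h'.choose ≫ κ = κ ≫ pb h.choose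
    have h1 : 𝒮.p.IsHomLift (𝒮.p.map κ ≫ f) h'.choose := h'.choose_spec
    have h2 : 𝒮.p.IsHomLift f h.choose := h.choose_spec
    have h3 : 𝒮.p.IsHomLift (𝒮.p.map κ ≫ f) (κ ≫ h.choose) := inferInstance
    have e1 : pb h'.choose = pb (κ ≫ h.choose) :=
      pb_indep (κ ≫ h.choose) h'.choose
        ((map_eq_of_isHomLift (𝒮.p.map κ ≫ f) (κ ≫ h.choose)).trans
          (map_eq_of_isHomLift (𝒮.p.map κ ≫ f) h'.choose).symm)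
    rw [e1, pb_nat]
  obtain ⟨g, hg⟩ := extend_exists J hfg (full_of_isStack J h𝒮.1) (faithful_of_isStack J h𝒮.1) (toX x) (toX_pre x)
    (toX_cov J h𝒮 x) a hanat
  refine ⟨g, ?_⟩
  have hid : toX x x (𝟙 (𝒮.p.obj x)) := ⟨𝟙 x, IsHomLift.id rfl⟩
  change g.1 x (𝟙 _) = α
  rw [hg x (𝟙 _) hid]
  apply autO_ext
  change pb hid.choose = α.hom.1
  have h1 : 𝒮.p.IsHomLift (𝟙 (𝒮.p.obj x)) hid.choose := hid.choose_spec
  have e1 : pb hid.choose = pb (𝟙 x) :=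
    pb_indep (𝟙 x) hid.choose ((𝒮.p.map_id x).trans (map_eq_of_isHomLift (𝟙 _) hid.choose).symm)
  rw [e1]
  exact (pb_uniq (𝟙 x) α.hom.1 hα (by rw [Category.comp_id, Category.id_comp])).symm

end Groth.Agent.Lib.helper4.Band
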