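import Mathlib
import Groth.Prelude.Def_NonAbH2
import Groth.Agent.Lib.Helper4.TorsorDesc
import Groth.Agent.Lib.Helper4.ExactH1
import Groth.Agent.Lib.Helper4.QuotSectionSch

/-!
# Extensions of group schemes: centrality and commutativity criteria (helper4)

For a sequence `1 → G → E → P → 1` of `S`-group schemes exact for the fppf topology (`NonAbH1.IsExactSeq`) with `G` commutative:

* `central_of_exact`: if every morphism `P ⊗ G ⟶ G` trivial on both axes is trivial, then `u(G)` is central in `E`.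
* `comm_of_exact`: if moreover `P` is commutative and every morphism `P ⊗ P ⟶ G` trivial on both axes is trivial, then `E` is
  commutative.
-/

set_option autoImplicit false
universe u
open CategoryTheory CategoryTheory.Limits MonoidalCategory CartesianMonoidalCategory MonObj GrpObj AlgebraicGeometry

namespace Groth.Agent.Lib.Helper4.CentralExt

open Groth.Agent.Lib.Helper4.ExactH1

section general

theorem isPullback_whiskerRight {C : Type*} [Category C] [CartesianMonoidalCategory C] (G : C) {A B : C}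
    (f : A ⟶ B) : IsPullback (f ▷ G) (fst A G) (fst B G) f := by
  refine ⟨⟨whiskerRight_fst _ _⟩, ⟨PullbackCone.IsLimit.mk _ (fun s => lift s.snd (s.fst ≫ snd B G)) ?_ ?_ ?_⟩⟩
  · intro s
    apply CartesianMonoidalCategory.hom_ext
    · rw [Category.assoc, whiskerRight_fst, lift_fst_assoc, s.condition]
    · rw [Category.assoc, whiskerRight_snd, lift_snd]
  · intro s
    exact lift_fst _ _
  · intro s m h1 h2
    apply CartesianMonoidalCategory.hom_ext
    · rw [lift_fst, h2]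
    · rw [lift_snd, ← h1, Category.assoc, whiskerRight_snd]

theorem comm_mul_central_left {H : Type*} [Group H] (x y a : H) (ha : ∀ z, a * z = z * a) :
    (x * a) * y * (x * a)⁻¹ * y⁻¹ = x * y * x⁻¹ * y⁻¹ := by
  have h : a * y * a⁻¹ = y := by rw [ha y, mul_inv_cancel_right]
  calc (x * a) * y * (x * a)⁻¹ * y⁻¹ = x * (a * y * a⁻¹) * x⁻¹ * y⁻¹ := by group
    _ = x * y * x⁻¹ * y⁻¹ := by rw [h]

theorem comm_mul_central_right {H : Type*} [Group H] (x y b : H) (hb : ∀ z, b * z = z * b) :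
    x * (y * b) * x⁻¹ * (y * b)⁻¹ = x * y * x⁻¹ * y⁻¹ := by
  have h : b * x⁻¹ * b⁻¹ = x⁻¹ := by rw [hb, mul_inv_cancel_right]
  calc x * (y * b) * x⁻¹ * (y * b)⁻¹ = x * y * (b * x⁻¹ * b⁻¹) * y⁻¹ := by group
    _ = x * y * x⁻¹ * y⁻¹ := by rw [h]

end general

variable {S : Scheme.{u}} {P G E : Over S} [GrpObj P] [GrpObj G] [GrpObj E]

/-- Base change of local sections to `- ⊗ G`. -/
theorem isLocallyTrivialFor_whiskerRight {A Y : Over S} (j : A ⟶ Y) (G : Over S) (K : Precoverage Scheme.{u})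
    [K.IsStableUnderBaseChange] (hloc : NonAbH1.IsLocallyTrivialFor K (Over.mk j.left : Over Y.left)) :
    NonAbH1.IsLocallyTrivialFor K (Over.mk (j ▷ G).left : Over (Y ⊗ G).left) := by
  have sq : IsPullback (j ▷ G).left (fst A G).left (fst Y G).left j.left :=
    (isPullback_whiskerRight G j).map (Over.forget S)
  exact TorsorGeomQuot.isLocallyTrivialFor_of_isPullback K sq hloc

variable (u : G ⟶ E) (v : E ⟶ P)

section pts

variable [IsMonHom u] [IsMonHom v] (huv : u ≫ v = 1) (hpb : IsPullback (fst E G) ((E ◁ u) ≫ μ[E]) v v)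

include huv hpb in
/-- Points of `E` killed by `v` come from `G`. -/
theorem exists_of_comp_eq_one {T : Over S} (e : T ⟶ E) (he : e ≫ v = 1) : ∃ g : T ⟶ G, g ≫ u = e := by
  obtain ⟨g, hg, -⟩ := existsUnique_of_exact u v hpb (1 : T ⟶ E) e (by rw [MonObj.one_comp, he])
  exact ⟨g, by rw [hg, _root_.one_mul]⟩

include huv hpb in
/-- A morphism to `E` killed by `v` factors through `u`. -/
theorem exists_factor {A : Over S} (w : A ⟶ E) (hw : w ≫ v = 1) : ∃ c : A ⟶ G, c ≫ u = w :=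
  exists_of_comp_eq_one u v huv hpb w hw

end pts

/-- **Centrality criterion.** -/
theorem central_of_exact [IsCommMonObj G] (hex : NonAbH1.IsExactSeq Scheme.fppfPrecoverage u v)
    (hPG : ∀ f : P ⊗ G ⟶ G, lift (𝟙 P) (toUnit P ≫ η[G]) ≫ f = 1 → lift (toUnit G ≫ η[P]) (𝟙 G) ≫ f = 1 → f = 1)
    (T : Over S) (g : T ⟶ G) (x : T ⟶ E) : (g ≫ u) * x = x * (g ≫ u) := by
  obtain ⟨hu, hv, huv, hpb, hloc⟩ := hex
  have hloc' : NonAbH1.IsLocallyTrivialFor Scheme.fpqcPrecoverage (Over.mk v.left : Over P.left) :=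
    QuotSectionSch.isLocallyTrivialFor_mono Scheme.fppfPrecoverage_le_fpqcPrecoverage _ hloc
  have hinj : ∀ {T : Over S} (g₁ g₂ : T ⟶ G), g₁ ≫ u = g₂ ≫ u → g₁ = g₂ := fun g₁ g₂ h =>
    u_inj_pt u v huv hpb g₁ g₂ h
  -- the conjugation map
  obtain ⟨c, hc⟩ := exists_factor u v huv hpb ((fst E G) * (snd E G ≫ u) * (fst E G)⁻¹) (by
    rw [MonObj.mul_comp, MonObj.mul_comp, GrpObj.inv_comp, Category.assoc, huv, MonObj.comp_one, _root_.mul_one,
      mul_inv_cancel])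
  have hcp : ∀ {T : Over S} (x : T ⟶ E) (g : T ⟶ G), (lift x g ≫ c) ≫ u = x * (g ≫ u) * x⁻¹ := by
    intro T x g
    rw [Category.assoc, hc, MonObj.comp_mul, MonObj.comp_mul, GrpObj.comp_inv, lift_fst, lift_snd_assoc]
  -- invariance
  have hinv : ∀ (T : Over S) (x₁ x₂ : T ⟶ E ⊗ G), x₁ ≫ (v ▷ G) = x₂ ≫ (v ▷ G) → x₁ ≫ c = x₂ ≫ c := by
    intro T x₁ x₂ hx
    have h1 : (x₁ ≫ fst E G) ≫ v = (x₂ ≫ fst E G) ≫ v := by
      have := congrArg (fun m => m ≫ fst P G) hx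
      simpa only [Category.assoc, whiskerRight_fst] using this
    have h2 : x₁ ≫ snd E G = x₂ ≫ snd E G := by
      have := congrArg (fun m => m ≫ snd P G) hx
      simpa only [Category.assoc, whiskerRight_snd] using this
    obtain ⟨g', hg', -⟩ := existsUnique_of_exact u v hpb (x₁ ≫ fst E G) (x₂ ≫ fst E G) h1
    apply hinj
    have e1 : x₁ = lift (x₁ ≫ fst E G) (x₁ ≫ snd E G) := by
      apply CartesianMonoidalCategory.hom_ext <;> simp
    have e2 : x₂ = lift (x₂ ≫ fst E G) (x₁ ≫ snd E G) := by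
      rw [h2]; apply CartesianMonoidalCategory.hom_ext <;> simp
    rw [e1, e2, hcp, hcp, hg']
    have hcomm : (g' ≫ u) * ((x₁ ≫ snd E G) ≫ u) * (g' ≫ u)⁻¹ = (x₁ ≫ snd E G) ≫ u := by
      rw [← GrpObj.inv_comp, ← MonObj.mul_comp, ← MonObj.mul_comp, _root_.mul_comm g', mul_inv_cancel_right]
    calc (x₁ ≫ fst E G) * ((x₁ ≫ snd E G) ≫ u) * (x₁ ≫ fst E G)⁻¹
        = (x₁ ≫ fst E G) * ((g' ≫ u) * ((x₁ ≫ snd E G) ≫ u) * (g' ≫ u)⁻¹) * (x₁ ≫ fst E G)⁻¹ := by rw [hcomm]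
      _ = (x₁ ≫ fst E G) * (g' ≫ u) * ((x₁ ≫ snd E G) ≫ u) * ((x₁ ≫ fst E G) * (g' ≫ u))⁻¹ := by group
  have hlocG := isLocallyTrivialFor_whiskerRight v G Scheme.fpqcPrecoverage hloc'
  obtain ⟨cb, hcb, -⟩ := TorsorDesc.existsUnique_desc (v ▷ G) hlocG c hinv
  have hepi : Epi v := TorsorDesc.epi_of_isLocallyTrivialFor v hloc'
  -- the two axes
  have hone : (toUnit P ≫ η[G] : P ⟶ G) = 1 := (Hom.one_def).symm
  have honeP : (toUnit G ≫ η[P] : G ⟶ P) = 1 := (Hom.one_def).symm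
  have hax1 : lift (𝟙 P) (1 : P ⟶ G) ≫ cb = 1 := by
    rw [← cancel_epi v, MonObj.comp_one, ← Category.assoc, comp_lift, Category.comp_id, MonObj.comp_one]
    have e : lift v (1 : E ⟶ G) = lift (𝟙 E) (1 : E ⟶ G) ≫ (v ▷ G) := by
      rw [lift_whiskerRight, Category.id_comp]
    rw [e, Category.assoc, hcb]
    apply hinj
    rw [hcp, MonObj.one_comp, _root_.mul_one, mul_inv_cancel]
  have hax2 : lift (1 : G ⟶ P) (𝟙 G) ≫ cb = 𝟙 G := by
    have e : lift (1 : G ⟶ P) (𝟙 G) = lift (1 : G ⟶ E) (𝟙 G) ≫ (v ▷ G) := by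
      rw [lift_whiskerRight, MonObj.one_comp]
    rw [e, Category.assoc, hcb]
    apply hinj
    rw [hcp, inv_one, _root_.mul_one, _root_.one_mul]
  have hf := hPG (cb * (snd P G)⁻¹) (by
    rw [hone, MonObj.comp_mul, GrpObj.comp_inv, lift_snd, hax1, inv_one, _root_.mul_one]) (by
    rw [honeP, MonObj.comp_mul, GrpObj.comp_inv, lift_snd, hax2, mul_inv_cancel])
  have hcb' : cb = snd P G := by rwa [mul_inv_eq_one] at hf
  have hc' : c = snd E G := by rw [← hcb, hcb', whiskerRight_snd]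
  have key := hcp x g
  rw [hc', lift_snd] at key
  calc (g ≫ u) * x = (x * (g ≫ u) * x⁻¹) * x := by rw [← key]
    _ = x * (g ≫ u) := inv_mul_cancel_right _ _

/-- **Commutativity criterion.** -/
theorem comm_of_exact [IsCommMonObj G] [IsCommMonObj P] (hex : NonAbH1.IsExactSeq Scheme.fppfPrecoverage u v)
    (hcent : ∀ (T : Over S) (g : T ⟶ G) (x : T ⟶ E), (g ≫ u) * x = x * (g ≫ u))
    (hPP : ∀ f : P ⊗ P ⟶ G, lift (𝟙 P) (toUnit P ≫ η[P]) ≫ f = 1 → lift (toUnit P ≫ η[P]) (𝟙 P) ≫ f = 1 → f = 1)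
    (T : Over S) (x y : T ⟶ E) : x * y = y * x := by
  obtain ⟨hu, hv, huv, hpb, hloc⟩ := hex
  have hloc' : NonAbH1.IsLocallyTrivialFor Scheme.fpqcPrecoverage (Over.mk v.left : Over P.left) :=
    QuotSectionSch.isLocallyTrivialFor_mono Scheme.fppfPrecoverage_le_fpqcPrecoverage _ hloc
  have hinj : ∀ {T : Over S} (g₁ g₂ : T ⟶ G), g₁ ≫ u = g₂ ≫ u → g₁ = g₂ := fun g₁ g₂ h =>
    u_inj_pt u v huv hpb g₁ g₂ h
  -- the commutator map
  obtain ⟨κ, hκ⟩ := exists_factor u v huv hpb ((fst E E) * (snd E E) * (fst E E)⁻¹ * (snd E E)⁻¹) (by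
    rw [MonObj.mul_comp, MonObj.mul_comp, MonObj.mul_comp, GrpObj.inv_comp, GrpObj.inv_comp,
      _root_.mul_comm (fst E E ≫ v), mul_inv_cancel_right, mul_inv_cancel])
  have hκp : ∀ {T : Over S} (x y : T ⟶ E), (lift x y ≫ κ) ≫ u = x * y * x⁻¹ * y⁻¹ := by
    intro T x y
    rw [Category.assoc, hκ, MonObj.comp_mul, MonObj.comp_mul, MonObj.comp_mul, GrpObj.comp_inv, GrpObj.comp_inv,
      lift_fst, lift_snd]
  have hκl : ∀ {T : Over S} (x y : T ⟶ E) (g : T ⟶ G), lift (x * (g ≫ u)) y ≫ κ = lift x y ≫ κ := by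
    intro T x y g
    apply hinj
    rw [hκp, hκp]
    exact comm_mul_central_left x y (g ≫ u) (fun z => hcent T g z)
  have hκr : ∀ {T : Over S} (x y : T ⟶ E) (g : T ⟶ G), lift x (y * (g ≫ u)) ≫ κ = lift x y ≫ κ := by
    intro T x y g
    apply hinj
    rw [hκp, hκp]
    exact comm_mul_central_right x y (g ≫ u) (fun z => hcent T g z)
  -- first descent, along `v ▷ E`
  have hinv1 : ∀ (T : Over S) (x₁ x₂ : T ⟶ E ⊗ E), x₁ ≫ (v ▷ E) = x₂ ≫ (v ▷ E) → x₁ ≫ κ = x₂ ≫ κ := by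
    intro T x₁ x₂ hx
    have h1 : (x₁ ≫ fst E E) ≫ v = (x₂ ≫ fst E E) ≫ v := by
      have := congrArg (fun m => m ≫ fst P E) hx
      simpa only [Category.assoc, whiskerRight_fst] using this
    have h2 : x₁ ≫ snd E E = x₂ ≫ snd E E := by
      have := congrArg (fun m => m ≫ snd P E) hx
      simpa only [Category.assoc, whiskerRight_snd] using this
    obtain ⟨g', hg', -⟩ := existsUnique_of_exact u v hpb (x₁ ≫ fst E E) (x₂ ≫ fst E E) h1
    have e1 : x₁ = lift (x₁ ≫ fst E E) (x₁ ≫ snd E E) := by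
      apply CartesianMonoidalCategory.hom_ext <;> simp
    have e2 : x₂ = lift (x₂ ≫ fst E E) (x₁ ≫ snd E E) := by
      rw [h2]; apply CartesianMonoidalCategory.hom_ext <;> simp
    rw [e1, e2, hg', hκl]
  have hlocE := isLocallyTrivialFor_whiskerRight v E Scheme.fpqcPrecoverage hloc'
  obtain ⟨κ₁, hκ₁, -⟩ := TorsorDesc.existsUnique_desc (v ▷ E) hlocE κ hinv1
  -- second descent, along `P ◁ v`
  have hm : lift (fst (P ⊗ E) G ≫ fst P E) ((fst (P ⊗ E) G ≫ snd P E) * (snd (P ⊗ E) G ≫ u)) ≫ κ₁ =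
      fst (P ⊗ E) G ≫ κ₁ := by
    have hepi2 : Epi ((v ▷ E) ▷ G) :=
      TorsorDesc.epi_of_isLocallyTrivialFor _ (isLocallyTrivialFor_whiskerRight (v ▷ E) G _ hlocE)
    rw [← cancel_epi ((v ▷ E) ▷ G)]
    apply AlgGrp.Action.hom_ext_lift₂
    intro T w g
    have ew : w = lift (w ≫ fst E E) (w ≫ snd E E) := by
      apply CartesianMonoidalCategory.hom_ext <;> simp
    have e3 : lift w g ≫ ((v ▷ E) ▷ G) ≫ fst (P ⊗ E) G ≫ κ₁ = w ≫ κ := by
      rw [lift_whiskerRight_assoc, lift_fst_assoc, Category.assoc, hκ₁]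
    have e4 : lift w g ≫ ((v ▷ E) ▷ G) ≫
        lift (fst (P ⊗ E) G ≫ fst P E) ((fst (P ⊗ E) G ≫ snd P E) * (snd (P ⊗ E) G ≫ u)) ≫ κ₁ =
        lift (w ≫ fst E E) ((w ≫ snd E E) * (g ≫ u)) ≫ κ := by
      rw [← hκ₁, lift_whiskerRight_assoc, ← Category.assoc (lift _ _), comp_lift, MonObj.comp_mul,
        lift_fst_assoc, lift_fst_assoc, lift_snd_assoc, Category.assoc, whiskerRight_fst, Category.assoc,
        whiskerRight_snd, ← Category.assoc (lift _ _), lift_whiskerRight, Category.assoc]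
    rw [e3, e4, hκr, ← ew]
  have hinv2 : ∀ (T : Over S) (x₁ x₂ : T ⟶ P ⊗ E), x₁ ≫ (P ◁ v) = x₂ ≫ (P ◁ v) → x₁ ≫ κ₁ = x₂ ≫ κ₁ := by
    intro T x₁ x₂ hx
    have h1 : x₁ ≫ fst P E = x₂ ≫ fst P E := by
      have := congrArg (fun m => m ≫ fst P P) hx
      simpa only [Category.assoc, whiskerLeft_fst] using this
    have h2 : (x₁ ≫ snd P E) ≫ v = (x₂ ≫ snd P E) ≫ v := by
      have := congrArg (fun m => m ≫ snd P P) hx
      simpa only [Category.assoc, whiskerLeft_snd] using this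
    obtain ⟨g', hg', -⟩ := existsUnique_of_exact u v hpb (x₁ ≫ snd P E) (x₂ ≫ snd P E) h2
    have e2 : x₂ = lift (x₁ ≫ fst P E) ((x₁ ≫ snd P E) * (g' ≫ u)) := by
      rw [h1, ← hg']; apply CartesianMonoidalCategory.hom_ext <;> simp
    have := congrArg (fun m => lift x₁ g' ≫ m) hm
    simp only [← Category.assoc, comp_lift, MonObj.comp_mul, lift_fst, lift_snd] at this
    rw [e2]
    exact this.symm
  have hlocP := TorsorDesc.isLocallyTrivialFor_whiskerLeft v P Scheme.fpqcPrecoverage hloc'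
  obtain ⟨κb, hκb, -⟩ := TorsorDesc.existsUnique_desc (P ◁ v) hlocP κ₁ hinv2
  have hκκ : (v ▷ E) ≫ (P ◁ v) ≫ κb = κ := by rw [hκb, hκ₁]
  have hepi : Epi v := TorsorDesc.epi_of_isLocallyTrivialFor v hloc'
  have honeP : (toUnit P ≫ η[P] : P ⟶ P) = 1 := (Hom.one_def).symm
  have hax1 : lift (𝟙 P) (1 : P ⟶ P) ≫ κb = 1 := by
    rw [← cancel_epi v, MonObj.comp_one, ← Category.assoc, comp_lift, Category.comp_id, MonObj.comp_one]
    have e : lift v (1 : E ⟶ P) = lift (𝟙 E) (1 : E ⟶ E) ≫ (v ▷ E) ≫ (P ◁ v) := by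
      rw [lift_whiskerRight_assoc, lift_whiskerLeft, Category.id_comp, MonObj.one_comp]
    rw [e, Category.assoc, Category.assoc, hκκ]
    apply hinj
    rw [hκp, MonObj.one_comp, inv_one, _root_.mul_one, _root_.mul_one, mul_inv_cancel]
  have hax2 : lift (1 : P ⟶ P) (𝟙 P) ≫ κb = 1 := by
    rw [← cancel_epi v, MonObj.comp_one, ← Category.assoc, comp_lift, Category.comp_id, MonObj.comp_one]
    have e : lift (1 : E ⟶ P) v = lift (1 : E ⟶ E) (𝟙 E) ≫ (v ▷ E) ≫ (P ◁ v) := by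
      rw [lift_whiskerRight_assoc, lift_whiskerLeft, Category.id_comp, MonObj.one_comp]
    rw [e, Category.assoc, Category.assoc, hκκ]
    apply hinj
    rw [hκp, MonObj.one_comp, inv_one, _root_.one_mul, _root_.mul_one, mul_inv_cancel]
  have hκb1 : κb = 1 := hPP κb (by rw [honeP]; exact hax1) (by rw [honeP]; exact hax2)
  have hκ1 : κ = 1 := by rw [← hκκ, hκb1, MonObj.comp_one, MonObj.comp_one]
  have key := hκp x y
  rw [hκ1, MonObj.comp_one, MonObj.one_comp] at key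
  have k2 : x * y * x⁻¹ = y := by
    have := congrArg (· * y) key
    simpa using this.symm
  calc x * y = x * y * x⁻¹ * x := by group
    _ = y * x := by rw [k2]

end Groth.Agent.Lib.Helper4.CentralExt
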