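import Mathlib
import Groth.Prelude.Def_NonAbH2
import Groth.Agent.Lib.Helper4.CentralExt

/-!
# Descent of bi-invariant maps along `E × E → P × P` for an fppf-exact sequence `1 → G → E → P → 1` (helper4)

`exists_biDesc`: a morphism `κ : E ⊗ E ⟶ Z` invariant under right translation by `u(G)` in each variable factors through
`v × v : E ⊗ E ⟶ P ⊗ P`.
-/

set_option autoImplicit false
universe u
open CategoryTheory CategoryTheory.Limits MonoidalCategory CartesianMonoidalCategory MonObj GrpObj AlgebraicGeometry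

namespace Groth.Agent.Lib.Helper4.BiDesc

open Groth.Agent.Lib.Helper4.ExactH1 Groth.Agent.Lib.Helper4.CentralExt

variable {S : Scheme.{u}} {P G E : Over S} [GrpObj P] [GrpObj G] [GrpObj E]

theorem exists_biDesc (u : G ⟶ E) (v : E ⟶ P) (hex : NonAbH1.IsExactSeq Scheme.fppfPrecoverage u v)
    {Z : Over S} (κ : E ⊗ E ⟶ Z)
    (hκl : ∀ {T : Over S} (x y : T ⟶ E) (g : T ⟶ G), lift (x * (g ≫ u)) y ≫ κ = lift x y ≫ κ)
    (hκr : ∀ {T : Over S} (x y : T ⟶ E) (g : T ⟶ G), lift x (y * (g ≫ u)) ≫ κ = lift x y ≫ κ) :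
    ∃ κb : P ⊗ P ⟶ Z, (v ▷ E) ≫ (P ◁ v) ≫ κb = κ := by
  obtain ⟨hu, hv, huv, hpb, hloc⟩ := hex
  have hloc' : NonAbH1.IsLocallyTrivialFor Scheme.fpqcPrecoverage (Over.mk v.left : Over P.left) :=
    QuotSectionSch.isLocallyTrivialFor_mono Scheme.fppfPrecoverage_le_fpqcPrecoverage _ hloc
  -- first descent, along `v ▷ E`
  have hinv1 : ∀ (T : Over S) (x₁ x₂ : T ⟶ E ⊗ E), x₁ ≫ (v ▷ E) = x₂ ≫ (v ▷ E) → x₁ ≫ κ = x₂ ≫ κ := by
    intro T x₁ x₂ hx
    have h1 : (x₁ ≫ fst E E) ≫ v = (x₂ ≫ fst E E) ≫ v := by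
      have := congrArg (fun m => m ≫ fst P E) hx
      simpa only [Category.assoc, whiskerRight_fst] using this
    have h2 : x₁ ≫ snd E E = x₂ ≫ snd E E := by
      have := congrArg (fun m => m ≫ snd P E) hx
      simpa only [Category.assoc, whiskerRight_snd] using this
    obtain ⟨g', hg', -⟩ := existsUnique_of_exact u v hpb (x₁ ≫ fst E E) (x₂ ≫ fst E E) h1
    have e1 : x₁ = lift (x₁ ≫ fst E E) (x₁ ≫ snd E E) := by
      apply CartesianMonoidalCategory.hom_ext <;> simp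
    have e2 : x₂ = lift (x₂ ≫ fst E E) (x₁ ≫ snd E E) := by
      rw [h2]; apply CartesianMonoidalCategory.hom_ext <;> simp
    rw [e1, e2, hg', hκl]
  have hlocE := isLocallyTrivialFor_whiskerRight v E Scheme.fpqcPrecoverage hloc'
  obtain ⟨κ₁, hκ₁, -⟩ := TorsorDesc.existsUnique_desc (v ▷ E) hlocE κ hinv1
  -- second descent, along `P ◁ v`
  have hm : lift (fst (P ⊗ E) G ≫ fst P E) ((fst (P ⊗ E) G ≫ snd P E) * (snd (P ⊗ E) G ≫ u)) ≫ κ₁ =
      fst (P ⊗ E) G ≫ κ₁ := by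
    have hepi2 : Epi ((v ▷ E) ▷ G) :=
      TorsorDesc.epi_of_isLocallyTrivialFor _ (isLocallyTrivialFor_whiskerRight (v ▷ E) G _ hlocE)
    rw [← cancel_epi ((v ▷ E) ▷ G)]
    apply AlgGrp.Action.hom_ext_lift₂
    intro T w g
    have ew : w = lift (w ≫ fst E E) (w ≫ snd E E) := by
      apply CartesianMonoidalCategory.hom_ext <;> simp
    have e3 : lift w g ≫ ((v ▷ E) ▷ G) ≫ fst (P ⊗ E) G ≫ κ₁ = w ≫ κ := by
      rw [lift_whiskerRight_assoc, lift_fst_assoc, Category.assoc, hκ₁]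
    have e4 : lift w g ≫ ((v ▷ E) ▷ G) ≫
        lift (fst (P ⊗ E) G ≫ fst P E) ((fst (P ⊗ E) G ≫ snd P E) * (snd (P ⊗ E) G ≫ u)) ≫ κ₁ =
        lift (w ≫ fst E E) ((w ≫ snd E E) * (g ≫ u)) ≫ κ := by
      rw [← hκ₁, lift_whiskerRight_assoc, ← Category.assoc (lift _ _), comp_lift, MonObj.comp_mul,
        lift_fst_assoc, lift_fst_assoc, lift_snd_assoc, Category.assoc, whiskerRight_fst, Category.assoc,
        whiskerRight_snd, ← Category.assoc (lift _ _), lift_whiskerRight, Category.assoc]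
    rw [e3, e4, hκr, ← ew]
  have hinv2 : ∀ (T : Over S) (x₁ x₂ : T ⟶ P ⊗ E), x₁ ≫ (P ◁ v) = x₂ ≫ (P ◁ v) → x₁ ≫ κ₁ = x₂ ≫ κ₁ := by
    intro T x₁ x₂ hx
    have h1 : x₁ ≫ fst P E = x₂ ≫ fst P E := by
      have := congrArg (fun m => m ≫ fst P P) hx
      simpa only [Category.assoc, whiskerLeft_fst] using this
    have h2 : (x₁ ≫ snd P E) ≫ v = (x₂ ≫ snd P E) ≫ v := by
      have := congrArg (fun m => m ≫ snd P P) hx
      simpa only [Category.assoc, whiskerLeft_snd] using this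
    obtain ⟨g', hg', -⟩ := existsUnique_of_exact u v hpb (x₁ ≫ snd P E) (x₂ ≫ snd P E) h2
    have e2 : x₂ = lift (x₁ ≫ fst P E) ((x₁ ≫ snd P E) * (g' ≫ u)) := by
      rw [h1, ← hg']; apply CartesianMonoidalCategory.hom_ext <;> simp
    have := congrArg (fun m => lift x₁ g' ≫ m) hm
    simp only [← Category.assoc, comp_lift, MonObj.comp_mul, lift_fst, lift_snd] at this
    rw [e2]
    exact this.symm
  have hlocP := TorsorDesc.isLocallyTrivialFor_whiskerLeft v P Scheme.fpqcPrecoverage hloc'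
  obtain ⟨κb, hκb, -⟩ := TorsorDesc.existsUnique_desc (P ◁ v) hlocP κ₁ hinv2
  exact ⟨κb, by rw [hκb, hκ₁]⟩

end Groth.Agent.Lib.Helper4.BiDesc
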