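import Mathlib
import Groth.Agent.Lib.Helper4.BiratGeneric
import Groth.Agent.Lib.Helper4.SpreadUniqLft
import Groth.Agent.Lib.Helper4.SpreadLfp
import Groth.Agent.Lib.Helper4.ExtValPoint

set_option backward.isDefEq.respectTransparency false
set_option backward.isDefEq.respectTransparency.types false
set_option autoImplicit false

/-!
# Local isomorphisms from isomorphisms of local rings; birational morphisms (Stacks 0BAC)
-/

universe u
open CategoryTheory CategoryTheory.Limits AlgebraicGeometry TopologicalSpace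

namespace Groth.Agent.Lib.Helper4.BiratLocal

open Groth.Agent.Lib.Helper4.BiratGeneric

variable {X Y S : Scheme.{u}}

/-- The categorical core, local version: two "partial maps" which are mutually inverse on smaller
opens give a scheme `P` openly immersed in both `X` and `Y` compatibly with the structure maps. -/
lemma localIso_of_data (sX : X ⟶ S) (sY : Y ⟶ S)
    {U V U' V' : Scheme.{u}} (a : U ⟶ X) (b : V ⟶ Y) [IsOpenImmersion a] [IsOpenImmersion b]
    (f : U ⟶ Y) (g : V ⟶ X) (hf : f ≫ sY = a ≫ sX)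
    (a' : U' ⟶ U) (b' : V' ⟶ V) [IsOpenImmersion a'] [IsOpenImmersion b']
    (f' : U' ⟶ V) (g' : V' ⟶ U)
    (h1 : f' ≫ b = a' ≫ f) (h2 : f' ≫ g = a' ≫ a)
    (h3 : g' ≫ a = b' ≫ g) (h4 : g' ≫ f = b' ≫ b) :
    ∃ (i : pullback f' b' ⟶ X) (j : pullback f' b' ⟶ Y), IsOpenImmersion i ∧ IsOpenImmersion j ∧
      i ≫ sX = j ≫ sY ∧ i = pullback.fst f' b' ≫ a' ≫ a ∧ j = pullback.fst f' b' ≫ a' ≫ f := by
  have c1 : pullback.snd f' b' ≫ g' = pullback.fst f' b' ≫ a' := by
    rw [← cancel_mono a, Category.assoc, Category.assoc, h3, ← h2, ← pullback.condition_assoc]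
  have c2 : pullback.snd g' a' ≫ f' = pullback.fst g' a' ≫ b' := by
    rw [← cancel_mono b, Category.assoc, Category.assoc, h1, ← h4, ← pullback.condition_assoc]
  let α : pullback f' b' ⟶ pullback g' a' := pullback.lift _ _ c1
  let β : pullback g' a' ⟶ pullback f' b' := pullback.lift _ _ c2
  let e : pullback f' b' ≅ pullback g' a' :=
    ⟨α, β, by apply pullback.hom_ext <;> simp [α, β], by apply pullback.hom_ext <;> simp [α, β]⟩
  let i : pullback f' b' ⟶ X := pullback.fst f' b' ≫ a' ≫ a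
  let j₀ : pullback g' a' ⟶ Y := pullback.fst g' a' ≫ b' ≫ b
  have hj : e.hom ≫ j₀ = pullback.fst f' b' ≫ a' ≫ f := by
    simp only [e, α, j₀, pullback.lift_fst_assoc]
    rw [← pullback.condition_assoc, h1]
  refine ⟨i, pullback.fst f' b' ≫ a' ≫ f, inferInstance, ?_, ?_, rfl, rfl⟩
  · have : IsOpenImmersion j₀ := inferInstanceAs (IsOpenImmersion (pullback.fst g' a' ≫ b' ≫ b))
    have : IsIso e.hom := Iso.isIso_hom e
    have h2 : IsOpenImmersion e.hom := inferInstance
    have h3 : IsOpenImmersion (e.hom ≫ j₀) := inferInstance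
    rw [← hj]; exact h3
  · simp only [i, Category.assoc, hf]

/-- Local isomorphism from an isomorphism of local rings: there is a scheme `P` with a point over
`x`, openly immersed in `X` and `Y` compatibly over `S`. -/
theorem exists_localIso_of_stalkIso (sX : X ⟶ S) (sY : Y ⟶ S) {x : X} {y : Y}
    (e : X.presheaf.stalk x ≅ Y.presheaf.stalk y)
    (he : Spec.map e.inv ≫ Y.fromSpecStalk y ≫ sY = X.fromSpecStalk x ≫ sX)
    (hUX : LocUniq sX x) (hUY : LocUniq sY y)
    (hEX : SpreadEx sX sY x) (hEY : SpreadEx sY sX y) :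
    ∃ (P : Scheme.{u}) (i : P ⟶ X) (j : P ⟶ Y), IsOpenImmersion i ∧ IsOpenImmersion j ∧
      i ≫ sX = j ≫ sY ∧ x ∈ Set.range i := by
  set ε := Spec.map e.inv with hε
  set ε' := Spec.map e.hom with hε'
  have hεε' : ε ≫ ε' = 𝟙 _ := by rw [hε, hε', ← Spec.map_comp, e.hom_inv_id, Spec.map_id]
  have hε'ε : ε' ≫ ε = 𝟙 _ := by rw [hε, hε', ← Spec.map_comp, e.inv_hom_id, Spec.map_id]
  have he' : (ε' ≫ X.fromSpecStalk x) ≫ sX = Y.fromSpecStalk y ≫ sY := by
    rw [Category.assoc, ← he, ← Category.assoc, hε'ε, Category.id_comp]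
  obtain ⟨U, hxU, f, h1, hf⟩ := hEX (ε ≫ Y.fromSpecStalk y) (by rw [Category.assoc, he])
  obtain ⟨V, hyV, g, h1', hg⟩ := hEY (ε' ≫ X.fromSpecStalk x) he'
  obtain ⟨WX, hxW, hWU, f', hf'1, hf'2, hf'3⟩ := half sX sY hUX U hxU f hf V hyV g hg ε h1.symm
    (by rw [← h1', ← Category.assoc, hεε', Category.id_comp])
  obtain ⟨WY, hyW, hWV, g', hg'1, hg'2, hg'3⟩ := half sY sX hUY V hyV g hg U hxU f hf ε' h1'.symm
    (by rw [← h1, ← Category.assoc, hε'ε, Category.id_comp])
  obtain ⟨i, j, hi, hj, hij, hi', -⟩ := localIso_of_data sX sY U.ι V.ι f g hf (X.homOfLE hWU)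
    (Y.homOfLE hWV) f' g' hf'1 (by rw [hf'2, Scheme.homOfLE_ι]) hg'1 (by rw [hg'2, Scheme.homOfLE_ι])
  refine ⟨_, i, j, hi, hj, hij, ?_⟩
  let k := pullback.lift (WX.fromSpecStalkOfMem x hxW) (ε ≫ WY.fromSpecStalkOfMem y hyW)
    (by rw [hf'3, Category.assoc, fromSpecStalkOfMem_homOfLE hWV])
  refine ⟨k (IsLocalRing.closedPoint _), ?_⟩
  rw [← Scheme.Hom.comp_apply, hi']
  simp only [k, pullback.lift_fst_assoc, Scheme.homOfLE_ι, Scheme.Opens.fromSpecStalkOfMem_ι,
    Scheme.fromSpecStalk_closedPoint]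

/-- A morphism that is injective and restricts to open immersions on an open cover of the source
is an open immersion. -/
theorem isOpenImmersion_of_cover {T Y : Scheme.{u}} (g : T ⟶ Y) {ι : Type*} (W : ι → Scheme.{u})
    (w : ∀ i, W i ⟶ T) [∀ i, IsOpenImmersion (w i)]
    (hcov : ∀ t : T, ∃ i, t ∈ Set.range (w i)) (hW : ∀ i, IsOpenImmersion (w i ≫ g))
    (hinj : Function.Injective g) : IsOpenImmersion g := by
  have hstalk : ∀ t : T, IsIso (g.stalkMap t) := by
    intro t
    obtain ⟨i, t', rfl⟩ := hcov t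
    have := hW i
    have h1 : IsIso ((w i ≫ g).stalkMap t') := inferInstance
    rw [Scheme.Hom.stalkMap_comp] at h1
    exact IsIso.of_isIso_comp_right (g.stalkMap (w i t')) ((w i).stalkMap t')
  have hopen : IsOpenMap g := by
    refine IsOpenMap.of_nhds_le fun t ↦ ?_
    obtain ⟨i, t', rfl⟩ := hcov t
    have := hW i
    have h1 : nhds ((w i ≫ g) t') ≤ Filter.map (w i ≫ g) (nhds t') :=
      (w i ≫ g).isOpenEmbedding.isOpenMap.nhds_le _
    have h2 : Filter.map (w i) (nhds t') ≤ nhds (w i t') :=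
      (w i).continuous.continuousAt
    calc nhds (g (w i t')) = nhds ((w i ≫ g) t') := rfl
      _ ≤ Filter.map (w i ≫ g) (nhds t') := h1
      _ = Filter.map g (Filter.map (w i) (nhds t')) := by
        rw [Filter.map_map]; rfl
      _ ≤ Filter.map g (nhds (w i t')) := Filter.map_mono h2
  have hemb : Topology.IsOpenEmbedding g :=
    Topology.IsOpenEmbedding.of_continuous_injective_isOpenMap g.continuous hinj hopen
  exact IsOpenImmersion.of_isIso_stalkMap g hemb

/-- If `f` is locally of finite type, induces an isomorphism on local rings at `x`, and sections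
of `f` over `Spec 𝒪_{Y, f x}` spread out, then `f` is an open immersion near `x`. -/
theorem exists_open_isOpenImmersion (f : X ⟶ Y) [LocallyOfFiniteType f] (x : X)
    (hiso : IsIso (f.stalkMap x)) (hEY : SpreadEx (𝟙 Y) f (f x)) :
    ∃ U : X.Opens, x ∈ U ∧ IsOpenImmersion (U.ι ≫ f) := by
  obtain ⟨P, i, j, hi, hj, hij, hx⟩ := exists_localIso_of_stalkIso f (𝟙 Y) (x := x) (y := f x)
    (asIso (f.stalkMap x)).symm
    (by simp only [Iso.symm_inv, asIso_hom, Category.comp_id,
      Scheme.SpecMap_stalkMap_fromSpecStalk])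
    (SpreadUniqLft.locUniq_of_lft f x) (SpreadUniqLft.locUniq_of_lft (𝟙 Y) (f x))
    (fun φ hφ ↦ SpreadLfp.spread_out_of_lfp' f (𝟙 Y) φ hφ) hEY
  refine ⟨i.opensRange, hx, ?_⟩
  have : i.opensRange.ι ≫ f = i.isoOpensRange.inv ≫ j := by
    rw [← Category.comp_id j, ← hij, ← Category.assoc, Scheme.Hom.isoOpensRange_inv_comp]
  rw [this]
  infer_instance

/-- Spreading out sections over the local ring at a generic point of a reduced scheme with finitely
many irreducible components (`f` locally of finite type), or in general for `f` locally of finite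
presentation. -/
theorem spreadEx_of_generic (f : X ⟶ Y) (hYfin : (irreducibleComponents Y).Finite)
    (hf : (LocallyOfFiniteType f ∧ IsReduced Y) ∨ LocallyOfFinitePresentation f)
    (y : Y) (hy : closure {y} ∈ irreducibleComponents Y) : SpreadEx (𝟙 Y) f y := by
  rcases hf with ⟨hlft, hred⟩ | hlfp
  · have hfield := isField_stalk_of_closure_mem_irreducibleComponents (X := Y) y hy
    have : IsDomain (Y.presheaf.stalk y) := hfield.isDomain
    obtain ⟨W, hyW, hW⟩ := ExtValPoint.exists_irreducible_open_nbhd Y hYfin y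
    have : IsIntegral W := isIntegral_of_irreducibleSpace_of_isReduced W
    have : Y.IsGermInjectiveAt (W.ι ⟨y, hyW⟩) := inferInstance
    have : Y.IsGermInjectiveAt y := this
    exact fun ψ hψ ↦ spread_out_of_isGermInjective' (𝟙 Y) f ψ hψ
  · exact fun ψ hψ ↦ SpreadLfp.spread_out_of_lfp' (𝟙 Y) f ψ hψ

/-- **Stacks 0BAC**: a birational morphism (in the sense of bijection on generic points of
irreducible components and isomorphisms on their local rings) is an isomorphism between dense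
opens, if it is locally of finite presentation, or locally of finite type with reduced target. -/
theorem birational_iso_on_dense_opens (f : X ⟶ Y)
    (hYfin : (irreducibleComponents Y).Finite)
    (hbij : Set.BijOn (fun x : X => f x) {x : X | closure {x} ∈ irreducibleComponents X}
      {y : Y | closure {y} ∈ irreducibleComponents Y})
    (hiso : ∀ x : X, closure {x} ∈ irreducibleComponents X → IsIso (f.stalkMap x))
    (hf : (LocallyOfFiniteType f ∧ IsReduced Y) ∨ LocallyOfFinitePresentation f) :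
    ∃ (U : X.Opens) (V : Y.Opens) (hUV : U ≤ f ⁻¹ᵁ V), Dense (U : Set X) ∧ Dense (V : Set Y) ∧
      IsIso (f.resLE V U hUV) := by
  classical
  have hlft : LocallyOfFiniteType f := by rcases hf with ⟨h, -⟩ | h <;> infer_instance
  let GX : Set X := {x : X | closure {x} ∈ irreducibleComponents X}
  let GY : Set Y := {y : Y | closure {y} ∈ irreducibleComponents Y}
  have hloc : ∀ x : GX, ∃ U : X.Opens, x.1 ∈ U ∧ IsOpenImmersion (U.ι ≫ f) := fun x ↦
    exists_open_isOpenImmersion f x.1 (hiso x.1 x.2)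
      (spreadEx_of_generic f hYfin hf (f x.1) (hbij.mapsTo x.2))
  choose U₀ hxU₀ hU₀ using hloc
  have hYo_open : ∀ y : Y, IsOpen (⋃₀ (irreducibleComponents Y \ {closure {y}}))ᶜ := fun y ↦ by
    rw [Set.sUnion_eq_biUnion, isOpen_compl_iff]
    exact hYfin.sdiff.isClosed_biUnion fun W hW ↦ isClosed_of_mem_irreducibleComponents W hW.1
  let Yo : Y → Y.Opens := fun y ↦ ⟨_, hYo_open y⟩
  have hYo_mem : ∀ y ∈ GY, y ∈ Yo y := by
    rintro y hy ⟨Z', ⟨hZ', hne⟩, hyZ'⟩
    have h1 : closure {y} ⊆ Z' :=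
      (isClosed_of_mem_irreducibleComponents _ hZ').closure_subset_iff.mpr
        (Set.singleton_subset_iff.mpr hyZ')
    exact hne (subset_antisymm (hy.2 hZ'.1 h1) h1)
  have hYo_sub : ∀ (y w : Y), w ∈ Yo y → w ∈ closure {y} := by
    intro y w hw
    by_contra hwZ
    apply hw
    refine ⟨irreducibleComponent w, ⟨irreducibleComponent_mem_irreducibleComponents w, ?_⟩,
      mem_irreducibleComponent⟩
    intro h
    rw [Set.mem_singleton_iff] at h
    exact hwZ (h ▸ mem_irreducibleComponent)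
  have hYo_disj : ∀ y₁ ∈ GY, ∀ y₂ ∈ GY, ∀ w : Y, w ∈ Yo y₁ → w ∈ Yo y₂ → y₁ = y₂ := by
    intro y₁ hy₁ y₂ hy₂ w hw₁ hw₂
    have h1 := hYo_sub y₁ w hw₁
    have h2 : closure {y₁} = closure {y₂} := by
      by_contra hne
      exact hw₂ ⟨closure {y₁}, ⟨hy₁, hne⟩, h1⟩
    exact (inseparable_iff_closure_eq.mpr h2).eq
  let U' : GX → X.Opens := fun x ↦ U₀ x ⊓ f ⁻¹ᵁ Yo (f x.1)
  have hxU' : ∀ x : GX, x.1 ∈ U' x := fun x ↦ ⟨hxU₀ x, hYo_mem _ (hbij.mapsTo x.2)⟩
  let U : X.Opens := ⨆ x, U' x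
  let g : U.toScheme ⟶ Y := U.ι ≫ f
  have hg : IsOpenImmersion g := by
    refine isOpenImmersion_of_cover g (fun x : GX ↦ (U' x).toScheme)
      (fun x ↦ X.homOfLE (le_iSup U' x)) ?_ ?_ ?_
    · intro t
      obtain ⟨x, hx⟩ := Opens.mem_iSup.mp t.2
      refine ⟨x, ⟨t.1, hx⟩, U.ι.isOpenEmbedding.injective ?_⟩
      rw [← Scheme.Hom.comp_apply, Scheme.homOfLE_ι]
      rfl
    · intro x
      have := hU₀ x
      have e1 : X.homOfLE (le_iSup U' x) ≫ U.ι = (U' x).ι := X.homOfLE_ι _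
      have e2 : X.homOfLE (inf_le_left : U' x ≤ U₀ x) ≫ (U₀ x).ι = (U' x).ι := X.homOfLE_ι _
      have e : X.homOfLE (le_iSup U' x) ≫ g =
          X.homOfLE (inf_le_left : U' x ≤ U₀ x) ≫ (U₀ x).ι ≫ f := by
        calc X.homOfLE (le_iSup U' x) ≫ g = (X.homOfLE (le_iSup U' x) ≫ U.ι) ≫ f :=
              (Category.assoc _ _ _).symm
          _ = (U' x).ι ≫ f := by rw [e1]
          _ = (X.homOfLE (inf_le_left : U' x ≤ U₀ x) ≫ (U₀ x).ι) ≫ f := by rw [e2]
          _ = _ := Category.assoc _ _ _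
      rw [e]
      infer_instance
    · intro t₁ t₂ h
      obtain ⟨x₁, hx₁⟩ := Opens.mem_iSup.mp t₁.2
      obtain ⟨x₂, hx₂⟩ := Opens.mem_iSup.mp t₂.2
      have hft : f t₁.1 = f t₂.1 := h
      have hx : x₁ = x₂ := by
        apply Subtype.ext
        apply hbij.injOn x₁.2 x₂.2
        exact hYo_disj _ (hbij.mapsTo x₁.2) _ (hbij.mapsTo x₂.2) (f t₁.1) hx₁.2 (hft ▸ hx₂.2)
      subst hx
      have := hU₀ x₁
      have h3 : ((U₀ x₁).ι ≫ f) ⟨t₁.1, hx₁.1⟩ = ((U₀ x₁).ι ≫ f) ⟨t₂.1, hx₂.1⟩ := hft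
      have h4 := ((U₀ x₁).ι ≫ f).isOpenEmbedding.injective h3
      have h5 : t₁.1 = t₂.1 := congrArg (fun z : (U₀ x₁) ↦ (z.1 : X)) h4
      exact Subtype.ext h5
  let V : Y.Opens := g.opensRange
  have hUV : U ≤ f ⁻¹ᵁ V := fun t ht ↦ ⟨⟨t, ht⟩, rfl⟩
  refine ⟨U, V, hUV, ?_, ?_, ?_⟩
  · -- density of `U`: it contains every generic point
    rw [dense_iff_inter_open]
    rintro O hO ⟨o, ho⟩
    obtain ⟨η, hη⟩ := QuasiSober.sober (isIrreducible_irreducibleComponent (x := o))
      isClosed_irreducibleComponent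
    have hηG : η ∈ GX := by
      change closure {η} ∈ irreducibleComponents X
      rw [hη.def]
      exact irreducibleComponent_mem_irreducibleComponents o
    have hηo : η ⤳ o := by
      rw [specializes_iff_mem_closure, hη.def]
      exact mem_irreducibleComponent
    exact ⟨η, hηo.mem_open hO ho, Opens.mem_iSup.mpr ⟨⟨η, hηG⟩, hxU' ⟨η, hηG⟩⟩⟩
  · rw [dense_iff_inter_open]
    rintro O hO ⟨o, ho⟩
    obtain ⟨η, hη⟩ := QuasiSober.sober (isIrreducible_irreducibleComponent (x := o))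
      isClosed_irreducibleComponent
    have hηG : η ∈ GY := by
      change closure {η} ∈ irreducibleComponents Y
      rw [hη.def]
      exact irreducibleComponent_mem_irreducibleComponents o
    have hηo : η ⤳ o := by
      rw [specializes_iff_mem_closure, hη.def]
      exact mem_irreducibleComponent
    obtain ⟨x, hxG, rfl⟩ := hbij.surjOn hηG
    refine ⟨f x, hηo.mem_open hO ho, ?_⟩
    exact ⟨⟨x, Opens.mem_iSup.mpr ⟨⟨x, hxG⟩, hxU' ⟨x, hxG⟩⟩⟩, rfl⟩
  · have e : f.resLE V U hUV ≫ V.ι = g := Scheme.Hom.resLE_comp_ι _ _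
    have : IsOpenImmersion (f.resLE V U hUV ≫ V.ι) := by rw [e]; exact hg
    have h1 : IsOpenImmersion (f.resLE V U hUV) := IsOpenImmersion.of_comp _ V.ι
    rw [isIso_iff_isOpenImmersion_and_surjective]
    refine ⟨h1, ⟨fun v ↦ ?_⟩⟩
    obtain ⟨t, ht⟩ : V.ι v ∈ Set.range g := v.2
    refine ⟨t, V.ι.isOpenEmbedding.injective ?_⟩
    rw [← Scheme.Hom.comp_apply, e, ht]

end Groth.Agent.Lib.Helper4.BiratLocal
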