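import Mathlib
import Groth.Agent.Lib.Helper4.BiratLocal
import Groth.Agent.S2121

set_option backward.isDefEq.respectTransparency false
set_option backward.isDefEq.respectTransparency.types false
set_option autoImplicit false

/-!
# Birational morphisms: generic fibres and isomorphism over a dense open (Stacks 0BAD-ish)
-/

universe u
open CategoryTheory CategoryTheory.Limits AlgebraicGeometry TopologicalSpace

namespace Groth.Agent.Lib.Helper4.BiratFibre

variable {X Y : Scheme.{u}}

/-- If the specialization map on stalks `𝒪_{X,z} ⟶ 𝒪_{X,x}` (for `x ⤳ z`) is a local homomorphism,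
then `z ⤳ x`. -/
lemma specializes_of_isLocalHom_stalkSpecializes {x z : X} (h : x ⤳ z)
    (hloc : IsLocalHom (X.presheaf.stalkSpecializes h).hom) : z ⤳ x := by
  rw [specializes_iff_forall_open]
  intro O hO hxO
  obtain ⟨W, hW, hzW, -⟩ := exists_isAffineOpen_mem_and_subset (X := X) (x := z) (U := ⊤) trivial
  have hxW : x ∈ W := h.mem_open W.2 hzW
  obtain ⟨r, hr1, hr2⟩ := hW.exists_basicOpen_le (V := ⟨O, hO⟩ ⊓ W) ⟨x, hxO, hxW⟩ hxW
  have h1 : IsUnit (X.presheaf.germ W x hxW r) := (X.mem_basicOpen r x hxW).mp hr2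
  have h2 : X.presheaf.germ W x hxW r =
      (X.presheaf.stalkSpecializes h).hom (X.presheaf.germ W z hzW r) := by
    rw [← TopCat.Presheaf.germ_stalkSpecializes X.presheaf hzW h]
    rfl
  rw [h2] at h1
  have h3 : IsUnit (X.presheaf.germ W z hzW r) := hloc.map_nonunit _ h1
  exact (hr1 ((X.mem_basicOpen r z hzW).mpr h3)).1

/-- A point with closure an irreducible component has no proper generalizations. -/
lemma eq_of_specializes_of_mem_irreducibleComponents {T : Type*} [TopologicalSpace T] [T0Space T]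
    {y w : T} (hy : closure {y} ∈ irreducibleComponents T) (h : w ⤳ y) : w = y := by
  have h1 : closure {y} ⊆ closure {w} := h.closure_subset  -- to check
  have h2 : closure {w} ⊆ closure {y} := hy.2 isIrreducible_singleton.closure h1
  exact (inseparable_iff_closure_eq.mpr (subset_antisymm h2 h1)).eq

/-- For a birational morphism (bijection on generic points + isomorphisms on local rings there),
the only point over a generic point of `Y` is the corresponding generic point of `X`. -/
theorem mem_generic_of_map_mem_generic (f : X ⟶ Y)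
    (hiso : ∀ x : X, closure {x} ∈ irreducibleComponents X → IsIso (f.stalkMap x))
    (z : X) (hz : closure {f z} ∈ irreducibleComponents Y) :
    closure {z} ∈ irreducibleComponents X := by
  obtain ⟨x', hx'⟩ := QuasiSober.sober (isIrreducible_irreducibleComponent (x := z))
    isClosed_irreducibleComponent
  have hx'G : closure {x'} ∈ irreducibleComponents X := by
    rw [hx'.def]
    exact irreducibleComponent_mem_irreducibleComponents z
  have hsp : x' ⤳ z := by
    rw [specializes_iff_mem_closure, hx'.def]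
    exact mem_irreducibleComponent
  have hfsp : f x' ⤳ f z := hsp.map f.continuous
  have hfeq : f x' = f z := eq_of_specializes_of_mem_irreducibleComponents hz hfsp
  have := hiso x' hx'G
  -- naturality of specialization maps
  have hnat := Scheme.Hom.stalkSpecializes_stalkMap f x' z hsp
  have hiso1 : IsIso (Y.presheaf.stalkSpecializes (f.base.hom.map_specializes hsp)) := by
    have : Y.presheaf.stalkSpecializes (f.base.hom.map_specializes hsp) =
        (Y.presheaf.stalkCongr (.of_eq hfeq)).inv := rfl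
    rw [this]
    infer_instance
  have hiso2 : IsIso (f.stalkMap z ≫ X.presheaf.stalkSpecializes hsp) := by
    rw [← hnat]
    infer_instance
  have hsurj : Function.Surjective (X.presheaf.stalkSpecializes hsp).hom := by
    intro a
    obtain ⟨b, hb⟩ := (ConcreteCategory.bijective_of_isIso
      (f.stalkMap z ≫ X.presheaf.stalkSpecializes hsp)).2 a
    exact ⟨f.stalkMap z b, hb⟩
  have hloc : IsLocalHom (X.presheaf.stalkSpecializes hsp).hom := IsLocalHom.of_surjective _ hsurj
  have hzx' : z ⤳ x' := specializes_of_isLocalHom_stalkSpecializes hsp hloc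
  have : z = x' := (hzx'.antisymm hsp).eq
  rw [this]
  exact hx'G

/-- A dense open subset of a space with finitely many irreducible components contains every
generic point of an irreducible component. -/
lemma generic_mem_of_dense_open {T : Type*} [TopologicalSpace T]
    (hfin : (irreducibleComponents T).Finite) {U : Set T} (hU : IsOpen U) (hUd : Dense U)
    {x : T} (hx : closure {x} ∈ irreducibleComponents T) : x ∈ U := by
  have hopen : IsOpen (⋃₀ (irreducibleComponents T \ {closure {x}}))ᶜ := by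
    rw [Set.sUnion_eq_biUnion, isOpen_compl_iff]
    exact hfin.sdiff.isClosed_biUnion fun W hW ↦ isClosed_of_mem_irreducibleComponents W hW.1
  have hxmem : x ∈ (⋃₀ (irreducibleComponents T \ {closure {x}}))ᶜ := by
    rintro ⟨Z', ⟨hZ', hne⟩, hyZ'⟩
    have h1 : closure {x} ⊆ Z' :=
      (isClosed_of_mem_irreducibleComponents _ hZ').closure_subset_iff.mpr
        (Set.singleton_subset_iff.mpr hyZ')
    exact hne (subset_antisymm (hx.2 hZ'.1 h1) h1)
  obtain ⟨w, hw1, hw2⟩ := hUd.inter_open_nonempty _ hopen ⟨x, hxmem⟩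
  have hwx : w ∈ closure {x} := by
    by_contra hwZ
    apply hw1
    refine ⟨irreducibleComponent w, ⟨irreducibleComponent_mem_irreducibleComponents w, ?_⟩,
      mem_irreducibleComponent⟩
    intro h
    rw [Set.mem_singleton_iff] at h
    exact hwZ (h ▸ mem_irreducibleComponent)
  exact (specializes_iff_mem_closure.mpr hwx).mem_open hU hw2

/-- An open subset of a scheme containing all generic points of irreducible components is dense. -/
lemma dense_of_generic_mem (U : X.Opens)
    (h : ∀ x : X, closure {x} ∈ irreducibleComponents X → x ∈ U) : Dense (U : Set X) := by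
  rw [dense_iff_inter_open]
  rintro O hO ⟨o, ho⟩
  obtain ⟨η, hη⟩ := QuasiSober.sober (isIrreducible_irreducibleComponent (x := o))
    isClosed_irreducibleComponent
  have hηG : closure {η} ∈ irreducibleComponents X := by
    rw [hη.def]
    exact irreducibleComponent_mem_irreducibleComponents o
  have hηo : η ⤳ o := by
    rw [specializes_iff_mem_closure, hη.def]
    exact mem_irreducibleComponent
  exact ⟨η, hηo.mem_open hO ho, h η hηG⟩

/-- If `f` restricts to an isomorphism `U ≅ V₀`, `V ≤ V₀` and `f⁻¹ V ≤ U`, then `f ∣_ V` is an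
isomorphism. -/
lemma isIso_morphismRestrict_of_le (f : X ⟶ Y) (U : X.Opens) (V₀ V : Y.Opens)
    (hUV : U ≤ f ⁻¹ᵁ V₀) (hIso : IsIso (f.resLE V₀ U hUV)) (hVV₀ : V ≤ V₀)
    (hVU : f ⁻¹ᵁ V ≤ U) : IsIso (f ∣_ V) := by
  have e : (f ∣_ V) ≫ V.ι = X.homOfLE hVU ≫ f.resLE V₀ U hUV ≫ V₀.ι := by
    rw [morphismRestrict_ι, Scheme.Hom.resLE_comp_ι, Scheme.homOfLE_ι_assoc]
  have : IsOpenImmersion ((f ∣_ V) ≫ V.ι) := by rw [e]; infer_instance
  have h1 : IsOpenImmersion (f ∣_ V) := IsOpenImmersion.of_comp _ V.ι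
  rw [isIso_iff_isOpenImmersion_and_surjective]
  refine ⟨h1, ⟨fun v ↦ ?_⟩⟩
  let u : U := (inv (f.resLE V₀ U hUV)) ⟨v.1, hVV₀ v.2⟩
  have hu : (f.resLE V₀ U hUV) u = ⟨v.1, hVV₀ v.2⟩ := by
    simp only [u]
    rw [← Scheme.Hom.comp_apply, IsIso.inv_hom_id]
    rfl
  have hfu : f u.1 = v.1 := by
    have := congrArg (fun z ↦ V₀.ι z) hu
    simp only at this
    rw [← Scheme.Hom.comp_apply, Scheme.Hom.resLE_comp_ι] at this
    exact this
  have hu' : u.1 ∈ f ⁻¹ᵁ V := by
    change f u.1 ∈ V
    rw [hfu]; exact v.2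
  refine ⟨⟨u.1, hu'⟩, V.ι.isOpenEmbedding.injective ?_⟩
  rw [← Scheme.Hom.comp_apply, morphismRestrict_ι]
  exact hfu

/-- **Stacks 0BAD-type**: a birational morphism which is quasi-compact or separated (and lfp, or lft
with reduced target) is an isomorphism over a dense open of the target. -/
theorem birational_iso_over_dense_open (f : X ⟶ Y)
    (hXfin : (irreducibleComponents X).Finite) (hYfin : (irreducibleComponents Y).Finite)
    (hbij : Set.BijOn (fun x : X => f x) {x : X | closure {x} ∈ irreducibleComponents X}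
      {y : Y | closure {y} ∈ irreducibleComponents Y})
    (hiso : ∀ x : X, closure {x} ∈ irreducibleComponents X → IsIso (f.stalkMap x))
    (hf₁ : QuasiCompact f ∨ IsSeparated f)
    (hf₂ : (LocallyOfFiniteType f ∧ IsReduced Y) ∨ LocallyOfFinitePresentation f) :
    ∃ V : Y.Opens, Dense (V : Set Y) ∧ IsIso (f ∣_ V) := by
  obtain ⟨U, V₀, hUV, hUd, hVd, hIso⟩ :=
    BiratLocal.birational_iso_on_dense_opens f hYfin hbij hiso hf₂
  have hGU : ∀ x : X, closure {x} ∈ irreducibleComponents X → x ∈ U := fun x hx ↦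
    generic_mem_of_dense_open hXfin U.2 hUd hx
  have hGV₀ : ∀ y : Y, closure {y} ∈ irreducibleComponents Y → y ∈ V₀ := fun y hy ↦
    generic_mem_of_dense_open hYfin V₀.2 hVd hy
  suffices H : ∃ V : Y.Opens, V ≤ V₀ ∧ f ⁻¹ᵁ V ≤ U ∧
      ∀ y : Y, closure {y} ∈ irreducibleComponents Y → y ∈ V by
    obtain ⟨V, hVV₀, hVU, hGV⟩ := H
    exact ⟨V, dense_of_generic_mem V hGV, isIso_morphismRestrict_of_le f U V₀ V hUV hIso hVV₀ hVU⟩
  rcases hf₁ with hqc | hsep
  · -- quasi-compact case
    let Zc : Closeds X := ⟨(U : Set X)ᶜ, U.2.isClosed_compl⟩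
    let I := Scheme.IdealSheafData.vanishingIdeal Zc
    have hrange : Set.range I.subschemeι = (U : Set X)ᶜ := by
      rw [Scheme.IdealSheafData.range_subschemeι, Scheme.IdealSheafData.coe_support_vanishingIdeal]
      rfl
    let C : Set Y := closure (Set.range (I.subschemeι ≫ f))
    let V : Y.Opens := V₀ ⊓ ⟨Cᶜ, isClosed_closure.isOpen_compl⟩
    refine ⟨V, inf_le_left, ?_, ?_⟩
    · intro x hx
      by_contra hxU
      obtain ⟨z, hz⟩ : x ∈ Set.range I.subschemeι := by rw [hrange]; exact hxU
      apply hx.2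
      apply subset_closure
      exact ⟨z, by rw [Scheme.Hom.comp_apply, hz]⟩
    · intro y hy
      refine ⟨hGV₀ y hy, ?_⟩
      intro hyC
      obtain ⟨z, hz⟩ := Groth.Agent.S2121.exists_specializes_of_mem_closure (I.subschemeι ≫ f) y hyC
      rw [Scheme.Hom.comp_apply] at hz
      have h1 : f (I.subschemeι z) = y := eq_of_specializes_of_mem_irreducibleComponents hy hz
      have h2 : closure {I.subschemeι z} ∈ irreducibleComponents X :=
        mem_generic_of_map_mem_generic f hiso _ (h1 ▸ hy)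
      have h3 : I.subschemeι z ∈ (U : Set X)ᶜ := by rw [← hrange]; exact ⟨z, rfl⟩
      exact h3 (hGU _ h2)
  · -- separated case
    refine ⟨V₀, le_rfl, ?_, hGV₀⟩
    let σ : V₀.toScheme ⟶ (f ⁻¹ᵁ V₀).toScheme := inv (f.resLE V₀ U hUV) ≫ X.homOfLE hUV
    have hσ : σ ≫ (f ∣_ V₀) = 𝟙 _ := by
      change (inv (f.resLE V₀ U hUV) ≫ X.homOfLE hUV) ≫ (f ∣_ V₀) = 𝟙 _
      rw [Category.assoc]
      change inv (f.resLE V₀ U hUV) ≫ f.resLE V₀ U hUV = 𝟙 _
      rw [IsIso.inv_hom_id]
    have : IsSeparated (f ∣_ V₀) := IsZariskiLocalAtTarget.restrict ‹IsSeparated f› V₀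
    have : IsClosedImmersion (σ ≫ (f ∣_ V₀)) := by rw [hσ]; infer_instance
    have hcl : IsClosedImmersion σ := IsClosedImmersion.of_comp σ (f ∣_ V₀)
    have hrσ : Set.range σ = (f ⁻¹ᵁ V₀).ι ⁻¹' (U : Set X) := by
      ext t
      constructor
      · rintro ⟨v, rfl⟩
        change (f ⁻¹ᵁ V₀).ι (σ v) ∈ U
        rw [← Scheme.Hom.comp_apply]
        simp only [σ, Category.assoc, Scheme.homOfLE_ι]
        rw [Scheme.Hom.comp_apply]
        exact ((inv (f.resLE V₀ U hUV)) v).2
      · intro ht
        refine ⟨(f.resLE V₀ U hUV) ⟨t.1, ht⟩, ?_⟩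
        apply (f ⁻¹ᵁ V₀).ι.isOpenEmbedding.injective
        rw [← Scheme.Hom.comp_apply, ← Scheme.Hom.comp_apply]
        simp only [σ, Category.assoc, Scheme.homOfLE_ι, IsIso.hom_inv_id_assoc]
        rfl
    have hclosed : IsClosed ((f ⁻¹ᵁ V₀).ι ⁻¹' (U : Set X)) := by
      rw [← hrσ]; exact σ.isClosedEmbedding.isClosed_range
    intro x₁ hx₁
    by_contra hx₁U
    -- the open set `W = f⁻¹V₀ \ U`
    have hWopen : IsOpen ((f ⁻¹ᵁ V₀).ι '' ((f ⁻¹ᵁ V₀).ι ⁻¹' (U : Set X))ᶜ) :=
      (f ⁻¹ᵁ V₀).ι.isOpenEmbedding.isOpenMap _ hclosed.isOpen_compl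
    have hx₁W : x₁ ∈ (f ⁻¹ᵁ V₀).ι '' ((f ⁻¹ᵁ V₀).ι ⁻¹' (U : Set X))ᶜ :=
      ⟨⟨x₁, hx₁⟩, hx₁U, rfl⟩
    obtain ⟨η, hη⟩ := QuasiSober.sober (isIrreducible_irreducibleComponent (x := x₁))
      isClosed_irreducibleComponent
    have hηG : closure {η} ∈ irreducibleComponents X := by
      rw [hη.def]
      exact irreducibleComponent_mem_irreducibleComponents x₁
    have hηx : η ⤳ x₁ := by
      rw [specializes_iff_mem_closure, hη.def]
      exact mem_irreducibleComponent
    obtain ⟨t, ht, hte⟩ := hηx.mem_open hWopen hx₁W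
    apply ht
    change (f ⁻¹ᵁ V₀).ι t ∈ U
    rw [hte]
    exact hGU η hηG

end Groth.Agent.Lib.Helper4.BiratFibre
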