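import Mathlib
import Groth.Agent.Lib.Helper4.BiratFibre

set_option backward.isDefEq.respectTransparency false
set_option backward.isDefEq.respectTransparency.types false
set_option autoImplicit false

/-!
# Birational morphisms: the fibre over the local ring of a generic point (Stacks 0BAB-ish)
-/

universe u
open CategoryTheory CategoryTheory.Limits AlgebraicGeometry TopologicalSpace

namespace Groth.Agent.Lib.Helper4.BiratStalkFibre

variable {X Y : Scheme.{u}}

/-- A morphism all of whose points map to `x₀` factors through `Spec 𝒪_{X,x₀}`. -/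
theorem exists_lift_fromSpecStalk {P : Scheme.{u}} (g : P ⟶ X) (x₀ : X) (h : ∀ p : P, g p = x₀) :
    ∃ φ : P ⟶ Spec (X.presheaf.stalk x₀), φ ≫ X.fromSpecStalk x₀ = g := by
  obtain ⟨U, hU, hxU, -⟩ := exists_isAffineOpen_mem_and_subset (X := X) (x := x₀) (U := ⊤) trivial
  have e : (⊤ : P.Opens) ≤ g ⁻¹ᵁ U := fun p _ ↦ by
    show g p ∈ U
    rw [h p]; exact hxU
  let _ := X.presheaf.algebra_section_stalk (⟨x₀, hxU⟩ : U)
  have := hU.isLocalization_stalk ⟨x₀, hxU⟩
  have hunit : ∀ a : (hU.primeIdealOf ⟨x₀, hxU⟩).asIdeal.primeCompl,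
      IsUnit ((g.appLE U ⊤ e).hom a) := by
    intro a
    have h1 : IsUnit (X.presheaf.germ U x₀ hxU a.1) :=
      IsLocalization.map_units (X.presheaf.stalk x₀) a
    have h2 : x₀ ∈ X.basicOpen a.1 := (X.mem_basicOpen a.1 x₀ hxU).mpr h1
    have h3 : P.basicOpen ((g.appLE U ⊤ e).hom a.1) = ⊤ := by
      rw [Scheme.basicOpen_appLE]
      rw [eq_top_iff]
      intro p _
      refine ⟨trivial, ?_⟩
      show g p ∈ X.basicOpen a.1
      rw [h p]; exact h2
    apply RingedSpace.isUnit_of_isUnit_germ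
    intro p hp
    have : p ∈ P.basicOpen ((g.appLE U ⊤ e).hom a.1) := by rw [h3]; trivial
    exact (P.mem_basicOpen _ p hp).mp this
  let β : X.presheaf.stalk x₀ →+* Γ(P, ⊤) := IsLocalization.lift hunit
  have hβ' : ∀ a : Γ(X, U), β (algebraMap Γ(X, U) (X.presheaf.stalk x₀) a) =
      (g.appLE U ⊤ e).hom a := fun a ↦ IsLocalization.lift_eq hunit a
  have hβ : X.presheaf.germ U x₀ hxU ≫ CommRingCat.ofHom β = g.appLE U ⊤ e := by
    apply CommRingCat.hom_ext
    apply RingHom.ext
    intro a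
    exact hβ' a
  refine ⟨P.toSpecΓ ≫ Spec.map (CommRingCat.ofHom β), ?_⟩
  rw [← hU.fromSpecStalk_eq_fromSpecStalk hxU, IsAffineOpen.fromSpecStalk, Category.assoc,
    ← Spec.map_comp_assoc, hβ]
  have hiso : IsIso (⊤ : P.Opens).ι := by
    have : (⊤ : P.Opens).ι = P.topIso.hom := rfl
    rw [this]; infer_instance
  rw [← cancel_epi (⊤ : P.Opens).ι, ← Category.assoc, ← Scheme.Opens.toSpecΓ_top,
    Scheme.Opens.toSpecΓ_SpecMap_appLE_assoc, hU.toSpecΓ_fromSpec, Scheme.Hom.resLE_comp_ι]

/-- For a birational morphism `f : X ⟶ Y` (bijection on generic points + isomorphisms of local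
rings there) and a generic point `y` of `Y`, the base change of `f` along `Spec 𝒪_{Y,y} ⟶ Y` is an
isomorphism. -/
theorem isIso_snd_fromSpecStalk (f : X ⟶ Y)
    (hbij : Set.BijOn (fun x : X => f.base x) {x : X | closure {x} ∈ irreducibleComponents ↥X}
      {y : Y | closure {y} ∈ irreducibleComponents ↥Y})
    (hiso : ∀ x : X, closure {x} ∈ irreducibleComponents ↥X → IsIso (f.stalkMap x))
    (y : Y) (hy : closure {y} ∈ irreducibleComponents ↥Y) :
    IsIso (pullback.snd f (Y.fromSpecStalk y)) := by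
  obtain ⟨x₀, hx₀, hfx₀⟩ := hbij.surjOn hy
  change f x₀ = y at hfx₀
  subst hfx₀
  have := hiso x₀ hx₀
  have hpt : ∀ p : ↥(pullback f (Y.fromSpecStalk (f x₀))),
      (pullback.fst f (Y.fromSpecStalk (f x₀))) p = x₀ := by
    intro p
    have h1 : f (pullback.fst f (Y.fromSpecStalk (f x₀)) p) =
        Y.fromSpecStalk (f x₀) (pullback.snd f (Y.fromSpecStalk (f x₀)) p) := by
      rw [← Scheme.Hom.comp_apply, ← Scheme.Hom.comp_apply, pullback.condition]
    have h2 : Y.fromSpecStalk (f x₀) (pullback.snd f (Y.fromSpecStalk (f x₀)) p) ⤳ f x₀ := by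
      have := Set.mem_range_self (f := Y.fromSpecStalk (f x₀))
        (pullback.snd f (Y.fromSpecStalk (f x₀)) p)
      rw [Scheme.range_fromSpecStalk] at this
      exact this
    have h3 := BiratFibre.eq_of_specializes_of_mem_irreducibleComponents hy h2
    have h4 : closure {pullback.fst f (Y.fromSpecStalk (f x₀)) p} ∈ irreducibleComponents X :=
      BiratFibre.mem_generic_of_map_mem_generic f hiso _ (by rw [h1, h3]; exact hy)
    exact hbij.injOn h4 hx₀ (by show f _ = f _; rw [h1, h3])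
  obtain ⟨φ, hφ⟩ := exists_lift_fromSpecStalk (pullback.fst f (Y.fromSpecStalk (f x₀))) x₀ hpt
  let σ : Spec (Y.presheaf.stalk (f x₀)) ⟶ Spec (X.presheaf.stalk x₀) :=
    Spec.map (inv (f.stalkMap x₀))
  have hσ : σ ≫ X.fromSpecStalk x₀ ≫ f = Y.fromSpecStalk (f x₀) := by
    rw [← Scheme.SpecMap_stalkMap_fromSpecStalk, ← Spec.map_comp_assoc, IsIso.hom_inv_id,
      Spec.map_id, Category.id_comp]
  let s : Spec (Y.presheaf.stalk (f x₀)) ⟶ pullback f (Y.fromSpecStalk (f x₀)) :=
    pullback.lift (σ ≫ X.fromSpecStalk x₀) (𝟙 _) (by rw [Category.assoc, hσ, Category.id_comp])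
  have hsnd : pullback.snd f (Y.fromSpecStalk (f x₀)) = φ ≫ Spec.map (f.stalkMap x₀) := by
    rw [← cancel_mono (Y.fromSpecStalk (f x₀)), ← pullback.condition, Category.assoc,
      Scheme.SpecMap_stalkMap_fromSpecStalk, ← Category.assoc, hφ]
  refine ⟨s, ?_, pullback.lift_snd _ _ _⟩
  apply pullback.hom_ext
  · rw [Category.assoc, pullback.lift_fst, Category.id_comp, hsnd, Category.assoc,
      ← Spec.map_comp_assoc, IsIso.inv_hom_id, Spec.map_id, Category.id_comp, hφ]
  · rw [Category.assoc, pullback.lift_snd, Category.comp_id, Category.id_comp]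

end Groth.Agent.Lib.Helper4.BiratStalkFibre
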