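import Mathlib

set_option backward.isDefEq.respectTransparency false
set_option autoImplicit false
set_option linter.style.haveILetI false

/-!
# Locally proportional effective Cartier divisors are globally proportional
-/

universe u

open CategoryTheory AlgebraicGeometry

namespace Groth.Agent.Lib.Helper4.CDivProp

/-- Restriction to a smaller affine open preserves non-zero-divisors (flatness). -/
theorem res_mem_nonZeroDivisors {X : Scheme.{u}} {U V : X.affineOpens} (h : V.1 ≤ U.1)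
    {g : Γ(X, U)} (hg : g ∈ nonZeroDivisors Γ(X, U)) :
    (X.presheaf.map (homOfLE h).op).hom g ∈ nonZeroDivisors Γ(X, V) := by
  have hle : V.1 ≤ (𝟙 X : X ⟶ X) ⁻¹ᵁ U.1 := h
  have hflat : ((𝟙 X : X ⟶ X).appLE U.1 V.1 hle).hom.Flat :=
    Scheme.Hom.flat_appLE (𝟙 X) U.2 V.2 hle
  have heq : (𝟙 X : X ⟶ X).appLE U.1 V.1 hle = X.presheaf.map (homOfLE h).op := by
    simp [Scheme.Hom.appLE]
  rw [heq] at hflat
  letI := (X.presheaf.map (homOfLE h).op).hom.toAlgebra
  have hfl : Module.Flat Γ(X, U) Γ(X, V) := hflat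
  have hreg : IsSMulRegular Γ(X, V) g := Module.Flat.isSMulRegular_of_nonZeroDivisors hg
  rw [mem_nonZeroDivisors_iff_right]
  intro z hz
  apply hreg
  simp only [Algebra.smul_def, mul_zero]
  rw [mul_comm]
  exact hz

/-- In a commutative ring, if `(d)^a = (d)^b` with `a < b` and `d` a non-zero-divisor, then `d` is a
unit. -/
theorem isUnit_of_span_pow_eq {R : Type*} [CommRing R] {d : R} (hd : d ∈ nonZeroDivisors R)
    {a b : ℕ} (hab : a < b) (h : Ideal.span {d} ^ a = Ideal.span {d} ^ b) : IsUnit d := by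
  rw [Ideal.span_singleton_pow, Ideal.span_singleton_pow] at h
  have h1 : d ^ a ∈ Ideal.span {d ^ b} := h ▸ Ideal.mem_span_singleton_self _
  obtain ⟨v, hv⟩ := Ideal.mem_span_singleton'.1 h1
  obtain ⟨c, rfl⟩ := Nat.exists_eq_add_of_lt hab
  have hda : d ^ a ∈ nonZeroDivisors R := pow_mem hd a
  have h2 : (v * d ^ (c + 1) - 1) * d ^ a = 0 := by
    have e1 : (v * d ^ (c + 1) - 1) * d ^ a = v * d ^ (a + c + 1) - d ^ a := by ring
    rw [e1, hv, sub_self]
  have h3 : v * d ^ (c + 1) - 1 = 0 := (mem_nonZeroDivisors_iff_right.1 hda) _ h2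
  have h4 : d * (v * d ^ c) = 1 := by
    have := sub_eq_zero.1 h3
    rw [← this]; ring
  exact IsUnit.of_mul_eq_one _ h4

theorem pow_eq_pow_res {X : Scheme.{u}} (D E : X.IdealSheafData) {U V : X.affineOpens}
    (h : V ≤ U) {m n : ℕ} (hUV : D.ideal U ^ m = E.ideal U ^ n) :
    D.ideal V ^ m = E.ideal V ^ n := by
  rw [← D.map_ideal h, ← E.map_ideal h, ← Ideal.map_pow, ← Ideal.map_pow, hUV]

theorem ideal_res_eq_span {X : Scheme.{u}} (D : X.IdealSheafData) {U V : X.affineOpens}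
    (h : V ≤ U) {g : Γ(X, U)} (hg : D.ideal U = Ideal.span {g}) :
    D.ideal V = Ideal.span {(X.presheaf.map (homOfLE h).op).hom g} := by
  rw [← D.map_ideal h, hg, Ideal.map_span, Set.image_singleton]

/-- If `x` lies in the support of `D`, `D` is generated near `x` by a non-zero-divisor, and
`D^a = D^b` near `x`, then `a = b`. -/
theorem eq_of_pow_eq_of_mem_support {X : Scheme.{u}} (D : X.IdealSheafData) {W : X.affineOpens}
    {x : X} (hxW : x ∈ W.1) (hx : x ∈ D.support) {d : Γ(X, W)} (hd : d ∈ nonZeroDivisors Γ(X, W))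
    (hDW : D.ideal W = Ideal.span {d}) {a b : ℕ} (h : D.ideal W ^ a = D.ideal W ^ b) : a = b := by
  by_contra hab
  have hunit : IsUnit d := by
    rcases lt_or_gt_of_ne hab with h1 | h1
    · exact isUnit_of_span_pow_eq hd h1 (hDW ▸ h)
    · exact isUnit_of_span_pow_eq hd h1 (hDW ▸ h.symm)
  rw [Scheme.IdealSheafData.mem_support_iff_of_mem hxW, Scheme.mem_zeroLocus_iff] at hx
  have h1 : d ∈ D.ideal W := hDW ▸ Ideal.mem_span_singleton_self d
  apply hx d h1
  rw [Scheme.basicOpen_of_isUnit _ hunit]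
  exact hxW

/-- The hypothesis that an ideal sheaf is locally generated by a non-zero-divisor. -/
def LocPrincipal {X : Scheme.{u}} (D : X.IdealSheafData) : Prop :=
  ∀ x : X, ∃ U : X.affineOpens, x ∈ (U : X.Opens) ∧
    ∃ g : Γ(X, U), g ∈ nonZeroDivisors Γ(X, U) ∧ D.ideal U = Ideal.span {g}

theorem cross_mul_eq {X : Scheme.{u}} (D E : X.IdealSheafData) (hD : LocPrincipal D)
    (hE : LocPrincipal E) {x : X} (hx : x ∈ (D.support : Set X) ∪ (E.support : Set X))
    {U U' : X.affineOpens} (hxU : x ∈ U.1) (hxU' : x ∈ U'.1) {m n m' n' : ℕ}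
    (h1 : D.ideal U ^ m = E.ideal U ^ n) (h2 : D.ideal U' ^ m' = E.ideal U' ^ n') :
    m * n' = m' * n := by
  obtain ⟨UD, hxUD, gD, hgD, hDU⟩ := hD x
  obtain ⟨UE, hxUE, gE, hgE, hEU⟩ := hE x
  obtain ⟨_, ⟨W, hW, rfl⟩, hxW, hWle⟩ := X.isBasis_affineOpens.exists_subset_of_mem_open
    (show x ∈ ((U.1 ⊓ U'.1 ⊓ UD.1 ⊓ UE.1 : X.Opens) : Set X) from ⟨⟨⟨hxU, hxU'⟩, hxUD⟩, hxUE⟩)
    (U.1 ⊓ U'.1 ⊓ UD.1 ⊓ UE.1 : X.Opens).2
  let W' : X.affineOpens := ⟨W, hW⟩
  have hWU : W' ≤ U := fun y hy => (hWle hy).1.1.1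
  have hWU' : W' ≤ U' := fun y hy => (hWle hy).1.1.2
  have hWUD : W' ≤ UD := fun y hy => (hWle hy).1.2
  have hWUE : W' ≤ UE := fun y hy => (hWle hy).2
  have r1 := pow_eq_pow_res D E hWU h1
  have r2 := pow_eq_pow_res D E hWU' h2
  have hDW := ideal_res_eq_span D hWUD hDU
  have hEW := ideal_res_eq_span E hWUE hEU
  have hdW := res_mem_nonZeroDivisors (U := UD) (V := W') hWUD hgD
  have heW := res_mem_nonZeroDivisors (U := UE) (V := W') hWUE hgE
  rcases hx with hx | hx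
  · refine eq_of_pow_eq_of_mem_support D (W := W') hxW hx hdW hDW ?_
    calc D.ideal W' ^ (m * n') = (D.ideal W' ^ m) ^ n' := pow_mul _ _ _
      _ = (E.ideal W' ^ n) ^ n' := by rw [r1]
      _ = (E.ideal W' ^ n') ^ n := by rw [← pow_mul, ← pow_mul, mul_comm]
      _ = (D.ideal W' ^ m') ^ n := by rw [r2]
      _ = D.ideal W' ^ (m' * n) := (pow_mul _ _ _).symm
  · have : n * m' = n' * m := by
      refine eq_of_pow_eq_of_mem_support E (W := W') hxW hx heW hEW ?_
      calc E.ideal W' ^ (n * m') = (E.ideal W' ^ n) ^ m' := pow_mul _ _ _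
        _ = (D.ideal W' ^ m) ^ m' := by rw [r1]
        _ = (D.ideal W' ^ m') ^ m := by rw [← pow_mul, ← pow_mul, mul_comm]
        _ = (E.ideal W' ^ n') ^ m := by rw [r2]
        _ = E.ideal W' ^ (n' * m) := (pow_mul _ _ _).symm
    rw [mul_comm m n', mul_comm m' n]
    exact this.symm

theorem pow_mul_rel {X : Scheme.{u}} (D E : X.IdealSheafData) {U : X.affineOpens} {m n : ℕ}
    (h : D.ideal U ^ m = E.ideal U ^ n) (c : ℕ) : D.ideal U ^ (c * m) = E.ideal U ^ (c * n) := by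
  rw [mul_comm c m, mul_comm c n, pow_mul, pow_mul, h]

/-- arithmetic: proportionality is transitive through a nonzero pair -/
theorem cross_trans {m n m₀ n₀ m' n' : ℕ} (h0 : (m, n) ≠ (0, 0)) (h1 : m * n₀ = m₀ * n)
    (h2 : m * n' = m' * n) : m' * n₀ = m₀ * n' := by
  rcases Nat.eq_zero_or_pos m with hm | hm
  · subst hm
    have hn : n ≠ 0 := fun h => h0 (by rw [h])
    have hm₀ : m₀ = 0 := by
      have : m₀ * n = 0 := by rw [← h1]; simp
      rcases Nat.mul_eq_zero.1 this with h | h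
      · exact h
      · exact absurd h hn
    have hm' : m' = 0 := by
      have : m' * n = 0 := by rw [← h2]; simp
      rcases Nat.mul_eq_zero.1 this with h | h
      · exact h
      · exact absurd h hn
    rw [hm₀, hm']; simp
  · apply Nat.eq_of_mul_eq_mul_left hm
    calc m * (m' * n₀) = m' * (m * n₀) := by ring
      _ = m' * (m₀ * n) := by rw [h1]
      _ = m₀ * (m' * n) := by ring
      _ = m₀ * (m * n') := by rw [h2]
      _ = m * (m₀ * n') := by ring

theorem exists_pow_eq_pow (X : Scheme.{u}) [IsNoetherian X] (D E : X.IdealSheafData)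
    (hD : LocPrincipal D) (hE : LocPrincipal E)
    (hconn : IsPreconnected ((D.support : Set X) ∪ (E.support : Set X)))
    (hloc : ∀ x : X, ∃ U : X.affineOpens, x ∈ (U : X.Opens) ∧
      ∃ m n : ℕ, (m, n) ≠ (0, 0) ∧ D.ideal U ^ m = E.ideal U ^ n) :
    ∃ m n : ℕ, (m, n) ≠ (0, 0) ∧ ∀ U : X.affineOpens, D.ideal U ^ m = E.ideal U ^ n := by
  classical
  set Z : Set X := (D.support : Set X) ∪ (E.support : Set X) with hZdef
  -- reduce to a local statement with a fixed pair `(m₀, n₀)`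
  suffices hlocal : ∃ m₀ n₀ : ℕ, (m₀, n₀) ≠ (0, 0) ∧ ∀ x : X, ∃ U : X.affineOpens, x ∈ U.1 ∧
      ∃ s : ℕ, 0 < s ∧ D.ideal U ^ (s * m₀) = E.ideal U ^ (s * n₀) by
    obtain ⟨m₀, n₀, h0, hl⟩ := hlocal
    choose U hxU s hs hUs using hl
    -- finite subcover
    obtain ⟨t, ht⟩ := isCompact_univ.elim_finite_subcover (fun x => ((U x).1 : Set X))
      (fun x => (U x).1.2) (fun x _ => Set.mem_iUnion.2 ⟨x, hxU x⟩)
    let P : ℕ := ∏ x ∈ t, s x
    have hPpos : 0 < P := Finset.prod_pos fun x _ => hs x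
    refine ⟨P * m₀, P * n₀, ?_, ?_⟩
    · intro h
      have h1 : P * m₀ = 0 := congrArg Prod.fst h
      have h2 : P * n₀ = 0 := congrArg Prod.snd h
      apply h0
      rw [Prod.mk.injEq]
      exact ⟨(Nat.mul_eq_zero.1 h1).resolve_left hPpos.ne', (Nat.mul_eq_zero.1 h2).resolve_left hPpos.ne'⟩
    · have hcov : ⨆ x : {x // x ∈ t}, (U x.1).1 = ⊤ := by
        rw [eq_top_iff]
        intro y _
        have := ht (Set.mem_univ y)
        simp only [Set.mem_iUnion] at this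
        obtain ⟨x, hxt, hy⟩ := this
        rw [TopologicalSpace.Opens.mem_iSup]
        exact ⟨⟨x, hxt⟩, hy⟩
      have hext : D ^ (P * m₀) = E ^ (P * n₀) := by
        refine Scheme.IdealSheafData.ext_of_iSup_eq_top (fun x : {x // x ∈ t} => U x.1) hcov ?_
        rintro ⟨x, hxt⟩
        change D.ideal (U x) ^ (P * m₀) = E.ideal (U x) ^ (P * n₀)
        obtain ⟨c, hc⟩ : s x ∣ P := Finset.dvd_prod_of_mem s hxt
        have := pow_mul_rel D E (hUs x) c
        have e1 : P * m₀ = c * (s x * m₀) := by rw [hc]; ring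
        have e2 : P * n₀ = c * (s x * n₀) := by rw [hc]; ring
        rw [e1, e2]
        exact this
      intro V
      have := congrArg (fun I : X.IdealSheafData => I.ideal V) hext
      simpa using this
  by_cases hZne : Z.Nonempty
  swap
  · -- both supports empty: both ideal sheaves are `⊤`
    rw [Set.not_nonempty_iff_eq_empty] at hZne
    have hDs : D.support = ⊥ := by
      apply TopologicalSpace.Closeds.ext
      have : (D.support : Set X) ⊆ Z := Set.subset_union_left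
      rw [hZne] at this
      exact Set.subset_empty_iff.1 this
    have hEs : E.support = ⊥ := by
      apply TopologicalSpace.Closeds.ext
      have : (E.support : Set X) ⊆ Z := Set.subset_union_right
      rw [hZne] at this
      exact Set.subset_empty_iff.1 this
    rw [Scheme.IdealSheafData.support_eq_bot_iff] at hDs hEs
    refine ⟨1, 1, by simp, fun x => ?_⟩
    obtain ⟨U, hxU, -⟩ := hloc x
    exact ⟨U, hxU, 1, Nat.one_pos, by rw [hDs, hEs]⟩
  obtain ⟨x₀, hx₀⟩ := hZne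
  obtain ⟨U₀, hxU₀, m₀, n₀, h0, hQ0⟩ := hloc x₀
  let A : Set X := ⋃ (U : X.affineOpens) (_ : ∃ m n : ℕ, (m, n) ≠ (0, 0) ∧
    D.ideal U ^ m = E.ideal U ^ n ∧ m * n₀ = m₀ * n), (U.1 : Set X)
  let B : Set X := ⋃ (U : X.affineOpens) (_ : ∃ m n : ℕ, (m, n) ≠ (0, 0) ∧
    D.ideal U ^ m = E.ideal U ^ n ∧ m * n₀ ≠ m₀ * n), (U.1 : Set X)
  have hA : IsOpen A := isOpen_iUnion fun U => isOpen_iUnion fun _ => U.1.2
  have hB : IsOpen B := isOpen_iUnion fun U => isOpen_iUnion fun _ => U.1.2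
  have hcover : Z ⊆ A ∪ B := by
    intro x _
    obtain ⟨U, hxU, m, n, hmn, hQ⟩ := hloc x
    by_cases hrel : m * n₀ = m₀ * n
    · exact Or.inl (Set.mem_iUnion₂.2 ⟨U, ⟨m, n, hmn, hQ, hrel⟩, hxU⟩)
    · exact Or.inr (Set.mem_iUnion₂.2 ⟨U, ⟨m, n, hmn, hQ, hrel⟩, hxU⟩)
  have hdisj : Z ∩ (A ∩ B) = ∅ := by
    rw [Set.eq_empty_iff_forall_notMem]
    rintro x ⟨hxZ, hxA, hxB⟩
    obtain ⟨U, ⟨m, n, hmn, hQ, hrel⟩, hxU⟩ := Set.mem_iUnion₂.1 hxA
    obtain ⟨U', ⟨m', n', hmn', hQ', hrel'⟩, hxU'⟩ := Set.mem_iUnion₂.1 hxB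
    have hc := cross_mul_eq D E hD hE hxZ hxU hxU' hQ hQ'
    exact hrel' (cross_trans hmn hrel hc)
  have hx₀A : x₀ ∈ A := Set.mem_iUnion₂.2 ⟨U₀, ⟨m₀, n₀, h0, hQ0, rfl⟩, hxU₀⟩
  have hZA : Z ⊆ A := by
    rcases (isPreconnected_iff_subset_of_disjoint.1 hconn) A B hA hB hcover hdisj with h | h
    · exact h
    · exfalso
      have : x₀ ∈ Z ∩ (A ∩ B) := ⟨hx₀, hx₀A, h hx₀⟩
      rw [hdisj] at this
      exact this
  refine ⟨m₀, n₀, h0, fun x => ?_⟩
  by_cases hxZ : x ∈ Z
  · obtain ⟨U, ⟨m, n, hmn, hQ, hrel⟩, hxU⟩ := Set.mem_iUnion₂.1 (hZA hxZ)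
    refine ⟨U, hxU, m + n, ?_, ?_⟩
    · rcases Nat.eq_zero_or_pos (m + n) with h | h
      · exfalso
        apply hmn
        rw [Prod.mk.injEq]
        omega
      · exact h
    · have e1 : (m + n) * m₀ = (m₀ + n₀) * m := by
        have : n * m₀ = m * n₀ := by rw [hrel, mul_comm]
        calc (m + n) * m₀ = m * m₀ + n * m₀ := by ring
          _ = m * m₀ + m * n₀ := by rw [this]
          _ = (m₀ + n₀) * m := by ring
      have e2 : (m + n) * n₀ = (m₀ + n₀) * n := by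
        calc (m + n) * n₀ = m * n₀ + n * n₀ := by ring
          _ = m₀ * n + n * n₀ := by rw [hrel]
          _ = (m₀ + n₀) * n := by ring
      rw [e1, e2]
      exact pow_mul_rel D E hQ _
  · -- a neighbourhood missing both supports
    have hopen : IsOpen Zᶜ := (D.support.2.union E.support.2).isOpen_compl
    obtain ⟨_, ⟨W, hW, rfl⟩, hxW, hWle⟩ := X.isBasis_affineOpens.exists_subset_of_mem_open
      (show x ∈ Zᶜ from hxZ) hopen
    have htop : ∀ (I : X.IdealSheafData), (I.support : Set X) ⊆ Z →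
        I.ideal ⟨W, hW⟩ = ⊤ := by
      intro I hI
      have h1 : (I.support : Set X) ∩ W = ∅ := by
        rw [Set.eq_empty_iff_forall_notMem]
        rintro y ⟨hyS, hyW⟩
        exact hWle hyW (hI hyS)
      rw [I.coe_support_inter ⟨W, hW⟩, ← hW.fromSpec_image_zeroLocus, Set.image_eq_empty,
        PrimeSpectrum.zeroLocus_empty_iff_eq_top] at h1
      exact h1
    refine ⟨⟨W, hW⟩, hxW, 1, Nat.one_pos, ?_⟩
    rw [htop D Set.subset_union_left, htop E Set.subset_union_right]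
    simp [Ideal.top_pow]

end Groth.Agent.Lib.Helper4.CDivProp
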