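import Mathlib

/-!
# Étale coordinates and differentials (helper4)

For a `k`-algebra `C` and a tuple `x : ι → C`, the map `k[X_i] → C`, `X_i ↦ x_i` is étale iff
`C` is smooth over `k` and the `d x_i` form a basis of `Ω[C⁄k]`. In particular étaleness only
depends on the differentials `d x_i`.
-/

set_option autoImplicit false
set_option linter.style.haveILetI false

namespace Groth.Agent.Lib.helper4.CharPTrick

open MvPolynomial KaehlerDifferential TensorProduct

section alg

variable (k : Type*) [CommRing k] (ι : Type*) (C : Type*) [CommRing C] [Algebra k C]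
  [Algebra (MvPolynomial ι k) C] [IsScalarTower k (MvPolynomial ι k) C]

/-- the basis `d x_i` of `Ω[C⁄k]` for `C` formally étale over a polynomial ring -/
noncomputable def basisOfFormallyEtale [Algebra.FormallyEtale (MvPolynomial ι k) C] :
    Module.Basis ι C Ω[C⁄k] :=
  (Algebra.TensorProduct.basis C (mvPolynomialBasis k ι)).map
    (tensorKaehlerEquivOfFormallyEtale k (MvPolynomial ι k) C)

lemma basisOfFormallyEtale_apply [Algebra.FormallyEtale (MvPolynomial ι k) C] (i : ι) :
    basisOfFormallyEtale k ι C i = D k C (algebraMap (MvPolynomial ι k) C (X i)) := by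
  simp [basisOfFormallyEtale, Algebra.TensorProduct.basis_apply, mvPolynomialBasis_apply]

theorem formallyEtale_of_basis [Algebra.FormallySmooth k C] (b : Module.Basis ι C Ω[C⁄k])
    (hb : ∀ i, b i = D k C (algebraMap (MvPolynomial ι k) C (X i))) :
    Algebra.FormallyEtale (MvPolynomial ι k) C := by
  set b0 := Algebra.TensorProduct.basis C (mvPolynomialBasis k ι) with hb0
  have hmap : mapBaseChange k (MvPolynomial ι k) C = (b0.equiv b (Equiv.refl ι)).toLinearMap := by
    apply b0.ext
    intro i
    rw [LinearEquiv.coe_coe, Module.Basis.equiv_apply, Equiv.refl_apply, hb, hb0,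
      Algebra.TensorProduct.basis_apply, mvPolynomialBasis_apply, mapBaseChange_tmul, one_smul,
      map_D]
  have hbij : Function.Bijective (mapBaseChange k (MvPolynomial ι k) C) := by
    rw [hmap]
    exact (b0.equiv b (Equiv.refl ι)).bijective
  refine ⟨?_, ?_⟩
  · refine ⟨fun a b' => ?_⟩
    have h0 : ∀ ω : Ω[C⁄MvPolynomial ι k], ω = 0 := by
      intro ω
      obtain ⟨η, rfl⟩ := KaehlerDifferential.map_surjective k (MvPolynomial ι k) C ω
      obtain ⟨ξ, rfl⟩ := hbij.2 η
      exact (KaehlerDifferential.exact_mapBaseChange_map k (MvPolynomial ι k) C _).mpr ⟨ξ, rfl⟩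
    rw [h0 a, h0 b']
  · refine ⟨fun a b' => ?_⟩
    have h0 : ∀ y : Algebra.H1Cotangent (MvPolynomial ι k) C, y = 0 := by
      intro y
      have h1 : Algebra.H1Cotangent.δ k (MvPolynomial ι k) C y = 0 := by
        apply hbij.1
        rw [map_zero]
        exact (Algebra.H1Cotangent.exact_δ_mapBaseChange k (MvPolynomial ι k) C _).mpr ⟨y, rfl⟩
      obtain ⟨z, rfl⟩ := (Algebra.H1Cotangent.exact_map_δ k (MvPolynomial ι k) C y).mp h1
      rw [Subsingleton.elim z 0, map_zero]
    rw [h0 a, h0 b']

end alg

section coords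

variable {k : Type*} [CommRing k] {n : ℕ} {C : Type*} [CommRing C] [Algebra k C]

theorem data_of_etale_aeval (x : Fin n → C)
    (h : (aeval x : MvPolynomial (Fin n) k →ₐ[k] C).toRingHom.Etale) :
    Algebra.FormallySmooth k C ∧ Algebra.FinitePresentation k C ∧
      ∃ b : Module.Basis (Fin n) C Ω[C⁄k], ∀ i, b i = D k C (x i) := by
  letI : Algebra (MvPolynomial (Fin n) k) C :=
    (aeval x : MvPolynomial (Fin n) k →ₐ[k] C).toRingHom.toAlgebra
  haveI : IsScalarTower k (MvPolynomial (Fin n) k) C :=
    IsScalarTower.of_algebraMap_eq (fun r =>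
      ((aeval x : MvPolynomial (Fin n) k →ₐ[k] C).commutes r).symm)
  haveI : Algebra.Etale (MvPolynomial (Fin n) k) C := h
  refine ⟨Algebra.FormallySmooth.comp k (MvPolynomial (Fin n) k) C,
    Algebra.FinitePresentation.trans k (MvPolynomial (Fin n) k) C,
    basisOfFormallyEtale k (Fin n) C, fun i => ?_⟩
  rw [basisOfFormallyEtale_apply]
  congr 1
  exact aeval_X x i

theorem etale_aeval_of_data (x : Fin n → C) [Algebra.FormallySmooth k C]
    [Algebra.FinitePresentation k C]
    (b : Module.Basis (Fin n) C Ω[C⁄k]) (hb : ∀ i, b i = D k C (x i)) :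
    (aeval x : MvPolynomial (Fin n) k →ₐ[k] C).toRingHom.Etale := by
  letI : Algebra (MvPolynomial (Fin n) k) C :=
    (aeval x : MvPolynomial (Fin n) k →ₐ[k] C).toRingHom.toAlgebra
  haveI : IsScalarTower k (MvPolynomial (Fin n) k) C :=
    IsScalarTower.of_algebraMap_eq (fun r =>
      ((aeval x : MvPolynomial (Fin n) k →ₐ[k] C).commutes r).symm)
  haveI : Algebra.FormallyEtale (MvPolynomial (Fin n) k) C :=
    formallyEtale_of_basis k (Fin n) C b (fun i => by
      rw [hb]; congr 1; exact (aeval_X x i).symm)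
  haveI : Algebra.FinitePresentation (MvPolynomial (Fin n) k) C :=
    Algebra.FinitePresentation.of_restrict_scalars_finitePresentation k _ C
  exact (⟨inferInstance, inferInstance⟩ : Algebra.Etale (MvPolynomial (Fin n) k) C)

/-- étaleness of coordinates only depends on their differentials -/
theorem etale_aeval_of_D_eq (x x' : Fin n → C)
    (h : (aeval x : MvPolynomial (Fin n) k →ₐ[k] C).toRingHom.Etale)
    (hD : ∀ i, D k C (x' i) = D k C (x i)) :
    (aeval x' : MvPolynomial (Fin n) k →ₐ[k] C).toRingHom.Etale := by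
  obtain ⟨h1, h2, b, hb⟩ := data_of_etale_aeval x h
  exact etale_aeval_of_data x' b (fun i => by rw [hb, hD])

end coords


section charp

variable {k : Type*} [CommRing k] {C : Type*} [CommRing C] [Algebra k C]

lemma D_pow_char (p : ℕ) (hp : (p : C) = 0) (u : C) (m : ℕ) :
    D k C (u ^ (p * m)) = 0 := by
  rw [mul_comm, pow_mul, Derivation.leibniz_pow, ← Nat.cast_smul_eq_nsmul C, hp, zero_smul]

lemma D_sub_pow_char (p : ℕ) (hp : (p : C) = 0) (a u : C) (m : ℕ) :
    D k C (a - u ^ (p * m)) = D k C a := by
  rw [map_sub, D_pow_char p hp, sub_zero]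

end charp

end Groth.Agent.Lib.helper4.CharPTrick
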