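import Mathlib
import Groth.Agent.Lib.Helper4.CharP1

/-!
# Elements of an étale algebra over a polynomial ring are algebraic (helper4)
-/

set_option autoImplicit false
set_option linter.style.haveILetI false

namespace Groth.Agent.Lib.helper4.CharPTrick

open TensorProduct

theorem isAlgebraic_of_etale {P C : Type*} [CommRing P] [IsDomain P] [CommRing C] [Algebra P C]
    [Algebra.Etale P C] (w : C) : IsAlgebraic P w := by
  let K := FractionRing P
  have hfin : Module.Finite K (K ⊗[P] C) := Algebra.FormallyUnramified.finite_of_free K (K ⊗[P] C)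
  have hinj : Function.Injective (Algebra.TensorProduct.includeRight : C →ₐ[P] K ⊗[P] C) :=
    Algebra.TensorProduct.includeRight_injective (IsFractionRing.injective P K)
  have halg : IsAlgebraic K ((1 : K) ⊗ₜ[P] w) :=
    (Algebra.IsIntegral.of_finite K (K ⊗[P] C)).isIntegral _ |>.isAlgebraic
  have h2 : IsAlgebraic P ((1 : K) ⊗ₜ[P] w) := (IsFractionRing.isAlgebraic_iff P K _).mpr halg
  exact (isAlgebraic_algHom_iff _ hinj).mp h2

open MvPolynomial in
theorem exists_relation_of_etale {k : Type*} [Field k] {n : ℕ} {C : Type*} [CommRing C]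
    [Algebra k C] (x : Fin n → C)
    (h : (aeval x : MvPolynomial (Fin n) k →ₐ[k] C).toRingHom.Etale) (w : C) :
    ∃ f : MvPolynomial (Fin (n + 1)) k, f ≠ 0 ∧ aeval (Fin.cons w x : Fin (n + 1) → C) f = 0 := by
  letI : Algebra (MvPolynomial (Fin n) k) C :=
    (aeval x : MvPolynomial (Fin n) k →ₐ[k] C).toRingHom.toAlgebra
  haveI : Algebra.Etale (MvPolynomial (Fin n) k) C := h
  obtain ⟨q, hq0, hq⟩ := isAlgebraic_of_etale (P := MvPolynomial (Fin n) k) w
  refine ⟨(finSuccEquiv k n).symm q, fun h0 => hq0 ?_, ?_⟩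
  · have := congrArg (finSuccEquiv k n) h0
    simpa using this
  · rw [← eval₂_finSuccEquiv, AlgEquiv.apply_symm_apply]
    exact hq

end Groth.Agent.Lib.helper4.CharPTrick
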