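import Mathlib
import Groth.Agent.Lib.Helper4.CharP1
import Groth.Agent.Lib.Helper4.CharP2
import Groth.Agent.Lib.Helper4.CharP3

/-!
# The characteristic `p` trick: étale coordinates can be made finite (helper4)

Let `k` be a field of characteristic `p`, `C` a `k`-algebra, `x : Fin n → C` étale coordinates
(i.e. `k[X] → C`, `X_i ↦ x_i` is étale) and `J` an ideal of `C` such that `C ⧸ J` is integral over
`k[X]`. Then there are new étale coordinates `x'` with `x' ≡ x mod J` making `C` finite over
`k[X]`.
-/

set_option autoImplicit false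
set_option linter.style.haveILetI false

namespace Groth.Agent.Lib.helper4.CharPTrick

section general

open Polynomial

variable {P P' C : Type*} [CommRing P] [CommRing P'] [CommRing C] [Algebra P C]

/-- if `g : P' → C` has integral image and `h (z)` is integral for a monic nonconstant
polynomial `h` over `P'`, then `z` is integral -/
theorem isIntegral_of_eval₂_monic (g : P' →+* C) (hg : ∀ a, IsIntegral P (g a)) (h : P'[X])
    (hm : h.Monic) (hd : h.natDegree ≠ 0) (z : C) (hz : IsIntegral P (h.eval₂ g z)) :
    IsIntegral P z := by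
  rcases subsingleton_or_nontrivial C with hC | hC
  · rw [Subsingleton.elim z 0]; exact isIntegral_zero
  let T := integralClosure P C
  let g' : P' →+* T := g.codRestrict T (fun a => hg a)
  haveI : Nontrivial T := by
    refine ⟨⟨0, 1, fun h01 => ?_⟩⟩
    have := congrArg (fun t : T => (t : C)) h01
    simp at this
  have hmon : (h.map g').Monic := hm.map g'
  have hdeg : (h.map g').natDegree ≠ 0 := by rwa [hm.natDegree_map]
  have hev : aeval z (h.map g') = h.eval₂ g z := by
    rw [aeval_def, eval₂_map]
    rfl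
  have h1 : IsIntegral T (aeval z (h.map g')) := by
    rw [hev]
    exact (isIntegral_algebraMap (R := T) (A := C) (x := ⟨h.eval₂ g z, hz⟩))
  have h2 : IsIntegral T z := IsIntegral.of_aeval_monic hmon hdeg h1
  exact isIntegral_trans z h2

/-- transitivity: `z` integral over `g`, `g` with integral image -/
theorem isIntegral_of_isIntegralElem (g : P' →+* C) (hg : ∀ a, IsIntegral P (g a)) (z : C)
    (hz : g.IsIntegralElem z) : IsIntegral P z := by
  obtain ⟨q, hq, hq0⟩ := hz
  rcases subsingleton_or_nontrivial C with hC | hC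
  · rw [Subsingleton.elim z 0]; exact isIntegral_zero
  haveI : Nontrivial P' := g.domain_nontrivial
  refine isIntegral_of_eval₂_monic g hg (q * X) (hq.mul monic_X) ?_ z ?_
  · rw [hq.natDegree_mul monic_X, natDegree_X]
    omega
  · rw [eval₂_mul, hq0, zero_mul]; exact isIntegral_zero

end general

section coords

open MvPolynomial

variable (k : Type*) [Field k] {n : ℕ} {C : Type*} [CommRing C] [Algebra k C]

/-- `z` is integral over `k[x_1, …, x_n]` -/
def IntOver (x : Fin n → C) (z : C) : Prop :=
  (aeval x : MvPolynomial (Fin n) k →ₐ[k] C).toRingHom.IsIntegralElem z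

variable {k}

lemma intOver_map (x : Fin n → C) (a : MvPolynomial (Fin n) k) : IntOver k x (aeval x a) :=
  RingHom.isIntegralElem_map _

lemma intOver_coord (x : Fin n → C) (i : Fin n) : IntOver k x (x i) := by
  have := intOver_map (k := k) x (X i)
  rwa [aeval_X] at this

lemma IntOver.add {x : Fin n → C} {a b : C} (ha : IntOver k x a) (hb : IntOver k x b) :
    IntOver k x (a + b) :=
  RingHom.IsIntegralElem.add _ ha hb

lemma IntOver.mul {x : Fin n → C} {a b : C} (ha : IntOver k x a) (hb : IntOver k x b) :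
    IntOver k x (a * b) :=
  RingHom.IsIntegralElem.mul _ ha hb

lemma IntOver.pow {x : Fin n → C} {a : C} (ha : IntOver k x a) (m : ℕ) :
    IntOver k x (a ^ m) := by
  letI : Algebra (MvPolynomial (Fin n) k) C :=
    (aeval x : MvPolynomial (Fin n) k →ₐ[k] C).toRingHom.toAlgebra
  exact IsIntegral.pow (R := MvPolynomial (Fin n) k) ha m

lemma IntOver.of_pow {x : Fin n → C} {a : C} {m : ℕ} (hm : 0 < m) (ha : IntOver k x (a ^ m)) :
    IntOver k x a := by
  letI : Algebra (MvPolynomial (Fin n) k) C :=
    (aeval x : MvPolynomial (Fin n) k →ₐ[k] C).toRingHom.toAlgebra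
  exact IsIntegral.of_pow (R := MvPolynomial (Fin n) k) hm ha

lemma intOver_aeval {x x' : Fin n → C} (hx : ∀ i, IntOver k x' (x i))
    (a : MvPolynomial (Fin n) k) : IntOver k x' (aeval x a) := by
  induction a using MvPolynomial.induction_on with
  | C c =>
    have := intOver_map (k := k) x' (MvPolynomial.C c)
    rwa [aeval_C] at this ⊢
  | add p q hp hq => rw [map_add]; exact hp.add hq
  | mul_X p i hp => rw [map_mul, aeval_X]; exact hp.mul (hx i)

lemma intOver_trans {x x' : Fin n → C} (hx : ∀ i, IntOver k x' (x i)) {z : C}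
    (hz : IntOver k x z) : IntOver k x' z := by
  letI : Algebra (MvPolynomial (Fin n) k) C :=
    (aeval x' : MvPolynomial (Fin n) k →ₐ[k] C).toRingHom.toAlgebra
  exact isIntegral_of_isIntegralElem (P := MvPolynomial (Fin n) k)
    (aeval x : MvPolynomial (Fin n) k →ₐ[k] C).toRingHom (fun a => intOver_aeval hx a) z hz

lemma intOver_of_monic {x x' : Fin n → C} (hx : ∀ i, IntOver k x' (x i)) {z : C}
    (h : Polynomial (MvPolynomial (Fin n) k)) (hm : h.Monic) (hd : h.natDegree ≠ 0)
    (hz : IntOver k x' (h.eval₂ (aeval x : MvPolynomial (Fin n) k →ₐ[k] C).toRingHom z)) :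
    IntOver k x' z := by
  letI : Algebra (MvPolynomial (Fin n) k) C :=
    (aeval x' : MvPolynomial (Fin n) k →ₐ[k] C).toRingHom.toAlgebra
  exact isIntegral_of_eval₂_monic (P := MvPolynomial (Fin n) k)
    (aeval x : MvPolynomial (Fin n) k →ₐ[k] C).toRingHom (fun a => intOver_aeval hx a) h hm hd z hz

end coords


section core

open MvPolynomial KaehlerDifferential

variable {k : Type*} [Field k] {n : ℕ} {C : Type*} [CommRing C] [Algebra k C]

theorem exists_coords_list (p : ℕ) (hp0 : 0 < p) (hp : (p : C) = 0) (J : Ideal C) (x : Fin n → C)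
    (hx : (aeval x : MvPolynomial (Fin n) k →ₐ[k] C).toRingHom.Etale) :
    ∀ ws : List C, (∀ w ∈ ws, w ∈ J) →
      ∃ x' : Fin n → C, (aeval x' : MvPolynomial (Fin n) k →ₐ[k] C).toRingHom.Etale ∧
        (∀ i, x' i - x i ∈ J) ∧ (∀ i, IntOver k x' (x i)) ∧ ∀ w ∈ ws, IntOver k x' w := by
  intro ws
  induction ws with
  | nil => intro _; exact ⟨x, hx, fun i => by simp, fun i => intOver_coord x i, by simp⟩
  | cons w ws ih =>
    intro hws
    obtain ⟨x'', hx'', hJ'', hint'', hws''⟩ :=
      ih (fun w' hw' => hws w' (List.mem_cons_of_mem _ hw'))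
    have hwJ : w ∈ J := hws w (List.mem_cons_self ..)
    obtain ⟨f, hf, hf0⟩ := exists_relation_of_etale x'' hx'' (w ^ p)
    obtain ⟨r, hr, hv⟩ := exists_isIntegralElem_sub_pow (w ^ p) x'' f hf hf0
    set x' : Fin n → C := fun i => x'' i - (w ^ p) ^ r i with hx'def
    have hx'eq : ∀ i, x' i = x'' i - w ^ (p * r i) := fun i => by rw [hx'def, pow_mul]
    have hw_int : IntOver k x' w := IntOver.of_pow hp0 hv
    have hx''int : ∀ i, IntOver k x' (x'' i) := fun i => by
      have : x'' i = x' i + (w ^ p) ^ r i := by rw [hx'def]; ring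
      rw [this]
      exact (intOver_coord x' i).add (IntOver.pow hv (r i))
    refine ⟨x', ?_, ?_, ?_, ?_⟩
    · exact etale_aeval_of_D_eq x'' x' hx''
        (fun i => by rw [hx'eq]; exact D_sub_pow_char p hp _ _ _)
    · intro i
      have : x' i - x i = (x'' i - x i) - w ^ (p * r i) := by rw [hx'eq]; ring
      rw [this]
      exact J.sub_mem (hJ'' i) (J.pow_mem_of_mem hwJ _ (Nat.mul_pos hp0 (hr i)))
    · exact fun i => intOver_trans hx''int (hint'' i)
    · intro w' hw'
      rcases List.mem_cons.mp hw' with rfl | hw'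
      · exact hw_int
      · exact intOver_trans hx''int (hws'' w' hw')

theorem exists_finite_etale_coords (p : ℕ) (hp0 : 0 < p) (hp : (p : C) = 0) (J : Ideal C)
    (x : Fin n → C) (hx : (aeval x : MvPolynomial (Fin n) k →ₐ[k] C).toRingHom.Etale)
    (hJ : ∀ z : C, ∃ h : Polynomial (MvPolynomial (Fin n) k), h.Monic ∧
      h.eval₂ (aeval x : MvPolynomial (Fin n) k →ₐ[k] C).toRingHom z ∈ J) :
    ∃ x' : Fin n → C, (aeval x' : MvPolynomial (Fin n) k →ₐ[k] C).toRingHom.Etale ∧
      (aeval x' : MvPolynomial (Fin n) k →ₐ[k] C).toRingHom.Finite ∧ ∀ i, x' i - x i ∈ J := by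
  obtain ⟨hsm, hfp, -⟩ := data_of_etale_aeval x hx
  haveI : Algebra.FiniteType k C := inferInstance
  obtain ⟨S, hS⟩ := (Algebra.FiniteType.out : (⊤ : Subalgebra k C).FG)
  choose h hm hhJ using hJ
  let wz : C → C := fun z =>
    (h z * Polynomial.X).eval₂ (aeval x : MvPolynomial (Fin n) k →ₐ[k] C).toRingHom z
  have hwz : ∀ z, wz z ∈ J := fun z => by
    simp only [wz, Polynomial.eval₂_mul, Polynomial.eval₂_X]
    exact J.mul_mem_right _ (hhJ z)
  obtain ⟨x', hx', hJ', hint, hws⟩ := exists_coords_list p hp0 hp J x hx (S.toList.map wz)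
    (by
      intro w hw
      obtain ⟨z, -, rfl⟩ := List.mem_map.mp hw
      exact hwz z)
  refine ⟨x', hx', ?_, hJ'⟩
  have hgen : ∀ z ∈ S, IntOver k x' z := fun z hz => by
    rcases subsingleton_or_nontrivial C with hC | hC
    · rw [Subsingleton.elim z (aeval x' (0 : MvPolynomial (Fin n) k))]
      exact intOver_map x' _
    refine intOver_of_monic hint (h z * Polynomial.X) ((hm z).mul Polynomial.monic_X) ?_
      (hws _ (List.mem_map_of_mem (Finset.mem_toList.mpr hz)))
    rw [(hm z).natDegree_mul Polynomial.monic_X, Polynomial.natDegree_X]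
    omega
  have hall : ∀ c : C, IntOver k x' c := by
    intro c
    have hc : c ∈ Algebra.adjoin k (S : Set C) := by rw [hS]; trivial
    induction hc using Algebra.adjoin_induction with
    | mem z hz => exact hgen z hz
    | algebraMap r =>
      have := intOver_map (k := k) x' (MvPolynomial.C r)
      rwa [aeval_C] at this
    | add a b _ _ ha hb => exact ha.add hb
    | mul a b _ _ ha hb => exact ha.mul hb
  refine RingHom.IsIntegral.to_finite hall ?_
  letI : Algebra (MvPolynomial (Fin n) k) C :=
    (aeval x' : MvPolynomial (Fin n) k →ₐ[k] C).toRingHom.toAlgebra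
  haveI : IsScalarTower k (MvPolynomial (Fin n) k) C :=
    IsScalarTower.of_algebraMap_eq (fun r =>
      ((aeval x' : MvPolynomial (Fin n) k →ₐ[k] C).commutes r).symm)
  exact Algebra.FiniteType.of_restrictScalars_finiteType k (MvPolynomial (Fin n) k) C

end core

end Groth.Agent.Lib.helper4.CharPTrick
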