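import Mathlib

/-!
# Lifting étale algebras along a surjection, weakly (helper4)

If `R → A` is surjective and `B` is an étale `A`-algebra then there is an étale `R`-algebra `C₀`
with a surjective `R`-algebra map `C₀ → B`.
-/

set_option autoImplicit false
set_option linter.style.haveILetI false

universe u v w

namespace Groth.Agent.Lib.helper4.CharPTrick

open MvPolynomial Algebra

theorem exists_etale_surjective_of_surjective {R : Type u} {A : Type v} {B : Type w}
    [CommRing R] [CommRing A] [CommRing B] [Algebra R A] [Algebra A B] [Algebra R B]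
    [IsScalarTower R A B] (hRA : Function.Surjective (algebraMap R A)) [Algebra.Etale A B] :
    ∃ (C₀ : Type u) (_ : CommRing C₀) (_ : Algebra R C₀), Algebra.Etale R C₀ ∧
      ∃ π : C₀ →ₐ[R] B, Function.Surjective π := by
  classical
  obtain ⟨ι, σ, hσ, hι, Pr, hdim⟩ :=
    (Algebra.Etale.iff_isStandardSmoothOfRelativeDimension_zero.mp
      (inferInstance : Algebra.Etale A B)).out
  cases nonempty_fintype σ
  -- lift the relations
  have hsurj : Function.Surjective (MvPolynomial.map (σ := ι) (algebraMap R A)) :=
    MvPolynomial.map_surjective _ hRA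
  choose g hg using fun j : σ => hsurj (Pr.relation j)
  let C₁ := MvPolynomial ι R ⧸ Ideal.span (Set.range g)
  let Pre : PreSubmersivePresentation R C₁ ι σ :=
    PreSubmersivePresentation.naive (v := g) Pr.map Pr.map_inj
  let δ : C₁ := Pre.jacobian
  let C₀ := Localization.Away δ
  let Q : SubmersivePresentation C₁ C₀ Unit Unit := SubmersivePresentation.localizationAway C₀ δ
  let QP : PreSubmersivePresentation R C₀ (Unit ⊕ ι) (Unit ⊕ σ) :=
    Q.toPreSubmersivePresentation.comp Pre
  have hunit : IsUnit QP.jacobian := by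
    rw [PreSubmersivePresentation.comp_jacobian_eq_jacobian_smul_jacobian]
    have h1 : IsUnit (algebraMap C₁ C₀ δ) :=
      IsLocalization.map_units _ (⟨δ, 1, by simp⟩ : Submonoid.powers δ)
    have h2 : Q.toPreSubmersivePresentation.jacobian = algebraMap C₁ C₀ δ :=
      PreSubmersivePresentation.localizationAway_jacobian δ
    rw [h2, Algebra.smul_def]
    exact h1.mul h1
  let SP : SubmersivePresentation R C₀ (Unit ⊕ ι) (Unit ⊕ σ) :=
    { toPreSubmersivePresentation := QP, jacobian_isUnit := hunit }
  have hdim0 : SP.dimension = 0 := by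
    have h1 : QP.dimension = Q.dimension + Pre.dimension :=
      PreSubmersivePresentation.dimension_comp_eq_dimension_add_dimension _ _
    have h2 : Q.dimension = 0 := Presentation.localizationAway_dimension_zero δ
    have h3 : Pre.dimension = Pr.dimension := rfl
    show QP.dimension = 0
    rw [h1, h2, h3, hdim]
  haveI : IsStandardSmoothOfRelativeDimension 0 R C₀ :=
    SP.isStandardSmoothOfRelativeDimension hdim0
  refine ⟨C₀, inferInstance, inferInstance, inferInstance, ?_⟩
  -- the map to `B`
  let f₀ : MvPolynomial ι R →ₐ[R] B := aeval Pr.val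
  have hf₀ : ∀ q : MvPolynomial ι R, f₀ q = aeval Pr.val (MvPolynomial.map (algebraMap R A) q) := by
    intro q
    simp only [f₀]
    rw [MvPolynomial.aeval_map_algebraMap]
  have hker : ∀ a ∈ Ideal.span (Set.range g), f₀ a = 0 := by
    intro a ha
    have : Ideal.span (Set.range g) ≤ RingHom.ker f₀.toRingHom := by
      rw [Ideal.span_le]
      rintro _ ⟨j, rfl⟩
      show f₀ (g j) = 0
      rw [hf₀, hg]
      exact Pr.aeval_val_relation j
    exact this ha
  let π₁ : C₁ →ₐ[R] B := Ideal.Quotient.liftₐ _ f₀ hker
  have hπ₁surj : Function.Surjective π₁ := by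
    intro b
    obtain ⟨q, rfl⟩ := Pr.algebraMap_surjective b
    obtain ⟨q', rfl⟩ := hsurj q
    refine ⟨Ideal.Quotient.mk _ q', ?_⟩
    show f₀ q' = _
    rw [hf₀, Generators.algebraMap_apply]
  have hδ : IsUnit (π₁ δ) := by
    have h1 : δ = algebraMap Pre.Ring C₁ Pre.jacobiMatrix.det :=
      PreSubmersivePresentation.jacobian_eq_jacobiMatrix_det Pre
    have h2 : π₁ δ = Pr.jacobian := by
      rw [h1, PreSubmersivePresentation.jacobian_eq_jacobiMatrix_det]
      show f₀ Pre.jacobiMatrix.det = _
      rw [hf₀, Generators.algebraMap_apply]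
      have hdet : MvPolynomial.map (algebraMap R A) Pre.jacobiMatrix.det =
          Pr.toPreSubmersivePresentation.jacobiMatrix.det := by
        rw [RingHom.map_det]
        congr 1
        ext i j : 1
        simp only [RingHom.mapMatrix_apply, Matrix.map_apply]
        rw [PreSubmersivePresentation.jacobiMatrix_apply,
          PreSubmersivePresentation.jacobiMatrix_apply]
        show MvPolynomial.map (algebraMap R A) (pderiv (Pr.map i) (g j)) = _
        rw [← MvPolynomial.pderiv_map, hg]
      rw [hdet]
    rw [h2]
    exact Pr.jacobian_isUnit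
  let π : C₀ →ₐ[R] B := IsLocalization.liftAlgHom (M := Submonoid.powers δ) (f := π₁) (by
    rintro ⟨_, m, rfl⟩
    simp only [map_pow]
    exact hδ.pow m)
  refine ⟨π, fun b => ?_⟩
  obtain ⟨c, rfl⟩ := hπ₁surj b
  exact ⟨algebraMap C₁ C₀ c, by simp [π]⟩

end Groth.Agent.Lib.helper4.CharPTrick
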