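import Mathlib
import Groth.Agent.Lib.Helper4.CharP4
import Groth.Agent.Lib.Helper4.CharP5

/-!
# Finite étale algebras over quotients of polynomial rings in characteristic `p` (helper4)

Let `k` be a field of characteristic `p`, `P = k[X_1, …, X_n]`, `P → A` a surjection and `B` a
finite étale `A`-algebra. Then there are a finite étale `P`-algebra `C` and a surjective
`A`-algebra map `A ⊗[P] C → B`.
-/

set_option autoImplicit false
set_option linter.style.haveILetI false

universe u v w

namespace Groth.Agent.Lib.helper4.CharPTrick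

open MvPolynomial TensorProduct

theorem exists_finite_etale_of_coords {k : Type u} [Field k] (p : ℕ) (hp0 : 0 < p) [CharP k p]
    {n : ℕ} {A : Type v} {B : Type w} [CommRing A] [CommRing B]
    [Algebra (MvPolynomial (Fin n) k) A]
    (hA : Function.Surjective (algebraMap (MvPolynomial (Fin n) k) A)) [Algebra A B]
    [Module.Finite A B] (C₀ : Type u) [CommRing C₀] [Algebra k C₀] (x : Fin n → C₀)
    (hx : (aeval x : MvPolynomial (Fin n) k →ₐ[k] C₀).toRingHom.Etale)
    (π : C₀ →+* B) (hπ : Function.Surjective π)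
    (hc : ∀ q : MvPolynomial (Fin n) k, π (aeval x q) = algebraMap A B (algebraMap _ A q)) :
    ∃ (C : Type u) (_ : CommRing C) (_ : Algebra (MvPolynomial (Fin n) k) C),
      Module.Finite (MvPolynomial (Fin n) k) C ∧ Algebra.Etale (MvPolynomial (Fin n) k) C ∧
      ∃ ψ : A ⊗[MvPolynomial (Fin n) k] C →ₐ[A] B, Function.Surjective ψ := by
  letI : Algebra (MvPolynomial (Fin n) k) B :=
    ((algebraMap A B).comp (algebraMap (MvPolynomial (Fin n) k) A)).toAlgebra
  haveI : IsScalarTower (MvPolynomial (Fin n) k) A B := IsScalarTower.of_algebraMap_eq' rfl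
  haveI : Module.Finite (MvPolynomial (Fin n) k) A :=
    Module.Finite.of_surjective (Algebra.linearMap (MvPolynomial (Fin n) k) A) hA
  haveI : Module.Finite (MvPolynomial (Fin n) k) B := Module.Finite.trans A B
  have hp : ((p : ℕ) : C₀) = 0 := by
    rw [← map_natCast (algebraMap k C₀), CharP.cast_eq_zero k p, map_zero]
  have hcomp : π.comp (aeval x : MvPolynomial (Fin n) k →ₐ[k] C₀).toRingHom =
      algebraMap (MvPolynomial (Fin n) k) B := RingHom.ext hc
  have hJ : ∀ z : C₀, ∃ h : Polynomial (MvPolynomial (Fin n) k), h.Monic ∧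
      h.eval₂ (aeval x : MvPolynomial (Fin n) k →ₐ[k] C₀).toRingHom z ∈ RingHom.ker π := by
    intro z
    obtain ⟨h, hm, h0⟩ := Algebra.IsIntegral.isIntegral (R := MvPolynomial (Fin n) k) (π z)
    refine ⟨h, hm, ?_⟩
    rw [RingHom.mem_ker, Polynomial.hom_eval₂, hcomp]
    exact h0
  obtain ⟨x', h1, h2, h3⟩ := exists_finite_etale_coords (k := k) p hp0 hp (RingHom.ker π) x hx hJ
  have hcomp' : π.comp (aeval x' : MvPolynomial (Fin n) k →ₐ[k] C₀).toRingHom =
      algebraMap (MvPolynomial (Fin n) k) B := by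
    rw [← hcomp]
    apply MvPolynomial.ringHom_ext
    · intro r
      simp
    · intro i
      have := h3 i
      rw [RingHom.mem_ker, map_sub, sub_eq_zero] at this
      simpa using this
  refine ⟨C₀, inferInstance, (aeval x' : MvPolynomial (Fin n) k →ₐ[k] C₀).toRingHom.toAlgebra,
    h2, h1, ?_⟩
  letI : Algebra (MvPolynomial (Fin n) k) C₀ :=
    (aeval x' : MvPolynomial (Fin n) k →ₐ[k] C₀).toRingHom.toAlgebra
  let π' : C₀ →ₐ[MvPolynomial (Fin n) k] B :=
    { π with commutes' := fun q => RingHom.congr_fun hcomp' q }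
  refine ⟨Algebra.TensorProduct.lift (Algebra.ofId A B) π' (fun a c => Commute.all _ _), ?_⟩
  intro b
  obtain ⟨c, rfl⟩ := hπ b
  refine ⟨1 ⊗ₜ c, ?_⟩
  rw [Algebra.TensorProduct.lift_tmul, map_one, one_mul]
  rfl

theorem exists_finite_etale_cover {k : Type u} [Field k] (p : ℕ) [Fact p.Prime] [CharP k p]
    (n : ℕ) {A : Type v} {B : Type w} [CommRing A] [CommRing B]
    [Algebra (MvPolynomial (Fin n) k) A]
    (hA : Function.Surjective (algebraMap (MvPolynomial (Fin n) k) A)) [Algebra A B]
    [Module.Finite A B] [Algebra.Etale A B] :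
    ∃ (C : Type u) (_ : CommRing C) (_ : Algebra (MvPolynomial (Fin n) k) C),
      Module.Finite (MvPolynomial (Fin n) k) C ∧ Algebra.Etale (MvPolynomial (Fin n) k) C ∧
      ∃ ψ : A ⊗[MvPolynomial (Fin n) k] C →ₐ[A] B, Function.Surjective ψ := by
  letI : Algebra (MvPolynomial (Fin n) k) B :=
    ((algebraMap A B).comp (algebraMap (MvPolynomial (Fin n) k) A)).toAlgebra
  haveI : IsScalarTower (MvPolynomial (Fin n) k) A B := IsScalarTower.of_algebraMap_eq' rfl
  obtain ⟨C₀, _, _, hEt, π, hπ⟩ := exists_etale_surjective_of_surjective (B := B) hA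
  letI : Algebra k C₀ :=
    ((algebraMap (MvPolynomial (Fin n) k) C₀).comp (algebraMap k (MvPolynomial (Fin n) k))).toAlgebra
  haveI : IsScalarTower k (MvPolynomial (Fin n) k) C₀ := IsScalarTower.of_algebraMap_eq' rfl
  have hx : (aeval (fun i => algebraMap (MvPolynomial (Fin n) k) C₀ (X i)) :
      MvPolynomial (Fin n) k →ₐ[k] C₀) = IsScalarTower.toAlgHom k (MvPolynomial (Fin n) k) C₀ := by
    apply MvPolynomial.algHom_ext
    intro i
    simp
  refine exists_finite_etale_of_coords p (Fact.out : p.Prime).pos hA C₀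
    (fun i => algebraMap (MvPolynomial (Fin n) k) C₀ (X i)) ?_ π.toRingHom hπ ?_
  · rw [hx]
    exact RingHom.etale_algebraMap.mpr hEt
  · intro q
    rw [hx]
    exact π.commutes q

end Groth.Agent.Lib.helper4.CharPTrick
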