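import Mathlib
import Groth.Agent.Lib.Helper4.CharP4
import Groth.Agent.Lib.Helper4.CharP5

/-!
# Finite étale covers of closed subschemes of affine schemes in characteristic `p` (helper4)

If `R` has characteristic `p`, `A = R/I` and `B` is finite étale over `A`, there is a finite étale
`R`-algebra `C` with a surjection `A ⊗[R] C → B`.  We descend to a finitely generated
`𝔽_p`-subalgebra and use the polynomial ring case.
-/

set_option autoImplicit false
set_option linter.style.haveILetI false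

universe u v w

namespace Groth.Agent.Lib.helper4.CharPTrick

open TensorProduct

set_option backward.isDefEq.respectTransparency false in
lemma isIntegral_subalgebra_of_coeffs {F A B : Type*} [CommRing F] [CommRing A] [CommRing B]
    [Algebra F A] [Algebra A B] (S : Subalgebra F A) (p : Polynomial A) (hm : p.Monic)
    (hc : (p.coeffs : Set A) ⊆ S) (y : B) (hy : Polynomial.eval₂ (algebraMap A B) y p = 0) :
    IsIntegral S y := by
  let p' : Polynomial S := p.toSubring S.toSubring hc
  refine ⟨p', (p.monic_toSubring _ _).mpr hm, ?_⟩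
  rw [IsScalarTower.algebraMap_eq S A B, ← Polynomial.eval₂_map]
  convert! hy
  apply p.map_toSubring S.toSubring

theorem exists_fg_model (F : Type v) [CommRing F] {A B : Type u} [CommRing A] [CommRing B]
    [Algebra F A] [Algebra A B] [Module.Finite A B] [Algebra.Etale A B] :
    ∃ (A₁ : Subalgebra F A) (B₁ : Type u) (_ : CommRing B₁) (_ : Algebra A₁ B₁)
      (j : B₁ →ₐ[A₁] B), A₁.FG ∧ Algebra.Etale A₁ B₁ ∧ (∀ y, IsIntegral A₁ (j y)) ∧
        Submodule.span A (Set.range j) = ⊤ := by
  classical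
  obtain ⟨A₀, B₀, _, _, hfg, hEt, ⟨e⟩⟩ := Algebra.Etale.exists_subalgebra_fg F A B
  haveI : Algebra.FiniteType A₀ B₀ := inferInstance
  obtain ⟨S₀, hS₀⟩ := (Algebra.FiniteType.out : (⊤ : Subalgebra A₀ B₀).FG)
  have hint : ∀ b : B₀, IsIntegral A (e.symm (1 ⊗ₜ b)) := fun b => Algebra.IsIntegral.isIntegral _
  choose h hm h0 using hint
  let coeffSet : Set A := ⋃ b ∈ S₀, ((h b).coeffs : Set A)
  have hcfin : coeffSet.Finite := Set.Finite.biUnion S₀.finite_toSet (fun b _ => Finset.finite_toSet _)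
  let A₁ : Subalgebra F A := A₀ ⊔ Algebra.adjoin F coeffSet
  have hA₁fg : A₁.FG := hfg.sup ⟨hcfin.toFinset, by simp⟩
  have h01 : A₀ ≤ A₁ := le_sup_left
  letI : Algebra A₀ A₁ := (Subalgebra.inclusion h01).toRingHom.toAlgebra
  haveI : IsScalarTower A₀ A₁ A := IsScalarTower.of_algebraMap_eq (fun _ => rfl)
  let j₀ : A₁ ⊗[A₀] B₀ →ₐ[A₁] A ⊗[A₀] B₀ :=
    Algebra.TensorProduct.map (Algebra.ofId A₁ A) (AlgHom.id A₀ B₀)
  let j : A₁ ⊗[A₀] B₀ →ₐ[A₁] B := (e.symm.toAlgHom.restrictScalars A₁).comp j₀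
  have hj1 : ∀ b : B₀, j (1 ⊗ₜ b) = e.symm (1 ⊗ₜ b) := fun b => by
    show e.symm (j₀ (1 ⊗ₜ b)) = _
    congr 1
  have hjt : ∀ (a : A₁) (b : B₀), j (a ⊗ₜ b) = algebraMap A₁ B a * j (1 ⊗ₜ b) := fun a b => by
    have : a ⊗ₜ[A₀] b = a • ((1 : A₁) ⊗ₜ[A₀] b) := by
      rw [TensorProduct.smul_tmul', smul_eq_mul, mul_one]
    rw [this, map_smul, Algebra.smul_def]
  refine ⟨A₁, A₁ ⊗[A₀] B₀, inferInstance, inferInstance, j, hA₁fg, inferInstance, ?_, ?_⟩
  · have hb : ∀ b : B₀, IsIntegral A₁ (j (1 ⊗ₜ b)) := by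
      intro b
      have hbmem : b ∈ Algebra.adjoin A₀ (S₀ : Set B₀) := by rw [hS₀]; trivial
      induction hbmem using Algebra.adjoin_induction with
      | mem b hb =>
        rw [hj1]
        refine isIntegral_subalgebra_of_coeffs A₁ (h b) (hm b) ?_ _ (h0 b)
        intro c hc
        have : c ∈ coeffSet := Set.mem_biUnion hb hc
        exact (le_sup_right : Algebra.adjoin F coeffSet ≤ A₁) (Algebra.subset_adjoin this)
      | algebraMap r =>
        have : ((1 : A₁) ⊗ₜ[A₀] (algebraMap A₀ B₀ r)) =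
            algebraMap A₁ (A₁ ⊗[A₀] B₀) (algebraMap A₀ A₁ r) := by
          rw [Algebra.TensorProduct.algebraMap_apply, Algebra.algebraMap_self, RingHom.id_apply,
            Algebra.algebraMap_eq_smul_one, Algebra.algebraMap_eq_smul_one (A := ↥A₁),
            TensorProduct.smul_tmul]
        rw [this, j.commutes]
        exact isIntegral_algebraMap
      | add a b _ _ ha hb => rw [TensorProduct.tmul_add, map_add]; exact ha.add hb
      | mul a b _ _ ha hb =>
        have : ((1 : A₁) ⊗ₜ[A₀] (a * b)) = (1 ⊗ₜ a) * (1 ⊗ₜ b) := by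
          rw [Algebra.TensorProduct.tmul_mul_tmul, one_mul]
        rw [this, map_mul]; exact ha.mul hb
    intro y
    induction y using TensorProduct.induction_on with
    | zero => rw [map_zero]; exact isIntegral_zero
    | tmul a b => rw [hjt]; exact isIntegral_algebraMap.mul (hb b)
    | add x y hx hy => rw [map_add]; exact hx.add hy
  · rw [eq_top_iff]
    intro b _
    have hb : ∀ t : A ⊗[A₀] B₀, e.symm t ∈ Submodule.span A (Set.range j) := by
      intro t
      induction t using TensorProduct.induction_on with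
      | zero => rw [map_zero]; exact Submodule.zero_mem _
      | tmul a b₀ =>
        have : a ⊗ₜ[A₀] b₀ = a • ((1 : A) ⊗ₜ[A₀] b₀) := by
          rw [TensorProduct.smul_tmul', smul_eq_mul, mul_one]
        rw [this, map_smul, ← hj1]
        exact Submodule.smul_mem _ _ (Submodule.subset_span ⟨_, rfl⟩)
      | add x y hx hy => rw [map_add]; exact Submodule.add_mem _ hx hy
    have := hb (e b)
    rwa [AlgEquiv.symm_apply_apply] at this

section
open MvPolynomial

theorem exists_finite_etale_coords_map {k : Type u} [Field k] (p : ℕ) (hp0 : 0 < p) [CharP k p]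
    {n : ℕ} {B : Type w} [CommRing B] [Algebra (MvPolynomial (Fin n) k) B]
    (C₀ : Type v) [CommRing C₀] [Algebra k C₀] (x : Fin n → C₀)
    (hx : (aeval x : MvPolynomial (Fin n) k →ₐ[k] C₀).toRingHom.Etale)
    (π : C₀ →+* B) (hint : ∀ z, IsIntegral (MvPolynomial (Fin n) k) (π z))
    (hc : π.comp (aeval x : MvPolynomial (Fin n) k →ₐ[k] C₀).toRingHom =
      algebraMap (MvPolynomial (Fin n) k) B) :
    ∃ x' : Fin n → C₀, (aeval x' : MvPolynomial (Fin n) k →ₐ[k] C₀).toRingHom.Etale ∧
      (aeval x' : MvPolynomial (Fin n) k →ₐ[k] C₀).toRingHom.Finite ∧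
      π.comp (aeval x' : MvPolynomial (Fin n) k →ₐ[k] C₀).toRingHom =
        algebraMap (MvPolynomial (Fin n) k) B := by
  have hp : ((p : ℕ) : C₀) = 0 := by
    rw [← map_natCast (algebraMap k C₀), CharP.cast_eq_zero k p, map_zero]
  have hJ : ∀ z : C₀, ∃ h : Polynomial (MvPolynomial (Fin n) k), h.Monic ∧
      h.eval₂ (aeval x : MvPolynomial (Fin n) k →ₐ[k] C₀).toRingHom z ∈ RingHom.ker π := by
    intro z
    obtain ⟨h, hm, h0⟩ := hint z
    refine ⟨h, hm, ?_⟩
    rw [RingHom.mem_ker, Polynomial.hom_eval₂, hc]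
    exact h0
  obtain ⟨x', h1, h2, h3⟩ := exists_finite_etale_coords (k := k) p hp0 hp (RingHom.ker π) x hx hJ
  refine ⟨x', h1, h2, ?_⟩
  rw [← hc]
  apply MvPolynomial.ringHom_ext
  · intro r
    simp
  · intro i
    have := h3 i
    rw [RingHom.mem_ker, map_sub, sub_eq_zero] at this
    simpa using this


end

end Groth.Agent.Lib.helper4.CharPTrick
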