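import Mathlib
import Groth.Agent.Lib.Helper4.CharP7

/-!
# Injectivity of `π₁` for closed immersions of affine schemes in characteristic `p`, algebra form (helper4)
-/
set_option autoImplicit false
set_option linter.style.haveILetI false
universe u v w
namespace Groth.Agent.Lib.helper4.CharPTrick
open TensorProduct

theorem exists_cover_of_baseChange {P : Type v} {R A B : Type u} {C₀ : Type v} [CommRing P]
    [CommRing R] [CommRing A] [CommRing B] [CommRing C₀] [Algebra P R] [Algebra R A] [Algebra A B]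
    (φ : P →+* C₀) (hfin : φ.Finite) (het : φ.Etale) (πB : C₀ →+* B)
    (hc : πB.comp φ = (algebraMap A B).comp ((algebraMap R A).comp (algebraMap P R)))
    (hspan : Submodule.span A (Set.range πB) = ⊤) :
    ∃ (C : Type (max u v)) (_ : CommRing C) (_ : Algebra R C), Module.Finite R C ∧
      Algebra.Etale R C ∧ ∃ ψ : A ⊗[R] C →ₐ[A] B, Function.Surjective ψ := by
  letI : Algebra P C₀ := φ.toAlgebra
  haveI : Module.Finite P C₀ := hfin
  haveI : Algebra.Etale P C₀ := het
  letI : Algebra R B := ((algebraMap A B).comp (algebraMap R A)).toAlgebra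
  haveI : IsScalarTower R A B := IsScalarTower.of_algebraMap_eq' rfl
  letI : Algebra P B := ((algebraMap R B).comp (algebraMap P R)).toAlgebra
  haveI : IsScalarTower P R B := IsScalarTower.of_algebraMap_eq' rfl
  let πB' : C₀ →ₐ[P] B := { πB with commutes' := fun q => RingHom.congr_fun hc q }
  let g : R ⊗[P] C₀ →ₐ[R] B :=
    Algebra.TensorProduct.lift (Algebra.ofId R B) πB' (fun a c => Commute.all _ _)
  let ψ : A ⊗[R] (R ⊗[P] C₀) →ₐ[A] B :=
    Algebra.TensorProduct.lift (Algebra.ofId A B) g (fun a c => Commute.all _ _)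
  refine ⟨R ⊗[P] C₀, inferInstance, inferInstance, inferInstance, inferInstance, ψ, ?_⟩
  have hψ : ∀ c : C₀, ψ (1 ⊗ₜ (1 ⊗ₜ c)) = πB c := by
    intro c
    simp only [ψ, g, Algebra.TensorProduct.lift_tmul, map_one, one_mul]
    rfl
  have hle : Submodule.span A (Set.range πB) ≤ LinearMap.range ψ.toLinearMap := by
    rw [Submodule.span_le]
    rintro _ ⟨c, rfl⟩
    exact ⟨(1 : A) ⊗ₜ[R] ((1 : R) ⊗ₜ[P] c), hψ c⟩
  intro b
  have hb : b ∈ LinearMap.range ψ.toLinearMap := hle (hspan ▸ Submodule.mem_top)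
  obtain ⟨t, ht⟩ := hb
  exact ⟨t, ht⟩

theorem exists_finite_etale_of_charP (p : ℕ) [Fact p.Prime] (R A B : Type u) [CommRing R]
    [CommRing A] [CommRing B] [CharP R p] [Algebra R A]
    (hRA : Function.Surjective (algebraMap R A)) [Algebra A B] [Module.Finite A B]
    [Algebra.Etale A B] :
    ∃ (C : Type u) (_ : CommRing C) (_ : Algebra R C), Module.Finite R C ∧ Algebra.Etale R C ∧
      ∃ ψ : A ⊗[R] C →ₐ[A] B, Function.Surjective ψ := by
  classical
  letI : Algebra (ZMod p) R := ZMod.algebra R p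
  letI : Algebra (ZMod p) A := ((algebraMap R A).comp (algebraMap (ZMod p) R)).toAlgebra
  haveI : IsScalarTower (ZMod p) R A := IsScalarTower.of_algebraMap_eq' rfl
  obtain ⟨A₁, B₁, _, _, j, hfg, hEt, hjint, hjspan⟩ := exists_fg_model (ZMod p) (A := A) (B := B)
  obtain ⟨T, hT⟩ := hfg
  choose r hr using hRA
  let N := T.card
  let eT : Fin N ≃ T := T.equivFin.symm
  let ρ : MvPolynomial (Fin N) (ZMod p) →ₐ[ZMod p] R := MvPolynomial.aeval (fun i => r (eT i : A))
  let ρA : MvPolynomial (Fin N) (ZMod p) →ₐ[ZMod p] A :=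
    MvPolynomial.aeval (fun i => ((eT i : T) : A))
  have hρρA : (IsScalarTower.toAlgHom (ZMod p) R A).comp ρ = ρA := by
    apply MvPolynomial.algHom_ext
    intro i
    simp [ρ, ρA, hr]
  have hrange : ρA.range = A₁ := by
    rw [← hT, ← Algebra.adjoin_range_eq_range_aeval]
    congr 1
    ext a
    constructor
    · rintro ⟨i, rfl⟩
      exact (eT i).2
    · intro ha
      exact ⟨eT.symm ⟨a, ha⟩, by simp⟩
  have hρA : ∀ q, algebraMap R A (ρ q) ∈ A₁ := by
    intro q
    have : algebraMap R A (ρ q) = ρA q := by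
      rw [← hρρA]; rfl
    rw [this, ← hrange]
    exact ⟨q, rfl⟩
  let ρ₁ : MvPolynomial (Fin N) (ZMod p) →+* A₁ :=
    ((algebraMap R A).comp ρ.toRingHom).codRestrict A₁ hρA
  have hρ₁surj : Function.Surjective ρ₁ := by
    rintro ⟨a, ha⟩
    rw [← hrange] at ha
    obtain ⟨q, rfl⟩ := ha
    refine ⟨q, Subtype.ext ?_⟩
    show algebraMap R A (ρ q) = ρA q
    rw [← hρρA]; rfl
  letI : Algebra (MvPolynomial (Fin N) (ZMod p)) A₁ := ρ₁.toAlgebra
  letI : Algebra (MvPolynomial (Fin N) (ZMod p)) B₁ := ((algebraMap A₁ B₁).comp ρ₁).toAlgebra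
  haveI : IsScalarTower (MvPolynomial (Fin N) (ZMod p)) A₁ B₁ := IsScalarTower.of_algebraMap_eq' rfl
  obtain ⟨C₀, _, _, hC₀, π, hπ⟩ := exists_etale_surjective_of_surjective
    (R := MvPolynomial (Fin N) (ZMod p)) (A := A₁) (B := B₁) hρ₁surj
  letI : Algebra (ZMod p) C₀ := ((algebraMap (MvPolynomial (Fin N) (ZMod p)) C₀).comp
    (algebraMap (ZMod p) (MvPolynomial (Fin N) (ZMod p)))).toAlgebra
  haveI : IsScalarTower (ZMod p) (MvPolynomial (Fin N) (ZMod p)) C₀ :=
    IsScalarTower.of_algebraMap_eq' rfl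
  letI : Algebra (MvPolynomial (Fin N) (ZMod p)) R := ρ.toRingHom.toAlgebra
  letI : Algebra (MvPolynomial (Fin N) (ZMod p)) B :=
    ((algebraMap A B).comp ((algebraMap R A).comp (algebraMap (MvPolynomial (Fin N) (ZMod p)) R))).toAlgebra
  haveI : IsScalarTower (MvPolynomial (Fin N) (ZMod p)) A₁ B := IsScalarTower.of_algebraMap_eq (fun q => rfl)
  let πB : C₀ →+* B := (j : B₁ →+* B).comp (π : C₀ →+* B₁)
  haveI : Algebra.IsIntegral (MvPolynomial (Fin N) (ZMod p)) A₁ :=
    Algebra.isIntegral_of_surjective hρ₁surj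
  have hint : ∀ z, IsIntegral (MvPolynomial (Fin N) (ZMod p)) (πB z) := fun z =>
    isIntegral_trans (R := MvPolynomial (Fin N) (ZMod p)) (A := A₁) _ (hjint (π z))
  have hx : (MvPolynomial.aeval (fun i => algebraMap (MvPolynomial (Fin N) (ZMod p)) C₀ (MvPolynomial.X i)) :
      MvPolynomial (Fin N) (ZMod p) →ₐ[ZMod p] C₀) =
      IsScalarTower.toAlgHom (ZMod p) (MvPolynomial (Fin N) (ZMod p)) C₀ := by
    apply MvPolynomial.algHom_ext
    intro i
    simp
  have hc : πB.comp (MvPolynomial.aeval (fun i => algebraMap (MvPolynomial (Fin N) (ZMod p)) C₀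
      (MvPolynomial.X i)) : MvPolynomial (Fin N) (ZMod p) →ₐ[ZMod p] C₀).toRingHom =
      algebraMap (MvPolynomial (Fin N) (ZMod p)) B := by
    rw [hx]
    refine RingHom.ext (fun q => ?_)
    show j (π (algebraMap _ C₀ q)) = _
    rw [π.commutes, IsScalarTower.algebraMap_apply (MvPolynomial (Fin N) (ZMod p)) A₁ B₁, j.commutes]
    rfl
  obtain ⟨x', h1, h2, h3⟩ := exists_finite_etale_coords_map (k := ZMod p) p (Fact.out : p.Prime).pos C₀
    (fun i => algebraMap (MvPolynomial (Fin N) (ZMod p)) C₀ (MvPolynomial.X i))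
    (by rw [hx]; exact RingHom.etale_algebraMap.mpr hC₀) πB hint hc
  refine exists_cover_of_baseChange (P := MvPolynomial (Fin N) (ZMod p)) (R := R) (A := A) (B := B)
    (MvPolynomial.aeval x' : MvPolynomial (Fin N) (ZMod p) →ₐ[ZMod p] C₀).toRingHom h2 h1 πB h3 ?_
  rw [← hjspan]
  congr 1
  ext b
  constructor
  · rintro ⟨c, rfl⟩
    exact ⟨π c, rfl⟩
  · rintro ⟨b₁, rfl⟩
    obtain ⟨c, rfl⟩ := hπ b₁
    exact ⟨c, rfl⟩

end Groth.Agent.Lib.helper4.CharPTrick
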