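import Mathlib

/-!
# Idempotents of `B[1/π]` when `(π)` is radical (helper4)

Let `π` be a non-zero-divisor of a ring `B` such that `π ∣ b ^ 2 → π ∣ b` (i.e. `B ⧸ π` is reduced).
* `exists_idem_lift` : every idempotent of `B[1/π]` comes from an idempotent of `B`.
* `disjoint_closure_of_cover_basicOpen` : if `D(π) = U ⊔ V` with `U`, `V` open, then the closures of `U`
  and `V` in `Spec B` are disjoint.
* `dvd_of_isReduced_tensor` : if `k ⊗[R] B` is reduced for `k = R ⧸ (ϖ)`-like quotient, then `(ϖ)` is radical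
  in `B`.
-/

set_option backward.isDefEq.respectTransparency false
set_option backward.isDefEq.respectTransparency.types false
set_option autoImplicit false
set_option linter.style.haveILetI false

open PrimeSpectrum TensorProduct

namespace Groth.Agent.Lib.helper4.ConnGenericFibre

theorem exists_idem_lift {B B' : Type*} [CommRing B] [CommRing B'] [Algebra B B'] (π : B)
    [IsLocalization.Away π B'] (hπ : π ∈ nonZeroDivisors B)
    (hrad : ∀ b : B, π ∣ b ^ 2 → π ∣ b) (e : B') (he : IsIdempotentElem e) :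
    ∃ b : B, IsIdempotentElem b ∧ algebraMap B B' b = e := by
  have hinj : Function.Injective (algebraMap B B') :=
    IsLocalization.injective B' ((Submonoid.powers_le (P := nonZeroDivisors B)).mpr hπ)
  have hu : IsUnit (algebraMap B B' π) := IsLocalization.Away.algebraMap_isUnit π
  have key : ∀ n : ℕ, ∀ b : B, algebraMap B B' b = e * algebraMap B B' π ^ n →
      ∃ b', algebraMap B B' b' = e := by
    intro n
    induction n with
    | zero => intro b hb; exact ⟨b, by simpa using hb⟩
    | succ n ih =>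
      intro b hb
      have h2 : b ^ 2 = b * π ^ (n + 1) := by
        apply hinj
        simp only [map_pow, map_mul, hb]
        have hee : e * e = e := he
        calc (e * algebraMap B B' π ^ (n + 1)) ^ 2
            = (e * e) * algebraMap B B' π ^ (n + 1) * algebraMap B B' π ^ (n + 1) := by ring
          _ = e * algebraMap B B' π ^ (n + 1) * algebraMap B B' π ^ (n + 1) := by rw [hee]
      obtain ⟨c, hc⟩ := hrad b ⟨b * π ^ n, by rw [h2]; ring⟩
      apply ih c
      apply hu.mul_left_injective
      show algebraMap B B' c * algebraMap B B' π = e * algebraMap B B' π ^ n * algebraMap B B' π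
      rw [← map_mul, mul_comm c π, ← hc, hb]
      ring
  obtain ⟨n, b, hb⟩ : ∃ (n : ℕ) (b : B), algebraMap B B' b = e * algebraMap B B' π ^ n := by
    obtain ⟨⟨b, s⟩, hs⟩ := IsLocalization.surj (Submonoid.powers π) e
    obtain ⟨n, hn⟩ := s.2
    refine ⟨n, b, ?_⟩
    have hn' : π ^ n = (s : B) := hn
    rw [← hs, ← map_pow, hn']
  obtain ⟨b', hb'⟩ := key n b hb
  refine ⟨b', ?_, hb'⟩
  apply hinj
  rw [map_mul, hb', he.eq]

theorem disjoint_closure_of_cover_basicOpen {B : Type*} [CommRing B] (π : B)
    (hπ : π ∈ nonZeroDivisors B) (hrad : ∀ b : B, π ∣ b ^ 2 → π ∣ b)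
    (U V : Set (PrimeSpectrum B)) (hU : IsOpen U) (hV : IsOpen V) (hUV : Disjoint U V)
    (hcov : U ∪ V = (basicOpen π : Set (PrimeSpectrum B))) :
    Disjoint (closure U) (closure V) := by
  let B' := Localization.Away π
  let c : PrimeSpectrum B' → PrimeSpectrum B := comap (algebraMap B B')
  have hc : Continuous c := continuous_comap _
  have hrange : Set.range c = (basicOpen π : Set (PrimeSpectrum B)) :=
    localization_away_comap_range B' π
  have hcompl : (c ⁻¹' U)ᶜ = c ⁻¹' V := by
    ext q
    have hq : c q ∈ U ∪ V := by rw [hcov, ← hrange]; exact ⟨q, rfl⟩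
    simp only [Set.mem_compl_iff, Set.mem_preimage]
    constructor
    · intro h; exact hq.resolve_left h
    · intro h h'; exact Set.disjoint_left.mp hUV h' h
  have hclopen : IsClopen (c ⁻¹' U) :=
    ⟨by rw [← isOpen_compl_iff, hcompl]; exact hV.preimage hc, hU.preimage hc⟩
  obtain ⟨e, he, hUe⟩ := PrimeSpectrum.isClopen_iff.mp hclopen
  obtain ⟨b, hb, hbe⟩ := exists_idem_lift (B' := B') π hπ hrad e he
  have hUb : U ⊆ (basicOpen b : Set (PrimeSpectrum B)) := by
    intro p hp
    have : p ∈ Set.range c := by rw [hrange, ← hcov]; exact Or.inl hp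
    obtain ⟨q, rfl⟩ := this
    have hq : q ∈ c ⁻¹' U := hp
    rw [hUe] at hq
    show b ∉ (c q).asIdeal
    intro hb'
    apply hq
    show e ∈ q.asIdeal
    rw [← hbe]
    exact hb'
  have hVb : V ⊆ zeroLocus {b} := by
    intro p hp
    have : p ∈ Set.range c := by rw [hrange, ← hcov]; exact Or.inr hp
    obtain ⟨q, rfl⟩ := this
    have hq : q ∉ c ⁻¹' U := by
      intro h
      exact Set.disjoint_left.mp hUV h hp
    rw [hUe] at hq
    rw [mem_zeroLocus, Set.singleton_subset_iff]
    show b ∈ (c q).asIdeal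
    by_contra hb'
    apply hq
    show e ∉ q.asIdeal
    rw [← hbe]
    exact hb'
  have h1 : closure U ⊆ (basicOpen b : Set (PrimeSpectrum B)) :=
    closure_minimal hUb (PrimeSpectrum.isClopen_iff.mpr ⟨b, hb, rfl⟩).1
  have h2 : closure V ⊆ zeroLocus {b} := closure_minimal hVb (isClosed_zeroLocus _)
  rw [Set.disjoint_left]
  intro p hpU hpV
  have := h2 hpV
  rw [mem_zeroLocus, Set.singleton_subset_iff] at this
  exact h1 hpU this

theorem dvd_of_isReduced_fiber {R B : Type*} [CommRing R] [CommRing B] [Algebra R B]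
    (m : Ideal R) [m.IsMaximal] (ϖ : R) (hϖ : m = Ideal.span {ϖ})
    (hred : IsReduced (m.Fiber B)) (b : B) (hb : algebraMap R B ϖ ∣ b ^ 2) :
    algebraMap R B ϖ ∣ b := by
  have h0 : (1 : m.ResidueField) ⊗ₜ[R] b = 0 := by
    apply IsNilpotent.eq_zero
    refine ⟨2, ?_⟩
    obtain ⟨c, hc⟩ := hb
    have hz : algebraMap R m.ResidueField ϖ = 0 :=
      (Ideal.algebraMap_residueField_eq_zero).mpr (hϖ ▸ Ideal.mem_span_singleton_self ϖ)
    rw [Algebra.TensorProduct.tmul_pow, one_pow, hc, ← Algebra.smul_def, TensorProduct.tmul_smul,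
      TensorProduct.smul_tmul', Algebra.smul_def, mul_one, hz, TensorProduct.zero_tmul]
  let e1 : (R ⧸ m) ≃ₐ[R] m.ResidueField :=
    AlgEquiv.ofBijective (IsScalarTower.toAlgHom R (R ⧸ m) m.ResidueField)
      m.bijective_algebraMap_quotient_residueField
  let e2 : B ⊗[R] (R ⧸ m) ≃ₐ[R] B ⊗[R] m.ResidueField :=
    Algebra.TensorProduct.congr AlgEquiv.refl e1
  let e3 := Algebra.TensorProduct.comm R B m.ResidueField
  let e0 := Algebra.TensorProduct.quotIdealMapEquivTensorQuot B m
  have h3 : e3 (e2 (e0 (Ideal.Quotient.mk _ b))) = 1 ⊗ₜ b := by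
    simp [e0, e2, e3, e1]
  have h1 : Ideal.Quotient.mk (m.map (algebraMap R B)) b = 0 := by
    apply e0.injective; apply e2.injective; apply e3.injective
    rw [h3, h0]; simp
  rw [Ideal.Quotient.eq_zero_iff_mem, hϖ, Ideal.map_span, Set.image_singleton,
    Ideal.mem_span_singleton] at h1
  exact h1

end Groth.Agent.Lib.helper4.ConnGenericFibre
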