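import Mathlib
import Groth.Agent.Lib.Helper4.ConnGenericFibre1

/-!
# Connectedness of the generic fibre over a discrete valuation ring (helper4)

For a flat morphism `f : X ⟶ Spec R`, `R` a DVR, with `X` connected and reduced special fibre, the generic
fibre is connected (`connectedSpace_genericFibre`).
-/

set_option backward.isDefEq.respectTransparency false
set_option backward.isDefEq.respectTransparency.types false
set_option autoImplicit false
set_option linter.style.haveILetI false

open CategoryTheory AlgebraicGeometry Limits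

universe u

namespace Groth.Agent.Lib.helper4.ConnGenericFibre

theorem singleton_bot_eq_basicOpen {R : Type u} [CommRing R] [IsDomain R]
    [IsDiscreteValuationRing R] (ϖ : R) (hϖ : Irreducible ϖ) :
    ({⟨⊥, Ideal.isPrime_bot⟩} : Set (PrimeSpectrum R)) = PrimeSpectrum.basicOpen ϖ := by
  ext p
  simp only [Set.mem_singleton_iff, SetLike.mem_coe, PrimeSpectrum.mem_basicOpen]
  constructor
  · rintro rfl h
    exact hϖ.ne_zero ((Ideal.mem_bot).mp h)
  · intro h
    by_contra hp
    have hne : p.asIdeal ≠ ⊥ := fun h0 => hp (PrimeSpectrum.ext h0)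
    have hmax : p.asIdeal.IsMaximal := p.2.isMaximal hne
    have : p.asIdeal = IsLocalRing.maximalIdeal R := IsLocalRing.eq_maximalIdeal hmax
    apply h
    rw [this, hϖ.maximalIdeal_eq]
    exact Ideal.mem_span_singleton_self ϖ

theorem isReduced_fiber_of_openImmersion {R : Type u} [CommRing R] {X : Scheme.{u}}
    (f : X ⟶ Spec (.of R)) (p : PrimeSpectrum R) (hred : IsReduced (f.fiber p))
    (S : Type u) [CommRing S] [Algebra R S] (j : Spec (.of S) ⟶ X) [IsOpenImmersion j]
    (hj : j ≫ f = Spec.map (CommRingCat.ofHom (algebraMap R S))) :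
    _root_.IsReduced (p.asIdeal.Fiber S) := by
  let g : Spec (.of S) ⟶ Spec (.of R) := Spec.map (CommRingCat.ofHom (algebraMap R S))
  let i : g.fiber p ⟶ f.fiber p :=
    pullback.map g ((Spec (.of R)).fromSpecResidueField p) f ((Spec (.of R)).fromSpecResidueField p)
      j (𝟙 _) (𝟙 _) (by simp [hj, g]) (by simp)
  haveI : IsOpenImmersion i := by
    dsimp only [i]; infer_instance
  haveI : IsReduced (g.fiber p) := isReduced_of_isOpenImmersion i
  let e := Spec.fiberToSpecResidueFieldIso R S p
  let e' : g.fiber p ≅ Spec (.of (p.asIdeal.Fiber S)) := Arrow.leftFunc.mapIso e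
  haveI : IsReduced (Spec (.of (p.asIdeal.Fiber S))) := isReduced_of_isOpenImmersion e'.inv
  exact (affine_isReduced_iff _).mp this

theorem disjoint_closure_core {R : Type u} [CommRing R] [IsDomain R]
    [IsDiscreteValuationRing R] {X : Scheme.{u}} (f : X ⟶ Spec (.of R)) [Flat f]
    (hred : IsReduced (f.fiber (IsLocalRing.closedPoint R)))
    (U V : Set X) (hU : IsOpen U) (hV : IsOpen V) (hUV : Disjoint U V)
    (hcov : U ∪ V = f ⁻¹' {(⟨⊥, Ideal.isPrime_bot⟩ : PrimeSpectrum R)}) :
    Disjoint (closure U) (closure V) := by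
  obtain ⟨ϖ, hϖ⟩ := IsDiscreteValuationRing.exists_irreducible R
  rw [Set.disjoint_left]
  intro x hxU hxV
  obtain ⟨W, hW, hxW⟩ : ∃ W : X.Opens, IsAffineOpen W ∧ x ∈ W := by
    obtain ⟨_, ⟨W, hW, rfl⟩, hxW, -⟩ :=
      X.isBasis_affineOpens.exists_subset_of_mem_open (Set.mem_univ x) isOpen_univ
    exact ⟨W, hW, hxW⟩
  let S : Type u := Γ(X, W)
  let j : Spec (.of S) ⟶ X := hW.fromSpec
  let φ : CommRingCat.of R ⟶ CommRingCat.of S := Spec.preimage (j ≫ f)
  have hφ : Spec.map φ = j ≫ f := Spec.map_preimage _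
  letI : Algebra R S := φ.hom.toAlgebra
  have hj : j ≫ f = Spec.map (CommRingCat.ofHom (algebraMap R S)) := hφ.symm
  haveI : IsOpenImmersion j := by dsimp only [j]; infer_instance
  have hflat : Module.Flat R S := by
    have h1 : Flat (Spec.map φ) := by rw [hφ]; infer_instance
    exact (Flat.SpecMap_iff).mp h1
  have hnzd : algebraMap R S ϖ ∈ nonZeroDivisors S := by
    have hreg := Module.Flat.isSMulRegular_of_nonZeroDivisors (M := S)
      (mem_nonZeroDivisors_of_ne_zero hϖ.ne_zero)
    rw [mem_nonZeroDivisors_iff_right]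
    intro b hb
    apply hreg
    simp only [smul_zero]
    rw [Algebra.smul_def, mul_comm]
    exact hb
  have hredS : _root_.IsReduced ((IsLocalRing.maximalIdeal R).Fiber S) :=
    isReduced_fiber_of_openImmersion f (IsLocalRing.closedPoint R) hred S j hj
  have hrad : ∀ b : S, algebraMap R S ϖ ∣ b ^ 2 → algebraMap R S ϖ ∣ b :=
    dvd_of_isReduced_fiber (IsLocalRing.maximalIdeal R) ϖ hϖ.maximalIdeal_eq hredS
  obtain ⟨y, rfl⟩ : ∃ y, j y = x := by
    have : x ∈ Set.range hW.fromSpec := by
      rw [hW.range_fromSpec]; exact hxW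
    exact this
  have hjopen : IsOpenMap j := j.isOpenEmbedding.isOpenMap
  have h1 : y ∈ closure (j ⁻¹' U) := by
    rw [← hjopen.preimage_closure_eq_closure_preimage j.continuous]; exact hxU
  have h2 : y ∈ closure (j ⁻¹' V) := by
    rw [← hjopen.preimage_closure_eq_closure_preimage j.continuous]; exact hxV
  have hcov' : j ⁻¹' U ∪ j ⁻¹' V =
      (PrimeSpectrum.basicOpen (algebraMap R S ϖ) : Set (PrimeSpectrum S)) := by
    rw [← Set.preimage_union, hcov, singleton_bot_eq_basicOpen ϖ hϖ]
    ext q
    have hq : f (j q) = (Spec.map (CommRingCat.ofHom (algebraMap R S))) q := by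
      rw [← hj]; rfl
    simp only [Set.mem_preimage, SetLike.mem_coe]
    rw [hq]
    rfl
  exact Set.disjoint_left.mp (disjoint_closure_of_cover_basicOpen _ hnzd hrad _ _
    (hU.preimage j.continuous) (hV.preimage j.continuous) (hUV.preimage j) hcov') h1 h2

theorem connectedSpace_genericFibre {R : Type u} [CommRing R] [IsDomain R]
    [IsDiscreteValuationRing R] {X : Scheme.{u}}
    (f : X ⟶ Spec (CommRingCat.of R)) [Flat f] [ConnectedSpace ↑X]
    (hred : IsReduced (f.fiber (IsLocalRing.closedPoint R))) :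
    ConnectedSpace ↑(f.fiber (⟨⊥, Ideal.isPrime_bot⟩ : PrimeSpectrum R)) := by
  obtain ⟨ϖ, hϖ⟩ := IsDiscreteValuationRing.exists_irreducible R
  set η : PrimeSpectrum R := ⟨⊥, Ideal.isPrime_bot⟩ with hη
  set G : Set X := f ⁻¹' {η} with hG
  have hGopen : IsOpen G := by
    rw [hG, hη, singleton_bot_eq_basicOpen ϖ hϖ]
    exact (PrimeSpectrum.basicOpen ϖ).2.preimage f.continuous
  have hgen : ∀ x : X, ∃ x' ∈ G, x' ⤳ x := by
    intro x
    have hsp : η ⤳ f x := by
      rw [← PrimeSpectrum.le_iff_specializes]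
      exact bot_le
    obtain ⟨x', hx', hfx'⟩ := (Flat.generalizingMap (f := f)) hsp
    exact ⟨x', hfx', hx'⟩
  have hconn : _root_.IsConnected G := by
    refine ⟨?_, ?_⟩
    · obtain ⟨x⟩ := (inferInstance : Nonempty X)
      obtain ⟨x', hx', -⟩ := hgen x
      exact ⟨x', hx'⟩
    · rw [isPreconnected_iff_subset_of_disjoint]
      intro u v hu hv huv hdisj
      have hd := disjoint_closure_core f hred (G ∩ u) (G ∩ v) (hGopen.inter hu) (hGopen.inter hv)
        (by
          rw [Set.disjoint_left]
          rintro z ⟨hzG, hzu⟩ ⟨-, hzv⟩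
          have : z ∈ G ∩ (u ∩ v) := ⟨hzG, hzu, hzv⟩
          rw [hdisj] at this
          exact this)
        (by
          rw [← Set.inter_union_distrib_left]
          exact Set.inter_eq_left.mpr huv)
      have hcovX : (Set.univ : Set X) ⊆ closure (G ∩ u) ∪ closure (G ∩ v) := by
        intro x _
        obtain ⟨x', hx', hsp⟩ := hgen x
        rcases huv hx' with h | h
        · exact Or.inl (hsp.mem_closed isClosed_closure (subset_closure ⟨hx', h⟩))
        · exact Or.inr (hsp.mem_closed isClosed_closure (subset_closure ⟨hx', h⟩))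
      have hpre : _root_.IsPreconnected (Set.univ : Set X) := isPreconnected_univ
      rw [isPreconnected_closed_iff] at hpre
      by_contra hcon
      rw [not_or] at hcon
      obtain ⟨hnu, hnv⟩ := hcon
      obtain ⟨a, haG, hau⟩ := Set.not_subset.mp hnu
      obtain ⟨b, hbG, hbv⟩ := Set.not_subset.mp hnv
      have hav : a ∈ v := (huv haG).resolve_left hau
      have hbu : b ∈ u := (huv hbG).resolve_right hbv
      obtain ⟨z, -, hz1, hz2⟩ := hpre _ _ isClosed_closure isClosed_closure hcovX
        ⟨b, Set.mem_univ _, subset_closure ⟨hbG, hbu⟩⟩ ⟨a, Set.mem_univ _, subset_closure ⟨haG, hav⟩⟩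
      exact Set.disjoint_left.mp hd hz1 hz2
  haveI : ConnectedSpace ↥G := isConnected_iff_connectedSpace.mp hconn
  exact (f.fiberHomeo η).symm.surjective.connectedSpace (f.fiberHomeo η).symm.continuous

end Groth.Agent.Lib.helper4.ConnGenericFibre
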