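import Mathlib
import Groth.Agent.Lib.Helper4.ConnGenericFibre2
import Groth.Agent.Lib.Helper3.DvrFlatSch

/-!
# Open morphisms to a DVR with reduced special fibre are flat; connectedness of the generic fibre (helper4)
-/

set_option backward.isDefEq.respectTransparency false
set_option backward.isDefEq.respectTransparency.types false
set_option autoImplicit false
set_option linter.style.haveILetI false

open CategoryTheory AlgebraicGeometry Limits

universe u

namespace Groth.Agent.Lib.helper4.ConnGenericFibre

theorem flat_of_isField {K M : Type*} [CommRing K] [AddCommGroup M] [Module K M] (h : IsField K) :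
    Module.Flat K M := by
  letI := h.toField
  infer_instance

theorem isField_stalk_of_ne_closedPoint {A : Type u} [CommRing A] [IsDomain A]
    [IsDiscreteValuationRing A] (y : Spec (CommRingCat.of A)) (hy : y ≠ IsLocalRing.closedPoint A) :
    IsField ((Spec (CommRingCat.of A)).presheaf.stalk y) := by
  have hbot : y.asIdeal = ⊥ := by
    by_contra hne
    have hmax : y.asIdeal.IsMaximal := y.2.isMaximal hne
    exact hy (PrimeSpectrum.ext (IsLocalRing.eq_maximalIdeal hmax))
  have hgen : y = genericPoint (Spec (CommRingCat.of A)) := by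
    rw [genericPoint_eq_bot_of_affine]
    exact PrimeSpectrum.ext hbot
  subst hgen
  exact (inferInstance : Field (Spec (CommRingCat.of A)).functionField).toIsField

theorem flat_of_isOpenMap_of_reduced {A : Type u} [CommRing A] [IsDomain A]
    [IsDiscreteValuationRing A] {X : Scheme.{u}} (f : X ⟶ Spec (CommRingCat.of A))
    [LocallyOfFiniteType f] (hopen : IsOpenMap f.base)
    (hred : IsReduced (f.fiber (IsLocalRing.closedPoint A))) : Flat f := by
  apply Flat.of_stalkMap
  intro x
  by_cases hx : f.base x = IsLocalRing.closedPoint A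
  · apply Groth.Agent.Lib.helper3.DvrFlat.flat_stalkMap_of_dvr_base f x hx
    · intro z _ _ U hU
      exact hopen.image_mem_nhds hU
    · haveI : IsReduced (f.fiber (f.base x)) := by rw [hx]; exact hred
      infer_instance
  · have hK := isField_stalk_of_ne_closedPoint (f.base x) hx
    letI := (f.stalkMap x).hom.toAlgebra
    exact flat_of_isField hK

theorem preconnected_fibre_of_open (A : Type u) [CommRing A] [IsDomain A]
    [IsDiscreteValuationRing A] {X : Scheme.{u}} (f : X ⟶ Spec (CommRingCat.of A))
    [LocallyOfFiniteType f]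
    (hopen : IsOpenMap f.base) [PreconnectedSpace X]
    (a b : ↥(Spec (CommRingCat.of A))) (ha : IsClosed ({a} : Set ↥(Spec (CommRingCat.of A))))
    (hb : ∀ z : ↥(Spec (CommRingCat.of A)), b ⤳ z)
    (hred : AlgebraicGeometry.IsReduced (f.fiber a)) :
    PreconnectedSpace ↥(f.fiber b) := by
  have ha' : a = IsLocalRing.closedPoint A := by
    have := (PrimeSpectrum.isClosed_singleton_iff_isMaximal a).mp ha
    exact PrimeSpectrum.ext (IsLocalRing.eq_maximalIdeal this)
  have hb' : b = (⟨⊥, Ideal.isPrime_bot⟩ : PrimeSpectrum A) := by
    have := hb (⟨⊥, Ideal.isPrime_bot⟩ : PrimeSpectrum A)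
    rw [← PrimeSpectrum.le_iff_specializes] at this
    exact PrimeSpectrum.ext (le_bot_iff.mp this)
  subst ha' hb'
  haveI : Flat f := flat_of_isOpenMap_of_reduced f hopen hred
  by_cases hX : Nonempty X
  · haveI : ConnectedSpace X := { toNonempty := hX }
    exact (connectedSpace_genericFibre f hred).toPreconnectedSpace
  · haveI : IsEmpty (f.fiber (⟨⊥, Ideal.isPrime_bot⟩ : PrimeSpectrum A)) :=
      ⟨fun z => hX ⟨f.fiberι _ z⟩⟩
    infer_instance

end Groth.Agent.Lib.helper4.ConnGenericFibre
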