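import Mathlib
import Groth.Prelude.Def_TwC

/-!
# Morphisms to constant schemes and homomorphisms to torsion-free constant groups (helper4)

* `eq_pt_of_range`: a morphism `T ⟶ M_S` over `S` whose image lies in the component of index `m` is the constant point
  `toUnit T ≫ TwC.pt S M m`.
* `exists_finset_cover`: a morphism from a quasi-compact scheme to `M_S` meets finitely many components.
* `hom_eq_one_of_torsionFree`: a homomorphism from a quasi-compact `S`-group to the constant group `M_S` of a group `M`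
  without non-trivial elements of finite order is trivial.
-/

set_option autoImplicit false
universe u
open CategoryTheory CategoryTheory.Limits MonoidalCategory CartesianMonoidalCategory MonObj AlgebraicGeometry

namespace Groth.Agent.Lib.Helper4.ConstHom

variable {S : Scheme.{u}} {M : Type u}

/-- A morphism to the constant scheme whose image lies in the component `m` is the constant point `m`. -/
theorem eq_pt_of_range {T : Over S} (h : T ⟶ TwC.const S M) (m : M)
    (hr : Set.range h.left ⊆ Set.range (Sigma.ι (fun _ : M => S) m)) :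
    h = toUnit T ≫ TwC.pt S M m := by
  obtain ⟨l, hl⟩ : ∃ l : T.left ⟶ S, l ≫ Sigma.ι (fun _ : M => S) m = h.left :=
    ⟨IsOpenImmersion.lift (Sigma.ι (fun _ : M => S) m) h.left hr, IsOpenImmersion.lift_fac _ _ _⟩
  have hl' : l = T.hom := by
    have hw := Over.w h
    rw [← hw, ← hl, Category.assoc]
    simp
  ext
  rw [Over.comp_left, ← hl, hl']
  simp [TwC.pt]

/-- A morphism from a quasi-compact scheme to a constant scheme meets finitely many components. -/
theorem exists_finset_cover {P : Over S} [CompactSpace P.left] (h : P ⟶ TwC.const S M) :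
    ∃ F : Finset M, ∀ p : P.left, ∃ m ∈ F, h.left p ∈ Set.range (Sigma.ι (fun _ : M => S) m) := by
  have hcov : (Set.univ : Set P.left) ⊆
      ⋃ m, ((h.left ⁻¹ᵁ (Sigma.ι (fun _ : M => S) m).opensRange : P.left.Opens) : Set P.left) := by
    intro p _
    obtain ⟨m, s, hs⟩ := (sigmaOpenCover (fun _ : M => S)).exists_eq (h.left p)
    exact Set.mem_iUnion.2 ⟨m, ⟨s, hs⟩⟩
  obtain ⟨F, hF⟩ := isCompact_univ.elim_finite_subcover
    (fun m => ((h.left ⁻¹ᵁ (Sigma.ι (fun _ : M => S) m).opensRange : P.left.Opens) : Set P.left))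
    (fun m => (h.left ⁻¹ᵁ (Sigma.ι (fun _ : M => S) m).opensRange).isOpen) hcov
  refine ⟨F, fun p => ?_⟩
  obtain ⟨m, hm, hp⟩ := Set.mem_iUnion₂.1 (hF (Set.mem_univ p))
  exact ⟨m, hm, hp⟩

/-- A homomorphism from a quasi-compact group scheme to the constant group of a group without non-trivial elements of
finite order is trivial. -/
theorem hom_eq_one_of_torsionFree [Group M] (hM : ∀ z : M, IsOfFinOrder z → z = 1)
    {P G : Over S} [GrpObj P] [GrpObj G] [CompactSpace P.left]
    (e : G ≅ TwC.const S M) (hG : TwC.IsConstGrp M G e) (d : P ⟶ G) [IsMonHom d] : d = 1 := by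
  have hc1 : TwC.pt S M (1 : M) ≫ e.inv = 1 := by
    have := hG 1 1
    rw [_root_.mul_one] at this
    exact mul_eq_left.1 this
  have hcpow : ∀ (z : M) (n : ℕ), TwC.pt S M (z ^ n) ≫ e.inv = (TwC.pt S M z ≫ e.inv) ^ n := by
    intro z n
    induction n with
    | zero => rw [pow_zero, pow_zero, hc1]
    | succ n ih => rw [pow_succ, pow_succ, ← hG, ih]
  obtain ⟨F, hF⟩ := exists_finset_cover (d ≫ e.hom)
  have key : ∀ p : P.left, (d ≫ e.hom).left p ∈ Set.range (Sigma.ι (fun _ : M => S) (1 : M)) := by
    intro p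
    obtain ⟨z, -, hz⟩ := hF p
    have hz1 : z = 1 := by
      apply hM
      rw [← finite_powers]
      refine F.finite_toSet.subset ?_
      rintro _ ⟨n, rfl⟩
      let U : P.left.Opens := (d ≫ e.hom).left ⁻¹ᵁ (Sigma.ι (fun _ : M => S) z).opensRange
      let T : Over S := Over.mk (U.ι ≫ P.hom)
      let j : T ⟶ P := Over.homMk U.ι rfl
      have hj : j ≫ d ≫ e.hom = toUnit T ≫ TwC.pt S M z := by
        apply eq_pt_of_range
        rintro _ ⟨t, rfl⟩
        have h1 : (j ≫ d ≫ e.hom).left t = (d ≫ e.hom).left (U.ι t) := by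
          simp [j]
          rfl
        rw [h1]
        exact t.2
      have hjd : j ≫ d = toUnit T ≫ (TwC.pt S M z ≫ e.inv) := by
        rw [← Category.assoc, ← hj]; simp
      have hjn : (j ^ n) ≫ d ≫ e.hom = toUnit T ≫ TwC.pt S M (z ^ n) := by
        rw [← Category.assoc, MonObj.pow_comp, hjd, ← MonObj.comp_pow, ← hcpow]
        simp
      let t : T.left := ⟨p, hz⟩
      obtain ⟨m, hm, hq⟩ := hF ((j ^ n).left t)
      have hq' : (d ≫ e.hom).left ((j ^ n).left t) = Sigma.ι (fun _ : M => S) (z ^ n) (T.hom t) := by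
        have := congrArg (fun f => f.left t) hjn
        simpa [TwC.pt] using this
      obtain ⟨s, hs⟩ := hq
      rw [hq'] at hs
      have h2 := (sigmaι_eq_iff (fun _ : M => S) m (z ^ n) s (T.hom t)).1 hs
      have hmz : m = z ^ n := congrArg Sigma.fst h2
      show z ^ n ∈ (F : Set M)
      rw [← hmz]; exact hm
    rw [← hz1]; exact hz
  have hh : d ≫ e.hom = toUnit P ≫ TwC.pt S M (1 : M) :=
    eq_pt_of_range _ 1 (by rintro _ ⟨p, rfl⟩; exact key p)
  calc d = (d ≫ e.hom) ≫ e.inv := by simp
    _ = toUnit P ≫ (TwC.pt S M (1 : M) ≫ e.inv) := by rw [hh, Category.assoc]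
    _ = 1 := by rw [hc1, MonObj.comp_one]

end Groth.Agent.Lib.Helper4.ConstHom
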