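import Mathlib
import Groth.Prelude.Def_CohTop

set_option backward.isDefEq.respectTransparency false
set_option autoImplicit false
set_option linter.style.haveILetI false

/-!
# The constant sheaf on an irreducible space
-/

universe u

open CategoryTheory TopologicalSpace Opposite

namespace Groth.Agent.Lib.Helper4.ConstIrr

variable {X : TopCat.{u}} (A : Type u) [AddCommGroup A]

/-- The canonical map `A → Γ(W, A_X)`. -/
noncomputable def eta (W : Opens X) : A →+ (CohTop.const X A).obj.obj (op W) :=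
  ((toSheafify (Opens.grothendieckTopology X)
    ((Functor.const _).obj (AddCommGrpCat.of A))).app (op W)).hom

theorem eta_res {W W' : Opens X} (h : W' ≤ W) (a : A) :
    (CohTop.const X A).obj.map (homOfLE h).op (eta A W a) = eta A W' a := by
  have := (toSheafify (Opens.grothendieckTopology X)
    ((Functor.const _).obj (AddCommGrpCat.of A))).naturality (homOfLE h).op
  have h2 := congrArg (fun f => (ConcreteCategory.hom f) a) this
  simp only [Functor.const_obj_obj, Functor.const_obj_map, Category.id_comp] at h2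
  exact h2.symm

theorem res_res {W₁ W₂ W₃ : Opens X} (F : CohTop.Ab X) (h₁ : W₂ ≤ W₁) (h₂ : W₃ ≤ W₂)
    (a : F.obj.obj (op W₁)) :
    F.obj.map (homOfLE h₂).op (F.obj.map (homOfLE h₁).op a) =
      F.obj.map (homOfLE (h₂.trans h₁)).op a := by
  rw [← ConcreteCategory.comp_apply, ← F.obj.map_comp]
  rfl

theorem eta_injective (W : Opens X) (hW : (W : Set X).Nonempty) :
    Function.Injective (eta A W) := by
  intro a b h
  obtain ⟨x, hx⟩ := hW
  have hli : Presheaf.IsLocallyInjective (Opens.grothendieckTopology X)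
      (toSheafify (Opens.grothendieckTopology X)
        ((Functor.const _).obj (AddCommGrpCat.of A))) := inferInstance
  have := Presheaf.equalizerSieve_mem (Opens.grothendieckTopology X)
    (toSheafify (Opens.grothendieckTopology X) ((Functor.const _).obj (AddCommGrpCat.of A)))
    (X := op W) a b h
  obtain ⟨W', f, hf, _⟩ := this x hx
  simpa using hf

theorem eta_locally_surjective (W : Opens X) (s : (CohTop.const X A).obj.obj (op W)) (x : X)
    (hx : x ∈ W) : ∃ (V : Opens X) (hV : V ≤ W), x ∈ V ∧ ∃ a : A,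
      eta A V a = (CohTop.const X A).obj.map (homOfLE hV).op s := by
  have hsurj : TopCat.Presheaf.IsLocallySurjective
      (toSheafify (Opens.grothendieckTopology X)
        ((Functor.const _).obj (AddCommGrpCat.of A))) := by
    unfold TopCat.Presheaf.IsLocallySurjective
    infer_instance
  rw [TopCat.Presheaf.isLocallySurjective_iff] at hsurj
  obtain ⟨V, hV, ⟨a, ha⟩, hxV⟩ := hsurj W s x hx
  exact ⟨V, hV, hxV, a, ha⟩

theorem section_ext (F : CohTop.Ab X) (W : Opens X) (s t : F.obj.obj (op W))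
    (h : ∀ x ∈ W, ∃ (V : Opens X) (hV : V ≤ W), x ∈ V ∧
      F.obj.map (homOfLE hV).op s = F.obj.map (homOfLE hV).op t) : s = t :=
  TopCat.Presheaf.IsSheaf.section_ext F.property (U := op W)
    (fun x hx => by
      obtain ⟨V, hV, hxV, e⟩ := h x hx
      exact ⟨V, hV, hxV, e⟩)

theorem eta_surjective [IrreducibleSpace X] (W : Opens X) (hW : (W : Set X).Nonempty) :
    Function.Surjective (eta A W) := by
  intro s
  obtain ⟨x0, hx0⟩ := hW
  obtain ⟨V0, hV0, hx0V0, a, ha⟩ := eta_locally_surjective A W s x0 hx0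
  refine ⟨a, ?_⟩
  apply section_ext
  intro x hx
  obtain ⟨Vx, hVx, hxVx, b, hb⟩ := eta_locally_surjective A W s x hx
  have hne : ((Vx ⊓ V0 : Opens X) : Set X).Nonempty :=
    nonempty_preirreducible_inter Vx.2 V0.2 ⟨x, hxVx⟩ ⟨x0, hx0V0⟩
  have hab : b = a := by
    apply eta_injective A (Vx ⊓ V0) hne
    have e1 : eta A (Vx ⊓ V0) b =
        (CohTop.const X A).obj.map (homOfLE (inf_le_left.trans hVx : Vx ⊓ V0 ≤ W)).op s := by
      rw [← eta_res A (inf_le_left : Vx ⊓ V0 ≤ Vx) b, hb]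
      exact res_res _ hVx inf_le_left s
    have e2 : eta A (Vx ⊓ V0) a =
        (CohTop.const X A).obj.map (homOfLE (inf_le_left.trans hVx : Vx ⊓ V0 ≤ W)).op s := by
      rw [← eta_res A (inf_le_right : Vx ⊓ V0 ≤ V0) a, ha]
      exact res_res _ hV0 inf_le_right s
    rw [e1, e2]
  refine ⟨Vx, hVx, hxVx, ?_⟩
  rw [eta_res A hVx a, ← hab, hb]

theorem subsingleton_of_empty (F : CohTop.Ab X) (W : Opens X) (hW : ¬ (W : Set X).Nonempty) :
    Subsingleton (F.obj.obj (op W)) := by
  refine ⟨fun s t => ?_⟩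
  apply section_ext
  intro x hx
  exact absurd ⟨x, hx⟩ hW


section Factor

variable {C : Type u} [SmallCategory C] {J : GrothendieckTopology C}

/-- If `m₂` is sectionwise injective and the sectionwise ranges of `m₁` lie in those of `m₂`, then
`m₁` factors through `m₂`. -/
theorem exists_factor {F₁ F₂ G : Sheaf J AddCommGrpCat.{u}} (m₁ : F₁ ⟶ G) (m₂ : F₂ ⟶ G)
    (hinj : ∀ W : Cᵒᵖ, Function.Injective (m₂.hom.app W))
    (hr : ∀ (W : Cᵒᵖ) (x : F₁.obj.obj W), ∃ y : F₂.obj.obj W, m₂.hom.app W y = m₁.hom.app W x) :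
    ∃ φ : F₁ ⟶ F₂, φ ≫ m₂ = m₁ := by
  choose g hg using hr
  have hadd : ∀ (W : Cᵒᵖ) (x y : F₁.obj.obj W), g W (x + y) = g W x + g W y := by
    intro W x y
    apply hinj W
    rw [hg, map_add, map_add, hg, hg]
  have hnat : ∀ {W W' : Cᵒᵖ} (i : W ⟶ W') (x : F₁.obj.obj W),
      g W' (F₁.obj.map i x) = F₂.obj.map i (g W x) := by
    intro W W' i x
    apply hinj W'
    rw [hg]
    have h1 := congrArg (fun f => (ConcreteCategory.hom f) x) (m₁.hom.naturality i)
    have h2 := congrArg (fun f => (ConcreteCategory.hom f) (g W x)) (m₂.hom.naturality i)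
    simp only [ConcreteCategory.comp_apply] at h1 h2
    rw [h1, h2, hg]
  let φ : F₁ ⟶ F₂ := ⟨{
    app := fun W => AddCommGrpCat.ofHom (AddMonoidHom.mk' (g W) (hadd W))
    naturality := fun W W' i => by
      ext x
      exact hnat i x }⟩
  refine ⟨φ, ?_⟩
  ext W x
  exact hg W x

theorem imageSubobject_eq_of_range_eq {F₁ F₂ G : Sheaf J AddCommGrpCat.{u}} (m₁ : F₁ ⟶ G)
    (m₂ : F₂ ⟶ G)
    (hinj₁ : ∀ W : Cᵒᵖ, Function.Injective (m₁.hom.app W))
    (hinj₂ : ∀ W : Cᵒᵖ, Function.Injective (m₂.hom.app W))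
    (hr₁ : ∀ (W : Cᵒᵖ) (x : F₁.obj.obj W), ∃ y : F₂.obj.obj W, m₂.hom.app W y = m₁.hom.app W x)
    (hr₂ : ∀ (W : Cᵒᵖ) (y : F₂.obj.obj W), ∃ x : F₁.obj.obj W, m₁.hom.app W x = m₂.hom.app W y) :
    Limits.imageSubobject m₁ = Limits.imageSubobject m₂ := by
  obtain ⟨φ, hφ⟩ := exists_factor m₁ m₂ hinj₂ hr₁
  obtain ⟨ψ, hψ⟩ := exists_factor m₂ m₁ hinj₁ hr₂
  apply le_antisymm
  · exact Limits.imageSubobject_le m₁ (φ ≫ Limits.factorThruImageSubobject m₂) (by simp [hφ])
  · exact Limits.imageSubobject_le m₂ (ψ ≫ Limits.factorThruImageSubobject m₁) (by simp [hψ])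

end Factor

end Groth.Agent.Lib.Helper4.ConstIrr
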