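import Mathlib
import Groth.Agent.Lib.Helper4.ConstIrr

set_option backward.isDefEq.respectTransparency false
set_option autoImplicit false
set_option linter.style.haveILetI false

/-!
# Subsheaves of the constant sheaf `ℤ` on an irreducible space
-/

universe u
open CategoryTheory TopologicalSpace Opposite Limits

namespace Groth.Agent.Lib.Helper4.ConstIrr

variable {X : TopCat.{u}}

theorem zsmul_app (F : CohTop.Ab X) (d : ℤ) (W : (Opens X)ᵒᵖ) (s : F.obj.obj W) :
    (d • 𝟙 F : F ⟶ F).hom.app W s = d • s := by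
  have h1 : (d • 𝟙 F : F ⟶ F).hom = d • 𝟙 F.obj :=
    (sheafToPresheaf (Opens.grothendieckTopology X) AddCommGrpCat.{u}).map_zsmul (f := 𝟙 F) (r := d)
  rw [h1, NatTrans.app_zsmul]
  simp

theorem mono_app {H F : CohTop.Ab X} (ι : H ⟶ F) [Mono ι] (W : (Opens X)ᵒᵖ) :
    Function.Injective (ι.hom.app W) := by
  haveI : Mono ι.hom := (Sheaf.Hom.mono_iff_presheaf_mono _ _ ι).mp inferInstance
  haveI : Mono (ι.hom.app W) := inferInstance
  exact (AddCommGrpCat.mono_iff_injective _).mp inferInstance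

/-- Key computation on sections in the case where some positive integer lies in the image. -/
theorem key_pos [IrreducibleSpace X] (H : CohTop.Ab X) (ι : H ⟶ CohTop.const X (ULift.{u} ℤ)) [Mono ι]
    (d : ℕ) (hd : 0 < d) (U : Opens X)
    (hdU : eta (ULift.{u} ℤ) U ⟨(d : ℤ)⟩ ∈ Set.range (ι.hom.app (op U)))
    (hmin : ∀ n : ℕ, 0 < n → n < d → ∀ W : Opens X, (W : Set X).Nonempty →
      eta (ULift.{u} ℤ) W ⟨(n : ℤ)⟩ ∉ Set.range (ι.hom.app (op W)))
    (W : Opens X) (hWU : W ≤ U) :
    (∀ h : H.obj.obj (op W), ∃ s : (CohTop.const X (ULift.{u} ℤ)).obj.obj (op W), (d : ℤ) • s = ι.hom.app (op W) h) ∧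
    (∀ s : (CohTop.const X (ULift.{u} ℤ)).obj.obj (op W), ∃ h : H.obj.obj (op W), ι.hom.app (op W) h = (d : ℤ) • s) ∧
    (∀ s t : (CohTop.const X (ULift.{u} ℤ)).obj.obj (op W), (d : ℤ) • s = (d : ℤ) • t → s = t) := by
  by_cases hW : (W : Set X).Nonempty
  · have hsurj := eta_surjective (ULift.{u} ℤ) W hW
    have hinj := eta_injective (ULift.{u} ℤ) W hW
    -- `η_W(d)` is in the range
    have hdW : eta (ULift.{u} ℤ) W ⟨(d : ℤ)⟩ ∈ Set.range (ι.hom.app (op W)) := by
      obtain ⟨h, hh⟩ := hdU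
      refine ⟨H.obj.map (homOfLE hWU).op h, ?_⟩
      have h1 := congrArg (fun f => (ConcreteCategory.hom f) h) (ι.hom.naturality (homOfLE hWU).op)
      simp only [ConcreteCategory.comp_apply] at h1
      rw [h1, hh, eta_res]
    have hup : ∀ (q : ℤ) (n : ℤ), eta (ULift.{u} ℤ) W ⟨q * n⟩ = q • eta (ULift.{u} ℤ) W ⟨n⟩ := by
      intro q n
      rw [← map_zsmul]
      congr 1
    refine ⟨fun h => ?_, fun s => ?_, fun s t hst => ?_⟩
    · obtain ⟨⟨n⟩, hn⟩ := hsurj (ι.hom.app (op W) h)
      -- division with remainder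
      have hr0 : n % (d : ℤ) = 0 := by
        by_contra hne
        have hpos : 0 < n % (d : ℤ) := lt_of_le_of_ne (Int.emod_nonneg _ (by positivity)) (Ne.symm hne)
        have hlt : n % (d : ℤ) < d := Int.emod_lt_of_pos _ (by positivity)
        obtain ⟨r, hr⟩ := Int.eq_ofNat_of_zero_le hpos.le
        have hrpos : 0 < r := by omega
        have hrd : r < d := by omega
        apply hmin r hrpos hrd W hW
        obtain ⟨hd', hhd'⟩ := hdW
        refine ⟨h - (n / (d : ℤ)) • hd', ?_⟩
        rw [map_sub, map_zsmul, hhd', ← hn, ← hup, ← map_sub]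
        congr 1
        apply ULift.ext
        change n - n / (d : ℤ) * d = r
        rw [← hr, Int.emod_def]; ring
      refine ⟨eta (ULift.{u} ℤ) W ⟨n / (d : ℤ)⟩, ?_⟩
      rw [← hn, ← hup]
      congr 2
      exact Int.mul_ediv_cancel' (Int.dvd_of_emod_eq_zero hr0)
    · obtain ⟨⟨n⟩, rfl⟩ := hsurj s
      obtain ⟨hd', hhd'⟩ := hdW
      refine ⟨n • hd', ?_⟩
      rw [map_zsmul, hhd', ← hup, ← hup, mul_comm]
    · obtain ⟨⟨a⟩, rfl⟩ := hsurj s
      obtain ⟨⟨b⟩, rfl⟩ := hsurj t
      rw [← hup, ← hup] at hst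
      have := hinj hst
      have h2 : (d : ℤ) * a = d * b := congrArg ULift.down this
      have h3 : a = b := by
        have hd0 : (d : ℤ) ≠ 0 := by positivity
        exact mul_left_cancel₀ hd0 h2
      rw [h3]
  · haveI := subsingleton_of_empty (CohTop.const X (ULift.{u} ℤ)) W hW
    haveI := subsingleton_of_empty H W hW
    exact ⟨fun h => ⟨0, Subsingleton.elim _ _⟩, fun s => ⟨0, Subsingleton.elim _ _⟩,
      fun s t _ => Subsingleton.elim _ _⟩

theorem main [IrreducibleSpace X] (H : CohTop.Ab X) (ι : H ⟶ CohTop.const X (ULift.{u} ℤ))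
    [Mono ι] :
    ∃ (U : Opens X) (d : ℤ), U ≠ ⊥ ∧
      imageSubobject ((CohTop.restrFunctor U).map ι) =
        imageSubobject ((CohTop.restrFunctor U).map
          (d • 𝟙 (CohTop.const X (ULift.{u} ℤ)))) := by
  classical
  by_cases hex : ∃ n : ℕ, 0 < n ∧ ∃ W : Opens X, (W : Set X).Nonempty ∧
      eta (ULift.{u} ℤ) W ⟨(n : ℤ)⟩ ∈ Set.range (ι.hom.app (op W))
  · -- minimal positive `d`
    let d := Nat.find hex
    obtain ⟨hd, U, hU, hdU⟩ := Nat.find_spec hex
    have hmin : ∀ n : ℕ, 0 < n → n < d → ∀ W : Opens X, (W : Set X).Nonempty →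
        eta (ULift.{u} ℤ) W ⟨(n : ℤ)⟩ ∉ Set.range (ι.hom.app (op W)) := by
      intro n hn hnd W hW hmem
      exact Nat.find_min hex hnd ⟨hn, W, hW, hmem⟩
    refine ⟨U, (d : ℤ), ?_, ?_⟩
    · rintro rfl
      obtain ⟨x, hx⟩ := hU
      exact hx
    · have key := fun (W : Opens X) (hWU : W ≤ U) => key_pos H ι d hd U hdU hmin W hWU
      have hle : ∀ W : (Opens (TopCat.of U))ᵒᵖ,
          U.isOpenEmbedding.isOpenMap.functor.obj W.unop ≤ U := by
        intro W
        rintro _ ⟨y, _, rfl⟩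
        exact y.2
      apply imageSubobject_eq_of_range_eq
      · intro W
        exact mono_app ι _
      · intro W s t hst
        change (((d : ℤ)) • 𝟙 (CohTop.const X (ULift.{u} ℤ)) : _ ⟶ _).hom.app _ s =
          (((d : ℤ)) • 𝟙 (CohTop.const X (ULift.{u} ℤ)) : _ ⟶ _).hom.app _ t at hst
        rw [zsmul_app, zsmul_app] at hst
        exact (key _ (hle W)).2.2 s t hst
      · intro W h
        obtain ⟨s, hs⟩ := (key _ (hle W)).1 h
        refine ⟨s, ?_⟩
        change (((d : ℤ)) • 𝟙 (CohTop.const X (ULift.{u} ℤ)) : _ ⟶ _).hom.app _ s = ι.hom.app _ h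
        rw [zsmul_app]
        exact hs
      · intro W s
        obtain ⟨h, hh⟩ := (key _ (hle W)).2.1 s
        refine ⟨h, ?_⟩
        change ι.hom.app _ h = (((d : ℤ)) • 𝟙 (CohTop.const X (ULift.{u} ℤ)) : _ ⟶ _).hom.app _ s
        rw [zsmul_app]
        exact hh
  · -- `ι = 0`
    have hzero : ∀ (W : Opens X) (h : H.obj.obj (op W)), ι.hom.app (op W) h = 0 := by
      intro W h
      by_cases hW : (W : Set X).Nonempty
      · obtain ⟨⟨n⟩, hn⟩ := eta_surjective (ULift.{u} ℤ) W hW (ι.hom.app (op W) h)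
        have hn0 : n = 0 := by
          by_contra hne
          apply hex
          rcases lt_or_gt_of_ne hne with hlt | hgt
          · obtain ⟨k, hk⟩ := Int.eq_ofNat_of_zero_le (by omega : 0 ≤ -n)
            refine ⟨k, by omega, W, hW, -h, ?_⟩
            rw [map_neg, ← hn, ← map_neg]
            congr 1
            apply ULift.ext
            change -n = k
            exact hk
          · obtain ⟨k, hk⟩ := Int.eq_ofNat_of_zero_le hgt.le
            refine ⟨k, by omega, W, hW, h, ?_⟩
            rw [← hn, hk]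
        rw [← hn, hn0]
        exact map_zero _
      · haveI := subsingleton_of_empty (CohTop.const X (ULift.{u} ℤ)) W hW
        exact Subsingleton.elim _ _
    have hι : ι = 0 := by
      ext W h
      exact hzero W.unop h
    refine ⟨⊤, 0, ?_, ?_⟩
    · intro h
      have hne : (Set.univ : Set X).Nonempty := Set.univ_nonempty
      obtain ⟨x, _⟩ := hne
      have : x ∈ (⊤ : Opens X) := trivial
      rw [h] at this
      exact this
    · rw [hι, zero_smul, Functor.map_zero, Functor.map_zero, imageSubobject_zero,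
        imageSubobject_zero]

end Groth.Agent.Lib.Helper4.ConstIrr
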