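import Mathlib
import Groth.Prelude.Def_ChGrp
import Groth.Prelude.Def_NonAbH2
import Groth.Agent.Lib.Helper4.SheafGlue

/-!
# The kernel of the action on a homogeneous space `G/H` is the core of `H` (helper4)
-/

set_option autoImplicit false
set_option linter.style.haveILetI false
set_option linter.unusedSectionVars false
set_option backward.isDefEq.respectTransparency false
universe u
open CategoryTheory MonoidalCategory CartesianMonoidalCategory MonObj GrpObj AlgebraicGeometry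
open CategoryTheory.Limits

namespace Groth.Agent.Lib.Helper4.CoreSubgroup

open AlgGrp.Action

variable {S : Scheme.{u}} {G H Q N : Over S} [GrpObj G] [GrpObj H] [GrpObj N]

/-- Equality of two morphisms into `Q` can be tested after lifting the second one, fpqc-locally, through the orbit map. -/
theorem eq_of_locally_orbit (aQ : AlgGrp.Action G Q) (q₀ : 𝟙_ (Over S) ⟶ Q)
    (hloc : NonAbH1.IsLocallyTrivialFor Scheme.fpqcPrecoverage (Over.mk (aQ.orbitMap q₀).left : Over Q.left))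
    {T' : Over S} (A q : T' ⟶ Q)
    (h : ∀ (W' : Over S) (ω : W' ⟶ T') (gam : W' ⟶ G), gam ≫ aQ.orbitMap q₀ = ω ≫ q → ω ≫ A = ω ≫ q) :
    A = q := by
  obtain ⟨R, hR, hsec⟩ := hloc
  obtain ⟨𝒰, rfl⟩ := R.exists_eq_preZeroHypercover
  choose s hs using fun j => hsec (𝒰.f j) (Presieve.ofArrows.mk j)
  have hs' : ∀ j, s j ≫ (aQ.orbitMap q₀).left = 𝒰.f j := hs
  have hmem : Presieve.ofArrows (fun j => pullback q.left (𝒰.f j)) (fun j => pullback.fst q.left (𝒰.f j)) ∈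
      Scheme.fpqcPrecoverage T'.left :=
    Precoverage.mem_coverings_of_isPullback 𝒰.f hR q.left _ (fun j => pullback.snd q.left (𝒰.f j))
      (fun j => IsPullback.of_hasPullback q.left (𝒰.f j))
  ext
  refine SheafGlue.hom_ext_of_fpqc _ _ hmem _ _ (fun j => ?_)
  let W' : Over S := Over.mk (pullback.fst q.left (𝒰.f j) ≫ T'.hom)
  let ω : W' ⟶ T' := Over.homMk (pullback.fst q.left (𝒰.f j)) rfl
  let gam : W' ⟶ G := Over.homMk (pullback.snd q.left (𝒰.f j) ≫ s j) (by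
    show (pullback.snd q.left (𝒰.f j) ≫ s j) ≫ G.hom = pullback.fst q.left (𝒰.f j) ≫ T'.hom
    rw [← Over.w (aQ.orbitMap q₀), Category.assoc, ← Category.assoc (s j), hs', ← Category.assoc,
      ← pullback.condition, Category.assoc, Over.w q])
  have hgam : gam ≫ aQ.orbitMap q₀ = ω ≫ q := by
    ext
    show (pullback.snd q.left (𝒰.f j) ≫ s j) ≫ (aQ.orbitMap q₀).left = pullback.fst q.left (𝒰.f j) ≫ q.left
    rw [Category.assoc, hs', pullback.condition]
  exact congrArg Over.Hom.left (h W' ω gam hgam)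

theorem core (i : H ⟶ G) (aQ : AlgGrp.Action G Q) (q₀ : 𝟙_ (Over S) ⟶ Q)
    (hpb : IsPullback (fst G H) ((G ◁ i) ≫ μ[G]) (aQ.orbitMap q₀) (aQ.orbitMap q₀))
    (hloc : NonAbH1.IsLocallyTrivialFor Scheme.fpqcPrecoverage (Over.mk (aQ.orbitMap q₀).left : Over Q.left))
    (n : N ⟶ G)
    (hN : ∀ (T : Over S) (g : T ⟶ G),
      (∃ g' : T ⟶ N, g' ≫ n = g) ↔
        ∀ (T' : Over S) (v : T' ⟶ T) (q : T' ⟶ Q), lift (v ≫ g) q ≫ aQ.act = q) :
    AlgGrp.IsNormalHom n ∧ (∃ m : N ⟶ H, m ≫ i = n) ∧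
      ∀ (N' : Over S) [GrpObj N'] (n' : N' ⟶ G),
        AlgGrp.IsNormalHom n' → (∃ m' : N' ⟶ H, m' ≫ i = n') → ∃ r : N' ⟶ N, r ≫ n = n' := by
  -- points of `H` fix the base point
  have hfix : ∀ {T : Over S} (h : T ⟶ H), lift (h ≫ i) (toUnit T ≫ q₀) ≫ aQ.act = toUnit T ≫ q₀ := by
    intro T h
    have e := congrArg (fun k => lift (1 : T ⟶ G) h ≫ k) hpb.w
    beta_reduce at e
    rw [← Category.assoc, lift_fst, ← Category.assoc, ← Category.assoc, lift_whiskerLeft, ← Hom.mul_def,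
      _root_.one_mul, comp_orbitMap, comp_orbitMap, lift_one_act] at e
    exact e.symm
  refine ⟨?_, ?_, ?_⟩
  · intro T g m
    suffices hs : ∃ g' : T ⟶ N, g' ≫ n = g * (m ≫ n) * g⁻¹ by
      obtain ⟨g', hg'⟩ := hs
      exact ⟨g', hg'.symm⟩
    apply (hN T (g * (m ≫ n) * g⁻¹)).2
    intro T' v q
    rw [MonObj.comp_mul, MonObj.comp_mul, GrpObj.comp_inv, lift_mul_act, lift_mul_act]
    have h1 := (hN T (m ≫ n)).1 ⟨m, rfl⟩ T' v (lift (v ≫ g)⁻¹ q ≫ aQ.act)
    rw [h1, ← lift_mul_act, mul_inv_cancel, lift_one_act]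
  · have h1 := (hN N n).1 ⟨𝟙 N, Category.id_comp n⟩ N (𝟙 N) (toUnit N ≫ q₀)
    rw [Category.id_comp] at h1
    have h2 : (1 : N ⟶ G) ≫ aQ.orbitMap q₀ = n ≫ aQ.orbitMap q₀ := by
      rw [comp_orbitMap, comp_orbitMap, lift_one_act, h1]
    set w := hpb.lift 1 n h2 with hw
    have hw1 : w ≫ fst G H = 1 := hpb.lift_fst _ _ _
    have hw2 : w ≫ (G ◁ i) ≫ μ[G] = n := hpb.lift_snd _ _ _
    have hw3 : w = lift 1 (w ≫ snd G H) := by
      apply CartesianMonoidalCategory.hom_ext <;> simp [hw1]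
    refine ⟨w ≫ snd G H, ?_⟩
    rw [← hw2]
    conv_rhs => rw [hw3]
    rw [← Category.assoc, lift_whiskerLeft, ← Hom.mul_def, _root_.one_mul]
  · intro N' _ n' hnorm ⟨m', hm'⟩
    apply (hN N' n').2
    intro T' v q
    apply eq_of_locally_orbit aQ q₀ hloc
    intro W' ω gam hgam
    -- `ν = ω ≫ v ≫ n'` conjugated by `gam⁻¹` lies in `N'`, hence in `H`
    obtain ⟨m'', hm''⟩ := hnorm W' gam⁻¹ (ω ≫ v)
    rw [_root_.inv_inv] at hm''
    have h1 : (ω ≫ v) ≫ n' = gam * (m'' ≫ n') * gam⁻¹ := by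
      rw [← hm'']
      simp only [_root_.mul_assoc, mul_inv_cancel_left, _root_.mul_one, mul_inv_cancel]
    have h2 : ω ≫ q = lift gam (toUnit W' ≫ q₀) ≫ aQ.act := by rw [← hgam, comp_orbitMap]
    rw [comp_lift_assoc, ← Category.assoc ω v n', h1, h2, ← lift_mul_act, inv_mul_cancel_right,
      lift_mul_act, ← hm', ← Category.assoc, hfix]

end Groth.Agent.Lib.Helper4.CoreSubgroup
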