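import Groth.Prelude.Def_CotT
import Mathlib

/-!
# Basic facts on the three-term cotangent complex of a presentation (helper library of seat helper4)

* `toCot_surjective` : `L₁ → I/I²` is surjective;
* `exists_one_tmul` : every element of `L₁ = B ⊗_R F` is of the form `1 ⊗ f`;
* `ker_toCot_eq_range_d2` : the kernel of `L₁ → I/I²` is the image of `d₂`.
-/

set_option autoImplicit false
universe u v w t m

open TensorProduct CotT

namespace Groth.Agent.Lib.helper4

variable {A : Type u} {B : Type v} {ι : Type w} {σ : Type t}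
variable [CommRing A] [CommRing B] [Algebra A B]
variable (P : Algebra.Presentation A B ι σ)

theorem toCot_surjective : Function.Surjective (toCot P) := by
  intro y
  obtain ⟨⟨x, hx⟩, rfl⟩ := Algebra.Extension.Cotangent.mk_surjective y
  have hx' : x ∈ LinearMap.range (jmap P) := by rw [range_jmap]; exact hx
  obtain ⟨f, rfl⟩ := hx'
  refine ⟨1 ⊗ₜ f, ?_⟩
  rw [toCot_tmul, one_smul]
  rfl

theorem exists_one_tmul (z : L1 P) : ∃ f : relMod P, z = (1 : B) ⊗ₜ[P.toExtension.Ring] f := by
  induction z using TensorProduct.induction_on with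
  | zero => exact ⟨0, (TensorProduct.tmul_zero _ _).symm⟩
  | tmul b f =>
    obtain ⟨r, rfl⟩ := P.toExtension.algebraMap_surjective b
    refine ⟨r • f, ?_⟩
    rw [TensorProduct.tmul_smul, TensorProduct.smul_tmul', Algebra.smul_def, mul_one]
  | add x y hx hy =>
    obtain ⟨f, rfl⟩ := hx
    obtain ⟨g, rfl⟩ := hy
    exact ⟨f + g, (TensorProduct.tmul_add _ _ _).symm⟩

theorem one_tmul_eq_zero_of_mem_smul_top (g : relMod P)
    (hg : g ∈ P.toExtension.ker • (⊤ : Submodule P.toExtension.Ring (relMod P))) :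
    (1 : B) ⊗ₜ[P.toExtension.Ring] g = 0 := by
  induction hg using Submodule.smul_induction_on' with
  | smul x hx h _ =>
    have hx0 : algebraMap P.toExtension.Ring B x = 0 := hx
    rw [TensorProduct.tmul_smul, TensorProduct.smul_tmul', Algebra.smul_def, hx0, zero_mul,
      TensorProduct.zero_tmul]
  | add x _ y _ hx hy => rw [TensorProduct.tmul_add, hx, hy, add_zero]

theorem ker_toCot_le : LinearMap.ker (toCot P) ≤ LinearMap.range (d2 P) := by
  intro z hz
  obtain ⟨f, rfl⟩ := exists_one_tmul P z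
  rw [LinearMap.mem_ker, toCot_tmul, one_smul, Algebra.Extension.Cotangent.mk_eq_zero_iff] at hz
  have h2 : P.toExtension.ker ^ 2 =
      Submodule.map (jmap P) (P.toExtension.ker • (⊤ : Submodule P.toExtension.Ring (relMod P))) := by
    rw [Submodule.map_smul'', Submodule.map_top, range_jmap, sq]
    rfl
  have hz' : jmap P f ∈ P.toExtension.ker ^ 2 := hz
  rw [h2] at hz'
  obtain ⟨g, hg, hgf⟩ := hz'
  have hq : f - g ∈ relKer P := by
    rw [relKer, LinearMap.mem_ker, map_sub, hgf, sub_self]
  refine ⟨Submodule.Quotient.mk ((1 : B) ⊗ₜ ⟨f - g, hq⟩), ?_⟩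
  rw [d2_mk_tmul]
  change (1 : B) ⊗ₜ[P.toExtension.Ring] (f - g) = 1 ⊗ₜ f
  rw [TensorProduct.tmul_sub, one_tmul_eq_zero_of_mem_smul_top P g hg, sub_zero]

theorem ker_toCot_eq_range_d2 : LinearMap.ker (toCot P) = LinearMap.range (d2 P) :=
  le_antisymm (ker_toCot_le P) (by
    rw [LinearMap.range_le_ker_iff]
    exact toCot_comp_d2 P)

/-- A `B`-linear map out of `L₁` killing the image of `d₂` factors through `L₁ → I/I²`. -/
theorem exists_factor_toCot {M : Type m} [AddCommGroup M] [Module B M] (c : L1 P →ₗ[B] M)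
    (hc : c ∘ₗ d2 P = 0) : ∃ ψ : P.toExtension.Cotangent →ₗ[B] M, ψ ∘ₗ toCot P = c := by
  have hle : LinearMap.ker (toCot P) ≤ LinearMap.ker c := by
    intro z hz
    obtain ⟨w, rfl⟩ := ker_toCot_le P hz
    exact LinearMap.congr_fun hc w
  let e := LinearMap.quotKerEquivOfSurjective (toCot P) (toCot_surjective P)
  refine ⟨(Submodule.liftQ _ c hle) ∘ₗ e.symm.toLinearMap, ?_⟩
  ext z
  have : e.symm (toCot P z) = Submodule.Quotient.mk z := by
    rw [LinearEquiv.symm_apply_eq]
    rfl
  simp only [LinearMap.coe_comp, LinearEquiv.coe_coe, Function.comp_apply]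
  rw [this, Submodule.liftQ_apply]

/-- Cancel the surjection `L₁ → I/I²` on the right. -/
theorem comp_toCot_injective {M : Type m} [AddCommGroup M] [Module B M]
    {ψ ψ' : P.toExtension.Cotangent →ₗ[B] M} (h : ψ ∘ₗ toCot P = ψ' ∘ₗ toCot P) : ψ = ψ' := by
  ext y
  obtain ⟨z, rfl⟩ := toCot_surjective P y
  exact LinearMap.congr_fun h z

end Groth.Agent.Lib.helper4
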