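import Mathlib.RingTheory.PowerSeries.Basic
import Mathlib.RingTheory.Ideal.Operations
import Mathlib.Algebra.Module.Submodule.Pointwise
import Mathlib.LinearAlgebra.Span.Basic
import Mathlib.Tactic

/-!
# Submodules of the shape `R·1 + R·u + a·S'` (helper library of seat helper4)
-/

set_option autoImplicit false

namespace Groth.Agent.Lib.helper4

variable {R : Type*} [CommRing R] {S' : Type*} [CommRing S'] [Algebra R S']

theorem mem_span_pair_sup_smul_top_iff (u : S') (a : R) (y : S') :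
    y ∈ Submodule.span R {(1 : S'), u} ⊔ Ideal.span {a} • (⊤ : Submodule R S') ↔
      ∃ (r₁ r₂ : R) (w : S'), y = r₁ • 1 + r₂ • u + a • w := by
  rw [Submodule.ideal_span_singleton_smul, Submodule.mem_sup]
  constructor
  · rintro ⟨y₁, hy₁, z, hz, rfl⟩
    obtain ⟨r₁, r₂, rfl⟩ := Submodule.mem_span_pair.mp hy₁
    obtain ⟨w, -, rfl⟩ := (Submodule.mem_smul_pointwise_iff_exists _ _ _).mp hz
    exact ⟨r₁, r₂, w, rfl⟩
  · rintro ⟨r₁, r₂, w, rfl⟩
    exact ⟨r₁ • 1 + r₂ • u, Submodule.mem_span_pair.mpr ⟨r₁, r₂, rfl⟩, a • w,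
      (Submodule.mem_smul_pointwise_iff_exists _ _ _).mpr ⟨w, Submodule.mem_top, rfl⟩, rfl⟩

/-- `R·1 + R·u + a·S'` is closed under multiplication as soon as it contains `u * u`. -/
theorem mul_mem_of_sq_mem (u : S') (a : R)
    (hsq : u * u ∈ Submodule.span R {(1 : S'), u} ⊔ Ideal.span {a} • (⊤ : Submodule R S'))
    {x y : S'} (hx : x ∈ Submodule.span R {(1 : S'), u} ⊔ Ideal.span {a} • (⊤ : Submodule R S'))
    (hy : y ∈ Submodule.span R {(1 : S'), u} ⊔ Ideal.span {a} • (⊤ : Submodule R S')) :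
    x * y ∈ Submodule.span R {(1 : S'), u} ⊔ Ideal.span {a} • (⊤ : Submodule R S') := by
  set M := Submodule.span R {(1 : S'), u} ⊔ Ideal.span {a} • (⊤ : Submodule R S') with hM
  obtain ⟨r₁, r₂, w, rfl⟩ := (mem_span_pair_sup_smul_top_iff u a x).mp hx
  obtain ⟨s₁, s₂, w', rfl⟩ := (mem_span_pair_sup_smul_top_iff u a y).mp hy
  have h1 : (1 : S') ∈ M := (mem_span_pair_sup_smul_top_iff u a 1).mpr ⟨1, 0, 0, by simp⟩
  have hu : u ∈ M := (mem_span_pair_sup_smul_top_iff u a u).mpr ⟨0, 1, 0, by simp⟩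
  have ha : ∀ z : S', a • z ∈ M := fun z =>
    (mem_span_pair_sup_smul_top_iff u a _).mpr ⟨0, 0, z, by simp⟩
  have key : (r₁ • 1 + r₂ • u + a • w) * (s₁ • 1 + s₂ • u + a • w') =
      (r₁ * s₁) • (1 : S') + (r₁ * s₂ + r₂ * s₁) • u + (r₂ * s₂) • (u * u) +
        a • (w * (s₁ • 1 + s₂ • u + a • w') + w' * (r₁ • 1 + r₂ • u)) := by
    simp only [Algebra.smul_def, mul_one, map_mul, map_add]
    ring
  rw [key]
  exact M.add_mem (M.add_mem (M.add_mem (M.smul_mem _ h1) (M.smul_mem _ hu)) (M.smul_mem _ hsq))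
    (ha _)

end Groth.Agent.Lib.helper4
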