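import Mathlib
import Groth.Agent.Lib.Helper4.DedekindUnivOpen1
import Groth.Agent.Lib.Helper4.ClosureProper

/-!
# Universally open neighbourhood of a fibre over a Dedekind-like base (helper4)
-/

set_option backward.isDefEq.respectTransparency false
set_option backward.isDefEq.respectTransparency.types false
set_option autoImplicit false
set_option linter.style.haveILetI false

open CategoryTheory AlgebraicGeometry Limits

universe u

namespace Groth.Agent.Lib.helper4.DedekindUnivOpen

open Groth.Agent.Lib.helper4.GenFinite3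

variable {X Y : Scheme.{u}}

/-- The closure of a maximal point is an irreducible component. -/
theorem closure_mem_irreducibleComponents_of_isMaxPt (η : X) (hη : IsMaxPt η) :
    closure ({η} : Set X) ∈ irreducibleComponents (X : Type u) := by
  refine ⟨isIrreducible_singleton.closure, ?_⟩
  intro Z hZ hle
  have hZc : IsIrreducible (closure Z) := hZ.closure
  obtain ⟨ζ, hζ⟩ := QuasiSober.sober hZc isClosed_closure
  have h1 : ζ ⤳ η := by
    rw [specializes_iff_mem_closure, hζ.def]
    exact subset_closure (hle (subset_closure rfl))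
  have h2 := hη ζ h1
  rw [h2] at hζ
  show Z ⊆ closure {η}
  rw [hζ.def]
  exact subset_closure

/-- A point of an affine open given by a minimal prime is a maximal point. -/
theorem isMaxPt_of_minimalPrime {W : X.Opens} (hW : IsAffineOpen W)
    (a : Spec Γ(X, W)) (ha : a.asIdeal ∈ minimalPrimes Γ(X, W)) : IsMaxPt (hW.fromSpec a) := by
  intro z hz
  have hzr : z ∈ Set.range hW.fromSpec :=
    hz.mem_open hW.fromSpec.isOpenEmbedding.isOpen_range ⟨a, rfl⟩
  obtain ⟨b, rfl⟩ := hzr
  rw [hW.fromSpec.isOpenEmbedding.isInducing.specializes_iff] at hz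
  have hle : b.asIdeal ≤ a.asIdeal := (PrimeSpectrum.le_iff_specializes b a).mpr hz
  have : b = a := PrimeSpectrum.ext (le_antisymm hle (ha.2 ⟨b.2, bot_le⟩ hle))
  rw [this]

theorem exists_open_maxPts [IsLocallyNoetherian X] [IrreducibleSpace Y] (f : X ⟶ Y) (y : Y)
    (h : ∀ Z ∈ irreducibleComponents (X : Type u), (Z ∩ f.base ⁻¹' {y}).Nonempty →
      Dense (f.base '' Z)) :
    ∃ U : X.Opens, f.base ⁻¹' {y} ⊆ (U : Set X) ∧
      ∀ η ∈ U, IsMaxPt η → f η = genericPoint Y := by
  refine ⟨sSup {U' : X.Opens | ∀ η ∈ U', IsMaxPt η → f η = genericPoint Y}, ?_, ?_⟩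
  · intro x hx
    obtain ⟨_, ⟨W, hW, rfl⟩, hxW, -⟩ :=
      X.isBasis_affineOpens.exists_subset_of_mem_open (Set.mem_univ x) isOpen_univ
    haveI : IsNoetherianRing Γ(X, W) := IsLocallyNoetherian.component_noetherian ⟨W, hW⟩
    have hfin : (minimalPrimes Γ(X, W)).Finite := minimalPrimes.finite_of_isNoetherianRing _
    let Mb : Set (Ideal Γ(X, W)) := {q | q ∈ minimalPrimes Γ(X, W) ∧
      ∀ a : Spec Γ(X, W), a.asIdeal = q → f (hW.fromSpec a) ≠ genericPoint Y}
    have hMbfin : Mb.Finite := hfin.subset (fun q hq => hq.1)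
    let C : Set (Spec Γ(X, W)) := ⋃ q ∈ Mb, PrimeSpectrum.zeroLocus (q : Set Γ(X, W))
    have hC : IsClosed C := hMbfin.isClosed_biUnion (fun q _ => PrimeSpectrum.isClosed_zeroLocus _)
    let U0 : (Spec Γ(X, W)).Opens := ⟨Cᶜ, hC.isOpen_compl⟩
    let U' : X.Opens := hW.fromSpec ''ᵁ U0
    have hxr : x ∈ Set.range hW.fromSpec := by rw [hW.range_fromSpec]; exact hxW
    obtain ⟨p, rfl⟩ := hxr
    have hpC : p ∉ C := by
      intro hp
      simp only [C, Set.mem_iUnion] at hp
      obtain ⟨q, hqMb, hpq⟩ := hp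
      have hqp : q.IsPrime := hqMb.1.1.1
      let a : Spec Γ(X, W) := ⟨q, hqp⟩
      have hle : a.asIdeal ≤ p.asIdeal := hpq
      have hsp : hW.fromSpec a ⤳ hW.fromSpec p :=
        ((PrimeSpectrum.le_iff_specializes a p).mp hle).map hW.fromSpec.continuous
      have hmax : IsMaxPt (hW.fromSpec a) := isMaxPt_of_minimalPrime hW a hqMb.1
      have hZ := closure_mem_irreducibleComponents_of_isMaxPt _ hmax
      have hne : (closure ({hW.fromSpec a} : Set X) ∩ f.base ⁻¹' {y}).Nonempty :=
        ⟨hW.fromSpec p, specializes_iff_mem_closure.mp hsp, hx⟩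
      have hd := h _ hZ hne
      have hsub : f.base '' closure ({hW.fromSpec a} : Set X) ⊆ closure {f (hW.fromSpec a)} := by
        have := image_closure_subset_closure_image (s := ({hW.fromSpec a} : Set X)) f.continuous
        rwa [Set.image_singleton] at this
      have hgen : closure ({f (hW.fromSpec a)} : Set Y) = Set.univ := by
        rw [Set.eq_univ_iff_forall]
        intro z
        have hz : z ∈ closure (f.base '' closure ({hW.fromSpec a} : Set X)) := hd z
        exact closure_minimal hsub isClosed_closure hz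
      have : f (hW.fromSpec a) = genericPoint Y := by
        have hg : IsGenericPoint (f (hW.fromSpec a)) (⊤ : Set Y) := hgen
        exact (genericPoint_spec Y).eq hg |>.symm
      exact hqMb.2 a rfl this
    refine (TopologicalSpace.Opens.mem_sSup).mpr ⟨U', ?_, ⟨p, hpC, rfl⟩⟩
    rintro _ ⟨a, haC, rfl⟩ hmax
    obtain ⟨q, hq, hqa⟩ := Ideal.exists_minimalPrimes_le (I := ⊥) (J := a.asIdeal) bot_le
    have hqp : q.IsPrime := hq.1.1
    let b : Spec Γ(X, W) := ⟨q, hqp⟩
    have hsp : hW.fromSpec b ⤳ hW.fromSpec a :=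
      ((PrimeSpectrum.le_iff_specializes b a).mp hqa).map hW.fromSpec.continuous
    have hba : hW.fromSpec b = hW.fromSpec a := hmax _ hsp
    have hba' : b = a := hW.fromSpec.isOpenEmbedding.injective hba
    by_contra hne
    apply haC
    simp only [C, Set.mem_iUnion]
    refine ⟨q, ⟨hq, ?_⟩, ?_⟩
    · intro a' ha'
      have : a' = a := by rw [← hba']; exact PrimeSpectrum.ext ha'
      rw [this]
      exact hne
    · rw [← hba']
      intro z hz
      exact hz
  · intro η hη hmax
    obtain ⟨U', hU', hηU'⟩ := (TopologicalSpace.Opens.mem_sSup).mp hη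
    exact hU' η hηU' hmax

theorem universallyOpen_of_comp_surjective {A B C : Scheme.{u}} (i : A ⟶ B) (g : B ⟶ C)
    [Surjective i] (h : UniversallyOpen (i ≫ g)) : UniversallyOpen g := by
  have h := h.universally_isOpenMap
  constructor
  intro B' T i₁ i₂ g' hpb
  have h1 : IsPullback (pullback.snd i i₁) (pullback.fst i i₁) i₁ i :=
    (IsPullback.of_hasPullback i i₁).flip
  have h2 := h1.paste_horiz hpb
  have h3 : IsOpenMap (pullback.snd i i₁ ≫ g').base := h _ _ _ h2
  have hs : Function.Surjective (pullback.snd i i₁).base :=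
    (inferInstance : Surjective (pullback.snd i i₁)).surj
  show IsOpenMap g'.base
  intro V hV
  have : g'.base '' V = (pullback.snd i i₁ ≫ g').base '' ((pullback.snd i i₁).base ⁻¹' V) := by
    rw [Scheme.Hom.comp_base, TopCat.coe_comp, Set.image_comp, Set.image_preimage_eq _ hs]
  rw [this]
  exact h3 _ (hV.preimage (pullback.snd i i₁).continuous)

theorem exists_universallyOpen_nhd [IsLocallyNoetherian Y] [IrreducibleSpace Y]
    (hY : ∀ y : Y, IsRegularLocalRing (Y.presheaf.stalk y) ∧
      ringKrullDim (Y.presheaf.stalk y) ≤ 1)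
    (f : X ⟶ Y) [LocallyOfFiniteType f] (y : Y)
    (h : ∀ Z ∈ irreducibleComponents (X : Type u), (Z ∩ f.base ⁻¹' {y}).Nonempty →
      Dense (f.base '' Z)) :
    ∃ U : X.Opens, f.base ⁻¹' {y} ⊆ (U : Set X) ∧ UniversallyOpen (U.ι ≫ f) := by
  haveI : IsLocallyNoetherian X := LocallyOfFiniteType.isLocallyNoetherian f
  obtain ⟨U, hU1, hU2⟩ := exists_open_maxPts f y h
  refine ⟨U, hU1, ?_⟩
  let I := Scheme.IdealSheafData.vanishingIdeal (⊤ : TopologicalSpace.Closeds U.toScheme)
  let i := I.subschemeι
  haveI : IsReduced I.subscheme :=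
    Groth.Agent.Lib.helper4.ClosureProper.isReduced_subscheme_vanishingIdeal ⊤
  have hr : Set.range i = Set.univ := by
    rw [Groth.Agent.Lib.helper4.ClosureProper.range_subschemeι_vanishingIdeal]; rfl
  haveI hsurj : Surjective i := ⟨fun z => by
    have : z ∈ Set.range i := by rw [hr]; trivial
    exact this⟩
  let g := i ≫ U.ι ≫ f
  have hmax : ∀ η, IsMaxPt η → g η = genericPoint Y := by
    intro η hη
    have h1 : IsMaxPt (i η) := by
      intro z hz
      obtain ⟨z', rfl⟩ := hsurj.surj z
      rw [i.isEmbedding.isInducing.specializes_iff] at hz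
      rw [hη z' hz]
    have h2 := Groth.Agent.Lib.helper4.DvrDense5.isMaxPt_of_isOpenImmersion U.ι (i η) h1
    exact hU2 _ (i η).2 h2
  haveI : Flat g :=
    Flat.of_stalkMap (f := g) (fun x => flat_stalkMap_of_maxPts g x (hY _).1 (hY _).2 hmax)
  haveI : LocallyOfFiniteType g := inferInstance
  haveI : LocallyOfFinitePresentation g :=
    LocallyOfFinitePresentation.iff_locallyOfFiniteType.mpr inferInstance
  have hg : UniversallyOpen g := inferInstance
  exact universallyOpen_of_comp_surjective i (U.ι ≫ f) hg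

end Groth.Agent.Lib.helper4.DedekindUnivOpen
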