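import Mathlib
import Groth.Prelude.Def_DescFam
import Groth.Agent.Lib.Helper4.DescPull

/-!
# Sections of a descent datum and pullback along a morphism of families with liftings (helper4)

For a morphism of families `(α, p, p')` from `f' : X' j ⟶ S'` to `f : X i ⟶ S` such that every pair
`(x : A ⟶ X i, σ : A ⟶ S')` with the same image in `S` admits SOME `y : A ⟶ X' j` over `σ` (`HasLifts`; e.g. a base change
of the family, `hasLifts_baseChange`), the restriction map `DescPull.res` is bijective WITHOUT any covering hypothesis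
(`res_injective_of_lifts`, `res_surjective_of_lifts`), and a universal pair for the pulled back datum gives a pair which is
universal among the `push p T'` (`exists_univ_push_of_lifts`).
-/

set_option autoImplicit false
set_option backward.isDefEq.respectTransparency false
universe w' w u
open CategoryTheory CategoryTheory.Limits AlgebraicGeometry

namespace Groth.Agent.Lib.Helper4.DescBC

open Desc Groth.Agent.Lib.Helper4.DescGamma Groth.Agent.Lib.Helper4.DescPull

variable {S : Scheme.{u}} {ι : Type w} {X : ι → Scheme.{u}} {f : ∀ i, X i ⟶ S}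
  {S' : Scheme.{u}} {ι' : Type w'} {X' : ι' → Scheme.{u}} {f' : ∀ j, X' j ⟶ S'}
  {α : ι' → ι} {p : S' ⟶ S} {p' : ∀ j, X' j ⟶ X (α j)} (w : ∀ j, p' j ≫ f (α j) = f' j ≫ p)

/-- Points of the `X i` over a point of `S'` lift to some `X' j`. -/
def HasLifts (f : ∀ i, X i ⟶ S) (f' : ∀ j, X' j ⟶ S') (p : S' ⟶ S) : Prop :=
  ∀ ⦃A : Scheme.{u}⦄ ⦃i : ι⦄ (x : A ⟶ X i) (σ : A ⟶ S'), x ≫ f i = σ ≫ p → ∃ (j : ι') (y : A ⟶ X' j), y ≫ f' j = σ

theorem hasLifts_baseChange (f : ∀ i, X i ⟶ S) {B : Scheme.{u}} (b : B ⟶ S) :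
    HasLifts f (fun i => pullback.snd (f i) b) b := by
  intro A i x σ h
  exact ⟨i, pullback.lift x σ h, pullback.lift_snd _ _ _⟩

variable {D : SchDDFam f} {T' : Over S'} (hl : HasLifts f f' p)

include hl in
theorem res_injective_of_lifts : Function.Injective (res w (D := D) (T' := T')) := by
  intro s₁ s₂ h
  apply ext_of_pt
  intro i
  have hx : pullback.fst (f i) (push p T').hom ≫ f i =
      pullback.snd (f i) (push p T').hom ≫ T'.hom ≫ p := pullback.condition
  obtain ⟨j, y, hy⟩ := hl (pullback.fst (f i) (push p T').hom) (pullback.snd (f i) (push p T').hom ≫ T'.hom)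
    (by rw [Category.assoc]; exact hx)
  have e₁ := tr_res w s₁ y _ _ hy hx
  have e₂ := tr_res w s₂ y _ _ hy hx
  rw [h] at e₁
  exact e₁.symm.trans e₂

include hl in
theorem res_surjective_of_lifts : Function.Surjective (res w (D := D) (T' := T')) := by
  intro s'
  have hxC : ∀ i, pullback.fst (f i) (push p T').hom ≫ f i =
      pullback.snd (f i) (push p T').hom ≫ T'.hom ≫ p := fun i => pullback.condition
  have hex : ∀ i, ∃ (j : ι') (y : pullback (f i) (push p T').hom ⟶ X' j),
      y ≫ f' j = pullback.snd (f i) (push p T').hom ≫ T'.hom := fun i =>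
    hl (pullback.fst (f i) (push p T').hom) (pullback.snd (f i) (push p T').hom ≫ T'.hom)
      (by rw [Category.assoc]; exact hxC i)
  choose jj yy hyy using hex
  let m : ∀ i, pullback (f i) (push p T').hom ⟶ (D.obj i).left := fun i =>
    tr w s' (yy i) (pullback.snd (f i) (push p T').hom) (pullback.fst (f i) (push p T').hom) (hyy i) (hxC i)
  have key : ∀ {W : Scheme.{u}} {i : ι} {j : ι'} (a : W ⟶ pullback (f i) (push p T').hom) (y : W ⟶ X' j)
      (hy : y ≫ f' j = (a ≫ pullback.snd (f i) (push p T').hom) ≫ T'.hom),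
      a ≫ m i = tr w s' y (a ≫ pullback.snd (f i) (push p T').hom) (a ≫ pullback.fst (f i) (push p T').hom) hy
        (by rw [Category.assoc, Category.assoc, pullback.condition]; rfl) := by
    intro W i j a y hy
    show a ≫ tr w s' (yy i) _ _ (hyy i) (hxC i) = _
    rw [comp_tr]
    exact tr_indep w s' _ _ _ _ _ _ _
  have hmhom : ∀ i, m i ≫ (D.obj i).hom = pullback.fst (f i) (push p T').hom := fun i =>
    tr_hom w s' _ _ _ _ _
  have hφ : ∀ {W : Scheme.{u}} {i k : ι} (x₀ : W ⟶ X i) (x₁ : W ⟶ X k) (t : W ⟶ (push p T').left)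
      (h₀ : x₀ ≫ f i = t ≫ (push p T').hom) (h₁ : x₁ ≫ f k = t ≫ (push p T').hom),
      (D.φ x₀ x₁ (h₀.trans h₁.symm) ⟨pullback.lift x₀ t h₀ ≫ m i, by
        rw [Category.assoc, hmhom, pullback.lift_fst]⟩).1 = pullback.lift x₁ t h₁ ≫ m k := by
    intro W i k x₀ x₁ t h₀ h₁
    have hx₀ : x₀ ≫ f i = t ≫ T'.hom ≫ p := h₀
    have hx₁ : x₁ ≫ f k = t ≫ T'.hom ≫ p := h₁
    obtain ⟨j, y, hy⟩ := hl x₀ (t ≫ T'.hom) (by rw [Category.assoc]; exact hx₀)
    have k₀ : pullback.lift x₀ t h₀ ≫ m i = tr w s' y t x₀ hy hx₀ := by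
      refine (key (pullback.lift x₀ t h₀) y (by rw [pullback.lift_snd]; exact hy)).trans ?_
      exact tr_congr w s' _ _ rfl (pullback.lift_snd _ _ _) (pullback.lift_fst _ _ _)
    have k₁ : pullback.lift x₁ t h₁ ≫ m k = tr w s' y t x₁ hy hx₁ := by
      refine (key (pullback.lift x₁ t h₁) y (by rw [pullback.lift_snd]; exact hy)).trans ?_
      exact tr_congr w s' _ _ rfl (pullback.lift_snd _ _ _) (pullback.lift_fst _ _ _)
    change ph D x₀ x₁ (h₀.trans h₁.symm) (pullback.lift x₀ t h₀ ≫ m i) _ = pullback.lift x₁ t h₁ ≫ m k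
    exact (ph_congr D _ _ rfl rfl k₀).trans ((ph_tr w s' y t x₀ x₁ hy hx₀ hx₁).trans k₁.symm)
  refine ⟨mkSection m hmhom hφ, ?_⟩
  apply ext_of_pt
  intro j
  obtain ⟨y, hydef⟩ : ∃ y, y = pullback.fst (f' j) T'.hom := ⟨_, rfl⟩
  obtain ⟨t, htdef⟩ : ∃ t, t = pullback.snd (f' j) T'.hom := ⟨_, rfl⟩
  have hy : y ≫ f' j = t ≫ T'.hom := by rw [hydef, htdef]; exact pullback.condition
  have goal : pt (res w (mkSection m hmhom hφ)) y t hy = pt s' y t hy := by
    apply pullback.hom_ext
    · rw [pt_res_fst, pt_mkSection]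
      have hy2 : y ≫ f' j = (pullback.lift (y ≫ p' j) t (cond_push w y t hy) ≫
          pullback.snd (f (α j)) (push p T').hom) ≫ T'.hom := by rw [pullback.lift_snd]; exact hy
      refine (key (pullback.lift (y ≫ p' j) t (cond_push w y t hy)) y hy2).trans ?_
      refine (tr_congr w s' _ _ rfl (pullback.lift_snd _ _ _) (pullback.lift_fst _ _ _)).trans ?_
      exact tr_self w s' y t hy
    · rw [pt_snd, pt_snd]
  subst hydef htdef
  exact goal

/-- A universal pair for the pulled back datum gives a pair for `D` which is universal among `S`-schemes of the form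
`push p T'` (no covering hypothesis, only liftings). -/
theorem exists_univ_push_of_lifts (hl : HasLifts f f' p) (D : SchDDFam f) (U' : Over S')
    (ε' : (toDDFam f').obj U' ⟶ (pullDDFam w).obj D) (hε' : IsUniv ((pullDDFam w).obj D) U' ε') :
    ∃ ε : (toDDFam f).obj (push p U') ⟶ D, res w ε = ε' ∧
      ∀ (T' : Over S') (s : (toDDFam f).obj (push p T') ⟶ D),
        ∃! g : T' ⟶ U', (toDDFam f).map (pushMap p g) ≫ ε = s := by
  obtain ⟨ε, hε⟩ := res_surjective_of_lifts w hl ε'
  refine ⟨ε, hε, fun T' s => ?_⟩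
  obtain ⟨g, hg, huniq⟩ := hε' T' (res w s)
  have hg' : (toDDFam f').map g ≫ ε' = res w s := hg
  refine ⟨g, ?_, fun g' hg'' => huniq g' ?_⟩
  · show (toDDFam f).map (pushMap p g) ≫ ε = s
    apply res_injective_of_lifts w hl
    rw [res_natural, hε, hg']
  · show (toDDFam f').map g' ≫ ε' = res w s
    have h2 : (toDDFam f).map (pushMap p g') ≫ ε = s := hg''
    rw [← h2, res_natural, hε]

end Groth.Agent.Lib.Helper4.DescBC
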