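import Mathlib
import Groth.Prelude.Def_DescFam
import Groth.Prelude.Def_SGA1
import Groth.Agent.Lib.Helper4.DescGamma
import Groth.Agent.Lib.Helper4.SubmDescent
import Groth.Agent.Lib.Helper14.EtaleSubmDescent

/-!
# The canonical-descent-datum functor along a universally submersive morphism is fully faithful into étale schemes (helper4)

For `g : S' ⟶ S` universally submersive, `T` ANY scheme over `S` and `U` étale over `S`:
* `toDDFam_map_injective`, `toDDFam_map_surjective`: `(T ⟶ U) → ((toDDFam g).obj T ⟶ (toDDFam g).obj U)` is bijective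
  (one-member family `fun _ : PUnit => g`).
* `isUniv_of_iso_etale`: an isomorphism `(toDDFam g).obj U ≅ D` with `U` étale is a universal pair (`DescGamma.IsUniv`).
-/

set_option autoImplicit false
set_option backward.isDefEq.respectTransparency false
universe w u
open CategoryTheory CategoryTheory.Limits AlgebraicGeometry

namespace Groth.Agent.Lib.Helper4.DescEtFF

open Desc Groth.Agent.Lib.Helper4.DescGamma

variable {S S' : Scheme.{u}} (g : S' ⟶ S)

theorem univSubmersive_snd (hg : SGA1.UnivSubmersive g) (T : Over S) :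
    SGA1.UnivSubmersive (pullback.snd g T.hom) :=
  haveI := Groth.Agent.Lib.helper4.SubmDescent.univSubmersive_isStableUnderBaseChange.{u}
  MorphismProperty.of_isPullback (P := SGA1.UnivSubmersive) (IsPullback.of_hasPullback g T.hom) hg

theorem toDDFam_map_injective (hg : SGA1.UnivSubmersive g) (T U₂ : Over S) [Etale U₂.hom] :
    Function.Injective ((toDDFam (fun _ : PUnit.{w + 1} => g)).map : (T ⟶ U₂) → _) := by
  intro a b hab
  have h1 : (((toDDFam (fun _ : PUnit.{w + 1} => g)).map a).hom ⟨⟩).left =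
      (((toDDFam (fun _ : PUnit.{w + 1} => g)).map b).hom ⟨⟩).left := by rw [hab]
  have h2 : pullback.snd g T.hom ≫ a.left = pullback.snd g T.hom ≫ b.left := by
    rw [← toDDFam_map_hom_left_snd (f := fun _ : PUnit.{w + 1} => g) a ⟨⟩,
      ← toDDFam_map_hom_left_snd (f := fun _ : PUnit.{w + 1} => g) b ⟨⟩, h1]
  have hq : Function.Surjective (pullback.snd g T.hom) :=
    Groth.Agent.Lib.Helper14.EtaleSubmDescent.surjective_of_univSubmersive _ (univSubmersive_snd g hg T)
  have hqs : Surjective (pullback.snd g T.hom) := ⟨hq⟩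
  apply Over.OverMorphism.ext
  have hab' : a.left ≫ U₂.hom = b.left ≫ U₂.hom := by rw [Over.w a, Over.w b]
  let Δ : U₂.left ⟶ pullback U₂.hom U₂.hom := pullback.diagonal U₂.hom
  let c : T.left ⟶ pullback U₂.hom U₂.hom := pullback.lift a.left b.left hab'
  have hc1 : c ≫ pullback.fst U₂.hom U₂.hom = a.left := pullback.lift_fst _ _ _
  have hc2 : c ≫ pullback.snd U₂.hom U₂.hom = b.left := pullback.lift_snd _ _ _
  have hΔ1 : Δ ≫ pullback.fst U₂.hom U₂.hom = 𝟙 _ := pullback.diagonal_fst _
  have hΔ2 : Δ ≫ pullback.snd U₂.hom U₂.hom = 𝟙 _ := pullback.diagonal_snd _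
  let e : pullback Δ c ⟶ T.left := pullback.snd Δ c
  have he : IsOpenImmersion e := MorphismProperty.pullback_snd _ _ (inferInstance : IsOpenImmersion Δ)
  have hfac : (pullback.snd g T.hom ≫ a.left) ≫ Δ = pullback.snd g T.hom ≫ c := by
    apply pullback.hom_ext
    · simp only [Category.assoc, hΔ1, hc1, Category.comp_id]
    · simp only [Category.assoc, hΔ2, hc2, Category.comp_id, h2]
  have hqe : pullback.lift (pullback.snd g T.hom ≫ a.left) (pullback.snd g T.hom) hfac ≫ e =
      pullback.snd g T.hom := pullback.lift_snd _ _ _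
  have hes : Surjective e := by
    have : Surjective (pullback.lift (pullback.snd g T.hom ≫ a.left) (pullback.snd g T.hom) hfac ≫ e) := by
      rw [hqe]; exact hqs
    exact Surjective.of_comp (pullback.lift (pullback.snd g T.hom ≫ a.left) (pullback.snd g T.hom) hfac) e
  have hiso : IsIso e := (isIso_iff_isOpenImmersion_and_surjective e).mpr ⟨he, hes⟩
  have hc : e ≫ c = pullback.fst Δ c ≫ Δ := pullback.condition.symm
  have e1 : e ≫ a.left = pullback.fst Δ c := by
    have := congrArg (· ≫ pullback.fst U₂.hom U₂.hom) hc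
    simp only [Category.assoc, hc1, hΔ1, Category.comp_id] at this
    exact this
  have e2 : e ≫ b.left = pullback.fst Δ c := by
    have := congrArg (· ≫ pullback.snd U₂.hom U₂.hom) hc
    simp only [Category.assoc, hc2, hΔ2, Category.comp_id] at this
    exact this
  exact (cancel_epi e).mp (e1.trans e2.symm)

theorem toDDFam_map_surjective (hg : SGA1.UnivSubmersive g) (T U₂ : Over S) [Etale U₂.hom] :
    Function.Surjective ((toDDFam (fun _ : PUnit.{w + 1} => g)).map : (T ⟶ U₂) → _) := by
  intro s
  let q : pullback g T.hom ⟶ T.left := pullback.snd g T.hom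
  have hqsub : SGA1.UnivSubmersive q := univSubmersive_snd g hg T
  have hxq : pullback.fst g T.hom ≫ g = q ≫ T.hom := pullback.condition
  -- the `U₂`-component of the section
  let g' : pullback g T.hom ⟶ U₂.left :=
    pt s (i := ⟨⟩) (pullback.fst g T.hom) q hxq ≫ pullback.snd g U₂.hom
  have hg' : q ≫ T.hom = g' ≫ U₂.hom := by
    have e1 := pt_hom s (i := ⟨⟩) (pullback.fst g T.hom) q hxq
    have e2 : pt s (i := ⟨⟩) (pullback.fst g T.hom) q hxq ≫ pullback.fst g U₂.hom = pullback.fst g T.hom := e1
    calc q ≫ T.hom = pullback.fst g T.hom ≫ g := hxq.symm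
      _ = (pt s (i := ⟨⟩) (pullback.fst g T.hom) q hxq ≫ pullback.fst g U₂.hom) ≫ g := by rw [e2]
      _ = g' ≫ U₂.hom := by
        simp only [g', Category.assoc]; rw [pullback.condition]
  let r : pullback T.hom U₂.hom ⟶ T.left := pullback.fst T.hom U₂.hom
  have hr : Etale r := inferInstance
  let σ' : pullback g T.hom ⟶ pullback T.hom U₂.hom := pullback.lift q g' hg'
  have hσ' : σ' ≫ r = q := pullback.lift_fst _ _ _
  have hσ'2 : σ' ≫ pullback.snd T.hom U₂.hom = g' := pullback.lift_snd _ _ _
  -- general formula for the `U₂`-component of `pt s`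
  have hpt : ∀ {W : Scheme.{u}} (x : W ⟶ S') (t : W ⟶ T.left) (h : x ≫ g = t ≫ T.hom),
      pt s (i := ⟨⟩) x t h ≫ pullback.snd g U₂.hom = pullback.lift x t h ≫ g' := by
    intro W x t h
    simp only [g']
    rw [← Category.assoc, comp_pt]
    congr 1
    exact pt_congr s _ (pullback.lift_fst _ _ _).symm (pullback.lift_snd _ _ _).symm
  have hdesc : pullback.fst q q ≫ σ' = pullback.snd q q ≫ σ' := by
    apply pullback.hom_ext
    · rw [Category.assoc, Category.assoc]
      show pullback.fst q q ≫ σ' ≫ r = pullback.snd q q ≫ σ' ≫ r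
      rw [hσ']; exact pullback.condition
    · rw [Category.assoc, Category.assoc, hσ'2]
      let a₀ := pullback.fst q q
      let a₁ := pullback.snd q q
      have ha : a₀ ≫ q = a₁ ≫ q := pullback.condition
      let x₀ := a₀ ≫ pullback.fst g T.hom
      let x₁ := a₁ ≫ pullback.fst g T.hom
      let t := a₀ ≫ q
      have h₀ : x₀ ≫ g = t ≫ T.hom := by
        simp only [x₀, t, Category.assoc]; rw [hxq]
      have h₁ : x₁ ≫ g = t ≫ T.hom := by
        simp only [x₁, t, Category.assoc]; rw [hxq, reassoc_of% ha]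
      have key := ph_pt s (i := (⟨⟩ : PUnit.{w + 1})) (j := ⟨⟩) x₀ x₁ t h₀ h₁
      -- the canonical datum keeps the `U₂`-component
      have hcan : ph ((toDDFam (fun _ : PUnit.{w + 1} => g)).obj U₂) (i := ⟨⟩) (j := ⟨⟩) x₀ x₁
          (h₀.trans h₁.symm) (pt s (i := ⟨⟩) x₀ t h₀) (pt_hom s (i := ⟨⟩) x₀ t h₀) ≫ pullback.snd g U₂.hom =
          pt s (i := ⟨⟩) x₀ t h₀ ≫ pullback.snd g U₂.hom := by
        change pullback.lift _ _ _ ≫ pullback.snd g U₂.hom = _
        rw [pullback.lift_snd]
      rw [key] at hcan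
      rw [hpt, hpt] at hcan
      have e0 : pullback.lift x₀ t h₀ = a₀ := by
        apply pullback.hom_ext
        · rw [pullback.lift_fst]
        · rw [pullback.lift_snd]
      have e1 : pullback.lift x₁ t h₁ = a₁ := by
        apply pullback.hom_ext
        · rw [pullback.lift_fst]
        · rw [pullback.lift_snd]; exact ha
      rw [e0, e1] at hcan
      exact hcan.symm
  obtain ⟨σ, hσ1, hσ2⟩ :=
    Groth.Agent.Lib.Helper14.EtaleSubmDescent.exists_section_of_descent q hqsub r σ' hσ' hdesc
  let c : T.left ⟶ U₂.left := σ ≫ pullback.snd T.hom U₂.hom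
  have hc : c ≫ U₂.hom = T.hom := by
    simp only [c, Category.assoc]
    rw [← pullback.condition, ← Category.assoc]
    show (σ ≫ r) ≫ T.hom = _
    rw [hσ1, Category.id_comp]
  refine ⟨Over.homMk c hc, ?_⟩
  apply ext_of_pt
  intro i
  cases i
  apply pullback.hom_ext
  · have e1 := pt_hom ((toDDFam (fun _ : PUnit.{w + 1} => g)).map (Over.homMk c hc))
      (i := ⟨⟩) (pullback.fst g T.hom) (pullback.snd g T.hom) pullback.condition
    have e2 := pt_hom s (i := ⟨⟩) (pullback.fst g T.hom) (pullback.snd g T.hom) pullback.condition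
    exact e1.trans e2.symm
  · rw [hpt]
    have e3 : pullback.lift (pullback.fst g T.hom) (pullback.snd g T.hom) pullback.condition =
        𝟙 (pullback g T.hom) := by apply pullback.hom_ext <;> simp
    rw [e3, Category.id_comp]
    rw [pt, e3, Category.id_comp]
    rw [toDDFam_map_hom_left_snd (f := fun _ : PUnit.{w + 1} => g)]
    show q ≫ σ ≫ pullback.snd T.hom U₂.hom = g'
    rw [← Category.assoc, hσ2, hσ'2]

/-- An isomorphism from the canonical datum of an étale scheme is a universal pair. -/
theorem isUniv_of_iso_etale (hg : SGA1.UnivSubmersive g) (D : SchDDFam (fun _ : PUnit.{w + 1} => g))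
    (U : Over S) [Etale U.hom] (ε : (toDDFam (fun _ : PUnit.{w + 1} => g)).obj U ⟶ D) [IsIso ε] :
    IsUniv D U ε := by
  intro T s
  obtain ⟨c, hc⟩ := toDDFam_map_surjective g hg T U (s ≫ inv ε)
  refine ⟨c, ?_, fun c' hc' => ?_⟩
  · show (toDDFam _).map c ≫ ε = s
    rw [hc, Category.assoc, IsIso.inv_hom_id, Category.comp_id]
  have hc'' : (toDDFam _).map c' ≫ ε = s := hc'
  apply toDDFam_map_injective g hg T U
  rw [hc, ← hc'', Category.assoc, IsIso.hom_inv_id, Category.comp_id]

end Groth.Agent.Lib.Helper4.DescEtFF
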