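import Mathlib
import Groth.Prelude.Def_DescFam
import Groth.Agent.Lib.Helper4.DescPull

/-!
# Local representability of the sections of a descent datum: the induced descent datum (helper4)

`f i : X i ⟶ S` ANY family, `D` a descent datum relative to `f`, `q k : B k ⟶ S` a second family.  Suppose that for every
`k` the functor of sections of `D` restricted to `B k`-schemes is represented by `(U k, e k)`
(`e k : (toDDFam f).obj (push (q k) (U k)) ⟶ D`, universal among the `push (q k) T'`).  Then the `U k` carry a canonical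
descent datum `locDD` relative to `q` (points `v₀, v₁` correspond when they pull `e` back to the same section: `Rel`).
-/

set_option autoImplicit false
set_option backward.isDefEq.respectTransparency false
universe w' w u
open CategoryTheory CategoryTheory.Limits AlgebraicGeometry

namespace Groth.Agent.Lib.Helper4.DescLocEff

open Desc Groth.Agent.Lib.Helper4.DescGamma Groth.Agent.Lib.Helper4.DescPull

variable {S : Scheme.{u}} {ι : Type w} {X : ι → Scheme.{u}} {f : ∀ i, X i ⟶ S} {D : SchDDFam f}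
  {κ : Type w'} {B : κ → Scheme.{u}} {q : ∀ k, B k ⟶ S}
  {U : ∀ k, Over (B k)} (e : ∀ k, (toDDFam f).obj (push (q k) (U k)) ⟶ D)

/-- Two points of the local models define the same section of `D`. -/
def Rel {W : Scheme.{u}} {k l : κ} (v₀ : W ⟶ (U k).left) (v₁ : W ⟶ (U l).left) : Prop :=
  ∀ ⦃W' : Scheme.{u}⦄ (g : W' ⟶ W) ⦃i : ι⦄ (x : W' ⟶ X i)
    (h₀ : x ≫ f i = (g ≫ v₀) ≫ (push (q k) (U k)).hom) (h₁ : x ≫ f i = (g ≫ v₁) ≫ (push (q l) (U l)).hom),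
    pt (e k) x (g ≫ v₀) h₀ = pt (e l) x (g ≫ v₁) h₁

theorem rel_refl {W : Scheme.{u}} {k : κ} (v : W ⟶ (U k).left) : Rel e v v := fun _ _ _ _ _ _ => rfl

theorem rel_symm {W : Scheme.{u}} {k l : κ} {v₀ : W ⟶ (U k).left} {v₁ : W ⟶ (U l).left} (h : Rel e v₀ v₁) :
    Rel e v₁ v₀ := fun _ g _ x h₀ h₁ => (h g x h₁ h₀).symm

theorem rel_trans {W : Scheme.{u}} {k l m : κ} {v₀ : W ⟶ (U k).left} {v₁ : W ⟶ (U l).left}
    {v₂ : W ⟶ (U m).left} (h₀₁ : Rel e v₀ v₁) (h₁₂ : Rel e v₁ v₂)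
    (hc : v₀ ≫ (push (q k) (U k)).hom = v₁ ≫ (push (q l) (U l)).hom) : Rel e v₀ v₂ := by
  intro W' g i x h₀ h₂
  have h₁ : x ≫ f i = (g ≫ v₁) ≫ (push (q l) (U l)).hom := by
    rw [h₀, Category.assoc, hc, Category.assoc]
  exact (h₀₁ g x h₀ h₁).trans (h₁₂ g x h₁ h₂)

theorem rel_comp {W W₁ : Scheme.{u}} (g₁ : W₁ ⟶ W) {k l : κ} {v₀ : W ⟶ (U k).left} {v₁ : W ⟶ (U l).left}
    (h : Rel e v₀ v₁) : Rel e (g₁ ≫ v₀) (g₁ ≫ v₁) := by
  intro W' g i x h₀ h₁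
  have h₀' : x ≫ f i = ((g ≫ g₁) ≫ v₀) ≫ (push (q k) (U k)).hom := by
    rw [h₀]; simp only [Category.assoc]
  have h₁' : x ≫ f i = ((g ≫ g₁) ≫ v₁) ≫ (push (q l) (U l)).hom := by
    rw [h₁]; simp only [Category.assoc]
  exact (pt_congr (e k) h₀ rfl (Category.assoc _ _ _).symm).trans
    ((h (g ≫ g₁) x h₀' h₁').trans (pt_congr (e l) h₁' rfl (Category.assoc _ _ _)))

/-- `Rel` in terms of pulled back sections. -/
theorem rel_iff {T : Over S} {k l : κ} (a₀ : T ⟶ push (q k) (U k)) (a₁ : T ⟶ push (q l) (U l)) :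
    Rel e a₀.left a₁.left ↔ (toDDFam f).map a₀ ≫ e k = (toDDFam f).map a₁ ≫ e l := by
  constructor
  · intro h
    apply ext_of_pt
    intro i
    rw [map_comp_pt, map_comp_pt]
    exact h _ _ _ _
  · intro h W' g i x h₀ h₁
    have hx : x ≫ f i = g ≫ T.hom := by
      rw [h₀, Category.assoc, Over.w a₀]
    have e0 := map_comp_pt a₀ (e k) x g hx
    have e1 := map_comp_pt a₁ (e l) x g hx
    have e2 : pt ((toDDFam f).map a₀ ≫ e k) x g hx = pt ((toDDFam f).map a₁ ≫ e l) x g hx := by rw [h]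
    exact e0.symm.trans (e2.trans e1)

variable (huniv : ∀ (k : κ) (T' : Over (B k)) (s : (toDDFam f).obj (push (q k) T') ⟶ D),
    ∃! c : T' ⟶ U k, (toDDFam f).map (pushMap (q k) c) ≫ e k = s)

include huniv in
theorem existsUnique_rel {W : Scheme.{u}} {k l : κ} (x₀ : W ⟶ B k) (x₁ : W ⟶ B l) (h : x₀ ≫ q k = x₁ ≫ q l)
    (v₀ : W ⟶ (U k).left) (hv₀ : v₀ ≫ (U k).hom = x₀) :
    ∃! v₁ : W ⟶ (U l).left, v₁ ≫ (U l).hom = x₁ ∧ Rel e v₀ v₁ := by
  let T' : Over (B l) := Over.mk x₁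
  have hw : v₀ ≫ (push (q k) (U k)).hom = (push (q l) T').hom := by
    show v₀ ≫ (U k).hom ≫ q k = x₁ ≫ q l
    rw [← Category.assoc, hv₀, h]
  let a₀ : push (q l) T' ⟶ push (q k) (U k) := Over.homMk v₀ hw
  obtain ⟨c, hc, hcu⟩ := huniv l T' ((toDDFam f).map a₀ ≫ e k)
  have hc' : (toDDFam f).map (pushMap (q l) c) ≫ e l = (toDDFam f).map a₀ ≫ e k := hc
  refine ⟨c.left, ⟨Over.w c, ?_⟩, ?_⟩
  · exact (rel_iff e a₀ (pushMap (q l) c)).mpr hc'.symm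
  · rintro v₁ ⟨hv₁, hr⟩
    let c' : T' ⟶ U l := Over.homMk v₁ hv₁
    have h1 : (toDDFam f).map a₀ ≫ e k = (toDDFam f).map (pushMap (q l) c') ≫ e l :=
      (rel_iff e a₀ (pushMap (q l) c')).mp hr
    have h2 : c' = c := hcu c' h1.symm
    rw [← h2]
    rfl

/-- The gluing bijection of the induced datum. -/
noncomputable def psi {W : Scheme.{u}} {k l : κ} (x₀ : W ⟶ B k) (x₁ : W ⟶ B l) (h : x₀ ≫ q k = x₁ ≫ q l)
    (v : Lifts (U k) x₀) : Lifts (U l) x₁ :=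
  ⟨Classical.choose (existsUnique_rel e huniv x₀ x₁ h v.1 v.2).exists,
    (Classical.choose_spec (existsUnique_rel e huniv x₀ x₁ h v.1 v.2).exists).1⟩

theorem rel_psi {W : Scheme.{u}} {k l : κ} (x₀ : W ⟶ B k) (x₁ : W ⟶ B l) (h : x₀ ≫ q k = x₁ ≫ q l)
    (v : Lifts (U k) x₀) : Rel e v.1 (psi e huniv x₀ x₁ h v).1 :=
  (Classical.choose_spec (existsUnique_rel e huniv x₀ x₁ h v.1 v.2).exists).2

theorem psi_eq_of_rel {W : Scheme.{u}} {k l : κ} (x₀ : W ⟶ B k) (x₁ : W ⟶ B l) (h : x₀ ≫ q k = x₁ ≫ q l)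
    (v : Lifts (U k) x₀) (v₁ : Lifts (U l) x₁) (hr : Rel e v.1 v₁.1) : psi e huniv x₀ x₁ h v = v₁ := by
  apply Subtype.ext
  exact (existsUnique_rel e huniv x₀ x₁ h v.1 v.2).unique
    (Classical.choose_spec (existsUnique_rel e huniv x₀ x₁ h v.1 v.2).exists) ⟨v₁.2, hr⟩

theorem lifts_compat {W : Scheme.{u}} {k l : κ} (x₀ : W ⟶ B k) (x₁ : W ⟶ B l) (h : x₀ ≫ q k = x₁ ≫ q l)
    (v : Lifts (U k) x₀) (v₁ : Lifts (U l) x₁) :
    v.1 ≫ (push (q k) (U k)).hom = v₁.1 ≫ (push (q l) (U l)).hom := by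
  show v.1 ≫ (U k).hom ≫ q k = v₁.1 ≫ (U l).hom ≫ q l
  rw [← Category.assoc, ← Category.assoc, v.2, v₁.2, h]

/-- The descent datum relative to `q` induced on the local models. -/
noncomputable def locDD : SchDDFam q where
  obj := U
  φ W k l x₀ x₁ h :=
    { toFun := psi e huniv x₀ x₁ h
      invFun := psi e huniv x₁ x₀ h.symm
      left_inv := fun v => psi_eq_of_rel e huniv _ _ _ _ _ (rel_symm e (rel_psi e huniv x₀ x₁ h v))
      right_inv := fun v => psi_eq_of_rel e huniv _ _ _ _ _ (rel_symm e (rel_psi e huniv x₁ x₀ h.symm v)) }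
  φ_natural W W' g k l x₀ x₁ h y₀ y₁ hy₀ hy₁ h' v v' hv' := by
    subst hy₀ hy₁
    have hl : (g ≫ (psi e huniv x₀ x₁ h v).1) ≫ (U l).hom = g ≫ x₁ := by
      rw [Category.assoc, (psi e huniv x₀ x₁ h v).2]
    have hr : Rel e v'.1 (g ≫ (psi e huniv x₀ x₁ h v).1) := by
      rw [hv']; exact rel_comp e g (rel_psi e huniv x₀ x₁ h v)
    have := psi_eq_of_rel e huniv (g ≫ x₀) (g ≫ x₁) h' v' ⟨g ≫ (psi e huniv x₀ x₁ h v).1, hl⟩ hr
    exact congrArg Subtype.val this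
  φ_self W k x v := psi_eq_of_rel e huniv x x rfl v v (rel_refl e v.1)
  φ_comp W k l m x₀ x₁ x₂ h₀₁ h₁₂ v := by
    show psi e huniv x₁ x₂ h₁₂ (psi e huniv x₀ x₁ h₀₁ v) = psi e huniv x₀ x₂ (h₀₁.trans h₁₂) v
    symm
    refine psi_eq_of_rel e huniv x₀ x₂ (h₀₁.trans h₁₂) v _ ?_
    exact rel_trans e (rel_psi e huniv x₀ x₁ h₀₁ v) (rel_psi e huniv x₁ x₂ h₁₂ _)
      (lifts_compat x₀ x₁ h₀₁ v _)

@[simp] theorem locDD_obj (k : κ) : (locDD e huniv).obj k = U k := rfl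

theorem locDD_φ {W : Scheme.{u}} {k l : κ} (x₀ : W ⟶ B k) (x₁ : W ⟶ B l) (h : x₀ ≫ q k = x₁ ≫ q l)
    (v : Lifts (U k) x₀) : (locDD e huniv).φ x₀ x₁ h v = psi e huniv x₀ x₁ h v := rfl

end Groth.Agent.Lib.Helper4.DescLocEff
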