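import Mathlib
import Groth.Prelude.Def_DescFam
import Groth.Agent.Lib.Helper4.DescPull
import Groth.Agent.Lib.Helper4.DescRestrict

/-!
# The sections of a descent datum form an fpqc sheaf (helper4)

`f i : X i ⟶ S` ANY family, `D` a descent datum relative to `f`.  For an fpqc covering family `c k : P k ⟶ T` in `Over S`:
* `hom_ext_sections`: two sections of `D` over `T` agreeing on the `P k` are equal;
* `glue_sections`: a family of sections over the `P k` which agree on points with the same image in `T` comes from a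
  section over `T`.
-/

set_option autoImplicit false
set_option backward.isDefEq.respectTransparency false
universe w' w u
open CategoryTheory CategoryTheory.Limits AlgebraicGeometry

namespace Groth.Agent.Lib.Helper4.DescLocEff

open Desc Groth.Agent.Lib.Helper4.DescGamma Groth.Agent.Lib.Helper4.DescPull Groth.Agent.Lib.Helper4.SheafGlue

variable {S : Scheme.{u}} {ι : Type w} {X : ι → Scheme.{u}} {f : ∀ i, X i ⟶ S} {D : SchDDFam f}
  {κ : Type w'} {T : Over S} {P : κ → Over S} (c : ∀ k, P k ⟶ T)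
  (hc : Presieve.ofArrows (fun k => (P k).left) (fun k => (c k).left) ∈ Scheme.fpqcPrecoverage T.left)

include hc in
theorem cover_pullback (i : ι) :
    Presieve.ofArrows (fun k => pullback (f i) (P k).hom) (fun k => (((toDDFam f).map (c k)).hom i).left) ∈
      Scheme.fpqcPrecoverage (pullback (f i) T.hom) :=
  Precoverage.mem_coverings_of_isPullback (fun k => (c k).left) hc (pullback.snd (f i) T.hom) _
    (fun k => pullback.snd (f i) (P k).hom)
    (fun k => DescRestrict.isPullback_map_snd (f i) (P k).hom T.hom (c k).left (Over.w (c k)))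

include hc in
theorem hom_ext_sections (s₀ s₁ : (toDDFam f).obj T ⟶ D)
    (h : ∀ k, (toDDFam f).map (c k) ≫ s₀ = (toDDFam f).map (c k) ≫ s₁) : s₀ = s₁ := by
  apply SchDDFam.hom_ext
  funext i
  apply Over.OverMorphism.ext
  refine hom_ext_of_fpqc _ _ (cover_pullback c hc i) _ _ (fun k => ?_)
  have := congrArg (fun a => (a.hom i).left) (h k)
  exact this

include hc in
theorem glue_sections (s : ∀ k, (toDDFam f).obj (P k) ⟶ D)
    (compat : ∀ ⦃W : Scheme.{u}⦄ (k l : κ) (a : W ⟶ (P k).left) (b : W ⟶ (P l).left),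
      a ≫ (c k).left = b ≫ (c l).left → ∀ ⦃i : ι⦄ (x : W ⟶ X i) (ha : x ≫ f i = a ≫ (P k).hom)
        (hb : x ≫ f i = b ≫ (P l).hom), pt (s k) x a ha = pt (s l) x b hb) :
    ∃ s₀ : (toDDFam f).obj T ⟶ D, ∀ k, (toDDFam f).map (c k) ≫ s₀ = s k := by
  have hglue : ∀ i, ∃ m : pullback (f i) T.hom ⟶ (D.obj i).left,
      ∀ k, (((toDDFam f).map (c k)).hom i).left ≫ m = ((s k).hom i).left := by
    intro i
    refine exists_glue_of_fpqc _ _ (cover_pullback c hc i) _ ?_
    intro k l W gk gl hg
    rw [comp_hom_left, comp_hom_left]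
    have h1 : gk ≫ pullback.fst (f i) (P k).hom = gl ≫ pullback.fst (f i) (P l).hom := by
      have := congrArg (· ≫ pullback.fst (f i) T.hom) hg
      simpa only [Category.assoc, toDDFam_map_hom_left_fst] using this
    have h2 : (gk ≫ pullback.snd (f i) (P k).hom) ≫ (c k).left =
        (gl ≫ pullback.snd (f i) (P l).hom) ≫ (c l).left := by
      have := congrArg (· ≫ pullback.snd (f i) T.hom) hg
      simpa only [Category.assoc, toDDFam_map_hom_left_snd] using this
    refine (compat k l _ _ h2 (gk ≫ pullback.fst (f i) (P k).hom) _ ?_).trans ?_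
    · rw [h1, Category.assoc, Category.assoc, pullback.condition]
    · exact pt_congr (s l) _ h1 rfl
  choose m hm using hglue
  have hmhom : ∀ i, m i ≫ (D.obj i).hom = pullback.fst (f i) T.hom := by
    intro i
    refine hom_ext_of_fpqc _ _ (cover_pullback c hc i) _ _ (fun k => ?_)
    rw [← Category.assoc, hm, hom_left_hom, toDDFam_map_hom_left_fst]
  have key : ∀ {W : Scheme.{u}} {i : ι} (k : κ) (x : W ⟶ X i) (a : W ⟶ (P k).left)
      (ha : x ≫ f i = a ≫ (P k).hom) (hx : x ≫ f i = (a ≫ (c k).left) ≫ T.hom),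
      pullback.lift x (a ≫ (c k).left) hx ≫ m i = pt (s k) x a ha := by
    intro W i k x a ha hx
    have e1 : pullback.lift x (a ≫ (c k).left) hx =
        pullback.lift x a ha ≫ (((toDDFam f).map (c k)).hom i).left := by
      apply pullback.hom_ext
      · rw [pullback.lift_fst, Category.assoc, toDDFam_map_hom_left_fst, pullback.lift_fst]
      · rw [pullback.lift_snd, Category.assoc, toDDFam_map_hom_left_snd, pullback.lift_snd_assoc]
    rw [e1, Category.assoc, hm]
    rfl
  have hφ : ∀ {W : Scheme.{u}} {i j : ι} (x₀ : W ⟶ X i) (x₁ : W ⟶ X j) (t : W ⟶ T.left)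
      (h₀ : x₀ ≫ f i = t ≫ T.hom) (h₁ : x₁ ≫ f j = t ≫ T.hom),
      (D.φ x₀ x₁ (h₀.trans h₁.symm) ⟨pullback.lift x₀ t h₀ ≫ m i, by
        rw [Category.assoc, hmhom, pullback.lift_fst]⟩).1 = pullback.lift x₁ t h₁ ≫ m j := by
    intro W i j x₀ x₁ t h₀ h₁
    refine hom_ext_of_fpqc _ _ (DescFF.pullback_cover (fun k => (c k).left) hc t) _ _ (fun k => ?_)
    obtain ⟨g, hgdef⟩ : ∃ g, g = pullback.snd (c k).left t := ⟨_, rfl⟩
    obtain ⟨a, hadef⟩ : ∃ a, a = pullback.fst (c k).left t := ⟨_, rfl⟩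
    have hag : a ≫ (c k).left = g ≫ t := by rw [hadef, hgdef]; exact pullback.condition
    rw [← hgdef]
    have ha₀ : (g ≫ x₀) ≫ f i = a ≫ (P k).hom := by
      rw [Category.assoc, h₀, ← Category.assoc, ← hag, Category.assoc, Over.w (c k)]
    have ha₁ : (g ≫ x₁) ≫ f j = a ≫ (P k).hom := by
      rw [Category.assoc, h₁, ← Category.assoc, ← hag, Category.assoc, Over.w (c k)]
    have hx₀ : (g ≫ x₀) ≫ f i = (a ≫ (c k).left) ≫ T.hom :=
      ha₀.trans (by rw [Category.assoc, Over.w (c k)])
    have hx₁ : (g ≫ x₁) ≫ f j = (a ≫ (c k).left) ≫ T.hom :=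
      ha₁.trans (by rw [Category.assoc, Over.w (c k)])
    have k₀ : g ≫ pullback.lift x₀ t h₀ ≫ m i = pt (s k) (g ≫ x₀) a ha₀ := by
      rw [← key k (g ≫ x₀) a ha₀ hx₀, ← Category.assoc]
      congr 1
      apply pullback.hom_ext
      · rw [Category.assoc, pullback.lift_fst, pullback.lift_fst]
      · rw [Category.assoc, pullback.lift_snd, pullback.lift_snd, hag]
    have k₁ : g ≫ pullback.lift x₁ t h₁ ≫ m j = pt (s k) (g ≫ x₁) a ha₁ := by
      rw [← key k (g ≫ x₁) a ha₁ hx₁, ← Category.assoc]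
      congr 1
      apply pullback.hom_ext
      · rw [Category.assoc, pullback.lift_fst, pullback.lift_fst]
      · rw [Category.assoc, pullback.lift_snd, pullback.lift_snd, hag]
    have e := comp_ph D g x₀ x₁ (h₀.trans h₁.symm) (pullback.lift x₀ t h₀ ≫ m i)
      (by rw [Category.assoc, hmhom, pullback.lift_fst])
    change g ≫ ph D x₀ x₁ (h₀.trans h₁.symm) (pullback.lift x₀ t h₀ ≫ m i) _ = g ≫ pullback.lift x₁ t h₁ ≫ m j
    exact e.trans ((ph_congr D _ _ rfl rfl k₀).trans ((ph_pt (s k) (g ≫ x₀) (g ≫ x₁) a ha₀ ha₁).trans k₁.symm))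
  refine ⟨mkSection m hmhom hφ, fun k => ?_⟩
  apply SchDDFam.hom_ext
  funext i
  apply Over.OverMorphism.ext
  exact hm i k

end Groth.Agent.Lib.Helper4.DescLocEff
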