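import Mathlib
import Groth.Prelude.Def_DescFam
import Groth.Agent.Lib.Helper4.DescLocEff1
import Groth.Agent.Lib.Helper4.DescLocEff2

/-!
# Effectivity of a descent datum is fpqc-local on the base, given local representing objects (helper4)

`f i : X i ⟶ S` ANY family, `D` a descent datum relative to `f`, `q k : B k ⟶ S` an fpqc covering family, `(U k, e k)` local
representing pairs (see `DescLocEff1`).  `exists_isUniv`: if the induced descent datum `locDD e huniv` on the `U k` relative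
to `q` is effective, isomorphic to the canonical datum of `Uo`, then `Uo` carries a universal section of `D` (hence `D` is
effective, `DescGamma.isIso_of_isUniv`).
-/

set_option autoImplicit false
set_option backward.isDefEq.respectTransparency false
set_option maxHeartbeats 800000
universe w' w u
open CategoryTheory CategoryTheory.Limits AlgebraicGeometry

namespace Groth.Agent.Lib.Helper4.DescLocEff

open Desc Groth.Agent.Lib.Helper4.DescGamma Groth.Agent.Lib.Helper4.DescPull Groth.Agent.Lib.Helper4.SheafGlue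

variable {S : Scheme.{u}} {ι : Type w} {X : ι → Scheme.{u}} {f : ∀ i, X i ⟶ S} {D : SchDDFam f}
  {κ : Type w'} {B : κ → Scheme.{u}} {q : ∀ k, B k ⟶ S}
  {U : ∀ k, Over (B k)} (e : ∀ k, (toDDFam f).obj (push (q k) (U k)) ⟶ D)
  (huniv : ∀ (k : κ) (T' : Over (B k)) (s : (toDDFam f).obj (push (q k) T') ⟶ D),
    ∃! c : T' ⟶ U k, (toDDFam f).map (pushMap (q k) c) ≫ e k = s)
  (hq : Presieve.ofArrows B q ∈ Scheme.fpqcPrecoverage S)
  (Uo : Over S) (θ : (toDDFam q).obj Uo ≅ locDD e huniv)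

include hq θ in
theorem exists_isUniv : ∃ ε : (toDDFam f).obj Uo ⟶ D, IsUniv D Uo ε := by
  -- components of `θ`
  obtain ⟨kh, hkh⟩ : ∃ m : ∀ k, pullback (q k) Uo.hom ⟶ (U k).left, ∀ k, m k = (θ.hom.hom k).left :=
    ⟨_, fun _ => rfl⟩
  obtain ⟨ki, hki⟩ : ∃ m : ∀ k, (U k).left ⟶ pullback (q k) Uo.hom, ∀ k, m k = (θ.inv.hom k).left :=
    ⟨_, fun _ => rfl⟩
  have hkhw : ∀ k, kh k ≫ (U k).hom = pullback.fst (q k) Uo.hom := fun k => by
    rw [hkh]; exact Over.w (θ.hom.hom k)
  have hkiw : ∀ k, ki k ≫ pullback.fst (q k) Uo.hom = (U k).hom := fun k => by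
    rw [hki]; exact Over.w (θ.inv.hom k)
  have hkhi : ∀ k, kh k ≫ ki k = 𝟙 _ := fun k => by
    rw [hkh, hki]
    exact congrArg (fun a => (SchDDFam.Hom.hom a k).left) θ.hom_inv_id
  have hkih : ∀ k, ki k ≫ kh k = 𝟙 _ := fun k => by
    rw [hkh, hki]
    exact congrArg (fun a => (SchDDFam.Hom.hom a k).left) θ.inv_hom_id
  -- compatibility of `kh` with the descent data
  have hxx : ∀ {W : Scheme.{u}} (k l : κ) (a : W ⟶ pullback (q k) Uo.hom) (b : W ⟶ pullback (q l) Uo.hom),
      a ≫ pullback.snd (q k) Uo.hom = b ≫ pullback.snd (q l) Uo.hom →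
      (a ≫ pullback.fst (q k) Uo.hom) ≫ q k = (b ≫ pullback.fst (q l) Uo.hom) ≫ q l := by
    intro W k l a b hab
    rw [Category.assoc, Category.assoc, pullback.condition, pullback.condition, ← Category.assoc, hab,
      Category.assoc]
  have hkh_rel : ∀ {W : Scheme.{u}} (k l : κ) (a : W ⟶ pullback (q k) Uo.hom)
      (b : W ⟶ pullback (q l) Uo.hom), a ≫ pullback.snd (q k) Uo.hom = b ≫ pullback.snd (q l) Uo.hom →
      Rel e (a ≫ kh k) (b ≫ kh l) := by
    intro W k l a b hab
    have h := hxx k l a b hab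
    let v : Lifts (((toDDFam q).obj Uo).obj k) (a ≫ pullback.fst (q k) Uo.hom) := ⟨a, rfl⟩
    have hw : (a ≫ kh k) ≫ (U k).hom = a ≫ pullback.fst (q k) Uo.hom := by
      rw [Category.assoc, hkhw]
    let w : Lifts (U k) (a ≫ pullback.fst (q k) Uo.hom) := ⟨a ≫ kh k, hw⟩
    have hc := θ.hom.comm (a ≫ pullback.fst (q k) Uo.hom) (b ≫ pullback.fst (q l) Uo.hom) h v w
      (by show a ≫ kh k = a ≫ (θ.hom.hom k).left; rw [hkh])
    have hb : (((toDDFam q).obj Uo).φ (a ≫ pullback.fst (q k) Uo.hom) (b ≫ pullback.fst (q l) Uo.hom) h v).1 =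
        b := by
      change pullback.lift _ _ _ = b
      apply pullback.hom_ext
      · rw [pullback.lift_fst]
      · rw [pullback.lift_snd]; exact hab
    rw [hb] at hc
    have hr := rel_psi e huniv (a ≫ pullback.fst (q k) Uo.hom) (b ≫ pullback.fst (q l) Uo.hom) h w
    have hc' : (psi e huniv (a ≫ pullback.fst (q k) Uo.hom) (b ≫ pullback.fst (q l) Uo.hom) h w).1 =
        b ≫ kh l := by rw [hkh]; exact hc
    rw [hc'] at hr
    exact hr
  -- the cover of `Uo` and the local sections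
  let P : κ → Over S := fun k => Over.mk (pullback.snd (q k) Uo.hom ≫ Uo.hom)
  let c : ∀ k, P k ⟶ Uo := fun k => Over.homMk (pullback.snd (q k) Uo.hom) rfl
  have hc : Presieve.ofArrows (fun k => (P k).left) (fun k => (c k).left) ∈ Scheme.fpqcPrecoverage Uo.left :=
    DescFF.pullback_cover q hq Uo.hom
  have hak : ∀ k, kh k ≫ (push (q k) (U k)).hom = (P k).hom := fun k => by
    show kh k ≫ (U k).hom ≫ q k = pullback.snd (q k) Uo.hom ≫ Uo.hom
    rw [← Category.assoc, hkhw, pullback.condition]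
  let ak : ∀ k, P k ⟶ push (q k) (U k) := fun k => Over.homMk (kh k) (hak k)
  let s : ∀ k, (toDDFam f).obj (P k) ⟶ D := fun k => (toDDFam f).map (ak k) ≫ e k
  obtain ⟨ε, hε⟩ := glue_sections c hc s (by
    intro W k l a b hab i x ha hb
    show pt ((toDDFam f).map (ak k) ≫ e k) x a ha = pt ((toDDFam f).map (ak l) ≫ e l) x b hb
    rw [map_comp_pt, map_comp_pt]
    have hr := hkh_rel k l a b hab
    have h₀ : x ≫ f i = (𝟙 W ≫ a ≫ kh k) ≫ (push (q k) (U k)).hom := by
      rw [Category.id_comp, Category.assoc, hak]; exact ha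
    have h₁ : x ≫ f i = (𝟙 W ≫ b ≫ kh l) ≫ (push (q l) (U l)).hom := by
      rw [Category.id_comp, Category.assoc, hak]; exact hb
    exact (pt_congr (e k) _ rfl (Category.id_comp _).symm).trans
      ((hr (𝟙 W) x h₀ h₁).trans (pt_congr (e l) _ rfl (Category.id_comp _))))
  refine ⟨ε, ?_⟩
  intro T s₀
  -- local data on `T`
  let T' : ∀ k, Over (B k) := fun k => Over.mk (pullback.fst (q k) T.hom)
  have hdk : ∀ k, pullback.snd (q k) T.hom ≫ T.hom = (push (q k) (T' k)).hom := fun k =>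
    pullback.condition.symm
  let dk : ∀ k, push (q k) (T' k) ⟶ T := fun k => Over.homMk (pullback.snd (q k) T.hom) (hdk k)
  have hd : Presieve.ofArrows (fun k => (push (q k) (T' k)).left) (fun k => (dk k).left) ∈
      Scheme.fpqcPrecoverage T.left := DescFF.pullback_cover q hq T.hom
  have hd' : Presieve.ofArrows (fun k => pullback (q k) T.hom) (fun k => pullback.snd (q k) T.hom) ∈
      Scheme.fpqcPrecoverage T.left := DescFF.pullback_cover q hq T.hom
  -- characterisation of the lifts of `c₃ : T ⟶ Uo` with `c₃^* ε = s₀`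
  have claim : ∀ (k : κ) (c₃ : T ⟶ Uo), (toDDFam f).map c₃ ≫ ε = s₀ →
      ∀ cc : T' k ⟶ U k, (toDDFam f).map (pushMap (q k) cc) ≫ e k = (toDDFam f).map (dk k) ≫ s₀ →
      pullback.snd (q k) T.hom ≫ c₃.left = cc.left ≫ ki k ≫ pullback.snd (q k) Uo.hom := by
    intro k c₃ h₃ cc hcc
    have hlk : pullback.fst (q k) T.hom ≫ q k = (pullback.snd (q k) T.hom ≫ c₃.left) ≫ Uo.hom := by
      rw [Category.assoc, Over.w c₃]; exact pullback.condition
    let lk : pullback (q k) T.hom ⟶ pullback (q k) Uo.hom :=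
      pullback.lift (pullback.fst (q k) T.hom) (pullback.snd (q k) T.hom ≫ c₃.left) hlk
    have hlk1 : lk ≫ pullback.fst (q k) Uo.hom = pullback.fst (q k) T.hom := pullback.lift_fst _ _ _
    have hlk2 : lk ≫ pullback.snd (q k) Uo.hom = pullback.snd (q k) T.hom ≫ c₃.left := pullback.lift_snd _ _ _
    have huk : (lk ≫ kh k) ≫ (U k).hom = (T' k).hom := by
      rw [Category.assoc, hkhw]; exact hlk1
    let c'₃ : T' k ⟶ U k := Over.homMk (lk ≫ kh k) huk
    have hlkO : lk ≫ (P k).hom = (push (q k) (T' k)).hom := by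
      show lk ≫ pullback.snd (q k) Uo.hom ≫ Uo.hom = pullback.fst (q k) T.hom ≫ q k
      rw [← Category.assoc, hlk2]; exact hlk.symm
    let lkO : push (q k) (T' k) ⟶ P k := Over.homMk lk hlkO
    have e1 : pushMap (q k) c'₃ = lkO ≫ ak k := Over.OverMorphism.ext rfl
    have e2 : lkO ≫ c k = dk k ≫ c₃ := Over.OverMorphism.ext hlk2
    have h4 : (toDDFam f).map (pushMap (q k) c'₃) ≫ e k = (toDDFam f).map (dk k) ≫ s₀ := by
      calc (toDDFam f).map (pushMap (q k) c'₃) ≫ e k
          = (toDDFam f).map lkO ≫ ((toDDFam f).map (ak k) ≫ e k) := by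
            rw [e1, Functor.map_comp, Category.assoc]
        _ = (toDDFam f).map lkO ≫ ((toDDFam f).map (c k) ≫ ε) := by rw [hε]
        _ = (toDDFam f).map (dk k) ≫ ((toDDFam f).map c₃ ≫ ε) := by
            rw [← Category.assoc, ← Functor.map_comp, e2, Functor.map_comp, Category.assoc]
        _ = (toDDFam f).map (dk k) ≫ s₀ := by rw [h₃]
    have h5 : c'₃ = cc := (huniv k (T' k) ((toDDFam f).map (dk k) ≫ s₀)).unique h4 hcc
    have h6 : lk ≫ kh k = cc.left := congrArg (fun a => a.left) h5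
    have h7 : lk = cc.left ≫ ki k := by
      rw [← h6, Category.assoc, hkhi, Category.comp_id]
    rw [← hlk2, h7, Category.assoc]
  choose c' hc' hc'u using fun k => huniv k (T' k) ((toDDFam f).map (dk k) ≫ s₀)
  have hc'' : ∀ k, (toDDFam f).map (pushMap (q k) (c' k)) ≫ e k = (toDDFam f).map (dk k) ≫ s₀ := hc'
  have hc'w : ∀ k, (c' k).left ≫ (U k).hom = pullback.fst (q k) T.hom := fun k => Over.w (c' k)
  -- `pt` formula
  have hpt : ∀ (k : κ) {W : Scheme.{u}} (a : W ⟶ pullback (q k) T.hom) {i : ι} (x : W ⟶ X i)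
      (h : x ≫ f i = (a ≫ (c' k).left) ≫ (push (q k) (U k)).hom)
      (h' : x ≫ f i = (a ≫ pullback.snd (q k) T.hom) ≫ T.hom),
      pt (e k) x (a ≫ (c' k).left) h = pt s₀ x (a ≫ pullback.snd (q k) T.hom) h' := by
    intro k W a i x h h'
    have hx : x ≫ f i = a ≫ (push (q k) (T' k)).hom := by
      rw [h']; rw [Category.assoc, hdk]
    have e0 := map_comp_pt (pushMap (q k) (c' k)) (e k) x a hx
    have e1 := map_comp_pt (dk k) s₀ x a hx
    have e2 : pt ((toDDFam f).map (pushMap (q k) (c' k)) ≫ e k) x a hx =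
        pt ((toDDFam f).map (dk k) ≫ s₀) x a hx := by rw [hc'']
    exact e0.symm.trans (e2.trans e1)
  let n : ∀ k, pullback (q k) T.hom ⟶ Uo.left := fun k => (c' k).left ≫ ki k ≫ pullback.snd (q k) Uo.hom
  obtain ⟨c₀, hc₀⟩ := exists_glue_of_fpqc _ _ hd' n (by
    intro k l W a b hab
    have hx : (a ≫ pullback.fst (q k) T.hom) ≫ q k = (b ≫ pullback.fst (q l) T.hom) ≫ q l := by
      rw [Category.assoc, Category.assoc, pullback.condition, pullback.condition, ← Category.assoc, hab,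
        Category.assoc]
    have hv₀ : (a ≫ (c' k).left) ≫ (U k).hom = a ≫ pullback.fst (q k) T.hom := by
      rw [Category.assoc, hc'w]
    have hv₁ : (b ≫ (c' l).left) ≫ (U l).hom = b ≫ pullback.fst (q l) T.hom := by
      rw [Category.assoc, hc'w]
    have hrel : Rel e (a ≫ (c' k).left) (b ≫ (c' l).left) := by
      intro W' g i x h₀ h₁
      have h₀' : x ≫ f i = ((g ≫ a) ≫ (c' k).left) ≫ (push (q k) (U k)).hom := by
        rw [h₀]; simp only [Category.assoc]
      have h₁' : x ≫ f i = ((g ≫ b) ≫ (c' l).left) ≫ (push (q l) (U l)).hom := by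
        rw [h₁]; simp only [Category.assoc]
      have hT₀ : x ≫ f i = ((g ≫ a) ≫ pullback.snd (q k) T.hom) ≫ T.hom := by
        rw [h₀']
        show ((g ≫ a) ≫ (c' k).left) ≫ (U k).hom ≫ q k = _
        rw [Category.assoc, ← Category.assoc (c' k).left, hc'w, Category.assoc, Category.assoc, Category.assoc,
          pullback.condition]
      have hT₁ : x ≫ f i = ((g ≫ b) ≫ pullback.snd (q l) T.hom) ≫ T.hom := by
        rw [hT₀]; simp only [Category.assoc]; rw [reassoc_of% hab]
      refine (pt_congr (e k) h₀ rfl (Category.assoc _ _ _).symm).trans ?_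
      refine (hpt k (g ≫ a) x h₀' hT₀).trans ?_
      have hsn : (g ≫ a) ≫ pullback.snd (q k) T.hom = (g ≫ b) ≫ pullback.snd (q l) T.hom := by
        rw [Category.assoc, hab, Category.assoc]
      refine (pt_congr s₀ hT₀ rfl hsn).trans ?_
      refine (hpt l (g ≫ b) x h₁' hT₁).symm.trans ?_
      exact pt_congr (e l) h₁' rfl (Category.assoc _ _ _)
    have hpsi := psi_eq_of_rel e huniv (a ≫ pullback.fst (q k) T.hom) (b ≫ pullback.fst (q l) T.hom) hx
      ⟨a ≫ (c' k).left, hv₀⟩ ⟨b ≫ (c' l).left, hv₁⟩ hrel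
    have hw : ((a ≫ (c' k).left) ≫ ki k) ≫ pullback.fst (q k) Uo.hom = a ≫ pullback.fst (q k) T.hom := by
      rw [Category.assoc, hkiw]; exact hv₀
    let w : Lifts (((toDDFam q).obj Uo).obj k) (a ≫ pullback.fst (q k) T.hom) :=
      ⟨(a ≫ (c' k).left) ≫ ki k, hw⟩
    let v : Lifts (U k) (a ≫ pullback.fst (q k) T.hom) := ⟨a ≫ (c' k).left, hv₀⟩
    have hci := θ.inv.comm (a ≫ pullback.fst (q k) T.hom) (b ≫ pullback.fst (q l) T.hom) hx v w
      (by show (a ≫ (c' k).left) ≫ ki k = (a ≫ (c' k).left) ≫ (θ.inv.hom k).left; rw [hki])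
    have hci' : (((toDDFam q).obj Uo).φ (a ≫ pullback.fst (q k) T.hom) (b ≫ pullback.fst (q l) T.hom) hx w).1 =
        (b ≫ (c' l).left) ≫ ki l := by
      rw [hki]
      refine hci.trans ?_
      congr 1
      exact congrArg Subtype.val hpsi
    have hci'' := congrArg (· ≫ pullback.snd (q l) Uo.hom) hci'
    have hL : (((toDDFam q).obj Uo).φ (a ≫ pullback.fst (q k) T.hom) (b ≫ pullback.fst (q l) T.hom) hx w).1 ≫
        pullback.snd (q l) Uo.hom = ((a ≫ (c' k).left) ≫ ki k) ≫ pullback.snd (q k) Uo.hom := by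
      change pullback.lift _ _ _ ≫ pullback.snd (q l) Uo.hom = _
      rw [pullback.lift_snd]
    show a ≫ (c' k).left ≫ ki k ≫ pullback.snd (q k) Uo.hom = b ≫ (c' l).left ≫ ki l ≫ pullback.snd (q l) Uo.hom
    have := hL.symm.trans hci''
    simpa only [Category.assoc] using this)
  have hc₀' : ∀ k, pullback.snd (q k) T.hom ≫ c₀ = n k := hc₀
  have hc₀w : c₀ ≫ Uo.hom = T.hom := by
    refine hom_ext_of_fpqc _ _ hd' _ _ (fun k => ?_)
    rw [← Category.assoc, hc₀']
    show ((c' k).left ≫ ki k ≫ pullback.snd (q k) Uo.hom) ≫ Uo.hom = _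
    rw [Category.assoc, Category.assoc, ← pullback.condition, ← Category.assoc (ki k), hkiw, ← Category.assoc,
      hc'w, pullback.condition]
  let cT : T ⟶ Uo := Over.homMk c₀ hc₀w
  have hcT : (toDDFam f).map cT ≫ ε = s₀ := by
    apply hom_ext_sections dk hd
    intro k
    have hbk : ki k ≫ (P k).hom = (push (q k) (U k)).hom := by
      show ki k ≫ pullback.snd (q k) Uo.hom ≫ Uo.hom = (U k).hom ≫ q k
      rw [← pullback.condition, ← Category.assoc, hkiw]
    let bk : push (q k) (U k) ⟶ P k := Over.homMk (ki k) hbk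
    have e1 : dk k ≫ cT = pushMap (q k) (c' k) ≫ bk ≫ c k := Over.OverMorphism.ext (hc₀' k)
    have e2 : bk ≫ ak k = 𝟙 _ := Over.OverMorphism.ext (hkih k)
    calc (toDDFam f).map (dk k) ≫ (toDDFam f).map cT ≫ ε
        = (toDDFam f).map (dk k ≫ cT) ≫ ε := by rw [Functor.map_comp, Category.assoc]
      _ = (toDDFam f).map (pushMap (q k) (c' k)) ≫ (toDDFam f).map bk ≫ ((toDDFam f).map (c k) ≫ ε) := by
          rw [e1]; simp only [Functor.map_comp, Category.assoc]
      _ = (toDDFam f).map (pushMap (q k) (c' k)) ≫ (toDDFam f).map bk ≫ ((toDDFam f).map (ak k) ≫ e k) := by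
          rw [hε]
      _ = (toDDFam f).map (pushMap (q k) (c' k)) ≫ e k := by
          rw [← Category.assoc ((toDDFam f).map bk), ← Functor.map_comp, e2, CategoryTheory.Functor.map_id, Category.id_comp]
      _ = (toDDFam f).map (dk k) ≫ s₀ := hc'' k
  refine ⟨cT, hcT, fun c₂ hc₂ => ?_⟩
  have hc₂' : (toDDFam f).map c₂ ≫ ε = s₀ := hc₂
  apply Over.OverMorphism.ext
  refine hom_ext_of_fpqc _ _ hd' _ _ (fun k => ?_)
  rw [claim k c₂ hc₂' (c' k) (hc'' k)]
  exact (hc₀' k).symm

end Groth.Agent.Lib.Helper4.DescLocEff
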