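import Mathlib
import Groth.Prelude.Def_DescFam
import Groth.Prelude.Def_SGA1
import Groth.Agent.Lib.Helper4.DescEtFF
import Groth.Agent.Lib.Helper4.DescBC
import Groth.Agent.Lib.Helper4.DescLocEff3

/-!
# Étale descent data relative to a universally submersive morphism and base change (helper4)

`g : S' ⟶ S` universally submersive, `D` a descent datum relative to `g` (one-member family), `b : B ⟶ S`.
* `bcDD D b`: the base-changed datum relative to `pullback.snd g b` (as in SGA 1 IX).
* `exists_pull_iso_of_iso_etale`: if `D` is the canonical datum of an étale `U`, then `bcDD D b` is the canonical datum of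
  `B ×_S U`.
* `exists_univ_push_etale`: if `bcDD D b` is the canonical datum of an étale `U₁ ⟶ B`, then `U₁` represents the sections of
  `D` over `B`-schemes.
* `exists_isUniv_of_local`: SGA 1 IX 4.? — effectivity (in étale schemes) is local on the base for an fpqc covering family
  `q k : B k ⟶ S`, provided the induced descent datum relative to `q` on the local étale models is effective.
-/

set_option autoImplicit false
set_option backward.isDefEq.respectTransparency false
universe w' w u
open CategoryTheory CategoryTheory.Limits AlgebraicGeometry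

namespace Groth.Agent.Lib.Helper4.DescEtLoc

open Desc Groth.Agent.Lib.Helper4.DescGamma Groth.Agent.Lib.Helper4.DescPull Groth.Agent.Lib.Helper4.DescBC
  Groth.Agent.Lib.Helper4.DescEtFF Groth.Agent.Lib.Helper4.DescLocEff

variable {S S' : Scheme.{u}} (g : S' ⟶ S)

/-- The base change of a descent datum relative to `g` along `b : B ⟶ S`. -/
noncomputable abbrev bcDD (D : SchDDFam (fun _ : PUnit.{w + 1} => g)) {B : Scheme.{u}} (b : B ⟶ S) :
    SchDDFam (fun _ : PUnit.{w + 1} => pullback.snd g b) :=
  (pullDDFam (f := fun _ : PUnit.{w + 1} => g) (f' := fun _ : PUnit.{w + 1} => pullback.snd g b)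
    (α := id) (p := b) (p' := fun _ => pullback.fst g b) (fun _ => pullback.condition)).obj D

theorem univSubmersive_bc (hg : SGA1.UnivSubmersive g) {B : Scheme.{u}} (b : B ⟶ S) :
    SGA1.UnivSubmersive (pullback.snd g b) :=
  haveI := Groth.Agent.Lib.helper4.SubmDescent.univSubmersive_isStableUnderBaseChange.{u}
  MorphismProperty.of_isPullback (P := SGA1.UnivSubmersive) (IsPullback.of_hasPullback g b) hg

theorem hasLifts_bc {B : Scheme.{u}} (b : B ⟶ S) :
    HasLifts (fun _ : PUnit.{w + 1} => g) (fun _ : PUnit.{w + 1} => pullback.snd g b) b :=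
  hasLifts_baseChange (fun _ : PUnit.{w + 1} => g) b


/-- `DescPull.res` for the base change along `b`. -/
noncomputable abbrev resB {D : SchDDFam (fun _ : PUnit.{w + 1} => g)} {B : Scheme.{u}} (b : B ⟶ S) {T' : Over B}
    (s : (toDDFam (fun _ : PUnit.{w + 1} => g)).obj (push b T') ⟶ D) :
    (toDDFam (fun _ : PUnit.{w + 1} => pullback.snd g b)).obj T' ⟶ bcDD g D b :=
  res (f := fun _ : PUnit.{w + 1} => g) (f' := fun _ : PUnit.{w + 1} => pullback.snd g b) (α := id) (p := b)
    (p' := fun _ => pullback.fst g b) (fun _ => pullback.condition) s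

theorem resB_injective {D : SchDDFam (fun _ : PUnit.{w + 1} => g)} {B : Scheme.{u}} (b : B ⟶ S) {T' : Over B} :
    Function.Injective (resB g b (D := D) (T' := T')) :=
  res_injective_of_lifts (f := fun _ : PUnit.{w + 1} => g) (f' := fun _ : PUnit.{w + 1} => pullback.snd g b)
    (α := id) (p := b) (p' := fun _ => pullback.fst g b) (fun _ => pullback.condition) (hasLifts_bc g b)

theorem resB_surjective {D : SchDDFam (fun _ : PUnit.{w + 1} => g)} {B : Scheme.{u}} (b : B ⟶ S) {T' : Over B} :
    Function.Surjective (resB g b (D := D) (T' := T')) :=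
  res_surjective_of_lifts (f := fun _ : PUnit.{w + 1} => g) (f' := fun _ : PUnit.{w + 1} => pullback.snd g b)
    (α := id) (p := b) (p' := fun _ => pullback.fst g b) (fun _ => pullback.condition) (hasLifts_bc g b)

theorem resB_natural {D : SchDDFam (fun _ : PUnit.{w + 1} => g)} {B : Scheme.{u}} (b : B ⟶ S) {T' U' : Over B}
    (c : T' ⟶ U') (s : (toDDFam (fun _ : PUnit.{w + 1} => g)).obj (push b U') ⟶ D) :
    resB g b ((toDDFam (fun _ : PUnit.{w + 1} => g)).map (pushMap b c) ≫ s) =
      (toDDFam (fun _ : PUnit.{w + 1} => pullback.snd g b)).map c ≫ resB g b s :=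
  res_natural (f := fun _ : PUnit.{w + 1} => g) (f' := fun _ : PUnit.{w + 1} => pullback.snd g b)
    (α := id) (p := b) (p' := fun _ => pullback.fst g b) (fun _ => pullback.condition) c s

variable (hg : SGA1.UnivSubmersive g) (D : SchDDFam (fun _ : PUnit.{w + 1} => g)) {B : Scheme.{u}} (b : B ⟶ S)

include hg in
theorem exists_univ_push_etale (U₁ : Over B) [Etale U₁.hom]
    (θ₁ : (toDDFam (fun _ : PUnit.{w + 1} => pullback.snd g b)).obj U₁ ≅ bcDD g D b) :
    ∃ e₁ : (toDDFam (fun _ : PUnit.{w + 1} => g)).obj (push b U₁) ⟶ D,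
      ∀ (T' : Over B) (s : (toDDFam (fun _ : PUnit.{w + 1} => g)).obj (push b T') ⟶ D),
        ∃! c : T' ⟶ U₁, (toDDFam (fun _ : PUnit.{w + 1} => g)).map (pushMap b c) ≫ e₁ = s := by
  have hU₁ : IsUniv (bcDD g D b) U₁ θ₁.hom :=
    isUniv_of_iso_etale (pullback.snd g b) (univSubmersive_bc g hg b) (bcDD g D b) U₁ θ₁.hom
  obtain ⟨e₁, -, he₁⟩ := exists_univ_push_of_lifts (f := fun _ : PUnit.{w + 1} => g)
    (f' := fun _ : PUnit.{w + 1} => pullback.snd g b) (α := id) (p := b) (p' := fun _ => pullback.fst g b)
    (fun _ => pullback.condition) (hasLifts_bc g b) D U₁ θ₁.hom hU₁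
  exact ⟨e₁, he₁⟩

include hg in
theorem exists_pull_iso_of_iso_etale (U : Over S) [Etale U.hom]
    (θ : (toDDFam (fun _ : PUnit.{w + 1} => g)).obj U ≅ D) :
    Nonempty ((toDDFam (fun _ : PUnit.{w + 1} => pullback.snd g b)).obj (Over.mk (pullback.fst b U.hom)) ≅
      bcDD g D b) := by
  have hU : IsUniv D U θ.hom := isUniv_of_iso_etale g hg D U θ.hom
  let UB : Over B := Over.mk (pullback.fst b U.hom)
  have hπ : pullback.snd b U.hom ≫ U.hom = (push b UB).hom := pullback.condition.symm
  let π : push b UB ⟶ U := Over.homMk (pullback.snd b U.hom) hπ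
  let σ : (toDDFam (fun _ : PUnit.{w + 1} => g)).obj (push b UB) ⟶ D :=
    (toDDFam (fun _ : PUnit.{w + 1} => g)).map π ≫ θ.hom
  let ε' : (toDDFam (fun _ : PUnit.{w + 1} => pullback.snd g b)).obj UB ⟶ bcDD g D b := resB g b σ
  have huniv : IsUniv (bcDD g D b) UB ε' := by
    intro T' s'
    obtain ⟨s, hs⟩ := resB_surjective g b (D := D) (T' := T') s'
    obtain ⟨c, hc, hcu⟩ := hU (push b T') s
    have hc' : (toDDFam (fun _ : PUnit.{w + 1} => g)).map c ≫ θ.hom = s := hc
    have hcw : c.left ≫ U.hom = T'.hom ≫ b := Over.w c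
    let c'l : T'.left ⟶ pullback b U.hom := pullback.lift T'.hom c.left hcw.symm
    have hc'l : c'l ≫ UB.hom = T'.hom := pullback.lift_fst _ _ _
    let c' : T' ⟶ UB := Over.homMk c'l hc'l
    have hpc : pushMap b c' ≫ π = c := Over.OverMorphism.ext (pullback.lift_snd _ _ _)
    refine ⟨c', ?_, fun c'' hc'' => ?_⟩
    · show (toDDFam (fun _ : PUnit.{w + 1} => pullback.snd g b)).map c' ≫ resB g b σ = s'
      rw [← hs, ← resB_natural]
      congr 1
      show (toDDFam (fun _ : PUnit.{w + 1} => g)).map (pushMap b c') ≫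
        (toDDFam (fun _ : PUnit.{w + 1} => g)).map π ≫ θ.hom = s
      rw [← Category.assoc, ← Functor.map_comp, hpc, hc']
    · have h1 : (toDDFam (fun _ : PUnit.{w + 1} => pullback.snd g b)).map c'' ≫ resB g b σ = s' := hc''
      have h2 : resB g b ((toDDFam (fun _ : PUnit.{w + 1} => g)).map (pushMap b c'') ≫ σ) = resB g b s := by
        rw [resB_natural, hs]; exact h1
      have h3 := resB_injective g b h2
      have h4 : (toDDFam (fun _ : PUnit.{w + 1} => g)).map (pushMap b c'' ≫ π) ≫ θ.hom = s := by
        rw [Functor.map_comp, Category.assoc]; exact h3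
      have h5 : pushMap b c'' ≫ π = c := hcu _ h4
      apply Over.OverMorphism.ext
      apply pullback.hom_ext
      · have : c''.left ≫ pullback.fst b U.hom = T'.hom := Over.w c''
        rw [this]
        exact (pullback.lift_fst _ _ _).symm
      · have : c''.left ≫ pullback.snd b U.hom = c.left := congrArg (fun a => a.left) h5
        rw [this]
        exact (pullback.lift_snd _ _ _).symm
  haveI := isIso_of_isUniv huniv
  exact ⟨asIso ε'⟩

end Groth.Agent.Lib.Helper4.DescEtLoc
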