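import Mathlib
import Groth.Prelude.Def_DescFam
import Groth.Prelude.Def_SGA1
import Groth.Agent.Lib.Helper4.DescEtLoc

/-!
# Universal pairs over a base and further base change (helper4)

`g : S' ⟶ S`, `D` a descent datum relative to `g` (one-member family), `b : B ⟶ S`.
* `IsUnivOver g D b U₁ e₁`: the pair `(U₁, e₁)` with `U₁ : Over B` and `e₁` a section of `D` over `push b U₁` represents the
  sections of `D` over `B`-schemes.
* `isUniv_resB`, `exists_iso_of_isUnivOver`: such a pair gives an isomorphism of the canonical datum of `U₁` with the base change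
  `bcDD g D b` (no hypothesis on `g`).
* `isUnivOver_of_isPullback`: universal pairs pull back along `c : B' ⟶ B`.
* `exists_iso_bc_comp`: if `bcDD g D b` is the canonical datum of an étale `U₁` and `b' = c ≫ b`, then `bcDD g D b'` is the canonical
  datum of `B' ×_B U₁` (for `g` universally submersive).
-/

set_option autoImplicit false
set_option backward.isDefEq.respectTransparency false
universe w u
open CategoryTheory CategoryTheory.Limits AlgebraicGeometry

namespace Groth.Agent.Lib.Helper4.DescBCUniv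

open Desc Groth.Agent.Lib.Helper4.DescGamma Groth.Agent.Lib.Helper4.DescPull Groth.Agent.Lib.Helper4.DescBC
  Groth.Agent.Lib.Helper4.DescEtFF Groth.Agent.Lib.Helper4.DescEtLoc

variable {S S' : Scheme.{u}} (g : S' ⟶ S) (D : SchDDFam (fun _ : PUnit.{w + 1} => g))

/-- `(U₁, e₁)` represents the sections of `D` over `B`-schemes. -/
def IsUnivOver {B : Scheme.{u}} (b : B ⟶ S) (U₁ : Over B)
    (e₁ : (toDDFam (fun _ : PUnit.{w + 1} => g)).obj (push b U₁) ⟶ D) : Prop :=
  ∀ (T' : Over B) (s : (toDDFam (fun _ : PUnit.{w + 1} => g)).obj (push b T') ⟶ D),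
    ∃! c : T' ⟶ U₁, (toDDFam (fun _ : PUnit.{w + 1} => g)).map (pushMap b c) ≫ e₁ = s

variable {g D}

theorem isUniv_resB {B : Scheme.{u}} {b : B ⟶ S} {U₁ : Over B}
    {e₁ : (toDDFam (fun _ : PUnit.{w + 1} => g)).obj (push b U₁) ⟶ D} (h : IsUnivOver g D b U₁ e₁) :
    IsUniv (bcDD g D b) U₁ (resB g b e₁) := by
  intro T' s'
  obtain ⟨s, hs⟩ := resB_surjective g b (D := D) (T' := T') s'
  obtain ⟨c, hc, hcu⟩ := h T' s
  have hc' : (toDDFam (fun _ : PUnit.{w + 1} => g)).map (pushMap b c) ≫ e₁ = s := hc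
  refine ⟨c, ?_, fun c'' hc'' => hcu c'' ?_⟩
  · show (toDDFam (fun _ : PUnit.{w + 1} => pullback.snd g b)).map c ≫ resB g b e₁ = s'
    rw [← resB_natural, hc', hs]
  · show (toDDFam (fun _ : PUnit.{w + 1} => g)).map (pushMap b c'') ≫ e₁ = s
    have h1 : (toDDFam (fun _ : PUnit.{w + 1} => pullback.snd g b)).map c'' ≫ resB g b e₁ = s' := hc''
    apply resB_injective g b
    rw [resB_natural, hs, h1]

theorem isIso_resB_of_isUnivOver {B : Scheme.{u}} {b : B ⟶ S} {U₁ : Over B}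
    {e₁ : (toDDFam (fun _ : PUnit.{w + 1} => g)).obj (push b U₁) ⟶ D} (h : IsUnivOver g D b U₁ e₁) :
    IsIso (resB g b e₁) :=
  isIso_of_isUniv (isUniv_resB h)

theorem exists_iso_of_isUnivOver {B : Scheme.{u}} {b : B ⟶ S} {U₁ : Over B}
    {e₁ : (toDDFam (fun _ : PUnit.{w + 1} => g)).obj (push b U₁) ⟶ D} (h : IsUnivOver g D b U₁ e₁) :
    Nonempty ((toDDFam (fun _ : PUnit.{w + 1} => pullback.snd g b)).obj U₁ ≅ bcDD g D b) := by
  haveI := isIso_resB_of_isUnivOver h
  exact ⟨asIso (resB g b e₁)⟩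

/-- Universal pairs pull back along `c : B' ⟶ B`. -/
theorem isUnivOver_of_isPullback {B B' : Scheme.{u}} {b : B ⟶ S} {U₁ : Over B}
    {e₁ : (toDDFam (fun _ : PUnit.{w + 1} => g)).obj (push b U₁) ⟶ D} (h : IsUnivOver g D b U₁ e₁)
    (c : B' ⟶ B) (b' : B' ⟶ S) (hb' : c ≫ b = b') (U' : Over B') (u : U'.left ⟶ U₁.left)
    (hpb : IsPullback u U'.hom U₁.hom c) (hu : u ≫ (push b U₁).hom = (push b' U').hom) :
    IsUnivOver g D b' U'
      ((toDDFam (fun _ : PUnit.{w + 1} => g)).map (Over.homMk u hu : push b' U' ⟶ push b U₁) ≫ e₁) := by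
  intro T'' s
  -- `T''` as a `B`-scheme
  let T' : Over B := Over.mk (T''.hom ≫ c)
  have hφ : (𝟙 T''.left) ≫ (push b' T'').hom = (push b T').hom := by
    show 𝟙 T''.left ≫ T''.hom ≫ b' = (T''.hom ≫ c) ≫ b
    rw [Category.id_comp, Category.assoc, hb']
  let φ : push b T' ⟶ push b' T'' := Over.homMk (𝟙 T''.left) hφ
  have hψ : (𝟙 T''.left) ≫ (push b T').hom = (push b' T'').hom := by
    show 𝟙 T''.left ≫ (T''.hom ≫ c) ≫ b = T''.hom ≫ b'
    rw [Category.id_comp, Category.assoc, hb']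
  let ψ : push b' T'' ⟶ push b T' := Over.homMk (𝟙 T''.left) hψ
  have hψφ : ψ ≫ φ = 𝟙 _ := Over.OverMorphism.ext (Category.id_comp _)
  obtain ⟨c₀, hc₀, hc₀u⟩ := h T' ((toDDFam (fun _ : PUnit.{w + 1} => g)).map φ ≫ s)
  have hc₀' : (toDDFam (fun _ : PUnit.{w + 1} => g)).map (pushMap b c₀) ≫ e₁ =
      (toDDFam (fun _ : PUnit.{w + 1} => g)).map φ ≫ s := hc₀
  have hc₀w : c₀.left ≫ U₁.hom = T''.hom ≫ c := Over.w c₀
  let c''l : T''.left ⟶ U'.left := hpb.lift c₀.left T''.hom hc₀w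
  have hc''l1 : c''l ≫ u = c₀.left := hpb.lift_fst _ _ _
  have hc''l2 : c''l ≫ U'.hom = T''.hom := hpb.lift_snd _ _ _
  let c'' : T'' ⟶ U' := Over.homMk c''l hc''l2
  refine ⟨c'', ?_, fun c₃ hc₃ => ?_⟩
  · show (toDDFam (fun _ : PUnit.{w + 1} => g)).map (pushMap b' c'') ≫
      (toDDFam (fun _ : PUnit.{w + 1} => g)).map (Over.homMk u hu : push b' U' ⟶ push b U₁) ≫ e₁ = s
    have e1 : pushMap b' c'' ≫ (Over.homMk u hu : push b' U' ⟶ push b U₁) = ψ ≫ pushMap b c₀ := by
      apply Over.OverMorphism.ext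
      show c''l ≫ u = 𝟙 _ ≫ c₀.left
      rw [hc''l1, Category.id_comp]
    rw [← Category.assoc, ← Functor.map_comp, e1, Functor.map_comp, Category.assoc, hc₀', ← Category.assoc,
      ← Functor.map_comp, hψφ, CategoryTheory.Functor.map_id, Category.id_comp]
  · have hc₃' : (toDDFam (fun _ : PUnit.{w + 1} => g)).map (pushMap b' c₃) ≫
        (toDDFam (fun _ : PUnit.{w + 1} => g)).map (Over.homMk u hu : push b' U' ⟶ push b U₁) ≫ e₁ = s := hc₃
    have hc₃w : c₃.left ≫ U'.hom = T''.hom := Over.w c₃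
    have hw : (c₃.left ≫ u) ≫ U₁.hom = T'.hom := by
      show (c₃.left ≫ u) ≫ U₁.hom = T''.hom ≫ c
      rw [Category.assoc, hpb.w, ← Category.assoc, hc₃w]
    let c₀' : T' ⟶ U₁ := Over.homMk (c₃.left ≫ u) hw
    have e2 : pushMap b c₀' = φ ≫ pushMap b' c₃ ≫ (Over.homMk u hu : push b' U' ⟶ push b U₁) := by
      apply Over.OverMorphism.ext
      show c₃.left ≫ u = 𝟙 _ ≫ c₃.left ≫ u
      rw [Category.id_comp]
    have e3 : (toDDFam (fun _ : PUnit.{w + 1} => g)).map (pushMap b c₀') ≫ e₁ =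
        (toDDFam (fun _ : PUnit.{w + 1} => g)).map φ ≫ s := by
      rw [e2, Functor.map_comp, Functor.map_comp, Category.assoc, Category.assoc, hc₃']
    have e4 : c₀' = c₀ := hc₀u c₀' e3
    apply Over.OverMorphism.ext
    apply hpb.hom_ext
    · have : c₃.left ≫ u = c₀.left := congrArg (fun a => a.left) e4
      rw [this]
      exact hc''l1.symm
    · rw [hc₃w]
      exact hc''l2.symm

variable (g D)

/-- Effectivity in étale schemes passes to a further base change. -/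
theorem exists_iso_bc_comp (hg : SGA1.UnivSubmersive g) {B B' : Scheme.{u}} (b : B ⟶ S) (U₁ : Over B) [Etale U₁.hom]
    (θ₁ : (toDDFam (fun _ : PUnit.{w + 1} => pullback.snd g b)).obj U₁ ≅ bcDD g D b)
    (c : B' ⟶ B) (b' : B' ⟶ S) (hb' : c ≫ b = b') :
    Nonempty ((toDDFam (fun _ : PUnit.{w + 1} => pullback.snd g b')).obj (Over.mk (pullback.fst c U₁.hom)) ≅
      bcDD g D b') := by
  obtain ⟨e₁, he₁⟩ := exists_univ_push_etale g hg D b U₁ θ₁
  have hu : pullback.snd c U₁.hom ≫ (push b U₁).hom = (push b' (Over.mk (pullback.fst c U₁.hom))).hom := by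
    show pullback.snd c U₁.hom ≫ U₁.hom ≫ b = pullback.fst c U₁.hom ≫ b'
    rw [← pullback.condition_assoc, hb']
  exact exists_iso_of_isUnivOver (isUnivOver_of_isPullback (e₁ := e₁) he₁ c b' hb' (Over.mk (pullback.fst c U₁.hom))
    (pullback.snd c U₁.hom) (IsPullback.of_hasPullback c U₁.hom).flip hu)

end Groth.Agent.Lib.Helper4.DescBCUniv
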