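import Mathlib
import Groth.Prelude.Def_DescFam
import Groth.Agent.Lib.Helper4.DescLocEff2
import Groth.Agent.Lib.Helper4.DescGlueOpen

/-!
# A descent datum which is a disjoint union of effective open sub-data is effective (helper4)

`f i : X i ⟶ S` ANY family, `D` a descent datum relative to `f`, `ε a : toDDFam (U a) ⟶ D` a family of componentwise open
immersions whose ranges are pairwise disjoint and cover the members of `D`.  Then `D` is isomorphic to the canonical datum of
the coproduct `∐ U a` (`exists_iso_sigma`).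
-/

set_option autoImplicit false
set_option linter.style.haveILetI false
set_option backward.isDefEq.respectTransparency false
universe w u
open CategoryTheory CategoryTheory.Limits AlgebraicGeometry

namespace Groth.Agent.Lib.Helper4.DescCoprod

open Desc Groth.Agent.Lib.Helper4.DescGamma Groth.Agent.Lib.Helper4.DescRestrict
  Groth.Agent.Lib.Helper4.DescLocEff

variable {S : Scheme.{u}} {ι : Type w} {X : ι → Scheme.{u}} {f : ∀ i, X i ⟶ S} {D : SchDDFam f}
  {A : Type u} (U : A → Over S)

/-- The coproduct of the `U a` over `S`. -/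
noncomputable def Uc : Over S := Over.mk (Sigma.desc (fun a => (U a).hom))

/-- The coprojections over `S`. -/
noncomputable def inc (a : A) : U a ⟶ Uc U :=
  Over.homMk (Sigma.ι (fun a => (U a).left) a) (Sigma.ι_desc _ _)

theorem inc_left (a : A) : (inc U a).left = Sigma.ι (fun a => (U a).left) a := rfl

theorem etale_Uc (h : ∀ a, Etale (U a).hom) : Etale (Uc U).hom :=
  IsZariskiLocalAtSource.sigmaDesc (P := @Etale) h

theorem cover_mem :
    Presieve.ofArrows (fun a => (U a).left) (fun a => (inc U a).left) ∈ Scheme.fpqcPrecoverage (Uc U).left :=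
  Scheme.zariskiPrecoverage_le_fpqcPrecoverage _ (sigmaOpenCover (fun a => (U a).left)).mem₀

theorem hom_ext_of_isEmpty {W Z : Scheme.{u}} [IsEmpty W] (m₁ m₂ : W ⟶ Z) : m₁ = m₂ :=
  (isInitialOfIsEmpty (X := W)).hom_ext _ _

variable (ε : ∀ a, (toDDFam f).obj (U a) ⟶ D)

theorem exists_glued : ∃ s₀ : (toDDFam f).obj (Uc U) ⟶ D, ∀ a, (toDDFam f).map (inc U a) ≫ s₀ = ε a := by
  classical
  refine glue_sections (inc U) (cover_mem U) ε ?_
  intro W a b x y hxy i z ha hb
  by_cases hab : a = b
  · subst hab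
    have hmono : Mono (Sigma.ι (fun a => (U a).left) a) := inferInstance
    have e : x = y := (cancel_mono (Sigma.ι (fun a => (U a).left) a)).mp hxy
    subst e
    rfl
  · haveI : IsEmpty W := isEmpty_of_commSq_sigmaι_of_ne (g := fun a => (U a).left) ⟨hxy⟩ hab
    exact hom_ext_of_isEmpty _ _

section iso

variable {U ε}
variable (s₀ : (toDDFam f).obj (Uc U) ⟶ D) (hs₀ : ∀ a, (toDDFam f).map (inc U a) ≫ s₀ = ε a)

/-- The base change of the coprojections. -/
noncomputable def μ (a : A) (i : ι) : pullback (f i) (U a).hom ⟶ pullback (f i) (Uc U).hom :=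
  (((toDDFam f).map (inc U a)).hom i).left

theorem isPullback_μ (a : A) (i : ι) :
    IsPullback (μ (U := U) a i) (pullback.snd (f i) (U a).hom) (pullback.snd (f i) (Uc U).hom) (inc U a).left :=
  isPullback_map_snd (f i) (U a).hom (Uc U).hom (inc U a).left (Over.w (inc U a))

instance (a : A) (i : ι) : IsOpenImmersion (μ (U := U) (f := f) a i) :=
  MorphismProperty.of_isPullback (P := @IsOpenImmersion) (isPullback_μ a i).flip
    (inferInstanceAs (IsOpenImmersion (Sigma.ι (fun a => (U a).left) a)))

theorem exists_μ_eq (i : ι) (z : ↥(pullback (f i) (Uc U).hom)) :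
    ∃ (a : A) (y : ↥(pullback (f i) (U a).hom)), μ (U := U) a i y = z := by
  obtain ⟨a, x, hx⟩ := (sigmaOpenCover (fun a => (U a).left)).exists_eq ((pullback.snd (f i) (Uc U).hom) z)
  obtain ⟨y, hy, -⟩ := Scheme.exists_preimage_of_isPullback (isPullback_μ (f := f) a i) z x hx.symm
  exact ⟨a, y, hy⟩

/-- The open cover of `X i ×_S ∐ U` by the `X i ×_S U a`. -/
noncomputable def cov (i : ι) : (pullback (f i) (Uc U).hom).OpenCover where
  I₀ := A
  X a := pullback (f i) (U a).hom
  f a := μ (U := U) a i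
  mem₀ := by
    rw [Scheme.presieve₀_mem_precoverage_iff]
    refine ⟨fun z => ?_, fun a => inferInstanceAs (IsOpenImmersion (μ (U := U) a i))⟩
    obtain ⟨a, y, hy⟩ := exists_μ_eq i z
    exact ⟨a, y, hy⟩

include hs₀ in
theorem μ_comp (a : A) (i : ι) : μ (U := U) a i ≫ (s₀.hom i).left = ((ε a).hom i).left :=
  congrArg (fun s : (toDDFam f).obj (U a) ⟶ D => (s.hom i).left) (hs₀ a)

include hs₀ in
theorem isIso_of_disjoint_cover (hopen : ∀ a i, IsOpenImmersion ((ε a).hom i).left)
    (hdisj : ∀ a b i, a ≠ b → Disjoint (Set.range ((ε a).hom i).left) (Set.range ((ε b).hom i).left))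
    (hcov : ∀ i (v : (D.obj i).left), ∃ a, v ∈ Set.range ((ε a).hom i).left) : IsIso s₀ := by
  refine isIso_of_isIso_left _ (fun i => ?_)
  have hpt : ∀ (a : A) (y : ↥(pullback (f i) (U a).hom)),
      (s₀.hom i).left (μ (U := U) a i y) = ((ε a).hom i).left y := fun a y =>
    congr($(μ_comp s₀ hs₀ a i) y)
  have hinj : Function.Injective (s₀.hom i).left := by
    intro z z' hzz
    obtain ⟨a, y, rfl⟩ := exists_μ_eq i z
    obtain ⟨b, y', rfl⟩ := exists_μ_eq i z'
    rw [hpt, hpt] at hzz
    by_cases hab : a = b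
    · subst hab
      haveI := hopen a i
      have : y = y' := ((ε a).hom i).left.isOpenEmbedding.injective hzz
      rw [this]
    · exact absurd hzz (Set.disjoint_iff_forall_ne.mp (hdisj a b i hab) ⟨y, rfl⟩ ⟨y', rfl⟩)
  have hoi : IsOpenImmersion (s₀.hom i).left := by
    refine Groth.Agent.Lib.Helper4.DescGlueOpen.isOpenImmersion_of_openCover _ (cov (U := U) i) (fun a => ?_) hinj
    show IsOpenImmersion (μ (U := U) a i ≫ (s₀.hom i).left)
    rw [μ_comp s₀ hs₀]
    exact hopen a i
  rw [isIso_iff_isOpenImmersion_and_surjective]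
  refine ⟨hoi, ⟨fun v => ?_⟩⟩
  obtain ⟨a, y, hy⟩ := hcov i v
  exact ⟨μ (U := U) a i y, by rw [hpt, hy]⟩

end iso

/-- A descent datum which is the disjoint union of effective open sub-data is effective. -/
theorem exists_iso_sigma (hopen : ∀ a i, IsOpenImmersion ((ε a).hom i).left)
    (hdisj : ∀ a b i, a ≠ b → Disjoint (Set.range ((ε a).hom i).left) (Set.range ((ε b).hom i).left))
    (hcov : ∀ i (v : (D.obj i).left), ∃ a, v ∈ Set.range ((ε a).hom i).left) :
    Nonempty ((toDDFam f).obj (Uc U) ≅ D) := by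
  obtain ⟨s₀, hs₀⟩ := exists_glued U ε
  haveI := isIso_of_disjoint_cover s₀ hs₀ hopen hdisj hcov
  exact ⟨asIso s₀⟩

end Groth.Agent.Lib.Helper4.DescCoprod
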