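import Mathlib
import Groth.Prelude.Def_DescFam
import Groth.Agent.Lib.Helper4.DescCoprod

/-!
# A descent datum which is the disjoint union of two effective open sub-data is effective (helper4)
-/

set_option autoImplicit false
set_option linter.style.haveILetI false
set_option backward.isDefEq.respectTransparency false
universe w u
open CategoryTheory CategoryTheory.Limits AlgebraicGeometry

namespace Groth.Agent.Lib.Helper4.DescCoprod2

open Desc Groth.Agent.Lib.Helper4.DescGamma Groth.Agent.Lib.Helper4.DescCoprod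

variable {S : Scheme.{u}} {ι : Type w} {X : ι → Scheme.{u}} {f : ∀ i, X i ⟶ S} {D : SchDDFam f}

/-- The two-member family. -/
def twoU (U₁ U₂ : Over S) : ULift.{u} Bool → Over S
  | ⟨true⟩ => U₁
  | ⟨false⟩ => U₂

/-- The two-member family of sections. -/
def twoε {U₁ U₂ : Over S} (ε₁ : (toDDFam f).obj U₁ ⟶ D) (ε₂ : (toDDFam f).obj U₂ ⟶ D) :
    ∀ a, (toDDFam f).obj (twoU U₁ U₂ a) ⟶ D
  | ⟨true⟩ => ε₁
  | ⟨false⟩ => ε₂

theorem exists_iso_of_two {U₁ U₂ : Over S} (ε₁ : (toDDFam f).obj U₁ ⟶ D) (ε₂ : (toDDFam f).obj U₂ ⟶ D)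
    (hopen₁ : ∀ i, IsOpenImmersion (ε₁.hom i).left) (hopen₂ : ∀ i, IsOpenImmersion (ε₂.hom i).left)
    (hdisj : ∀ i, Disjoint (Set.range (ε₁.hom i).left) (Set.range (ε₂.hom i).left))
    (hcov : ∀ i (v : (D.obj i).left), v ∈ Set.range (ε₁.hom i).left ∨ v ∈ Set.range (ε₂.hom i).left) :
    ∃ U : Over S, (Etale U₁.hom → Etale U₂.hom → Etale U.hom) ∧ Nonempty ((toDDFam f).obj U ≅ D) := by
  refine ⟨Uc (twoU U₁ U₂), fun h₁ h₂ => etale_Uc _ ?_, exists_iso_sigma (U := twoU U₁ U₂) (ε := twoε ε₁ ε₂) ?_ ?_ ?_⟩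
  · rintro ⟨_ | _⟩
    · exact h₂
    · exact h₁
  · rintro ⟨_ | _⟩ i
    · exact hopen₂ i
    · exact hopen₁ i
  · rintro ⟨_ | _⟩ ⟨_ | _⟩ i hne
    · exact absurd rfl hne
    · exact (hdisj i).symm
    · exact hdisj i
    · exact absurd rfl hne
  · intro i v
    rcases hcov i v with h | h
    · exact ⟨⟨true⟩, h⟩
    · exact ⟨⟨false⟩, h⟩

end Groth.Agent.Lib.Helper4.DescCoprod2
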