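import Mathlib
import Groth.Prelude.Def_DescFam
import Groth.Prelude.Def_MoreMor
import Groth.Agent.Lib.Helper4.DescQAffMain
import Groth.Agent.Lib.Helper4.AffineDescent
import Groth.Agent.S1402
import Groth.Agent.Lib.Helper12.QuasiAffine2

/-!
# Effective fpqc descent for quasi-compact separated étale (more generally locally quasi-finite) morphisms (helper4)

* `exists_iso_toDD_of_locallyQuasiFinite`: descent data relative to a flat, surjective, quasi-compact morphism whose member
  is quasi-compact, separated, locally of finite type and locally quasi-finite are effective (they are quasi-affine).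
* `prop_of_iso_toDD`: a property that descends along fpqc morphisms passes from the member of a descent datum to the
  descended scheme.
* `exists_iso_toDD_etale`: the descended scheme of a quasi-compact separated étale datum is quasi-compact separated étale.
-/

set_option autoImplicit false
set_option backward.isDefEq.respectTransparency false
set_option linter.style.haveILetI false
universe u
open CategoryTheory CategoryTheory.Limits AlgebraicGeometry

namespace Groth.Agent.Lib.Helper4.DescEtale

open Desc

theorem locallyQuasiFinite_of_etale {X Y : Scheme.{u}} (f : X ⟶ Y) [Etale f] : LocallyQuasiFinite f := by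
  have h : Etale f := inferInstance
  rw [HasRingHomProperty.eq_affineLocally @Etale] at h
  rw [HasRingHomProperty.eq_affineLocally @LocallyQuasiFinite]
  refine affineLocally_le ?_ f h
  intro R S _ _ f hf
  algebraize [f]
  have : Algebra.Etale R S := hf
  show Algebra.QuasiFinite R S
  infer_instance

theorem quasiCompact_descendsAlong_fpqc :
    MorphismProperty.DescendsAlong @QuasiCompact
      (@Surjective ⊓ @Flat ⊓ @QuasiCompact : MorphismProperty Scheme.{u}) :=
  MorphismProperty.DescendsAlong.of_le
    (Q := (@Surjective ⊓ @QuasiCompact : MorphismProperty Scheme.{u}))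
    (fun _ _ _ h => ⟨h.1.1, h.2⟩)

theorem isSeparated_descendsAlong_fpqc :
    MorphismProperty.DescendsAlong @IsSeparated
      (@Surjective ⊓ @Flat ⊓ @QuasiCompact : MorphismProperty Scheme.{u}) := by
  rw [IsSeparated.isSeparated_eq_diagonal_isClosedImmersion]
  infer_instance

variable {S' S : Scheme.{u}} (g : S' ⟶ S) [Flat g] [Surjective g] [QuasiCompact g]

/-- Descent data whose member is quasi-compact, separated, locally of finite type and locally quasi-finite are effective. -/
theorem exists_iso_toDD_of_locallyQuasiFinite (D : SchDD g) [QuasiCompact D.obj.hom] [IsSeparated D.obj.hom]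
    [LocallyOfFiniteType D.obj.hom] [LocallyQuasiFinite D.obj.hom] :
    ∃ U : Over S, Nonempty ((toDD g).obj U ≅ D) := by
  have hqa : Mor2.IsQuasiAffine D.obj.hom :=
    Groth.Agent.Lib.helper12.qaHom_of_indQAHom_of_qc D.obj.hom (Groth.Agent.S1402.result D.obj.hom)
  exact DescQAffMain.exists_iso_toDD g D hqa

/-- A property which descends along fpqc morphisms passes from the member of a descent datum to the descended scheme. -/
theorem prop_of_iso_toDD (P : MorphismProperty Scheme.{u}) [P.RespectsIso]
    [P.DescendsAlong (@Surjective ⊓ @Flat ⊓ @QuasiCompact)] (D : SchDD g) (U : Over S)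
    (θ : (toDD g).obj U ≅ D) (hD : P D.obj.hom) : P U.hom := by
  have hiso : IsIso θ.hom.hom.left := by
    refine ⟨θ.inv.hom.left, ?_, ?_⟩
    · rw [← Over.comp_left, ← SchDD.comp_hom, θ.hom_inv_id]; rfl
    · rw [← Over.comp_left, ← SchDD.comp_hom, θ.inv_hom_id]; rfl
  have hw : θ.hom.hom.left ≫ D.obj.hom = pullback.fst g U.hom := Over.w θ.hom.hom
  have hfst : P (pullback.fst g U.hom) := by
    rw [← hw]
    exact (P.cancel_left_of_respectsIso _ _).mpr hD
  exact MorphismProperty.of_pullback_fst_of_descendsAlong (P := P)
    (Q := (@Surjective ⊓ @Flat ⊓ @QuasiCompact : MorphismProperty Scheme.{u})) (f := g) (g := U.hom)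
    ⟨⟨inferInstance, inferInstance⟩, inferInstance⟩ hfst

/-- **fpqc descent of quasi-compact separated étale schemes.** -/
theorem exists_iso_toDD_etale (D : SchDD g) [QuasiCompact D.obj.hom] [IsSeparated D.obj.hom] [Etale D.obj.hom] :
    ∃ U : Over S, QuasiCompact U.hom ∧ IsSeparated U.hom ∧ Etale U.hom ∧ Nonempty ((toDD g).obj U ≅ D) := by
  haveI : LocallyQuasiFinite D.obj.hom := locallyQuasiFinite_of_etale _
  obtain ⟨U, ⟨θ⟩⟩ := exists_iso_toDD_of_locallyQuasiFinite g D
  haveI := quasiCompact_descendsAlong_fpqc.{u}
  haveI := isSeparated_descendsAlong_fpqc.{u}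
  exact ⟨U, prop_of_iso_toDD g @QuasiCompact D U θ inferInstance,
    prop_of_iso_toDD g @IsSeparated D U θ inferInstance,
    prop_of_iso_toDD g @Etale D U θ inferInstance, ⟨θ⟩⟩

end Groth.Agent.Lib.Helper4.DescEtale
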