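import Mathlib

/-!
# Base change of a cofiltered system of `S`-schemes along `g : S' ⟶ S` (helper4)

For a diagram `DT : J ⥤ Scheme` over `S` (structure maps `τ : DT ⟶ const S`) and `g : S' ⟶ S`:
* `pbDiag g DT τ : J ⥤ Scheme`, `j ↦ S' ×_S DT j` (the chosen `pullback g (τ.app j)`), with structure maps `pbτ` to `S`;
* `pbCone g DT τ cT τL hL`: the cone with vertex `S' ×_S cT.pt` over a cone `cT` of `DT`; `isLimitPbCone`: it is a limit cone if
  `cT` is and `J` is cofiltered;
* transition maps stay affine, stages stay quasi-compact and quasi-separated if `g` is.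
-/

set_option autoImplicit false
set_option backward.isDefEq.respectTransparency false
universe u
open CategoryTheory CategoryTheory.Limits AlgebraicGeometry

namespace Groth.Agent.Lib.Helper4.DescLimDiag

variable {S S' : Scheme.{u}} (g : S' ⟶ S) {J : Type u} [SmallCategory J] (DT : J ⥤ Scheme.{u})
  (τ : DT ⟶ (Functor.const J).obj S)

omit g in
@[reassoc]
theorem τ_w {j j' : J} (a : j ⟶ j') : DT.map a ≫ τ.app j' = τ.app j := by
  have := τ.naturality a
  simpa using this

/-- The diagram `j ↦ S' ×_S DT j`. -/
noncomputable def pbDiag : J ⥤ Scheme.{u} where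
  obj j := pullback g (τ.app j)
  map {j j'} a := pullback.map g (τ.app j) g (τ.app j') (𝟙 _) (DT.map a) (𝟙 _) (by simp)
    (by rw [Category.comp_id, τ_w])
  map_id j := by apply pullback.hom_ext <;> simp
  map_comp a a' := by apply pullback.hom_ext <;> simp

@[simp] theorem pbDiag_obj (j : J) : (pbDiag g DT τ).obj j = pullback g (τ.app j) := rfl

@[reassoc (attr := simp)]
theorem pbDiag_map_fst {j j' : J} (a : j ⟶ j') :
    (pbDiag g DT τ).map a ≫ pullback.fst g (τ.app j') = pullback.fst g (τ.app j) := by
  simp [pbDiag]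

@[reassoc (attr := simp)]
theorem pbDiag_map_snd {j j' : J} (a : j ⟶ j') :
    (pbDiag g DT τ).map a ≫ pullback.snd g (τ.app j') = pullback.snd g (τ.app j) ≫ DT.map a := by
  simp [pbDiag]

/-- The structure maps of `pbDiag` to `S`. -/
noncomputable def pbτ : pbDiag g DT τ ⟶ (Functor.const J).obj S where
  app j := pullback.snd g (τ.app j) ≫ τ.app j
  naturality j j' a := by
    simp only [Functor.const_obj_obj, Functor.const_obj_map, Category.comp_id]
    rw [pbDiag_map_snd_assoc, τ_w]

@[simp] theorem pbτ_app (j : J) : (pbτ g DT τ).app j = pullback.snd g (τ.app j) ≫ τ.app j := rfl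

/-- The structure maps of `pbDiag` to `S'`. -/
noncomputable def pbFst : pbDiag g DT τ ⟶ (Functor.const J).obj S' where
  app j := pullback.fst g (τ.app j)
  naturality j j' a := by
    simp only [Functor.const_obj_obj, Functor.const_obj_map, Category.comp_id]
    exact pbDiag_map_fst g DT τ a

@[simp] theorem pbFst_app (j : J) : (pbFst g DT τ).app j = pullback.fst g (τ.app j) := rfl

/-- The projections of `pbDiag` to `DT`. -/
noncomputable def pbSnd : pbDiag g DT τ ⟶ DT where
  app j := pullback.snd g (τ.app j)
  naturality j j' a := pbDiag_map_snd g DT τ a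

@[simp] theorem pbSnd_app (j : J) : (pbSnd g DT τ).app j = pullback.snd g (τ.app j) := rfl

variable (cT : Cone DT) (τL : cT.pt ⟶ S) (hL : ∀ j, cT.π.app j ≫ τ.app j = τL)

/-- The cone over `pbDiag` with vertex `S' ×_S cT.pt`. -/
noncomputable def pbCone : Cone (pbDiag g DT τ) where
  pt := pullback g τL
  π :=
  { app j := pullback.map g τL g (τ.app j) (𝟙 _) (cT.π.app j) (𝟙 _) (by simp)
      (by rw [Category.comp_id, hL])
    naturality j j' a := by
      apply pullback.hom_ext
      · simp
      · simp only [Functor.const_obj_obj, Functor.const_obj_map, Category.id_comp, Category.assoc,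
          pbDiag_map_snd, pullback.lift_snd, pullback.lift_snd_assoc, pullback.map]
        rw [cT.w] }

@[simp] theorem pbCone_pt : (pbCone g DT τ cT τL hL).pt = pullback g τL := rfl

@[reassoc (attr := simp)]
theorem pbCone_π_fst (j : J) :
    (pbCone g DT τ cT τL hL).π.app j ≫ pullback.fst g (τ.app j) = pullback.fst g τL := by
  simp [pbCone]

@[reassoc (attr := simp)]
theorem pbCone_π_snd (j : J) :
    (pbCone g DT τ cT τL hL).π.app j ≫ pullback.snd g (τ.app j) = pullback.snd g τL ≫ cT.π.app j := by
  simp [pbCone]

/-- `S' ×_S lim DT = lim (S' ×_S DT)` for a cofiltered system. -/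
noncomputable def isLimitPbCone [IsCofiltered J] (hcT : IsLimit cT) : IsLimit (pbCone g DT τ cT τL hL) := by
  classical
  have j₀ : J := (IsCofiltered.nonempty (C := J)).some
  -- the `S'`-component of a cone does not depend on the index
  have hfst : ∀ (s : Cone (pbDiag g DT τ)) (j j' : J),
      s.π.app j ≫ pullback.fst g (τ.app j) = s.π.app j' ≫ pullback.fst g (τ.app j') := by
    intro s j j'
    have e1 := s.w (IsCofiltered.minToLeft j j')
    have e2 := s.w (IsCofiltered.minToRight j j')
    rw [← e1, ← e2, Category.assoc, Category.assoc, pbDiag_map_fst, pbDiag_map_fst]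
  let tc : ∀ s : Cone (pbDiag g DT τ), Cone DT := fun s =>
    { pt := s.pt
      π :=
      { app j := s.π.app j ≫ pullback.snd g (τ.app j)
        naturality j j' a := by
          simp only [Functor.const_obj_obj, Functor.const_obj_map, Category.id_comp, Category.assoc]
          rw [← pbDiag_map_snd, ← Category.assoc, s.w] } }
  have hcond : ∀ s : Cone (pbDiag g DT τ),
      (s.π.app j₀ ≫ pullback.fst g (τ.app j₀)) ≫ g = hcT.lift (tc s) ≫ τL := by
    intro s
    rw [← hL j₀, ← Category.assoc, hcT.fac]
    show _ = (s.π.app j₀ ≫ pullback.snd g (τ.app j₀)) ≫ τ.app j₀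
    rw [Category.assoc, Category.assoc, pullback.condition]
  refine
  { lift := fun s => pullback.lift (s.π.app j₀ ≫ pullback.fst g (τ.app j₀)) (hcT.lift (tc s)) (hcond s)
    fac := fun s j => ?_
    uniq := fun s m hm => ?_ }
  · apply pullback.hom_ext
    · rw [Category.assoc, pbCone_π_fst, pullback.lift_fst]
      exact hfst s j₀ j
    · rw [Category.assoc, pbCone_π_snd, pullback.lift_snd_assoc, hcT.fac]
  · apply pullback.hom_ext
    · rw [pullback.lift_fst, ← hm j₀, Category.assoc, pbCone_π_fst]
    · rw [pullback.lift_snd]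
      apply hcT.uniq (tc s)
      intro j
      show (m ≫ pullback.snd g τL) ≫ cT.π.app j = s.π.app j ≫ pullback.snd g (τ.app j)
      rw [← hm j, Category.assoc, Category.assoc, pbCone_π_snd]

theorem isAffineHom_pbDiag_map [hD : ∀ {j j' : J} (a : j ⟶ j'), IsAffineHom (DT.map a)] {j j' : J} (a : j ⟶ j') :
    IsAffineHom ((pbDiag g DT τ).map a) :=
  MorphismProperty.pullbackMap (P := @IsAffineHom) (inferInstance : IsAffineHom (𝟙 S')) (hD a)
    (Category.id_comp g).symm (τ_w DT τ a).symm

theorem compactSpace_pbDiag_obj [QuasiCompact g] (j : J) [CompactSpace (DT.obj j)] :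
    CompactSpace ((pbDiag g DT τ).obj j) :=
  QuasiCompact.compactSpace_of_compactSpace (pullback.snd g (τ.app j))

theorem quasiSeparatedSpace_pbDiag_obj [QuasiSeparated g] (j : J) [QuasiSeparatedSpace (DT.obj j)] :
    QuasiSeparatedSpace ((pbDiag g DT τ).obj j) :=
  quasiSeparatedSpace_of_quasiSeparated (pullback.snd g (τ.app j))

end Groth.Agent.Lib.Helper4.DescLimDiag
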