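import Mathlib
import Groth.Prelude.Def_DescFam
import Groth.Agent.Lib.Helper4.DescGamma
import Groth.Agent.Lib.Helper4.DescLimDiag

/-!
# Sections of a descent datum over a cofiltered limit come from a finite stage (helper4)

`g : S' ⟶ S` quasi-compact and quasi-separated, `D` a descent datum relative to `g` (one-member family) whose underlying `S'`-scheme
is locally of finite presentation over `S'`.
* `hφ_of_univ`: the compatibility of a morphism `S' ×_S T ⟶ D.obj` with the gluing bijections may be checked at the universal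
  point `S' ×_S (S' ×_S T)`.
* `exists_section_of_limit`: for a cofiltered system `DT` of qcqs `S`-schemes with affine transition maps and limit `cT`, every
  section of `D` over `cT.pt` is the restriction of a section over some `DT.obj j`.
-/

set_option autoImplicit false
set_option backward.isDefEq.respectTransparency false
universe w u
open CategoryTheory CategoryTheory.Limits AlgebraicGeometry

namespace Groth.Agent.Lib.Helper4.DescLimSec

open Desc Groth.Agent.Lib.Helper4.DescGamma Groth.Agent.Lib.Helper4.DescLimDiag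

variable {S S' : Scheme.{u}} (g : S' ⟶ S) (D : SchDDFam (fun _ : PUnit.{w + 1} => g))

section univ

variable {T₀ : Scheme.{u}} (τ₀ : T₀ ⟶ S) (m : pullback g τ₀ ⟶ (D.obj PUnit.unit).left)
  (hm : m ≫ (D.obj PUnit.unit).hom = pullback.fst g τ₀)

omit D in
theorem cond0 : pullback.fst g (pullback.snd g τ₀ ≫ τ₀) ≫ g =
    (pullback.snd g (pullback.snd g τ₀ ≫ τ₀) ≫ pullback.snd g τ₀) ≫ τ₀ := by
  rw [pullback.condition, Category.assoc]

omit D in
theorem cond1 : (pullback.snd g (pullback.snd g τ₀ ≫ τ₀) ≫ pullback.fst g τ₀) ≫ g =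
    (pullback.snd g (pullback.snd g τ₀ ≫ τ₀) ≫ pullback.snd g τ₀) ≫ τ₀ := by
  rw [Category.assoc, pullback.condition, Category.assoc]

include hm in
/-- The compatibility with the gluing bijections follows from the compatibility at the universal point. -/
theorem hφ_of_univ
    (hE : ph D (pullback.fst g (pullback.snd g τ₀ ≫ τ₀))
        (pullback.snd g (pullback.snd g τ₀ ≫ τ₀) ≫ pullback.fst g τ₀) ((cond0 g τ₀).trans (cond1 g τ₀).symm)
        (pullback.lift (pullback.fst g (pullback.snd g τ₀ ≫ τ₀))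
          (pullback.snd g (pullback.snd g τ₀ ≫ τ₀) ≫ pullback.snd g τ₀) (cond0 g τ₀) ≫ m)
        (by rw [Category.assoc, hm, pullback.lift_fst]) =
      pullback.snd g (pullback.snd g τ₀ ≫ τ₀) ≫ m)
    {W : Scheme.{u}} (x₀ x₁ : W ⟶ S') (t : W ⟶ T₀) (h₀ : x₀ ≫ g = t ≫ τ₀) (h₁ : x₁ ≫ g = t ≫ τ₀) :
    ph D x₀ x₁ (h₀.trans h₁.symm) (pullback.lift x₀ t h₀ ≫ m) (by rw [Category.assoc, hm, pullback.lift_fst]) =
      pullback.lift x₁ t h₁ ≫ m := by
  have hq : x₀ ≫ g = pullback.lift x₁ t h₁ ≫ pullback.snd g τ₀ ≫ τ₀ := by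
    rw [pullback.lift_snd_assoc]; exact h₀
  obtain ⟨q, hqdef⟩ : ∃ q : W ⟶ pullback g (pullback.snd g τ₀ ≫ τ₀),
      q = pullback.lift x₀ (pullback.lift x₁ t h₁) hq := ⟨_, rfl⟩
  have hq0 : q ≫ pullback.fst g (pullback.snd g τ₀ ≫ τ₀) = x₀ := by rw [hqdef, pullback.lift_fst]
  have hq1 : q ≫ pullback.snd g (pullback.snd g τ₀ ≫ τ₀) = pullback.lift x₁ t h₁ := by
    rw [hqdef, pullback.lift_snd]
  have hq1' : q ≫ pullback.snd g (pullback.snd g τ₀ ≫ τ₀) ≫ pullback.fst g τ₀ = x₁ := by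
    rw [← Category.assoc, hq1, pullback.lift_fst]
  have hql : q ≫ pullback.lift (pullback.fst g (pullback.snd g τ₀ ≫ τ₀))
      (pullback.snd g (pullback.snd g τ₀ ≫ τ₀) ≫ pullback.snd g τ₀) (cond0 g τ₀) ≫ m =
        pullback.lift x₀ t h₀ ≫ m := by
    rw [← Category.assoc]
    congr 1
    apply pullback.hom_ext
    · rw [Category.assoc, pullback.lift_fst, pullback.lift_fst, hq0]
    · rw [Category.assoc, pullback.lift_snd, pullback.lift_snd, ← Category.assoc, hq1, pullback.lift_snd]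
  have h2 : q ≫ ph D (pullback.fst g (pullback.snd g τ₀ ≫ τ₀))
        (pullback.snd g (pullback.snd g τ₀ ≫ τ₀) ≫ pullback.fst g τ₀) ((cond0 g τ₀).trans (cond1 g τ₀).symm)
        (pullback.lift (pullback.fst g (pullback.snd g τ₀ ≫ τ₀))
          (pullback.snd g (pullback.snd g τ₀ ≫ τ₀) ≫ pullback.snd g τ₀) (cond0 g τ₀) ≫ m)
        (by rw [Category.assoc, hm, pullback.lift_fst]) =
      q ≫ pullback.snd g (pullback.snd g τ₀ ≫ τ₀) ≫ m := by rw [hE]
  rw [comp_ph] at h2
  refine (ph_congr D _ _ hq0.symm hq1'.symm hql.symm).trans (h2.trans ?_)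
  rw [← Category.assoc, hq1]

end univ

section lim

variable [QuasiCompact g] [QuasiSeparated g] [LocallyOfFinitePresentation (D.obj PUnit.unit).hom]
  {J : Type u} [SmallCategory J] [IsCofiltered J] (DT : J ⥤ Scheme.{u}) (τ : DT ⟶ (Functor.const J).obj S)
  [hDT : ∀ {j j' : J} (a : j ⟶ j'), IsAffineHom (DT.map a)] [∀ j, CompactSpace (DT.obj j)]
  [∀ j, QuasiSeparatedSpace (DT.obj j)]
  (cT : Cone DT) (hcT : IsLimit cT) (τL : cT.pt ⟶ S) (hL : ∀ j, cT.π.app j ≫ τ.app j = τL)

include hcT in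
/-- A section of `D` over the limit of a cofiltered system of qcqs `S`-schemes with affine transition maps is the restriction
of a section over some stage. -/
theorem exists_section_of_limit (e : (toDDFam (fun _ : PUnit.{w + 1} => g)).obj (Over.mk τL) ⟶ D) :
    ∃ (j : J) (ej : (toDDFam (fun _ : PUnit.{w + 1} => g)).obj (Over.mk (τ.app j)) ⟶ D),
      (toDDFam (fun _ : PUnit.{w + 1} => g)).map
        (Over.homMk (cT.π.app j) (hL j) : Over.mk τL ⟶ Over.mk (τ.app j)) ≫ ej = e := by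
  -- the system `S' ×_S DT`
  let P := pbDiag g DT τ
  let cP := pbCone g DT τ cT τL hL
  have hcP : IsLimit cP := isLimitPbCone g DT τ cT τL hL hcT
  haveI hPaff : ∀ {j j' : J} (a : j ⟶ j'), IsAffineHom (P.map a) := fun a => isAffineHom_pbDiag_map g DT τ a
  haveI hPc : ∀ j, CompactSpace (P.obj j) := fun j => compactSpace_pbDiag_obj g DT τ j
  haveI hPs : ∀ j, QuasiSeparatedSpace (P.obj j) := fun j => quasiSeparatedSpace_pbDiag_obj g DT τ j
  -- the underlying morphism at the limit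
  obtain ⟨mL, hmLdef⟩ : ∃ mL : pullback g τL ⟶ (D.obj PUnit.unit).left, mL = (e.hom PUnit.unit).left := ⟨_, rfl⟩
  have hmL : mL ≫ (D.obj PUnit.unit).hom = pullback.fst g τL := by
    rw [hmLdef]; exact hom_left_hom e PUnit.unit
  have ha : cP.π ≫ pbFst g DT τ = (Functor.const J).map (mL ≫ (D.obj PUnit.unit).hom) := by
    ext j : 2
    simp only [NatTrans.comp_app, pbFst_app, Functor.const_map_app]
    rw [hmL]
    exact pbCone_π_fst g DT τ cT τL hL j
  obtain ⟨j, mj₀, hmj1₀, hmj2₀⟩ := Scheme.exists_π_app_comp_eq_of_locallyOfFinitePresentation P (pbFst g DT τ)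
    (D.obj PUnit.unit).hom cP hcP mL ha
  obtain ⟨mj, hmjdef⟩ : ∃ mj : pullback g (τ.app j) ⟶ (D.obj PUnit.unit).left, mj = mj₀ := ⟨_, rfl⟩
  obtain ⟨πP, hπP⟩ : ∃ πP : pullback g τL ⟶ pullback g (τ.app j), πP = cP.π.app j := ⟨_, rfl⟩
  have hπP0 : πP ≫ pullback.fst g (τ.app j) = pullback.fst g τL := by
    rw [hπP]; exact pbCone_π_fst g DT τ cT τL hL j
  have hπP1 : πP ≫ pullback.snd g (τ.app j) = pullback.snd g τL ≫ cT.π.app j := by
    rw [hπP]; exact pbCone_π_snd g DT τ cT τL hL j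
  have hπPm : πP ≫ mj = mL := by rw [hπP, hmjdef]; exact hmj1₀
  have hmj2 : mj ≫ (D.obj PUnit.unit).hom = pullback.fst g (τ.app j) := by rw [hmjdef]; exact hmj2₀
  -- the system `S' ×_S S' ×_S DT`
  let Q := pbDiag g P (pbτ g DT τ)
  have hLQ : ∀ j, cP.π.app j ≫ (pbτ g DT τ).app j = pullback.snd g τL ≫ τL := by
    intro j
    rw [pbτ_app, ← Category.assoc]
    have := pbCone_π_snd g DT τ cT τL hL j
    rw [this, Category.assoc, hL]
  let cQ := pbCone g P (pbτ g DT τ) cP (pullback.snd g τL ≫ τL) hLQ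
  have hcQ : IsLimit cQ := isLimitPbCone g P (pbτ g DT τ) cP (pullback.snd g τL ≫ τL) hLQ hcP
  haveI hQaff : ∀ {j j' : J} (a : j ⟶ j'), IsAffineHom (Q.map a) := fun a =>
    isAffineHom_pbDiag_map g P (pbτ g DT τ) a
  haveI hQc : ∀ j, CompactSpace (Q.obj j) := fun j => compactSpace_pbDiag_obj g P (pbτ g DT τ) j
  let tQ : Q ⟶ (Functor.const J).obj S' := pbSnd g P (pbτ g DT τ) ≫ pbFst g DT τ
  obtain ⟨πQ, hπQ⟩ : ∃ πQ : pullback g (pullback.snd g τL ≫ τL) ⟶ pullback g (pullback.snd g (τ.app j) ≫ τ.app j),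
      πQ = cQ.π.app j := ⟨_, rfl⟩
  have hπQ0 : πQ ≫ pullback.fst g (pullback.snd g (τ.app j) ≫ τ.app j) = pullback.fst g (pullback.snd g τL ≫ τL) := by
    rw [hπQ]; exact pbCone_π_fst g P (pbτ g DT τ) cP _ hLQ j
  have hπQ1 : πQ ≫ pullback.snd g (pullback.snd g (τ.app j) ≫ τ.app j) =
      pullback.snd g (pullback.snd g τL ≫ τL) ≫ πP := by
    rw [hπQ, hπP]; exact pbCone_π_snd g P (pbτ g DT τ) cP _ hLQ j
  -- the two morphisms at the stage `j`
  obtain ⟨Aj, hAjdef⟩ : ∃ Aj : pullback g (pullback.snd g (τ.app j) ≫ τ.app j) ⟶ (D.obj PUnit.unit).left,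
      Aj = ph D (pullback.fst g (pullback.snd g (τ.app j) ≫ (τ.app j)))
        (pullback.snd g (pullback.snd g (τ.app j) ≫ (τ.app j)) ≫ pullback.fst g (τ.app j))
        ((cond0 g (τ.app j)).trans (cond1 g (τ.app j)).symm)
        (pullback.lift (pullback.fst g (pullback.snd g (τ.app j) ≫ (τ.app j)))
          (pullback.snd g (pullback.snd g (τ.app j) ≫ (τ.app j)) ≫ pullback.snd g (τ.app j)) (cond0 g (τ.app j)) ≫ mj)
        (by rw [Category.assoc, hmj2, pullback.lift_fst]) := ⟨_, rfl⟩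
  obtain ⟨Bj, hBjdef⟩ : ∃ Bj : pullback g (pullback.snd g (τ.app j) ≫ τ.app j) ⟶ (D.obj PUnit.unit).left,
      Bj = pullback.snd g (pullback.snd g (τ.app j) ≫ (τ.app j)) ≫ mj := ⟨_, rfl⟩
  have hAjX : Aj ≫ (D.obj PUnit.unit).hom =
      pullback.snd g (pullback.snd g (τ.app j) ≫ (τ.app j)) ≫ pullback.fst g (τ.app j) := by
    rw [hAjdef, ph_hom]
  have hBjX : Bj ≫ (D.obj PUnit.unit).hom =
      pullback.snd g (pullback.snd g (τ.app j) ≫ (τ.app j)) ≫ pullback.fst g (τ.app j) := by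
    rw [hBjdef, Category.assoc, hmj2]
  have hAj : tQ.app j = Aj ≫ (D.obj PUnit.unit).hom := hAjX.symm
  have hBj : tQ.app j = Bj ≫ (D.obj PUnit.unit).hom := hBjX.symm
  -- they agree at the limit
  have hab' : πQ ≫ Aj = πQ ≫ Bj := by
    have hB : πQ ≫ Bj = pullback.snd g (pullback.snd g τL ≫ τL) ≫ mL := by
      rw [hBjdef, ← Category.assoc, hπQ1, Category.assoc, hπPm]
    rw [hB, hAjdef, comp_ph]
    have e00 : πQ ≫ pullback.lift (pullback.fst g (pullback.snd g (τ.app j) ≫ (τ.app j)))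
        (pullback.snd g (pullback.snd g (τ.app j) ≫ (τ.app j)) ≫ pullback.snd g (τ.app j)) (cond0 g (τ.app j)) =
        pullback.lift (pullback.fst g (pullback.snd g τL ≫ τL))
          (pullback.snd g (pullback.snd g τL ≫ τL) ≫ pullback.snd g τL) (cond0 g τL) ≫ πP := by
      apply pullback.hom_ext
      · rw [Category.assoc, pullback.lift_fst, hπQ0, Category.assoc, hπP0, pullback.lift_fst]
      · rw [Category.assoc, pullback.lift_snd, ← Category.assoc, hπQ1, Category.assoc, hπP1, Category.assoc,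
          hπP1, pullback.lift_snd_assoc, Category.assoc]
    have e0 : (πQ ≫ pullback.lift (pullback.fst g (pullback.snd g (τ.app j) ≫ (τ.app j)))
        (pullback.snd g (pullback.snd g (τ.app j) ≫ (τ.app j)) ≫ pullback.snd g (τ.app j)) (cond0 g (τ.app j)) ≫ mj) =
        pt e (pullback.fst g (pullback.snd g τL ≫ τL))
          (pullback.snd g (pullback.snd g τL ≫ τL) ≫ pullback.snd g τL) (cond0 g τL) := by
      rw [← Category.assoc, e00, Category.assoc, hπPm, hmLdef]
      rfl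
    have e1 : πQ ≫ pullback.snd g (pullback.snd g (τ.app j) ≫ (τ.app j)) ≫ pullback.fst g (τ.app j) =
        pullback.snd g (pullback.snd g τL ≫ τL) ≫ pullback.fst g τL := by
      rw [← Category.assoc, hπQ1, Category.assoc, hπP0]
    refine (ph_congr D _ _ hπQ0 e1 e0).trans ?_
    refine (ph_pt e _ _ _ (cond0 g τL) (cond1 g τL)).trans ?_
    rw [hmLdef]
    exact (comp_hom_left e (pullback.snd g (pullback.snd g τL ≫ τL))).symm
  have hab : cQ.π.app j ≫ Aj = cQ.π.app j ≫ Bj := by rw [← hπQ]; exact hab'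
  obtain ⟨j', a, hAB₀⟩ := Scheme.exists_hom_comp_eq_comp_of_locallyOfFiniteType Q tQ (D.obj PUnit.unit).hom cQ hcQ
    Aj Bj hAj hBj hab
  -- the section at the stage `j'`
  obtain ⟨pa, hpa⟩ : ∃ pa : pullback g (τ.app j') ⟶ pullback g (τ.app j), pa = P.map a := ⟨_, rfl⟩
  have hP0 : pa ≫ pullback.fst g (τ.app j) = pullback.fst g (τ.app j') := by
    rw [hpa]; exact pbDiag_map_fst g DT τ a
  have hP1 : pa ≫ pullback.snd g (τ.app j) = pullback.snd g (τ.app j') ≫ DT.map a := by
    rw [hpa]; exact pbDiag_map_snd g DT τ a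
  obtain ⟨qa, hqa⟩ : ∃ qa : pullback g (pullback.snd g (τ.app j') ≫ τ.app j') ⟶
      pullback g (pullback.snd g (τ.app j) ≫ τ.app j), qa = Q.map a := ⟨_, rfl⟩
  have hQ0 : qa ≫ pullback.fst g (pullback.snd g (τ.app j) ≫ (τ.app j)) =
      pullback.fst g (pullback.snd g (τ.app j') ≫ (τ.app j')) := by
    rw [hqa]; exact pbDiag_map_fst g P (pbτ g DT τ) a
  have hQ1 : qa ≫ pullback.snd g (pullback.snd g (τ.app j) ≫ (τ.app j)) =
      pullback.snd g (pullback.snd g (τ.app j') ≫ (τ.app j')) ≫ pa := by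
    rw [hqa, hpa]; exact pbDiag_map_snd g P (pbτ g DT τ) a
  have hAB : qa ≫ Aj = qa ≫ Bj := by rw [hqa]; exact hAB₀
  obtain ⟨m', hm'def⟩ : ∃ m' : pullback g (τ.app j') ⟶ (D.obj PUnit.unit).left, m' = pa ≫ mj := ⟨_, rfl⟩
  have hm' : m' ≫ (D.obj PUnit.unit).hom = pullback.fst g (τ.app j') := by
    rw [hm'def, Category.assoc, hmj2, hP0]
  have hE : ph D (pullback.fst g (pullback.snd g (τ.app j') ≫ (τ.app j')))
        (pullback.snd g (pullback.snd g (τ.app j') ≫ (τ.app j')) ≫ pullback.fst g (τ.app j'))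
        ((cond0 g (τ.app j')).trans (cond1 g (τ.app j')).symm)
        (pullback.lift (pullback.fst g (pullback.snd g (τ.app j') ≫ (τ.app j')))
          (pullback.snd g (pullback.snd g (τ.app j') ≫ (τ.app j')) ≫ pullback.snd g (τ.app j')) (cond0 g (τ.app j')) ≫ m')
        (by rw [Category.assoc, hm', pullback.lift_fst]) =
      pullback.snd g (pullback.snd g (τ.app j') ≫ (τ.app j')) ≫ m' := by
    have hB : qa ≫ Bj = pullback.snd g (pullback.snd g (τ.app j') ≫ (τ.app j')) ≫ m' := by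
      rw [hBjdef, hm'def, ← Category.assoc, hQ1, Category.assoc]
    rw [← hB, ← hAB, hAjdef, comp_ph]
    have e00 : pullback.lift (pullback.fst g (pullback.snd g (τ.app j') ≫ (τ.app j')))
        (pullback.snd g (pullback.snd g (τ.app j') ≫ (τ.app j')) ≫ pullback.snd g (τ.app j')) (cond0 g (τ.app j')) ≫ pa =
        qa ≫ pullback.lift (pullback.fst g (pullback.snd g (τ.app j) ≫ (τ.app j)))
          (pullback.snd g (pullback.snd g (τ.app j) ≫ (τ.app j)) ≫ pullback.snd g (τ.app j)) (cond0 g (τ.app j)) := by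
      apply pullback.hom_ext
      · rw [Category.assoc, hP0, pullback.lift_fst, Category.assoc, pullback.lift_fst, hQ0]
      · rw [Category.assoc, hP1, pullback.lift_snd_assoc, Category.assoc, Category.assoc, pullback.lift_snd,
          reassoc_of% hQ1, hP1]
    have e0 : pullback.lift (pullback.fst g (pullback.snd g (τ.app j') ≫ (τ.app j')))
        (pullback.snd g (pullback.snd g (τ.app j') ≫ (τ.app j')) ≫ pullback.snd g (τ.app j')) (cond0 g (τ.app j')) ≫ m' =
        qa ≫ pullback.lift (pullback.fst g (pullback.snd g (τ.app j) ≫ (τ.app j)))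
          (pullback.snd g (pullback.snd g (τ.app j) ≫ (τ.app j)) ≫ pullback.snd g (τ.app j)) (cond0 g (τ.app j)) ≫ mj := by
      rw [hm'def, ← Category.assoc, e00, Category.assoc]
    have e1 : pullback.snd g (pullback.snd g (τ.app j') ≫ (τ.app j')) ≫ pullback.fst g (τ.app j') =
        qa ≫ pullback.snd g (pullback.snd g (τ.app j) ≫ (τ.app j)) ≫ pullback.fst g (τ.app j) := by
      rw [← Category.assoc, hQ1, Category.assoc, hP0]
    exact ph_congr D _ _ hQ0.symm e1 e0
  let ej' : (toDDFam (fun _ : PUnit.{w + 1} => g)).obj (Over.mk (τ.app j')) ⟶ D :=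
    mkSection (D := D) (T := Over.mk (τ.app j')) (fun _ => m') (fun _ => hm')
      (fun {W i k} x₀ x₁ t h₀ h₁ => hφ_of_univ g D (τ.app j') m' hm' hE x₀ x₁ t h₀ h₁)
  refine ⟨j', ej', ?_⟩
  apply ext_of_pt
  rintro ⟨⟩
  rw [map_comp_pt, pt_mkSection]
  obtain ⟨πP', hπP'⟩ : ∃ πP' : pullback g τL ⟶ pullback g (τ.app j'), πP' = cP.π.app j' := ⟨_, rfl⟩
  have hπP'0 : πP' ≫ pullback.fst g (τ.app j') = pullback.fst g τL := by
    rw [hπP']; exact pbCone_π_fst g DT τ cT τL hL j'
  have hπP'1 : πP' ≫ pullback.snd g (τ.app j') = pullback.snd g τL ≫ cT.π.app j' := by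
    rw [hπP']; exact pbCone_π_snd g DT τ cT τL hL j'
  have hπP'a : πP' ≫ pa = πP := by rw [hπP', hpa, hπP]; exact cP.w a
  have e2 : pullback.lift (pullback.fst g τL) (pullback.snd g τL ≫ cT.π.app j')
      (by rw [Category.assoc, hL, pullback.condition]) = πP' := by
    apply pullback.hom_ext
    · rw [pullback.lift_fst, hπP'0]
    · rw [pullback.lift_snd, hπP'1]
  have e3 : pullback.lift (pullback.fst ((fun _ : PUnit.{w + 1} => g) PUnit.unit) (Over.mk τL).hom)
      (pullback.snd ((fun _ : PUnit.{w + 1} => g) PUnit.unit) (Over.mk τL).hom) pullback.condition =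
      𝟙 (pullback ((fun _ : PUnit.{w + 1} => g) PUnit.unit) (Over.mk τL).hom) := by
    apply pullback.hom_ext <;> simp
  have key : πP' ≫ m' = mL := by rw [hm'def, ← Category.assoc, hπP'a, hπPm]
  rw [pt, e3, Category.id_comp, ← hmLdef]
  show pullback.lift (pullback.fst g τL) (pullback.snd g τL ≫ cT.π.app j') _ ≫ m' = mL
  rw [e2, key]

end lim

end Groth.Agent.Lib.Helper4.DescLimSec
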