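import Mathlib
import Groth.Prelude.Def_DescFam
import Groth.Agent.Lib.Helper4.DescEtLoc
import Groth.Agent.Lib.Helper9.ClosedImmDescend

/-!
# Restriction of a section of a descent datum and base change squares (helper4)

`g : S' ⟶ S`, `D` a descent datum relative to `g` (one-member family), `b : B ⟶ S`, `c : B' ⟶ B`, `b' = c ≫ b`, `U` over `B`,
`U' = B' ×_B U` over `B'`, `e` a section of `D` over `U` (as an `S`-scheme) and `e'` its restriction to `U'`.  Then the
morphism `S'_{B'} ×_{B'} U' ⟶ D.obj ×_{S'} S'_{B'}` underlying `resB g b' e'` is the base change along `c` of the morphism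
underlying `resB g b e` (`isPullback_resB`), hence one is an isomorphism iff the stage map of the other is
(`isIso_resB_iff_stageMap`).
-/

set_option autoImplicit false
set_option backward.isDefEq.respectTransparency false
universe w u
open CategoryTheory CategoryTheory.Limits AlgebraicGeometry

namespace Groth.Agent.Lib.Helper4.DescLimSq

open Desc Groth.Agent.Lib.Helper4.DescGamma Groth.Agent.Lib.Helper4.DescPull Groth.Agent.Lib.Helper4.DescBC
  Groth.Agent.Lib.Helper4.DescEtLoc Groth.Agent.Lib.helper9

variable {S S' : Scheme.{u}} (g : S' ⟶ S) (D : SchDDFam (fun _ : PUnit.{w + 1} => g))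
  {B B' : Scheme.{u}} (b : B ⟶ S) (c : B' ⟶ B) (b' : B' ⟶ S) (hb' : c ≫ b = b')

/-- `S' ×_S B' ⟶ S' ×_S B`. -/
noncomputable def sig : pullback g b' ⟶ pullback g b :=
  pullback.map g b' g b (𝟙 S') c (𝟙 S) (by simp) (by rw [Category.comp_id, hb'])

@[reassoc (attr := simp)]
theorem sig_fst : sig g b c b' hb' ≫ pullback.fst g b = pullback.fst g b' := by simp [sig]

@[reassoc (attr := simp)]
theorem sig_snd : sig g b c b' hb' ≫ pullback.snd g b = pullback.snd g b' ≫ c := by simp [sig]

theorem isPullback_sig : IsPullback (sig g b c b' hb') (pullback.snd g b') (pullback.snd g b) c := by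
  have big : IsPullback (sig g b c b' hb' ≫ pullback.fst g b) (pullback.snd g b') g (c ≫ b) := by
    rw [sig_fst, hb']
    exact IsPullback.of_hasPullback g b'
  exact IsPullback.of_right big (sig_snd g b c b' hb') (IsPullback.of_hasPullback g b)

/-- `D.obj ×_{S'} S'_{B'} ⟶ D.obj ×_{S'} S'_B`. -/
noncomputable def qY : pullback (D.obj PUnit.unit).hom (pullback.fst g b') ⟶
    pullback (D.obj PUnit.unit).hom (pullback.fst g b) :=
  pullback.map (D.obj PUnit.unit).hom (pullback.fst g b') (D.obj PUnit.unit).hom (pullback.fst g b) (𝟙 _)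
    (sig g b c b' hb') (𝟙 _) (by simp) (by rw [Category.comp_id, sig_fst])

@[reassoc (attr := simp)]
theorem qY_fst : qY g D b c b' hb' ≫ pullback.fst (D.obj PUnit.unit).hom (pullback.fst g b) =
    pullback.fst (D.obj PUnit.unit).hom (pullback.fst g b') := by simp [qY]

@[reassoc (attr := simp)]
theorem qY_snd : qY g D b c b' hb' ≫ pullback.snd (D.obj PUnit.unit).hom (pullback.fst g b) =
    pullback.snd (D.obj PUnit.unit).hom (pullback.fst g b') ≫ sig g b c b' hb' := by simp [qY]

theorem isPullback_qY : IsPullback (qY g D b c b' hb') (pullback.snd (D.obj PUnit.unit).hom (pullback.fst g b'))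
    (pullback.snd (D.obj PUnit.unit).hom (pullback.fst g b)) (sig g b c b' hb') := by
  have big : IsPullback (qY g D b c b' hb' ≫ pullback.fst (D.obj PUnit.unit).hom (pullback.fst g b))
      (pullback.snd (D.obj PUnit.unit).hom (pullback.fst g b')) (D.obj PUnit.unit).hom
      (sig g b c b' hb' ≫ pullback.fst g b) := by
    rw [qY_fst, sig_fst]
    exact IsPullback.of_hasPullback _ _
  exact IsPullback.of_right big (qY_snd g D b c b' hb') (IsPullback.of_hasPullback _ _)

theorem isPullback_qY_base : IsPullback (qY g D b c b' hb')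
    (pullback.snd (D.obj PUnit.unit).hom (pullback.fst g b') ≫ pullback.snd g b')
    (pullback.snd (D.obj PUnit.unit).hom (pullback.fst g b) ≫ pullback.snd g b) c :=
  (isPullback_qY g D b c b' hb').paste_vert (isPullback_sig g b c b' hb')

variable (U : Over B) (U' : Over B') (u : U'.left ⟶ U.left) (hpb : IsPullback u U'.hom U.hom c)

/-- `S'_{B'} ×_{B'} U' ⟶ S'_B ×_B U`. -/
noncomputable def qX : pullback (pullback.snd g b') U'.hom ⟶ pullback (pullback.snd g b) U.hom :=
  pullback.map (pullback.snd g b') U'.hom (pullback.snd g b) U.hom (sig g b c b' hb') u c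
    (sig_snd g b c b' hb').symm hpb.w.symm

@[reassoc (attr := simp)]
theorem qX_fst : qX g b c b' hb' U U' u hpb ≫ pullback.fst (pullback.snd g b) U.hom =
    pullback.fst (pullback.snd g b') U'.hom ≫ sig g b c b' hb' := by simp [qX]

@[reassoc (attr := simp)]
theorem qX_snd : qX g b c b' hb' U U' u hpb ≫ pullback.snd (pullback.snd g b) U.hom =
    pullback.snd (pullback.snd g b') U'.hom ≫ u := by simp [qX]

theorem isPullback_qX : IsPullback (qX g b c b' hb' U U' u hpb) (pullback.fst (pullback.snd g b') U'.hom)
    (pullback.fst (pullback.snd g b) U.hom) (sig g b c b' hb') := by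
  have big1 : IsPullback (pullback.snd (pullback.snd g b') U'.hom ≫ u) (pullback.fst (pullback.snd g b') U'.hom)
      U.hom (pullback.snd g b' ≫ c) :=
    (IsPullback.of_hasPullback (pullback.snd g b') U'.hom).flip.paste_horiz hpb
  have big : IsPullback (qX g b c b' hb' U U' u hpb ≫ pullback.snd (pullback.snd g b) U.hom)
      (pullback.fst (pullback.snd g b') U'.hom) U.hom (sig g b c b' hb' ≫ pullback.snd g b) := by
    rw [qX_snd, sig_snd]
    exact big1
  exact IsPullback.of_right big (qX_fst g b c b' hb' U U' u hpb)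
    (IsPullback.of_hasPullback (pullback.snd g b) U.hom).flip

variable {D}
variable (hu : u ≫ (push b U).hom = (push b' U').hom)
  (e : (toDDFam (fun _ : PUnit.{w + 1} => g)).obj (push b U) ⟶ D)

omit hb' hpb in
theorem resB_left_snd : ((resB g b e).hom PUnit.unit).left ≫ pullback.snd (D.obj PUnit.unit).hom (pullback.fst g b) =
    pullback.fst (pullback.snd g b) U.hom :=
  hom_left_hom (resB g b e) PUnit.unit

omit hb' hpb in
theorem resB_left_fst : ((resB g b e).hom PUnit.unit).left ≫ pullback.fst (D.obj PUnit.unit).hom (pullback.fst g b) =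
    pt e (pullback.fst (pullback.snd g b) U.hom ≫ pullback.fst g b) (pullback.snd (pullback.snd g b) U.hom)
      (by
        show (pullback.fst (pullback.snd g b) U.hom ≫ pullback.fst g b) ≫ g =
          pullback.snd (pullback.snd g b) U.hom ≫ U.hom ≫ b
        rw [Category.assoc, pullback.condition, ← Category.assoc, pullback.condition, Category.assoc]) := by
  have h1 : ((resB g b e).hom PUnit.unit).left =
      pt (resB g b e) (pullback.fst (pullback.snd g b) U.hom) (pullback.snd (pullback.snd g b) U.hom)
        pullback.condition := by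
    rw [pt]
    have e3 : pullback.lift (pullback.fst (pullback.snd g b) U.hom) (pullback.snd (pullback.snd g b) U.hom)
        pullback.condition = 𝟙 _ := by apply pullback.hom_ext <;> simp
    rw [e3, Category.id_comp]
  rw [h1]
  exact pt_res_fst (f := fun _ : PUnit.{w + 1} => g) (f' := fun _ : PUnit.{w + 1} => pullback.snd g b) (α := id)
    (p := b) (p' := fun _ => pullback.fst g b) (fun _ => pullback.condition) e _ _ _

/-- The restriction square commutes. -/
theorem qX_resB : qX g b c b' hb' U U' u hpb ≫ ((resB g b e).hom PUnit.unit).left =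
    ((resB g b' ((toDDFam (fun _ : PUnit.{w + 1} => g)).map (Over.homMk u hu : push b' U' ⟶ push b U) ≫ e)).hom
      PUnit.unit).left ≫ qY g D b c b' hb' := by
  obtain ⟨εl, hεl⟩ : ∃ εl : pullback (pullback.snd g b) U.hom ⟶ pullback (D.obj PUnit.unit).hom (pullback.fst g b),
      εl = ((resB g b e).hom PUnit.unit).left := ⟨_, rfl⟩
  obtain ⟨ε'l, hε'l⟩ : ∃ ε'l : pullback (pullback.snd g b') U'.hom ⟶
      pullback (D.obj PUnit.unit).hom (pullback.fst g b'),
      ε'l = ((resB g b' ((toDDFam (fun _ : PUnit.{w + 1} => g)).map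
        (Over.homMk u hu : push b' U' ⟶ push b U) ≫ e)).hom PUnit.unit).left := ⟨_, rfl⟩
  have h1 := resB_left_fst g b U e
  have h2 := resB_left_snd g b U e
  have h1' := resB_left_fst g b' U' ((toDDFam (fun _ : PUnit.{w + 1} => g)).map
    (Over.homMk u hu : push b' U' ⟶ push b U) ≫ e)
  have h2' := resB_left_snd g b' U' ((toDDFam (fun _ : PUnit.{w + 1} => g)).map
    (Over.homMk u hu : push b' U' ⟶ push b U) ≫ e)
  rw [← hεl] at h1 h2
  rw [← hε'l] at h1' h2'
  have key : qX g b c b' hb' U U' u hpb ≫ εl = ε'l ≫ qY g D b c b' hb' := by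
    apply pullback.hom_ext
    · refine (Category.assoc _ _ _).trans ?_
      refine (whisker_eq _ h1).trans ?_
      refine (comp_pt e _ _ _ _).trans ?_
      refine Eq.trans ?_ (Category.assoc _ _ _).symm
      refine Eq.trans ?_ (whisker_eq ε'l (qY_fst g D b c b' hb')).symm
      refine Eq.trans ?_ h1'.symm
      refine Eq.trans ?_ (map_comp_pt _ e _ _ _).symm
      refine pt_congr e _ ?_ ?_
      · rw [qX_fst_assoc, sig_fst]
      · rw [qX_snd]
        rfl
    · rw [Category.assoc, h2, Category.assoc, qY_snd, ← Category.assoc, h2', qX_fst]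
  subst hεl hε'l
  exact key

/-- The morphism underlying the restriction of `e` to `U'` is the base change of the morphism underlying `e`. -/
theorem isPullback_resB : IsPullback (qX g b c b' hb' U U' u hpb)
    ((resB g b' ((toDDFam (fun _ : PUnit.{w + 1} => g)).map (Over.homMk u hu : push b' U' ⟶ push b U) ≫ e)).hom
      PUnit.unit).left
    ((resB g b e).hom PUnit.unit).left (qY g D b c b' hb') := by
  have s : IsPullback (qX g b c b' hb' U U' u hpb)
      (((resB g b' ((toDDFam (fun _ : PUnit.{w + 1} => g)).map (Over.homMk u hu : push b' U' ⟶ push b U) ≫ e)).hom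
        PUnit.unit).left ≫ pullback.snd (D.obj PUnit.unit).hom (pullback.fst g b'))
      (((resB g b e).hom PUnit.unit).left ≫ pullback.snd (D.obj PUnit.unit).hom (pullback.fst g b))
      (sig g b c b' hb') := by
    rw [resB_left_snd, resB_left_snd]
    exact isPullback_qX g b c b' hb' U U' u hpb
  exact IsPullback.of_bot s (qX_resB g b c b' hb' U U' u hpb hu e) (isPullback_qY g D b c b' hb')

/-- A morphism of descent data (one-member family) is an isomorphism iff its underlying morphism is. -/
theorem isIso_iff_isIso_left {D₁ D₂ : SchDDFam (fun _ : PUnit.{w + 1} => g)} (a : D₁ ⟶ D₂) :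
    IsIso a ↔ IsIso (a.hom PUnit.unit).left := by
  constructor
  · intro h
    refine ⟨((inv a).hom PUnit.unit).left, ?_, ?_⟩
    · have h1 : a ≫ inv a = 𝟙 _ := IsIso.hom_inv_id a
      have h2 := congrArg (fun z : D₁ ⟶ D₁ => (z.hom PUnit.unit).left) h1
      exact h2
    · have h1 : inv a ≫ a = 𝟙 _ := IsIso.inv_hom_id a
      have h2 := congrArg (fun z : D₂ ⟶ D₂ => (z.hom PUnit.unit).left) h1
      exact h2
  · intro h
    exact isIso_of_isIso_left a (fun _ => h)

include hb' hpb in
/-- The restriction of `e` to `U'` induces an isomorphism of descent data iff the stage map along `c` of the morphism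
underlying `e` is an isomorphism. -/
theorem isIso_resB_iff_stageMap :
    IsIso (resB g b' ((toDDFam (fun _ : PUnit.{w + 1} => g)).map (Over.homMk u hu : push b' U' ⟶ push b U) ≫ e)) ↔
      IsIso (stageMap c ((resB g b e).hom PUnit.unit).left
        (pullback.snd (D.obj PUnit.unit).hom (pullback.fst g b) ≫ pullback.snd g b)) := by
  rw [isIso_iff_isIso_left]
  exact ((stageMap_iff_of_isPullback (MorphismProperty.isomorphisms Scheme.{u}) (isPullback_qY_base g D b c b' hb')
    (isPullback_resB g b c b' hb' U U' u hpb hu e))).symm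

end Groth.Agent.Lib.Helper4.DescLimSq
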