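import Mathlib
import Groth.Prelude.Def_DescFam
import Groth.Prelude.Def_SGA1
import Groth.Agent.Lib.Helper4.DescBCUniv
import Groth.Agent.Lib.Helper4.DescLimSec
import Groth.Agent.Lib.Helper4.DescLimSq
import Groth.Agent.Lib.Helper4.SubmDescent
import Groth.Agent.Lib.Helper5.FppfSource5
import Groth.Agent.Lib.Helper9.FPModel
import Groth.Agent.Lib.Helper9.FPDescend2
import Groth.Agent.Lib.Helper9.ModelDescendGen
import Groth.Agent.Lib.Helper9.LimIsoDescend

/-!
# Effectivity of étale descent data spreads out from a cofiltered limit (helper4)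

`g : S' ⟶ S` universally submersive, quasi-compact, quasi-separated and locally of finite presentation, `D` a descent datum relative
to `g` whose underlying `S'`-scheme is étale, quasi-compact and quasi-separated.  For a cofiltered system `DI` of qcqs schemes over
`S` with affine transition maps and limit `c`: if the base change of `D` to `c.pt` is the canonical datum of an étale
`c.pt`-scheme, then the base change of `D` to some stage `DI.obj i` is the canonical datum of an étale `DI.obj i`-scheme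
(`exists_effective_stage`; SGA 1 IX, passage to the limit).
-/

set_option autoImplicit false
set_option backward.isDefEq.respectTransparency false
set_option linter.style.haveILetI false
universe w u
open CategoryTheory CategoryTheory.Limits AlgebraicGeometry

namespace Groth.Agent.Lib.Helper4.DescLimEff

open Desc Groth.Agent.Lib.Helper4.DescGamma Groth.Agent.Lib.Helper4.DescPull Groth.Agent.Lib.Helper4.DescBC
  Groth.Agent.Lib.Helper4.DescEtLoc Groth.Agent.Lib.Helper4.DescBCUniv Groth.Agent.Lib.Helper4.DescLimSec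
  Groth.Agent.Lib.Helper4.DescLimSq Groth.Agent.Lib.helper9

variable {S S' : Scheme.{u}} (g : S' ⟶ S)

/-- An étale scheme over `B` whose base change along the universally submersive quasi-compact `g_B` is quasi-compact and
quasi-separated over `S'_B` is quasi-compact and quasi-separated over `B`. -/
theorem qcqs_of_iso (hg : SGA1.UnivSubmersive g) [QuasiCompact g] [QuasiSeparated g]
    (D : SchDDFam (fun _ : PUnit.{w + 1} => g)) [QuasiCompact (D.obj PUnit.unit).hom]
    [QuasiSeparated (D.obj PUnit.unit).hom] {B : Scheme.{u}} (b : B ⟶ S) (U : Over B)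
    (θ : (toDDFam (fun _ : PUnit.{w + 1} => pullback.snd g b)).obj U ≅ bcDD g D b) :
    QuasiCompact U.hom ∧ QuasiSeparated U.hom := by
  have hgb : SGA1.UnivSubmersive (pullback.snd g b) := univSubmersive_bc g hg b
  haveI : Surjective (pullback.snd g b) := ⟨Groth.Agent.Lib.helper4.SubmDescent.UnivSubmersive.surjective hgb⟩
  haveI : IsIso θ.hom := inferInstance
  have hφ : IsIso (θ.hom.hom PUnit.unit).left := (isIso_iff_isIso_left (pullback.snd g b) θ.hom).mp inferInstance
  obtain ⟨φ, hφdef⟩ : ∃ φ : pullback (pullback.snd g b) U.hom ⟶ pullback (D.obj PUnit.unit).hom (pullback.fst g b),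
      φ = (θ.hom.hom PUnit.unit).left := ⟨_, rfl⟩
  haveI : IsIso φ := by rw [hφdef]; exact hφ
  have h1 : φ ≫ pullback.snd (D.obj PUnit.unit).hom (pullback.fst g b) = pullback.fst (pullback.snd g b) U.hom := by
    rw [hφdef]; exact hom_left_hom θ.hom PUnit.unit
  haveI : QuasiCompact (pullback.fst (pullback.snd g b) U.hom) := by rw [← h1]; infer_instance
  haveI : QuasiSeparated (pullback.fst (pullback.snd g b) U.hom) := by rw [← h1]; infer_instance
  haveI : Surjective (pullback.snd (pullback.snd g b) U.hom) :=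
    MorphismProperty.pullback_snd (P := @Surjective) _ _ inferInstance
  have h2 : pullback.snd (pullback.snd g b) U.hom ≫ U.hom = pullback.fst (pullback.snd g b) U.hom ≫ pullback.snd g b :=
    pullback.condition.symm
  haveI : QuasiCompact (pullback.snd (pullback.snd g b) U.hom ≫ U.hom) := by rw [h2]; infer_instance
  haveI : QuasiSeparated (pullback.snd (pullback.snd g b) U.hom ≫ U.hom) := by rw [h2]; infer_instance
  exact ⟨Groth.Agent.Lib.helper5.FppfSource.quasiCompact_of_comp_surjective' (pullback.snd (pullback.snd g b) U.hom) U.hom,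
    Groth.Agent.Lib.helper5.FppfSource.quasiSeparated_of_comp_surjective (pullback.snd (pullback.snd g b) U.hom) U.hom⟩

variable (hg : SGA1.UnivSubmersive g) [LocallyOfFinitePresentation g] [QuasiCompact g] [QuasiSeparated g]
  (D : SchDDFam (fun _ : PUnit.{w + 1} => g)) [Etale (D.obj PUnit.unit).hom] [QuasiCompact (D.obj PUnit.unit).hom]
  [QuasiSeparated (D.obj PUnit.unit).hom]
  {I : Type u} [SmallCategory I] [IsCofiltered I] (DI : I ⥤ Scheme.{u}) (c : Cone DI) (hc : IsLimit c)
  [hDI : ∀ (i j : I) (f : i ⟶ j), IsAffineHom (DI.map f)] [hcpt : ∀ i, CompactSpace (DI.obj i)]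
  [hqs : ∀ i, QuasiSeparatedSpace (DI.obj i)]
  (β : DI ⟶ (Functor.const I).obj S) (bL : c.pt ⟶ S) (hbL : ∀ i, c.π.app i ≫ β.app i = bL)

omit [IsCofiltered I] hDI hcpt hqs in
theorem β_w {i j : I} (a : i ⟶ j) : DI.map a ≫ β.app j = β.app i := by
  have := β.naturality a
  simpa using this

include hg hc hbL in
/-- SGA 1 IX: effectivity of an étale descent datum of finite presentation over the limit of a cofiltered system of qcqs schemes
with affine transition maps spreads out to a stage of the system. -/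
theorem exists_effective_stage (Ua : Over c.pt) [Etale Ua.hom]
    (θ : (toDDFam (fun _ : PUnit.{w + 1} => pullback.snd g bL)).obj Ua ≅ bcDD g D bL) :
    ∃ (i : I) (U : Over (DI.obj i)), Etale U.hom ∧
      Nonempty ((toDDFam (fun _ : PUnit.{w + 1} => pullback.snd g (β.app i))).obj U ≅ bcDD g D (β.app i)) := by
  have hDI' : ∀ {i j : I} (f : i ⟶ j), IsAffineHom (DI.map f) := fun f => hDI _ _ f
  -- Step A: `Ua` is qcqs over the limit
  obtain ⟨hUqc, hUqs⟩ := qcqs_of_iso g hg D bL Ua θ
  haveI := hUqc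
  haveI := hUqs
  -- Step B: an étale model of `Ua`
  have i₀ : I := (IsCofiltered.nonempty (C := I)).some
  obtain ⟨l₀, ⟨M⟩⟩ := FPModel.exists_model_over hc i₀ Ua.hom
  haveI : CompactSpace M.X₀ := M.compactSpace_X₀
  obtain ⟨k₁, b₁, hk₁⟩ := M.exists_rebase_of_descent @Etale
    (fun h => exists_etale_stageMap DI c hc l₀.left M.f₀ (𝟙 _) h) inferInstance
  obtain ⟨M₁, hM₁⟩ : ∃ M₁ : FPModel DI c Ua.hom k₁, Etale M₁.f₀ := ⟨M.rebase b₁, hk₁⟩
  -- the universal section over the limit
  obtain ⟨ea, hea⟩ := exists_univ_push_etale g hg D bL Ua θ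
  have hea' : IsUnivOver g D bL Ua ea := hea
  -- Step C: the section descends to a stage
  let DT : Over k₁ ⥤ Scheme.{u} := bcDiagram DI k₁ M₁.f₀
  let e := M₁.pb.flip.isoPullback
  let cX : Cone DT := (bcCone DI c k₁ M₁.f₀).extend e.hom
  have hcX : IsLimit cX := IsLimit.extendIso (s := bcCone DI c k₁ M₁.f₀) e.hom (isLimitBcCone DI c k₁ M₁.f₀ hc)
  have hcXπ : ∀ l : Over k₁, cX.π.app l = (M₁.rebase l.hom).g := fun l => (FPModel.rebase_g_eq M₁ l).symm
  haveI hDTaff : ∀ {j j' : Over k₁} (m : j ⟶ j'), IsAffineHom (DT.map m) := fun m =>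
    (inferInstance : IsAffineHom ((bcDiagram DI k₁ M₁.f₀).map m))
  haveI hDTc : ∀ l : Over k₁, CompactSpace (DT.obj l) := fun l =>
    QuasiCompact.compactSpace_of_compactSpace (pullback.fst (DI.map l.hom) M₁.f₀)
  haveI hDTs : ∀ l : Over k₁, QuasiSeparatedSpace (DT.obj l) := fun l =>
    quasiSeparatedSpace_of_quasiSeparated (pullback.fst (DI.map l.hom) M₁.f₀)
  have hDTfst : ∀ {l l' : Over k₁} (m : l ⟶ l'), DT.map m ≫ pullback.fst (DI.map l'.hom) M₁.f₀ =
      pullback.fst (DI.map l.hom) M₁.f₀ ≫ DI.map m.left := fun m => by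
    simp [DT, bcDiagram]
  let τ : DT ⟶ (Functor.const (Over k₁)).obj S :=
    { app := fun l => pullback.fst (DI.map l.hom) M₁.f₀ ≫ β.app l.left
      naturality := fun l l' m => by
        simp only [Functor.const_obj_obj, Functor.const_obj_map, Category.comp_id]
        rw [reassoc_of% (hDTfst m), β_w] }
  have hL : ∀ l : Over k₁, cX.π.app l ≫ τ.app l = Ua.hom ≫ bL := by
    intro l
    rw [hcXπ]
    show pullback.lift _ _ _ ≫ pullback.fst (DI.map l.hom) M₁.f₀ ≫ β.app l.left = _
    rw [pullback.lift_fst_assoc, Category.assoc, hbL]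
  obtain ⟨l, el, hel⟩ := exists_section_of_limit g D DT τ cX hcX (Ua.hom ≫ bL) hL ea
  -- Step D: the stage `k₂`
  obtain ⟨k₂, hk₂⟩ : ∃ k₂ : I, k₂ = l.left := ⟨_, rfl⟩
  obtain ⟨M₂, hM₂def⟩ : ∃ M₂ : FPModel DI c Ua.hom l.left, M₂ = M₁.rebase l.hom := ⟨_, rfl⟩
  haveI hM₂et : Etale M₂.f₀ := by
    rw [hM₂def]
    exact MorphismProperty.pullback_fst (P := @Etale) _ _ hM₁
  haveI : CompactSpace M₂.X₀ := M₂.compactSpace_X₀
  haveI : QuasiSeparatedSpace M₂.X₀ := M₂.quasiSeparatedSpace_X₀
  let U₂ : Over (DI.obj l.left) := Over.mk M₂.f₀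
  haveI : CompactSpace ↥U₂.left := M₂.compactSpace_X₀
  haveI : QuasiSeparatedSpace ↥U₂.left := M₂.quasiSeparatedSpace_X₀
  haveI : Etale U₂.hom := hM₂et
  haveI : QuasiCompact U₂.hom := M₂.qc
  haveI : QuasiSeparated U₂.hom := M₂.qs
  have hu : M₂.g ≫ (push (β.app l.left) U₂).hom = (push bL Ua).hom := by
    show M₂.g ≫ M₂.f₀ ≫ β.app l.left = Ua.hom ≫ bL
    rw [← Category.assoc, M₂.pb.w, Category.assoc, hbL]
  obtain ⟨e₂, he₂⟩ : ∃ e₂ : (toDDFam (fun _ : PUnit.{w + 1} => g)).obj (push (β.app l.left) U₂) ⟶ D,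
      (toDDFam (fun _ : PUnit.{w + 1} => g)).map (Over.homMk M₂.g hu : push bL Ua ⟶ push (β.app l.left) U₂) ≫ e₂ = ea := by
    subst hM₂def
    refine ⟨el, ?_⟩
    rw [← hel]
    congr 2
    apply Over.OverMorphism.ext
    exact (hcXπ l).symm
  -- the stage map at the limit is an isomorphism
  haveI hisoL : IsIso (resB g bL ((toDDFam (fun _ : PUnit.{w + 1} => g)).map
      (Over.homMk M₂.g hu : push bL Ua ⟶ push (β.app l.left) U₂) ≫ e₂)) := by
    rw [he₂]
    exact isIso_resB_of_isUnivOver hea'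
  have hstage := (isIso_resB_iff_stageMap g (β.app l.left) (c.π.app l.left) bL (hbL l.left) U₂ Ua M₂.g M₂.pb hu e₂).mp hisoL
  -- finiteness conditions
  haveI : CompactSpace ↥(pullback g (β.app l.left)) :=
    QuasiCompact.compactSpace_of_compactSpace (pullback.snd g (β.app l.left))
  haveI : QuasiSeparatedSpace ↥(pullback g (β.app l.left)) :=
    quasiSeparatedSpace_of_quasiSeparated (pullback.snd g (β.app l.left))
  haveI : CompactSpace ↥(pullback (pullback.snd g (β.app l.left)) U₂.hom) :=
    QuasiCompact.compactSpace_of_compactSpace (pullback.snd (pullback.snd g (β.app l.left)) U₂.hom)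
  haveI : QuasiSeparatedSpace ↥(pullback (pullback.snd g (β.app l.left)) U₂.hom) :=
    quasiSeparatedSpace_of_quasiSeparated (pullback.snd (pullback.snd g (β.app l.left)) U₂.hom)
  haveI : CompactSpace ↥(pullback (D.obj PUnit.unit).hom (pullback.fst g (β.app l.left))) :=
    QuasiCompact.compactSpace_of_compactSpace (pullback.snd (D.obj PUnit.unit).hom (pullback.fst g (β.app l.left)))
  haveI : QuasiSeparatedSpace ↥(pullback (D.obj PUnit.unit).hom (pullback.fst g (β.app l.left))) :=
    quasiSeparatedSpace_of_quasiSeparated (pullback.snd (D.obj PUnit.unit).hom (pullback.fst g (β.app l.left)))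
  obtain ⟨f₀, hf₀def⟩ : ∃ f₀ : pullback (pullback.snd g (β.app l.left)) U₂.hom ⟶
      pullback (D.obj PUnit.unit).hom (pullback.fst g (β.app l.left)),
      f₀ = ((resB g (β.app l.left) e₂).hom PUnit.unit).left := ⟨_, rfl⟩
  have hf₀g₀ : f₀ ≫ pullback.snd (D.obj PUnit.unit).hom (pullback.fst g (β.app l.left)) ≫ pullback.snd g (β.app l.left) =
      pullback.fst (pullback.snd g (β.app l.left)) U₂.hom ≫ pullback.snd g (β.app l.left) := by
    rw [hf₀def, ← Category.assoc, resB_left_snd]
  haveI : LocallyOfFinitePresentation (f₀ ≫ pullback.snd (D.obj PUnit.unit).hom (pullback.fst g (β.app l.left)) ≫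
      pullback.snd g (β.app l.left)) := by
    rw [hf₀g₀]
    infer_instance
  haveI : IsIso (stageMap (c.π.app l.left) f₀
      (pullback.snd (D.obj PUnit.unit).hom (pullback.fst g (β.app l.left)) ≫ pullback.snd g (β.app l.left))) := by
    rw [hf₀def]
    exact hstage
  obtain ⟨l', hl'⟩ := exists_isIso_stageMap DI c hc l.left f₀
    (pullback.snd (D.obj PUnit.unit).hom (pullback.fst g (β.app l.left)) ≫ pullback.snd g (β.app l.left))
  -- the stage `l'`
  let U' : Over (DI.obj l'.left) := Over.mk (pullback.fst (DI.map l'.hom) M₂.f₀)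
  have hu' : pullback.snd (DI.map l'.hom) M₂.f₀ ≫ (push (β.app l.left) U₂).hom = (push (β.app l'.left) U').hom := by
    show pullback.snd (DI.map l'.hom) M₂.f₀ ≫ M₂.f₀ ≫ β.app l.left = pullback.fst (DI.map l'.hom) M₂.f₀ ≫ β.app l'.left
    rw [← pullback.condition_assoc, β_w]
  have hiso' := (isIso_resB_iff_stageMap g (β.app l.left) (DI.map l'.hom) (β.app l'.left) (β_w DI β l'.hom) U₂ U'
    (pullback.snd (DI.map l'.hom) M₂.f₀) (IsPullback.of_hasPullback (DI.map l'.hom) M₂.f₀).flip hu' e₂).mpr
    (by rw [← hf₀def]; exact hl')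
  haveI := hiso'
  refine ⟨l'.left, U', ?_, ⟨asIso (resB g (β.app l'.left) ((toDDFam (fun _ : PUnit.{w + 1} => g)).map
      (Over.homMk (pullback.snd (DI.map l'.hom) M₂.f₀) hu' : push (β.app l'.left) U' ⟶ push (β.app l.left) U₂) ≫ e₂))⟩⟩
  show Etale (pullback.fst (DI.map l'.hom) M₂.f₀)
  infer_instance

end Groth.Agent.Lib.Helper4.DescLimEff
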