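import Mathlib
import Groth.Prelude.Def_DescFam
import Groth.Prelude.Def_SGA1
import Groth.Agent.Lib.Helper4.DescBCUniv
import Groth.Agent.Lib.Helper4.DescLimEff
import Groth.Agent.Lib.Helper4.DescEtale
import Groth.Agent.Lib.Helper4.DescUnivInj
import Groth.Agent.Lib.Helper4.SubmDescent

/-!
# Effectivity of étale descent data is fpqc-local on the base, composite form (helper4)

`g : S' ⟶ S` universally submersive and qcqs, `D` a descent datum relative to `g` whose underlying `S'`-scheme is étale, separated and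
quasi-compact, `b : B ⟶ S`, `p : B₁ ⟶ B` faithfully flat and quasi-compact.
* `exists_iso_of_isUnivOver_fpqc`: a universal pair over `B₁`-schemes with étale separated quasi-compact representing object gives
  effectivity (no hypothesis on `g`).
* `isUnivOver_bc`: a universal pair for `D` over `B'`-schemes (via `b' = c ≫ b`) is a universal pair for `bcDD g D b` (via `c`).
* `isSeparated_of_iso`: separatedness of the representing object, by descent along the universally submersive `g`.
* `exists_iso_of_fpqc_comp`: if `bcDD g D (p ≫ b)` is the canonical datum of an étale `B₁`-scheme, then `bcDD g D b` is the canonical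
  datum of an étale `B`-scheme.
-/

set_option autoImplicit false
set_option backward.isDefEq.respectTransparency false
set_option linter.style.haveILetI false
universe u
open CategoryTheory CategoryTheory.Limits AlgebraicGeometry

namespace Groth.Agent.Lib.Helper4.DescFpqcComp

open Desc Groth.Agent.Lib.Helper4.DescGamma Groth.Agent.Lib.Helper4.DescPull Groth.Agent.Lib.Helper4.DescBC
  Groth.Agent.Lib.Helper4.DescEtLoc Groth.Agent.Lib.Helper4.DescBCUniv Groth.Agent.Lib.Helper4.DescLimSq

variable {S S' : Scheme.{u}} (g : S' ⟶ S) (D : SchDDFam (fun _ : PUnit.{1} => g))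

/-- fpqc descent: a universal pair over `S₁`-schemes with étale separated quasi-compact representing object gives effectivity. -/
theorem exists_iso_of_isUnivOver_fpqc {S₁ : Scheme.{u}} (p : S₁ ⟶ S) [Flat p] [Surjective p] [QuasiCompact p]
    (U₁ : Over S₁) [hUe : Etale U₁.hom] [hUs : IsSeparated U₁.hom] [hUq : QuasiCompact U₁.hom]
    (e₁ : (toDDFam (fun _ : PUnit.{1} => g)).obj (push p U₁) ⟶ D) (he₁ : IsUnivOver g D p U₁ e₁) :
    ∃ U : Over S, Etale U.hom ∧ IsSeparated U.hom ∧ QuasiCompact U.hom ∧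
      Nonempty ((toDDFam (fun _ : PUnit.{1} => g)).obj U ≅ D) := by
  have hq : Presieve.ofArrows (fun _ : PUnit.{u + 1} => S₁) (fun _ => p) ∈ Scheme.fpqcPrecoverage S :=
    Groth.Agent.Lib.Helper4.DescUnivInj.singleton_mem p
  let E : Desc.SchDDFam (fun _ : PUnit.{u + 1} => p) :=
    Groth.Agent.Lib.Helper4.DescLocEff.locDD (q := fun _ : PUnit.{u + 1} => p) (U := fun _ => U₁)
      (fun _ => e₁) (fun _ => he₁)
  let E' : Desc.SchDD p := (Desc.SchDDFam.toSchDD p).obj E
  haveI : QuasiCompact E'.obj.hom := hUq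
  haveI : IsSeparated E'.obj.hom := hUs
  haveI : Etale E'.obj.hom := hUe
  obtain ⟨Uo, hq', hs', he', ⟨κ⟩⟩ := Groth.Agent.Lib.Helper4.DescEtale.exists_iso_toDD_etale p E'
  have θ : (Desc.toDDFam (fun _ : PUnit.{u + 1} => p)).obj Uo ≅ E := (Desc.SchDDFam.ofSchDD p).mapIso κ
  obtain ⟨ε, hε⟩ := Groth.Agent.Lib.Helper4.DescLocEff.exists_isUniv (q := fun _ : PUnit.{u + 1} => p)
    (U := fun _ => U₁) (fun _ => e₁) (fun _ => he₁) hq Uo θ
  haveI := Groth.Agent.Lib.Helper4.DescGamma.isIso_of_isUniv hε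
  exact ⟨Uo, he', hs', hq', ⟨asIso ε⟩⟩

variable {g D}

/-- A universal pair for `D` over `B'`-schemes (via `b' = c ≫ b`) gives a universal pair for `bcDD g D b` (via `c`). -/
theorem isUnivOver_bc {B B' : Scheme.{u}} (b : B ⟶ S) (c : B' ⟶ B) (b' : B' ⟶ S) (hb' : c ≫ b = b') (U' : Over B')
    (e' : (toDDFam (fun _ : PUnit.{1} => g)).obj (push b' U') ⟶ D) (he' : IsUnivOver g D b' U' e') :
    ∃ e'' : (toDDFam (fun _ : PUnit.{1} => pullback.snd g b)).obj (push c U') ⟶ bcDD g D b,
      IsUnivOver (pullback.snd g b) (bcDD g D b) c U' e'' := by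
  -- the comparison isomorphisms `push b (push c T) ≅ push b' T`
  have hφ : ∀ T : Over B', (𝟙 T.left) ≫ (push b' T).hom = (push b (push c T)).hom := fun T => by
    show 𝟙 T.left ≫ T.hom ≫ b' = (T.hom ≫ c) ≫ b
    rw [Category.id_comp, Category.assoc, hb']
  have hψ : ∀ T : Over B', (𝟙 T.left) ≫ (push b (push c T)).hom = (push b' T).hom := fun T => by
    show 𝟙 T.left ≫ (T.hom ≫ c) ≫ b = T.hom ≫ b'
    rw [Category.id_comp, Category.assoc, hb']
  let φ : ∀ T : Over B', push b (push c T) ⟶ push b' T := fun T => Over.homMk (𝟙 T.left) (hφ T)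
  let ψ : ∀ T : Over B', push b' T ⟶ push b (push c T) := fun T => Over.homMk (𝟙 T.left) (hψ T)
  have hφψ : ∀ T : Over B', φ T ≫ ψ T = 𝟙 _ := fun T => Over.OverMorphism.ext (Category.id_comp _)
  have hnat : ∀ {T T₂ : Over B'} (c₀ : T ⟶ T₂), pushMap b (pushMap c c₀) ≫ φ T₂ = φ T ≫ pushMap b' c₀ := by
    intro T T₂ c₀
    apply Over.OverMorphism.ext
    show c₀.left ≫ 𝟙 _ = 𝟙 _ ≫ c₀.left
    rw [Category.comp_id, Category.id_comp]
  refine ⟨resB g b ((toDDFam (fun _ : PUnit.{1} => g)).map (φ U') ≫ e'), ?_⟩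
  intro T'' s
  obtain ⟨s₀, hs₀⟩ := resB_surjective g b (D := D) (T' := push c T'') s
  obtain ⟨c₀, hc₀, hc₀u⟩ := he' T'' ((toDDFam (fun _ : PUnit.{1} => g)).map (ψ T'') ≫ s₀)
  have hc₀' : (toDDFam (fun _ : PUnit.{1} => g)).map (pushMap b' c₀) ≫ e' =
      (toDDFam (fun _ : PUnit.{1} => g)).map (ψ T'') ≫ s₀ := hc₀
  have key : ∀ c₃ : T'' ⟶ U', (toDDFam (fun _ : PUnit.{1} => pullback.snd g b)).map (pushMap c c₃) ≫
      resB g b ((toDDFam (fun _ : PUnit.{1} => g)).map (φ U') ≫ e') =
      resB g b ((toDDFam (fun _ : PUnit.{1} => g)).map (φ T'') ≫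
        (toDDFam (fun _ : PUnit.{1} => g)).map (pushMap b' c₃) ≫ e') := by
    intro c₃
    rw [← resB_natural, ← Category.assoc, ← Functor.map_comp, hnat c₃, Functor.map_comp, Category.assoc]
  refine ⟨c₀, ?_, fun c₃ hc₃ => hc₀u c₃ ?_⟩
  · show (toDDFam (fun _ : PUnit.{1} => pullback.snd g b)).map (pushMap c c₀) ≫
      resB g b ((toDDFam (fun _ : PUnit.{1} => g)).map (φ U') ≫ e') = s
    rw [key c₀, hc₀', ← Category.assoc, ← Functor.map_comp, hφψ, CategoryTheory.Functor.map_id, Category.id_comp, hs₀]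
  · show (toDDFam (fun _ : PUnit.{1} => g)).map (pushMap b' c₃) ≫ e' =
      (toDDFam (fun _ : PUnit.{1} => g)).map (ψ T'') ≫ s₀
    have h1 : (toDDFam (fun _ : PUnit.{1} => pullback.snd g b)).map (pushMap c c₃) ≫
      resB g b ((toDDFam (fun _ : PUnit.{1} => g)).map (φ U') ≫ e') = s := hc₃
    rw [key c₃, ← hs₀] at h1
    have h2 := resB_injective g b h1
    rw [← h2, ← Category.assoc, ← Functor.map_comp]
    have hψφ : ψ T'' ≫ φ T'' = 𝟙 _ := Over.OverMorphism.ext (Category.id_comp _)
    rw [hψφ, CategoryTheory.Functor.map_id, Category.id_comp]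

variable (g D)

/-- Separatedness descends along a universally submersive base change. -/
theorem isSeparated_of_pullback_fst (hg : SGA1.UnivSubmersive g) {X : Scheme.{u}} (f : X ⟶ S)
    [IsSeparated (pullback.fst g f)] : IsSeparated f := by
  haveI : IsSeparated (pullback.snd f g) := by
    have : pullback.snd f g = (pullbackSymmetry f g).hom ≫ pullback.fst g f := by simp
    rw [this]
    infer_instance
  have hdiag : (MorphismProperty.diagonal @UniversallyClosed) f :=
    MorphismProperty.of_pullback_snd_of_descendsAlong (P := MorphismProperty.diagonal @UniversallyClosed)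
      (Q := (SGA1.UnivSubmersive : MorphismProperty Scheme.{u})) (f := f) (g := g) hg
      (by
        show UniversallyClosed (pullback.diagonal (pullback.snd f g))
        infer_instance)
  have hdiag' : UniversallyClosed (pullback.diagonal f) := hdiag
  refine ⟨?_⟩
  exact IsClosedImmersion.of_isPreimmersion _ (pullback.diagonal f).isClosedMap.isClosed_range

/-- The étale scheme representing the base change of `D` is separated if `D.obj` is. -/
theorem isSeparated_of_iso (hg : SGA1.UnivSubmersive g) [IsSeparated (D.obj PUnit.unit).hom] {B : Scheme.{u}} (b : B ⟶ S)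
    (U : Over B) (θ : (toDDFam (fun _ : PUnit.{1} => pullback.snd g b)).obj U ≅ bcDD g D b) : IsSeparated U.hom := by
  have hgb : SGA1.UnivSubmersive (pullback.snd g b) := univSubmersive_bc g hg b
  haveI : IsIso θ.hom := inferInstance
  have hφ : IsIso (θ.hom.hom PUnit.unit).left := (isIso_iff_isIso_left (pullback.snd g b) θ.hom).mp inferInstance
  obtain ⟨φ, hφdef⟩ : ∃ φ : pullback (pullback.snd g b) U.hom ⟶ pullback (D.obj PUnit.unit).hom (pullback.fst g b),
      φ = (θ.hom.hom PUnit.unit).left := ⟨_, rfl⟩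
  haveI : IsIso φ := by rw [hφdef]; exact hφ
  have h1 : φ ≫ pullback.snd (D.obj PUnit.unit).hom (pullback.fst g b) = pullback.fst (pullback.snd g b) U.hom := by
    rw [hφdef]; exact hom_left_hom θ.hom PUnit.unit
  haveI : IsSeparated (pullback.fst (pullback.snd g b) U.hom) := by rw [← h1]; infer_instance
  exact isSeparated_of_pullback_fst (pullback.snd g b) hgb U.hom

/-- SGA 1 IX: effectivity in étale schemes of an étale separated quasi-compact descent datum is fpqc-local on the base
(composite form). -/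
theorem exists_iso_of_fpqc_comp (hg : SGA1.UnivSubmersive g) [QuasiCompact g] [QuasiSeparated g]
    [Etale (D.obj PUnit.unit).hom] [IsSeparated (D.obj PUnit.unit).hom] [QuasiCompact (D.obj PUnit.unit).hom]
    {B B₁ : Scheme.{u}} (b : B ⟶ S) (p : B₁ ⟶ B) [Flat p] [Surjective p] [QuasiCompact p]
    (b' : B₁ ⟶ S) (hb' : p ≫ b = b') (U₁ : Over B₁) [Etale U₁.hom]
    (θ₁ : (toDDFam (fun _ : PUnit.{1} => pullback.snd g b')).obj U₁ ≅ bcDD g D b') :
    ∃ U : Over B, Etale U.hom ∧ Nonempty ((toDDFam (fun _ : PUnit.{1} => pullback.snd g b)).obj U ≅ bcDD g D b) := by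
  obtain ⟨e₁, he₁⟩ := exists_univ_push_etale g hg D b' U₁ θ₁
  have he₁' : IsUnivOver g D b' U₁ e₁ := he₁
  obtain ⟨e'', he''⟩ := isUnivOver_bc b p b' hb' U₁ e₁ he₁'
  haveI : QuasiCompact U₁.hom := (Groth.Agent.Lib.Helper4.DescLimEff.qcqs_of_iso g hg D b' U₁ θ₁).1
  haveI : IsSeparated U₁.hom := isSeparated_of_iso g D hg b' U₁ θ₁
  obtain ⟨U, hU, -, -, hθ⟩ := exists_iso_of_isUnivOver_fpqc (pullback.snd g b) (bcDD g D b) p U₁ e'' he''
  exact ⟨U, hU, hθ⟩

end Groth.Agent.Lib.Helper4.DescFpqcComp
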