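import Mathlib
import Groth.Prelude.Def_DescFam
import Groth.Prelude.Def_SGA1
import Groth.Agent.Lib.Helper4.DescFpqcComp

/-!
# Effectivity of étale descent data over a local ring descends from a flat local extension (helper4)

* `flat_surjective_specMap_of_isLocalHom`: a flat local homomorphism of local rings induces a flat surjective morphism of spectra.
* `exists_iso_stalk_of_local_alg`: for `a : S` and a flat local `O_{S,a}`-algebra `R`, effectivity (in étale schemes) of the base change
  of an étale separated quasi-compact descent datum to `Spec R` implies effectivity of its base change to `Spec O_{S,a}`.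
-/

set_option autoImplicit false
set_option backward.isDefEq.respectTransparency false
set_option linter.style.haveILetI false
universe u
open CategoryTheory CategoryTheory.Limits AlgebraicGeometry

namespace Groth.Agent.Lib.Helper4.DescFpqcLocal

open Desc Groth.Agent.Lib.Helper4.DescEtLoc Groth.Agent.Lib.Helper4.DescFpqcComp

theorem flat_surjective_specMap_of_isLocalHom {A B : Type u} [CommRing A] [CommRing B] [IsLocalRing A] [IsLocalRing B]
    [Algebra A B] [Module.Flat A B] [IsLocalHom (algebraMap A B)] :
    Flat (Spec.map (CommRingCat.ofHom (algebraMap A B))) ∧ Surjective (Spec.map (CommRingCat.ofHom (algebraMap A B))) := by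
  rw [flat_and_surjective_SpecMap_iff]
  show (algebraMap A B).FaithfullyFlat
  rw [RingHom.faithfullyFlat_algebraMap_iff]
  exact Module.FaithfullyFlat.of_flat_of_isLocalHom

variable {S S' : Scheme.{u}} (g : S' ⟶ S) (hg : SGA1.UnivSubmersive g) [QuasiCompact g] [QuasiSeparated g]
  (D : SchDDFam (fun _ : PUnit.{1} => g)) [Etale (D.obj PUnit.unit).hom] [IsSeparated (D.obj PUnit.unit).hom]
  [QuasiCompact (D.obj PUnit.unit).hom]

include hg in
theorem exists_iso_stalk_of_local_alg (a : S) (R : Type u) [CommRing R] [IsLocalRing R] [Algebra (S.presheaf.stalk a) R]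
    [Module.Flat (S.presheaf.stalk a) R] [IsLocalHom (algebraMap (S.presheaf.stalk a) R)]
    (U₁ : Over (Spec (CommRingCat.of R))) [Etale U₁.hom]
    (θ₁ : (toDDFam (fun _ : PUnit.{1} => pullback.snd g
        (Spec.map (CommRingCat.ofHom (algebraMap (S.presheaf.stalk a) R)) ≫ S.fromSpecStalk a))).obj U₁ ≅
      bcDD g D (Spec.map (CommRingCat.ofHom (algebraMap (S.presheaf.stalk a) R)) ≫ S.fromSpecStalk a)) :
    ∃ U : Over (Spec (S.presheaf.stalk a)), Etale U.hom ∧
      Nonempty ((toDDFam (fun _ : PUnit.{1} => pullback.snd g (S.fromSpecStalk a))).obj U ≅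
        bcDD g D (S.fromSpecStalk a)) := by
  obtain ⟨h1, h2⟩ := flat_surjective_specMap_of_isLocalHom (A := S.presheaf.stalk a) (B := R)
  haveI := h1
  haveI := h2
  exact exists_iso_of_fpqc_comp g D hg (S.fromSpecStalk a)
    (Spec.map (CommRingCat.ofHom (algebraMap (S.presheaf.stalk a) R)))
    (Spec.map (CommRingCat.ofHom (algebraMap (S.presheaf.stalk a) R)) ≫ S.fromSpecStalk a) rfl U₁ θ₁

end Groth.Agent.Lib.Helper4.DescFpqcLocal
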