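import Mathlib
import Groth.Prelude.Def_DescFam
import Groth.Prelude.Def_SGA1
import Groth.Agent.Lib.Helper4.DescLimEff
import Groth.Agent.Lib.Helper9.LocLim1

/-!
# Effectivity of étale descent data at a local ring and in a neighbourhood (helper4)

`g : S' ⟶ S` universally submersive, quasi-compact, quasi-separated and locally of finite presentation, `D` a descent datum relative
to `g` whose underlying `S'`-scheme is étale, quasi-compact and quasi-separated, `a : S`.
* `exists_nhd_of_stalk`: if the base change of `D` to `Spec O_{S,a}` is the canonical datum of an étale scheme, then so is the base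
  change of `D` to some open neighbourhood of `a` (SGA 1 IX).
* `exists_stalk_of_nhd`: the (formal) converse.
-/

set_option autoImplicit false
set_option backward.isDefEq.respectTransparency false
set_option linter.style.haveILetI false
universe w u
open CategoryTheory CategoryTheory.Limits AlgebraicGeometry

namespace Groth.Agent.Lib.Helper4.DescStalk

open Desc Groth.Agent.Lib.Helper4.DescPull Groth.Agent.Lib.Helper4.DescEtLoc Groth.Agent.Lib.Helper4.DescBCUniv
  Groth.Agent.Lib.Helper4.DescLimEff Groth.Agent.Lib.helper9.LocLim Opposite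

variable {S S' : Scheme.{u}} (g : S' ⟶ S) (hg : SGA1.UnivSubmersive g)
  (D : SchDDFam (fun _ : PUnit.{w + 1} => g))

include hg in
theorem exists_stalk_of_nhd (a : S) (W : S.Opens) (ha : a ∈ W) (U : Over (W : Scheme.{u})) [Etale U.hom]
    (θ : (toDDFam (fun _ : PUnit.{w + 1} => pullback.snd g W.ι)).obj U ≅ bcDD g D W.ι) :
    ∃ Ua : Over (Spec (S.presheaf.stalk a)), Etale Ua.hom ∧
      Nonempty ((toDDFam (fun _ : PUnit.{w + 1} => pullback.snd g (S.fromSpecStalk a))).obj Ua ≅
        bcDD g D (S.fromSpecStalk a)) := by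
  refine ⟨Over.mk (pullback.fst (W.fromSpecStalkOfMem a ha) U.hom), ?_,
    exists_iso_bc_comp g D hg W.ι U θ (W.fromSpecStalkOfMem a ha) (S.fromSpecStalk a)
      (Scheme.Opens.fromSpecStalkOfMem_ι W a ha)⟩
  show Etale (pullback.fst (W.fromSpecStalkOfMem a ha) U.hom)
  infer_instance

variable [LocallyOfFinitePresentation g] [QuasiCompact g] [QuasiSeparated g]
  [Etale (D.obj PUnit.unit).hom] [QuasiCompact (D.obj PUnit.unit).hom] [QuasiSeparated (D.obj PUnit.unit).hom]

include hg in
theorem exists_nhd_of_stalk (a : S) (Ua : Over (Spec (S.presheaf.stalk a))) [Etale Ua.hom]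
    (θ : (toDDFam (fun _ : PUnit.{w + 1} => pullback.snd g (S.fromSpecStalk a))).obj Ua ≅
      bcDD g D (S.fromSpecStalk a)) :
    ∃ W : S.Opens, a ∈ W ∧ ∃ U : Over (W : Scheme.{u}), Etale U.hom ∧
      Nonempty ((toDDFam (fun _ : PUnit.{w + 1} => pullback.snd g W.ι)).obj U ≅ bcDD g D W.ι) := by
  -- an affine open neighbourhood
  obtain ⟨W₀, hW₀, haW₀⟩ : ∃ W₀ : S.Opens, IsAffineOpen W₀ ∧ a ∈ W₀ := by
    obtain ⟨W₀, hW₀, haW₀, -⟩ := TopologicalSpace.Opens.isBasis_iff_nbhd.mp
      S.isBasis_affineOpens (TopologicalSpace.Opens.mem_top a)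
    exact ⟨W₀, hW₀, haW₀⟩
  -- the limit presentation of `Spec O_{S,a}`
  letI : Algebra Γ(S, W₀) (S.presheaf.stalk a) := S.presheaf.algebra_section_stalk ⟨a, haW₀⟩
  haveI hloc : IsLocalization.AtPrime (S.presheaf.stalk a) (hW₀.primeIdealOf ⟨a, haW₀⟩).asIdeal :=
    hW₀.isLocalization_stalk ⟨a, haW₀⟩
  let M : Submonoid Γ(S, W₀) := (hW₀.primeIdealOf ⟨a, haW₀⟩).asIdeal.primeCompl
  let DI := specDiagram M
  let c := specCone M (S.presheaf.stalk a)
  have hc : IsLimit c := isLimitSpecCone M (S.presheaf.stalk a)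
  let β : DI ⟶ (Functor.const (Idx M)ᵒᵖ).obj S :=
    { app := fun k => toBase M k ≫ hW₀.fromSpec
      naturality := fun k k' m => by
        simp only [Functor.const_obj_obj, Functor.const_obj_map, Category.comp_id]
        rw [← Category.assoc, specDiagram_map_toBase] }
  have hbL : ∀ k, c.π.app k ≫ β.app k = S.fromSpecStalk a := by
    intro k
    rw [← hW₀.fromSpecStalk_eq_fromSpecStalk haW₀, IsAffineOpen.fromSpecStalk]
    show (specCone M (S.presheaf.stalk a)).π.app k ≫ toBase M k ≫ hW₀.fromSpec = _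
    rw [← Category.assoc, specCone_π_toBase]
    rfl
  haveI hDI : ∀ (i j : (Idx M)ᵒᵖ) (f : i ⟶ j), IsAffineHom (DI.map f) := fun i j f =>
    (inferInstance : IsAffineHom ((specDiagram M).map f))
  haveI hcpt : ∀ i, CompactSpace (DI.obj i) := fun i =>
    (inferInstance : CompactSpace ((specDiagram M).obj i))
  haveI hqs : ∀ i, QuasiSeparatedSpace (DI.obj i) := fun i =>
    (inferInstance : QuasiSeparatedSpace ((specDiagram M).obj i))
  obtain ⟨k, U, hU, ⟨θk⟩⟩ := exists_effective_stage g hg D DI c hc β (S.fromSpecStalk a) hbL Ua θ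
  haveI := hU
  -- the open neighbourhood
  haveI : IsOpenImmersion (β.app k) := by
    show IsOpenImmersion (toBase M k ≫ hW₀.fromSpec)
    infer_instance
  refine ⟨(β.app k).opensRange, ?_, Over.mk (pullback.fst (β.app k).isoOpensRange.inv U.hom), ?_,
    exists_iso_bc_comp g D hg (β.app k) U θk (β.app k).isoOpensRange.inv (β.app k).opensRange.ι
      (Scheme.Hom.isoOpensRange_inv_comp (β.app k))⟩
  · have h1 : (S.fromSpecStalk a) (IsLocalRing.closedPoint (S.presheaf.stalk a)) = a :=
      Scheme.fromSpecStalk_closedPoint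
    rw [← hbL k] at h1
    exact ⟨(c.π.app k) (IsLocalRing.closedPoint (S.presheaf.stalk a)), h1⟩
  · show Etale (pullback.fst (β.app k).isoOpensRange.inv U.hom)
    infer_instance

end Groth.Agent.Lib.Helper4.DescStalk
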