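import Mathlib
import Groth.Prelude.Def_DescFam
import Groth.Agent.Lib.Helper4.DescGamma
import Groth.Agent.Lib.Helper4.DescPull
import Groth.Agent.Lib.Helper4.DescFF
import Groth.Agent.Lib.Helper4.SheafGlue

/-!
# Pullback of descent data along a refinement is fully faithful (helper4)

For families `u i : U i ⟶ S`, `v j : V j ⟶ S` and a refinement `(α, g)`, `g i : U i ⟶ V (α i)` over `S`, the pullback functor
`SchDDFam v ⥤ SchDDFam u` is full and faithful as soon as every point of every `V j` lifts, fpqc-locally, to a point of some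
`U i` (`HasLocalLifts`); this holds when `u` is an fpqc covering family of `S`, and when for every `j` the `g i` with `α i = j`
form an fpqc covering family of `V j`.
-/

set_option autoImplicit false
set_option backward.isDefEq.respectTransparency false
set_option linter.unusedSectionVars false
universe w' w u
open CategoryTheory CategoryTheory.Limits AlgebraicGeometry

namespace Groth.Agent.Lib.Helper4.DescPullFF

open Desc Groth.Agent.Lib.Helper4.DescGamma Groth.Agent.Lib.Helper4.SheafGlue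

variable {S : Scheme.{u}} {ι : Type w} {κ : Type w'} {U : ι → Scheme.{u}} {V : κ → Scheme.{u}}
  {u : ∀ i, U i ⟶ S} {v : ∀ j, V j ⟶ S} {α : ι → κ} {g : ∀ i, U i ⟶ V (α i)}
  (ww : ∀ i, g i ≫ v (α i) = u i ≫ 𝟙 S)

include ww in
theorem cond {W : Scheme.{u}} {i : ι} {j : κ} (x : W ⟶ U i) (y : W ⟶ V j) (h : x ≫ u i = y ≫ v j) :
    (x ≫ g i) ≫ v (α i) = y ≫ v j := by
  rw [Category.assoc, ww, Category.comp_id, h]

section mpt

variable {D E : SchDDFam v} (m : (pullDDFam ww).obj D ⟶ (pullDDFam ww).obj E)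

theorem hom_left_snd (i : ι) : (m.hom i).left ≫ pullback.snd (E.obj (α i)).hom (g i) =
    pullback.snd (D.obj (α i)).hom (g i) := Over.w (m.hom i)

/-- the value of `m` at a point of `D (α i) ×_{V (α i)} U i`, projected to `E (α i)` -/
noncomputable def mpt {W : Scheme.{u}} (i : ι) (x : W ⟶ U i) (e : W ⟶ (D.obj (α i)).left)
    (he : e ≫ (D.obj (α i)).hom = x ≫ g i) : W ⟶ (E.obj (α i)).left :=
  pullback.lift e x he ≫ (m.hom i).left ≫ pullback.fst (E.obj (α i)).hom (g i)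

theorem mpt_hom {W : Scheme.{u}} (i : ι) (x : W ⟶ U i) (e : W ⟶ (D.obj (α i)).left)
    (he : e ≫ (D.obj (α i)).hom = x ≫ g i) : mpt ww m i x e he ≫ (E.obj (α i)).hom = x ≫ g i := by
  rw [mpt, Category.assoc, Category.assoc, pullback.condition, ← Category.assoc (m.hom i).left, hom_left_snd,
    pullback.lift_snd_assoc]

theorem comp_mpt {W W' : Scheme.{u}} (c : W' ⟶ W) (i : ι) (x : W ⟶ U i) (e : W ⟶ (D.obj (α i)).left)
    (he : e ≫ (D.obj (α i)).hom = x ≫ g i) :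
    c ≫ mpt ww m i x e he = mpt ww m i (c ≫ x) (c ≫ e) (by rw [Category.assoc, he, Category.assoc]) := by
  rw [mpt, mpt, ← Category.assoc]
  congr 1
  apply pullback.hom_ext <;> simp

theorem mpt_congr {W : Scheme.{u}} (i : ι) {x x' : W ⟶ U i} {e e' : W ⟶ (D.obj (α i)).left}
    (he : e ≫ (D.obj (α i)).hom = x ≫ g i) (hx : x = x') (hee : e = e') :
    mpt ww m i x e he = mpt ww m i x' e' (by rw [← hx, ← hee]; exact he) := by
  subst hx hee; rfl

/-- `Hom.comm` in unbundled form. -/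
theorem comm_ph {κ' : Type w} {Y : κ' → Scheme.{u}} {q : ∀ k, Y k ⟶ S} {D₁ D₂ : SchDDFam q} (c : D₁ ⟶ D₂)
    {W : Scheme.{u}} {i j : κ'} (y₀ : W ⟶ Y i) (y₁ : W ⟶ Y j) (hy : y₀ ≫ q i = y₁ ≫ q j)
    (d : W ⟶ (D₁.obj i).left) (hd : d ≫ (D₁.obj i).hom = y₀) :
    ph D₂ y₀ y₁ hy (d ≫ (c.hom i).left) (by rw [Category.assoc, Over.w (c.hom i), hd]) =
      ph D₁ y₀ y₁ hy d hd ≫ (c.hom j).left :=
  c.comm y₀ y₁ hy ⟨d, hd⟩ ⟨d ≫ (c.hom i).left, by rw [Category.assoc, Over.w (c.hom i), hd]⟩ rfl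

/-- the gluing bijections of the pulled back datum -/
theorem ph_pull_eq (D : SchDDFam v) {W : Scheme.{u}} {i₀ i₁ : ι} (x₀ : W ⟶ U i₀) (x₁ : W ⟶ U i₁)
    (h : x₀ ≫ u i₀ = x₁ ≫ u i₁) (e : W ⟶ (D.obj (α i₀)).left) (he : e ≫ (D.obj (α i₀)).hom = x₀ ≫ g i₀) :
    ph ((pullDDFam ww).obj D) x₀ x₁ h (pullback.lift e x₀ he) (pullback.lift_snd _ _ _) =
      pullback.lift (ph D (x₀ ≫ g i₀) (x₁ ≫ g i₁) (pull_compat ww x₀ x₁ h) e he) x₁ (ph_hom D _ _ _ e he) := by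
  apply pullback.hom_ext
  · rw [pullback.lift_fst]
    refine (DescPull.ph_pull ww D x₀ x₁ h _ _).trans ?_
    exact ph_congr D _ _ rfl rfl (pullback.lift_fst _ _ _)
  · rw [pullback.lift_snd]
    exact ph_hom ((pullDDFam ww).obj D) x₀ x₁ h _ _

/-- `m` is compatible with the gluing bijections -/
theorem ph_mpt {W : Scheme.{u}} {i₀ i₁ : ι} (x₀ : W ⟶ U i₀) (x₁ : W ⟶ U i₁) (h : x₀ ≫ u i₀ = x₁ ≫ u i₁)
    (e : W ⟶ (D.obj (α i₀)).left) (he : e ≫ (D.obj (α i₀)).hom = x₀ ≫ g i₀) :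
    ph E (x₀ ≫ g i₀) (x₁ ≫ g i₁) (pull_compat ww x₀ x₁ h) (mpt ww m i₀ x₀ e he) (mpt_hom ww m i₀ x₀ e he) =
      mpt ww m i₁ x₁ (ph D (x₀ ≫ g i₀) (x₁ ≫ g i₁) (pull_compat ww x₀ x₁ h) e he) (ph_hom D _ _ _ e he) := by
  have hd : pullback.lift e x₀ he ≫ (((pullDDFam ww).obj D).obj i₀).hom = x₀ := pullback.lift_snd _ _ _
  have h1 := comm_ph m x₀ x₁ h (pullback.lift e x₀ he) hd
  have h2 := congrArg (· ≫ pullback.fst (E.obj (α i₁)).hom (g i₁)) h1
  rw [DescPull.ph_pull ww E x₀ x₁ h] at h2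
  rw [ph_pull_eq ww D x₀ x₁ h e he] at h2
  refine Eq.trans ?_ (h2.trans (Category.assoc _ _ _))
  exact ph_congr E _ _ rfl rfl (by rw [mpt, Category.assoc])

end mpt

section loc

variable {D E : SchDDFam v} (m : (pullDDFam ww).obj D ⟶ (pullDDFam ww).obj E)

/-- the value at a point `d` of `D j` of the morphism induced by `m`, computed using a lift `x` of the point to `U i` -/
noncomputable def loc {W : Scheme.{u}} (j : κ) (i : ι) (x : W ⟶ U i) (y : W ⟶ V j) (h : x ≫ u i = y ≫ v j)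
    (d : W ⟶ (D.obj j).left) (hd : d ≫ (D.obj j).hom = y) : W ⟶ (E.obj j).left :=
  ph E (x ≫ g i) y (cond ww x y h)
    (mpt ww m i x (ph D y (x ≫ g i) (cond ww x y h).symm d hd) (ph_hom D _ _ _ d hd)) (mpt_hom ww m i x _ _)

theorem loc_hom {W : Scheme.{u}} (j : κ) (i : ι) (x : W ⟶ U i) (y : W ⟶ V j) (h : x ≫ u i = y ≫ v j)
    (d : W ⟶ (D.obj j).left) (hd : d ≫ (D.obj j).hom = y) : loc ww m j i x y h d hd ≫ (E.obj j).hom = y :=
  ph_hom E _ _ _ _ _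

theorem loc_congr {W : Scheme.{u}} (j : κ) (i : ι) {x x' : W ⟶ U i} {y y' : W ⟶ V j} (h : x ≫ u i = y ≫ v j)
    {d d' : W ⟶ (D.obj j).left} (hd : d ≫ (D.obj j).hom = y) (hx : x = x') (hy : y = y') (hdd : d = d') :
    loc ww m j i x y h d hd = loc ww m j i x' y' (by rw [← hx, ← hy]; exact h) d' (by rw [← hdd, ← hy]; exact hd) := by
  subst hx hy hdd; rfl

theorem comp_loc {W W' : Scheme.{u}} (c : W' ⟶ W) (j : κ) (i : ι) (x : W ⟶ U i) (y : W ⟶ V j)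
    (h : x ≫ u i = y ≫ v j) (d : W ⟶ (D.obj j).left) (hd : d ≫ (D.obj j).hom = y) :
    c ≫ loc ww m j i x y h d hd = loc ww m j i (c ≫ x) (c ≫ y) (by rw [Category.assoc, h, Category.assoc])
      (c ≫ d) (by rw [Category.assoc, hd]) := by
  rw [loc, loc, comp_ph]
  refine ph_congr E _ _ (Category.assoc _ _ _).symm rfl ?_
  rw [comp_mpt]
  refine mpt_congr ww m i _ rfl ?_
  rw [comp_ph]
  exact ph_congr D _ _ rfl (Category.assoc _ _ _).symm rfl

theorem loc_indep {W : Scheme.{u}} (j : κ) (i₀ i₁ : ι) (x₀ : W ⟶ U i₀) (x₁ : W ⟶ U i₁) (y : W ⟶ V j)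
    (h₀ : x₀ ≫ u i₀ = y ≫ v j) (h₁ : x₁ ≫ u i₁ = y ≫ v j) (d : W ⟶ (D.obj j).left)
    (hd : d ≫ (D.obj j).hom = y) : loc ww m j i₀ x₀ y h₀ d hd = loc ww m j i₁ x₁ y h₁ d hd := by
  have hx : x₀ ≫ u i₀ = x₁ ≫ u i₁ := h₀.trans h₁.symm
  have e1 : ph D y (x₁ ≫ g i₁) (cond ww x₁ y h₁).symm d hd =
      ph D (x₀ ≫ g i₀) (x₁ ≫ g i₁) (pull_compat ww x₀ x₁ hx)
        (ph D y (x₀ ≫ g i₀) (cond ww x₀ y h₀).symm d hd) (ph_hom D _ _ _ d hd) :=
    (ph_ph D y (x₀ ≫ g i₀) (x₁ ≫ g i₁) _ _ d hd).symm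
  have e2 : mpt ww m i₁ x₁ (ph D y (x₁ ≫ g i₁) (cond ww x₁ y h₁).symm d hd) (ph_hom D _ _ _ d hd) =
      ph E (x₀ ≫ g i₀) (x₁ ≫ g i₁) (pull_compat ww x₀ x₁ hx)
        (mpt ww m i₀ x₀ (ph D y (x₀ ≫ g i₀) (cond ww x₀ y h₀).symm d hd) (ph_hom D _ _ _ d hd))
        (mpt_hom ww m i₀ x₀ _ _) := by
    rw [ph_mpt ww m x₀ x₁ hx]
    exact mpt_congr ww m i₁ _ rfl e1
  have e3 : ph E (x₁ ≫ g i₁) y (cond ww x₁ y h₁)
      (mpt ww m i₁ x₁ (ph D y (x₁ ≫ g i₁) (cond ww x₁ y h₁).symm d hd) (ph_hom D _ _ _ d hd))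
      (mpt_hom ww m i₁ x₁ _ _) =
      ph E (x₁ ≫ g i₁) y (cond ww x₁ y h₁)
        (ph E (x₀ ≫ g i₀) (x₁ ≫ g i₁) (pull_compat ww x₀ x₁ hx)
          (mpt ww m i₀ x₀ (ph D y (x₀ ≫ g i₀) (cond ww x₀ y h₀).symm d hd) (ph_hom D _ _ _ d hd))
          (mpt_hom ww m i₀ x₀ _ _)) (ph_hom E _ _ _ _ _) :=
    ph_congr E _ _ rfl rfl e2
  rw [loc, loc]
  exact ((ph_ph E (x₀ ≫ g i₀) (x₁ ≫ g i₁) y _ _ _ _).symm).trans e3.symm

end loc

section lifts

variable (u v)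

/-- fpqc-locally, every point of every `V j` lifts to a point of some `U i` with the same image in `S` -/
def HasLocalLifts : Prop :=
  ∀ (j : κ) (T : Scheme.{u}) (t : T ⟶ V j), ∃ (K : Type w) (Tk : K → Scheme.{u}) (c : ∀ k, Tk k ⟶ T),
    Presieve.ofArrows Tk c ∈ Scheme.fpqcPrecoverage T ∧
      ∀ k, ∃ (i : ι) (x : Tk k ⟶ U i), x ≫ u i = c k ≫ t ≫ v j

variable {u v}

theorem hom_ext_of_lifts (H : HasLocalLifts u v) {j : κ} {T Z : Scheme.{u}} (t : T ⟶ V j) (a b : T ⟶ Z)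
    (hab : ∀ (W : Scheme.{u}) (c : W ⟶ T) (i : ι) (x : W ⟶ U i), x ≫ u i = c ≫ t ≫ v j → c ≫ a = c ≫ b) :
    a = b := by
  obtain ⟨K, Tk, c, hcov, hl⟩ := H j T t
  refine hom_ext_of_fpqc Tk c hcov a b (fun k => ?_)
  obtain ⟨i, x, hx⟩ := hl k
  exact hab (Tk k) (c k) i x hx

theorem exists_glue_of_lifts (H : HasLocalLifts u v) {j : κ} {T Z : Scheme.{u}} (t : T ⟶ V j)
    (lc : ∀ (W : Scheme.{u}) (c : W ⟶ T) (i : ι) (x : W ⟶ U i), x ≫ u i = c ≫ t ≫ v j → (W ⟶ Z))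
    (nat : ∀ (W W' : Scheme.{u}) (c' : W' ⟶ W) (c : W ⟶ T) (i : ι) (x : W ⟶ U i) (h : x ≫ u i = c ≫ t ≫ v j),
      c' ≫ lc W c i x h = lc W' (c' ≫ c) i (c' ≫ x) (by rw [Category.assoc, h, Category.assoc]))
    (indep : ∀ (W : Scheme.{u}) (c : W ⟶ T) (i i' : ι) (x : W ⟶ U i) (x' : W ⟶ U i')
      (h : x ≫ u i = c ≫ t ≫ v j) (h' : x' ≫ u i' = c ≫ t ≫ v j), lc W c i x h = lc W c i' x' h') :
    ∃ z : T ⟶ Z, ∀ (W : Scheme.{u}) (c : W ⟶ T) (i : ι) (x : W ⟶ U i) (h : x ≫ u i = c ≫ t ≫ v j),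
      c ≫ z = lc W c i x h := by
  have indep' : ∀ (W : Scheme.{u}) (c c' : W ⟶ T) (_ : c = c') (i i' : ι) (x : W ⟶ U i) (x' : W ⟶ U i')
      (h : x ≫ u i = c ≫ t ≫ v j) (h' : x' ≫ u i' = c' ≫ t ≫ v j), lc W c i x h = lc W c' i' x' h' := by
    rintro W c _ rfl i i' x x' h h'
    exact indep W c i i' x x' h h'
  obtain ⟨K, Tk, ck, hcov, hl⟩ := H j T t
  choose ik xk hxk using hl
  obtain ⟨z, hz⟩ := exists_glue_of_fpqc Tk ck hcov (fun k => lc (Tk k) (ck k) (ik k) (xk k) (hxk k)) (by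
    intro k k' W gk gk' hg
    rw [nat, nat]
    exact indep' W _ _ hg _ _ _ _ _ _)
  refine ⟨z, fun W c i x h => ?_⟩
  refine hom_ext_of_fpqc _ _ (DescFF.pullback_cover ck hcov c) _ _ (fun k => ?_)
  have e1 : pullback.snd (ck k) c ≫ c ≫ z = pullback.fst (ck k) c ≫ lc (Tk k) (ck k) (ik k) (xk k) (hxk k) := by
    rw [← hz k, ← Category.assoc, ← Category.assoc, pullback.condition]
  rw [e1, nat, nat]
  exact indep' _ _ _ pullback.condition _ _ _ _ _ _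

end lifts

section main

variable {D E : SchDDFam v}

/-- the local values are compatible with the gluing bijections -/
theorem ph_loc (m : (pullDDFam ww).obj D ⟶ (pullDDFam ww).obj E) {W : Scheme.{u}} (j₀ j₁ : κ) (i : ι)
    (x : W ⟶ U i) (y₀ : W ⟶ V j₀) (y₁ : W ⟶ V j₁) (h₀ : x ≫ u i = y₀ ≫ v j₀) (h₁ : x ≫ u i = y₁ ≫ v j₁)
    (d : W ⟶ (D.obj j₀).left) (hd : d ≫ (D.obj j₀).hom = y₀) :
    ph E y₀ y₁ (h₀.symm.trans h₁) (loc ww m j₀ i x y₀ h₀ d hd) (loc_hom ww m j₀ i x y₀ h₀ d hd) =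
      loc ww m j₁ i x y₁ h₁ (ph D y₀ y₁ (h₀.symm.trans h₁) d hd) (ph_hom D _ _ _ d hd) := by
  have e1 : ph D y₁ (x ≫ g i) (cond ww x y₁ h₁).symm (ph D y₀ y₁ (h₀.symm.trans h₁) d hd) (ph_hom D _ _ _ d hd) =
      ph D y₀ (x ≫ g i) (cond ww x y₀ h₀).symm d hd :=
    ph_ph D y₀ y₁ (x ≫ g i) _ _ d hd
  have e2 : mpt ww m i x (ph D y₁ (x ≫ g i) (cond ww x y₁ h₁).symm (ph D y₀ y₁ (h₀.symm.trans h₁) d hd)
      (ph_hom D _ _ _ d hd)) (ph_hom D _ _ _ _ _) =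
      mpt ww m i x (ph D y₀ (x ≫ g i) (cond ww x y₀ h₀).symm d hd) (ph_hom D _ _ _ d hd) :=
    mpt_congr ww m i _ rfl e1
  have e3 : loc ww m j₁ i x y₁ h₁ (ph D y₀ y₁ (h₀.symm.trans h₁) d hd) (ph_hom D _ _ _ d hd) =
      ph E (x ≫ g i) y₁ (cond ww x y₁ h₁)
        (mpt ww m i x (ph D y₀ (x ≫ g i) (cond ww x y₀ h₀).symm d hd) (ph_hom D _ _ _ d hd))
        (mpt_hom ww m i x _ _) := by
    rw [loc]
    exact ph_congr E _ _ rfl rfl e2
  rw [e3]
  exact ph_ph E (x ≫ g i) y₀ y₁ _ _ _ _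

variable (H : HasLocalLifts u v)

include H in
theorem exists_hom_left (m : (pullDDFam ww).obj D ⟶ (pullDDFam ww).obj E) (j : κ) :
    ∃ n : (D.obj j).left ⟶ (E.obj j).left, ∀ (W : Scheme.{u}) (d : W ⟶ (D.obj j).left) (i : ι) (x : W ⟶ U i)
      (h : x ≫ u i = d ≫ (D.obj j).hom ≫ v j),
      d ≫ n = loc ww m j i x (d ≫ (D.obj j).hom) (by rw [h, Category.assoc]) d rfl :=
  exists_glue_of_lifts H (D.obj j).hom
    (fun W c i x h => loc ww m j i x (c ≫ (D.obj j).hom) (by rw [h, Category.assoc]) c rfl)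
    (fun W W' c' c i x h => (comp_loc ww m c' j i x _ _ c rfl).trans
      (loc_congr ww m j i _ _ rfl (Category.assoc _ _ _).symm rfl))
    (fun W c i i' x x' h h' => loc_indep ww m j i i' x x' _ _ _ c rfl)

theorem map_hom_left_fst (a : D ⟶ E) (i : ι) :
    (((pullDDFam ww).map a).hom i).left ≫ pullback.fst (E.obj (α i)).hom (g i) =
      pullback.fst (D.obj (α i)).hom (g i) ≫ (a.hom (α i)).left := pullback.lift_fst _ _ _

/-- the local value of the pullback of a morphism of descent data is the value of the morphism -/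
theorem loc_map (a : D ⟶ E) {W : Scheme.{u}} (j : κ) (i : ι) (x : W ⟶ U i) (y : W ⟶ V j)
    (h : x ≫ u i = y ≫ v j) (d : W ⟶ (D.obj j).left) (hd : d ≫ (D.obj j).hom = y) :
    loc ww ((pullDDFam ww).map a) j i x y h d hd = d ≫ (a.hom j).left := by
  have e1 : ∀ (e : W ⟶ (D.obj (α i)).left) (he : e ≫ (D.obj (α i)).hom = x ≫ g i),
      mpt ww ((pullDDFam ww).map a) i x e he = e ≫ (a.hom (α i)).left := by
    intro e he
    rw [mpt, map_hom_left_fst, pullback.lift_fst_assoc]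
  rw [loc]
  refine (ph_congr E _ _ rfl rfl (e1 _ _)).trans ?_
  rw [comm_ph a]
  congr 1
  exact (ph_ph D y (x ≫ g i) y _ _ d hd).trans (ph_self D y d hd)

include H in
theorem faithful_pullDDFam : (pullDDFam (f := v) (f' := u) (α := α) (p := 𝟙 S) (p' := g) ww).Faithful := by
  constructor
  intro D E a b hab
  apply SchDDFam.hom_ext
  funext j
  apply Over.OverMorphism.ext
  refine hom_ext_of_lifts H (D.obj j).hom _ _ (fun W c i x h => ?_)
  have hx : x ≫ u i = (c ≫ (D.obj j).hom) ≫ v j := by rw [h, Category.assoc]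
  rw [← loc_map ww a j i x (c ≫ (D.obj j).hom) hx c rfl, ← loc_map ww b j i x (c ≫ (D.obj j).hom) hx c rfl, hab]

include H in
theorem full_pullDDFam : (pullDDFam (f := v) (f' := u) (α := α) (p := 𝟙 S) (p' := g) ww).Full := by
  constructor
  intro D E m
  choose n hn using exists_hom_left ww H m
  have hnw : ∀ j, n j ≫ (E.obj j).hom = (D.obj j).hom := fun j =>
    hom_ext_of_lifts H (D.obj j).hom _ _ (fun W c i x h => by
      rw [← Category.assoc, hn j W c i x h, loc_hom])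
  have hcomm : ∀ ⦃T : Scheme.{u}⦄ ⦃j₀ j₁ : κ⦄ (y₀ : T ⟶ V j₀) (y₁ : T ⟶ V j₁) (h : y₀ ≫ v j₀ = y₁ ≫ v j₁)
      (d : T ⟶ (D.obj j₀).left) (hd : d ≫ (D.obj j₀).hom = y₀),
      ph E y₀ y₁ h (d ≫ n j₀) (by rw [Category.assoc, hnw, hd]) = ph D y₀ y₁ h d hd ≫ n j₁ := by
    intro T j₀ j₁ y₀ y₁ h d hd
    refine hom_ext_of_lifts H y₀ _ _ (fun W c i x hx => ?_)
    have hx0 : x ≫ u i = (c ≫ y₀) ≫ v j₀ := by rw [hx, Category.assoc]
    have hx1 : x ≫ u i = (c ≫ y₁) ≫ v j₁ := by rw [hx0, Category.assoc, h, Category.assoc]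
    have hcd : (c ≫ d) ≫ (D.obj j₀).hom = c ≫ y₀ := by rw [Category.assoc, hd]
    have e1 : c ≫ d ≫ n j₀ = loc ww m j₀ i x (c ≫ y₀) hx0 (c ≫ d) hcd := by
      rw [← Category.assoc, hn j₀ W (c ≫ d) i x (by rw [hx0, ← hcd, Category.assoc])]
      exact loc_congr ww m j₀ i _ _ rfl hcd rfl
    have e2 : ph D (c ≫ y₀) (c ≫ y₁) (hx0.symm.trans hx1) (c ≫ d) hcd ≫ n j₁ =
        loc ww m j₁ i x (c ≫ y₁) hx1 (ph D (c ≫ y₀) (c ≫ y₁) (hx0.symm.trans hx1) (c ≫ d) hcd)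
          (ph_hom D _ _ _ _ _) := by
      rw [hn j₁ W _ i x (hx1.trans (by rw [← Category.assoc, ph_hom]))]
      exact loc_congr ww m j₁ i _ _ rfl (ph_hom D _ _ _ _ _) rfl
    have eR : c ≫ ph D y₀ y₁ h d hd ≫ n j₁ =
        ph D (c ≫ y₀) (c ≫ y₁) (hx0.symm.trans hx1) (c ≫ d) hcd ≫ n j₁ := by
      rw [← Category.assoc, comp_ph]
    refine (comp_ph E c y₀ y₁ h _ _).trans (Eq.trans ?_ eR.symm)
    refine Eq.trans ?_ e2.symm
    refine (ph_congr E _ _ rfl rfl e1).trans ?_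
    exact ph_loc ww m j₀ j₁ i x (c ≫ y₀) (c ≫ y₁) hx0 hx1 (c ≫ d) hcd
  let N : D ⟶ E :=
    { hom := fun j => Over.homMk (n j) (hnw j)
      comm := fun T j₀ j₁ y₀ y₁ h vv w' hw' => by
        have hw2 : w'.1 = vv.1 ≫ n j₀ := hw'
        have e0 : w' = ⟨vv.1 ≫ n j₀, by rw [Category.assoc, hnw]; exact vv.2⟩ := Subtype.ext hw2
        rw [e0]
        exact hcomm y₀ y₁ h vv.1 vv.2 }
  refine ⟨N, ?_⟩
  apply SchDDFam.hom_ext
  funext i
  apply Over.OverMorphism.ext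
  apply pullback.hom_ext
  · rw [map_hom_left_fst]
    change pullback.fst (D.obj (α i)).hom (g i) ≫ n (α i) = _
    have hx : pullback.snd (D.obj (α i)).hom (g i) ≫ u i =
        pullback.fst (D.obj (α i)).hom (g i) ≫ (D.obj (α i)).hom ≫ v (α i) := by
      rw [← Category.assoc, pullback.condition, Category.assoc, ww, Category.comp_id]
    rw [hn (α i) _ (pullback.fst (D.obj (α i)).hom (g i)) i (pullback.snd (D.obj (α i)).hom (g i)) hx, loc]
    have e1 : ph D (pullback.fst (D.obj (α i)).hom (g i) ≫ (D.obj (α i)).hom)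
        (pullback.snd (D.obj (α i)).hom (g i) ≫ g i) (cond ww _ _ (by rw [hx, Category.assoc])).symm
        (pullback.fst (D.obj (α i)).hom (g i)) rfl = pullback.fst (D.obj (α i)).hom (g i) :=
      (ph_congr D _ _ rfl pullback.condition.symm rfl).trans (ph_self D _ _ rfl)
    have e2 : mpt ww m i (pullback.snd (D.obj (α i)).hom (g i)) (pullback.fst (D.obj (α i)).hom (g i))
        pullback.condition = (m.hom i).left ≫ pullback.fst (E.obj (α i)).hom (g i) := by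
      rw [mpt]
      have e3 : pullback.lift (pullback.fst (D.obj (α i)).hom (g i)) (pullback.snd (D.obj (α i)).hom (g i))
          pullback.condition = 𝟙 _ := by apply pullback.hom_ext <;> simp
      rw [e3, Category.id_comp]
    refine (ph_congr E _ _ rfl pullback.condition (mpt_congr ww m i _ rfl e1)).trans ?_
    refine (ph_self E _ _ (mpt_hom ww m i _ _ _)).trans ?_
    exact e2
  · rw [hom_left_snd, hom_left_snd]

end main

section instances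

variable (v) in
theorem hasLocalLifts_of_fpqc (hu : Presieve.ofArrows U u ∈ Scheme.fpqcPrecoverage S) : HasLocalLifts u v := by
  intro j T t
  exact ⟨ι, fun i => pullback (u i) (t ≫ v j), fun i => pullback.snd (u i) (t ≫ v j),
    DescFF.pullback_cover u hu (t ≫ v j), fun i => ⟨i, pullback.fst (u i) (t ≫ v j), pullback.condition⟩⟩

theorem eqToHom_comp_v {j j' : κ} (h : j' = j) : eqToHom (congrArg V h) ≫ v j = v j' := by
  subst h
  simp

theorem hasLocalLifts_of_cover (w : ∀ i, g i ≫ v (α i) = u i)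
    (hcov : ∀ j, Presieve.ofArrows (fun i : {i // α i = j} => U i.1)
      (fun i => g i.1 ≫ eqToHom (congrArg V i.2)) ∈ Scheme.fpqcPrecoverage (V j)) : HasLocalLifts u v := by
  intro j T t
  refine ⟨{i // α i = j}, fun i => pullback (g i.1 ≫ eqToHom (congrArg V i.2)) t,
    fun i => pullback.snd (g i.1 ≫ eqToHom (congrArg V i.2)) t,
    DescFF.pullback_cover (fun i : {i // α i = j} => g i.1 ≫ eqToHom (congrArg V i.2)) (hcov j) t, fun i => ?_⟩
  refine ⟨i.1, pullback.fst (g i.1 ≫ eqToHom (congrArg V i.2)) t, ?_⟩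
  rw [← Category.assoc, ← pullback.condition, ← w i.1, Category.assoc, Category.assoc, eqToHom_comp_v i.2]

end instances

end Groth.Agent.Lib.Helper4.DescPullFF
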