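import Mathlib
import Groth.Prelude.Def_DescFam
import Groth.Agent.Lib.Helper4.DescGamma
import Groth.Agent.Lib.Helper4.DescPull

/-!
# Descending a descent datum along a refinement with universal pairs (helper4)

Let `u i : U i ⟶ S`, `v j : V j ⟶ S` be two families and `D'` a descent datum relative to `u`.  A *universal pair* over `V j`
(`UPair D' j`) is a scheme `Y` over `V j` together with a section `ε` of `D'` over `Y` (as an `S`-scheme) representing the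
functor `T/V j ↦ sections of D' over T`.  If universal pairs exist for all `j`, they form a descent datum `descend P` relative to
`v`, and for every refinement `(α, g)` its pullback is isomorphic to `D'` (`pullIso`).
-/

set_option autoImplicit false
set_option backward.isDefEq.respectTransparency false
set_option linter.unusedSectionVars false
set_option linter.unusedVariables false
universe w' w u
open CategoryTheory CategoryTheory.Limits AlgebraicGeometry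

namespace Groth.Agent.Lib.Helper4.DescRefine

open Desc Groth.Agent.Lib.Helper4.DescGamma Groth.Agent.Lib.Helper4.DescPull

variable {S : Scheme.{u}} {ι : Type w} {κ : Type w'} {U : ι → Scheme.{u}} {V : κ → Scheme.{u}}
  {u : ∀ i, U i ⟶ S} {v : ∀ j, V j ⟶ S}

/-- A universal pair over `V j` for the sections of `D'`. -/
structure UPair (v : ∀ j, V j ⟶ S) (D' : SchDDFam u) (j : κ) where
  /-- the representing scheme over `V j` -/
  Y : Over (V j)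
  /-- the universal section -/
  ε : (toDDFam u).obj (push (v j) Y) ⟶ D'
  exists_lift : ∀ {T : Scheme.{u}} (y : T ⟶ V j) (s : (toDDFam u).obj (Over.mk (y ≫ v j)) ⟶ D'),
    ∃ (d : T ⟶ Y.left) (hd : d ≫ Y.hom = y), ∀ {W : Scheme.{u}} (t : W ⟶ T) {i : ι} (x : W ⟶ U i)
      (hx : x ≫ u i = t ≫ y ≫ v j),
      pt ε x (t ≫ d) (by
        change x ≫ u i = (t ≫ d) ≫ Y.hom ≫ v j
        rw [Category.assoc, ← Category.assoc d, hd]; exact hx) = pt s x t hx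
  unique : ∀ {T : Scheme.{u}} (d d' : T ⟶ Y.left), d ≫ Y.hom = d' ≫ Y.hom →
    (∀ {W : Scheme.{u}} (t : W ⟶ T) {i : ι} (x : W ⟶ U i) (hx : x ≫ u i = (t ≫ d) ≫ (push (v j) Y).hom)
      (hx' : x ≫ u i = (t ≫ d') ≫ (push (v j) Y).hom), pt ε x (t ≫ d) hx = pt ε x (t ≫ d') hx') → d = d'

variable {D' : SchDDFam u}

section rel

variable {j₀ j₁ j₂ : κ} (P₀ : UPair v D' j₀) (P₁ : UPair v D' j₁) (P₂ : UPair v D' j₂)

/-- two points of universal pairs define the same section of `D'` -/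
def Rel {T : Scheme.{u}} (d₀ : T ⟶ P₀.Y.left) (d₁ : T ⟶ P₁.Y.left) : Prop :=
  ∀ (W : Scheme.{u}) (t : W ⟶ T) (i : ι) (x : W ⟶ U i) (h₀ : x ≫ u i = (t ≫ d₀) ≫ (push (v j₀) P₀.Y).hom)
    (h₁ : x ≫ u i = (t ≫ d₁) ≫ (push (v j₁) P₁.Y).hom), pt P₀.ε x (t ≫ d₀) h₀ = pt P₁.ε x (t ≫ d₁) h₁

theorem Rel.refl {T : Scheme.{u}} (d₀ : T ⟶ P₀.Y.left) : Rel P₀ P₀ d₀ d₀ := fun _ _ _ _ _ _ => rfl

variable {P₀ P₁ P₂}

theorem Rel.symm {T : Scheme.{u}} {d₀ : T ⟶ P₀.Y.left} {d₁ : T ⟶ P₁.Y.left} (h : Rel P₀ P₁ d₀ d₁) :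
    Rel P₁ P₀ d₁ d₀ := fun W t i x h₁ h₀ => (h W t i x h₀ h₁).symm

theorem Rel.trans {T : Scheme.{u}} {d₀ : T ⟶ P₀.Y.left} {d₁ : T ⟶ P₁.Y.left} {d₂ : T ⟶ P₂.Y.left}
    (hb : d₀ ≫ P₀.Y.hom ≫ v j₀ = d₁ ≫ P₁.Y.hom ≫ v j₁)
    (h : Rel P₀ P₁ d₀ d₁) (h' : Rel P₁ P₂ d₁ d₂) : Rel P₀ P₂ d₀ d₂ := by
  intro W t i x h₀ h₂
  have h₁ : x ≫ u i = (t ≫ d₁) ≫ (push (v j₁) P₁.Y).hom := by
    change x ≫ u i = (t ≫ d₁) ≫ P₁.Y.hom ≫ v j₁
    rw [Category.assoc, ← hb, ← Category.assoc]; exact h₀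
  exact (h W t i x h₀ h₁).trans (h' W t i x h₁ h₂)

theorem Rel.precomp {T T' : Scheme.{u}} (g : T' ⟶ T) {d₀ : T ⟶ P₀.Y.left} {d₁ : T ⟶ P₁.Y.left}
    (h : Rel P₀ P₁ d₀ d₁) : Rel P₀ P₁ (g ≫ d₀) (g ≫ d₁) := by
  intro W t i x h₀ h₁
  have h₀' : x ≫ u i = ((t ≫ g) ≫ d₀) ≫ (push (v j₀) P₀.Y).hom := by
    rw [Category.assoc t g d₀]; exact h₀
  have h₁' : x ≫ u i = ((t ≫ g) ≫ d₁) ≫ (push (v j₁) P₁.Y).hom := by
    rw [Category.assoc t g d₁]; exact h₁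
  refine (pt_congr P₀.ε h₀ rfl (Category.assoc _ _ _).symm).trans ((h W (t ≫ g) i x h₀' h₁').trans ?_)
  exact pt_congr P₁.ε h₁' rfl (Category.assoc _ _ _)

theorem Rel.eq {T : Scheme.{u}} {d d' : T ⟶ P₀.Y.left} (hb : d ≫ P₀.Y.hom = d' ≫ P₀.Y.hom)
    (h : Rel P₀ P₀ d d') : d = d' :=
  P₀.unique d d' hb (fun {W} t {i} x hx hx' => h W t i x hx hx')

variable (P₀ P₁)

theorem exists_rel {T : Scheme.{u}} (y₀ : T ⟶ V j₀) (y₁ : T ⟶ V j₁) (h : y₀ ≫ v j₀ = y₁ ≫ v j₁)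
    (d₀ : T ⟶ P₀.Y.left) (hd₀ : d₀ ≫ P₀.Y.hom = y₀) :
    ∃ d₁ : T ⟶ P₁.Y.left, d₁ ≫ P₁.Y.hom = y₁ ∧ Rel P₀ P₁ d₀ d₁ := by
  have hk : d₀ ≫ (push (v j₀) P₀.Y).hom = (Over.mk (y₁ ≫ v j₁)).hom := by
    change d₀ ≫ P₀.Y.hom ≫ v j₀ = y₁ ≫ v j₁
    rw [← Category.assoc, hd₀, h]
  let k : Over.mk (y₁ ≫ v j₁) ⟶ push (v j₀) P₀.Y := Over.homMk d₀ hk
  obtain ⟨d₁, hd₁, hpt⟩ := P₁.exists_lift y₁ ((toDDFam u).map k ≫ P₀.ε)
  refine ⟨d₁, hd₁, ?_⟩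
  intro W t i x h₀ h₁
  have hx : x ≫ u i = t ≫ y₁ ≫ v j₁ := by
    have : (t ≫ d₁) ≫ (push (v j₁) P₁.Y).hom = t ≫ y₁ ≫ v j₁ := by
      change (t ≫ d₁) ≫ P₁.Y.hom ≫ v j₁ = _
      rw [Category.assoc, ← Category.assoc d₁, hd₁]
    rw [← this]; exact h₁
  have e1 := hpt t x hx
  have e2 := map_comp_pt k P₀.ε x t hx
  exact e2.symm.trans e1.symm

end rel


section transport

variable {j₀ j₁ j₂ : κ} (P₀ : UPair v D' j₀) (P₁ : UPair v D' j₁) (P₂ : UPair v D' j₂)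

/-- the point of `P₁` over `y₁` defining the same section as `d₀` -/
noncomputable def tp {T : Scheme.{u}} (y₀ : T ⟶ V j₀) (y₁ : T ⟶ V j₁) (h : y₀ ≫ v j₀ = y₁ ≫ v j₁)
    (d₀ : T ⟶ P₀.Y.left) (hd₀ : d₀ ≫ P₀.Y.hom = y₀) : T ⟶ P₁.Y.left :=
  (exists_rel P₀ P₁ y₀ y₁ h d₀ hd₀).choose

theorem tp_hom {T : Scheme.{u}} (y₀ : T ⟶ V j₀) (y₁ : T ⟶ V j₁) (h : y₀ ≫ v j₀ = y₁ ≫ v j₁)
    (d₀ : T ⟶ P₀.Y.left) (hd₀ : d₀ ≫ P₀.Y.hom = y₀) : tp P₀ P₁ y₀ y₁ h d₀ hd₀ ≫ P₁.Y.hom = y₁ :=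
  (exists_rel P₀ P₁ y₀ y₁ h d₀ hd₀).choose_spec.1

theorem tp_rel {T : Scheme.{u}} (y₀ : T ⟶ V j₀) (y₁ : T ⟶ V j₁) (h : y₀ ≫ v j₀ = y₁ ≫ v j₁)
    (d₀ : T ⟶ P₀.Y.left) (hd₀ : d₀ ≫ P₀.Y.hom = y₀) : Rel P₀ P₁ d₀ (tp P₀ P₁ y₀ y₁ h d₀ hd₀) :=
  (exists_rel P₀ P₁ y₀ y₁ h d₀ hd₀).choose_spec.2

theorem eq_tp {T : Scheme.{u}} (y₀ : T ⟶ V j₀) (y₁ : T ⟶ V j₁) (h : y₀ ≫ v j₀ = y₁ ≫ v j₁)
    (d₀ : T ⟶ P₀.Y.left) (hd₀ : d₀ ≫ P₀.Y.hom = y₀) (d₁ : T ⟶ P₁.Y.left) (hd₁ : d₁ ≫ P₁.Y.hom = y₁)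
    (hr : Rel P₀ P₁ d₀ d₁) : d₁ = tp P₀ P₁ y₀ y₁ h d₀ hd₀ := by
  apply Rel.eq (P₀ := P₁)
  · rw [hd₁, tp_hom]
  · refine Rel.trans ?_ hr.symm (tp_rel P₀ P₁ y₀ y₁ h d₀ hd₀)
    rw [← Category.assoc, hd₁, ← Category.assoc, hd₀, h]

end transport

section descend

variable (P : ∀ j, UPair v D' j)

/-- the descent datum relative to `v` formed by universal pairs -/
noncomputable def descend : SchDDFam v where
  obj j := (P j).Y
  φ T j₀ j₁ y₀ y₁ h :=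
    { toFun := fun d => ⟨tp (P j₀) (P j₁) y₀ y₁ h d.1 d.2, tp_hom _ _ _ _ _ _ _⟩
      invFun := fun d => ⟨tp (P j₁) (P j₀) y₁ y₀ h.symm d.1 d.2, tp_hom _ _ _ _ _ _ _⟩
      left_inv := fun d => by
        apply Subtype.ext
        refine (Rel.eq (P₀ := P j₀) ?_ ?_).symm
        · rw [d.2, tp_hom]
        · refine Rel.trans ?_ (tp_rel (P j₀) (P j₁) y₀ y₁ h d.1 d.2)
            (tp_rel (P j₁) (P j₀) y₁ y₀ h.symm _ (tp_hom _ _ _ _ _ _ _))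
          rw [← Category.assoc, d.2, ← Category.assoc, tp_hom, h]
      right_inv := fun d => by
        apply Subtype.ext
        refine (Rel.eq (P₀ := P j₁) ?_ ?_).symm
        · rw [d.2, tp_hom]
        · refine Rel.trans ?_ (tp_rel (P j₁) (P j₀) y₁ y₀ h.symm d.1 d.2)
            (tp_rel (P j₀) (P j₁) y₀ y₁ h _ (tp_hom _ _ _ _ _ _ _))
          rw [← Category.assoc, d.2, ← Category.assoc, tp_hom, h] }
  φ_natural T T' g j₀ j₁ y₀ y₁ h y₀' y₁' hy₀ hy₁ h' d d' hd' := by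
    change tp (P j₀) (P j₁) y₀' y₁' h' d'.1 d'.2 = g ≫ tp (P j₀) (P j₁) y₀ y₁ h d.1 d.2
    refine (eq_tp (P j₀) (P j₁) y₀' y₁' h' d'.1 d'.2 _ ?_ ?_).symm
    · rw [Category.assoc, tp_hom, hy₁]
    · rw [hd']
      exact (tp_rel (P j₀) (P j₁) y₀ y₁ h d.1 d.2).precomp g
  φ_self T j y d := by
    apply Subtype.ext
    exact (eq_tp (P j) (P j) y y rfl d.1 d.2 d.1 d.2 (Rel.refl _ _)).symm
  φ_comp T j₀ j₁ j₂ y₀ y₁ y₂ h₀₁ h₁₂ d := by
    apply Subtype.ext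
    change tp (P j₁) (P j₂) y₁ y₂ h₁₂ (tp (P j₀) (P j₁) y₀ y₁ h₀₁ d.1 d.2) (tp_hom _ _ _ _ _ _ _) =
      tp (P j₀) (P j₂) y₀ y₂ (h₀₁.trans h₁₂) d.1 d.2
    refine eq_tp (P j₀) (P j₂) y₀ y₂ (h₀₁.trans h₁₂) d.1 d.2 _ (tp_hom _ _ _ _ _ _ _) ?_
    refine Rel.trans ?_ (tp_rel (P j₀) (P j₁) y₀ y₁ h₀₁ d.1 d.2)
      (tp_rel (P j₁) (P j₂) y₁ y₂ h₁₂ _ (tp_hom _ _ _ _ _ _ _))
    rw [← Category.assoc, d.2, ← Category.assoc, tp_hom, h₀₁]

theorem ph_descend {T : Scheme.{u}} {j₀ j₁ : κ} (y₀ : T ⟶ V j₀) (y₁ : T ⟶ V j₁) (h : y₀ ≫ v j₀ = y₁ ≫ v j₁)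
    (d : T ⟶ (P j₀).Y.left) (hd : d ≫ (P j₀).Y.hom = y₀) :
    ph (descend P) y₀ y₁ h d hd = tp (P j₀) (P j₁) y₀ y₁ h d hd := rfl

end descend


section pull

variable (P : ∀ j, UPair v D' j) {α : ι → κ} {g : ∀ i, U i ⟶ V (α i)} (ww : ∀ i, g i ≫ v (α i) = u i ≫ 𝟙 S)

include ww in
theorem cond_m (i : ι) : pullback.snd (P (α i)).Y.hom (g i) ≫ u i =
    pullback.fst (P (α i)).Y.hom (g i) ≫ (push (v (α i)) (P (α i)).Y).hom := by
  change _ = pullback.fst (P (α i)).Y.hom (g i) ≫ (P (α i)).Y.hom ≫ v (α i)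
  rw [← Category.assoc, pullback.condition, Category.assoc, ww, Category.comp_id]

/-- the comparison morphism on the `i`-th member -/
noncomputable def m (i : ι) : pullback (P (α i)).Y.hom (g i) ⟶ (D'.obj i).left :=
  pt (P (α i)).ε (pullback.snd _ _) (pullback.fst _ _) (cond_m P ww i)

theorem m_hom (i : ι) : m P ww i ≫ (D'.obj i).hom = pullback.snd (P (α i)).Y.hom (g i) := pt_hom _ _ _ _

include ww in
theorem cond_pt {W : Scheme.{u}} (i : ι) (x : W ⟶ U i) (d : W ⟶ (P (α i)).Y.left)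
    (hd : d ≫ (P (α i)).Y.hom = x ≫ g i) : x ≫ u i = d ≫ (push (v (α i)) (P (α i)).Y).hom := by
  change _ = d ≫ (P (α i)).Y.hom ≫ v (α i)
  rw [← Category.assoc, hd, Category.assoc, ww, Category.comp_id]

theorem lift_m {W : Scheme.{u}} (i : ι) (x : W ⟶ U i) (d : W ⟶ (P (α i)).Y.left)
    (hd : d ≫ (P (α i)).Y.hom = x ≫ g i) :
    pullback.lift d x hd ≫ m P ww i = pt (P (α i)).ε x d (cond_pt P ww i x d hd) := by
  rw [m, comp_pt]
  exact pt_congr _ _ (pullback.lift_snd _ _ _) (pullback.lift_fst _ _ _)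

theorem comp_m {W : Scheme.{u}} (i : ι) (e : W ⟶ pullback (P (α i)).Y.hom (g i)) :
    e ≫ m P ww i = pt (P (α i)).ε (e ≫ pullback.snd _ _) (e ≫ pullback.fst _ _)
      (cond_pt P ww i _ _ (by rw [Category.assoc, pullback.condition, Category.assoc])) := by
  rw [m, comp_pt]

/-- the comparison morphism of descent data -/
noncomputable def cmp : (pullDDFam ww).obj (descend P) ⟶ D' where
  hom i := Over.homMk (m P ww i) (m_hom P ww i)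
  comm T i₀ i₁ x₀ x₁ h vv w' hw' := by
    change (D'.φ x₀ x₁ h w').1 = (((pullDDFam ww).obj (descend P)).φ x₀ x₁ h vv).1 ≫ m P ww i₁
    have hsnd : vv.1 ≫ pullback.snd (P (α i₀)).Y.hom (g i₀) = x₀ := vv.2
    have hd₀ : (vv.1 ≫ pullback.fst (P (α i₀)).Y.hom (g i₀)) ≫ (P (α i₀)).Y.hom = x₀ ≫ g i₀ := by
      rw [Category.assoc, pullback.condition, ← Category.assoc, hsnd]
    -- the transported point
    have e1 : (((pullDDFam ww).obj (descend P)).φ x₀ x₁ h vv).1 =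
        pullback.lift (tp (P (α i₀)) (P (α i₁)) (x₀ ≫ g i₀) (x₁ ≫ g i₁) (pull_compat ww x₀ x₁ h)
          (vv.1 ≫ pullback.fst _ _) hd₀) x₁ (tp_hom _ _ _ _ _ _ _) := rfl
    rw [e1, lift_m]
    have hrel := tp_rel (P (α i₀)) (P (α i₁)) (x₀ ≫ g i₀) (x₁ ≫ g i₁) (pull_compat ww x₀ x₁ h)
      (vv.1 ≫ pullback.fst _ _) hd₀
    have h₀ : x₁ ≫ u i₁ = (𝟙 T ≫ vv.1 ≫ pullback.fst (P (α i₀)).Y.hom (g i₀)) ≫
        (push (v (α i₀)) (P (α i₀)).Y).hom := by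
      rw [Category.id_comp, ← h]
      exact cond_pt P ww i₀ x₀ _ hd₀
    have h₁ : x₁ ≫ u i₁ = (𝟙 T ≫ tp (P (α i₀)) (P (α i₁)) (x₀ ≫ g i₀) (x₁ ≫ g i₁) (pull_compat ww x₀ x₁ h)
        (vv.1 ≫ pullback.fst _ _) hd₀) ≫ (push (v (α i₁)) (P (α i₁)).Y).hom := by
      rw [Category.id_comp]
      exact cond_pt P ww i₁ x₁ _ (tp_hom _ _ _ _ _ _ _)
    have e2 := hrel T (𝟙 T) i₁ x₁ h₀ h₁
    have e3 : pt (P (α i₁)).ε x₁ (tp (P (α i₀)) (P (α i₁)) (x₀ ≫ g i₀) (x₁ ≫ g i₁) (pull_compat ww x₀ x₁ h)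
        (vv.1 ≫ pullback.fst _ _) hd₀) (cond_pt P ww i₁ x₁ _ (tp_hom _ _ _ _ _ _ _)) =
        pt (P (α i₀)).ε x₁ (vv.1 ≫ pullback.fst _ _) (by rw [← h]; exact cond_pt P ww i₀ x₀ _ hd₀) :=
      (pt_congr _ _ rfl (Category.id_comp _).symm).trans (e2.symm.trans (pt_congr _ _ rfl (Category.id_comp _)))
    rw [e3]
    have e4 := ph_pt (P (α i₀)).ε x₀ x₁ (vv.1 ≫ pullback.fst _ _) (cond_pt P ww i₀ x₀ _ hd₀)
      (by rw [← h]; exact cond_pt P ww i₀ x₀ _ hd₀)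
    rw [← e4]
    have hw'' : w'.1 = pt (P (α i₀)).ε x₀ (vv.1 ≫ pullback.fst _ _) (cond_pt P ww i₀ x₀ _ hd₀) := by
      have : w'.1 = vv.1 ≫ m P ww i₀ := hw'
      rw [this, comp_m]
      exact pt_congr _ _ hsnd rfl
    exact congrArg Subtype.val (congrArg (D'.φ x₀ x₁ h) (Subtype.ext hw''))


include ww in
theorem cond_c (i : ι) : 𝟙 (D'.obj i).left ≫ (total D' i).hom =
    (Over.mk (((D'.obj i).hom ≫ g i) ≫ v (α i))).hom := by
  change 𝟙 _ ≫ (D'.obj i).hom ≫ u i = ((D'.obj i).hom ≫ g i) ≫ v (α i)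
  rw [Category.id_comp, Category.assoc, ww, Category.comp_id]

/-- the tautological section over the `i`-th member, seen over `V (α i)` -/
noncomputable def sTaut (i : ι) : (toDDFam u).obj (Over.mk (((D'.obj i).hom ≫ g i) ≫ v (α i))) ⟶ D' :=
  (toDDFam u).map (Over.homMk (𝟙 _) (cond_c ww i) : Over.mk (((D'.obj i).hom ≫ g i) ≫ v (α i)) ⟶ total D' i) ≫
    act D' i

include ww in
theorem cond_k (i : ι) {k : (D'.obj i).left ⟶ (P (α i)).Y.left} (hk : k ≫ (P (α i)).Y.hom = (D'.obj i).hom ≫ g i)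
    {W : Scheme.{u}} (t : W ⟶ (D'.obj i).left) {i' : ι} (x : W ⟶ U i')
    (hx : x ≫ u i' = (t ≫ k) ≫ (push (v (α i)) (P (α i)).Y).hom) : (t ≫ (D'.obj i).hom) ≫ u i = x ≫ u i' := by
  rw [hx]
  change _ = (t ≫ k) ≫ (P (α i)).Y.hom ≫ v (α i)
  rw [Category.assoc t k, ← Category.assoc k, hk, Category.assoc, Category.assoc, ww, Category.comp_id]

theorem exists_k (i : ι) : ∃ (k : (D'.obj i).left ⟶ (P (α i)).Y.left) (hk : k ≫ (P (α i)).Y.hom = (D'.obj i).hom ≫ g i),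
    ∀ {W : Scheme.{u}} (t : W ⟶ (D'.obj i).left) {i' : ι} (x : W ⟶ U i')
      (hx : x ≫ u i' = (t ≫ k) ≫ (push (v (α i)) (P (α i)).Y).hom),
      pt (P (α i)).ε x (t ≫ k) hx = ph D' (t ≫ (D'.obj i).hom) x (cond_k P ww i hk t x hx) t rfl := by
  obtain ⟨k, hk, hpt⟩ := (P (α i)).exists_lift ((D'.obj i).hom ≫ g i) (sTaut ww i)
  refine ⟨k, hk, ?_⟩
  intro W t i' x hx
  have hx' : x ≫ u i' = t ≫ ((D'.obj i).hom ≫ g i) ≫ v (α i) := by
    rw [hx]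
    change (t ≫ k) ≫ (P (α i)).Y.hom ≫ v (α i) = _
    rw [Category.assoc t k, ← Category.assoc k, hk]
  have e1 := hpt t x hx'
  have e2 := map_comp_pt (Over.homMk (𝟙 _) (cond_c ww i) :
    Over.mk (((D'.obj i).hom ≫ g i) ≫ v (α i)) ⟶ total D' i) (act D' i) x t hx'
  have e3 := pt_act D' i x (t ≫ 𝟙 _) (by
    change x ≫ u i' = (t ≫ 𝟙 _) ≫ (D'.obj i).hom ≫ u i
    rw [Category.comp_id, hx', Category.assoc, ww, Category.comp_id])
  refine e1.trans ((e2.trans e3).trans ?_)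
  exact ph_congr D' _ rfl (by rw [Category.comp_id]) rfl (Category.comp_id _)

/-- the inverse of the comparison -/
noncomputable def k (i : ι) : (D'.obj i).left ⟶ (P (α i)).Y.left := (exists_k P ww i).choose

theorem k_hom (i : ι) : k P ww i ≫ (P (α i)).Y.hom = (D'.obj i).hom ≫ g i := (exists_k P ww i).choose_spec.choose

theorem pt_k (i : ι) {W : Scheme.{u}} (t : W ⟶ (D'.obj i).left) {i' : ι} (x : W ⟶ U i')
    (hx : x ≫ u i' = (t ≫ k P ww i) ≫ (push (v (α i)) (P (α i)).Y).hom) (hx' : (t ≫ (D'.obj i).hom) ≫ u i = x ≫ u i') :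
    pt (P (α i)).ε x (t ≫ k P ww i) hx = ph D' (t ≫ (D'.obj i).hom) x hx' t rfl :=
  (exists_k P ww i).choose_spec.choose_spec t x hx

/-- the inverse on the `i`-th member -/
noncomputable def n (i : ι) : (D'.obj i).left ⟶ pullback (P (α i)).Y.hom (g i) :=
  pullback.lift (k P ww i) (D'.obj i).hom (k_hom P ww i)

theorem n_m (i : ι) : n P ww i ≫ m P ww i = 𝟙 _ := by
  rw [n, lift_m]
  have hx : (D'.obj i).hom ≫ u i = (𝟙 _ ≫ k P ww i) ≫ (push (v (α i)) (P (α i)).Y).hom := by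
    rw [Category.id_comp]
    exact cond_pt P ww i _ _ (k_hom P ww i)
  have e1 := pt_k P ww i (𝟙 _) (D'.obj i).hom hx (by rw [Category.id_comp])
  refine (pt_congr _ _ rfl (Category.id_comp _).symm).trans (e1.trans ?_)
  refine (ph_congr D' _ rfl (Category.id_comp _) rfl rfl).trans ?_
  exact ph_self D' _ _ (Category.id_comp _)

theorem m_n (i : ι) : m P ww i ≫ n P ww i = 𝟙 _ := by
  apply pullback.hom_ext
  · rw [Category.assoc, n, pullback.lift_fst, Category.id_comp]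
    apply Rel.eq (P₀ := P (α i))
    · rw [Category.assoc, k_hom, ← Category.assoc, m_hom, pullback.condition]
    · intro W t i' x h₀ h₁
      have hx' : ((t ≫ m P ww i) ≫ (D'.obj i).hom) ≫ u i = x ≫ u i' := by
        rw [h₁]
        change _ = (t ≫ pullback.fst _ _) ≫ (P (α i)).Y.hom ≫ v (α i)
        rw [Category.assoc t, m_hom, Category.assoc t, Category.assoc t, ← Category.assoc (pullback.fst _ _),
          pullback.condition, Category.assoc, ww, Category.comp_id]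
      have e1 := pt_k P ww i (t ≫ m P ww i) x (by rw [Category.assoc]; exact h₀) hx'
      refine (pt_congr _ _ rfl (Category.assoc _ _ _).symm).trans (e1.trans ?_)
      have e2 := comp_m P ww i t
      have hc := cond_pt P ww i (t ≫ pullback.snd (P (α i)).Y.hom (g i)) (t ≫ pullback.fst _ _)
        (by rw [Category.assoc, pullback.condition, Category.assoc])
      have e3 := ph_pt (P (α i)).ε (t ≫ pullback.snd (P (α i)).Y.hom (g i)) x (t ≫ pullback.fst _ _) hc h₁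
      rw [← e3]
      exact ph_congr D' _ (by rw [Category.assoc, m_hom]) (by rw [Category.assoc, m_hom]) rfl e2
  · rw [Category.assoc, n, pullback.lift_snd, m_hom, Category.id_comp]

instance isIso_cmp : IsIso (cmp P ww) := by
  apply isIso_of_isIso_left
  intro i
  exact ⟨n P ww i, m_n P ww i, n_m P ww i⟩

/-- the pullback of the descended datum is the original datum -/
noncomputable def pullIso : (pullDDFam ww).obj (descend P) ≅ D' := asIso (cmp P ww)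

end pull

end Groth.Agent.Lib.Helper4.DescRefine
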