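import Mathlib
import Groth.Prelude.Def_DescFam
import Groth.Agent.Lib.Helper4.DescRefine
import Groth.Agent.Lib.Helper4.DescGlueOpen
import Groth.Agent.Lib.Helper4.DescPullFF

/-!
# Universal pairs along a Zariski refinement (helper4)

* `isOpenImmersion_act`: the tautological section of a descent datum over its `i`-th member is componentwise an open immersion
  when `f i` is an open immersion.
* `isEffective_of_zariski`: descent data relative to a Zariski covering family are effective.
* `exists_uPair`: for a refinement `(α, g)` of families over `S` such that the `g i` with `α i = j` form a Zariski covering of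
  `V j`, every descent datum relative to `u` has a universal pair over every `V j`.
* `essSurj_pullDDFam`: hence the pullback functor is essentially surjective.
-/

set_option autoImplicit false
set_option linter.style.haveILetI false
set_option backward.isDefEq.respectTransparency false
set_option linter.unusedSectionVars false
set_option linter.unusedVariables false
universe u
open CategoryTheory CategoryTheory.Limits AlgebraicGeometry

namespace Groth.Agent.Lib.Helper4.DescRefineZar

open Desc Groth.Agent.Lib.Helper4.DescGamma Groth.Agent.Lib.Helper4.DescPull Groth.Agent.Lib.Helper4.DescRefine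

section act

variable {B : Scheme.{u}} {ι : Type u} {X : ι → Scheme.{u}} {f : ∀ i, X i ⟶ B} (D : SchDDFam f) (i k : ι)

/-- the `k`-th component of the tautological section -/
noncomputable def ek : pullback (f k) (total D i).hom ⟶ (D.obj k).left :=
  ph D (pullback.snd (f k) (total D i).hom ≫ (D.obj i).hom) (pullback.fst (f k) (total D i).hom)
    (by rw [Category.assoc]; exact pullback.condition.symm) (pullback.snd (f k) (total D i).hom) rfl

theorem act_hom_left : ((act D i).hom k).left = ek D i k := rfl

theorem ek_hom : ek D i k ≫ (D.obj k).hom = pullback.fst (f k) (total D i).hom := ph_hom D _ _ _ _ _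

/-- `X k ×_B D i ⟶ D k ×_B X i` -/
noncomputable def aa : pullback (f k) (total D i).hom ⟶ pullback ((D.obj k).hom ≫ f k) (f i) :=
  pullback.lift (ek D i k) (pullback.snd (f k) (total D i).hom ≫ (D.obj i).hom) (by
    rw [← Category.assoc, ek_hom, pullback.condition, Category.assoc]; rfl)

/-- `D k ×_B X i ⟶ X k ×_B D i` -/
noncomputable def bb : pullback ((D.obj k).hom ≫ f k) (f i) ⟶ pullback (f k) (total D i).hom :=
  pullback.lift (pullback.fst ((D.obj k).hom ≫ f k) (f i) ≫ (D.obj k).hom)
    (ph D (pullback.fst ((D.obj k).hom ≫ f k) (f i) ≫ (D.obj k).hom) (pullback.snd ((D.obj k).hom ≫ f k) (f i))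
      (by rw [Category.assoc]; exact pullback.condition) (pullback.fst ((D.obj k).hom ≫ f k) (f i)) rfl)
    (by
      change _ = _ ≫ (D.obj i).hom ≫ f i
      rw [← Category.assoc _ (D.obj i).hom, ph_hom, Category.assoc]; exact pullback.condition)

theorem aa_bb : aa D i k ≫ bb D i k = 𝟙 _ := by
  apply pullback.hom_ext
  · rw [Category.assoc, bb, pullback.lift_fst, Category.id_comp, aa, pullback.lift_fst_assoc, ek_hom]
  · rw [Category.assoc, bb, pullback.lift_snd, Category.id_comp, comp_ph]
    have e1 : (aa D i k ≫ pullback.fst ((D.obj k).hom ≫ f k) (f i)) = ek D i k := pullback.lift_fst _ _ _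
    have e2 : aa D i k ≫ pullback.snd ((D.obj k).hom ≫ f k) (f i) =
        pullback.snd (f k) (total D i).hom ≫ (D.obj i).hom := pullback.lift_snd _ _ _
    refine (ph_congr D _ (by rw [← Category.assoc, e1, ek_hom]) (by rw [← Category.assoc, e1, ek_hom]) e2 e1).trans ?_
    refine (ph_ph D _ _ _ _ _ _ rfl).trans ?_
    exact ph_self D _ _ rfl

theorem bb_aa : bb D i k ≫ aa D i k = 𝟙 _ := by
  have e1 : bb D i k ≫ pullback.fst (f k) (total D i).hom =
      pullback.fst ((D.obj k).hom ≫ f k) (f i) ≫ (D.obj k).hom := pullback.lift_fst _ _ _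
  have e2 : bb D i k ≫ pullback.snd (f k) (total D i).hom =
      ph D (pullback.fst ((D.obj k).hom ≫ f k) (f i) ≫ (D.obj k).hom) (pullback.snd ((D.obj k).hom ≫ f k) (f i))
      (by rw [Category.assoc]; exact pullback.condition) (pullback.fst ((D.obj k).hom ≫ f k) (f i)) rfl :=
    pullback.lift_snd _ _ _
  apply pullback.hom_ext
  · rw [Category.assoc, aa, pullback.lift_fst, Category.id_comp, ek, comp_ph]
    refine (ph_congr D _ (by rw [← Category.assoc, e2, ph_hom]) (by rw [← Category.assoc, e2, ph_hom]) e1 e2).trans ?_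
    refine (ph_ph D _ _ _ _ _ _ rfl).trans ?_
    exact ph_self D _ _ rfl
  · rw [Category.assoc, aa, pullback.lift_snd, Category.id_comp, ← Category.assoc, e2, ph_hom]

theorem isOpenImmersion_act [IsOpenImmersion (f i)] : IsOpenImmersion ((act D i).hom k).left := by
  rw [act_hom_left]
  have e : ek D i k = aa D i k ≫ pullback.fst ((D.obj k).hom ≫ f k) (f i) := (pullback.lift_fst _ _ _).symm
  rw [e]
  haveI : IsIso (aa D i k) := ⟨bb D i k, aa_bb D i k, bb_aa D i k⟩
  infer_instance

theorem mem_range_act (d : (D.obj i).left) : d ∈ Set.range ((act D i).hom i).left := by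
  have hid : (D.obj i).hom ≫ f i = 𝟙 (D.obj i).left ≫ (total D i).hom := (Category.id_comp _).symm
  have h1 : pullback.lift (D.obj i).hom (𝟙 _) hid ≫ ((act D i).hom i).left = 𝟙 _ := by
    have e1 : pullback.lift (D.obj i).hom (𝟙 _) hid ≫ ((act D i).hom i).left =
      pt (act D i) (D.obj i).hom (𝟙 _) hid := rfl
    rw [e1, pt_act]
    refine (ph_congr D _ rfl (Category.id_comp _) rfl rfl).trans ?_
    exact ph_self D _ _ (Category.id_comp _)
  refine ⟨pullback.lift (D.obj i).hom (𝟙 _) hid d, ?_⟩
  have h2 := congrArg (fun (a : (D.obj i).left ⟶ (D.obj i).left) => a d) h1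
  exact h2

/-- descent data relative to a Zariski covering family are effective -/
theorem isEffective_of_zariski (hf : Presieve.ofArrows X f ∈ Scheme.zariskiPrecoverage B) (D : SchDDFam f) :
    D.IsEffective := by
  have hopen : ∀ i, IsOpenImmersion (f i) := fun i => hf.2 (Presieve.ofArrows.mk i)
  refine Groth.Agent.Lib.Helper4.DescGlueOpen.isEffective_of_cover
    (Scheme.zariskiPrecoverage_le_fpqcPrecoverage _ hf) D (fun i d => ?_)
  haveI := hopen i
  exact ⟨total D i, act D i, fun k => isOpenImmersion_act D i k, mem_range_act D i d⟩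

end act


section upair

variable {S : Scheme.{u}} {ι κ : Type u} {U : ι → Scheme.{u}} {V : κ → Scheme.{u}}
  {u : ∀ i, U i ⟶ S} {v : ∀ j, V j ⟶ S} {α : ι → κ} {g : ∀ i, U i ⟶ V (α i)}
  (w : ∀ i, g i ≫ v (α i) = u i)

/-- the members of the refining family over `V j` -/
abbrev gj (g : ∀ i, U i ⟶ V (α i)) (j : κ) (i : {i // α i = j}) : U i.1 ⟶ V j := g i.1 ≫ eqToHom (congrArg V i.2)

include w in
theorem wj (j : κ) (i : {i // α i = j}) : 𝟙 (U i.1) ≫ u i.1 = gj g j i ≫ v j := by
  rw [Category.id_comp, Category.assoc, Groth.Agent.Lib.Helper4.DescPullFF.eqToHom_comp_v i.2, w]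

variable (D' : SchDDFam u)

include w in
/-- universal pairs exist along a Zariski refinement -/
theorem exists_uPair (j : κ)
    (hcov : Presieve.ofArrows (fun i : {i // α i = j} => U i.1) (gj g j) ∈ Scheme.zariskiPrecoverage (V j)) :
    Nonempty (UPair v D' j) := by
  have hf := Scheme.zariskiPrecoverage_le_fpqcPrecoverage _ hcov
  -- the restricted datum is effective
  let Dj : SchDDFam (gj g j) := (pullDDFam (f := u) (f' := gj g j) (α := Subtype.val) (p := v j)
    (p' := fun i => 𝟙 (U i.1)) (wj w j)).obj D'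
  obtain ⟨Yj, ⟨θ⟩⟩ := isEffective_of_zariski hcov Dj
  have hθ : IsUniv Dj Yj θ.hom := isUniv_of_isIso hf Dj Yj θ.hom
  obtain ⟨ε, -, huniv⟩ := exists_univ_push (f := u) (f' := gj g j) (α := Subtype.val) (p := v j)
    (p' := fun i => 𝟙 (U i.1)) (wj w j) hf Yj θ.hom hθ
  refine ⟨⟨Yj, ε, ?_, ?_⟩⟩
  · intro T y s
    obtain ⟨gg, hgg, -⟩ := huniv (Over.mk y) s
    have hgg' : (toDDFam u).map (pushMap (v j) gg) ≫ ε = s := hgg
    refine ⟨gg.left, Over.w gg, ?_⟩
    intro W t i x hx
    have e1 := map_comp_pt (pushMap (v j) gg) ε x t hx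
    rw [hgg'] at e1
    exact e1.symm
  · intro T d d' hb hpt
    let T' : Over (V j) := Over.mk (d' ≫ Yj.hom)
    let gg : T' ⟶ Yj := Over.homMk d hb
    let gg' : T' ⟶ Yj := Over.homMk d' rfl
    obtain ⟨g₀, -, huniq⟩ := huniv T' ((toDDFam u).map (pushMap (v j) gg') ≫ ε)
    have h1 : gg' = g₀ := huniq gg' rfl
    have h2 : gg = g₀ := by
      apply huniq
      apply ext_of_pt
      intro i
      rw [map_comp_pt, map_comp_pt]
      exact hpt _ _ _ _
    have h3 : gg = gg' := h2.trans h1.symm
    exact congrArg CommaMorphism.left h3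

end upair


section main

variable {S : Scheme.{u}} {ι κ : Type u} {U : ι → Scheme.{u}} {V : κ → Scheme.{u}}
  (u : ∀ i, U i ⟶ S) (v : ∀ j, V j ⟶ S) (α : ι → κ) (g : ∀ i, U i ⟶ V (α i))
  (w : ∀ i, g i ≫ v (α i) = u i)

/-- the pullback functor along a Zariski refinement is essentially surjective -/
theorem essSurj_pullDDFam
    (hcov : ∀ j, Presieve.ofArrows (fun i : {i // α i = j} => U i.1)
      (fun i => g i.1 ≫ eqToHom (congrArg V i.2)) ∈ Scheme.zariskiPrecoverage (V j)) :
    (Desc.pullDDFam (f := v) (f' := u) (α := α) (p := 𝟙 S) (p' := g)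
      (fun i => (w i).trans (Category.comp_id (u i)).symm)).EssSurj := by
  refine ⟨fun D' => ?_⟩
  have hP : ∀ j, Nonempty (UPair v D' j) := fun j => exists_uPair w D' j (hcov j)
  let P : ∀ j, UPair v D' j := fun j => (hP j).some
  exact ⟨descend P, ⟨pullIso P (fun i => (w i).trans (Category.comp_id (u i)).symm)⟩⟩

end main

end Groth.Agent.Lib.Helper4.DescRefineZar
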