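import Mathlib
import Groth.Prelude.Def_DescFam
import Groth.Prelude.Def_SGA1
import Groth.Agent.Lib.Helper4.DescFpqcLocal
import Groth.Agent.Lib.Helper4.DescBCUniv
import Groth.Agent.Lib.Helper24.Tower7
import Groth.Agent.Lib.Helper24.FlatLocalFibre
import Groth.Agent.S5125

/-!
# Effectivity of étale descent data: dimension bookkeeping (helper4)

* `effective_of_forall_complete_dim`: the criterion of S5127 with the dimension of the complete local test rings recorded
  (they can be taken of the dimension of a local ring of the base).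
* `ringKrullDim_stalk_lt`: the local rings of the punctured spectrum of a Noetherian local ring have smaller dimension.
* `exists_iso_push_of_range`: a datum relative to a universally submersive `g : S' ⟶ S` whose member lives over an open
  `B₀ ⊆ S`, and which is effective (étale) over `B₀`, is effective over `S`.
-/

set_option autoImplicit false
set_option linter.style.haveILetI false
set_option backward.isDefEq.respectTransparency false
universe w u
open CategoryTheory CategoryTheory.Limits AlgebraicGeometry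

namespace Groth.Agent.Lib.Helper4.DescDimInd

open Desc Groth.Agent.Lib.Helper4.DescGamma Groth.Agent.Lib.Helper4.DescPull Groth.Agent.Lib.Helper4.DescBC
  Groth.Agent.Lib.Helper4.DescEtFF Groth.Agent.Lib.Helper4.DescEtLoc Groth.Agent.Lib.Helper4.DescBCUniv

/-- The criterion of S5127, with the dimension of the test rings recorded. -/
theorem effective_of_forall_complete_dim {S S' : Scheme.{u}} [IsLocallyNoetherian S]
    (g : S' ⟶ S) (hg : SGA1.UnivSubmersive g) [LocallyOfFinitePresentation g] [QuasiCompact g] [QuasiSeparated g]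
    (D : Desc.SchDDFam (fun _ : PUnit.{1} => g)) [Etale (D.obj PUnit.unit).hom]
    [QuasiCompact (D.obj PUnit.unit).hom] [IsSeparated (D.obj PUnit.unit).hom]
    (h : ∀ (a : S) (B : Type u) [CommRing B] [IsNoetherianRing B] [IsLocalRing B]
      [IsAdicComplete (IsLocalRing.maximalIdeal B) B] [IsAlgClosed (IsLocalRing.ResidueField B)]
      (q : Spec (CommRingCat.of B) ⟶ S), ringKrullDim B = ringKrullDim (S.presheaf.stalk a) →
      ∃ U : Over (Spec (CommRingCat.of B)), Etale U.hom ∧
        Nonempty ((Desc.toDDFam (fun _ : PUnit.{1} => pullback.snd g q)).obj U ≅ bcDD g D q)) :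
    ∃ U : Over S, Etale U.hom ∧ Nonempty ((Desc.toDDFam (fun _ : PUnit.{1} => g)).obj U ≅ D) := by
  refine (Groth.Agent.S5125.result g hg D).mpr (fun a => ?_)
  obtain ⟨B, hB1, hB2, hB3, hB4, hB5, hB6, hB7, hB8, e, -⟩ :=
    Groth.Agent.Lib.Helper24.Tower.exists_flat_complete_local (S.presheaf.stalk a)
      (AlgebraicClosure (IsLocalRing.ResidueField (S.presheaf.stalk a)))
  haveI := hB4
  haveI := hB5
  haveI := hB6
  haveI := hB8
  haveI : IsAlgClosed (IsLocalRing.ResidueField B) :=
    IsAlgClosed.of_ringEquiv (k := AlgebraicClosure (IsLocalRing.ResidueField (S.presheaf.stalk a)))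
      (IsLocalRing.ResidueField B) e.symm
  have hdim : ringKrullDim B = ringKrullDim (S.presheaf.stalk a) :=
    Groth.Agent.Lib.Helper24.FlatLocalFibre.ringKrullDim_eq_of_flat (S.presheaf.stalk a) B hB7
  obtain ⟨U₁, hU₁, ⟨θ₁⟩⟩ := h a B
    (Spec.map (CommRingCat.ofHom (algebraMap (S.presheaf.stalk a) B)) ≫ S.fromSpecStalk a) hdim
  haveI := hU₁
  exact Groth.Agent.Lib.Helper4.DescFpqcLocal.exists_iso_stalk_of_local_alg g hg D a B U₁ θ₁

/-- The local rings of the punctured spectrum of a Noetherian local ring have smaller dimension. -/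
theorem ringKrullDim_stalk_lt (B : Type u) [CommRing B] [IsNoetherianRing B] [IsLocalRing B]
    (Uo : (Spec (CommRingCat.of B)).Opens) (hUo : IsLocalRing.closedPoint B ∉ Uo) (a : Uo) :
    ringKrullDim (Uo.toScheme.presheaf.stalk a) < ringKrullDim B := by
  have e1 : ringKrullDim (Uo.toScheme.presheaf.stalk a) =
      ringKrullDim ((Spec (CommRingCat.of B)).presheaf.stalk a.1) :=
    ringKrullDim_eq_of_ringEquiv (Uo.stalkIso a).commRingCatIsoToRingEquiv
  letI k : Algebra B ((Spec (CommRingCat.of B)).presheaf.stalk a.1) := StructureSheaf.stalkAlgebra B a.1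
  haveI : IsLocalization.AtPrime ((Spec (CommRingCat.of B)).presheaf.stalk a.1) a.1.asIdeal :=
    StructureSheaf.IsLocalization.to_stalk B a.1
  rw [e1, IsLocalization.AtPrime.ringKrullDim_eq_height a.1.asIdeal,
    ← IsLocalRing.maximalIdeal_height_eq_ringKrullDim]
  have hlt : a.1.asIdeal < IsLocalRing.maximalIdeal B := by
    refine lt_of_le_of_ne (IsLocalRing.le_maximalIdeal a.1.2.ne_top) (fun h => hUo ?_)
    have : IsLocalRing.closedPoint B = a.1 := PrimeSpectrum.ext h.symm
    rw [this]
    exact a.2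
  exact WithBot.coe_lt_coe.mpr (Ideal.height_strict_mono_of_isPrime hlt)

variable {S S' : Scheme.{u}} (g : S' ⟶ S)

/-- A datum whose member lives over an open subscheme of the base and which is effective over it is effective. -/
theorem exists_iso_push_of_range (hg : SGA1.UnivSubmersive g)
    (D : SchDDFam (fun _ : PUnit.{w + 1} => g)) {B₀ : Scheme.{u}} (j : B₀ ⟶ S) [IsOpenImmersion j]
    (hfib : ∀ x : (D.obj PUnit.unit).left, ((D.obj PUnit.unit).hom ≫ g).base x ∈ Set.range j.base)
    (U₁ : Over B₀) [Etale U₁.hom]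
    (θ₁ : (toDDFam (fun _ : PUnit.{w + 1} => pullback.snd g j)).obj U₁ ≅ bcDD g D j) :
    Nonempty ((toDDFam (fun _ : PUnit.{w + 1} => g)).obj (push j U₁) ≅ D) := by
  obtain ⟨e₁, he₁⟩ := exists_univ_push_etale g hg D j U₁ θ₁
  have huniv : IsUniv D (push j U₁) e₁ := by
    intro T s
    -- `T` lives over `B₀`
    have hr : Set.range T.hom.base ⊆ Set.range j.base := by
      rintro _ ⟨t, rfl⟩
      have hsurj : Function.Surjective (pullback.snd g T.hom).base :=
        Groth.Agent.Lib.helper4.SubmDescent.UnivSubmersive.surjective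
          (haveI := Groth.Agent.Lib.helper4.SubmDescent.univSubmersive_isStableUnderBaseChange.{u}
           MorphismProperty.of_isPullback (P := SGA1.UnivSubmersive) (IsPullback.of_hasPullback g T.hom) hg)
      obtain ⟨z, rfl⟩ := hsurj t
      have h1 := hfib ((s.hom PUnit.unit).left.base z)
      have h2 : (s.hom PUnit.unit).left ≫ (D.obj PUnit.unit).hom ≫ g = pullback.snd g T.hom ≫ T.hom := by
        have h3 : (s.hom PUnit.unit).left ≫ (D.obj PUnit.unit).hom = pullback.fst g T.hom :=
          Over.w (s.hom PUnit.unit)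
        rw [← Category.assoc, h3, pullback.condition]
      have h4 : ((D.obj PUnit.unit).hom ≫ g).base ((s.hom PUnit.unit).left.base z) =
          T.hom.base ((pullback.snd g T.hom).base z) := congrArg (fun m => m.base z) h2
      rw [← h4]
      exact h1
    let l : T.left ⟶ B₀ := IsOpenImmersion.lift j T.hom hr
    have hl : l ≫ j = T.hom := IsOpenImmersion.lift_fac _ _ _
    let T₀ : Over B₀ := Over.mk l
    have hφ : 𝟙 T.left ≫ (push j T₀).hom = T.hom := by
      show 𝟙 T.left ≫ l ≫ j = T.hom
      rw [Category.id_comp, hl]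
    let φ : T ⟶ push j T₀ := Over.homMk (𝟙 T.left) hφ
    have hψ : 𝟙 T.left ≫ T.hom = (push j T₀).hom := by
      show 𝟙 T.left ≫ T.hom = l ≫ j
      rw [Category.id_comp, hl]
    let ψ : push j T₀ ⟶ T := Over.homMk (𝟙 T.left) hψ
    have hφψ : φ ≫ ψ = 𝟙 _ := Over.OverMorphism.ext (Category.id_comp _)
    have hψφ : ψ ≫ φ = 𝟙 _ := Over.OverMorphism.ext (Category.id_comp _)
    obtain ⟨c', hc', hc'u⟩ := he₁ T₀ ((toDDFam (fun _ : PUnit.{w + 1} => g)).map ψ ≫ s)
    have hc'1 : (toDDFam (fun _ : PUnit.{w + 1} => g)).map (pushMap j c') ≫ e₁ =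
        (toDDFam (fun _ : PUnit.{w + 1} => g)).map ψ ≫ s := hc'
    refine ⟨φ ≫ pushMap j c', ?_, fun c₂ hc₂ => ?_⟩
    · show (toDDFam (fun _ : PUnit.{w + 1} => g)).map (φ ≫ pushMap j c') ≫ e₁ = s
      rw [Functor.map_comp, Category.assoc, hc'1, ← Category.assoc, ← Functor.map_comp, hφψ,
        CategoryTheory.Functor.map_id, Category.id_comp]
    · have hc₂' : (toDDFam (fun _ : PUnit.{w + 1} => g)).map c₂ ≫ e₁ = s := hc₂
      have hc₂w : c₂.left ≫ U₁.hom ≫ j = T.hom := Over.w c₂
      have hw : c₂.left ≫ U₁.hom = T₀.hom := by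
        show c₂.left ≫ U₁.hom = l
        rw [← cancel_mono j, Category.assoc, hc₂w, hl]
      let c₂' : T₀ ⟶ U₁ := Over.homMk c₂.left hw
      have e2 : pushMap j c₂' = ψ ≫ c₂ := by
        apply Over.OverMorphism.ext
        show c₂.left = 𝟙 _ ≫ c₂.left
        rw [Category.id_comp]
      have e3 : (toDDFam (fun _ : PUnit.{w + 1} => g)).map (pushMap j c₂') ≫ e₁ =
          (toDDFam (fun _ : PUnit.{w + 1} => g)).map ψ ≫ s := by
        rw [e2, Functor.map_comp, Category.assoc, hc₂']
      have e4 : c₂' = c' := hc'u c₂' e3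
      have e5 : c₂ = φ ≫ ψ ≫ c₂ := by rw [← Category.assoc, hφψ, Category.id_comp]
      rw [e5, ← e2, e4]
  haveI := isIso_of_isUniv huniv
  exact ⟨asIso e₁⟩

end Groth.Agent.Lib.Helper4.DescDimInd
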