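import Mathlib
import Groth.Prelude.Def_Grpd
import Groth.Prelude.Def_Desc
import Groth.Agent.Lib.Helper4.GrpdBC
import Groth.Agent.Lib.Helper4.DescGrpd
import Groth.Agent.Lib.Helper4.GrpdQuotMain

/-!
# Effectivity of descent data along finite locally free morphisms (SGA 1 VIII 7.6 / Stacks 0ABH)

`p : X ⟶ Y` surjective finite locally free, `D` a descent datum on `V` over `X`.  If every orbit of
the groupoid `grpd p D` (`V ×_Y X ⇉ V`) lies in an affine open of `V`, then `D` is effective.
-/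

set_option backward.isDefEq.respectTransparency false
set_option autoImplicit false
set_option linter.style.haveILetI false
set_option linter.unusedSectionVars false

universe u
open CategoryTheory CategoryTheory.Limits AlgebraicGeometry

namespace Groth.Agent.Lib.Helper4.DescFinEff

open Groth.Agent.Lib.Helper4.GrpdBC Groth.Agent.Lib.Helper4.DescGrpd
  Groth.Agent.Lib.Helper4.GrpdQuotMain

variable {X Y : Scheme.{u}} (p : X ⟶ Y)

/-- A morphism of descent data whose underlying morphism of schemes is an isomorphism is an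
isomorphism. -/
theorem isIso_of_isIso_left {D D' : Desc.SchDD p} (a : D ⟶ D') [IsIso a.hom.left] : IsIso a := by
  have hw : inv a.hom.left ≫ D.obj.hom = D'.obj.hom := by
    rw [IsIso.inv_comp_eq, Over.w]
  let b : D' ⟶ D :=
    { hom := Over.homMk (inv a.hom.left) hw
      comm := fun T x₀ x₁ hx v w hwv => by
        have hwv' : w.1 = v.1 ≫ inv a.hom.left := hwv
        have hc := a.comm x₀ x₁ hx w v
          (by rw [hwv', Category.assoc, IsIso.inv_hom_id, Category.comp_id])
        change (D.φ x₀ x₁ hx w).1 = (D'.φ x₀ x₁ hx v).1 ≫ inv a.hom.left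
        rw [hc, Category.assoc, IsIso.hom_inv_id, Category.comp_id] }
  refine ⟨b, ?_, ?_⟩
  · apply Desc.SchDD.hom_ext
    apply Over.OverMorphism.ext
    change a.hom.left ≫ inv a.hom.left = 𝟙 _
    rw [IsIso.hom_inv_id]
  · apply Desc.SchDD.hom_ext
    apply Over.OverMorphism.ext
    change inv a.hom.left ≫ a.hom.left = 𝟙 _
    rw [IsIso.inv_hom_id]

variable (D : Desc.SchDD p)

section eff

variable {W : Scheme.{u}} (q : D.obj.left ⟶ W) (w : sR p D ≫ q = tR p D ≫ q) (πW : W ⟶ Y)
  (hπ : q ≫ πW = D.obj.hom ≫ p)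

/-- `V ⟶ X ×_Y W` -/
noncomputable def θ : D.obj.left ⟶ pullback p πW := pullback.lift D.obj.hom q hπ.symm

@[reassoc (attr := simp)]
theorem θ_fst : θ p D q πW hπ ≫ pullback.fst p πW = D.obj.hom := pullback.lift_fst _ _ _

@[reassoc (attr := simp)]
theorem θ_snd : θ p D q πW hπ ≫ pullback.snd p πW = q := pullback.lift_snd _ _ _

theorem mono_θ [IsIso (pullback.lift (tR p D) (sR p D) w.symm)] : Mono (θ p D q πW hπ) := by
  constructor
  intro T v₁ v₂ h
  have ha : v₁ ≫ D.obj.hom = v₂ ≫ D.obj.hom := by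
    have := h =≫ pullback.fst _ _
    simpa only [Category.assoc, θ_fst] using this
  have hq : v₁ ≫ q = v₂ ≫ q := by
    have := h =≫ pullback.snd _ _
    simpa only [Category.assoc, θ_snd] using this
  obtain ⟨r, hr1, hr2⟩ : ∃ r : T ⟶ Rs p D, r ≫ tR p D = v₁ ∧ r ≫ sR p D = v₂ := by
    refine ⟨pullback.lift v₁ v₂ hq ≫ inv (pullback.lift (tR p D) (sR p D) w.symm), ?_, ?_⟩
    · have : inv (pullback.lift (tR p D) (sR p D) w.symm) ≫ tR p D = pullback.fst q q := by
        rw [IsIso.inv_comp_eq, pullback.lift_fst]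
      rw [Category.assoc, this, pullback.lift_fst]
    · have : inv (pullback.lift (tR p D) (sR p D) w.symm) ≫ sR p D = pullback.snd q q := by
        rw [IsIso.inv_comp_eq, pullback.lift_snd]
      rw [Category.assoc, this, pullback.lift_snd]
  have hr : r = v₂ ≫ eR p D := by
    apply hom_ext p D
    · rw [hr2, Category.assoc, eR_sR, Category.comp_id]
    · have e1 : r ≫ xR p D = v₁ ≫ D.obj.hom := by rw [← hr1, Category.assoc, tR_hom]
      rw [e1, ha, Category.assoc, eR_xR]
  rw [← hr1, hr, Category.assoc, eR_tR, Category.comp_id]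

theorem isIso_θ [IsIso (pullback.lift (tR p D) (sR p D) w.symm)] [Surjective q] [Flat q]
    [QuasiCompact q] : IsIso (θ p D q πW hπ) := by
  haveI := mono_θ p D q w πW hπ
  have hQ : (@Surjective ⊓ @Flat ⊓ @QuasiCompact : MorphismProperty Scheme.{u})
      (pullback.fst (pullback.snd p πW) q) :=
    ⟨⟨inferInstance, inferInstance⟩, inferInstance⟩
  refine MorphismProperty.of_pullback_fst_of_descendsAlong
    (P := MorphismProperty.isomorphisms Scheme.{u})
    (Q := (@Surjective ⊓ @Flat ⊓ @QuasiCompact : MorphismProperty Scheme.{u}))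
    (f := pullback.fst (pullback.snd p πW) q) (g := θ p D q πW hπ) hQ ?_
  -- the arrow `(v', x)`
  have hc : (pullback.snd (pullback.snd p πW) q ≫ D.obj.hom) ≫ p =
      (pullback.fst (pullback.snd p πW) q ≫ pullback.fst p πW) ≫ p := by
    simp only [Category.assoc]
    rw [← hπ, ← pullback.condition_assoc, ← pullback.condition]
  let ρ : pullback (pullback.snd p πW) q ⟶ Rs p D :=
    mk p D (pullback.snd (pullback.snd p πW) q)
      (pullback.fst (pullback.snd p πW) q ≫ pullback.fst p πW) hc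
  have hρs : ρ ≫ sR p D = pullback.snd (pullback.snd p πW) q := mk_sR _ _ _ _ _
  have hρx : ρ ≫ xR p D = pullback.fst (pullback.snd p πW) q ≫ pullback.fst p πW :=
    mk_xR _ _ _ _ _
  have hσc : 𝟙 _ ≫ pullback.fst (pullback.snd p πW) q = (ρ ≫ tR p D) ≫ θ p D q πW hπ := by
    rw [Category.id_comp]
    apply pullback.hom_ext
    · rw [Category.assoc, θ_fst, Category.assoc, tR_hom, hρx]
    · rw [Category.assoc, θ_snd, Category.assoc, ← w, ← Category.assoc, hρs, pullback.condition]
  let σ : pullback (pullback.snd p πW) q ⟶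
      pullback (pullback.fst (pullback.snd p πW) q) (θ p D q πW hπ) :=
    pullback.lift (𝟙 _) (ρ ≫ tR p D) hσc
  have hσ : σ ≫ pullback.fst (pullback.fst (pullback.snd p πW) q) (θ p D q πW hπ) = 𝟙 _ :=
    pullback.lift_fst _ _ _
  have hσ' : pullback.fst (pullback.fst (pullback.snd p πW) q) (θ p D q πW hπ) ≫ σ = 𝟙 _ := by
    rw [← cancel_mono (pullback.fst (pullback.fst (pullback.snd p πW) q) (θ p D q πW hπ)),
      Category.assoc, hσ, Category.comp_id, Category.id_comp]
  exact ⟨σ, hσ', hσ⟩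

include w in
/-- `θ` as a morphism of descent data `D ⟶ toDD W`. -/
theorem exists_hom_toDD : ∃ Θ : D ⟶ (Desc.toDD p).obj (Over.mk πW), Θ.hom.left = θ p D q πW hπ := by
  refine ⟨⟨Over.homMk (θ p D q πW hπ) (θ_fst p D q πW hπ), ?_⟩, rfl⟩
  intro T x₀ x₁ h v w' hw'
  have hw'' : w'.1 = v.1 ≫ θ p D q πW hπ := hw'
  change (Desc.canMap p (Over.mk πW) x₀ x₁ h w').1 = (D.φ x₀ x₁ h v).1 ≫ θ p D q πW hπ
  rw [Desc.canMap_val]
  apply pullback.hom_ext
  · rw [pullback.lift_fst, Category.assoc]
    simp only [Over.mk_hom]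
    rw [θ_fst]
    exact ((D.φ x₀ x₁ h v).2).symm
  · rw [pullback.lift_snd, Category.assoc, hw'', Category.assoc]
    simp only [Over.mk_hom]
    rw [θ_snd]
    have hv : v.1 ≫ D.obj.hom = x₀ := v.2
    have hc : (v.1 ≫ D.obj.hom) ≫ p = x₁ ≫ p := by rw [hv, h]
    have e1 := mk p D v.1 x₁ hc ≫= w
    rw [mk_sR_assoc, ← Category.assoc, mk_tR] at e1
    rw [e1]
    congr 1
    exact ph_congr p D _ _ hv rfl rfl

end eff

/-- **Effectivity** when the orbits of `grpd p D` lie in affine opens. -/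
theorem effective_of_orbits [Surjective p] [IsFinite p] [Flat p] [LocallyOfFinitePresentation p]
    (haff : ∀ x : D.obj.left, ∃ V : D.obj.left.Opens, IsAffineOpen V ∧
      (tR p D).base '' ((sR p D).base ⁻¹' {x}) ⊆ (V : Set D.obj.left)) :
    ∃ W : Over Y, Nonempty ((Desc.toDD p).obj W ≅ D) := by
  obtain ⟨W, q, w, hdesc, -, -, -, hsurj, -, -, -, -, hmono⟩ := exists_quotient (grpd p D) haff
  obtain ⟨hfin, hflat, -, hiso⟩ := hmono (jMono_grpd p D)
  have w' : sR p D ≫ q = tR p D ≫ q := w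
  obtain ⟨πW, hπ⟩ := hdesc Y (D.obj.hom ≫ p) (by
    change sR p D ≫ D.obj.hom ≫ p = tR p D ≫ D.obj.hom ≫ p
    rw [tR_hom_assoc, cond'])
  haveI : IsIso (pullback.lift (tR p D) (sR p D) w'.symm) := hiso
  haveI := hsurj
  haveI := hflat
  haveI : QuasiCompact q := by haveI := hfin; infer_instance
  haveI := isIso_θ p D q w' πW hπ
  obtain ⟨Θ, hΘ⟩ := exists_hom_toDD p D q w' πW hπ
  haveI : IsIso Θ.hom.left := by rw [hΘ]; infer_instance
  haveI := isIso_of_isIso_left p Θ
  exact ⟨Over.mk πW, ⟨(asIso Θ).symm⟩⟩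

end Groth.Agent.Lib.Helper4.DescFinEff
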