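import Mathlib
import Groth.Prelude.Def_Desc
import Groth.Agent.Lib.Helper4.DescGrpd
import Groth.Agent.Lib.Helper4.DescFinEff

/-!
# Effectivity of descent along finite locally free morphisms: finite sets in affine opens
-/

set_option backward.isDefEq.respectTransparency false
set_option autoImplicit false
set_option linter.style.haveILetI false
set_option linter.unusedSectionVars false

universe u
open CategoryTheory CategoryTheory.Limits AlgebraicGeometry

namespace Groth.Agent.Lib.Helper4.DescFinEff2

open Groth.Agent.Lib.Helper4.DescGrpd Groth.Agent.Lib.Helper4.DescFinEff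

variable {X Y : Scheme.{u}} (p : X ⟶ Y) (D : Desc.SchDD p)

/-- all points of an orbit lie over the same point of `Y` -/
theorem orbit_over (x v : D.obj.left)
    (hv : v ∈ (tR p D).base '' ((sR p D).base ⁻¹' {x})) :
    p (D.obj.hom v) = p (D.obj.hom x) := by
  obtain ⟨r, hr, rfl⟩ := hv
  have hr' : sR p D r = x := hr
  rw [← hr']
  simp only [← Scheme.Hom.comp_apply]
  rw [tR_hom, DescGrpd.cond]

theorem finite_orbit [IsFinite p] (x : D.obj.left) :
    ((tR p D).base '' ((sR p D).base ⁻¹' {x})).Finite := by
  haveI : IsFinite (sR p D) := inferInstanceAs (IsFinite (pullback.fst (D.obj.hom ≫ p) p))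
  exact ((sR p D).finite_preimage_singleton x).image _

/-- SGA 1 VIII 7.6 / Stacks 0ABH-type statement. -/
theorem effective_of_finite_sets [Surjective p] [IsFinite p] [Flat p]
    [LocallyOfFinitePresentation p]
    (hV : ∀ (y : Y) (s : Finset ↑(D.obj.left)), (∀ v ∈ s, p (D.obj.hom v) = y) →
      ∃ U : D.obj.left.Opens, IsAffineOpen U ∧ ∀ v ∈ s, v ∈ U) :
    ∃ W : Over Y, Nonempty ((Desc.toDD p).obj W ≅ D) := by
  apply effective_of_orbits p D
  intro x
  have hfin := finite_orbit p D x
  obtain ⟨U, hU, hsub⟩ := hV (p (D.obj.hom x)) hfin.toFinset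
    (fun v hv => orbit_over p D x v (hfin.mem_toFinset.mp hv))
  exact ⟨U, hU, fun v hv => hsub v (hfin.mem_toFinset.mpr hv)⟩

end Groth.Agent.Lib.Helper4.DescFinEff2
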