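import Mathlib
import Groth.Prelude.Def_Desc
import Groth.Prelude.Def_LCI2
import Groth.Agent.Lib.Helper4.DescFinEff2
import Groth.Agent.Lib.Helper11.FiniteAffine

/-!
# Effectivity of descent along finite locally free morphisms: (relatively) ample case
-/

set_option backward.isDefEq.respectTransparency false
set_option autoImplicit false
set_option linter.style.haveILetI false
set_option linter.unusedSectionVars false

universe u
open CategoryTheory CategoryTheory.Limits AlgebraicGeometry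

namespace Groth.Agent.Lib.Helper4.DescFinEff3

open Groth.Agent.Lib.Helper4.DescFinEff2 Groth.Agent.Lib.helper11.FiniteAffine

variable {X Y : Scheme.{u}} (p : X ⟶ Y) (D : Desc.SchDD p)

theorem effective_of_ample [Surjective p] [IsFinite p] [Flat p] [LocallyOfFinitePresentation p]
    (L : D.obj.left.Modules) (hL : CohB1.IsAmple L) :
    ∃ W : Over Y, Nonempty ((Desc.toDD p).obj W ≅ D) := by
  apply effective_of_finite_sets p D
  intro y s hs
  obtain ⟨n, sec, hZ, -, haff⟩ := exists_affine_genLocus_of_finite hL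
    (↑s : Set D.obj.left) s.finite_toSet ⊤ (by simp)
  exact ⟨_, haff, fun v hv => hZ (by simpa using hv)⟩

theorem effective_of_relAmple [Surjective p] [IsFinite p] [Flat p]
    [LocallyOfFinitePresentation p]
    (L : D.obj.left.Modules) (hL : RelAmple.IsRelAmple D.obj.hom L) :
    ∃ W : Over Y, Nonempty ((Desc.toDD p).obj W ≅ D) := by
  apply effective_of_finite_sets p D
  intro y s hs
  obtain ⟨_, ⟨Y₀, hY₀, rfl⟩, hy, -⟩ :=
    Y.isBasis_affineOpens.exists_subset_of_mem_open (Set.mem_univ y) isOpen_univ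
  have hX₀ : IsAffineOpen (p ⁻¹ᵁ Y₀) := hY₀.preimage p
  have hamp := hL.2 ⟨p ⁻¹ᵁ Y₀, hX₀⟩
  have hsV₀ : ∀ v ∈ s, v ∈ D.obj.hom ⁻¹ᵁ (p ⁻¹ᵁ Y₀) := fun v hv => by
    show p (D.obj.hom v) ∈ Y₀
    rw [hs v hv]
    exact hy
  have hZfin : ((D.obj.hom ⁻¹ᵁ (p ⁻¹ᵁ Y₀)).ι ⁻¹' (↑s : Set D.obj.left)).Finite :=
    s.finite_toSet.preimage ((D.obj.hom ⁻¹ᵁ (p ⁻¹ᵁ Y₀)).ι.injective.injOn)
  obtain ⟨n, sec, hZ, -, haff⟩ := exists_affine_genLocus_of_finite hamp _ hZfin ⊤ (by simp)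
  refine ⟨(D.obj.hom ⁻¹ᵁ (p ⁻¹ᵁ Y₀)).ι ''ᵁ CohB1.genLocus _ sec,
    haff.image_of_isOpenImmersion _, fun v hv => ?_⟩
  refine ⟨⟨v, hsV₀ v hv⟩, hZ ?_, rfl⟩
  show (D.obj.hom ⁻¹ᵁ (p ⁻¹ᵁ Y₀)).ι ⟨v, hsV₀ v hv⟩ ∈ (↑s : Set D.obj.left)
  exact hv

end Groth.Agent.Lib.Helper4.DescFinEff3
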