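import Mathlib
import Groth.Agent.Lib.Helper13.EL7

/-!
# Lifting a geometric point through a quasi-finite morphism

For `f : R ⟶ V` locally quasi-finite, `x : V`, `k` the algebraic closure of `κ(x)` and `r` a point
over `x`, the canonical geometric point `Spec k ⟶ V` at `x` lifts to a `k`-point of `R` at `r`.
Consequently the fibre `f⁻¹{x}` has at most as many points as there are such lifts.
-/

set_option backward.isDefEq.respectTransparency false
set_option autoImplicit false
set_option linter.style.haveILetI false
set_option linter.unusedSectionVars false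

universe u
open CategoryTheory CategoryTheory.Limits AlgebraicGeometry

namespace Groth.Agent.Lib.Helper4.GeomLift

variable {R V : Scheme.{u}} (f : R ⟶ V)

/-- the canonical geometric point at `x` -/
noncomputable def geomPt (x : V) :
    Spec (CommRingCat.of (AlgebraicClosure (V.residueField x))) ⟶ V :=
  Spec.map (CommRingCat.ofHom (algebraMap (V.residueField x)
    (AlgebraicClosure (V.residueField x)))) ≫ V.fromSpecResidueField x

theorem exists_geom_lift [LocallyQuasiFinite f] (x : V) (r : R) (h : f r = x) :
    ∃ ρ : Spec (CommRingCat.of (AlgebraicClosure (V.residueField x))) ⟶ R,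
      ρ ≫ f = geomPt x ∧ ∀ z, ρ z = r := by
  let φ : V.residueField x ⟶ R.residueField r :=
    (V.residueFieldCongr h).inv ≫ f.residueFieldMap r
  have hφ : φ.hom.Finite := by
    have h1 : (f.residueFieldMap r).hom.Finite :=
      Groth.Agent.Lib.helper13.EL.finite_residueFieldMap_of_quasiFiniteAt (f.quasiFiniteAt r)
    have h2 : ((V.residueFieldCongr h).inv).hom.Finite :=
      RingHom.Finite.of_surjective _ (ConcreteCategory.bijective_of_isIso
        (V.residueFieldCongr h).inv).2
    rw [CommRingCat.hom_comp]
    exact h1.comp h2
  letI : Algebra (V.residueField x) (R.residueField r) := φ.hom.toAlgebra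
  haveI : Module.Finite (V.residueField x) (R.residueField r) := hφ
  haveI : Algebra.IsAlgebraic (V.residueField x) (R.residueField r) :=
    Algebra.IsAlgebraic.of_finite _ _
  let ψ : R.residueField r →ₐ[V.residueField x] AlgebraicClosure (V.residueField x) :=
    IsAlgClosed.lift
  have hψ : φ ≫ CommRingCat.ofHom ψ.toRingHom = CommRingCat.ofHom (algebraMap (V.residueField x)
      (AlgebraicClosure (V.residueField x))) := by
    ext a
    exact ψ.commutes a
  have hφdef : Spec.map φ =
      Spec.map (f.residueFieldMap r) ≫ Spec.map (V.residueFieldCongr h).inv := Spec.map_comp _ _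
  refine ⟨Spec.map (CommRingCat.ofHom ψ.toRingHom) ≫ R.fromSpecResidueField r, ?_, fun z => ?_⟩
  · rw [Category.assoc, ← Scheme.Hom.SpecMap_residueFieldMap_fromSpecResidueField,
      ← Scheme.residueFieldCongr_fromSpecResidueField h.symm]
    unfold geomPt
    rw [← hψ, Spec.map_comp, hφdef]
    simp only [Category.assoc]
    rfl
  · rw [Scheme.Hom.comp_apply]
    exact Scheme.fromSpecResidueField_apply r _

/-- The fibre of a locally quasi-finite morphism over `x` injects into the set of lifts of the
canonical geometric point at `x`. -/
theorem encard_fibre_le [LocallyQuasiFinite f] (x : V) :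
    (f ⁻¹' {x}).encard ≤
      Set.encard {ρ : Spec (CommRingCat.of (AlgebraicClosure (V.residueField x))) ⟶ R |
        ρ ≫ f = geomPt x} := by
  let g : ↥(f ⁻¹' {x}) → ↥{ρ : Spec (CommRingCat.of (AlgebraicClosure (V.residueField x))) ⟶ R |
      ρ ≫ f = geomPt x} := fun r =>
    ⟨(exists_geom_lift f x r.1 r.2).choose, (exists_geom_lift f x r.1 r.2).choose_spec.1⟩
  have hg : Function.Injective g := by
    intro r r' hrr'
    have h1 : (exists_geom_lift f x r.1 r.2).choose = (exists_geom_lift f x r'.1 r'.2).choose :=
      congrArg Subtype.val hrr'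
    have hne : Nonempty (Spec (CommRingCat.of (AlgebraicClosure (V.residueField x)))) :=
      inferInstanceAs (Nonempty (PrimeSpectrum (AlgebraicClosure (V.residueField x))))
    obtain ⟨z⟩ := hne
    apply Subtype.ext
    rw [← (exists_geom_lift f x r.1 r.2).choose_spec.2 z,
      ← (exists_geom_lift f x r'.1 r'.2).choose_spec.2 z, h1]
  exact ENat.card_le_card_of_injective hg

end Groth.Agent.Lib.Helper4.GeomLift
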