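import Mathlib
import Groth.Prelude.Def_Desc
import Groth.Agent.Lib.Helper4.DescFinEff2
import Groth.Agent.Lib.Helper4.GeomLift

/-!
# Effectivity of descent along finite locally free morphisms with at most `d` geometric points
in the fibres
-/

set_option backward.isDefEq.respectTransparency false
set_option autoImplicit false
set_option linter.style.haveILetI false
set_option linter.unusedSectionVars false

universe u
open CategoryTheory CategoryTheory.Limits AlgebraicGeometry

namespace Groth.Agent.Lib.Helper4.DescFinEff4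

open Groth.Agent.Lib.Helper4.DescGrpd Groth.Agent.Lib.Helper4.DescFinEff
  Groth.Agent.Lib.Helper4.DescFinEff2 Groth.Agent.Lib.Helper4.GeomLift

variable {X Y : Scheme.{u}} (p : X ⟶ Y) (D : Desc.SchDD p)

theorem encard_fibre_sR_le [IsFinite p] (d : ℕ)
    (hfib : ∀ (k : Type u) [Field k] [IsAlgClosed k] (y : Spec (CommRingCat.of k) ⟶ Y),
      Set.encard {x : Spec (CommRingCat.of k) ⟶ X | x ≫ p = y} ≤ d) (x : D.obj.left) :
    ((sR p D) ⁻¹' {x}).encard ≤ d := by
  haveI : IsFinite (sR p D) := inferInstanceAs (IsFinite (pullback.fst (D.obj.hom ≫ p) p))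
  refine (encard_fibre_le (sR p D) x).trans (le_trans ?_
    (hfib (AlgebraicClosure (D.obj.left.residueField x)) (geomPt x ≫ D.obj.hom ≫ p)))
  refine Set.encard_le_encard_of_injOn (f := fun ρ => ρ ≫ xR p D) ?_ ?_
  · intro ρ hρ
    have hρ' : ρ ≫ sR p D = geomPt x := hρ
    show (ρ ≫ xR p D) ≫ p = geomPt x ≫ D.obj.hom ≫ p
    rw [Category.assoc, ← cond', reassoc_of% hρ']
  · intro ρ hρ ρ' hρ' h
    have h1 : ρ ≫ sR p D = geomPt x := hρ
    have h2 : ρ' ≫ sR p D = geomPt x := hρ'
    exact DescGrpd.hom_ext p D (h1.trans h2.symm) h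

theorem mem_orbit_self (x : D.obj.left) : x ∈ (tR p D).base '' ((sR p D).base ⁻¹' {x}) := by
  refine ⟨eR p D x, ?_, ?_⟩
  · show sR p D (eR p D x) = x
    rw [← Scheme.Hom.comp_apply, eR_sR]
    rfl
  · show tR p D (eR p D x) = x
    rw [← Scheme.Hom.comp_apply, eR_tR]
    rfl

theorem effective_of_bounded_fibres [Surjective p] [IsFinite p] [Flat p]
    [LocallyOfFinitePresentation p] (d : ℕ) (hd : 0 < d)
    (hfib : ∀ (k : Type u) [Field k] [IsAlgClosed k] (y : Spec (CommRingCat.of k) ⟶ Y),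
      Set.encard {x : Spec (CommRingCat.of k) ⟶ X | x ≫ p = y} ≤ d)
    (hV : ∀ (y : Y) (v : Fin d → ↑(D.obj.left)), (∀ i, p (D.obj.hom (v i)) = y) →
      ∃ U : D.obj.left.Opens, IsAffineOpen U ∧ ∀ i, v i ∈ U) :
    ∃ W : Over Y, Nonempty ((Desc.toDD p).obj W ≅ D) := by
  classical
  apply effective_of_orbits p D
  intro x
  have h1 : ((tR p D).base '' ((sR p D).base ⁻¹' {x})).encard ≤ d :=
    (Set.encard_image_le _ _).trans (encard_fibre_sR_le p D d hfib x)
  have hfin : ((tR p D).base '' ((sR p D).base ⁻¹' {x})).Finite :=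
    Set.finite_of_encard_le_coe h1
  haveI : Fintype ↥((tR p D).base '' ((sR p D).base ⁻¹' {x})) := hfin.fintype
  haveI : Nonempty ↥((tR p D).base '' ((sR p D).base ⁻¹' {x})) := ⟨⟨x, mem_orbit_self p D x⟩⟩
  have hcard : Fintype.card ↥((tR p D).base '' ((sR p D).base ⁻¹' {x})) ≤
      Fintype.card (Fin d) := by
    rw [Fintype.card_fin, ← Set.toFinset_card, ← Set.ncard_eq_toFinset_card']
    have := hfin.cast_ncard_eq
    rw [← this] at h1
    exact_mod_cast h1
  obtain ⟨emb⟩ := Function.Embedding.nonempty_of_card_le hcard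
  have hsurj := Function.invFun_surjective emb.injective
  obtain ⟨U, hU, hsub⟩ := hV (p (D.obj.hom x)) (fun i => (Function.invFun emb i).1)
    (fun i => orbit_over p D x _ (Function.invFun emb i).2)
  refine ⟨U, hU, fun v hv => ?_⟩
  obtain ⟨i, hi⟩ := hsurj ⟨v, hv⟩
  have := hsub i
  rw [hi] at this
  exact this

end Groth.Agent.Lib.Helper4.DescFinEff4
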