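import Mathlib
import Groth.Agent.Lib.Helper2.HensStrSch2
import Groth.Agent.Lib.Helper3.FinitePart

/-!
# Points with values in the residue field of schemes finite over a local ring with algebraically closed residue field (helper4)

`R` a local ring with residue field `k`, `i₀ : Spec k ⟶ Spec R`.
* `exists_ringHom_residue`: a prime of a finite `R`-algebra over the maximal ideal is the kernel of a ring homomorphism to `k`
  over `R` (`k` algebraically closed).
* `exists_kpt_mem`: every non-empty closed subset of a scheme finite over `Spec R` contains the image of a `k`-point over `i₀`.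
* `kpt_unique`: the spectrum of a local `R`-algebra has at most one `k`-point over `i₀`.
* `hom_ext_of_kpt`: two morphisms from a scheme finite over `Spec R` to an étale `B`-scheme with the same composite to `B`
  which agree on `k`-points are equal.
* `exists_section_of_kpt`: sections of étale schemes over a henselian local ring through a `k`-point over a `k`-point at the
  closed point.
-/

set_option autoImplicit false
set_option backward.isDefEq.respectTransparency false
universe u
open CategoryTheory CategoryTheory.Limits AlgebraicGeometry IsLocalRing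

namespace Groth.Agent.Lib.Helper4.HensKPt

variable (R : Type u) [CommRing R] [IsLocalRing R]

/-- The spectrum of the residue field. -/
noncomputable abbrev kSpec : Scheme.{u} := Spec (CommRingCat.of (ResidueField R))

/-- The closed point of `Spec R` as a morphism. -/
noncomputable abbrev i₀ : kSpec R ⟶ Spec (CommRingCat.of R) := Spec.map (CommRingCat.ofHom (residue R))

/-- The point of `Spec k`. -/
noncomputable abbrev pt : ↥(kSpec R) := (closedPoint (ResidueField R) : PrimeSpectrum (ResidueField R))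

theorem eq_pt (y : ↥(kSpec R)) : y = pt R :=
  Subsingleton.elim (α := PrimeSpectrum (ResidueField R)) _ _

variable {R}

section alg

theorem exists_ringHom_residue [IsAlgClosed (ResidueField R)] {B : Type u} [CommRing B] (φ : R →+* B) (hφ : φ.Finite)
    (Q : Ideal B) [hQp : Q.IsPrime] (hQ : Q.comap φ = maximalIdeal R) :
    ∃ γ : B →+* ResidueField R, γ.comp φ = residue R ∧ RingHom.ker γ = Q := by
  have hint : φ.IsIntegral := hφ.to_isIntegral
  have hQmax : Q.IsMaximal := by
    letI := φ.toAlgebra
    haveI : Algebra.IsIntegral R B := ⟨hint⟩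
    have : (Q.comap (algebraMap R B)).IsMaximal := by
      show (Q.comap φ).IsMaximal
      rw [hQ]; infer_instance
    exact Ideal.isMaximal_of_isIntegral_of_isMaximal_comap Q this
  letI : Field (B ⧸ Q) := Ideal.Quotient.field Q
  let ψ : R →+* B ⧸ Q := (Ideal.Quotient.mk Q).comp φ
  have hψ : ∀ r ∈ maximalIdeal R, ψ r = 0 := by
    intro r hr
    rw [← hQ] at hr
    exact Ideal.Quotient.eq_zero_iff_mem.mpr hr
  let ψb : ResidueField R →+* B ⧸ Q := Ideal.Quotient.lift (maximalIdeal R) ψ hψ
  have hψb : ψb.comp (residue R) = ψ := Ideal.Quotient.lift_comp_mk _ _ _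
  have hψfin : ψ.Finite := RingHom.Finite.comp (RingHom.Finite.of_surjective _ Ideal.Quotient.mk_surjective) hφ
  have hψbfin : ψb.Finite := RingHom.Finite.of_comp_finite (f := residue R) (by rw [hψb]; exact hψfin)
  have hbij : Function.Bijective ψb := IsAlgClosed.ringHom_bijective_of_isIntegral ψb hψbfin.to_isIntegral
  let e : ResidueField R ≃+* B ⧸ Q := RingEquiv.ofBijective ψb hbij
  refine ⟨(e.symm : B ⧸ Q →+* ResidueField R).comp (Ideal.Quotient.mk Q), ?_, ?_⟩
  · ext r
    show e.symm (Ideal.Quotient.mk Q (φ r)) = residue R r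
    rw [RingEquiv.symm_apply_eq]
    show ψ r = ψb (residue R r)
    rw [← hψb]; rfl
  · ext b
    rw [RingHom.mem_ker]
    show e.symm (Ideal.Quotient.mk Q b) = 0 ↔ b ∈ Q
    rw [map_eq_zero_iff _ e.symm.injective, Ideal.Quotient.eq_zero_iff_mem]

end alg

section chk

theorem exists_kpt_mem_spec [IsAlgClosed (ResidueField R)] {B : CommRingCat.{u}} (φ : CommRingCat.of R ⟶ B)
    (hφ : φ.hom.Finite) (C : Set ↥(Spec B)) (hC : IsClosed C) (hne : C.Nonempty) :
    ∃ z : kSpec R ⟶ Spec B, z ≫ Spec.map φ = i₀ R ∧ z.base (pt R) ∈ C := by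
  haveI : IsFinite (Spec.map φ) := (IsFinite.SpecMap_iff φ).mpr hφ
  obtain ⟨c, hc⟩ := hne
  obtain ⟨p₀, hp, hp₀⟩ := Groth.Agent.Lib.helper3.FinitePart.exists_specializes_closedFibre R (Spec.map φ) c
  have hp₀C : p₀ ∈ C := hp.mem_closed hC hc
  let Q : Ideal B := (p₀ : PrimeSpectrum B).asIdeal
  haveI : Q.IsPrime := (p₀ : PrimeSpectrum B).isPrime
  have hQ : Q.comap φ.hom = maximalIdeal R := by
    have := congrArg PrimeSpectrum.asIdeal hp₀
    exact this
  obtain ⟨γ, hγ, hker⟩ := exists_ringHom_residue φ.hom hφ Q hQ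
  refine ⟨Spec.map (CommRingCat.ofHom γ), ?_, ?_⟩
  · rw [← Spec.map_comp]
    congr 1
    ext r
    exact congrArg (fun m : R →+* ResidueField R => m r) hγ
  · have e : (Spec.map (CommRingCat.ofHom γ)).base (pt R) = p₀ := by
      apply PrimeSpectrum.ext
      show Ideal.comap γ (maximalIdeal (ResidueField R)) = Q
      rw [← hker, IsLocalRing.maximalIdeal_eq_bot]
      rfl
    exact (congrArg (· ∈ C) e).mpr hp₀C

theorem exists_kpt_mem [IsAlgClosed (ResidueField R)] {Z : Scheme.{u}} (q : Z ⟶ Spec (CommRingCat.of R)) [IsFinite q]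
    (C : Set ↥Z) (hC : IsClosed C) (hne : C.Nonempty) :
    ∃ z : kSpec R ⟶ Z, z ≫ q = i₀ R ∧ z.base (pt R) ∈ C := by
  haveI : IsAffine Z := isAffine_of_isAffineHom q
  let e : Z ≅ Spec Γ(Z, ⊤) := Z.isoSpec
  let φ : CommRingCat.of R ⟶ Γ(Z, ⊤) := Spec.preimage (e.inv ≫ q)
  have hφ : Spec.map φ = e.inv ≫ q := Spec.map_preimage _
  have hfin : φ.hom.Finite := by
    have : IsFinite (Spec.map φ) := by rw [hφ]; infer_instance
    exact (IsFinite.SpecMap_iff φ).mp this
  obtain ⟨z, hz, hzC⟩ := exists_kpt_mem_spec φ hfin (e.inv.base ⁻¹' C) (hC.preimage e.inv.continuous) (by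
    obtain ⟨c, hc⟩ := hne
    refine ⟨e.hom.base c, ?_⟩
    show e.inv.base (e.hom.base c) ∈ C
    rw [← Scheme.Hom.comp_apply, e.hom_inv_id]
    exact hc)
  refine ⟨z ≫ e.inv, ?_, ?_⟩
  · rw [Category.assoc, ← hφ, hz]
  · rw [Scheme.Hom.comp_apply]
    exact hzC

end chk

section uniq

/-- Uniqueness of the `k`-point over `i₀` of the spectrum of a local `R`-algebra. -/
theorem kpt_unique {A : CommRingCat.{u}} [IsLocalRing A] (ρ : CommRingCat.of R ⟶ A) (z₁ z₂ : kSpec R ⟶ Spec A)
    (h₁ : z₁ ≫ Spec.map ρ = i₀ R) (h₂ : z₂ ≫ Spec.map ρ = i₀ R) : z₁ = z₂ := by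
  let γ₁ : A ⟶ CommRingCat.of (ResidueField R) := Spec.preimage z₁
  let γ₂ : A ⟶ CommRingCat.of (ResidueField R) := Spec.preimage z₂
  have e₁ : Spec.map γ₁ = z₁ := Spec.map_preimage _
  have e₂ : Spec.map γ₂ = z₂ := Spec.map_preimage _
  have c₁ : ρ ≫ γ₁ = CommRingCat.ofHom (residue R) := by
    apply Spec.map_injective
    rw [Spec.map_comp, e₁, h₁]
  have c₂ : ρ ≫ γ₂ = CommRingCat.ofHom (residue R) := by
    apply Spec.map_injective
    rw [Spec.map_comp, e₂, h₂]
  have c₁' : ∀ r : R, γ₁.hom (ρ.hom r) = residue R r := fun r => congrArg (fun m => m.hom r) c₁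
  have c₂' : ∀ r : R, γ₂.hom (ρ.hom r) = residue R r := fun r => congrArg (fun m => m.hom r) c₂
  have hker : ∀ (γ : A ⟶ CommRingCat.of (ResidueField R)), (∀ r : R, γ.hom (ρ.hom r) = residue R r) →
      ∀ a : A, γ.hom a = 0 ↔ a ∈ maximalIdeal A := by
    intro γ hγ a
    constructor
    · intro h0
      rw [IsLocalRing.mem_maximalIdeal, mem_nonunits_iff]
      intro hu
      have := hu.map γ.hom
      rw [h0] at this
      exact not_isUnit_zero this
    · intro ha
      by_contra hne
      have hu : IsUnit (γ.hom a) := isUnit_iff_ne_zero.mpr hne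
      obtain ⟨r, hr⟩ := residue_surjective (hu.unit⁻¹ : (ResidueField R)ˣ).1
      have h1 : γ.hom (a * ρ.hom r) = 1 := by
        rw [map_mul, hγ, hr]
        exact hu.mul_val_inv
      have h2 : a * ρ.hom r ∈ maximalIdeal A := Ideal.mul_mem_right _ _ ha
      have h3 : (1 : A) - a * ρ.hom r ∈ nonunits A := by
        rw [mem_nonunits_iff]
        intro hu'
        have := hu'.map γ.hom
        rw [map_sub, map_one, h1, sub_self] at this
        exact not_isUnit_zero this
      have h4 : (1 : A) - a * ρ.hom r ∈ maximalIdeal A := h3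
      have h5 : (1 : A) ∈ maximalIdeal A := by
        have := Ideal.add_mem _ h4 h2
        rwa [sub_add_cancel] at this
      exact (Ideal.ne_top_iff_one _).mp (IsLocalRing.maximalIdeal.isMaximal A).ne_top h5
  have hγ : γ₁ = γ₂ := by
    ext a
    obtain ⟨r, hr⟩ := residue_surjective (γ₁.hom a)
    have h0 : γ₁.hom (a - ρ.hom r) = 0 := by rw [map_sub, c₁', hr, sub_self]
    have hm : a - ρ.hom r ∈ maximalIdeal A := (hker γ₁ c₁' _).mp h0
    have h0' : γ₂.hom (a - ρ.hom r) = 0 := (hker γ₂ c₂' _).mpr hm
    rw [map_sub, c₂', sub_eq_zero] at h0'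
    rw [h0', hr]
  rw [← e₁, ← e₂, hγ]

end uniq

section ul

/-- Two morphisms from a scheme finite over `Spec R` to an étale `B`-scheme, with the same composite to `B`, which agree on
`k`-points over `i₀`, are equal. -/
theorem hom_ext_of_kpt [IsAlgClosed (ResidueField R)] {P E B : Scheme.{u}} (qP : P ⟶ Spec (CommRingCat.of R))
    [IsFinite qP] (π : E ⟶ B) [Etale π] (a b : P ⟶ E) (hab : a ≫ π = b ≫ π)
    (h : ∀ z : kSpec R ⟶ P, z ≫ qP = i₀ R → z ≫ a = z ≫ b) : a = b := by
  let Δ : E ⟶ pullback π π := pullback.diagonal π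
  let cc : P ⟶ pullback π π := pullback.lift a b hab
  have hc1 : cc ≫ pullback.fst π π = a := pullback.lift_fst _ _ _
  have hc2 : cc ≫ pullback.snd π π = b := pullback.lift_snd _ _ _
  have hΔ1 : Δ ≫ pullback.fst π π = 𝟙 _ := pullback.diagonal_fst _
  have hΔ2 : Δ ≫ pullback.snd π π = 𝟙 _ := pullback.diagonal_snd _
  let e : pullback Δ cc ⟶ P := pullback.snd Δ cc
  have he : IsOpenImmersion e := MorphismProperty.pullback_snd _ _ (inferInstance : IsOpenImmersion Δ)
  have hes : Surjective e := by
    constructor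
    by_contra hns
    have hne : (Set.range e.base)ᶜ.Nonempty := by
      rw [Set.nonempty_compl]
      intro hr
      exact hns (Set.range_eq_univ.mp hr)
    obtain ⟨z, hz, hzC⟩ := exists_kpt_mem qP (Set.range e.base)ᶜ e.isOpenEmbedding.isOpen_range.isClosed_compl hne
    have hza := h z hz
    have hfac : (z ≫ a) ≫ Δ = z ≫ cc := by
      apply pullback.hom_ext
      · simp only [Category.assoc, hΔ1, hc1, Category.comp_id]
      · simp only [Category.assoc, hΔ2, hc2, Category.comp_id, hza]
    have hl : pullback.lift (z ≫ a) z hfac ≫ e = z := pullback.lift_snd _ _ _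
    apply hzC
    refine ⟨(pullback.lift (z ≫ a) z hfac).base (pt R), ?_⟩
    rw [← Scheme.Hom.comp_apply, hl]
  have hiso : IsIso e := (isIso_iff_isOpenImmersion_and_surjective e).mpr ⟨he, hes⟩
  have hcc : e ≫ cc = pullback.fst Δ cc ≫ Δ := pullback.condition.symm
  have e1 : e ≫ a = pullback.fst Δ cc := by
    have := congrArg (· ≫ pullback.fst π π) hcc
    simp only [Category.assoc, hc1, hΔ1, Category.comp_id] at this
    exact this
  have e2 : e ≫ b = pullback.fst Δ cc := by
    have := congrArg (· ≫ pullback.snd π π) hcc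
    simp only [Category.assoc, hc2, hΔ2, Category.comp_id] at this
    exact this
  exact (cancel_epi e).mp (e1.trans e2.symm)

end ul

section seck

/-- Sections of an étale scheme over a henselian local ring `A` through a `k`-point lying over a `k`-point `c` of `Spec A`
at the closed point (with `A → k` surjective). -/
theorem exists_section_of_kpt {A : Type u} [CommRing A] [HenselianLocalRing A] {Y : Scheme.{u}}
    (f : Y ⟶ Spec (CommRingCat.of A)) [Etale f] (c : kSpec R ⟶ Spec (CommRingCat.of A))
    (hc : Function.Surjective (Spec.preimage c).hom) (τ : kSpec R ⟶ Y) (hτ : τ ≫ f = c) :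
    ∃ σ : Spec (CommRingCat.of A) ⟶ Y, σ ≫ f = 𝟙 _ ∧ c ≫ σ = τ := by
  let γ : A →+* ResidueField R := (Spec.preimage c).hom
  have hcγ : Spec.map (CommRingCat.ofHom γ) = c := Spec.map_preimage c
  have hker : RingHom.ker γ = maximalIdeal A :=
    IsLocalRing.eq_maximalIdeal (RingHom.ker_isMaximal_of_surjective γ hc)
  let e : ResidueField A ≃+* ResidueField R :=
    (Ideal.quotEquivOfEq hker.symm).trans (RingHom.quotientKerEquivOfSurjective hc)
  have he : (e : ResidueField A →+* ResidueField R).comp (residue A) = γ := by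
    ext a
    rfl
  have hc' : c = Spec.map (CommRingCat.ofHom (e : ResidueField A →+* ResidueField R)) ≫
      Spec.map (CommRingCat.ofHom (residue A)) := by
    rw [← Spec.map_comp, ← hcγ, ← he]
    rfl
  have hee : Spec.map (CommRingCat.ofHom (e.symm : ResidueField R →+* ResidueField A)) ≫
      Spec.map (CommRingCat.ofHom (e : ResidueField A →+* ResidueField R)) = 𝟙 _ := by
    rw [← Spec.map_comp, ← Spec.map_id]
    congr 1
    ext x
    exact e.symm_apply_apply x
  have hee' : Spec.map (CommRingCat.ofHom (e : ResidueField A →+* ResidueField R)) ≫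
      Spec.map (CommRingCat.ofHom (e.symm : ResidueField R →+* ResidueField A)) = 𝟙 _ := by
    rw [← Spec.map_comp, ← Spec.map_id]
    congr 1
    ext x
    exact e.apply_symm_apply x
  let τ' : Spec (CommRingCat.of (ResidueField A)) ⟶ Y :=
    Spec.map (CommRingCat.ofHom (e.symm : ResidueField R →+* ResidueField A)) ≫ τ
  have hτ' : τ' ≫ f = Spec.map (CommRingCat.ofHom (residue A)) := by
    show (_ ≫ τ) ≫ f = _
    rw [Category.assoc, hτ, hc', ← Category.assoc, hee, Category.id_comp]
  obtain ⟨σ, hσ1, hσ2⟩ := Groth.Agent.Lib.helper2.HensStr.exists_section_of_etale f τ' hτ'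
  refine ⟨σ, hσ1, ?_⟩
  rw [hc', Category.assoc, hσ2]
  show _ ≫ _ ≫ τ = τ
  rw [← Category.assoc, hee', Category.id_comp]

end seck

end Groth.Agent.Lib.Helper4.HensKPt
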