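import Mathlib
import Groth.Agent.Lib.Helper4.HensKPt
import Groth.Agent.Lib.Helper24.HenselLocal
import Groth.Agent.S0505

/-!
# Schemes finite over a henselian local ring are finite disjoint unions of local schemes; sections through `k`-points (helper4)

* `exists_local_decomp`: a scheme finite over `Spec R`, `R` henselian local, is isomorphic to a finite coproduct of spectra of
  henselian local rings finite over `R`.
* `exists_factor_sigma`: a morphism from the spectrum of a field to a coproduct factors through a summand.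
* `exists_section_through`: for `g : S' ⟶ Spec R` finite (`R` henselian local with algebraically closed residue field `k`) and
  `p : X ⟶ S'` étale, every choice of `k`-points of `X` over the `k`-points of `S'` is the restriction of a section of `p`.
-/

set_option autoImplicit false
set_option backward.isDefEq.respectTransparency false
universe u
open CategoryTheory CategoryTheory.Limits AlgebraicGeometry IsLocalRing

namespace Groth.Agent.Lib.Helper4.HensLocalDecomp

open Groth.Agent.Lib.Helper4.HensKPt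

variable {R : Type u} [CommRing R] [HenselianLocalRing R]

theorem exists_local_decomp {S' : Scheme.{u}} (g : S' ⟶ Spec (CommRingCat.of R)) [IsFinite g] :
    ∃ (ι : Type u) (_ : Fintype ι) (A : ι → Type u) (_ : ∀ i, CommRing (A i)) (_ : ∀ i, HenselianLocalRing (A i))
      (ρ : ∀ i, R →+* A i) (d : (∐ fun i => Spec (CommRingCat.of (A i))) ≅ S'),
      (∀ i, (ρ i).Finite) ∧
        ∀ i, Sigma.ι (fun i => Spec (CommRingCat.of (A i))) i ≫ d.hom ≫ g = Spec.map (CommRingCat.ofHom (ρ i)) := by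
  haveI : IsAffine S' := isAffine_of_isAffineHom g
  let e : S' ≅ Spec Γ(S', ⊤) := S'.isoSpec
  let φ : CommRingCat.of R ⟶ Γ(S', ⊤) := Spec.preimage (e.inv ≫ g)
  have hφ : Spec.map φ = e.inv ≫ g := Spec.map_preimage _
  have hfin : φ.hom.Finite := by
    have : IsFinite (Spec.map φ) := by rw [hφ]; infer_instance
    exact (IsFinite.SpecMap_iff φ).mp this
  letI : Algebra R Γ(S', ⊤) := φ.hom.toAlgebra
  haveI : Module.Finite R Γ(S', ⊤) := hfin
  obtain ⟨ι, hι, A, hA, hloc, ⟨eq⟩⟩ := Groth.Agent.Lib.helper24.HenselLocal.isPiLocal_of_finite R Γ(S', ⊤)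
  let ρ : ∀ i, R →+* A i := fun i => (Pi.evalRingHom A i).comp ((eq : Γ(S', ⊤) →+* (∀ i, A i)).comp φ.hom)
  have hρfin : ∀ i, (ρ i).Finite := fun i =>
    RingHom.Finite.comp (RingHom.Finite.of_surjective _ (Function.surjective_eval i))
      (RingHom.Finite.comp (RingHom.Finite.of_surjective _ eq.surjective) hfin)
  have hhens : ∀ i, HenselianLocalRing (A i) := fun i => by
    letI : Algebra R (A i) := (ρ i).toAlgebra
    haveI : Module.Finite R (A i) := hρfin i
    haveI := hloc i
    exact Groth.Agent.S0505.result R (A i)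
  let eqC : Γ(S', ⊤) ⟶ CommRingCat.of (∀ i, A i) := CommRingCat.ofHom (eq : Γ(S', ⊤) →+* (∀ i, A i))
  haveI : IsIso eqC := (ConcreteCategory.isIso_iff_bijective eqC).mpr eq.bijective
  haveI : IsIso (Spec.map eqC) := inferInstance
  let dh : (∐ fun i => Spec (CommRingCat.of (A i))) ⟶ S' :=
    sigmaSpec (fun i => CommRingCat.of (A i)) ≫ Spec.map eqC ≫ e.inv
  haveI : IsIso dh := inferInstance
  refine ⟨ι, hι, A, hA, hhens, ρ, asIso dh, hρfin, fun i => ?_⟩
  show Sigma.ι _ i ≫ (sigmaSpec (fun i => CommRingCat.of (A i)) ≫ Spec.map eqC ≫ e.inv) ≫ g = _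
  rw [Category.assoc, Category.assoc, ← hφ, ι_sigmaSpec_assoc, ← Spec.map_comp, ← Spec.map_comp]
  rfl

theorem exists_factor_sigma {ι : Type u} (Y : ι → Scheme.{u}) (z : kSpec R ⟶ ∐ Y) :
    ∃ (i : ι) (u : kSpec R ⟶ Y i), u ≫ Sigma.ι Y i = z := by
  obtain ⟨i, y, hy⟩ := (sigmaOpenCover Y).exists_eq (z.base (pt R))
  have hr : Set.range z.base ⊆ Set.range (Sigma.ι Y i).base := by
    rintro _ ⟨w, rfl⟩
    rw [eq_pt R w]
    exact ⟨y, hy⟩
  exact ⟨i, IsOpenImmersion.lift (Sigma.ι Y i) z hr, IsOpenImmersion.lift_fac _ _ _⟩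

/-- Sections of an étale scheme over a scheme finite over `Spec R` through prescribed `k`-points. -/
theorem exists_section_through [IsAlgClosed (ResidueField R)] {S' X : Scheme.{u}}
    (g : S' ⟶ Spec (CommRingCat.of R)) [IsFinite g] (p : X ⟶ S') [Etale p]
    (x : ∀ s' : {s' : kSpec R ⟶ S' // s' ≫ g = i₀ R}, {v : kSpec R ⟶ X // v ≫ p = s'.1}) :
    ∃ σ : S' ⟶ X, σ ≫ p = 𝟙 S' ∧ ∀ s' : {s' : kSpec R ⟶ S' // s' ≫ g = i₀ R}, s'.1 ≫ σ = (x s').1 := by
  obtain ⟨ι, hι, A, hA, hhens, ρ, d, hρfin, hd⟩ := exists_local_decomp g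
  let Y : ι → Scheme.{u} := fun i => Spec (CommRingCat.of (A i))
  let j : ∀ i, Y i ⟶ S' := fun i => Sigma.ι Y i ≫ d.hom
  have hj : ∀ i, j i ≫ g = Spec.map (CommRingCat.ofHom (ρ i)) := fun i => by
    show (Sigma.ι Y i ≫ d.hom) ≫ g = _
    rw [Category.assoc]; exact hd i
  -- the closed `k`-points of the summands
  have hz : ∀ i, ∃ z : kSpec R ⟶ Y i, z ≫ Spec.map (CommRingCat.ofHom (ρ i)) = i₀ R := fun i => by
    haveI : IsFinite (Spec.map (CommRingCat.ofHom (ρ i))) :=
      (IsFinite.SpecMap_iff (CommRingCat.ofHom (ρ i))).mpr (hρfin i)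
    obtain ⟨z, hz, -⟩ := exists_kpt_mem (Spec.map (CommRingCat.ofHom (ρ i))) Set.univ isClosed_univ
      ⟨(closedPoint (A i) : PrimeSpectrum (A i)), trivial⟩
    exact ⟨z, hz⟩
  choose z hz using hz
  have hzg : ∀ i, (z i ≫ j i) ≫ g = i₀ R := fun i => by rw [Category.assoc, hj, hz]
  let sp : ∀ i, {s' : kSpec R ⟶ S' // s' ≫ g = i₀ R} := fun i => ⟨z i ≫ j i, hzg i⟩
  have hsurj : ∀ i, Function.Surjective (Spec.preimage (z i)).hom := fun i => by
    have e1 : Spec.map (Spec.preimage (z i)) = z i := Spec.map_preimage _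
    have e2 : CommRingCat.ofHom (ρ i) ≫ Spec.preimage (z i) = CommRingCat.ofHom (residue R) := by
      apply Spec.map_injective
      rw [Spec.map_comp, e1, hz]
    intro y
    obtain ⟨r, hr⟩ := residue_surjective y
    exact ⟨ρ i r, (congrArg (fun m => m.hom r) e2).trans hr⟩
  -- local sections
  have hsec : ∀ i, ∃ σi : Y i ⟶ X, σi ≫ p = j i ∧ z i ≫ σi = (x (sp i)).1 := fun i => by
    have hv : (x (sp i)).1 ≫ p = z i ≫ j i := (x (sp i)).2
    let τ : kSpec R ⟶ pullback p (j i) := pullback.lift (x (sp i)).1 (z i) hv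
    have hτ : τ ≫ pullback.snd p (j i) = z i := pullback.lift_snd _ _ _
    haveI := hhens i
    obtain ⟨σ, hσ1, hσ2⟩ := exists_section_of_kpt (pullback.snd p (j i)) (z i) (hsurj i) τ hτ
    refine ⟨σ ≫ pullback.fst p (j i), ?_, ?_⟩
    · rw [Category.assoc, pullback.condition, ← Category.assoc, hσ1, Category.id_comp]
    · rw [← Category.assoc, hσ2]
      exact pullback.lift_fst _ _ _
  choose σi hσi1 hσi2 using hsec
  have hdesc : Sigma.desc j = d.hom := by
    apply Sigma.hom_ext
    intro i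
    rw [Sigma.ι_desc]
  refine ⟨d.inv ≫ Sigma.desc σi, ?_, ?_⟩
  · rw [Category.assoc]
    have : Sigma.desc σi ≫ p = Sigma.desc j := by
      apply Sigma.hom_ext
      intro i
      rw [Sigma.ι_desc_assoc, Sigma.ι_desc, hσi1]
    rw [this, hdesc, d.inv_hom_id]
  · rintro ⟨s', hs'⟩
    obtain ⟨i, u, hu⟩ := exists_factor_sigma Y (s' ≫ d.inv)
    have hs'u : s' = u ≫ j i := by
      show s' = u ≫ Sigma.ι Y i ≫ d.hom
      rw [← Category.assoc, hu, Category.assoc, d.inv_hom_id, Category.comp_id]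
    have huz : u = z i := by
      haveI : IsLocalRing (CommRingCat.of (A i)) := (hhens i).toIsLocalRing
      refine kpt_unique (CommRingCat.ofHom (ρ i)) u (z i) ?_ (hz i)
      rw [← hj, ← Category.assoc, ← hs'u, hs']
    have hsp : (⟨s', hs'⟩ : {s' : kSpec R ⟶ S' // s' ≫ g = i₀ R}) = sp i := by
      apply Subtype.ext
      show s' = z i ≫ j i
      rw [hs'u, huz]
    rw [hsp]
    show (z i ≫ Sigma.ι Y i ≫ d.hom) ≫ d.inv ≫ Sigma.desc σi = _
    rw [Category.assoc, Category.assoc, d.hom_inv_id_assoc, Sigma.ι_desc, hσi2]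

end Groth.Agent.Lib.Helper4.HensLocalDecomp
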