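import Mathlib
import Groth.Prelude.Def_DescFam
import Groth.Agent.Lib.Helper4.DescCoprod
import Groth.Agent.Lib.Helper4.HensLocalDecomp

/-!
# Finite étale descent data relative to a finite surjective morphism over a strictly henselian local ring are effective (helper4)

`R` henselian local with algebraically closed residue field `k`, `g : S' ⟶ Spec R` finite surjective, `D` a descent datum relative
to `g` whose member `X ⟶ S'` is étale with `X` finite over `Spec R`.  Then `D` is the canonical datum of a finite disjoint union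
of copies of `Spec R` (`exists_iso_of_finite_etale`): the gluing bijections on `k`-points form a transitive system, every
compatible family of `k`-points extends to a compatible section, and these sections decompose `X`.
-/

set_option autoImplicit false
set_option linter.style.haveILetI false
set_option backward.isDefEq.respectTransparency false
universe w u
open CategoryTheory CategoryTheory.Limits AlgebraicGeometry IsLocalRing

namespace Groth.Agent.Lib.Helper4.DescFinEtTriv

open Desc Groth.Agent.Lib.Helper4.DescGamma Groth.Agent.Lib.Helper4.HensKPt Groth.Agent.Lib.Helper4.HensLocalDecomp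

section gen

theorem isOpenImmersion_of_section {X T : Scheme.{u}} (p : X ⟶ T) [Etale p] (σ : T ⟶ X) (h : σ ≫ p = 𝟙 T) :
    IsOpenImmersion σ := by
  have h1 : Etale σ := by
    have : Etale (σ ≫ p) := by rw [h]; infer_instance
    exact Etale.of_comp σ p
  have h2 : Mono σ := by
    have : Mono (σ ≫ p) := by rw [h]; infer_instance
    exact mono_of_mono σ p
  exact IsOpenImmersion.of_flat_of_mono σ

theorem isClosed_range_of_section {X T : Scheme.{u}} (p : X ⟶ T) [IsSeparated p] (σ : T ⟶ X) (h : σ ≫ p = 𝟙 T) :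
    IsClosed (Set.range σ.base) := by
  have h1 : IsClosedImmersion σ := by
    have : IsClosedImmersion (σ ≫ p) := by rw [h]; infer_instance
    exact IsClosedImmersion.of_comp σ p
  exact σ.isClosedEmbedding.isClosed_range

end gen

variable {R : Type u} [CommRing R] [HenselianLocalRing R] [IsAlgClosed (ResidueField R)]
  {S' : Scheme.{u}} (g : S' ⟶ Spec (CommRingCat.of R))

/-- The `k`-points of `S'` over the closed point of `Spec R`. -/
abbrev KPt : Type u := {s' : kSpec R ⟶ S' // s' ≫ g = i₀ R}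

theorem kpt_cond (a b : KPt g) : a.1 ≫ g = b.1 ≫ g := a.2.trans b.2.symm

variable {g} (D : SchDDFam (fun _ : PUnit.{w + 1} => g))

/-- Transport of `k`-points of the member of `D` along the gluing bijections. -/
noncomputable def tp (a b : KPt g) (e : Lifts (D.obj PUnit.unit) a.1) : Lifts (D.obj PUnit.unit) b.1 :=
  D.φ (i := PUnit.unit) (j := PUnit.unit) a.1 b.1 (kpt_cond g a b) e

theorem tp_tp (a b c : KPt g) (e : Lifts (D.obj PUnit.unit) a.1) : tp D b c (tp D a b e) = tp D a c e :=
  D.φ_comp (i := PUnit.unit) (j := PUnit.unit) (k := PUnit.unit) a.1 b.1 c.1 (kpt_cond g a b) (kpt_cond g b c) e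

theorem tp_self (a : KPt g) (e : Lifts (D.obj PUnit.unit) a.1) : tp D a a e = e :=
  D.φ_self (i := PUnit.unit) a.1 e

theorem tp_injective (a b : KPt g) : Function.Injective (tp D a b) :=
  (D.φ (i := PUnit.unit) (j := PUnit.unit) a.1 b.1 (kpt_cond g a b)).injective

section compat

variable [IsFinite g] [hD : Etale (D.obj PUnit.unit).hom]

/-- A section through the transported `k`-points is compatible with the gluing bijections. -/
theorem ph_section (s₀ : KPt g) (e : Lifts (D.obj PUnit.unit) s₀.1) (σ : S' ⟶ (D.obj PUnit.unit).left)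
    (hσ : σ ≫ (D.obj PUnit.unit).hom = 𝟙 S') (hσk : ∀ s' : KPt g, s'.1 ≫ σ = (tp D s₀ s' e).1)
    {W : Scheme.{u}} (x₀ x₁ : W ⟶ S') (h : x₀ ≫ g = x₁ ≫ g) :
    ph D (i := PUnit.unit) (j := PUnit.unit) x₀ x₁ h (x₀ ≫ σ) (by rw [Category.assoc, hσ, Category.comp_id]) =
      x₁ ≫ σ := by
  -- the universal case
  have hP : pullback.fst g g ≫ g = pullback.snd g g ≫ g := pullback.condition
  have hd0 : (pullback.fst g g ≫ σ) ≫ (D.obj PUnit.unit).hom = pullback.fst g g := by
    rw [Category.assoc, hσ, Category.comp_id]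
  have huniv : ph D (i := PUnit.unit) (j := PUnit.unit) (pullback.fst g g) (pullback.snd g g) hP
      (pullback.fst g g ≫ σ) hd0 = pullback.snd g g ≫ σ := by
    refine hom_ext_of_kpt (pullback.fst g g ≫ g) (D.obj PUnit.unit).hom _ _ ?_ ?_
    · rw [ph_hom, Category.assoc, hσ, Category.comp_id]
    · intro z hz
      have hza : (z ≫ pullback.fst g g) ≫ g = i₀ R := by rw [Category.assoc]; exact hz
      have hzb : (z ≫ pullback.snd g g) ≫ g = i₀ R := by rw [Category.assoc, ← hP]; exact hz
      let sa : KPt g := ⟨z ≫ pullback.fst g g, hza⟩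
      let sb : KPt g := ⟨z ≫ pullback.snd g g, hzb⟩
      rw [comp_ph]
      have e1 : (⟨z ≫ pullback.fst g g ≫ σ, by rw [Category.assoc, hd0]⟩ : Lifts (D.obj PUnit.unit) sa.1) =
          tp D s₀ sa e := Subtype.ext ((Category.assoc _ _ _).symm.trans (hσk sa))
      have e2 : ph D (i := PUnit.unit) (j := PUnit.unit) (z ≫ pullback.fst g g) (z ≫ pullback.snd g g)
          (by rw [Category.assoc, hP, Category.assoc]) (z ≫ pullback.fst g g ≫ σ) (by rw [Category.assoc, hd0]) =
          (tp D sa sb (tp D s₀ sa e)).1 := by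
        show (D.φ (i := PUnit.unit) (j := PUnit.unit) sa.1 sb.1 _ ⟨z ≫ pullback.fst g g ≫ σ, _⟩).1 = _
        rw [e1]
        rfl
      rw [e2, tp_tp, ← hσk sb, Category.assoc]
  -- the general case
  let l : W ⟶ pullback g g := pullback.lift x₀ x₁ h
  have hl0 : l ≫ pullback.fst g g = x₀ := pullback.lift_fst _ _ _
  have hl1 : l ≫ pullback.snd g g = x₁ := pullback.lift_snd _ _ _
  have e3 := comp_ph D l (i := PUnit.unit) (j := PUnit.unit) (pullback.fst g g) (pullback.snd g g) hP
    (pullback.fst g g ≫ σ) hd0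
  rw [huniv] at e3
  have e4 := ph_congr D (i := PUnit.unit) (j := PUnit.unit) (x₀ := l ≫ pullback.fst g g) (x₁ := l ≫ pullback.snd g g)
    (x₀' := x₀) (x₁' := x₁) (by rw [Category.assoc, hP, Category.assoc]) (d := l ≫ pullback.fst g g ≫ σ)
    (d' := x₀ ≫ σ) (by rw [Category.assoc, hd0]) hl0 hl1 (by rw [← Category.assoc, hl0])
  rw [← e4, ← e3, ← Category.assoc, hl1]

end compat

section sec

/-- The base as a scheme over itself. -/
noncomputable abbrev base1 : Over (Spec (CommRingCat.of R)) := Over.mk (𝟙 (Spec (CommRingCat.of R)))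

/-- The section of `D` over the base defined by a section of its member compatible with the gluing bijections. -/
noncomputable def secHom (σ : S' ⟶ (D.obj PUnit.unit).left) (hσ : σ ≫ (D.obj PUnit.unit).hom = 𝟙 S')
    (hph : ∀ {W : Scheme.{u}} (x₀ x₁ : W ⟶ S') (h : x₀ ≫ g = x₁ ≫ g),
      ph D (i := PUnit.unit) (j := PUnit.unit) x₀ x₁ h (x₀ ≫ σ) (by rw [Category.assoc, hσ, Category.comp_id]) =
        x₁ ≫ σ) :
    (toDDFam (fun _ : PUnit.{w + 1} => g)).obj (base1 (R := R)) ⟶ D :=
  mkSection (D := D) (T := base1 (R := R))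
    (fun i => match i with | PUnit.unit => pullback.fst g (base1 (R := R)).hom ≫ σ)
    (fun i => match i with
      | PUnit.unit => by
        show (pullback.fst g (base1 (R := R)).hom ≫ σ) ≫ (D.obj PUnit.unit).hom = _
        rw [Category.assoc, hσ, Category.comp_id])
    (fun {W i j} x₀ x₁ t h₀ h₁ => match i, j with
      | PUnit.unit, PUnit.unit => by
        have e0 : pullback.lift x₀ t h₀ ≫ pullback.fst g (base1 (R := R)).hom ≫ σ = x₀ ≫ σ := by
          rw [← Category.assoc, pullback.lift_fst]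
        have e1 : pullback.lift x₁ t h₁ ≫ pullback.fst g (base1 (R := R)).hom ≫ σ = x₁ ≫ σ := by
          rw [← Category.assoc, pullback.lift_fst]
        show ph D (i := PUnit.unit) (j := PUnit.unit) x₀ x₁ (h₀.trans h₁.symm)
          (pullback.lift x₀ t h₀ ≫ pullback.fst g (base1 (R := R)).hom ≫ σ) _ =
          pullback.lift x₁ t h₁ ≫ pullback.fst g (base1 (R := R)).hom ≫ σ
        rw [e1]
        refine (ph_congr D (i := PUnit.unit) (j := PUnit.unit) _ _ rfl rfl e0).trans ?_
        exact hph x₀ x₁ (h₀.trans h₁.symm))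

theorem secHom_left (σ : S' ⟶ (D.obj PUnit.unit).left) (hσ : σ ≫ (D.obj PUnit.unit).hom = 𝟙 S') hph :
    ((secHom D σ hσ hph).hom PUnit.unit).left = pullback.fst g (base1 (R := R)).hom ≫ σ := rfl

end sec

section main

open Groth.Agent.Lib.Helper4.DescCoprod

/-- **Finite étale descent data relative to a finite surjective morphism over a henselian local ring with algebraically
closed residue field are effective** (and descend to a finite disjoint union of copies of the base). -/
theorem exists_iso_of_finite_etale [IsFinite g] [Surjective g] [hD : Etale (D.obj PUnit.unit).hom]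
    (hfin : IsFinite ((D.obj PUnit.unit).hom ≫ g)) :
    ∃ U : Over (Spec (CommRingCat.of R)), Etale U.hom ∧
      Nonempty ((toDDFam (fun _ : PUnit.{w + 1} => g)).obj U ≅ D) := by
  classical
  haveI := hfin
  haveI hsep : IsSeparated (D.obj PUnit.unit).hom := by
    haveI : IsSeparated ((D.obj PUnit.unit).hom ≫ g) := inferInstance
    exact IsSeparated.of_comp (D.obj PUnit.unit).hom g
  -- a base `k`-point
  obtain ⟨y₀, -⟩ := g.surjective (closedPoint R : PrimeSpectrum R)
  obtain ⟨s₀', hs₀', -⟩ := exists_kpt_mem g Set.univ isClosed_univ ⟨y₀, trivial⟩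
  let s₀ : KPt g := ⟨s₀', hs₀'⟩
  -- the sections
  have hsec : ∀ e : Lifts (D.obj PUnit.unit) s₀.1, ∃ σ : S' ⟶ (D.obj PUnit.unit).left,
      σ ≫ (D.obj PUnit.unit).hom = 𝟙 S' ∧ ∀ s' : KPt g, s'.1 ≫ σ = (tp D s₀ s' e).1 := fun e =>
    exists_section_through g (D.obj PUnit.unit).hom (fun s' => tp D s₀ s' e)
  choose σ hσ hσk using hsec
  let ε : ∀ e : Lifts (D.obj PUnit.unit) s₀.1,
      (toDDFam (fun _ : PUnit.{w + 1} => g)).obj (base1 (R := R)) ⟶ D := fun e =>
    secHom D (σ e) (hσ e) (fun x₀ x₁ h => ph_section D s₀ e (σ e) (hσ e) (hσk e) x₀ x₁ h)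
  have hεleft : ∀ e, ((ε e).hom PUnit.unit).left = pullback.fst g (base1 (R := R)).hom ≫ σ e := fun e => rfl
  haveI hfstiso : IsIso (pullback.fst g (base1 (R := R)).hom) := by
    show IsIso (pullback.fst g (𝟙 _))
    infer_instance
  have hrange : ∀ e, Set.range ((ε e).hom PUnit.unit).left.base = Set.range (σ e).base := fun e => by
    ext v
    constructor
    · rintro ⟨y, rfl⟩
      exact ⟨(pullback.fst g (base1 (R := R)).hom).base y, rfl⟩
    · rintro ⟨t, rfl⟩
      refine ⟨(inv (pullback.fst g (base1 (R := R)).hom)).base t, ?_⟩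
      show (inv (pullback.fst g (base1 (R := R)).hom) ≫ pullback.fst g (base1 (R := R)).hom ≫ σ e).base t = _
      rw [IsIso.inv_hom_id_assoc]
  have hσoi : ∀ e, IsOpenImmersion (σ e) := fun e => isOpenImmersion_of_section _ (σ e) (hσ e)
  have hopen : ∀ e (i : PUnit.{w + 1}), IsOpenImmersion ((ε e).hom i).left := by
    rintro e ⟨⟩
    rw [hεleft]
    haveI := hσoi e
    infer_instance
  -- disjointness
  have hdisj : ∀ (e e' : Lifts (D.obj PUnit.unit) s₀.1) (i : PUnit.{w + 1}), e ≠ e' →
      Disjoint (Set.range ((ε e).hom i).left.base) (Set.range ((ε e').hom i).left.base) := by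
    rintro e e' ⟨⟩ hne
    rw [hrange, hrange, Set.disjoint_iff_forall_ne]
    rintro _ ⟨t, rfl⟩ _ ⟨t', rfl⟩ heq
    apply hne
    haveI := hσoi e'
    -- the locus where `σ e` lands in the range of `σ e'`
    let V : S'.Opens := (σ e) ⁻¹ᵁ (σ e').opensRange
    have hVcl : IsClosed (V : Set S') :=
      (isClosed_range_of_section (D.obj PUnit.unit).hom (σ e') (hσ e')).preimage (σ e).continuous
    have htV : t ∈ V := ⟨t', heq.symm⟩
    have hsub : Set.range (V.ι ≫ σ e).base ⊆ Set.range (σ e').base := by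
      rintro _ ⟨v, rfl⟩
      rw [Scheme.Hom.comp_apply]
      exact v.2
    let l := IsOpenImmersion.lift (σ e') (V.ι ≫ σ e) hsub
    have hl : l ≫ σ e' = V.ι ≫ σ e := IsOpenImmersion.lift_fac _ _ _
    have hl' : l = V.ι := by
      have := congrArg (· ≫ (D.obj PUnit.unit).hom) hl
      simp only [Category.assoc, hσ, Category.comp_id] at this
      exact this
    have hVeq : V.ι ≫ σ e' = V.ι ≫ σ e := by
      have h9 := hl
      rw [hl'] at h9
      exact h9
    obtain ⟨s', hs', hs'V⟩ := exists_kpt_mem g (V : Set S') hVcl ⟨t, htV⟩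
    have hsub' : Set.range s'.base ⊆ Set.range V.ι.base := by
      rintro _ ⟨y, rfl⟩
      rw [eq_pt R y, Scheme.Opens.range_ι]
      exact hs'V
    let l' := IsOpenImmersion.lift V.ι s' hsub'
    have hl'fac : l' ≫ V.ι = s' := IsOpenImmersion.lift_fac _ _ _
    have hkey : s' ≫ σ e = s' ≫ σ e' := by
      rw [← hl'fac, Category.assoc, Category.assoc, hVeq]
    have h1 := hσk e ⟨s', hs'⟩
    have h2 := hσk e' ⟨s', hs'⟩
    have h3 : tp D s₀ ⟨s', hs'⟩ e = tp D s₀ ⟨s', hs'⟩ e' := Subtype.ext (h1.symm.trans (hkey.trans h2))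
    exact tp_injective D _ _ h3
  -- covering
  have hcov : ∀ (i : PUnit.{w + 1}) (v : (D.obj i).left), ∃ e, v ∈ Set.range ((ε e).hom i).left.base := by
    rintro ⟨⟩ v
    by_contra hv
    simp only [not_exists] at hv
    let C : Set (D.obj PUnit.unit).left := (⋃ e, Set.range (σ e).base)ᶜ
    have hCcl : IsClosed C :=
      (isOpen_iUnion fun e => (σ e).isOpenEmbedding.isOpen_range).isClosed_compl
    have hvC : v ∈ C := by
      intro hmem
      obtain ⟨e, he⟩ := Set.mem_iUnion.mp hmem
      exact hv e (by rw [hrange]; exact he)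
    obtain ⟨xk, hxk, hxkC⟩ := exists_kpt_mem ((D.obj PUnit.unit).hom ≫ g) C hCcl ⟨v, hvC⟩
    have hs' : (xk ≫ (D.obj PUnit.unit).hom) ≫ g = i₀ R := by rw [Category.assoc]; exact hxk
    let s' : KPt g := ⟨xk ≫ (D.obj PUnit.unit).hom, hs'⟩
    let xl : Lifts (D.obj PUnit.unit) s'.1 := ⟨xk, rfl⟩
    let e := tp D s' s₀ xl
    have h1 : tp D s₀ s' e = xl := by
      show tp D s₀ s' (tp D s' s₀ xl) = xl
      rw [tp_tp, tp_self]
    have h2 : s'.1 ≫ σ e = xk := by rw [hσk e s', h1]
    apply hxkC
    refine Set.mem_iUnion.mpr ⟨e, (s'.1).base (pt R), ?_⟩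
    rw [← Scheme.Hom.comp_apply, h2]
  obtain ⟨θ⟩ := exists_iso_sigma (D := D) (fun _ : Lifts (D.obj PUnit.unit) s₀.1 => base1 (R := R)) ε hopen hdisj hcov
  refine ⟨Uc (fun _ : Lifts (D.obj PUnit.unit) s₀.1 => base1 (R := R)), ?_, ⟨θ⟩⟩
  apply etale_Uc
  intro _
  show Etale (𝟙 _)
  infer_instance

end main

end Groth.Agent.Lib.Helper4.DescFinEtTriv
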