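import Mathlib
import Groth.Prelude.Def_DescFam
import Groth.Agent.Lib.Helper4.DescRestrict
import Groth.Agent.S17461

/-!
# The finite part of a quasi-finite descent datum over a henselian local ring is stable (helper4)

`R` henselian local, `g : S' ⟶ Spec R` finite, `D` a descent datum relative to `g` whose member `X` is quasi-finite and
separated over `Spec R`.  The finite part of `X` (S17447) is stable under the gluing bijections (`stable_finitePart`, by
functoriality of the finite part, S17461), and so is the complement of a stable family of clopen sets (`stable_compl`).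
-/

set_option autoImplicit false
set_option linter.style.haveILetI false
set_option backward.isDefEq.respectTransparency false
universe w u
open CategoryTheory CategoryTheory.Limits AlgebraicGeometry

namespace Groth.Agent.Lib.Helper4.DescFinPart

open Desc Groth.Agent.Lib.Helper4.DescGamma Groth.Agent.Lib.Helper4.DescRestrict

section compl

variable {S : Scheme.{u}} {ι : Type w} {X : ι → Scheme.{u}} {f : ∀ i, X i ⟶ S} (D : SchDDFam f)

/-- The complement of a stable family is stable. -/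
theorem stable_compl {W W' : ∀ i, (D.obj i).left.Opens} (hW : Stable D W)
    (hc : ∀ i, (W' i : Set (D.obj i).left) = (W i : Set (D.obj i).left)ᶜ) : Stable D W' := by
  intro T i j x₀ x₁ h v t ht
  have hmem : ∀ (i : ι) (y : (D.obj i).left), y ∈ W' i ↔ y ∉ W i := fun i y => by
    have := congrArg (fun s : Set (D.obj i).left => y ∈ s) (hc i)
    exact iff_of_eq this
  rw [hmem] at ht ⊢
  intro hcon
  apply ht
  have h1 := hW x₁ x₀ h.symm (D.φ x₀ x₁ h v) t hcon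
  have h2 : D.φ x₁ x₀ h.symm (D.φ x₀ x₁ h v) = v := by
    rw [D.φ_comp x₀ x₁ x₀ h h.symm v]
    exact D.φ_self x₀ v
  rw [h2] at h1
  exact h1

end compl

variable {R : Type u} [CommRing R] [HenselianLocalRing R] {S' : Scheme.{u}} {g : S' ⟶ Spec (CommRingCat.of R)}
  (D : SchDDFam (fun _ : PUnit.{w + 1} => g))

/-- The finite part of the member of a descent datum relative to a finite morphism is stable. -/
theorem stable_finitePart [IsFinite g]
    [LocallyQuasiFinite ((D.obj PUnit.unit).hom ≫ g)] [LocallyOfFiniteType ((D.obj PUnit.unit).hom ≫ g)]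
    [QuasiCompact ((D.obj PUnit.unit).hom ≫ g)] [IsSeparated ((D.obj PUnit.unit).hom ≫ g)]
    (Wf : (D.obj PUnit.unit).left.Opens)
    (hWf : IsClosed (Wf : Set (D.obj PUnit.unit).left) ∧ IsFinite (Wf.ι ≫ (D.obj PUnit.unit).hom ≫ g) ∧
      ∀ x : (D.obj PUnit.unit).left,
        ((D.obj PUnit.unit).hom ≫ g).base x = IsLocalRing.closedPoint R → x ∈ Wf) :
    Stable D (fun _ => Wf) := by
  rintro T ⟨⟩ ⟨⟩ x₀ x₁ h v t ht
  -- the universal case
  let a : (Wf : Scheme.{u}) ⟶ S' := Wf.ι ≫ (D.obj PUnit.unit).hom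
  haveI hfa : IsFinite (a ≫ g) := by
    have := hWf.2.1
    rwa [← Category.assoc] at this
  have hP : (pullback.fst (a ≫ g) g ≫ a) ≫ g = pullback.snd (a ≫ g) g ≫ g := by
    rw [Category.assoc]
    exact (pullback.condition : pullback.fst (a ≫ g) g ≫ (a ≫ g) = _)
  let vu : Lifts (D.obj PUnit.unit) (pullback.fst (a ≫ g) g ≫ a) :=
    ⟨pullback.fst (a ≫ g) g ≫ Wf.ι, Category.assoc _ _ _⟩
  let G : pullback (a ≫ g) g ⟶ (D.obj PUnit.unit).left :=
    (D.φ (i := PUnit.unit) (j := PUnit.unit) (pullback.fst (a ≫ g) g ≫ a) (pullback.snd (a ≫ g) g) hP vu).1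
  have hG : G ≫ (D.obj PUnit.unit).hom = pullback.snd (a ≫ g) g :=
    (D.φ (i := PUnit.unit) (j := PUnit.unit) (pullback.fst (a ≫ g) g ≫ a) (pullback.snd (a ≫ g) g) hP vu).2
  let P : Scheme.{u} := pullback (a ≫ g) g
  let fP : P ⟶ Spec (CommRingCat.of R) := pullback.snd (a ≫ g) g ≫ g
  haveI : IsFinite fP := inferInstanceAs (IsFinite (pullback.snd (a ≫ g) g ≫ g))
  have hG' : G ≫ ((D.obj PUnit.unit).hom ≫ g) = fP := by
    rw [← Category.assoc, hG]
  haveI : IsIso (⊤ : P.Opens).ι := (inferInstance : IsIso P.topIso.hom)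
  have htop : IsClosed ((⊤ : P.Opens) : Set P) ∧
      IsFinite ((⊤ : P.Opens).ι ≫ fP) ∧
      ∀ x : P, fP.base x = IsLocalRing.closedPoint R → x ∈ (⊤ : P.Opens) :=
    ⟨isClosed_univ, inferInstance, fun _ _ => trivial⟩
  have key : ∀ p : P, G.base p ∈ Wf := fun p =>
    Groth.Agent.S17461.result R fP ((D.obj PUnit.unit).hom ≫ g) ⊤ htop Wf hWf G hG' p trivial
  -- restriction to the open where `v` lands in `Wf`
  let T₀ : T.Opens := v.1 ⁻¹ᵁ Wf
  have hr : Set.range (T₀.ι ≫ v.1).base ⊆ Set.range Wf.ι.base := by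
    rintro _ ⟨t', rfl⟩
    rw [Scheme.Opens.range_ι]
    exact t'.2
  let v' : (T₀ : Scheme.{u}) ⟶ Wf := IsOpenImmersion.lift Wf.ι (T₀.ι ≫ v.1) hr
  have hv' : v' ≫ Wf.ι = T₀.ι ≫ v.1 := IsOpenImmersion.lift_fac _ _ _
  have hv2 : v.1 ≫ (D.obj PUnit.unit).hom = x₀ := v.2
  have hv'a : v' ≫ a = T₀.ι ≫ x₀ := by
    show v' ≫ Wf.ι ≫ (D.obj PUnit.unit).hom = T₀.ι ≫ x₀
    rw [← Category.assoc, hv', Category.assoc, hv2]
  have hl : v' ≫ a ≫ g = (T₀.ι ≫ x₁) ≫ g := by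
    rw [← Category.assoc, hv'a, Category.assoc, h, Category.assoc]
  let l : (T₀ : Scheme.{u}) ⟶ pullback (a ≫ g) g := pullback.lift v' (T₀.ι ≫ x₁) hl
  have hl0 : l ≫ (pullback.fst (a ≫ g) g ≫ a) = T₀.ι ≫ x₀ := by
    rw [← Category.assoc, pullback.lift_fst, hv'a]
  have hl1 : l ≫ pullback.snd (a ≫ g) g = T₀.ι ≫ x₁ := pullback.lift_snd _ _ _
  have h' : (T₀.ι ≫ x₀) ≫ g = (T₀.ι ≫ x₁) ≫ g := by rw [Category.assoc, h, Category.assoc]
  let vr : Lifts (D.obj PUnit.unit) (T₀.ι ≫ x₀) := ⟨T₀.ι ≫ v.1, by rw [Category.assoc, hv2]⟩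
  have hvr : vr.1 = l ≫ vu.1 := by
    show T₀.ι ≫ v.1 = l ≫ pullback.fst (a ≫ g) g ≫ Wf.ι
    rw [← Category.assoc, pullback.lift_fst, hv']
  have n1 : (D.φ (i := PUnit.unit) (j := PUnit.unit) (T₀.ι ≫ x₀) (T₀.ι ≫ x₁) h' vr).1 = l ≫ G :=
    D.φ_natural l (i := PUnit.unit) (j := PUnit.unit) (pullback.fst (a ≫ g) g ≫ a) (pullback.snd (a ≫ g) g) hP (T₀.ι ≫ x₀) (T₀.ι ≫ x₁) hl0 hl1 h' vu vr hvr
  have n2 : (D.φ (i := PUnit.unit) (j := PUnit.unit) (T₀.ι ≫ x₀) (T₀.ι ≫ x₁) h' vr).1 =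
      T₀.ι ≫ (D.φ (i := PUnit.unit) (j := PUnit.unit) x₀ x₁ h v).1 :=
    D.φ_natural T₀.ι (i := PUnit.unit) (j := PUnit.unit) x₀ x₁ h (T₀.ι ≫ x₀) (T₀.ι ≫ x₁) rfl rfl h' v vr rfl
  have h3 : (D.φ (i := PUnit.unit) (j := PUnit.unit) x₀ x₁ h v).1.base t = (T₀.ι ≫ (D.φ (i := PUnit.unit) (j := PUnit.unit) x₀ x₁ h v).1).base ⟨t, ht⟩ := rfl
  have h4 : (T₀.ι ≫ (D.φ (i := PUnit.unit) (j := PUnit.unit) x₀ x₁ h v).1).base ⟨t, ht⟩ = G.base (l.base ⟨t, ht⟩) := by
    rw [← n2, n1]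
    rfl
  show (D.φ (i := PUnit.unit) (j := PUnit.unit) x₀ x₁ h v).1.base t ∈ Wf
  rw [h3, h4]
  exact key _

end Groth.Agent.Lib.Helper4.DescFinPart
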