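import Mathlib
import Groth.Prelude.Def_DescFam
import Groth.Prelude.Def_SGA1
import Groth.Agent.Lib.Helper4.DescDimInd
import Groth.Agent.Lib.Helper4.DescFinPart
import Groth.Agent.Lib.Helper4.DescFinEtTriv
import Groth.Agent.Lib.Helper4.DescCoprod2
import Groth.Agent.Lib.Helper4.DescEtale
import Groth.Agent.Lib.Helper4.DescLimSq
import Groth.Agent.S17447

/-!
# Étale separated quasi-compact descent data relative to a finite surjective morphism over a complete local ring with
algebraically closed residue field are effective (helper4; SGA 1 IX 4.7, the key case)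

Induction on the dimension of the base: the member splits into its finite part, whose datum is trivialised by
`DescFinEtTriv.exists_iso_of_finite_etale`, and a part living over the punctured spectrum, where the local rings have
smaller dimension.
-/

set_option autoImplicit false
set_option linter.style.haveILetI false
set_option backward.isDefEq.respectTransparency false
universe u
open CategoryTheory CategoryTheory.Limits AlgebraicGeometry

namespace Groth.Agent.Lib.Helper4.DescFinSurj

open Desc Groth.Agent.Lib.Helper4.DescGamma Groth.Agent.Lib.Helper4.DescRestrict Groth.Agent.Lib.Helper4.DescEtLoc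
  Groth.Agent.Lib.Helper4.DescDimInd Groth.Agent.Lib.Helper4.DescFinPart

theorem univSubmersive_of_finite_surjective {X Y : Scheme.{u}} (f : X ⟶ Y) [IsFinite f]
    [Surjective f] : SGA1.UnivSubmersive f := by
  intro X' Y' i₁ i₂ f' h
  haveI : IsFinite f' := MorphismProperty.of_isPullback h.flip ‹IsFinite f›
  haveI : Surjective f' := MorphismProperty.of_isPullback h.flip ‹Surjective f›
  exact f'.isClosedMap.isQuotientMap f'.continuous f'.surjective

/-- The statement, for complete local rings of dimension `d`. -/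
def PStmt (d : WithBot ℕ∞) : Prop :=
  ∀ (B : Type u) [CommRing B] [IsNoetherianRing B] [IsLocalRing B]
    [IsAdicComplete (IsLocalRing.maximalIdeal B) B] [IsAlgClosed (IsLocalRing.ResidueField B)],
    ringKrullDim B = d → ∀ {S' : Scheme.{u}} (h : S' ⟶ Spec (CommRingCat.of B)) [IsFinite h] [Surjective h]
    (D : SchDDFam (fun _ : PUnit.{1} => h)) [Etale (D.obj PUnit.unit).hom]
    [QuasiCompact (D.obj PUnit.unit).hom] [IsSeparated (D.obj PUnit.unit).hom],
    ∃ U : Over (Spec (CommRingCat.of B)), Etale U.hom ∧ Nonempty ((toDDFam (fun _ : PUnit.{1} => h)).obj U ≅ D)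

section step

variable (B : Type u) [CommRing B] [IsNoetherianRing B] [IsLocalRing B]
  [IsAdicComplete (IsLocalRing.maximalIdeal B) B] [IsAlgClosed (IsLocalRing.ResidueField B)]
  (IH : ∀ d : WithBot ℕ∞, d < ringKrullDim B → PStmt.{u} d)
  {S' : Scheme.{u}} (h : S' ⟶ Spec (CommRingCat.of B)) [IsFinite h] [Surjective h]
  (D : SchDDFam (fun _ : PUnit.{1} => h)) [Etale (D.obj PUnit.unit).hom]
  [QuasiCompact (D.obj PUnit.unit).hom] [IsSeparated (D.obj PUnit.unit).hom]

include IH in
/-- A datum whose member has empty closed fibre is effective, by induction on the dimension. -/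
theorem exists_iso_of_empty_closed_fibre
    (hfib : ∀ x : (D.obj PUnit.unit).left, ((D.obj PUnit.unit).hom ≫ h).base x ≠ IsLocalRing.closedPoint B) :
    ∃ U : Over (Spec (CommRingCat.of B)), Etale U.hom ∧ Nonempty ((toDDFam (fun _ : PUnit.{1} => h)).obj U ≅ D) := by
  let Uo : (Spec (CommRingCat.of B)).Opens :=
    ⟨{IsLocalRing.closedPoint B}ᶜ, (IsLocalRing.isClosed_singleton_closedPoint B).isOpen_compl⟩
  have hUo : IsLocalRing.closedPoint B ∉ Uo := fun hc => hc rfl
  have hh : SGA1.UnivSubmersive h := univSubmersive_of_finite_surjective h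
  haveI : Etale ((bcDD h D Uo.ι).obj PUnit.unit).hom :=
    inferInstanceAs (Etale (pullback.snd (D.obj PUnit.unit).hom (pullback.fst h Uo.ι)))
  haveI : QuasiCompact ((bcDD h D Uo.ι).obj PUnit.unit).hom :=
    inferInstanceAs (QuasiCompact (pullback.snd (D.obj PUnit.unit).hom (pullback.fst h Uo.ι)))
  haveI : IsSeparated ((bcDD h D Uo.ι).obj PUnit.unit).hom :=
    inferInstanceAs (IsSeparated (pullback.snd (D.obj PUnit.unit).hom (pullback.fst h Uo.ι)))
  obtain ⟨U₁, hU₁, ⟨θ₁⟩⟩ := effective_of_forall_complete_dim (pullback.snd h Uo.ι) (univSubmersive_bc h hh Uo.ι)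
    (bcDD h D Uo.ι) (fun a B' _ _ _ _ _ q hdim => by
      have hlt : ringKrullDim B' < ringKrullDim B := by
        rw [hdim]
        exact ringKrullDim_stalk_lt B Uo hUo a
      haveI : Etale ((bcDD (pullback.snd h Uo.ι) (bcDD h D Uo.ι) q).obj PUnit.unit).hom :=
        inferInstanceAs (Etale (pullback.snd ((bcDD h D Uo.ι).obj PUnit.unit).hom
          (pullback.fst (pullback.snd h Uo.ι) q)))
      haveI : QuasiCompact ((bcDD (pullback.snd h Uo.ι) (bcDD h D Uo.ι) q).obj PUnit.unit).hom :=
        inferInstanceAs (QuasiCompact (pullback.snd ((bcDD h D Uo.ι).obj PUnit.unit).hom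
          (pullback.fst (pullback.snd h Uo.ι) q)))
      haveI : IsSeparated ((bcDD (pullback.snd h Uo.ι) (bcDD h D Uo.ι) q).obj PUnit.unit).hom :=
        inferInstanceAs (IsSeparated (pullback.snd ((bcDD h D Uo.ι).obj PUnit.unit).hom
          (pullback.fst (pullback.snd h Uo.ι) q)))
      exact IH _ hlt B' rfl (pullback.snd (pullback.snd h Uo.ι) q)
        (bcDD (pullback.snd h Uo.ι) (bcDD h D Uo.ι) q))
  haveI := hU₁
  have hfib' : ∀ x : (D.obj PUnit.unit).left,
      ((D.obj PUnit.unit).hom ≫ h).base x ∈ Set.range Uo.ι.base := by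
    intro x
    rw [Scheme.Opens.range_ι]
    exact hfib x
  refine ⟨DescPull.push Uo.ι U₁, ?_, exists_iso_push_of_range h hh D Uo.ι hfib' U₁ θ₁⟩
  show Etale (U₁.hom ≫ Uo.ι)
  infer_instance

include IH in
/-- The induction step. -/
theorem exists_iso_step :
    ∃ U : Over (Spec (CommRingCat.of B)), Etale U.hom ∧ Nonempty ((toDDFam (fun _ : PUnit.{1} => h)).obj U ≅ D) := by
  haveI : HenselianLocalRing B :=
    { is_henselian := fun f hf a₀ h₁ h₂ =>
        HenselianRing.is_henselian (I := IsLocalRing.maximalIdeal B) f hf a₀ h₁ (h₂.map _) }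
  haveI : LocallyQuasiFinite (D.obj PUnit.unit).hom :=
    Groth.Agent.Lib.Helper4.DescEtale.locallyQuasiFinite_of_etale _
  haveI : IsLocallyNoetherian (D.obj PUnit.unit).left :=
    LocallyOfFiniteType.isLocallyNoetherian ((D.obj PUnit.unit).hom ≫ h)
  obtain ⟨Wf, hWf, -⟩ := Groth.Agent.S17447.result B ((D.obj PUnit.unit).hom ≫ h)
  have hst : Stable D (fun _ => Wf) := stable_finitePart D Wf hWf
  let Wr : (D.obj PUnit.unit).left.Opens := ⟨(Wf : Set (D.obj PUnit.unit).left)ᶜ, hWf.1.isOpen_compl⟩
  have hstr : Stable D (fun _ => Wr) := stable_compl D hst (fun _ => rfl)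
  -- the finite part
  haveI : Etale ((restrict D (fun _ => Wf) hst).obj PUnit.unit).hom :=
    inferInstanceAs (Etale (Wf.ι ≫ (D.obj PUnit.unit).hom))
  have hfin : IsFinite (((restrict D (fun _ => Wf) hst).obj PUnit.unit).hom ≫ h) := by
    show IsFinite ((Wf.ι ≫ (D.obj PUnit.unit).hom) ≫ h)
    rw [Category.assoc]
    exact hWf.2.1
  obtain ⟨Uf, hUf, ⟨θf⟩⟩ :=
    Groth.Agent.Lib.Helper4.DescFinEtTriv.exists_iso_of_finite_etale (restrict D (fun _ => Wf) hst) hfin
  -- the rest
  haveI : Etale ((restrict D (fun _ => Wr) hstr).obj PUnit.unit).hom :=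
    inferInstanceAs (Etale (Wr.ι ≫ (D.obj PUnit.unit).hom))
  haveI : QuasiCompact ((restrict D (fun _ => Wr) hstr).obj PUnit.unit).hom :=
    inferInstanceAs (QuasiCompact (Wr.ι ≫ (D.obj PUnit.unit).hom))
  haveI : IsSeparated ((restrict D (fun _ => Wr) hstr).obj PUnit.unit).hom :=
    inferInstanceAs (IsSeparated (Wr.ι ≫ (D.obj PUnit.unit).hom))
  have hfibr : ∀ x : ((restrict D (fun _ => Wr) hstr).obj PUnit.unit).left,
      (((restrict D (fun _ => Wr) hstr).obj PUnit.unit).hom ≫ h).base x ≠ IsLocalRing.closedPoint B := by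
    intro x hx
    have h1 : ((D.obj PUnit.unit).hom ≫ h).base (Wr.ι.base x) = IsLocalRing.closedPoint B := hx
    have h2 := hWf.2.2 _ h1
    exact x.2 h2
  obtain ⟨Ur, hUr, ⟨θr⟩⟩ := exists_iso_of_empty_closed_fibre B IH h (restrict D (fun _ => Wr) hstr) hfibr
  -- assembling
  have hisof : IsIso (θf.hom.hom PUnit.unit).left :=
    (Groth.Agent.Lib.Helper4.DescLimSq.isIso_iff_isIso_left h θf.hom).mp inferInstance
  have hisor : IsIso (θr.hom.hom PUnit.unit).left :=
    (Groth.Agent.Lib.Helper4.DescLimSq.isIso_iff_isIso_left h θr.hom).mp inferInstance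
  have hleftf : ((θf.hom ≫ restrictHom D (fun _ => Wf) hst).hom PUnit.unit).left =
      (θf.hom.hom PUnit.unit).left ≫ Wf.ι := rfl
  have hleftr : ((θr.hom ≫ restrictHom D (fun _ => Wr) hstr).hom PUnit.unit).left =
      (θr.hom.hom PUnit.unit).left ≫ Wr.ι := rfl
  have hrangef : Set.range ((θf.hom ≫ restrictHom D (fun _ => Wf) hst).hom PUnit.unit).left.base =
      (Wf : Set (D.obj PUnit.unit).left) := by
    rw [hleftf]
    ext v
    constructor
    · rintro ⟨y, rfl⟩
      exact ((θf.hom.hom PUnit.unit).left.base y).2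
    · intro hv
      refine ⟨(inv (θf.hom.hom PUnit.unit).left).base ⟨v, hv⟩, ?_⟩
      show (inv (θf.hom.hom PUnit.unit).left ≫ (θf.hom.hom PUnit.unit).left ≫ Wf.ι).base ⟨v, hv⟩ = v
      rw [IsIso.inv_hom_id_assoc]
      rfl
  have hranger : Set.range ((θr.hom ≫ restrictHom D (fun _ => Wr) hstr).hom PUnit.unit).left.base =
      (Wf : Set (D.obj PUnit.unit).left)ᶜ := by
    rw [hleftr]
    ext v
    constructor
    · rintro ⟨y, rfl⟩
      exact ((θr.hom.hom PUnit.unit).left.base y).2
    · intro hv
      refine ⟨(inv (θr.hom.hom PUnit.unit).left).base ⟨v, hv⟩, ?_⟩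
      show (inv (θr.hom.hom PUnit.unit).left ≫ (θr.hom.hom PUnit.unit).left ≫ Wr.ι).base ⟨v, hv⟩ = v
      rw [IsIso.inv_hom_id_assoc]
      rfl
  obtain ⟨U, hU, hθ⟩ := Groth.Agent.Lib.Helper4.DescCoprod2.exists_iso_of_two
    (θf.hom ≫ restrictHom D (fun _ => Wf) hst) (θr.hom ≫ restrictHom D (fun _ => Wr) hstr)
    (by
      rintro ⟨⟩
      rw [hleftf]
      infer_instance)
    (by
      rintro ⟨⟩
      rw [hleftr]
      infer_instance)
    (by
      rintro ⟨⟩
      rw [hrangef, hranger]
      exact disjoint_compl_right)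
    (by
      rintro ⟨⟩ v
      rw [hrangef, hranger]
      exact em _)
  exact ⟨U, hU hUf hUr, hθ⟩

end step

theorem pStmt_all : ∀ d : WithBot ℕ∞, PStmt.{u} d := by
  intro d
  induction d using WellFoundedLT.induction with
  | ind d IH =>
    intro B _ _ _ _ _ hd S' h _ _ D _ _ _
    subst hd
    exact exists_iso_step B IH h D

/-- **SGA 1 IX 4.7, key case**: étale separated quasi-compact descent data relative to a finite surjective morphism over
a complete Noetherian local ring with algebraically closed residue field are effective. -/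
theorem exists_iso_of_finite_surjective (B : Type u) [CommRing B] [IsNoetherianRing B] [IsLocalRing B]
    [IsAdicComplete (IsLocalRing.maximalIdeal B) B] [IsAlgClosed (IsLocalRing.ResidueField B)]
    {S' : Scheme.{u}} (h : S' ⟶ Spec (CommRingCat.of B)) [IsFinite h] [Surjective h]
    (D : SchDDFam (fun _ : PUnit.{1} => h)) [Etale (D.obj PUnit.unit).hom]
    [QuasiCompact (D.obj PUnit.unit).hom] [IsSeparated (D.obj PUnit.unit).hom] :
    ∃ U : Over (Spec (CommRingCat.of B)), Etale U.hom ∧ Nonempty ((toDDFam (fun _ : PUnit.{1} => h)).obj U ≅ D) :=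
  pStmt_all _ B rfl h D

end Groth.Agent.Lib.Helper4.DescFinSurj
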