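import Mathlib
import Groth.Prelude.Def_DescFam
import Groth.Prelude.Def_SGA1
import Groth.Agent.Lib.Helper4.DescPull
import Groth.Agent.Lib.Helper4.DescEtFF
import Groth.Agent.Lib.Helper14.EtaleSubmDescent

/-!
# Sections of an étale descent datum and pullback along a universally submersive refinement (helper4)

* `hom_ext_us`, `exists_glue_us`: morphisms into an étale `B`-scheme over a fixed morphism to `B` form a sheaf for
  universally submersive morphisms (SGA 1 IX 3.2 in glueing form).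
* `res_injective_us`, `res_surjective_us`: for a morphism of families `(α, p, p')` from the ONE-member family `h : V ⟶ S'`
  to `f : X i ⟶ S`, with `h` universally submersive and all members of `D` étale, `DescPull.res` is bijective.
* `exists_univ_push_us`: a universal pair for the pulled back datum gives a pair for `D` universal among the `push p T'`.
* `exists_iso_of_comp`: **composite lemma**: for `g : S' ⟶ S`, `f₀ : V ⟶ S'` with `f₀ ≫ g` universally submersive and `D`
  an étale descent datum relative to `g`, if the pullback of `D` to a datum relative to `f₀ ≫ g` is the canonical datum of an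
  étale `U`, then so is `D`.
-/

set_option autoImplicit false
set_option backward.isDefEq.respectTransparency false
universe w' w u
open CategoryTheory CategoryTheory.Limits AlgebraicGeometry

namespace Groth.Agent.Lib.Helper4.DescUS

open Desc Groth.Agent.Lib.Helper4.DescGamma Groth.Agent.Lib.Helper4.DescPull Groth.Agent.Lib.Helper4.DescEtFF

section sheaf

theorem hom_ext_us {P' P E B : Scheme.{u}} (c : P' ⟶ P) (hc : Function.Surjective c) (π : E ⟶ B) [Etale π]
    (a b : P ⟶ E) (hab : a ≫ π = b ≫ π) (h : c ≫ a = c ≫ b) : a = b := by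
  let Δ : E ⟶ pullback π π := pullback.diagonal π
  let cc : P ⟶ pullback π π := pullback.lift a b hab
  have hc1 : cc ≫ pullback.fst π π = a := pullback.lift_fst _ _ _
  have hc2 : cc ≫ pullback.snd π π = b := pullback.lift_snd _ _ _
  have hΔ1 : Δ ≫ pullback.fst π π = 𝟙 _ := pullback.diagonal_fst _
  have hΔ2 : Δ ≫ pullback.snd π π = 𝟙 _ := pullback.diagonal_snd _
  let e : pullback Δ cc ⟶ P := pullback.snd Δ cc
  have he : IsOpenImmersion e := MorphismProperty.pullback_snd _ _ (inferInstance : IsOpenImmersion Δ)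
  have hfac : (c ≫ a) ≫ Δ = c ≫ cc := by
    apply pullback.hom_ext
    · simp only [Category.assoc, hΔ1, hc1, Category.comp_id]
    · simp only [Category.assoc, hΔ2, hc2, Category.comp_id, h]
  have hqe : pullback.lift (c ≫ a) c hfac ≫ e = c := pullback.lift_snd _ _ _
  have hes : Surjective e := by
    have : Surjective (pullback.lift (c ≫ a) c hfac ≫ e) := by
      rw [hqe]; exact ⟨hc⟩
    exact Surjective.of_comp (pullback.lift (c ≫ a) c hfac) e
  have hiso : IsIso e := (isIso_iff_isOpenImmersion_and_surjective e).mpr ⟨he, hes⟩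
  have hcc : e ≫ cc = pullback.fst Δ cc ≫ Δ := pullback.condition.symm
  have e1 : e ≫ a = pullback.fst Δ cc := by
    have := congrArg (· ≫ pullback.fst π π) hcc
    simp only [Category.assoc, hc1, hΔ1, Category.comp_id] at this
    exact this
  have e2 : e ≫ b = pullback.fst Δ cc := by
    have := congrArg (· ≫ pullback.snd π π) hcc
    simp only [Category.assoc, hc2, hΔ2, Category.comp_id] at this
    exact this
  exact (cancel_epi e).mp (e1.trans e2.symm)

theorem exists_glue_us {P' P E B : Scheme.{u}} (c : P' ⟶ P) (hc : SGA1.UnivSubmersive c) (π : E ⟶ B) [Etale π]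
    (β : P ⟶ B) (a' : P' ⟶ E) (ha' : a' ≫ π = c ≫ β)
    (hdesc : ∀ (W : Scheme.{u}) (g₁ g₂ : W ⟶ P'), g₁ ≫ c = g₂ ≫ c → g₁ ≫ a' = g₂ ≫ a') :
    ∃ a : P ⟶ E, c ≫ a = a' ∧ a ≫ π = β := by
  let r : pullback β π ⟶ P := pullback.fst β π
  have hr : Etale r := inferInstance
  let σ' : P' ⟶ pullback β π := pullback.lift c a' ha'.symm
  have hσ' : σ' ≫ r = c := pullback.lift_fst _ _ _
  have hσ'2 : σ' ≫ pullback.snd β π = a' := pullback.lift_snd _ _ _
  have hd : pullback.fst c c ≫ σ' = pullback.snd c c ≫ σ' := by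
    apply pullback.hom_ext
    · rw [Category.assoc, Category.assoc]
      show pullback.fst c c ≫ σ' ≫ r = pullback.snd c c ≫ σ' ≫ r
      rw [hσ']; exact pullback.condition
    · rw [Category.assoc, Category.assoc, hσ'2]
      exact hdesc _ _ _ pullback.condition
  obtain ⟨σ, hσ1, hσ2⟩ :=
    Groth.Agent.Lib.Helper14.EtaleSubmDescent.exists_section_of_descent c hc r σ' hσ' hd
  refine ⟨σ ≫ pullback.snd β π, ?_, ?_⟩
  · rw [← Category.assoc, hσ2, hσ'2]
  · rw [Category.assoc, ← pullback.condition, ← Category.assoc]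
    show (σ ≫ r) ≫ β = β
    rw [hσ1, Category.id_comp]

end sheaf

variable {S : Scheme.{u}} {ι : Type w} {X : ι → Scheme.{u}} {f : ∀ i, X i ⟶ S}
  {S' V : Scheme.{u}} {h : V ⟶ S'} {α : PUnit.{w' + 1} → ι} {p : S' ⟶ S} {p' : ∀ j, V ⟶ X (α j)}
  (w : ∀ j, p' j ≫ f (α j) = h ≫ p)

variable {D : SchDDFam f}

theorem univSubmersive_snd' (hh : SGA1.UnivSubmersive h) {P : Scheme.{u}} (t₀ : P ⟶ S') :
    SGA1.UnivSubmersive (pullback.snd h t₀) :=
  haveI := Groth.Agent.Lib.helper4.SubmDescent.univSubmersive_isStableUnderBaseChange.{u}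
  MorphismProperty.of_isPullback (P := SGA1.UnivSubmersive) (IsPullback.of_hasPullback h t₀) hh

theorem surjective_snd' (hh : SGA1.UnivSubmersive h) {P : Scheme.{u}} (t₀ : P ⟶ S') :
    Function.Surjective (pullback.snd h t₀) :=
  Groth.Agent.Lib.Helper14.EtaleSubmDescent.surjective_of_univSubmersive _ (univSubmersive_snd' hh t₀)

section bij

variable {T' : Over S'} (hh : SGA1.UnivSubmersive h) [hD : ∀ i, Etale (D.obj i).hom]
include hh hD

theorem res_injective_us :
    Function.Injective (res (f' := fun _ : PUnit.{w' + 1} => h) w (D := D) (T' := T')) := by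
  intro s₁ s₂ hs
  apply ext_of_pt
  intro i
  let t₀ : pullback (f i) (push p T').hom ⟶ S' := pullback.snd (f i) (push p T').hom ≫ T'.hom
  refine hom_ext_us (pullback.snd h t₀) (surjective_snd' hh t₀) (D.obj i).hom _ _ (by rw [pt_hom, pt_hom]) ?_
  have hy : pullback.fst h t₀ ≫ h =
      (pullback.snd h t₀ ≫ pullback.snd (f i) (push p T').hom) ≫ T'.hom := by
    rw [pullback.condition, Category.assoc]
  have hx : (pullback.snd h t₀ ≫ pullback.fst (f i) (push p T').hom) ≫ f i =
      (pullback.snd h t₀ ≫ pullback.snd (f i) (push p T').hom) ≫ T'.hom ≫ p := by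
    rw [Category.assoc, Category.assoc, pullback.condition]; rfl
  have e₁ := tr_res (f' := fun _ : PUnit.{w' + 1} => h) w s₁ (j := ⟨⟩) (pullback.fst h t₀) _ _ hy hx
  have e₂ := tr_res (f' := fun _ : PUnit.{w' + 1} => h) w s₂ (j := ⟨⟩) (pullback.fst h t₀) _ _ hy hx
  rw [comp_pt, comp_pt]
  rw [hs] at e₁
  exact e₁.symm.trans e₂

theorem res_surjective_us :
    Function.Surjective (res (f' := fun _ : PUnit.{w' + 1} => h) w (D := D) (T' := T')) := by
  intro s'
  let t₀ : ∀ i, pullback (f i) (push p T').hom ⟶ S' := fun i => pullback.snd (f i) (push p T').hom ≫ T'.hom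
  have hyC : ∀ i, pullback.fst h (t₀ i) ≫ h =
      (pullback.snd h (t₀ i) ≫ pullback.snd (f i) (push p T').hom) ≫ T'.hom := fun i => by
    rw [pullback.condition, Category.assoc]
  have hxC : ∀ i, (pullback.snd h (t₀ i) ≫ pullback.fst (f i) (push p T').hom) ≫ f i =
      (pullback.snd h (t₀ i) ≫ pullback.snd (f i) (push p T').hom) ≫ T'.hom ≫ p := fun i => by
    rw [Category.assoc, Category.assoc, pullback.condition]; rfl
  have hglue : ∀ i, ∃ m : pullback (f i) (push p T').hom ⟶ (D.obj i).left,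
      pullback.snd h (t₀ i) ≫ m = tr (f' := fun _ : PUnit.{w' + 1} => h) w s' (j := ⟨⟩) (pullback.fst h (t₀ i))
        (pullback.snd h (t₀ i) ≫ pullback.snd (f i) (push p T').hom)
        (pullback.snd h (t₀ i) ≫ pullback.fst (f i) (push p T').hom) (hyC i) (hxC i) ∧
      m ≫ (D.obj i).hom = pullback.fst (f i) (push p T').hom := by
    intro i
    refine exists_glue_us (pullback.snd h (t₀ i)) (univSubmersive_snd' hh (t₀ i)) (D.obj i).hom
      (pullback.fst (f i) (push p T').hom) _ (tr_hom (f' := fun _ : PUnit.{w' + 1} => h) w s' _ _ _ _ _) ?_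
    intro W gj gk hg
    rw [comp_tr, comp_tr]
    have e1 : gj ≫ pullback.snd h (t₀ i) ≫ pullback.snd (f i) (push p T').hom =
        gk ≫ pullback.snd h (t₀ i) ≫ pullback.snd (f i) (push p T').hom := by
      rw [← Category.assoc, hg, Category.assoc]
    have e2 : gj ≫ pullback.snd h (t₀ i) ≫ pullback.fst (f i) (push p T').hom =
        gk ≫ pullback.snd h (t₀ i) ≫ pullback.fst (f i) (push p T').hom := by
      rw [← Category.assoc, hg, Category.assoc]
    refine (tr_congr (f' := fun _ : PUnit.{w' + 1} => h) w s' _ _ rfl e1 e2).trans ?_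
    exact tr_indep (f' := fun _ : PUnit.{w' + 1} => h) w s' _ _ _ _ _ _ _
  choose m hm hmhom using hglue
  -- the key property of the glued maps
  have key : ∀ {W : Scheme.{u}} {i : ι} (a : W ⟶ pullback (f i) (push p T').hom) (y : W ⟶ V)
      (hy : y ≫ h = (a ≫ pullback.snd (f i) (push p T').hom) ≫ T'.hom),
      a ≫ m i = tr (f' := fun _ : PUnit.{w' + 1} => h) w s' (j := ⟨⟩) y (a ≫ pullback.snd (f i) (push p T').hom)
        (a ≫ pullback.fst (f i) (push p T').hom) hy
        (by rw [Category.assoc, Category.assoc, pullback.condition]; rfl) := by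
    intro W i a y hy
    let g : W ⟶ pullback h (t₀ i) := pullback.lift y a (by rw [hy, Category.assoc])
    have hg : g ≫ pullback.snd h (t₀ i) = a := pullback.lift_snd _ _ _
    have hg' : g ≫ pullback.fst h (t₀ i) = y := pullback.lift_fst _ _ _
    calc a ≫ m i = g ≫ pullback.snd h (t₀ i) ≫ m i := by rw [← Category.assoc, hg]
      _ = _ := by
        rw [hm, comp_tr]
        exact tr_congr (f' := fun _ : PUnit.{w' + 1} => h) w s' _ _ hg' (by rw [← Category.assoc, hg])
          (by rw [← Category.assoc, hg])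
  have hφ : ∀ {W : Scheme.{u}} {i k : ι} (x₀ : W ⟶ X i) (x₁ : W ⟶ X k) (t : W ⟶ (push p T').left)
      (h₀ : x₀ ≫ f i = t ≫ (push p T').hom) (h₁ : x₁ ≫ f k = t ≫ (push p T').hom),
      (D.φ x₀ x₁ (h₀.trans h₁.symm) ⟨pullback.lift x₀ t h₀ ≫ m i, by
        rw [Category.assoc, hmhom, pullback.lift_fst]⟩).1 = pullback.lift x₁ t h₁ ≫ m k := by
    intro W i k x₀ x₁ t h₀ h₁
    -- check after the universally submersive cover of `W`
    refine hom_ext_us (pullback.snd h (t ≫ T'.hom)) (surjective_snd' hh (t ≫ T'.hom)) (D.obj k).hom _ _ ?_ ?_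
    · refine ((D.φ x₀ x₁ (h₀.trans h₁.symm) _).2).trans ?_
      rw [Category.assoc, hmhom, pullback.lift_fst]
    obtain ⟨g, hgdef⟩ : ∃ g, g = pullback.snd h (t ≫ T'.hom) := ⟨_, rfl⟩
    obtain ⟨y, hydef⟩ : ∃ y, y = pullback.fst h (t ≫ T'.hom) := ⟨_, rfl⟩
    have hy : y ≫ h = (g ≫ t) ≫ T'.hom := by rw [hydef, hgdef, pullback.condition, Category.assoc]
    rw [← hgdef]
    have hx₀ : (g ≫ x₀) ≫ f i = (g ≫ t) ≫ T'.hom ≫ p := by rw [Category.assoc, h₀, Category.assoc]; rfl
    have hx₁ : (g ≫ x₁) ≫ f k = (g ≫ t) ≫ T'.hom ≫ p := by rw [Category.assoc, h₁, Category.assoc]; rfl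
    have k₀ : (g ≫ pullback.lift x₀ t h₀) ≫ m i =
        tr (f' := fun _ : PUnit.{w' + 1} => h) w s' (j := ⟨⟩) y (g ≫ t) (g ≫ x₀) hy hx₀ := by
      refine (key (g ≫ pullback.lift x₀ t h₀) y (by
        simp only [Category.assoc, pullback.lift_snd]; rw [hy, Category.assoc])).trans ?_
      exact tr_congr (f' := fun _ : PUnit.{w' + 1} => h) w s' _ _ rfl (by rw [Category.assoc, pullback.lift_snd])
        (by rw [Category.assoc, pullback.lift_fst])
    have k₁ : (g ≫ pullback.lift x₁ t h₁) ≫ m k =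
        tr (f' := fun _ : PUnit.{w' + 1} => h) w s' (j := ⟨⟩) y (g ≫ t) (g ≫ x₁) hy hx₁ := by
      refine (key (g ≫ pullback.lift x₁ t h₁) y (by
        simp only [Category.assoc, pullback.lift_snd]; rw [hy, Category.assoc])).trans ?_
      exact tr_congr (f' := fun _ : PUnit.{w' + 1} => h) w s' _ _ rfl (by rw [Category.assoc, pullback.lift_snd])
        (by rw [Category.assoc, pullback.lift_fst])
    have e := comp_ph D g x₀ x₁ (h₀.trans h₁.symm) (pullback.lift x₀ t h₀ ≫ m i)
      (by rw [Category.assoc, hmhom, pullback.lift_fst])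
    change g ≫ ph D x₀ x₁ (h₀.trans h₁.symm) (pullback.lift x₀ t h₀ ≫ m i) _ = g ≫ pullback.lift x₁ t h₁ ≫ m k
    exact e.trans ((ph_congr D _ _ rfl rfl ((Category.assoc _ _ _).symm.trans k₀)).trans
      ((ph_tr (f' := fun _ : PUnit.{w' + 1} => h) w s' y (g ≫ t) (g ≫ x₀) (g ≫ x₁) hy hx₀ hx₁).trans
        (k₁.symm.trans (Category.assoc _ _ _))))
  refine ⟨mkSection m hmhom hφ, ?_⟩
  · apply ext_of_pt
    intro j
    obtain ⟨y, hydef⟩ : ∃ y, y = pullback.fst h T'.hom := ⟨_, rfl⟩
    obtain ⟨t, htdef⟩ : ∃ t, t = pullback.snd h T'.hom := ⟨_, rfl⟩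
    have hy : y ≫ h = t ≫ T'.hom := by rw [hydef, htdef]; exact pullback.condition
    have goal : pt (res (f' := fun _ : PUnit.{w' + 1} => h) w (mkSection m hmhom hφ)) (i := j) y t hy =
        pt s' (i := j) y t hy := by
      apply pullback.hom_ext
      · rw [pt_res_fst, pt_mkSection]
        have hy2 : y ≫ h = (pullback.lift (y ≫ p' j) t
            (cond_push (f' := fun _ : PUnit.{w' + 1} => h) w (j := j) y t hy) ≫
            pullback.snd (f (α j)) (push p T').hom) ≫ T'.hom := by rw [pullback.lift_snd]; exact hy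
        refine (key (pullback.lift (y ≫ p' j) t
          (cond_push (f' := fun _ : PUnit.{w' + 1} => h) w (j := j) y t hy)) y hy2).trans ?_
        refine (tr_congr (f' := fun _ : PUnit.{w' + 1} => h) w s' _ _ rfl (pullback.lift_snd _ _ _)
          (pullback.lift_fst _ _ _)).trans ?_
        exact tr_self (f' := fun _ : PUnit.{w' + 1} => h) w s' (j := j) y t hy
      · rw [pt_snd, pt_snd]
    subst hydef htdef
    exact goal

end bij

/-- A universal pair for the pulled back datum gives a pair for `D` which is universal among `S`-schemes of the form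
`push p T'` (universally submersive one-member refinement, étale members). -/
theorem exists_univ_push_us (hh : SGA1.UnivSubmersive h) (D : SchDDFam f) [∀ i, Etale (D.obj i).hom] (U' : Over S')
    (ε' : (toDDFam (fun _ : PUnit.{w' + 1} => h)).obj U' ⟶ (pullDDFam w).obj D)
    (hε' : IsUniv ((pullDDFam w).obj D) U' ε') :
    ∃ ε : (toDDFam f).obj (push p U') ⟶ D, res (f' := fun _ : PUnit.{w' + 1} => h) w ε = ε' ∧
      ∀ (T' : Over S') (s : (toDDFam f).obj (push p T') ⟶ D),
        ∃! g : T' ⟶ U', (toDDFam f).map (pushMap p g) ≫ ε = s := by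
  obtain ⟨ε, hε⟩ := res_surjective_us w hh ε'
  refine ⟨ε, hε, fun T' s => ?_⟩
  obtain ⟨g, hg, huniq⟩ := hε' T' (res (f' := fun _ : PUnit.{w' + 1} => h) w s)
  have hg' : (toDDFam (fun _ : PUnit.{w' + 1} => h)).map g ≫ ε' = res (f' := fun _ : PUnit.{w' + 1} => h) w s := hg
  refine ⟨g, ?_, fun g' hg2 => huniq g' ?_⟩
  · show (toDDFam f).map (pushMap p g) ≫ ε = s
    apply res_injective_us w hh
    rw [res_natural, hε, hg']
  · show (toDDFam (fun _ : PUnit.{w' + 1} => h)).map g' ≫ ε' = res (f' := fun _ : PUnit.{w' + 1} => h) w s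
    have h2 : (toDDFam f).map (pushMap p g') ≫ ε = s := hg2
    rw [← h2, res_natural, hε]

section pushId

variable {D' : SchDDFam f}

/-- Universality among the `push (𝟙 S) T'` is universality. -/
theorem isUniv_of_push_id {U' : Over S} (ε : (toDDFam f).obj (push (𝟙 S) U') ⟶ D')
    (H : ∀ (T' : Over S) (s : (toDDFam f).obj (push (𝟙 S) T') ⟶ D'),
      ∃! g : T' ⟶ U', (toDDFam f).map (pushMap (𝟙 S) g) ≫ ε = s) :
    IsUniv D' (push (𝟙 S) U') ε := by
  intro T s
  have ha : 𝟙 T.left ≫ T.hom = (push (𝟙 S) T).hom := by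
    show 𝟙 T.left ≫ T.hom = T.hom ≫ 𝟙 S
    rw [Category.id_comp, Category.comp_id]
  have hb : 𝟙 T.left ≫ (push (𝟙 S) T).hom = T.hom := by
    show 𝟙 T.left ≫ T.hom ≫ 𝟙 S = T.hom
    rw [Category.id_comp, Category.comp_id]
  let a : push (𝟙 S) T ⟶ T := Over.homMk (𝟙 T.left) ha
  let b : T ⟶ push (𝟙 S) T := Over.homMk (𝟙 T.left) hb
  have hba : b ≫ a = 𝟙 T := Over.OverMorphism.ext (Category.id_comp _)
  obtain ⟨c, hc, hcu⟩ := H T ((toDDFam f).map a ≫ s)
  have hc' : (toDDFam f).map (pushMap (𝟙 S) c) ≫ ε = (toDDFam f).map a ≫ s := hc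
  refine ⟨b ≫ pushMap (𝟙 S) c, ?_, fun c2 hc2 => ?_⟩
  · show (toDDFam f).map (b ≫ pushMap (𝟙 S) c) ≫ ε = s
    rw [Functor.map_comp, Category.assoc, hc', ← Category.assoc, ← Functor.map_comp, hba,
      CategoryTheory.Functor.map_id, Category.id_comp]
  · have hc3 : (toDDFam f).map c2 ≫ ε = s := hc2
    have hw0 : c2.left ≫ U'.hom = T.hom := by
      have e : c2.left ≫ U'.hom ≫ 𝟙 S = T.hom := Over.w c2
      rwa [Category.comp_id] at e
    let c₀ : T ⟶ U' := Over.homMk c2.left hw0
    have e1 : pushMap (𝟙 S) c₀ = a ≫ c2 := by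
      apply Over.OverMorphism.ext
      show c2.left = 𝟙 _ ≫ c2.left
      rw [Category.id_comp]
    have e2 : (toDDFam f).map (pushMap (𝟙 S) c₀) ≫ ε = (toDDFam f).map a ≫ s := by
      rw [e1, Functor.map_comp, Category.assoc, hc3]
    have e3 : c₀ = c := hcu c₀ e2
    apply Over.OverMorphism.ext
    show c2.left = 𝟙 _ ≫ c.left
    rw [Category.id_comp, ← e3]
    rfl

end pushId

/-- **Composite lemma.** `g : S₁ ⟶ S`, `f₀ : V ⟶ S₁` with `hc = f₀ ≫ g` universally submersive, `D` an étale descent datum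
relative to `g`.  If the pullback of `D` along `f₀` (a datum relative to `hc`) is the canonical datum of an étale `U`, then so
is `D`. -/
theorem exists_iso_of_comp {S S₁ V : Scheme.{u}} (g : S₁ ⟶ S) (f₀ : V ⟶ S₁) (hc : V ⟶ S) (hw : f₀ ≫ g = hc ≫ 𝟙 S)
    (hh : SGA1.UnivSubmersive hc) (D : SchDDFam (fun _ : PUnit.{w + 1} => g)) [hD : Etale (D.obj PUnit.unit).hom]
    (U : Over S) [Etale U.hom]
    (θ : (toDDFam (fun _ : PUnit.{w' + 1} => hc)).obj U ≅
      (pullDDFam (f := fun _ : PUnit.{w + 1} => g) (f' := fun _ : PUnit.{w' + 1} => hc) (α := fun _ => PUnit.unit)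
        (p := 𝟙 S) (p' := fun _ => f₀) (fun _ => hw)).obj D) :
    Nonempty ((toDDFam (fun _ : PUnit.{w + 1} => g)).obj U ≅ D) := by
  haveI : ∀ i, Etale (D.obj i).hom := fun i => by cases i; exact hD
  have hU : IsUniv _ U θ.hom := isUniv_of_iso_etale hc hh _ U θ.hom
  obtain ⟨ε, -, hε⟩ := exists_univ_push_us (f := fun _ : PUnit.{w + 1} => g) (h := hc) (α := fun _ => PUnit.unit)
    (p := 𝟙 S) (p' := fun _ => f₀) (fun _ => hw) hh D U θ.hom hU
  have hε' : IsUniv D (push (𝟙 S) U) ε := isUniv_of_push_id ε hε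
  haveI := isIso_of_isUniv hε'
  have hb : 𝟙 U.left ≫ (push (𝟙 S) U).hom = U.hom := by
    show 𝟙 U.left ≫ U.hom ≫ 𝟙 S = U.hom
    rw [Category.id_comp, Category.comp_id]
  let b : U ≅ push (𝟙 S) U := Over.isoMk (Iso.refl _) hb
  exact ⟨(toDDFam (fun _ : PUnit.{w + 1} => g)).mapIso b ≪≫ asIso ε⟩

end Groth.Agent.Lib.Helper4.DescUS
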