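import Mathlib
import Groth.Prelude.Def_DescFam
import Groth.Prelude.Def_SGA1
import Groth.Agent.Lib.Helper4.DescFinSurj
import Groth.Agent.Lib.Helper4.DescUS
import Groth.Agent.Lib.Helper4.SubtrNoeth

/-!
# Étale separated quasi-compact descent data relative to a universally submersive quasi-finite morphism over a complete
local ring with algebraically closed residue field are effective (helper4; SGA 1 IX 4.7 over a complete local base)

Reduction to the finite surjective case: the finite part of a finite affine cover of the source is finite and surjective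
over the base (specialisations lift along universally submersive morphisms over a Noetherian base).
-/

set_option autoImplicit false
set_option linter.style.haveILetI false
set_option backward.isDefEq.respectTransparency false
universe u
open CategoryTheory CategoryTheory.Limits AlgebraicGeometry

namespace Groth.Agent.Lib.Helper4.DescLqf

open Desc Groth.Agent.Lib.Helper4.DescGamma Groth.Agent.Lib.Helper4.DescFinSurj

theorem univSubmersive_comp {X Y Z : Scheme.{u}} (f : X ⟶ Y) (g : Y ⟶ Z) (hf : SGA1.UnivSubmersive f)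
    (hg : SGA1.UnivSubmersive g) : SGA1.UnivSubmersive (f ≫ g) := by
  haveI : (topologically fun {α β} [TopologicalSpace α] [TopologicalSpace β] (f : α → β) =>
      Topology.IsQuotientMap f).IsStableUnderComposition :=
    topologically_isStableUnderComposition _ (fun f g hf hg => hg.comp hf)
  exact (MorphismProperty.IsStableUnderComposition.universally _).comp_mem f g hf hg

theorem univSubmersive_of_universallyOpen_of_surjective {X Y : Scheme.{u}} (f : X ⟶ Y)
    [UniversallyOpen f] [Surjective f] : SGA1.UnivSubmersive f := by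
  intro X' Y' i₁ i₂ f' h
  haveI : UniversallyOpen f' := MorphismProperty.of_isPullback h.flip inferInstance
  haveI : Surjective f' := MorphismProperty.of_isPullback h.flip inferInstance
  exact f'.isOpenMap.isQuotientMap f'.continuous f'.surjective

variable (B : Type u) [CommRing B] [IsNoetherianRing B] [IsLocalRing B]
  [IsAdicComplete (IsLocalRing.maximalIdeal B) B] [IsAlgClosed (IsLocalRing.ResidueField B)]
  {S' : Scheme.{u}} (g : S' ⟶ Spec (CommRingCat.of B))

/-- **SGA 1 IX 4.7 over a complete local base.** -/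
theorem exists_iso_of_lqf (hg : SGA1.UnivSubmersive g) [LocallyOfFiniteType g] [QuasiCompact g]
    [LocallyQuasiFinite g] (D : SchDDFam (fun _ : PUnit.{1} => g)) [Etale (D.obj PUnit.unit).hom]
    [QuasiCompact (D.obj PUnit.unit).hom] [IsSeparated (D.obj PUnit.unit).hom] :
    ∃ U : Over (Spec (CommRingCat.of B)), Etale U.hom ∧ Nonempty ((toDDFam (fun _ : PUnit.{1} => g)).obj U ≅ D) := by
  haveI : HenselianLocalRing B :=
    { is_henselian := fun f hf a₀ h₁ h₂ =>
        HenselianRing.is_henselian (I := IsLocalRing.maximalIdeal B) f hf a₀ h₁ (h₂.map _) }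
  haveI : CompactSpace S' := QuasiCompact.compactSpace_of_compactSpace g
  -- a finite affine cover of the source
  let 𝒰 : S'.OpenCover := S'.affineCover.finiteSubcover
  haveI hAff : ∀ i, IsAffine (𝒰.X i) := fun i => by
    dsimp only [𝒰, Scheme.OpenCover.finiteSubcover]
    infer_instance
  let A : Scheme.{u} := ∐ 𝒰.X
  let c : A ⟶ S' := Sigma.desc 𝒰.f
  haveI : IsAffine A := inferInstanceAs (IsAffine (∐ 𝒰.X))
  haveI : Etale c := IsZariskiLocalAtSource.sigmaDesc (P := @Etale) (fun i => inferInstance)
  haveI : Surjective c := ⟨fun x => by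
    obtain ⟨i, y, hy⟩ := 𝒰.exists_eq x
    refine ⟨(Sigma.ι 𝒰.X i).base y, ?_⟩
    have h1 : (Sigma.ι 𝒰.X i ≫ c).base y = x := by
      rw [Sigma.ι_desc]
      exact hy
    exact h1⟩
  have hc : SGA1.UnivSubmersive c := univSubmersive_of_universallyOpen_of_surjective c
  let fA : A ⟶ Spec (CommRingCat.of B) := c ≫ g
  have hfA : SGA1.UnivSubmersive fA := univSubmersive_comp c g hc hg
  haveI : LocallyQuasiFinite c := Groth.Agent.Lib.Helper4.DescEtale.locallyQuasiFinite_of_etale c
  haveI : LocallyQuasiFinite fA := inferInstanceAs (LocallyQuasiFinite (c ≫ g))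
  haveI : LocallyOfFiniteType fA := inferInstanceAs (LocallyOfFiniteType (c ≫ g))
  haveI : IsAffineHom fA := inferInstance
  -- the finite part
  obtain ⟨Wf, hWf, -⟩ := Groth.Agent.S17447.result B fA
  let hfin : (Wf : Scheme.{u}) ⟶ Spec (CommRingCat.of B) := Wf.ι ≫ fA
  haveI : IsFinite hfin := hWf.2.1
  haveI : Surjective hfin := ⟨fun s => by
    have hS : Subtr.UnivSSubtrusive fA :=
      Groth.Agent.Lib.helper4.SubtrNoeth.univSSubtrusive_of_univSubmersive fA hfA
    have hS' : Subtr.IsSSubtrusive fA := hS (𝟙 A) (𝟙 _) fA (IsPullback.of_id_snd (f := fA))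
    have hsp : s ⤳ IsLocalRing.closedPoint B := IsLocalRing.specializes_closedPoint s
    obtain ⟨x, x', hxx', hx, hx'⟩ := hS' hsp
    have hxW : x ∈ Wf := hWf.2.2 x hx
    have hx'W : x' ∈ Wf := hxx'.mem_open Wf.2 hxW
    exact ⟨⟨x', hx'W⟩, hx'⟩⟩
  have hh : SGA1.UnivSubmersive hfin := univSubmersive_of_finite_surjective hfin
  let f₀ : (Wf : Scheme.{u}) ⟶ S' := Wf.ι ≫ c
  have hw : f₀ ≫ g = hfin ≫ 𝟙 _ := by
    rw [Category.comp_id]
    exact Category.assoc _ _ _
  let DW : SchDDFam (fun _ : PUnit.{1} => hfin) :=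
    (pullDDFam (f := fun _ : PUnit.{1} => g) (f' := fun _ : PUnit.{1} => hfin) (α := fun _ => PUnit.unit)
      (p := 𝟙 _) (p' := fun _ => f₀) (fun _ => hw)).obj D
  haveI : Etale (DW.obj PUnit.unit).hom :=
    inferInstanceAs (Etale (pullback.snd (D.obj PUnit.unit).hom f₀))
  haveI : QuasiCompact (DW.obj PUnit.unit).hom :=
    inferInstanceAs (QuasiCompact (pullback.snd (D.obj PUnit.unit).hom f₀))
  haveI : IsSeparated (DW.obj PUnit.unit).hom :=
    inferInstanceAs (IsSeparated (pullback.snd (D.obj PUnit.unit).hom f₀))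
  obtain ⟨U, hU, ⟨θ⟩⟩ := exists_iso_of_finite_surjective B hfin DW
  haveI := hU
  exact ⟨U, hU, Groth.Agent.Lib.Helper4.DescUS.exists_iso_of_comp g f₀ hfin hw hh D U θ⟩

end Groth.Agent.Lib.Helper4.DescLqf
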