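import Mathlib
import Groth.Prelude.Def_DescFam
import Groth.Agent.Lib.Helper4.DescRefineZar

/-!
# Pullback of descent data along a refinement admitting Zariski-local morphisms back (helper4)

`isEquivalence_pullDDFam_of_covers`: for families `u i : U i ⟶ S`, `v j : V j ⟶ S` and a refinement `(α, g)` of `v` by `u`,
the pullback functor `SchDDFam v ⥤ SchDDFam u` is an equivalence as soon as every `V j` has a Zariski covering whose members
map, over `S`, to members of `u`.
-/

set_option autoImplicit false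
set_option linter.style.haveILetI false
set_option backward.isDefEq.respectTransparency false
set_option linter.unusedSectionVars false
set_option linter.unusedVariables false
universe u
open CategoryTheory CategoryTheory.Limits AlgebraicGeometry

namespace Groth.Agent.Lib.Helper4.DescRefineZar2

open Desc Groth.Agent.Lib.Helper4.DescGamma Groth.Agent.Lib.Helper4.DescPull Groth.Agent.Lib.Helper4.DescRefine
open Groth.Agent.Lib.Helper4.DescRefineZar

variable {S : Scheme.{u}} {ι κ : Type u} {U : ι → Scheme.{u}} {V : κ → Scheme.{u}}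
  {u : ∀ i, U i ⟶ S} {v : ∀ j, V j ⟶ S}

/-- universal pairs exist over `V j` as soon as `V j` has a Zariski covering mapping to the family `u` -/
theorem exists_uPair_of_cover (D' : SchDDFam u) (j : κ) {K : Type u} (C : K → Scheme.{u}) (c : ∀ k, C k ⟶ V j)
    (β : K → ι) (q : ∀ k, C k ⟶ U (β k)) (hq : ∀ k, q k ≫ u (β k) = c k ≫ v j)
    (hcov : Presieve.ofArrows C c ∈ Scheme.zariskiPrecoverage (V j)) :
    Nonempty (UPair v D' j) := by
  have hf := Scheme.zariskiPrecoverage_le_fpqcPrecoverage _ hcov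
  let Dj : SchDDFam c := (pullDDFam (f := u) (f' := c) (α := β) (p := v j) (p' := q) hq).obj D'
  obtain ⟨Yj, ⟨θ⟩⟩ := isEffective_of_zariski hcov Dj
  have hθ : IsUniv Dj Yj θ.hom := isUniv_of_isIso hf Dj Yj θ.hom
  obtain ⟨ε, -, huniv⟩ := exists_univ_push (f := u) (f' := c) (α := β) (p := v j) (p' := q) hq hf Yj θ.hom hθ
  refine ⟨⟨Yj, ε, ?_, ?_⟩⟩
  · intro T y s
    obtain ⟨gg, hgg, -⟩ := huniv (Over.mk y) s
    have hgg' : (toDDFam u).map (pushMap (v j) gg) ≫ ε = s := hgg
    refine ⟨gg.left, Over.w gg, ?_⟩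
    intro W t i x hx
    have e1 := map_comp_pt (pushMap (v j) gg) ε x t hx
    rw [hgg'] at e1
    exact e1.symm
  · intro T d d' hb hpt
    let T' : Over (V j) := Over.mk (d' ≫ Yj.hom)
    let gg : T' ⟶ Yj := Over.homMk d hb
    let gg' : T' ⟶ Yj := Over.homMk d' rfl
    obtain ⟨g₀, -, huniq⟩ := huniv T' ((toDDFam u).map (pushMap (v j) gg') ≫ ε)
    have h1 : gg' = g₀ := huniq gg' rfl
    have h2 : gg = g₀ := by
      apply huniq
      apply ext_of_pt
      intro i
      rw [map_comp_pt, map_comp_pt]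
      exact hpt _ _ _ _
    have h3 : gg = gg' := h2.trans h1.symm
    exact congrArg CommaMorphism.left h3

variable {α : ι → κ} {g : ∀ i, U i ⟶ V (α i)} (ww : ∀ i, g i ≫ v (α i) = u i ≫ 𝟙 S)

/-- the hypothesis: Zariski-locally, members of `v` map to members of `u` over `S` -/
def HasZariskiBack (u : ∀ i, U i ⟶ S) (v : ∀ j, V j ⟶ S) : Prop :=
  ∀ j : κ, ∃ (K : Type u) (C : K → Scheme.{u}) (c : ∀ k, C k ⟶ V j) (β : K → ι) (q : ∀ k, C k ⟶ U (β k)),
    (∀ k, q k ≫ u (β k) = c k ≫ v j) ∧ Presieve.ofArrows C c ∈ Scheme.zariskiPrecoverage (V j)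

theorem hasLocalLifts_of_back (H : HasZariskiBack u v) : Groth.Agent.Lib.Helper4.DescPullFF.HasLocalLifts u v := by
  intro j T t
  obtain ⟨K, C, c, β, q, hq, hcov⟩ := H j
  refine ⟨K, fun k => pullback (c k) t, fun k => pullback.snd (c k) t,
    DescFF.pullback_cover c (Scheme.zariskiPrecoverage_le_fpqcPrecoverage _ hcov) t, fun k => ?_⟩
  refine ⟨β k, pullback.fst (c k) t ≫ q k, ?_⟩
  rw [Category.assoc, hq, ← Category.assoc, pullback.condition, Category.assoc]

theorem isEquivalence_pullDDFam_of_covers (H : HasZariskiBack u v) :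
    (Desc.pullDDFam (f := v) (f' := u) (α := α) (p := 𝟙 S) (p' := g) ww).IsEquivalence := by
  have hL := hasLocalLifts_of_back H
  haveI := Groth.Agent.Lib.Helper4.DescPullFF.full_pullDDFam ww hL
  haveI := Groth.Agent.Lib.Helper4.DescPullFF.faithful_pullDDFam ww hL
  haveI : (Desc.pullDDFam (f := v) (f' := u) (α := α) (p := 𝟙 S) (p' := g) ww).EssSurj := by
    refine ⟨fun D' => ?_⟩
    have hP : ∀ j, Nonempty (UPair v D' j) := fun j => by
      obtain ⟨K, C, c, β, q, hq, hcov⟩ := H j
      exact exists_uPair_of_cover D' j C c β q hq hcov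
    let P : ∀ j, UPair v D' j := fun j => (hP j).some
    exact ⟨descend P, ⟨pullIso P ww⟩⟩
  exact { }

end Groth.Agent.Lib.Helper4.DescRefineZar2
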