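import Mathlib
import Groth.Prelude.Def_DescFam
import Groth.Agent.Lib.Helper4.DescGamma
import Groth.Agent.Lib.Helper4.DescPull

/-!
# Pullback of descent data along a self-map over the base is isomorphic to the identity (helper4)

For `a : X ⟶ S` and `f : X ⟶ X` with `f ≫ a = a`, the functor `pullDDFam` along `f` on descent data relative to `a` is
isomorphic to the identity functor: `selfMapIso`. The component at `D = (Z, φ)` is `(z, x) ↦ φ_{f x, x}(z)`.
-/

set_option autoImplicit false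
set_option backward.isDefEq.respectTransparency false
set_option linter.style.haveILetI false
universe u
open CategoryTheory CategoryTheory.Limits AlgebraicGeometry

namespace Groth.Agent.Lib.Helper4.DescSelfMap

open Desc Groth.Agent.Lib.Helper4.DescGamma Groth.Agent.Lib.Helper4.DescPull

variable {X S : Scheme.{u}} (a : X ⟶ S) (f : X ⟶ X) (h : f ≫ a = a)

include h in
theorem wself (_ : PUnit.{u + 1}) : f ≫ a = a ≫ 𝟙 S := h.trans (Category.comp_id a).symm

/-- The pullback functor along the self-map. -/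
noncomputable abbrev pullSelf : SchDDFam (fun _ : PUnit.{u + 1} => a) ⥤ SchDDFam (fun _ : PUnit.{u + 1} => a) :=
  pullDDFam (f := fun _ : PUnit.{u + 1} => a) (f' := fun _ : PUnit.{u + 1} => a) (α := fun j => j)
    (p := 𝟙 S) (p' := fun _ => f) (wself a f h)

variable (D : SchDDFam (fun _ : PUnit.{u + 1} => a))

include h in
theorem cond_m : (pullback.snd (D.obj ⟨⟩).hom f ≫ f) ≫ a = pullback.snd (D.obj ⟨⟩).hom f ≫ a := by
  rw [Category.assoc, h]

/-- `(z, x) ↦ φ_{f x, x}(z)`. -/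
noncomputable def m : pullback (D.obj ⟨⟩).hom f ⟶ (D.obj ⟨⟩).left :=
  ph D (i := PUnit.unit) (j := PUnit.unit) (pullback.snd (D.obj ⟨⟩).hom f ≫ f) (pullback.snd (D.obj ⟨⟩).hom f)
    (cond_m a f h D) (pullback.fst (D.obj ⟨⟩).hom f) pullback.condition

theorem m_hom : m a f h D ≫ (D.obj ⟨⟩).hom = pullback.snd (D.obj ⟨⟩).hom f := ph_hom D _ _ _ _ _

/-- Composition of a point of the pullback with `m`. -/
theorem comp_m {T : Scheme.{u}} (d : T ⟶ pullback (D.obj ⟨⟩).hom f) (x : T ⟶ X)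
    (hd : d ≫ pullback.snd (D.obj ⟨⟩).hom f = x) :
    d ≫ m a f h D = ph D (i := PUnit.unit) (j := PUnit.unit) (x ≫ f) x (by rw [Category.assoc, h])
      (d ≫ pullback.fst (D.obj ⟨⟩).hom f) (by rw [Category.assoc, pullback.condition, ← Category.assoc, hd]) := by
  subst hd
  rw [m, comp_ph]
  exact ph_congr D _ _ (Category.assoc _ _ _).symm rfl rfl

include h in
theorem cond_n : (D.obj ⟨⟩).hom ≫ a = ((D.obj ⟨⟩).hom ≫ f) ≫ a := by
  rw [Category.assoc, h]

/-- `z ↦ (φ_{q z, f (q z)}(z), q z)`. -/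
noncomputable def n : (D.obj ⟨⟩).left ⟶ pullback (D.obj ⟨⟩).hom f :=
  pullback.lift (ph D (i := PUnit.unit) (j := PUnit.unit) (D.obj ⟨⟩).hom ((D.obj ⟨⟩).hom ≫ f) (cond_n a f h D)
    (𝟙 _) (Category.id_comp _)) (D.obj ⟨⟩).hom (ph_hom D _ _ _ _ _)

theorem n_m : n a f h D ≫ m a f h D = 𝟙 _ := by
  rw [comp_m a f h D (n a f h D) (D.obj ⟨⟩).hom (pullback.lift_snd _ _ _)]
  have e : n a f h D ≫ pullback.fst (D.obj ⟨⟩).hom f = ph D (i := PUnit.unit) (j := PUnit.unit) (D.obj ⟨⟩).hom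
      ((D.obj ⟨⟩).hom ≫ f) (cond_n a f h D) (𝟙 _) (Category.id_comp _) := pullback.lift_fst _ _ _
  refine (ph_congr D _ _ rfl rfl e).trans ?_
  rw [ph_ph, ph_self]

theorem m_n : m a f h D ≫ n a f h D = 𝟙 _ := by
  apply pullback.hom_ext
  · rw [Category.assoc, Category.id_comp]
    have e : n a f h D ≫ pullback.fst (D.obj ⟨⟩).hom f = ph D (i := PUnit.unit) (j := PUnit.unit) (D.obj ⟨⟩).hom
        ((D.obj ⟨⟩).hom ≫ f) (cond_n a f h D) (𝟙 _) (Category.id_comp _) := pullback.lift_fst _ _ _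
    rw [e, comp_ph]
    refine (ph_congr D _ _ (m_hom a f h D) ((Category.assoc _ _ _).symm.trans
      (congrArg (· ≫ f) (m_hom a f h D))) (Category.comp_id _)).trans ?_
    unfold m
    rw [ph_ph, ph_self]
  · rw [Category.assoc, Category.id_comp]
    have e : n a f h D ≫ pullback.snd (D.obj ⟨⟩).hom f = (D.obj ⟨⟩).hom := pullback.lift_snd _ _ _
    rw [e, m_hom]

/-- The component of the natural isomorphism. -/
noncomputable def eta : (pullSelf a f h).obj D ⟶ D where
  hom _ := Over.homMk (m a f h D) (m_hom a f h D)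
  comm T _ _ x₀ x₁ hx v w hw := by
    have hw' : w.1 = v.1 ≫ m a f h D := hw
    have hv2 : v.1 ≫ pullback.snd (D.obj ⟨⟩).hom f = x₀ := v.2
    change ph D (i := PUnit.unit) (j := PUnit.unit) x₀ x₁ hx w.1 w.2 =
      ph ((pullSelf a f h).obj D) (i := PUnit.unit) (j := PUnit.unit) x₀ x₁ hx v.1 v.2 ≫ m a f h D
    have e1 := comp_m a f h D v.1 x₀ hv2
    have e2 := comp_m a f h D (ph ((pullSelf a f h).obj D) (i := PUnit.unit) (j := PUnit.unit) x₀ x₁ hx v.1 v.2) x₁
      (ph_hom ((pullSelf a f h).obj D) _ _ _ _ _)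
    have e3 := ph_pull (f := fun _ : PUnit.{u + 1} => a) (f' := fun _ : PUnit.{u + 1} => a) (α := fun j => j)
      (p := 𝟙 S) (p' := fun _ => f) (wself a f h) D (j₀ := PUnit.unit) (j₁ := PUnit.unit) x₀ x₁ hx v.1 v.2
    rw [e2]
    refine (ph_congr D hx w.2 rfl rfl (hw'.trans e1)).trans ?_
    rw [ph_ph]
    symm
    refine (ph_congr D _ _ rfl rfl e3).trans ?_
    rw [ph_ph]

instance : IsIso (eta a f h D) :=
  isIso_of_isIso_left (eta a f h D) (fun _ => ⟨n a f h D, m_n a f h D, n_m a f h D⟩)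

/-- `Hom.comm` in unbundled form. -/
theorem comm_ph {D D' : SchDDFam (fun _ : PUnit.{u + 1} => a)} (c : D ⟶ D')
    {W : Scheme.{u}} (y₀ y₁ : W ⟶ X) (hy : y₀ ≫ a = y₁ ≫ a)
    (d : W ⟶ (D.obj ⟨⟩).left) (hd : d ≫ (D.obj ⟨⟩).hom = y₀) :
    ph D' (i := PUnit.unit) (j := PUnit.unit) y₀ y₁ hy (d ≫ (c.hom ⟨⟩).left)
        (by rw [Category.assoc, Over.w (c.hom ⟨⟩), hd]) =
      ph D (i := PUnit.unit) (j := PUnit.unit) y₀ y₁ hy d hd ≫ (c.hom ⟨⟩).left :=
  c.comm y₀ y₁ hy ⟨d, hd⟩ ⟨d ≫ (c.hom ⟨⟩).left, by rw [Category.assoc, Over.w (c.hom ⟨⟩), hd]⟩ rfl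

/-- Pullback of descent data along a self-map over the base is isomorphic to the identity functor. -/
noncomputable def selfMapIso : pullSelf a f h ≅ 𝟭 (SchDDFam (fun _ : PUnit.{u + 1} => a)) :=
  NatIso.ofComponents (fun D => (asIso (eta a f h D) : (pullSelf a f h).obj D ≅ D)) (by
    intro D D' c
    apply SchDDFam.hom_ext
    funext i
    apply Over.OverMorphism.ext
    change (((pullSelf a f h).map c).hom i).left ≫ m a f h D' = m a f h D ≫ (c.hom ⟨⟩).left
    have e1 : (((pullSelf a f h).map c).hom i).left ≫ pullback.snd (D'.obj ⟨⟩).hom f =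
        pullback.snd (D.obj ⟨⟩).hom f := (pullback.lift_snd _ _ _).trans (Category.comp_id _)
    have e2 : (((pullSelf a f h).map c).hom i).left ≫ pullback.fst (D'.obj ⟨⟩).hom f =
        pullback.fst (D.obj ⟨⟩).hom f ≫ (c.hom ⟨⟩).left := pullback.lift_fst _ _ _
    rw [comp_m a f h D' _ _ e1]
    unfold m
    rw [← comm_ph a c]
    exact ph_congr D' _ _ rfl rfl e2)

end Groth.Agent.Lib.Helper4.DescSelfMap
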