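import Mathlib
import Groth.Prelude.Def_DescFam
import Groth.Agent.Lib.Helper4.DescGamma
import Groth.Agent.Lib.Helper4.DescPull
import Groth.Agent.Lib.Helper4.DescSigma

/-!
# Descent data relative to a family are descent data relative to its coproduct (helper4)

`isEquivalence_restr`: the restriction functor `DescSigma.restr f : SchDD (Sigma.desc f) ⥤ SchDDFam f` is an
equivalence of categories (`essSurj_restr`, `faithful_restr`, `full_restr`).
-/

set_option autoImplicit false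
set_option backward.isDefEq.respectTransparency false
set_option linter.style.haveILetI false
universe w u
open CategoryTheory CategoryTheory.Limits AlgebraicGeometry

namespace Groth.Agent.Lib.Helper4.DescSigmaEquiv

open Desc Groth.Agent.Lib.Helper4.DescGamma Groth.Agent.Lib.Helper4.DescPull Groth.Agent.Lib.Helper4.DescSigma

variable {ι : Type w} [Small.{u} ι] {X : ι → Scheme.{u}}

section glue

variable {Z Y : Scheme.{u}} (q : Z ⟶ ∐ X)

theorem hom_ext_over_sigma (a b : Z ⟶ Y)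
    (h : ∀ i, pullback.fst q (Sigma.ι X i) ≫ a = pullback.fst q (Sigma.ι X i) ≫ b) : a = b :=
  Scheme.Cover.hom_ext ((sigmaOpenCover X).pullback₁ q) a b h

theorem exists_glue_over_sigma (m : ∀ i, pullback q (Sigma.ι X i) ⟶ Y) :
    ∃ a : Z ⟶ Y, ∀ i, pullback.fst q (Sigma.ι X i) ≫ a = m i := by
  let 𝒲 : Z.OpenCover := (sigmaOpenCover X).pullback₁ q
  have compat : ∀ i j, pullback.fst (𝒲.f i) (𝒲.f j) ≫ m i = pullback.snd (𝒲.f i) (𝒲.f j) ≫ m j := by
    intro i j
    by_cases hij : i = j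
    · subst hij
      have e : pullback.fst (𝒲.f i) (𝒲.f i) = pullback.snd (𝒲.f i) (𝒲.f i) := by
        rw [← cancel_mono (𝒲.f i)]; exact pullback.condition
      rw [e]
    · have hempty : IsEmpty ↑(pullback (𝒲.f i) (𝒲.f j)) := by
        refine ⟨fun z => hij ?_⟩
        let z₁ := pullback.fst (𝒲.f i) (𝒲.f j) z
        let z₂ := pullback.snd (𝒲.f i) (𝒲.f j) z
        have e1 : 𝒲.f i z₁ = 𝒲.f j z₂ := by
          rw [← Scheme.Hom.comp_apply, ← Scheme.Hom.comp_apply, pullback.condition]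
        have e2 : q (𝒲.f i z₁) = Sigma.ι X i (pullback.snd q (Sigma.ι X i) z₁) := by
          rw [← Scheme.Hom.comp_apply, ← Scheme.Hom.comp_apply]
          exact congrArg (fun φ : pullback q (Sigma.ι X i) ⟶ ∐ X => φ z₁) pullback.condition
        have e3 : q (𝒲.f j z₂) = Sigma.ι X j (pullback.snd q (Sigma.ι X j) z₂) := by
          rw [← Scheme.Hom.comp_apply, ← Scheme.Hom.comp_apply]
          exact congrArg (fun φ : pullback q (Sigma.ι X j) ⟶ ∐ X => φ z₂) pullback.condition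
        exact sigmaι_index_eq X (e2.symm.trans ((congrArg q e1).trans e3))
      exact (isInitialOfIsEmpty (X := pullback (𝒲.f i) (𝒲.f j))).hom_ext _ _
  exact ⟨𝒲.glueMorphisms m compat, fun i => 𝒲.ι_glueMorphisms m compat i⟩

end glue


section equiv

variable {S : Scheme.{u}} (f : ∀ i, X i ⟶ S)

instance essSurj_restr : (restr f).EssSurj :=
  ⟨fun D => ⟨sigmaDD D, ⟨(asIso (cmp D)).symm⟩⟩⟩

theorem restr_map_left_fst {D₁ D₂ : SchDD (Sigma.desc f)} (a : D₁ ⟶ D₂) (i : ι) :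
    (((restr f).map a).hom i).left ≫ pullback.fst D₂.obj.hom (Sigma.ι X i) =
      pullback.fst D₁.obj.hom (Sigma.ι X i) ≫ a.hom.left :=
  pullback.lift_fst _ _ _

instance faithful_restr : (restr f).Faithful := by
  constructor
  intro D₁ D₂ a b hab
  apply SchDD.hom_ext
  apply Over.OverMorphism.ext
  refine hom_ext_over_sigma D₁.obj.hom _ _ (fun i => ?_)
  rw [← restr_map_left_fst, ← restr_map_left_fst, hab]

/-- `Hom.comm` in unbundled form. -/
theorem comm_ph {κ : Type w} {Y : κ → Scheme.{u}} {g : ∀ k, Y k ⟶ S} {D D' : SchDDFam g} (c : D ⟶ D')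
    {W : Scheme.{u}} {i j : κ} (y₀ : W ⟶ Y i) (y₁ : W ⟶ Y j) (hy : y₀ ≫ g i = y₁ ≫ g j)
    (d : W ⟶ (D.obj i).left) (hd : d ≫ (D.obj i).hom = y₀) :
    ph D' y₀ y₁ hy (d ≫ (c.hom i).left) (by rw [Category.assoc, Over.w (c.hom i), hd]) =
      ph D y₀ y₁ hy d hd ≫ (c.hom j).left :=
  c.comm y₀ y₁ hy ⟨d, hd⟩ ⟨d ≫ (c.hom i).left, by rw [Category.assoc, Over.w (c.hom i), hd]⟩ rfl

instance full_restr : (restr f).Full := by
  constructor
  intro D₁ D₂ c
  -- the underlying morphism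
  obtain ⟨a, ha⟩ := exists_glue_over_sigma D₁.obj.hom
    (fun i => (c.hom i).left ≫ pullback.fst D₂.obj.hom (Sigma.ι X i))
  have hcw : ∀ i, (c.hom i).left ≫ pullback.snd D₂.obj.hom (Sigma.ι X i) =
      pullback.snd D₁.obj.hom (Sigma.ι X i) := fun i => Over.w (c.hom i)
  have haw : a ≫ D₂.obj.hom = D₁.obj.hom := by
    refine hom_ext_over_sigma D₁.obj.hom _ _ (fun i => ?_)
    rw [← Category.assoc, ha, Category.assoc, pullback.condition, ← Category.assoc, hcw, pullback.condition]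
  let DF₁ := (SchDDFam.ofSchDD.{u} (Sigma.desc f)).obj D₁
  let DF₂ := (SchDDFam.ofSchDD.{u} (Sigma.desc f)).obj D₂
  have hcomm : ∀ ⦃T : Scheme.{u}⦄ (x₀ x₁ : T ⟶ ∐ X) (h : x₀ ≫ Sigma.desc f = x₁ ≫ Sigma.desc f)
      (v : Lifts D₁.obj x₀) (w : Lifts D₂.obj x₀), w.1 = v.1 ≫ a →
      (D₂.φ x₀ x₁ h w).1 = (D₁.φ x₀ x₁ h v).1 ≫ a := by
    intro T x₀ x₁ h v w hw
    apply Scheme.hom_ext_of_forall
    intro t
    obtain ⟨W, ht, i, j, y₀, y₁, h₀, h₁⟩ := exists_loc₂ x₀ x₁ t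
    refine ⟨W, ht, ?_⟩
    have hy : y₀ ≫ f i = y₁ ≫ f j := hy_of x₀ x₁ h W.ι y₀ y₁ h₀ h₁
    -- the lift to the pullback
    let d : (W : Scheme.{u}) ⟶ pullback D₁.obj.hom (Sigma.ι X i) :=
      pullback.lift (W.ι ≫ v.1) y₀ (by rw [Category.assoc, v.2, h₀])
    have hd : d ≫ pullback.snd D₁.obj.hom (Sigma.ι X i) = y₀ := pullback.lift_snd _ _ _
    have hdf : d ≫ pullback.fst D₁.obj.hom (Sigma.ι X i) = W.ι ≫ v.1 := pullback.lift_fst _ _ _
    have e1 : W.ι ≫ (D₁.φ x₀ x₁ h v).1 =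
        ph ((restr f).obj D₁) y₀ y₁ hy d hd ≫ pullback.fst D₁.obj.hom (Sigma.ι X j) := by
      have e := ph_pull (f := fun _ : PUnit.{u + 1} => Sigma.desc f) (f' := f) (α := fun _ => PUnit.unit)
        (p := 𝟙 S) (p' := fun i => Sigma.ι X i) (wσ f) DF₁ y₀ y₁ hy d hd
      refine (comp_ph DF₁ W.ι (i := PUnit.unit) (j := PUnit.unit) x₀ x₁ h v.1 v.2).trans ?_
      exact (ph_congr DF₁ _ _ h₀ h₁ hdf.symm).trans e.symm
    have hd2 : (d ≫ (c.hom i).left) ≫ (((restr f).obj D₂).obj i).hom = y₀ :=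
      (Category.assoc _ _ _).trans ((congrArg (d ≫ ·) (hcw i)).trans hd)
    have e2 : W.ι ≫ (D₂.φ x₀ x₁ h w).1 =
        ph ((restr f).obj D₂) y₀ y₁ hy (d ≫ (c.hom i).left) hd2 ≫
          pullback.fst D₂.obj.hom (Sigma.ι X j) := by
      have e := ph_pull (f := fun _ : PUnit.{u + 1} => Sigma.desc f) (f' := f) (α := fun _ => PUnit.unit)
        (p := 𝟙 S) (p' := fun i => Sigma.ι X i) (wσ f) DF₂ y₀ y₁ hy (d ≫ (c.hom i).left) hd2
      refine (comp_ph DF₂ W.ι (i := PUnit.unit) (j := PUnit.unit) x₀ x₁ h w.1 w.2).trans ?_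
      refine (ph_congr DF₂ _ _ h₀ h₁ ?_).trans e.symm
      rw [hw, ← Category.assoc, ← hdf, Category.assoc, Category.assoc, ha]
      rfl
    rw [e2, ← Category.assoc, e1, Category.assoc, ha, ← Category.assoc]
    exact congrArg (· ≫ pullback.fst D₂.obj.hom (Sigma.ι X j)) (comm_ph c y₀ y₁ hy d hd)
  refine ⟨⟨Over.homMk a haw, hcomm⟩, ?_⟩
  apply SchDDFam.hom_ext
  funext i
  apply Over.OverMorphism.ext
  apply pullback.hom_ext
  · exact (restr_map_left_fst f _ i).trans (ha i)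
  · exact (Over.w (((restr f).map _).hom i)).trans (hcw i).symm

theorem isEquivalence_restr : (restr f).IsEquivalence where

end equiv

end Groth.Agent.Lib.Helper4.DescSigmaEquiv
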