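import Mathlib
import Groth.Agent.Lib.Helper18.CompleteNakayama

/-!
# Quasi-sections, ring level, part 4: finiteness of quasi-finite local algebras over complete rings (helper4)

`FinQ B I` (for an ideal `I` of a `B`-algebra `C`): `C ⧸ I` is spanned over `B` by finitely many elements.

* `finQ_mul`, `finQ_pow`: stability under products of finitely generated ideals;
* `finite_of_finQ_map`: complete Nakayama: `B` precomplete for `J`, `C` Hausdorff for `J`,
  `FinQ B (J C)` ⇒ `C` is a finite `B`-module;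
* `finite_of_local`: `C` Noetherian local, `J C ≤ 𝔪_C ≤ √(J C)`, residue field of `C` finite over `B` ⇒ `C`
  finite over `B`.
-/

set_option autoImplicit false
universe u

namespace Groth.Agent.Lib.Helper4.QSecFin

variable (B : Type u) [CommRing B] {C : Type u} [CommRing C] [Algebra B C]

/-- `C ⧸ I` is generated as a `B`-module by finitely many elements. -/
def FinQ (I : Ideal C) : Prop :=
  ∃ s : Finset C, Submodule.span B (s : Set C) ⊔ I.restrictScalars B = ⊤

variable {B}

theorem finQ_top : FinQ B (⊤ : Ideal C) := ⟨∅, by simp⟩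

theorem FinQ.mono {I I' : Ideal C} (h : FinQ B I) (hle : I ≤ I') : FinQ B I' := by
  obtain ⟨s, hs⟩ := h
  refine ⟨s, top_le_iff.mp ?_⟩
  rw [← hs]
  exact sup_le_sup_left (fun x hx => hle hx) _

theorem finQ_iff (I : Ideal C) : FinQ B I ↔
    ∃ s : Finset C, ∀ c : C, ∃ z ∈ Submodule.span B (s : Set C), c - z ∈ I := by
  constructor
  · rintro ⟨s, hs⟩
    refine ⟨s, fun c => ?_⟩
    have hc : c ∈ Submodule.span B (s : Set C) ⊔ I.restrictScalars B := by rw [hs]; trivial
    obtain ⟨z, hz, w, hw, rfl⟩ := Submodule.mem_sup.mp hc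
    exact ⟨z, hz, by simpa using hw⟩
  · rintro ⟨s, hs⟩
    refine ⟨s, top_le_iff.mp fun c _ => ?_⟩
    obtain ⟨z, hz, hw⟩ := hs c
    rw [Submodule.mem_sup]
    exact ⟨z, hz, c - z, hw, by ring⟩

theorem finQ_mul {I₁ I₂ : Ideal C} (h₁ : FinQ B I₁) (h₂ : FinQ B I₂) (hfg : I₁.FG) :
    FinQ B (I₁ * I₂) := by
  classical
  rw [finQ_iff] at h₁ h₂ ⊢
  obtain ⟨s₁, hs₁⟩ := h₁
  obtain ⟨s₂, hs₂⟩ := h₂
  obtain ⟨g, hg⟩ := hfg
  refine ⟨s₁ ∪ (g ×ˢ s₂).image (fun xy => xy.2 * xy.1), fun c => ?_⟩
  have key : ∀ w ∈ I₁, ∃ z ∈ Submodule.span B (((g ×ˢ s₂).image (fun xy => xy.2 * xy.1) : Finset C) : Set C),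
      w - z ∈ I₁ * I₂ := by
    intro w hw
    rw [← hg] at hw
    obtain ⟨f, -, hf⟩ := Submodule.mem_span_finset.mp hw
    choose z hz hzI using fun x => hs₂ (f x)
    refine ⟨∑ x ∈ g, z x * x, Submodule.sum_mem _ fun x hx => ?_, ?_⟩
    · have h1 : z x * x ∈ (Submodule.span B (s₂ : Set C)).map (LinearMap.mulRight B x) := ⟨z x, hz x, rfl⟩
      rw [Submodule.map_span] at h1
      refine Submodule.span_mono ?_ h1
      rintro _ ⟨y, hy, rfl⟩
      simp only [Finset.coe_image, Set.mem_image, Finset.mem_coe, Finset.mem_product]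
      exact ⟨(x, y), ⟨hx, hy⟩, rfl⟩
    · rw [← hf, ← Finset.sum_sub_distrib]
      refine Ideal.sum_mem _ fun x hx => ?_
      have hxI : x ∈ I₁ := by rw [← hg]; exact Ideal.subset_span hx
      rw [smul_eq_mul, ← sub_mul, mul_comm (f x - z x) x]
      exact Ideal.mul_mem_mul hxI (hzI x)
  obtain ⟨z₁, hz₁, hw₁⟩ := hs₁ c
  obtain ⟨z₂, hz₂, hw₂⟩ := key (c - z₁) hw₁
  refine ⟨z₁ + z₂, ?_, ?_⟩
  · rw [Finset.coe_union, Submodule.span_union]
    exact Submodule.add_mem _ (Submodule.mem_sup_left hz₁) (Submodule.mem_sup_right hz₂)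
  · have : c - (z₁ + z₂) = c - z₁ - z₂ := by ring
    rw [this]; exact hw₂

theorem finQ_pow [IsNoetherianRing C] {I : Ideal C} (h : FinQ B I) (k : ℕ) : FinQ B (I ^ k) := by
  induction k with
  | zero => rw [pow_zero, Ideal.one_eq_top]; exact finQ_top
  | succ k ih =>
    rw [pow_succ]
    exact finQ_mul ih h (IsNoetherian.noetherian _)

/-- **Complete Nakayama.** -/
theorem finite_of_finQ_map (J : Ideal B) [IsPrecomplete J B] [IsHausdorff J C]
    (h : FinQ B (J.map (algebraMap B C))) : Module.Finite B C := by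
  classical
  obtain ⟨s, hs⟩ := h
  rw [← Ideal.smul_top_eq_map] at hs
  let b : Fin s.card → C := fun i => (s.equivFin.symm i : C)
  have hb : Set.range b = (s : Set C) := by
    ext x
    constructor
    · rintro ⟨i, rfl⟩; exact (s.equivFin.symm i).2
    · intro hx; exact ⟨s.equivFin ⟨x, hx⟩, by simp [b]⟩
  haveI : IsPrecomplete J (Fin s.card → B) := H18CN.isPrecomplete_pi J s.card
  let f : (Fin s.card → B) →ₗ[B] C := Fintype.linearCombination B b
  have hsurj : Function.Surjective ((Submodule.mkQ (J • ⊤ : Submodule B C)).comp f) := by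
    intro y
    obtain ⟨x, rfl⟩ := Submodule.mkQ_surjective _ y
    have hx : x ∈ Submodule.span B (s : Set C) ⊔ (J • ⊤ : Submodule B C) := by rw [hs]; trivial
    obtain ⟨u, hu, v, hv, rfl⟩ := Submodule.mem_sup.mp hx
    rw [← hb, ← Fintype.range_linearCombination] at hu
    obtain ⟨c, rfl⟩ := hu
    refine ⟨c, ?_⟩
    rw [LinearMap.comp_apply, Submodule.mkQ_apply, Submodule.mkQ_apply, Submodule.Quotient.eq]
    simpa [f] using Submodule.neg_mem _ hv
  exact Module.Finite.of_surjective f (surjective_of_mkQ_comp_surjective (I := J) hsurj)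

open IsLocalRing in
/-- A Noetherian local `B`-algebra `C` with `J C` primary to the maximal ideal and residue field finite over
`B` is finite over `B`, if `B` is `J`-adically complete. -/
theorem finite_of_local [IsNoetherianRing C] [IsLocalRing C] (J : Ideal B) [IsPrecomplete J B]
    (hJ : J.map (algebraMap B C) ≤ maximalIdeal C)
    (hrad : maximalIdeal C ≤ (J.map (algebraMap B C)).radical)
    (hres : FinQ B (maximalIdeal C)) : Module.Finite B C := by
  haveI : IsHausdorff J C := by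
    rw [← IsHausdorff.map_algebraMap_iff (S := C)]
    refine IsHausdorff.of_isLocalRing _ _ (fun h => (maximalIdeal.isMaximal C).ne_top (top_le_iff.mp ?_))
    rw [← h]
    exact hJ
  obtain ⟨k, hk⟩ := Ideal.exists_pow_le_of_le_radical_of_fg hrad (IsNoetherian.noetherian _)
  exact finite_of_finQ_map J ((finQ_pow hres k).mono hk)

/-- `FinQ` from a finite quotient. -/
theorem finQ_of_finite (I : Ideal C) [Module.Finite B (C ⧸ I)] : FinQ B I := by
  classical
  obtain ⟨t, ht⟩ := (Module.Finite.fg_top : (⊤ : Submodule B (C ⧸ I)).FG)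
  rw [finQ_iff]
  choose l hl using fun y : C ⧸ I => Ideal.Quotient.mk_surjective y
  refine ⟨t.image l, fun c => ?_⟩
  have hc : Ideal.Quotient.mk I c ∈ Submodule.span B (t : Set (C ⧸ I)) := by rw [ht]; trivial
  have himg : (t : Set (C ⧸ I)) = (Ideal.Quotient.mkₐ B I).toLinearMap '' ((t.image l : Finset C) : Set C) := by
    ext y
    simp only [Finset.coe_image, Set.mem_image, Finset.mem_coe, exists_exists_and_eq_and]
    constructor
    · intro hy; exact ⟨y, hy, hl y⟩
    · rintro ⟨y', hy', rfl⟩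
      have : (Ideal.Quotient.mkₐ B I).toLinearMap (l y') = y' := hl y'
      rw [this]; exact hy'
  rw [himg, ← Submodule.map_span] at hc
  obtain ⟨z, hz, hzc⟩ := hc
  refine ⟨z, hz, ?_⟩
  rw [← Ideal.Quotient.eq]
  exact hzc.symm

/-- transport of `FinQ` of a maximal ideal along a map which is surjective on residue fields. -/
theorem finQ_of_algHom {A : Type u} [CommRing A] [Algebra B A] (φ : A →ₐ[B] C) (I : Ideal C)
    (hφ : ∀ c : C, ∃ a : A, c - φ a ∈ I) (h : FinQ B (I.comap φ.toRingHom)) : FinQ B I := by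
  classical
  rw [finQ_iff] at h ⊢
  obtain ⟨s, hs⟩ := h
  refine ⟨s.image φ, fun c => ?_⟩
  obtain ⟨a, ha⟩ := hφ c
  obtain ⟨z, hz, hw⟩ := hs a
  refine ⟨φ z, ?_, ?_⟩
  · have : φ z ∈ (Submodule.span B (s : Set A)).map φ.toLinearMap := ⟨z, hz, rfl⟩
    rw [Submodule.map_span] at this
    simpa using this
  · have h1 : φ (a - z) ∈ I := hw
    have : c - φ z = (c - φ a) + φ (a - z) := by rw [map_sub]; ring
    rw [this]
    exact Ideal.add_mem _ ha h1

end Groth.Agent.Lib.Helper4.QSecFin
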