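import Mathlib
import Groth.Agent.Lib.Helper3.OpenAtFormula
import Groth.Agent.Lib.Helper3.OpenAtGenRing

/-!
# Quasi-sections, ring level, part 1: height lemmas (helper4)

`ht(N/I)` denotes `(N.map (Ideal.Quotient.mk I)).height`.

* `mem_minimalPrimes_iff_height_map_eq_zero`;
* `height_map_le_succ`: `ht(N/Q) ≤ ht(N/(Q + t)) + 1`;
* `height_map_succ_le`: if `t ∈ K` lies in no minimal prime of `J ≤ K` then `ht(N/K) + 1 ≤ ht(N/J)`;
* `height_map_le_add`: `ht(N/Q) ≤ ht(M/p) + ht(N/(Q + M T))` for `Q` over `p`, `N` over `M`.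
-/

set_option autoImplicit false
universe u

namespace Groth.Agent.Lib.Helper4.QSecRing

open Groth.Agent.Lib.helper3

variable {T : Type u} [CommRing T]

theorem mem_minimalPrimes_of_height_map_eq_zero (I N : Ideal T) [N.IsPrime] (h : I ≤ N)
    (h0 : (N.map (Ideal.Quotient.mk I)).height = 0) : N ∈ I.minimalPrimes := by
  haveI := FTField.map_mk_isPrime I N h
  rw [Ideal.minimalPrimes_eq_comap]
  exact ⟨_, Ideal.height_eq_zero_iff.mp h0, FTField.comap_map_mk I N h⟩

theorem height_map_eq_zero_of_mem_minimalPrimes (I N : Ideal T) (hN : N ∈ I.minimalPrimes) :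
    (N.map (Ideal.Quotient.mk I)).height = 0 := by
  rw [Ideal.minimalPrimes_eq_comap] at hN
  obtain ⟨P, hP, rfl⟩ := hN
  haveI := hP.1.1
  rw [Ideal.map_comap_of_surjective _ Ideal.Quotient.mk_surjective]
  exact Ideal.height_eq_zero_iff.mpr hP

theorem height_map_le_succ [IsNoetherianRing T] (Q N : Ideal T) [N.IsPrime] (hQN : Q ≤ N) (t : T) (ht : t ∈ N) :
    (N.map (Ideal.Quotient.mk Q)).height ≤
      (N.map (Ideal.Quotient.mk (Q ⊔ Ideal.span {t}))).height + 1 := by
  haveI := FTField.map_mk_isPrime Q N hQN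
  have h1 := Ideal.height_le_height_add_one_of_mem (r := Ideal.Quotient.mk Q t)
    (p := N.map (Ideal.Quotient.mk Q)) (Ideal.mem_map_of_mem _ ht)
  have h2 : (Q ⊔ Ideal.span {t}).map (Ideal.Quotient.mk Q) = Ideal.span {Ideal.Quotient.mk Q t} := by
    rw [Ideal.map_sup, Ideal.map_quotient_self, bot_sup_eq, Ideal.map_span, Set.image_singleton]
  rw [← h2, DimIneq.height_map_map_mk Q (Q ⊔ Ideal.span {t}) N le_sup_left] at h1
  exact h1

theorem height_map_succ_le [IsNoetherianRing T] (J K N : Ideal T) [N.IsPrime] (hJK : J ≤ K) (hKN : K ≤ N)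
    (t : T) (htK : t ∈ K) (ht : ∀ P ∈ J.minimalPrimes, t ∉ P) :
    (N.map (Ideal.Quotient.mk K)).height + 1 ≤ (N.map (Ideal.Quotient.mk J)).height := by
  obtain ⟨P₁, hP₁min, hP₁N, hht⟩ := OpenAtDim.exists_minimalPrimes_height_map_eq_of_le K N hKN
  haveI : P₁.IsPrime := hP₁min.1.1
  have hKP₁ : K ≤ P₁ := hP₁min.1.2
  have hJP₁ : J ≤ P₁ := hJK.trans hKP₁
  have hJN : J ≤ N := hJK.trans hKN
  haveI := FTField.map_mk_isPrime J N hJN
  haveI := FTField.map_mk_isPrime J P₁ hJP₁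
  haveI := FTField.map_mk_isPrime P₁ N hP₁N
  have hle : P₁.map (Ideal.Quotient.mk J) ≤ N.map (Ideal.Quotient.mk J) := Ideal.map_mono hP₁N
  have h1 : ((N.map (Ideal.Quotient.mk J)).map (Ideal.Quotient.mk (P₁.map (Ideal.Quotient.mk J)))).height =
      (N.map (Ideal.Quotient.mk P₁)).height := DimIneq.height_map_map_mk J P₁ N hJP₁
  obtain ⟨k, hk⟩ : ∃ k : ℕ, (N.map (Ideal.Quotient.mk P₁)).height = k :=
    ⟨_, (ENat.coe_toNat Ideal.height_ne_top_of_isPrime).symm⟩
  have h2 := DimIneq.height_add_height_map_le (P₁.map (Ideal.Quotient.mk J)) (N.map (Ideal.Quotient.mk J)) hle k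
    (h1.trans hk)
  have h3 : 1 ≤ (P₁.map (Ideal.Quotient.mk J)).height := by
    rw [Order.one_le_iff_pos, pos_iff_ne_zero]
    intro h0
    have := mem_minimalPrimes_of_height_map_eq_zero J P₁ hJP₁ h0
    exact ht P₁ this (hKP₁ htK)
  rw [← hht, hk]
  calc (k : ℕ∞) + 1 = 1 + k := add_comm _ _
    _ ≤ (P₁.map (Ideal.Quotient.mk J)).height + k := by gcongr
    _ ≤ _ := h2

section liesOver

variable {R : Type u} [CommRing R] [IsNoetherianRing R] [Algebra R T]

theorem mk_mem_map_mk_iff (I N : Ideal T) (h : I ≤ N) (x : T) :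
    Ideal.Quotient.mk I x ∈ N.map (Ideal.Quotient.mk I) ↔ x ∈ N := by
  conv_rhs => rw [← FTField.comap_map_mk I N h]
  rfl

theorem height_map_le_add [IsNoetherianRing T] (M p : Ideal R) [M.IsPrime] [p.IsPrime] (hpM : p ≤ M)
    (N Q : Ideal T) [N.IsPrime] [Q.IsPrime] [N.LiesOver M] [Q.LiesOver p] (hQN : Q ≤ N) :
    (N.map (Ideal.Quotient.mk Q)).height ≤ (M.map (Ideal.Quotient.mk p)).height +
      (N.map (Ideal.Quotient.mk (Q ⊔ M.map (algebraMap R T)))).height := by
  haveI := FTField.map_mk_isPrime Q N hQN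
  haveI := FTField.map_mk_isPrime p M hpM
  haveI : (N.map (Ideal.Quotient.mk Q)).LiesOver (M.map (Ideal.Quotient.mk p)) := by
    constructor
    ext x
    obtain ⟨r, rfl⟩ := Ideal.Quotient.mk_surjective x
    rw [Ideal.under_def, Ideal.mem_comap, Ideal.Quotient.algebraMap_mk_of_liesOver,
      mk_mem_map_mk_iff p M hpM, mk_mem_map_mk_iff Q N hQN, Ideal.over_def N M, Ideal.under_def,
      Ideal.mem_comap]
  have h1 := Ideal.height_le_height_add_of_liesOver (M.map (Ideal.Quotient.mk p))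
    (N.map (Ideal.Quotient.mk Q))
  have e1 : (M.map (Ideal.Quotient.mk p)).map (algebraMap (R ⧸ p) (T ⧸ Q)) =
      (Q ⊔ M.map (algebraMap R T)).map (Ideal.Quotient.mk Q) := by
    rw [Ideal.map_sup, Ideal.map_quotient_self, bot_sup_eq, Ideal.map_map, Ideal.map_map]
    congr 1
  rw [e1, DimIneq.height_map_map_mk Q (Q ⊔ M.map (algebraMap R T)) N le_sup_left] at h1
  exact h1

end liesOver

end Groth.Agent.Lib.Helper4.QSecRing
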