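import Mathlib
import Groth.Agent.Lib.Helper4.QSecRing1

/-!
# Quasi-sections, ring level, part 2: cutting down the fibre dimension (helper4)

`R` a Noetherian local ring, `T` a Noetherian `R`-algebra with going down, `N` a prime of `T` over the
maximal ideal `𝔪`, `p` a prime of `R`.  Then there is a prime `Q ≤ N` of `T` over `p` such that `N` is
minimal over `Q + 𝔪 T` (`exists_prime_quasiFinite`): the closed subscheme `V(Q)` is quasi-finite over
`Spec R` at `N` and dominates `V(p)`.  (EGA IV 14.5.10 in the form needed for SGA 1 IX 4.9.)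
-/

set_option autoImplicit false
universe u

namespace Groth.Agent.Lib.Helper4.QSecRing

open Groth.Agent.Lib.helper3 IsLocalRing

variable {R T : Type u} [CommRing R] [IsNoetherianRing R] [IsLocalRing R] [CommRing T]
  [IsNoetherianRing T] [Algebra R T]

theorem map_maximalIdeal_le (N : Ideal T) [N.LiesOver (maximalIdeal R)] :
    (maximalIdeal R).map (algebraMap R T) ≤ N := by
  rw [Ideal.map_le_iff_le_comap]
  exact le_of_eq (Ideal.over_def N (maximalIdeal R))

theorem exists_nat_height_map (I N : Ideal T) [N.IsPrime] (h : I ≤ N) :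
    ∃ a : ℕ, (N.map (Ideal.Quotient.mk I)).height = a := by
  haveI := FTField.map_mk_isPrime I N h
  exact ⟨_, (ENat.coe_toNat Ideal.height_ne_top_of_isPrime).symm⟩

theorem exists_prime_aux (N : Ideal T) [N.IsPrime] [N.LiesOver (maximalIdeal R)] (p : Ideal R) [p.IsPrime]
    (e : ℕ) : ∀ (Q : Ideal T) [Q.IsPrime], Q ≤ N → Q.under R = p →
    (N.map (Ideal.Quotient.mk (Q ⊔ (maximalIdeal R).map (algebraMap R T)))).height = e →
    ((maximalIdeal R).map (Ideal.Quotient.mk p)).height + e ≤ (N.map (Ideal.Quotient.mk Q)).height →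
    ∃ Q' : Ideal T, Q'.IsPrime ∧ Q' ≤ N ∧ Q'.under R = p ∧
      N ∈ (Q' ⊔ (maximalIdeal R).map (algebraMap R T)).minimalPrimes := by
  have hmN := map_maximalIdeal_le (R := R) N
  induction e with
  | zero =>
    intro Q _ hQN hQp he _
    exact ⟨Q, inferInstance, hQN, hQp,
      mem_minimalPrimes_of_height_map_eq_zero _ N (sup_le hQN hmN) (by simpa using he)⟩
  | succ e ih =>
    intro Q _ hQN hQp he hd
    classical
    obtain ⟨J, hJ⟩ : ∃ J, J = Q ⊔ (maximalIdeal R).map (algebraMap R T) := ⟨_, rfl⟩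
    rw [← hJ] at he
    have hJN : J ≤ N := hJ ▸ sup_le hQN hmN
    have hfin : J.minimalPrimes.Finite := Ideal.finite_minimalPrimes_of_isNoetherianRing T J
    have hnot : ∀ P ∈ J.minimalPrimes, ¬ N ≤ P := by
      intro P hP hNP
      have hPN : P ≤ N := hP.2 ⟨inferInstance, hJN⟩ hNP
      have hNP' : N = P := le_antisymm hNP hPN
      have h0 := height_map_eq_zero_of_mem_minimalPrimes J N (hNP' ▸ hP)
      rw [he] at h0
      exact absurd h0 (by simp)
    obtain ⟨t, htN, ht⟩ : ∃ t ∈ N, ∀ P ∈ J.minimalPrimes, t ∉ P := by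
      by_contra hcon
      push Not at hcon
      have hsub : (N : Set T) ⊆ ⋃ P ∈ (hfin.toFinset : Set (Ideal T)), ((id P : Ideal T) : Set T) := by
        intro t ht
        obtain ⟨P, hP, htP⟩ := hcon t ht
        simp only [Set.mem_iUnion]
        exact ⟨P, by simpa using hP, htP⟩
      rw [Ideal.subset_union_prime (f := id) ⊥ ⊥ (fun P hP _ _ => by
        have : P ∈ J.minimalPrimes := by simpa using hP
        exact this.1.1)] at hsub
      obtain ⟨P, hP, hNP⟩ := hsub
      exact hnot P (by simpa using hP) hNP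
    obtain ⟨K, hK⟩ : ∃ K, K = Q ⊔ Ideal.span {t} := ⟨_, rfl⟩
    have hKN : K ≤ N := hK ▸ sup_le hQN ((Ideal.span_singleton_le_iff_mem _).mpr htN)
    obtain ⟨Q₁, hQ₁min, hQ₁N, hht⟩ := OpenAtDim.exists_minimalPrimes_height_map_eq_of_le K N hKN
    haveI : Q₁.IsPrime := hQ₁min.1.1
    have hKQ₁ : K ≤ Q₁ := hQ₁min.1.2
    have hQQ₁ : Q ≤ Q₁ := (hK ▸ le_sup_left : Q ≤ K).trans hKQ₁
    have htQ₁ : t ∈ Q₁ := hKQ₁ (hK ▸ Ideal.mem_sup_right (Ideal.mem_span_singleton_self t))
    have h1 : (N.map (Ideal.Quotient.mk Q)).height ≤ (N.map (Ideal.Quotient.mk Q₁)).height + 1 := by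
      rw [hht, hK]
      exact height_map_le_succ Q N hQN t htN
    have h2 : (N.map (Ideal.Quotient.mk (Q₁ ⊔ (maximalIdeal R).map (algebraMap R T)))).height + 1 ≤
        (N.map (Ideal.Quotient.mk J)).height :=
      height_map_succ_le J (Q₁ ⊔ (maximalIdeal R).map (algebraMap R T)) N
        (hJ ▸ sup_le_sup_right hQQ₁ _) (sup_le hQ₁N hmN) t (Ideal.mem_sup_left htQ₁) ht
    obtain ⟨p₁, hp₁⟩ : ∃ p₁, p₁ = Q₁.under R := ⟨_, rfl⟩
    haveI : p₁.IsPrime := hp₁ ▸ inferInstance
    haveI : Q₁.LiesOver p₁ := ⟨hp₁⟩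
    have hpp₁ : p ≤ p₁ := by
      rw [← hQp, hp₁]
      exact Ideal.comap_mono hQQ₁
    have hp₁m : p₁ ≤ maximalIdeal R := by
      rw [Ideal.over_def N (maximalIdeal R), hp₁]
      exact Ideal.comap_mono hQ₁N
    have hpm : p ≤ maximalIdeal R := hpp₁.trans hp₁m
    have h3 := height_map_le_add (maximalIdeal R) p₁ hp₁m N Q₁ hQ₁N
    haveI := FTField.map_mk_isPrime p (maximalIdeal R) hpm
    haveI := FTField.map_mk_isPrime p p₁ hpp₁
    obtain ⟨a, ha⟩ := exists_nat_height_map Q₁ N hQ₁N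
    obtain ⟨b, hb⟩ := exists_nat_height_map (Q₁ ⊔ (maximalIdeal R).map (algebraMap R T)) N
      (sup_le hQ₁N hmN)
    obtain ⟨c, hc⟩ := exists_nat_height_map p₁ (maximalIdeal R) hp₁m
    obtain ⟨d, hd'⟩ := exists_nat_height_map p (maximalIdeal R) hpm
    obtain ⟨f, hf⟩ : ∃ f : ℕ, (p₁.map (Ideal.Quotient.mk p)).height = f :=
      ⟨_, (ENat.coe_toNat Ideal.height_ne_top_of_isPrime).symm⟩
    obtain ⟨g, hg⟩ := exists_nat_height_map Q N hQN
    have h4 : (p₁.map (Ideal.Quotient.mk p)).height + c ≤ ((maximalIdeal R).map (Ideal.Quotient.mk p)).height :=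
      DimIneq.height_add_height_map_le (p₁.map (Ideal.Quotient.mk p)) ((maximalIdeal R).map (Ideal.Quotient.mk p))
        (Ideal.map_mono hp₁m) c (by rw [DimIneq.height_map_map_mk p p₁ (maximalIdeal R) hpp₁, hc])
    rw [ha, hb, hc] at h3
    rw [hb, he] at h2
    rw [hg, ha] at h1
    rw [hd', hg] at hd
    rw [hf, hd'] at h4
    have h1' : g ≤ a + 1 := by exact_mod_cast h1
    have h2' : b + 1 ≤ e + 1 := by exact_mod_cast h2
    have h3' : a ≤ c + b := by exact_mod_cast h3
    have h4' : f + c ≤ d := by exact_mod_cast h4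
    have hd'' : d + (e + 1) ≤ g := by exact_mod_cast hd
    have hf0 : f = 0 := by omega
    have hbe : b = e := by omega
    have hda : d + e ≤ a := by omega
    have hp₁p : p₁ = p := by
      refine le_antisymm ?_ hpp₁
      haveI : IsDomain (R ⧸ p) := Ideal.Quotient.isDomain p
      rw [hf0, Nat.cast_zero, Ideal.height_eq_zero_iff_eq_bot, Ideal.map_eq_bot_iff_le_ker, Ideal.mk_ker] at hf
      exact hf
    exact ih Q₁ hQ₁N (hp₁.symm.trans hp₁p) (by rw [hb, hbe]) (by rw [hd', ha]; exact_mod_cast hda)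

end Groth.Agent.Lib.Helper4.QSecRing
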