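import Mathlib
import Groth.Agent.Lib.Helper4.QSecRing2

/-!
# Quasi-sections, ring level, part 3: the start of the induction via going down (helper4)

* `exists_start`: with going down, some prime `Q₀ ≤ N` over `p` has `ht(𝔪/p) + ht(N/𝔪T) ≤ ht(N/Q₀)`.
* `exists_prime_quasiFinite`: the main ring-level statement.
-/

set_option autoImplicit false
universe u

namespace Groth.Agent.Lib.Helper4.QSecRing

open Groth.Agent.Lib.helper3 IsLocalRing

section mono

variable {T : Type u} [CommRing T] [IsNoetherianRing T]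

theorem height_map_le_of_le_prime (J K N : Ideal T) [K.IsPrime] [N.IsPrime] (hJK : J ≤ K) (hKN : K ≤ N) :
    (N.map (Ideal.Quotient.mk K)).height ≤ (N.map (Ideal.Quotient.mk J)).height := by
  haveI := FTField.map_mk_isPrime J K hJK
  haveI := FTField.map_mk_isPrime J N (hJK.trans hKN)
  have h := FTField.height_map_le (K.map (Ideal.Quotient.mk J)) (N.map (Ideal.Quotient.mk J))
    (Ideal.map_mono hKN)
  rwa [DimIneq.height_map_map_mk J K N hJK] at h

theorem height_map_le_of_le (J K N : Ideal T) [N.IsPrime] (hJK : J ≤ K) (hKN : K ≤ N) :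
    (N.map (Ideal.Quotient.mk K)).height ≤ (N.map (Ideal.Quotient.mk J)).height := by
  obtain ⟨P₁, hP₁min, hP₁N, hht⟩ := OpenAtDim.exists_minimalPrimes_height_map_eq_of_le K N hKN
  haveI : P₁.IsPrime := hP₁min.1.1
  rw [← hht]
  exact height_map_le_of_le_prime J P₁ N (hJK.trans hP₁min.1.2) hP₁N

end mono

variable {R T : Type u} [CommRing R] [IsNoetherianRing R] [IsLocalRing R] [CommRing T]
  [IsNoetherianRing T] [Algebra R T]

theorem exists_start [Algebra.HasGoingDown R T] (N : Ideal T) [N.IsPrime] [N.LiesOver (maximalIdeal R)]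
    (p : Ideal R) [p.IsPrime] :
    ∃ Q₀ : Ideal T, Q₀.IsPrime ∧ Q₀ ≤ N ∧ Q₀.under R = p ∧
      ((maximalIdeal R).map (Ideal.Quotient.mk p)).height +
        (N.map (Ideal.Quotient.mk ((maximalIdeal R).map (algebraMap R T)))).height ≤
        (N.map (Ideal.Quotient.mk Q₀)).height := by
  have hpm : p ≤ maximalIdeal R := IsLocalRing.le_maximalIdeal (Ideal.IsPrime.ne_top inferInstance)
  have hmN := map_maximalIdeal_le (R := R) N
  haveI := FTField.map_mk_isPrime p (maximalIdeal R) hpm
  haveI := FTField.map_mk_isPrime _ N hmN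
  obtain ⟨lp, hlp, hlenp⟩ := ((maximalIdeal R).map (Ideal.Quotient.mk p)).exists_ltSeries_length_eq_height
  obtain ⟨lq, hlq, hlenq⟩ :=
    (N.map (Ideal.Quotient.mk ((maximalIdeal R).map (algebraMap R T)))).exists_ltSeries_length_eq_height
  let lR : LTSeries (PrimeSpectrum R) := lp.map (PrimeSpectrum.comap (Ideal.Quotient.mk p))
    (RingHom.strictMono_comap_of_surjective Ideal.Quotient.mk_surjective)
  let l' : LTSeries (PrimeSpectrum T) :=
    lq.map (PrimeSpectrum.comap (Ideal.Quotient.mk ((maximalIdeal R).map (algebraMap R T))))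
      (RingHom.strictMono_comap_of_surjective Ideal.Quotient.mk_surjective)
  have hlRlast : lR.last.asIdeal = maximalIdeal R := by
    simp only [lR, LTSeries.last_map, hlp, PrimeSpectrum.comap_asIdeal]
    exact FTField.comap_map_mk p (maximalIdeal R) hpm
  have hl'last : l'.last.asIdeal = N := by
    simp only [l', LTSeries.last_map, hlq, PrimeSpectrum.comap_asIdeal]
    exact FTField.comap_map_mk _ N hmN
  have hpR : p ≤ lR.head.asIdeal := by
    simp only [lR, LTSeries.head_map, PrimeSpectrum.comap_asIdeal]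
    intro x hx
    rw [Ideal.mem_comap, Ideal.Quotient.eq_zero_iff_mem.mpr hx]
    exact Ideal.zero_mem _
  have hmhead : (maximalIdeal R).map (algebraMap R T) ≤ l'.head.asIdeal := by
    simp only [l', LTSeries.head_map, PrimeSpectrum.comap_asIdeal]
    intro x hx
    rw [Ideal.mem_comap, Ideal.Quotient.eq_zero_iff_mem.mpr hx]
    exact Ideal.zero_mem _
  have hheadN : l'.head.asIdeal ≤ N := by
    rw [← hl'last]
    exact l'.head_le_last
  haveI : l'.head.asIdeal.LiesOver lR.last.asIdeal := by
    constructor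
    rw [hlRlast, Ideal.under_def]
    refine le_antisymm (Ideal.map_le_iff_le_comap.mp hmhead) ?_
    rw [Ideal.over_def N (maximalIdeal R), Ideal.under_def]
    exact Ideal.comap_mono hheadN
  obtain ⟨L, hLlen, hLlast, hLspec⟩ := Ideal.exists_ltSeries_of_hasGoingDown lR l'.head.asIdeal
  haveI : L.head.asIdeal.LiesOver lR.head.asIdeal := by
    constructor
    rw [← L.toList_getElem_zero_eq_head, ← lR.toList_getElem_zero_eq_head, Ideal.under_def]
    have : lR.toList[0] = (PrimeSpectrum.comap (algebraMap R T)) L.toList[0] := by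
      rw [List.getElem_map_rev (PrimeSpectrum.comap (algebraMap R T)),
        List.getElem_of_eq hLspec.symm _]
    rwa [PrimeSpectrum.ext_iff] at this
  obtain ⟨Q₀, hQ₀le, hQ₀prime, hQ₀over⟩ :=
    Ideal.exists_ideal_le_liesOver_of_le (p := p) (q := lR.head.asIdeal) L.head.asIdeal hpR
  have hconn : L.last = l'.head := hLlast
  let C := L.smash l' hconn
  have hClen : C.length = lp.length + lq.length := by
    simp [C, hLlen, lR, l']
  have hChead : C.head = L.head := RelSeries.head_smash hconn
  have hClast : C.last = l'.last := RelSeries.last_smash hconn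
  have hLheadN : L.head.asIdeal ≤ N := by
    rw [← hl'last, ← hClast, ← hChead]
    exact LTSeries.head_le_last C
  have h5 : (C.length : ℕ∞) ≤ (N.map (Ideal.Quotient.mk L.head.asIdeal)).height := by
    have := DimIneq.length_le_height_map (Ideal.Quotient.mk L.head.asIdeal) Ideal.Quotient.mk_surjective C
      (by rw [Ideal.mk_ker, hChead]) (by
        rw [hClast, hl'last]
        exact FTField.map_mk_isPrime _ N hLheadN)
    rwa [hClast, hl'last] at this
  have h6 := height_map_le_of_le_prime Q₀ L.head.asIdeal N hQ₀le hLheadN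
  refine ⟨Q₀, hQ₀prime, hQ₀le.trans hLheadN, (hQ₀over.over).symm, ?_⟩
  calc _ = ((lp.length + lq.length : ℕ) : ℕ∞) := by rw [Nat.cast_add, hlenp, hlenq]
    _ = (C.length : ℕ∞) := by rw [hClen]
    _ ≤ _ := h5.trans h6

/-- **Quasi-sections, ring level.** -/
theorem exists_prime_quasiFinite [Algebra.HasGoingDown R T] (N : Ideal T) [N.IsPrime]
    [N.LiesOver (maximalIdeal R)] (p : Ideal R) [p.IsPrime] :
    ∃ Q : Ideal T, Q.IsPrime ∧ Q ≤ N ∧ Q.under R = p ∧
      N ∈ (Q ⊔ (maximalIdeal R).map (algebraMap R T)).minimalPrimes := by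
  have hmN := map_maximalIdeal_le (R := R) N
  obtain ⟨Q₀, hQ₀prime, hQ₀N, hQ₀p, hstart⟩ := exists_start N p
  haveI := hQ₀prime
  obtain ⟨e₀, he₀⟩ := exists_nat_height_map (Q₀ ⊔ (maximalIdeal R).map (algebraMap R T)) N (sup_le hQ₀N hmN)
  have hle := height_map_le_of_le ((maximalIdeal R).map (algebraMap R T))
    (Q₀ ⊔ (maximalIdeal R).map (algebraMap R T)) N le_sup_right (sup_le hQ₀N hmN)
  refine exists_prime_aux N p e₀ Q₀ hQ₀N hQ₀p he₀ (le_trans ?_ hstart)
  rw [← he₀]
  gcongr

end Groth.Agent.Lib.Helper4.QSecRing
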