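import Mathlib
import Groth.Agent.Lib.Helper4.QSecRing3
import Groth.Agent.Lib.Helper4.QSecFin

/-!
# Quasi-sections, ring level, part 5: finite quasi-sections over a complete local ring (helper4)

`exists_finite_quasiSection`: `B` a complete Noetherian local ring, `A` a `B`-algebra of finite type with
going down and nonempty closed fibre.  Then there is a finite `B`-algebra `C` with a `B`-algebra map
`A → C` such that `Spec C → Spec B` is surjective.
-/

set_option autoImplicit false
universe u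

namespace Groth.Agent.Lib.Helper4.QSecAlg

open IsLocalRing Groth.Agent.Lib.Helper4.QSecRing Groth.Agent.Lib.Helper4.QSecFin Groth.Agent.Lib.helper3

theorem finite_quotient_maximal (B A : Type u) [CommRing B] [IsLocalRing B] [CommRing A] [Algebra B A]
    [Algebra.FiniteType B A] (n : Ideal A) [n.IsMaximal] [n.LiesOver (maximalIdeal B)] :
    Module.Finite B (A ⧸ n) := by
  letI : Field (B ⧸ maximalIdeal B) := Ideal.Quotient.field (maximalIdeal B)
  letI : Field (A ⧸ n) := Ideal.Quotient.field n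
  haveI : Algebra.FiniteType B (A ⧸ n) := inferInstance
  haveI : Algebra.FiniteType (B ⧸ maximalIdeal B) (A ⧸ n) :=
    Algebra.FiniteType.of_restrictScalars_finiteType B (B ⧸ maximalIdeal B) (A ⧸ n)
  haveI : Module.Finite (B ⧸ maximalIdeal B) (A ⧸ n) :=
    finite_of_finite_type_of_isJacobsonRing (B ⧸ maximalIdeal B) (A ⧸ n)
  exact Module.Finite.trans (B ⧸ maximalIdeal B) (A ⧸ n)

/-- **Finite quasi-sections over a complete local ring.** -/
theorem exists_finite_quasiSection (B : Type u) [CommRing B] [IsNoetherianRing B] [IsLocalRing B]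
    [IsPrecomplete (maximalIdeal B) B] (A : Type u) [CommRing A] [Algebra B A] [Algebra.FiniteType B A]
    [Algebra.HasGoingDown B A] (hne : (maximalIdeal B).map (algebraMap B A) ≠ ⊤) :
    ∃ (C : Type u) (_ : CommRing C) (_ : Algebra B C) (_ : A →ₐ[B] C), Module.Finite B C ∧
      ∀ P : Ideal B, P.IsPrime → ∃ Q : Ideal C, Q.IsPrime ∧ Q.comap (algebraMap B C) = P := by
  classical
  haveI : IsNoetherianRing A := Algebra.FiniteType.isNoetherianRing B A
  obtain ⟨n, hnmax, hmn⟩ := Ideal.exists_le_maximal _ hne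
  haveI := hnmax
  haveI : n.LiesOver (maximalIdeal B) := by
    constructor
    exact le_antisymm (Ideal.map_le_iff_le_comap.mp hmn)
      (IsLocalRing.le_maximalIdeal (Ideal.IsPrime.ne_top inferInstance))
  have hfin : (minimalPrimes B).Finite := Ideal.finite_minimalPrimes_of_isNoetherianRing B ⊥
  haveI : Fintype (minimalPrimes B) := hfin.fintype
  have hq : ∀ p : minimalPrimes B, ∃ Q : Ideal A, Q.IsPrime ∧ Q ≤ n ∧ Q.under B = p.1 ∧
      n ∈ (Q ⊔ (maximalIdeal B).map (algebraMap B A)).minimalPrimes := fun p => by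
    haveI : p.1.IsPrime := p.2.1.1
    exact exists_prime_quasiFinite n p.1
  choose q hq1 hq2 hq3 hq4 using hq
  obtain ⟨p₀⟩ : Nonempty (minimalPrimes B) :=
    Ideal.nonempty_minimalPrimes (I := (⊥ : Ideal B)) (bot_ne_top)
  obtain ⟨I, hI⟩ : ∃ I : Ideal A, I = ⨅ p, q p := ⟨_, rfl⟩
  have hIq : ∀ p, I ≤ q p := fun p => hI ▸ iInf_le _ p
  have hIn : I ≤ n := (hIq p₀).trans (hq2 p₀)
  have hprime : ∀ P : Ideal A, P.IsPrime → I ≤ P → ∃ p, q p ≤ P := by
    intro P hP hIP
    rw [hI, ← Finset.inf_univ_eq_iInf] at hIP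
    obtain ⟨p, -, hp⟩ := (Ideal.IsPrime.inf_le' hP).mp hIP
    exact ⟨p, hp⟩
  -- the local ring
  obtain ⟨n', hn'⟩ : ∃ n' : Ideal (A ⧸ I), n' = n.map (Ideal.Quotient.mk I) := ⟨_, rfl⟩
  haveI hn'max : n'.IsMaximal := by
    rw [hn']
    exact Ideal.IsMaximal.map_of_surjective_of_ker_le Ideal.Quotient.mk_surjective
      (by rw [Ideal.mk_ker]; exact hIn)
  have hn'comap : n'.comap (Ideal.Quotient.mk I) = n := by
    rw [hn']; exact FTField.comap_map_mk I n hIn
  let C := Localization.AtPrime n'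
  let φ : A →ₐ[B] C := (IsScalarTower.toAlgHom B (A ⧸ I) C).comp (Ideal.Quotient.mkₐ B I)
  have hφ : ∀ a, φ a = algebraMap (A ⧸ I) C (Ideal.Quotient.mk I a) := fun a => rfl
  have hcomap : (maximalIdeal C).comap φ.toRingHom = n := by
    ext a
    rw [Ideal.mem_comap]
    show φ a ∈ maximalIdeal C ↔ a ∈ n
    rw [hφ, IsLocalization.AtPrime.to_map_mem_maximal_iff C n', ← hn'comap, Ideal.mem_comap]
  -- residue field
  haveI : Module.Finite B (A ⧸ n) := finite_quotient_maximal B A n
  have hres : FinQ B (maximalIdeal C) := by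
    refine finQ_of_algHom φ (maximalIdeal C) (fun c => ?_) (hcomap ▸ finQ_of_finite n)
    obtain ⟨y, hy⟩ := (IsLocalization.AtPrime.equivQuotMaximalIdeal n' C).surjective
      (Ideal.Quotient.mk _ c)
    obtain ⟨a', rfl⟩ := Ideal.Quotient.mk_surjective y
    obtain ⟨a, rfl⟩ := Ideal.Quotient.mk_surjective a'
    refine ⟨a, ?_⟩
    rw [IsLocalization.AtPrime.equivQuotMaximalIdeal_apply_mk, Ideal.Quotient.eq] at hy
    rw [hφ]
    have := Ideal.neg_mem_iff (maximalIdeal C) |>.mpr hy
    simpa using this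
  -- the closed fibre
  have hJ : (maximalIdeal B).map (algebraMap B C) ≤ maximalIdeal C := by
    rw [Ideal.map_le_iff_le_comap]
    intro b hb
    rw [Ideal.mem_comap]
    have h1 : algebraMap B C b = φ (algebraMap B A b) := (φ.commutes b).symm
    rw [h1]
    have h2 : algebraMap B A b ∈ (maximalIdeal C).comap φ.toRingHom := by
      rw [hcomap]
      exact hmn (Ideal.mem_map_of_mem _ hb)
    exact h2
  have hrad : maximalIdeal C ≤ ((maximalIdeal B).map (algebraMap B C)).radical := by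
    rw [Ideal.radical_eq_sInf]
    refine le_sInf ?_
    rintro P' ⟨hJP', hP'⟩
    haveI := hP'
    -- the prime of `A` below `P'`
    have hP : (P'.comap φ.toRingHom).IsPrime := Ideal.IsPrime.comap _
    have hIP : I ≤ P'.comap φ.toRingHom := by
      intro a ha
      rw [Ideal.mem_comap]
      show φ a ∈ P'
      rw [hφ, Ideal.Quotient.eq_zero_iff_mem.mpr ha, map_zero]
      exact Ideal.zero_mem _
    have hmP : (maximalIdeal B).map (algebraMap B A) ≤ P'.comap φ.toRingHom := by
      rw [Ideal.map_le_iff_le_comap]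
      intro b hb
      rw [Ideal.mem_comap, Ideal.mem_comap]
      show φ (algebraMap B A b) ∈ P'
      rw [φ.commutes]
      exact hJP' (Ideal.mem_map_of_mem _ hb)
    have hPn : P'.comap φ.toRingHom ≤ n := by
      rw [← hcomap]
      exact Ideal.comap_mono (IsLocalRing.le_maximalIdeal hP'.ne_top)
    obtain ⟨p, hp⟩ := hprime _ hP hIP
    have hnP : n ≤ P'.comap φ.toRingHom := (hq4 p).2 ⟨hP, sup_le hp hmP⟩ hPn
    -- hence `P'` contains the maximal ideal
    intro x hx
    obtain ⟨a', s, rfl⟩ := IsLocalization.exists_mk'_eq n'.primeCompl x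
    rw [IsLocalization.AtPrime.mk'_mem_maximal_iff C n'] at hx
    obtain ⟨a, rfl⟩ := Ideal.Quotient.mk_surjective a'
    have han : a ∈ n := by rw [← hn'comap]; exact hx
    have h3 : φ a ∈ P' := hnP han
    rw [hφ] at h3
    rw [← IsLocalization.mk'_spec' C (Ideal.Quotient.mk I a) s] at h3
    exact (hP'.mem_or_mem h3).resolve_left (fun hs => by
      have hunit : IsUnit (algebraMap (A ⧸ I) C s) := IsLocalization.map_units C s
      exact hP'.ne_top (Ideal.eq_top_of_isUnit_mem _ hs hunit))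
  haveI : Module.Finite B C := finite_of_local (maximalIdeal B) hJ hrad hres
  refine ⟨C, inferInstance, inferInstance, φ, inferInstance, fun P hP => ?_⟩
  haveI := hP
  obtain ⟨p, hpmin, hpP⟩ := Ideal.exists_minimalPrimes_le (I := (⊥ : Ideal B)) (J := P) bot_le
  -- a prime of `C` over `p`
  haveI := hq1 ⟨p, hpmin⟩
  have hqI : I ≤ q ⟨p, hpmin⟩ := hIq _
  have hdisj : Disjoint (n'.primeCompl : Set (A ⧸ I)) ((q ⟨p, hpmin⟩).map (Ideal.Quotient.mk I) : Set (A ⧸ I)) := by
    rw [Set.disjoint_left]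
    intro x hx hx'
    apply hx
    rw [hn']
    exact Ideal.map_mono (hq2 ⟨p, hpmin⟩) hx'
  haveI hqp' : ((q ⟨p, hpmin⟩).map (Ideal.Quotient.mk I)).IsPrime := FTField.map_mk_isPrime I _ hqI
  have hQprime : (((q ⟨p, hpmin⟩).map (Ideal.Quotient.mk I)).map (algebraMap (A ⧸ I) C)).IsPrime :=
    IsLocalization.isPrime_of_isPrime_disjoint n'.primeCompl C _ hqp' hdisj
  have hQcomap : (((q ⟨p, hpmin⟩).map (Ideal.Quotient.mk I)).map (algebraMap (A ⧸ I) C)).comap
      (algebraMap (A ⧸ I) C) = (q ⟨p, hpmin⟩).map (Ideal.Quotient.mk I) :=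
    IsLocalization.comap_map_of_isPrime_disjoint n'.primeCompl C hqp' hdisj
  haveI := hQprime
  haveI : Algebra.IsIntegral B C := Algebra.IsIntegral.of_finite B C
  obtain ⟨Q, -, hQ, hQP⟩ := Ideal.exists_ideal_over_prime_of_isIntegral_of_isPrime P
    (((q ⟨p, hpmin⟩).map (Ideal.Quotient.mk I)).map (algebraMap (A ⧸ I) C)) (by
      rw [IsScalarTower.algebraMap_eq B (A ⧸ I) C, ← Ideal.comap_comap, hQcomap,
        IsScalarTower.algebraMap_eq B A (A ⧸ I), ← Ideal.comap_comap]
      have : ((q ⟨p, hpmin⟩).map (Ideal.Quotient.mk I)).comap (algebraMap A (A ⧸ I)) = q ⟨p, hpmin⟩ :=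
        FTField.comap_map_mk I _ hqI
      rw [this]
      have h4 := hq3 ⟨p, hpmin⟩
      rw [Ideal.under_def] at h4
      rw [h4]
      exact hpP)
  exact ⟨Q, hQ, hQP⟩

end Groth.Agent.Lib.Helper4.QSecAlg
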