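import Mathlib
import Groth.Agent.Lib.Helper4.QSecAlg

/-!
# Finite quasi-sections of open morphisms over a complete local base (helper4)

`exists_finite_quasiSection`: `B` a complete Noetherian local ring, `g : X ⟶ Spec B` locally of finite
type, surjective and open.  Then there are `V` and `f₀ : V ⟶ X` with `f₀ ≫ g` finite and surjective.
(EGA IV 14.5.10 over a complete local base.)
-/

set_option autoImplicit false
universe u

namespace Groth.Agent.Lib.Helper4.QSecSch

open AlgebraicGeometry CategoryTheory IsLocalRing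

/-- (copied from helper3 `UOImageDim2`, to avoid its import closure) an open map of prime spectra is
generalizing. -/
theorem generalizingMap_of_isOpenMap_comap {A B : Type*} [CommRing A] [CommRing B] (φ : A →+* B)
    (h : IsOpenMap (PrimeSpectrum.comap φ)) : GeneralizingMap (PrimeSpectrum.comap φ) := by
  intro q p' hp'
  set I : Ideal B := p'.asIdeal.map φ with hI
  set M : Submonoid B := q.asIdeal.primeCompl ⊔ Submonoid.map φ p'.asIdeal.primeCompl with hM
  have hdisj : Disjoint (I : Set B) M := by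
    rw [Set.disjoint_left]
    intro b hbI hbM
    obtain ⟨g, hg, z, hz, rfl⟩ := Submonoid.mem_sup.mp hbM
    obtain ⟨s, hs, rfl⟩ := hz
    have ho : IsOpen (PrimeSpectrum.comap φ '' (PrimeSpectrum.basicOpen g : Set (PrimeSpectrum B))) :=
      h _ (PrimeSpectrum.basicOpen g).2
    have hq : PrimeSpectrum.comap φ q ∈ PrimeSpectrum.comap φ '' (PrimeSpectrum.basicOpen g : Set (PrimeSpectrum B)) :=
      ⟨q, hg, rfl⟩
    obtain ⟨q'', hgq'', hq''⟩ := hp'.mem_open ho hq
    have hIq'' : I ≤ q''.asIdeal := by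
      rw [hI, Ideal.map_le_iff_le_comap]
      rw [← hq'']
      exact le_rfl
    have h1 := hIq'' hbI
    rcases q''.isPrime.mem_or_mem h1 with h2 | h2
    · exact hgq'' h2
    · apply hs
      rw [← hq'']
      exact h2
  obtain ⟨Q, hQ, hIQ, hQM⟩ := Ideal.exists_le_prime_disjoint I M hdisj
  refine ⟨⟨Q, hQ⟩, ?_, ?_⟩
  · change (⟨Q, hQ⟩ : PrimeSpectrum B) ⤳ q
    rw [← PrimeSpectrum.le_iff_specializes]
    intro b hb
    by_contra hbq
    exact Set.disjoint_left.mp hQM hb (Submonoid.mem_sup_left (S := q.asIdeal.primeCompl) hbq)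
  · apply PrimeSpectrum.ext
    apply le_antisymm
    · intro a ha
      by_contra hap
      exact Set.disjoint_left.mp hQM ha
        (Submonoid.mem_sup_right (Submonoid.mem_map_of_mem φ hap))
    · intro a ha
      exact hIQ (Ideal.mem_map_of_mem φ ha)

/-- the affine-chart case -/
theorem exists_finite_quasiSection_of_chart (B : Type u) [CommRing B] [IsNoetherianRing B] [IsLocalRing B]
    [IsPrecomplete (maximalIdeal B) B] {X : Scheme.{u}} (g : X ⟶ Spec (CommRingCat.of B))
    [LocallyOfFiniteType g] (hopen : IsOpenMap g.base) (R : CommRingCat.{u}) (ι : Spec R ⟶ X)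
    [IsOpenImmersion ι] (y : Spec R) (hy : g.base (ι.base y) = closedPoint B) :
    ∃ (V : Scheme.{u}) (f₀ : V ⟶ X), IsFinite (f₀ ≫ g) ∧ Surjective (f₀ ≫ g) := by
  obtain ⟨ψ, hψ⟩ := Spec.map_surjective (ι ≫ g)
  have hft : ψ.hom.FiniteType := by
    rw [← HasRingHomProperty.Spec_iff (P := @LocallyOfFiniteType), hψ]
    infer_instance
  have hopen' : IsOpenMap (PrimeSpectrum.comap ψ.hom) := by
    have h1 : IsOpenMap (ι ≫ g).base := by
      rw [Scheme.Hom.comp_base]
      exact hopen.comp ι.isOpenEmbedding.isOpenMap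
    rw [← hψ] at h1
    exact h1
  algebraize [ψ.hom]
  haveI : Algebra.HasGoingDown B R :=
    Algebra.HasGoingDown.iff_generalizingMap_primeSpectrumComap.mpr
      (generalizingMap_of_isOpenMap_comap _ hopen')
  have hne : (maximalIdeal B).map (algebraMap B R) ≠ ⊤ := by
    intro htop
    have h1 : (Spec.map ψ).base y = closedPoint B := by
      rw [hψ, Scheme.Hom.comp_base]
      exact hy
    have h2 : (maximalIdeal B).map (algebraMap B R) ≤ y.asIdeal := by
      rw [Ideal.map_le_iff_le_comap]
      have h3 : (closedPoint B).asIdeal = y.asIdeal.comap ψ.hom := by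
        rw [← h1]; rfl
      change maximalIdeal B ≤ Ideal.comap ψ.hom y.asIdeal
      rw [← h3]
      exact le_rfl
    exact y.isPrime.ne_top (top_le_iff.mp (htop ▸ h2))
  obtain ⟨C, _, _, φ, hfin, hsurj⟩ := Groth.Agent.Lib.Helper4.QSecAlg.exists_finite_quasiSection B R hne
  refine ⟨Spec (CommRingCat.of C), Spec.map (CommRingCat.ofHom φ.toRingHom) ≫ ι, ?_, ?_⟩
  all_goals
    have hcomp : (Spec.map (CommRingCat.ofHom φ.toRingHom) ≫ ι) ≫ g =
        Spec.map (CommRingCat.ofHom (algebraMap B C)) := by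
      rw [Category.assoc, ← hψ, ← Spec.map_comp]
      congr 1
      ext b
      exact φ.commutes b
    rw [hcomp]
  · rw [IsFinite.SpecMap_iff]
    exact RingHom.finite_algebraMap.mpr hfin
  · constructor
    intro P
    obtain ⟨Q, hQ, hQP⟩ := hsurj P.asIdeal P.isPrime
    exact ⟨⟨Q, hQ⟩, PrimeSpectrum.ext hQP⟩

/-- **Finite quasi-sections of open morphisms over a complete local base.** -/
theorem exists_finite_quasiSection (B : Type u) [CommRing B] [IsNoetherianRing B] [IsLocalRing B]
    [IsPrecomplete (maximalIdeal B) B] {X : Scheme.{u}} (g : X ⟶ Spec (CommRingCat.of B))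
    [LocallyOfFiniteType g] [Surjective g] (hopen : IsOpenMap g.base) :
    ∃ (V : Scheme.{u}) (f₀ : V ⟶ X), IsFinite (f₀ ≫ g) ∧ Surjective (f₀ ≫ g) := by
  obtain ⟨x, hx⟩ := g.surjective (closedPoint B)
  obtain ⟨i, y, hy⟩ := X.affineCover.exists_eq x
  refine exists_finite_quasiSection_of_chart B g hopen Γ(X.affineCover.X i, ⊤)
    ((X.affineCover.X i).isoSpec.inv ≫ X.affineCover.f i) ((X.affineCover.X i).isoSpec.hom.base y) ?_
  have h1 : ((X.affineCover.X i).isoSpec.inv ≫ X.affineCover.f i).base
      ((X.affineCover.X i).isoSpec.hom.base y) = x := by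
    rw [← Scheme.Hom.comp_apply, Iso.hom_inv_id_assoc]
    exact hy
  rw [h1, hx]

end Groth.Agent.Lib.Helper4.QSecSch
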