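import Mathlib
import Groth.Agent.Lib.Helper4.DescLqf
import Groth.Agent.Lib.Helper4.QSecSch

/-!
# Descent of étale schemes along universally open morphisms of finite type over a complete local base (helper4)

SGA 1 IX 4.9 over a complete Noetherian local ring with algebraically closed residue field: the morphism has a finite
surjective quasi-section (`QSecSch.exists_finite_quasiSection`), so `DescFinSurj.exists_iso_of_finite_surjective` and
the composite lemma `DescUS.exists_iso_of_comp` apply.
-/

set_option autoImplicit false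
set_option linter.style.haveILetI false
set_option backward.isDefEq.respectTransparency false
universe u
open CategoryTheory CategoryTheory.Limits AlgebraicGeometry

namespace Groth.Agent.Lib.Helper4.DescUnivOpen

open Desc Groth.Agent.Lib.Helper4.DescGamma Groth.Agent.Lib.Helper4.DescFinSurj

variable (B : Type u) [CommRing B] [IsNoetherianRing B] [IsLocalRing B]
  [IsAdicComplete (IsLocalRing.maximalIdeal B) B] [IsAlgClosed (IsLocalRing.ResidueField B)]
  {S' : Scheme.{u}} (g : S' ⟶ Spec (CommRingCat.of B))

/-- **SGA 1 IX 4.9 over a complete local base.** -/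
theorem exists_iso_of_univOpen [LocallyOfFiniteType g] [UniversallyOpen g] [Surjective g]
    (D : SchDDFam (fun _ : PUnit.{1} => g)) [Etale (D.obj PUnit.unit).hom]
    [QuasiCompact (D.obj PUnit.unit).hom] [IsSeparated (D.obj PUnit.unit).hom] :
    ∃ U : Over (Spec (CommRingCat.of B)), Etale U.hom ∧ Nonempty ((toDDFam (fun _ : PUnit.{1} => g)).obj U ≅ D) := by
  obtain ⟨V, f₀, hfinV, hsurjV⟩ := Groth.Agent.Lib.Helper4.QSecSch.exists_finite_quasiSection B g g.isOpenMap
  obtain ⟨hfin, hhfin⟩ : ∃ hfin : V ⟶ Spec (CommRingCat.of B), hfin = f₀ ≫ g := ⟨_, rfl⟩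
  haveI : IsFinite hfin := hhfin ▸ hfinV
  haveI : Surjective hfin := hhfin ▸ hsurjV
  have hh : SGA1.UnivSubmersive hfin := univSubmersive_of_finite_surjective hfin
  have hw : f₀ ≫ g = hfin ≫ 𝟙 _ := by
    rw [Category.comp_id, hhfin]
  let DW : SchDDFam (fun _ : PUnit.{1} => hfin) :=
    (pullDDFam (f := fun _ : PUnit.{1} => g) (f' := fun _ : PUnit.{1} => hfin) (α := fun _ => PUnit.unit)
      (p := 𝟙 _) (p' := fun _ => f₀) (fun _ => hw)).obj D
  haveI : Etale (DW.obj PUnit.unit).hom :=
    inferInstanceAs (Etale (pullback.snd (D.obj PUnit.unit).hom f₀))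
  haveI : QuasiCompact (DW.obj PUnit.unit).hom :=
    inferInstanceAs (QuasiCompact (pullback.snd (D.obj PUnit.unit).hom f₀))
  haveI : IsSeparated (DW.obj PUnit.unit).hom :=
    inferInstanceAs (IsSeparated (pullback.snd (D.obj PUnit.unit).hom f₀))
  obtain ⟨U, hU, ⟨θ⟩⟩ := exists_iso_of_finite_surjective B hfin DW
  haveI := hU
  exact ⟨U, hU, Groth.Agent.Lib.Helper4.DescUS.exists_iso_of_comp g f₀ hfin hw hh D U θ⟩

end Groth.Agent.Lib.Helper4.DescUnivOpen
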