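import Groth.Agent.Lib.Helper4.DiagBC
set_option autoImplicit false
set_option backward.isDefEq.respectTransparency false
set_option backward.isDefEq.respectTransparency.types false
open CategoryTheory CategoryTheory.Functor CategoryTheory.Limits
universe v₇ u₇ v₆ u₆ v₅ u₅ v₄ u₄ v₃ u₃ v₂ u₂ v u

/-! The functor `Ψ : 𝒳' ×_{𝒴'} 𝒳' ⟶ 𝒳 ×_𝒴 𝒳` of a base change `𝒳' = 𝒴' ×_𝒴 𝒳` is itself the base change of
`𝒴' ⟶ 𝒴` along `𝒳 ×_𝒴 𝒳 ⟶ 𝒴`. -/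

namespace Groth.Agent.Lib.helper4.DiagBC2
open Groth.Agent.FibEquiv Groth.Agent.Lib.helper4.FibPaste Groth.Agent.Lib.helper4.DiagBC FibCat

variable {C : Type u} [Category.{v} C]
  {𝒳 : BasedCategory.{v₂, u₂} C} {𝒴 : BasedCategory.{v₃, u₃} C} {𝒲 : BasedCategory.{v₄, u₄} C}
  (w : 𝒲 ⥤ᵇ 𝒴) (f : 𝒳 ⥤ᵇ 𝒴)

/-- `𝒳 ×_𝒴 𝒳 ⟶ 𝒴` -/
abbrev diagBase : fp f f ⥤ᵇ 𝒴 := BasedFunctor.comp (fpFst f f) f

/-- the 2-isomorphism of the square `(𝒳' ×_{𝒴'} 𝒳' ⟶ 𝒴', Ψ)` over `(w, 𝒳 ×_𝒴 𝒳 ⟶ 𝒴)` -/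
def bcIso : BasedFunctor.comp (BasedFunctor.comp (fpFst (fpFst w f) (fpFst w f)) (fpFst w f)) w ≅
    BasedFunctor.comp (Ψ w f) (diagBase f) :=
  BasedNatIso.mkNatIso
    (NatIso.ofComponents (fun t => t.obj.fst.obj.iso) (fun {t t'} m => m.hom.fst.hom.w))
    (fun t => t.obj.fst.property)

/-- the comparison functor `𝒳' ×_{𝒴'} 𝒳' ⟶ 𝒴' ×_𝒴 (𝒳 ×_𝒴 𝒳)` -/
def bcCmp : fp (fpFst w f) (fpFst w f) ⥤ᵇ fp w (diagBase f) :=
  fpLift (BasedFunctor.comp (fpFst (fpFst w f) (fpFst w f)) (fpFst w f)) (Ψ w f) (bcIso w f)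

theorem bcCmp_obj_iso_hom (t : (fp (fpFst w f) (fpFst w f)).obj) :
    ((bcCmp w f).toFunctor.obj t).obj.iso.hom = t.obj.fst.obj.iso.hom := rfl

instance bcCmp_faithful : (bcCmp w f).toFunctor.Faithful where
  map_injective {t t'} m m' h := by
    have h1 : m.hom.fst.hom.fst = m'.hom.fst.hom.fst := congrArg (fun k => k.hom.fst) h
    have h2 : m.hom.fst.hom.snd = m'.hom.fst.hom.snd := congrArg (fun k => k.hom.snd.hom.fst) h
    have h3 : m.hom.snd.hom.snd = m'.hom.snd.hom.snd := congrArg (fun k => k.hom.snd.hom.snd) h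
    have hw : m.hom.fst.hom.fst ≫ t'.obj.iso.hom = t.obj.iso.hom ≫ m.hom.snd.hom.fst := m.hom.w
    have hw' : m'.hom.fst.hom.fst ≫ t'.obj.iso.hom = t.obj.iso.hom ≫ m'.hom.snd.hom.fst := m'.hom.w
    have h4 : m.hom.snd.hom.fst = m'.hom.snd.hom.fst := by
      rw [← cancel_epi t.obj.iso.hom, ← hw, ← hw', h1]
    apply fp_hom_ext
    · exact fp_hom_ext w f h1 h2
    · exact fp_hom_ext w f h4 h3

instance bcCmp_full : (bcCmp w f).toFunctor.Full where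
  map_surjective {t t'} n := by
    let nw : t.obj.fst.obj.fst ⟶ t'.obj.fst.obj.fst := n.hom.fst
    let n₁ : t.obj.fst.obj.snd ⟶ t'.obj.fst.obj.snd := n.hom.snd.hom.fst
    let n₂ : t.obj.snd.obj.snd ⟶ t'.obj.snd.obj.snd := n.hom.snd.hom.snd
    have e1 : w.toFunctor.map nw ≫ t'.obj.fst.obj.iso.hom = t.obj.fst.obj.iso.hom ≫ f.toFunctor.map n₁ :=
      n.hom.w
    have e2 : f.toFunctor.map n₁ ≫ (t'.obj.fst.obj.iso.inv ≫ w.toFunctor.map t'.obj.iso.hom ≫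
        t'.obj.snd.obj.iso.hom) =
        (t.obj.fst.obj.iso.inv ≫ w.toFunctor.map t.obj.iso.hom ≫ t.obj.snd.obj.iso.hom) ≫
          f.toFunctor.map n₂ := n.hom.snd.hom.w
    let m₁ : t.obj.fst ⟶ t'.obj.fst := fpHomMk w f nw n₁ e1
    have e3 : w.toFunctor.map (t.obj.iso.inv ≫ nw ≫ t'.obj.iso.hom) ≫ t'.obj.snd.obj.iso.hom =
        t.obj.snd.obj.iso.hom ≫ f.toFunctor.map n₂ := by
      have e1' : f.toFunctor.map n₁ ≫ t'.obj.fst.obj.iso.inv =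
          t.obj.fst.obj.iso.inv ≫ w.toFunctor.map nw := by
        rw [Iso.comp_inv_eq, Category.assoc, e1, Iso.inv_hom_id_assoc]
      have e2' : t.obj.fst.obj.iso.inv ≫ w.toFunctor.map nw ≫ w.toFunctor.map t'.obj.iso.hom ≫
          t'.obj.snd.obj.iso.hom =
          t.obj.fst.obj.iso.inv ≫ w.toFunctor.map t.obj.iso.hom ≫ t.obj.snd.obj.iso.hom ≫
            f.toFunctor.map n₂ := by
        rw [← Category.assoc, ← e1', Category.assoc]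
        simpa only [Category.assoc] using e2
      have e2'' := (cancel_epi _).1 e2'
      rw [CategoryTheory.Functor.map_comp, CategoryTheory.Functor.map_comp, Category.assoc, Category.assoc,
        e2'', ← Category.assoc, ← CategoryTheory.Functor.map_comp, Iso.inv_hom_id,
        CategoryTheory.Functor.map_id, Category.id_comp]
    let m₂ : t.obj.snd ⟶ t'.obj.snd := fpHomMk w f (t.obj.iso.inv ≫ nw ≫ t'.obj.iso.hom) n₂ e3
    have e4 : (fpFst w f).toFunctor.map m₁ ≫ t'.obj.iso.hom =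
        t.obj.iso.hom ≫ (fpFst w f).toFunctor.map m₂ := by
      change nw ≫ t'.obj.iso.hom = t.obj.iso.hom ≫ (t.obj.iso.inv ≫ nw ≫ t'.obj.iso.hom)
      rw [Iso.hom_inv_id_assoc]
    refine ⟨fpHomMk (fpFst w f) (fpFst w f) m₁ m₂ e4, ?_⟩
    apply fp_hom_ext
    · rfl
    · apply fp_hom_ext
      · rfl
      · rfl

theorem bcCmp_isEquivOver : IsEquivOver (bcCmp w f) := by
  apply isEquivOver_of
  intro η
  let w' : 𝒲.obj := η.obj.fst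
  let x₁ : 𝒳.obj := η.obj.snd.obj.fst
  let x₂ : 𝒳.obj := η.obj.snd.obj.snd
  let φ : f.toFunctor.obj x₁ ≅ f.toFunctor.obj x₂ := η.obj.snd.obj.iso
  let θ : w.toFunctor.obj w' ≅ f.toFunctor.obj x₁ := η.obj.iso
  have hθ : 𝒴.p.IsHomLift (𝟙 (𝒲.p.obj w')) θ.hom := fp_iso_isHomLift _ _ η
  have hφ0 : 𝒴.p.IsHomLift (𝟙 (𝒳.p.obj x₁)) φ.hom := fp_iso_isHomLift _ _ η.obj.snd
  have hx₁ : 𝒳.p.obj x₁ = 𝒲.p.obj w' := fp_snd_obj w (diagBase f) η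
  have hφ : 𝒴.p.IsHomLift (𝟙 (𝒲.p.obj w')) φ.hom := by
    rw [← hx₁]; exact hφ0
  have hθφ : 𝒴.p.IsHomLift (𝟙 (𝒲.p.obj w')) (θ ≪≫ φ).hom := by
    change 𝒴.p.IsHomLift (𝟙 (𝒲.p.obj w')) (θ.hom ≫ φ.hom)
    infer_instance
  let a₁ : (fp w f).obj := ⟨⟨w', x₁, θ⟩, hθ⟩
  let a₂ : (fp w f).obj := ⟨⟨w', x₂, θ ≪≫ φ⟩, hθφ⟩
  let t : (fp (fpFst w f) (fpFst w f)).obj := ⟨⟨a₁, a₂, Iso.refl w'⟩, by
    change 𝒲.p.IsHomLift (𝟙 (𝒲.p.obj w')) (𝟙 w')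
    infer_instance⟩
  let ε : (Ψ w f).toFunctor.obj t ≅ η.obj.snd :=
    fpIsoMk f f (Iso.refl x₁) (Iso.refl x₂) (by
      change f.toFunctor.map (𝟙 x₁) ≫ φ.hom =
        (θ.inv ≫ w.toFunctor.map (𝟙 w') ≫ θ.hom ≫ φ.hom) ≫ f.toFunctor.map (𝟙 x₂)
      rw [CategoryTheory.Functor.map_id, CategoryTheory.Functor.map_id, CategoryTheory.Functor.map_id,
        Category.id_comp, Category.comp_id, Category.id_comp, Iso.inv_hom_id_assoc])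
  refine ⟨t, fpIsoMk w (diagBase f) (Iso.refl w') ε ?_, ?_⟩
  · change w.toFunctor.map (𝟙 w') ≫ θ.hom = θ.hom ≫ f.toFunctor.map (𝟙 x₁)
    rw [CategoryTheory.Functor.map_id, CategoryTheory.Functor.map_id, Category.id_comp, Category.comp_id]
  · apply Groth.Agent.FibFp.lift_to
    change 𝒲.p.IsHomLift (𝟙 (𝒲.p.obj w')) (𝟙 w')
    infer_instance

end Groth.Agent.Lib.helper4.DiagBC2
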