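import Groth.Agent.Lib.Helper4.DiagBC
import Groth.Agent.Lib.Helper4.FibSwap
set_option autoImplicit false
set_option backward.isDefEq.respectTransparency false
set_option backward.isDefEq.respectTransparency.types false
open CategoryTheory CategoryTheory.Functor CategoryTheory.Limits
universe v₈ u₈ v₇ u₇ v₆ u₆ v₅ u₅ v₄ u₄ v₃ u₃ v₂ u₂ v u

/-! Diagonals and equivalences: isomorphisms of functors into a 2-fibre product, the diagonal of an equivalent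
functor, and the lift of a point of `𝒳 ×_𝒴 𝒳` to the diagonal square of a base change. -/

namespace Groth.Agent.Lib.helper4.DiagEquiv
open Groth.Agent.FibEquiv Groth.Agent.Lib.helper4.FibPaste Groth.Agent.Lib.helper4.DiagBC FibCat

variable {C : Type u} [Category.{v} C]

section FunctorIso

variable {𝒲 : BasedCategory.{v₅, u₅} C} {𝒳 : BasedCategory.{v₂, u₂} C} {𝒴 : BasedCategory.{v₃, u₃} C}
  {𝒮 : BasedCategory.{v₄, u₄} C} (F : 𝒳 ⥤ᵇ 𝒮) (G : 𝒴 ⥤ᵇ 𝒮) (A B : 𝒲 ⥤ᵇ fp F G)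
  (α : BasedFunctor.comp A (fpFst F G) ≅ BasedFunctor.comp B (fpFst F G))
  (β : BasedFunctor.comp A (fpSnd F G) ≅ BasedFunctor.comp B (fpSnd F G))
  (h : ∀ w : 𝒲.obj, F.toFunctor.map (appIso α w).hom ≫ (B.toFunctor.obj w).obj.iso.hom =
      (A.toFunctor.obj w).obj.iso.hom ≫ G.toFunctor.map (appIso β w).hom)

/-- two functors into a 2-fibre product are isomorphic when their two components are, compatibly -/
def fpFunctorIso : A ≅ B :=
  BasedNatIso.mkNatIso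
    (NatIso.ofComponents (fun w => fpIsoMk F G (appIso α w) (appIso β w) (h w))
      (fun {w w'} m => by
        apply fp_hom_ext
        · exact appIso_naturality α m
        · exact appIso_naturality β m))
    (fun w => by
      apply Groth.Agent.FibFp.lift_to
      exact appIso_isHomLift α w)

end FunctorIso

theorem conj_id {D : Type*} [Category D] {X Y : D} (i : X ≅ Y) (u : Y ⟶ Y) (v : X ⟶ X) (w : Y ⟶ Y)
    (hu : u = 𝟙 Y) (hv : v = 𝟙 X) (hw : w = 𝟙 Y) : u ≫ 𝟙 Y = (i.inv ≫ v ≫ i.hom) ≫ w := by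
  subst hu hv hw
  simp

theorem lift_aux {D : Type*} [Category D] {X Y : D} (φ : X ⟶ Y) (u : X ⟶ X) (i : X ≅ X) (v : X ⟶ X)
    (w : Y ⟶ Y) (hu : u = 𝟙 X) (hi : i.hom = 𝟙 X) (hv : v = 𝟙 X) (hw : w = 𝟙 Y) :
    u ≫ φ = (i.inv ≫ v ≫ φ) ≫ w := by
  have hi' : i.inv = 𝟙 X := by rw [← cancel_epi i.hom, Iso.hom_inv_id, hi, Category.id_comp]
  subst hu hv hw
  rw [hi']
  simp

section DiagSq

variable {𝒳' : BasedCategory.{v₆, u₆} C} {𝒴' : BasedCategory.{v₇, u₇} C}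
  {𝒳 : BasedCategory.{v₂, u₂} C} {𝒴 : BasedCategory.{v₃, u₃} C}
  (f' : 𝒳' ⥤ᵇ 𝒴') (f : 𝒳 ⥤ᵇ 𝒴) (a : 𝒳' ⥤ᵇ 𝒳) (b : 𝒴' ⥤ᵇ 𝒴)
  (e : BasedFunctor.comp f' b ≅ BasedFunctor.comp a f)

/-- the functor `𝒳' ×_{𝒴'} 𝒳' ⟶ 𝒳 ×_𝒴 𝒳` of a 2-commutative square -/
def diagSqMap : fp f' f' ⥤ᵇ fp f f :=
  BasedFunctor.comp (fpMap f' (BasedFunctor.comp a f) f' f a b e e) (fpPrecomp a f f)

theorem diagSqMap_isEquivOver (ha : IsEquivOver a) (hb : IsEquivOver b) :
    IsEquivOver (diagSqMap f' f a b e) :=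
  isEquivOver_comp _ _ (fpMap_isEquivOver _ _ _ _ _ _ _ _ ha hb) (fpPrecomp_isEquivOver a f f ha)

theorem diagSqMap_obj_iso_hom (t : (fp f' f').obj) :
    ((diagSqMap f' f a b e).toFunctor.obj t).obj.iso.hom =
      (appIso e t.obj.fst).inv ≫ b.toFunctor.map t.obj.iso.hom ≫ (appIso e t.obj.snd).hom := rfl

/-- the square of diagonals 2-commutes -/
def diagSqIso : BasedFunctor.comp (FibCat.diag f') (diagSqMap f' f a b e) ≅
    BasedFunctor.comp a (FibCat.diag f) :=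
  BasedNatIso.mkNatIso
    (NatIso.ofComponents
      (fun x => fpIsoMk f f (Iso.refl (a.toFunctor.obj x)) (Iso.refl (a.toFunctor.obj x)) (by
        change f.toFunctor.map (𝟙 _) ≫ 𝟙 _ =
          ((appIso e x).inv ≫ b.toFunctor.map (𝟙 _) ≫ (appIso e x).hom) ≫ f.toFunctor.map (𝟙 _)
        exact conj_id (appIso e x) _ _ _ (CategoryTheory.Functor.map_id _ _)
          (CategoryTheory.Functor.map_id _ _) (CategoryTheory.Functor.map_id _ _)))
      (fun {x y} m => by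
        apply fp_hom_ext
        · change a.toFunctor.map m ≫ 𝟙 _ = 𝟙 _ ≫ a.toFunctor.map m
          simp
        · change a.toFunctor.map m ≫ 𝟙 _ = 𝟙 _ ≫ a.toFunctor.map m
          simp))
    (fun x => by
      apply Groth.Agent.FibFp.lift_to
      change 𝒳.p.IsHomLift (𝟙 (𝒳'.p.obj x)) (𝟙 (a.toFunctor.obj x))
      exact IsHomLift.id (a.w_obj x))

end DiagSq

section Lift

variable {𝒯 : BasedCategory.{v₅, u₅} C} {𝒳 : BasedCategory.{v₂, u₂} C} {𝒴 : BasedCategory.{v₃, u₃} C}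
  (f : 𝒳 ⥤ᵇ 𝒴) (t : 𝒯 ⥤ᵇ fp f f)

/-- the image in `𝒴` of a point of `𝒳 ×_𝒴 𝒳` -/
abbrev liftBase : 𝒯 ⥤ᵇ 𝒴 := BasedFunctor.comp (BasedFunctor.comp t (fpFst f f)) f

/-- first section of `𝒯 ×_𝒴 𝒳 ⟶ 𝒯` -/
def liftS₁ : 𝒯 ⥤ᵇ fp (liftBase f t) f :=
  fpLift (F := liftBase f t) (G := f) (BasedFunctor.id 𝒯) (BasedFunctor.comp t (fpFst f f)) (Iso.refl _)

/-- second section of `𝒯 ×_𝒴 𝒳 ⟶ 𝒯` -/
def liftS₂ : 𝒯 ⥤ᵇ fp (liftBase f t) f :=
  fpLift (F := liftBase f t) (G := f) (BasedFunctor.id 𝒯) (BasedFunctor.comp t (fpSnd f f))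
    (whiskerLeftIso t (fpIso f f))

theorem liftS₁_obj_iso_hom (w : 𝒯.obj) :
    ((liftS₁ f t).toFunctor.obj w).obj.iso.hom = 𝟙 _ := rfl

theorem liftS₂_obj_iso_hom (w : 𝒯.obj) :
    ((liftS₂ f t).toFunctor.obj w).obj.iso.hom = (t.toFunctor.obj w).obj.iso.hom := rfl

/-- the lift of `t` to the double fibre product -/
def liftσ : 𝒯 ⥤ᵇ fp (fpFst (liftBase f t) f) (fpFst (liftBase f t) f) :=
  fpLift (F := fpFst (liftBase f t) f) (G := fpFst (liftBase f t) f) (liftS₁ f t) (liftS₂ f t) (Iso.refl _)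

theorem liftσ_obj_iso_hom (w : 𝒯.obj) :
    ((liftσ f t).toFunctor.obj w).obj.iso.hom = 𝟙 _ := rfl

/-- `σ ⋙ Ψ ≅ t` -/
def liftIso : BasedFunctor.comp (liftσ f t) (Ψ (liftBase f t) f) ≅ t :=
  BasedNatIso.mkNatIso
    (NatIso.ofComponents
      (fun w => fpIsoMk f f (Iso.refl (t.toFunctor.obj w).obj.fst) (Iso.refl (t.toFunctor.obj w).obj.snd) (by
        change f.toFunctor.map (𝟙 _) ≫ (t.toFunctor.obj w).obj.iso.hom =
          (((liftS₁ f t).toFunctor.obj w).obj.iso.inv ≫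
            (liftBase f t).toFunctor.map ((liftσ f t).toFunctor.obj w).obj.iso.hom ≫
            ((liftS₂ f t).toFunctor.obj w).obj.iso.hom) ≫ f.toFunctor.map (𝟙 _)
        exact lift_aux _ _ _ _ _ (CategoryTheory.Functor.map_id _ _) rfl
          (CategoryTheory.Functor.map_id _ _) (CategoryTheory.Functor.map_id _ _)))
      (fun {w w'} m => by
        apply fp_hom_ext
        · change (t.toFunctor.map m).hom.fst ≫ 𝟙 _ = 𝟙 _ ≫ (t.toFunctor.map m).hom.fst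
          simp
        · change (t.toFunctor.map m).hom.snd ≫ 𝟙 _ = 𝟙 _ ≫ (t.toFunctor.map m).hom.snd
          simp))
    (fun w => by
      apply Groth.Agent.FibFp.lift_to
      change 𝒳.p.IsHomLift (𝟙 (𝒯.p.obj w)) (𝟙 (t.toFunctor.obj w).obj.fst)
      exact IsHomLift.id ((BasedFunctor.comp t (fpFst f f)).w_obj w))

end Lift

end Groth.Agent.Lib.helper4.DiagEquiv
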