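import Mathlib

/-!
# Quasi-compact opens of affine schemes with Noetherian local rings of dimension `≤ 1` are affine

Local statement: if `A_p` is Noetherian of dimension `≤ 1` and `I ≤ p` is a finitely generated
ideal, then near `p` the closed set `V(I)` is cut out by one element of `I`.
-/

set_option backward.isDefEq.respectTransparency false
set_option backward.isDefEq.respectTransparency.types false
set_option autoImplicit false
set_option linter.style.haveILetI false
universe u
open CategoryTheory CategoryTheory.Limits AlgebraicGeometry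

namespace Groth.Agent.Lib.helper4.DimOneAffine

/-- In a Noetherian local ring of dimension `≤ 1`, a proper ideal `J` has the same zero locus
as one of its elements. -/
theorem exists_mem_forall_prime {R : Type*} [CommRing R] [IsLocalRing R] [IsNoetherianRing R]
    (hdim : ringKrullDim R ≤ 1) (J : Ideal R) (hJ : J ≤ IsLocalRing.maximalIdeal R) :
    ∃ h ∈ J, ∀ q : Ideal R, q.IsPrime → h ∈ q → J ≤ q := by
  classical
  haveI : Ring.KrullDimLE 1 R := by rw [Ring.krullDimLE_iff]; exact hdim
  have hfin : (minimalPrimes R).Finite := minimalPrimes.finite_of_isNoetherianRing R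
  let P : Finset (Ideal R) := hfin.toFinset.filter (fun q => ¬ J ≤ q)
  have hPprime : ∀ q ∈ P, q.IsPrime := by
    intro q hq
    have : q ∈ minimalPrimes R := hfin.mem_toFinset.mp (Finset.mem_filter.mp hq).1
    exact this.1.1
  have hnot : ¬ ((J : Set R) ⊆ ⋃ q ∈ (↑P : Set (Ideal R)), (q : Set R)) := by
    intro hsub
    obtain ⟨q, hqP, hJq⟩ := (Ideal.subset_union_prime (s := P) (f := fun q => q) ⊥ ⊥
      (fun q hq _ _ => hPprime q hq)).mp hsub
    exact (Finset.mem_filter.mp hqP).2 hJq
  rw [Set.not_subset] at hnot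
  obtain ⟨h, hhJ, hh⟩ := hnot
  refine ⟨h, hhJ, ?_⟩
  intro q hq hhq
  rcases Ring.krullDimLE_one_iff.mp ‹_› q hq with hmin | hmax
  · by_contra hJq
    apply hh
    have hqP : q ∈ P := Finset.mem_filter.mpr ⟨hfin.mem_toFinset.mpr hmin, hJq⟩
    exact Set.mem_biUnion (show q ∈ (↑P : Set (Ideal R)) from hqP) hhq
  · rw [IsLocalRing.eq_maximalIdeal hmax]
    exact hJ

/-- Near a prime `p` with `A_p` Noetherian of dimension `≤ 1`, the zero locus of a finite set
contained in `p` is cut out by a single element of the ideal it spans. -/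
theorem exists_local_principal {A : Type*} [CommRing A] (s : Finset A) (p : Ideal A) [p.IsPrime]
    (hsp : (s : Set A) ⊆ p) (R : Type*) [CommRing R] [Algebra A R] [IsLocalization.AtPrime R p]
    [IsNoetherianRing R] (hdim : ringKrullDim R ≤ 1) :
    ∃ a ∈ Ideal.span (s : Set A), ∃ g : A, g ∉ p ∧
      ∀ q : Ideal A, q.IsPrime → g ∉ q → a ∈ q → (s : Set A) ⊆ q := by
  classical
  haveI : IsLocalRing R := IsLocalization.AtPrime.isLocalRing R p
  set I := Ideal.span (s : Set A) with hI
  set J := I.map (algebraMap A R) with hJdef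
  have hJ : J ≤ IsLocalRing.maximalIdeal R := by
    rw [← IsLocalization.AtPrime.map_eq_maximalIdeal p R]
    exact Ideal.map_mono (Ideal.span_le.mpr hsp)
  obtain ⟨h, hhJ, hh⟩ := exists_mem_forall_prime hdim J hJ
  obtain ⟨⟨a, t⟩, hat⟩ := (IsLocalization.mem_map_algebraMap_iff p.primeCompl R).mp hhJ
  have hat' : h * algebraMap A R t = algebraMap A R a := hat
  have htu : IsUnit (algebraMap A R t) := IsLocalization.map_units R t
  have hrad : J ≤ (Ideal.span {algebraMap A R (a : A)}).radical := by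
    rw [Ideal.radical_eq_sInf]
    refine le_sInf ?_
    rintro q ⟨hq1, hq2⟩
    have haq : algebraMap A R (a : A) ∈ q := hq1 (Ideal.subset_span rfl)
    rw [← hat'] at haq
    have hhq : h ∈ q := by
      rcases hq2.mem_or_mem haq with h1 | h1
      · exact h1
      · exact absurd (q.eq_top_of_isUnit_mem h1 htu) hq2.ne_top
    exact hh q hq2 hhq
  have key : ∀ f ∈ s, ∃ gf : A, gf ∉ p ∧ ∀ q : Ideal A, q.IsPrime → gf ∉ q → (a : A) ∈ q → f ∈ q := by
    intro f hf
    have hfJ : algebraMap A R f ∈ J := Ideal.mem_map_of_mem _ (Ideal.subset_span hf)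
    obtain ⟨n, hn⟩ := hrad hfJ
    obtain ⟨r, hr⟩ := Ideal.mem_span_singleton'.mp hn
    obtain ⟨⟨b, u⟩, rfl⟩ := IsLocalization.mk'_surjective p.primeCompl r
    have e1 : algebraMap A R (f ^ n * (u : A)) = algebraMap A R (b * (a : A)) := by
      rw [map_mul, map_mul, map_pow, ← hr, mul_assoc, mul_comm (algebraMap A R (a : A)),
        ← mul_assoc, IsLocalization.mk'_spec]
    obtain ⟨c, hc⟩ := (IsLocalization.eq_iff_exists p.primeCompl R).mp e1
    refine ⟨(c : A) * (u : A), ?_, ?_⟩
    · exact (c * u).2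
    · intro q hq hgq haq
      have h1 : (c : A) * (u : A) * f ^ n ∈ q := by
        have : (c : A) * (u : A) * f ^ n = (c : A) * b * (a : A) := by
          rw [mul_assoc, mul_comm (u : A), hc, mul_assoc]
        rw [this]
        exact q.mul_mem_left _ haq
      rcases hq.mem_or_mem h1 with h2 | h2
      · exact absurd h2 hgq
      · exact hq.mem_of_pow_mem n h2
  choose! gf hgf1 hgf2 using key
  refine ⟨a, a.2, ∏ f ∈ s, gf f, ?_, ?_⟩
  · intro hmem
    obtain ⟨f, hf, hfp⟩ := Ideal.IsPrime.prod_mem_iff.mp hmem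
    exact hgf1 f hf hfp
  · intro q hq hgq haq f hf
    refine hgf2 f hf q hq ?_ haq
    intro hmem
    exact hgq (Ideal.mem_of_dvd q (Finset.dvd_prod_of_mem gf hf) hmem)

/-- **Quasi-compact opens of an affine scheme whose local rings are Noetherian of dimension
`≤ 1` are affine.** -/
theorem isAffineOpen_of_isCompact (X : Scheme.{u}) [IsAffine X]
    (hX : ∀ x : X, IsNoetherianRing (X.presheaf.stalk x) ∧ ringKrullDim (X.presheaf.stalk x) ≤ 1)
    (U : X.Opens) (hU : IsCompact (U : Set X)) : IsAffineOpen U := by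
  classical
  have hT := isAffineOpen_top X
  obtain ⟨s, hsfin, hs⟩ :=
    isCompact_and_isOpen_iff_finite_and_eq_biUnion_basicOpen.mp ⟨hU, U.isOpen⟩
  have hmem : ∀ (y : X) (f : Γ(X, ⊤)),
      y ∈ X.basicOpen f ↔ f ∉ (hT.primeIdealOf ⟨y, trivial⟩).asIdeal := by
    intro y f
    have h1 : hT.fromSpec (hT.primeIdealOf ⟨y, trivial⟩) = y :=
      hT.fromSpec_primeIdealOf ⟨y, trivial⟩
    have h2 := hT.fromSpec_preimage_basicOpen f
    constructor
    · intro hy
      have h3 : hT.primeIdealOf ⟨y, trivial⟩ ∈ hT.fromSpec ⁻¹ᵁ X.basicOpen f := by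
        show hT.fromSpec _ ∈ X.basicOpen f
        rw [h1]; exact hy
      rw [h2] at h3
      exact h3
    · intro hf
      have h3 : hT.primeIdealOf ⟨y, trivial⟩ ∈ hT.fromSpec ⁻¹ᵁ X.basicOpen f := by
        rw [h2]; exact hf
      have h4 : hT.fromSpec (hT.primeIdealOf ⟨y, trivial⟩) ∈ X.basicOpen f := h3
      rwa [h1] at h4
  have hUmem : ∀ y : X, y ∈ U ↔ ∃ f ∈ s, f ∉ (hT.primeIdealOf ⟨y, trivial⟩).asIdeal := by
    intro y
    have h0 : y ∈ U ↔ y ∈ (U : Set X) := Iff.rfl
    rw [h0, hs]
    simp only [Set.mem_iUnion, SetLike.mem_coe, exists_prop]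
    exact exists_congr fun f => and_congr_right fun _ => hmem y f
  have key : ∀ x : X, ∃ g : Γ(X, ⊤), x ∈ X.basicOpen g ∧ IsAffineOpen (U ⊓ X.basicOpen g) := by
    intro x
    by_cases hxU : x ∈ U
    · obtain ⟨f, hfs, hf⟩ := (hUmem x).mp hxU
      refine ⟨f, (hmem x f).mpr hf, ?_⟩
      have hle : X.basicOpen f ≤ U := by
        intro y hy
        exact (hUmem y).mpr ⟨f, hfs, (hmem y f).mp hy⟩
      rw [inf_eq_right.mpr hle]
      exact hT.basicOpen f
    · have hsp : ((hsfin.toFinset : Finset Γ(X, ⊤)) : Set Γ(X, ⊤)) ⊆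
          (hT.primeIdealOf ⟨x, trivial⟩).asIdeal := by
        intro f hf
        rw [Set.Finite.coe_toFinset] at hf
        by_contra hfp
        exact hxU ((hUmem x).mpr ⟨f, hf, hfp⟩)
      letI := X.presheaf.algebra_section_stalk (⟨x, trivial⟩ : (⊤ : X.Opens))
      haveI := hT.isLocalization_stalk ⟨x, trivial⟩
      haveI := (hX x).1
      obtain ⟨a, ha, g, hgp, hag⟩ := exists_local_principal hsfin.toFinset
        (hT.primeIdealOf ⟨x, trivial⟩).asIdeal hsp (X.presheaf.stalk x) (hX x).2
      refine ⟨g, (hmem x g).mpr hgp, ?_⟩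
      have heq : U ⊓ X.basicOpen g = X.basicOpen (g * a) := by
        ext y
        show y ∈ U ∧ y ∈ X.basicOpen g ↔ y ∈ X.basicOpen (g * a)
        rw [hUmem, hmem, hmem]
        constructor
        · rintro ⟨⟨f, hfs, hfq⟩, hgq⟩ hmul
          rcases (hT.primeIdealOf ⟨y, trivial⟩).2.mem_or_mem hmul with h1 | h1
          · exact hgq h1
          · exact hfq (hag _ (hT.primeIdealOf ⟨y, trivial⟩).2 hgq h1
              (by rw [Set.Finite.coe_toFinset]; exact hfs))
        · intro hmul
          have hgq : g ∉ (hT.primeIdealOf ⟨y, trivial⟩).asIdeal :=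
            fun h => hmul (Ideal.mul_mem_right _ _ h)
          have haq : a ∉ (hT.primeIdealOf ⟨y, trivial⟩).asIdeal :=
            fun h => hmul (Ideal.mul_mem_left _ _ h)
          refine ⟨?_, hgq⟩
          by_contra hcon
          push Not at hcon
          apply haq
          exact (Ideal.span_le.mpr (fun f hf => hcon f
            (by rwa [Set.Finite.coe_toFinset] at hf))) ha
      rw [heq]
      exact hT.basicOpen _
  have hAff : IsAffineHom U.ι := by
    apply isAffineHom_of_forall_exists_isAffineOpen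
    intro x
    obtain ⟨g, hxg, hg⟩ := key x
    refine ⟨X.basicOpen g, hxg, hT.basicOpen g, ?_⟩
    apply U.ι.isAffineOpen_iff_of_isOpenImmersion.mp
    rw [Scheme.Hom.image_preimage_eq_opensRange_inf, Scheme.Opens.opensRange_ι]
    exact hg
  exact isAffine_of_isAffineHom U.ι

end Groth.Agent.Lib.helper4.DimOneAffine
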