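import Mathlib
import Groth.Agent.Lib.Helper4.DimOneAffine
import Groth.Agent.S0028
import Groth.Agent.S11319

/-!
# Retrocompact opens of schemes with Noetherian local rings of dimension `≤ 1`

The inclusion is an affine morphism, hence has vanishing higher direct images on quasi-coherent
modules.
-/

set_option backward.isDefEq.respectTransparency false
set_option backward.isDefEq.respectTransparency.types false
set_option autoImplicit false
set_option linter.style.haveILetI false
universe u
open CategoryTheory CategoryTheory.Limits AlgebraicGeometry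
open Coherent

namespace Groth.Agent.Lib.helper4.DimOneRpush

open Groth.Agent.Lib.helper4.DimOneAffine

/-- A quasi-compact open immersion into a scheme whose local rings are Noetherian of dimension
`≤ 1` is affine. -/
theorem isAffineHom_ι (X : Scheme.{u})
    (hX : ∀ x : X, IsNoetherianRing (X.presheaf.stalk x) ∧ ringKrullDim (X.presheaf.stalk x) ≤ 1)
    (U : X.Opens) [QuasiCompact U.ι] : IsAffineHom U.ι := by
  refine ⟨fun W hW => ?_⟩
  -- work in the affine scheme `W`
  haveI : IsAffine W.toScheme := hW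
  have hXW : ∀ y : W.toScheme, IsNoetherianRing (W.toScheme.presheaf.stalk y) ∧
      ringKrullDim (W.toScheme.presheaf.stalk y) ≤ 1 := by
    intro y
    let e : X.presheaf.stalk (W.ι y) ≃+* W.toScheme.presheaf.stalk y :=
      (asIso (W.ι.stalkMap y)).commRingCatIsoToRingEquiv
    haveI := (hX (W.ι y)).1
    exact ⟨isNoetherianRing_of_ringEquiv _ e, (ringKrullDim_eq_of_ringEquiv e).symm ▸ (hX (W.ι y)).2⟩
  have hc : IsCompact ((W.ι ⁻¹ᵁ U : W.toScheme.Opens) : Set W.toScheme) := by
    rw [W.ι.isOpenEmbedding.isInducing.isCompact_iff]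
    have h1 : IsCompact ((U.ι ⁻¹ᵁ W : U.toScheme.Opens) : Set U.toScheme) :=
      QuasiCompact.isCompact_preimage (f := U.ι) _ W.isOpen hW.isCompact
    have h2 := h1.image U.ι.continuous
    convert h2 using 1
    ext x
    simp only [Set.mem_image]
    constructor
    · rintro ⟨y, hy, rfl⟩
      exact ⟨⟨W.ι y, hy⟩, y.2, rfl⟩
    · rintro ⟨y, hy, rfl⟩
      exact ⟨⟨U.ι y, hy⟩, y.2, rfl⟩
  have hAff : IsAffineOpen (W.ι ⁻¹ᵁ U) := isAffineOpen_of_isCompact W.toScheme hXW _ hc
  have h3 : IsAffineOpen (W.ι ''ᵁ (W.ι ⁻¹ᵁ U)) := hAff.image_of_isOpenImmersion W.ι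
  rw [Scheme.Hom.image_preimage_eq_opensRange_inf, Scheme.Opens.opensRange_ι] at h3
  apply U.ι.isAffineOpen_iff_of_isOpenImmersion.mp
  rw [Scheme.Hom.image_preimage_eq_opensRange_inf, Scheme.Opens.opensRange_ι, inf_comm]
  exact h3

/-- Vanishing of the higher direct images. -/
theorem isZero_Rpush (X : Scheme.{u})
    (hX : ∀ x : X, IsNoetherianRing (X.presheaf.stalk x) ∧ ringKrullDim (X.presheaf.stalk x) ≤ 1)
    (U : X.Opens) [QuasiCompact U.ι] [HasInjectiveResolutions (U : Scheme.{u}).Modules]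
    (F : (U : Scheme.{u}).Modules) (hF : Coh.IsQCoh F) (p : ℕ) (hp : 0 < p) :
    IsZero ((Coh.Rpush U.ι p).obj F) := by
  haveI := isAffineHom_ι X hX U
  haveI : Coh.IsQCoh F := hF
  have h2 : IsZero ((Coh.RpushAb U.ι p).obj (Coh.toAb F)) := Groth.Agent.S0028.result U.ι F p hp
  obtain ⟨e⟩ := Groth.Agent.S11319.result U.ι F p
  have h5 : IsZero (Coh.toAb ((Coh.Rpush U.ι p).obj F)) := h2.of_iso e
  rw [IsZero.iff_id_eq_zero] at h5 ⊢
  apply (SheafOfModules.toSheaf.{u} X.ringCatSheaf).map_injective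
  exact ((SheafOfModules.toSheaf.{u} X.ringCatSheaf).map_id _).trans (h5.trans (by rfl))

end Groth.Agent.Lib.helper4.DimOneRpush
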