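import Mathlib
import Groth.Agent.Lib.Helper4.DvrLocal

/-!
# Valuative criterion for properness near a point, with sections of base changes (helper4)
-/

set_option backward.isDefEq.respectTransparency false
set_option backward.isDefEq.respectTransparency.types false
set_option autoImplicit false
set_option linter.style.haveILetI false

open CategoryTheory AlgebraicGeometry Limits

universe u

namespace Groth.Agent.Lib.helper4.DvrLocal

variable {X Y : Scheme.{u}}

theorem dvrGenericAt_of_sections_extend (f : X ⟶ Y) (y : Y)
    (h : ∀ (A : Type u) [CommRing A] [IsDomain A] [IsDiscreteValuationRing A]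
      (g : Spec (CommRingCat.of A) ⟶ Y), g.base (IsLocalRing.closedPoint A) = y →
      ∀ σ : Spec (CommRingCat.of (FractionRing A)) ⟶ pullback f g,
        σ ≫ pullback.snd f g = Spec.map (CommRingCat.ofHom (algebraMap A (FractionRing A))) →
        ∃ s : Spec (CommRingCat.of A) ⟶ pullback f g, s ≫ pullback.snd f g = 𝟙 _ ∧
          Spec.map (CommRingCat.ofHom (algebraMap A (FractionRing A))) ≫ s = σ) :
    DvrGenericAt f y := by
  intro η hη A hA g hg hgy
  haveI := hA
  let K := X.residueField η
  let e : FractionRing A ≃ₐ[A] K := FractionRing.algEquiv A K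
  have he : (e : FractionRing A →+* K).comp (algebraMap A (FractionRing A)) = A.subtype := by
    ext a
    exact e.commutes a
  have he' : (e.symm : K →+* FractionRing A).comp A.subtype = algebraMap A (FractionRing A) := by
    ext a
    exact e.symm.commutes a
  let σ : Spec (CommRingCat.of (FractionRing A)) ⟶ pullback f g :=
    pullback.lift (Spec.map (CommRingCat.ofHom (e.symm : K →+* FractionRing A)) ≫
        X.fromSpecResidueField η)
      (Spec.map (CommRingCat.ofHom (algebraMap A (FractionRing A)))) (by
        rw [Category.assoc, ← hg, ← Category.assoc, ← Spec.map_comp, ← CommRingCat.ofHom_comp, he'])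
  obtain ⟨s, hs1, hs2⟩ := h A g hgy σ (pullback.lift_snd _ _ _)
  refine ⟨s ≫ pullback.fst f g, ?_, ?_⟩
  · rw [Category.assoc, pullback.condition, ← Category.assoc, hs1, Category.id_comp]
  · have h1 : Spec.map (CommRingCat.ofHom A.subtype) =
        Spec.map (CommRingCat.ofHom (e : FractionRing A →+* K)) ≫
          Spec.map (CommRingCat.ofHom (algebraMap A (FractionRing A))) := by
      rw [← Spec.map_comp, ← CommRingCat.ofHom_comp, he]
    rw [h1, Category.assoc, ← Category.assoc (Spec.map (CommRingCat.ofHom (algebraMap A _))), hs2,
      pullback.lift_fst, ← Category.assoc, ← Spec.map_comp, ← CommRingCat.ofHom_comp]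
    have : (e : FractionRing A →+* K).comp (e.symm : K →+* FractionRing A) = RingHom.id _ := by
      ext a
      exact e.apply_symm_apply a
    rw [this]
    simp only [CommRingCat.ofHom_id, Spec.map_id]
    exact Category.id_comp _

theorem exists_isProper_restrict_of_sections_extend [IsLocallyNoetherian Y]
    (f : X ⟶ Y) [IsSeparated f] [LocallyOfFiniteType f] [QuasiCompact f] (y : Y)
    (h : ∀ (A : Type u) [CommRing A] [IsDomain A] [IsDiscreteValuationRing A]
      (g : Spec (CommRingCat.of A) ⟶ Y), g.base (IsLocalRing.closedPoint A) = y →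
      ∀ σ : Spec (CommRingCat.of (FractionRing A)) ⟶ pullback f g,
        σ ≫ pullback.snd f g = Spec.map (CommRingCat.ofHom (algebraMap A (FractionRing A))) →
        ∃ s : Spec (CommRingCat.of A) ⟶ pullback f g, s ≫ pullback.snd f g = 𝟙 _ ∧
          Spec.map (CommRingCat.ofHom (algebraMap A (FractionRing A))) ≫ s = σ) :
    ∃ U : Y.Opens, y ∈ U ∧ IsProper (f ∣_ U) :=
  exists_isProper_restrict f y (dvrGenericAt_of_sections_extend f y h)

end Groth.Agent.Lib.helper4.DvrLocal
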