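import Mathlib
import Groth.Prelude.Def_AnFib

set_option backward.isDefEq.respectTransparency false
set_option autoImplicit false
set_option linter.style.haveILetI false

/-!
# Base change of elementary fibrations
-/

universe u

open CategoryTheory CategoryTheory.Limits AlgebraicGeometry

namespace Groth.Agent.Lib.Helper4.ElemFib

/-- The comparison of scheme-theoretic fibres under base change. -/
noncomputable def fiberMap {Xb S S' : Scheme.{u}} (fb : Xb ⟶ S) (u : S' ⟶ S) (s' : S') :
    (pullback.snd fb u).fiber s' ⟶ fb.fiber (u.base s') :=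
  pullback.lift ((pullback.snd fb u).fiberι s' ≫ pullback.fst fb u)
    ((pullback.snd fb u).fiberToSpecResidueField s' ≫ Spec.map (u.residueFieldMap s')) (by
      rw [Category.assoc, pullback.condition, ← Category.assoc,
        Scheme.Hom.fiber_fac, Category.assoc, Category.assoc,
        Scheme.Hom.SpecMap_residueFieldMap_fromSpecResidueField])

theorem fiberMap_fiberι {Xb S S' : Scheme.{u}} (fb : Xb ⟶ S) (u : S' ⟶ S) (s' : S') :
    fiberMap fb u s' ≫ fb.fiberι (u.base s') =
      (pullback.snd fb u).fiberι s' ≫ pullback.fst fb u :=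
  pullback.lift_fst _ _ _

theorem fiberMap_fiberToSpec {Xb S S' : Scheme.{u}} (fb : Xb ⟶ S) (u : S' ⟶ S) (s' : S') :
    fiberMap fb u s' ≫ fb.fiberToSpecResidueField (u.base s') =
      (pullback.snd fb u).fiberToSpecResidueField s' ≫ Spec.map (u.residueFieldMap s') :=
  pullback.lift_snd _ _ _

theorem isPullback_fiberMap {Xb S S' : Scheme.{u}} (fb : Xb ⟶ S) (u : S' ⟶ S) (s' : S') :
    IsPullback (fiberMap fb u s') ((pullback.snd fb u).fiberToSpecResidueField s')
      (fb.fiberToSpecResidueField (u.base s')) (Spec.map (u.residueFieldMap s')) := by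
  -- the right square
  have hR : IsPullback (fb.fiberι (u.base s')) (fb.fiberToSpecResidueField (u.base s')) fb
      (S.fromSpecResidueField (u.base s')) := IsPullback.of_hasPullback _ _
  -- the outer rectangle, via the other decomposition
  have hL' : IsPullback ((pullback.snd fb u).fiberι s')
      ((pullback.snd fb u).fiberToSpecResidueField s') (pullback.snd fb u)
      (S'.fromSpecResidueField s') := IsPullback.of_hasPullback _ _
  have hR' : IsPullback (pullback.fst fb u) (pullback.snd fb u) fb u :=
    IsPullback.of_hasPullback _ _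
  have hO := hL'.paste_horiz hR'
  refine IsPullback.of_right ?_ (fiberMap_fiberToSpec fb u s') hR
  rw [fiberMap_fiberι, Scheme.Hom.SpecMap_residueFieldMap_fromSpecResidueField]
  exact hO

theorem isOpenMap_fiberMap {Xb S S' : Scheme.{u}} (fb : Xb ⟶ S) (u : S' ⟶ S) (s' : S') :
    IsOpenMap (fiberMap fb u s').base := by
  haveI : UniversallyOpen (Spec.map (u.residueFieldMap s')) := inferInstance
  haveI : UniversallyOpen (fiberMap fb u s') :=
    MorphismProperty.of_isPullback (P := @UniversallyOpen) (isPullback_fiberMap fb u s').flip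
      inferInstance
  exact (fiberMap fb u s').isOpenMap


/-- Fibrewise density is stable under base change. -/
theorem fibre_dense_baseChange {Xb S S' : Scheme.{u}} (fb : Xb ⟶ S) (u : S' ⟶ S) (U : Set Xb)
    (hd : ∀ s : S, fb.base ⁻¹' {s} ⊆ closure (U ∩ fb.base ⁻¹' {s})) (s' : S') :
    (pullback.snd fb u).base ⁻¹' {s'} ⊆
      closure ((pullback.fst fb u).base ⁻¹' U ∩ (pullback.snd fb u).base ⁻¹' {s'}) := by
  intro x' hx'
  rw [mem_closure_iff]
  intro W' hW' hxW'
  have hr := Scheme.Hom.range_fiberι (pullback.snd fb u) s'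
  obtain ⟨z', rfl⟩ : x' ∈ Set.range ((pullback.snd fb u).fiberι s') := by
    rw [hr]; exact hx'
  have hO : IsOpen ((fiberMap fb u s').base '' (((pullback.snd fb u).fiberι s').base ⁻¹' W')) :=
    isOpenMap_fiberMap fb u s' _ (hW'.preimage (Scheme.Hom.continuous _))
  have hemb : Topology.IsEmbedding (fb.fiberι (u.base s')) := (fb.fiberι (u.base s')).isEmbedding
  obtain ⟨V, hV, hVO⟩ := hemb.isInducing.isOpen_iff.mp hO
  have hpz : fb.fiberι (u.base s') (fiberMap fb u s' z') ∈ V := by
    have : fiberMap fb u s' z' ∈ (fb.fiberι (u.base s')) ⁻¹' V := by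
      rw [hVO]; exact ⟨z', hxW', rfl⟩
    exact this
  have hfib : fb.fiberι (u.base s') (fiberMap fb u s' z') ∈ fb.base ⁻¹' {u.base s'} := by
    rw [← Scheme.Hom.range_fiberι]; exact ⟨_, rfl⟩
  have hcl := hd _ hfib
  rw [mem_closure_iff] at hcl
  obtain ⟨y, hyV, hyU, hyf⟩ := hcl V hV hpz
  obtain ⟨t, rfl⟩ : y ∈ Set.range (fb.fiberι (u.base s')) := by
    rw [Scheme.Hom.range_fiberι]; exact hyf
  have ht : t ∈ (fb.fiberι (u.base s')) ⁻¹' V := hyV
  rw [hVO] at ht
  obtain ⟨w, hwW, rfl⟩ := ht
  refine ⟨(pullback.snd fb u).fiberι s' w, hwW, ?_, ?_⟩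
  · change (pullback.fst fb u) ((pullback.snd fb u).fiberι s' w) ∈ U
    have := congr($(fiberMap_fiberι fb u s') w)
    simp only [Scheme.Hom.comp_apply] at this
    rw [← this]; exact hyU
  · rw [← hr]; exact ⟨w, rfl⟩


/-- The map `P^n_{S'} ⟶ P^n_S` induced by `u : S' ⟶ S`. -/
noncomputable def projMap (n : ℕ) {S S' : Scheme.{u}} (φ : S' ⟶ S) :
    CohB1.ProjSpaceOver n S' ⟶ CohB1.ProjSpaceOver n S :=
  pullback.map (CohB1.ProjSpace.toSpec n (ULift.{u} ℤ)) (specULiftZIsTerminal.from S')
    (CohB1.ProjSpace.toSpec n (ULift.{u} ℤ)) (specULiftZIsTerminal.from S) (𝟙 _) φ (𝟙 _)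
    (by simp) (specULiftZIsTerminal.hom_ext _ _)

theorem projMap_toBase (n : ℕ) {S S' : Scheme.{u}} (φ : S' ⟶ S) :
    projMap n φ ≫ CohB1.ProjSpaceOver.toBase n S = CohB1.ProjSpaceOver.toBase n S' ≫ φ := by
  simp [projMap, CohB1.ProjSpaceOver.toBase]

theorem isPullback_projMap (n : ℕ) {S S' : Scheme.{u}} (φ : S' ⟶ S) :
    IsPullback (projMap n φ) (CohB1.ProjSpaceOver.toBase n S') (CohB1.ProjSpaceOver.toBase n S)
      φ := by
  have hR : IsPullback
      (pullback.fst (CohB1.ProjSpace.toSpec n (ULift.{u} ℤ)) (specULiftZIsTerminal.from S))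
      (CohB1.ProjSpaceOver.toBase n S) (CohB1.ProjSpace.toSpec n (ULift.{u} ℤ))
      (specULiftZIsTerminal.from S) := IsPullback.of_hasPullback _ _
  have hO : IsPullback
      (pullback.fst (CohB1.ProjSpace.toSpec n (ULift.{u} ℤ)) (specULiftZIsTerminal.from S'))
      (CohB1.ProjSpaceOver.toBase n S') (CohB1.ProjSpace.toSpec n (ULift.{u} ℤ))
      (specULiftZIsTerminal.from S') := IsPullback.of_hasPullback _ _
  refine IsPullback.of_right ?_ (projMap_toBase n φ) hR
  have h1 : projMap n φ ≫
      pullback.fst (CohB1.ProjSpace.toSpec n (ULift.{u} ℤ)) (specULiftZIsTerminal.from S) =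
      pullback.fst (CohB1.ProjSpace.toSpec n (ULift.{u} ℤ)) (specULiftZIsTerminal.from S') := by
    simp [projMap]
  have h2 : φ ≫ specULiftZIsTerminal.from S = specULiftZIsTerminal.from S' :=
    specULiftZIsTerminal.hom_ext _ _
  rw [h1, h2]
  exact hO

/-- Strong projectivity is stable under base change. -/
theorem isStronglyProjective_baseChange {Xb S S' : Scheme.{u}} (fb : Xb ⟶ S) (u : S' ⟶ S)
    (h : An.IsStronglyProjective fb) : An.IsStronglyProjective (pullback.snd fb u) := by
  obtain ⟨n, c, hc, hcf⟩ := h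
  have hL := isPullback_projMap n u
  have hw : (pullback.fst fb u ≫ c) ≫ CohB1.ProjSpaceOver.toBase n S = pullback.snd fb u ≫ u := by
    rw [Category.assoc, hcf, pullback.condition]
  refine ⟨n, hL.lift (pullback.fst fb u ≫ c) (pullback.snd fb u) hw, ?_, hL.lift_snd _ _ _⟩
  have hsq : IsPullback (hL.lift (pullback.fst fb u ≫ c) (pullback.snd fb u) hw)
      (pullback.fst fb u) (projMap n u) c := by
    refine IsPullback.of_right ?_ (hL.lift_fst _ _ _) hL.flip
    rw [hL.lift_snd, hcf]
    exact (IsPullback.of_hasPullback fb u).flip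
  exact MorphismProperty.of_isPullback (P := @IsClosedImmersion) hsq.flip hc


/-- Elementary fibrations are stable under arbitrary base change. -/
theorem isElementaryFibration_baseChange {X S S' : Scheme.{u}} (f : X ⟶ S) (u : S' ⟶ S)
    (hf : An.IsElementaryFibration f) : An.IsElementaryFibration (pullback.snd f u) := by
  obtain ⟨Xb, Y, j, fb, i, rfl, hj, hi, hji, hd, hsm, hproj, hgeom, hfin, het, hsurj⟩ := hf
  -- the morphism `j'`
  let j' : pullback (j ≫ fb) u ⟶ pullback fb u :=
    pullback.map (j ≫ fb) u fb u j (𝟙 _) (𝟙 _) (by simp) (by simp)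
  have hj'snd : j' ≫ pullback.snd fb u = pullback.snd (j ≫ fb) u := by simp [j']
  have hj'fst : j' ≫ pullback.fst fb u = pullback.fst (j ≫ fb) u ≫ j := by simp [j']
  have hR : IsPullback (pullback.snd fb u) (pullback.fst fb u) u fb :=
    (IsPullback.of_hasPullback fb u).flip
  have hsqj : IsPullback j' (pullback.fst (j ≫ fb) u) (pullback.fst fb u) j := by
    refine IsPullback.of_right ?_ hj'fst hR
    rw [hj'snd]
    exact (IsPullback.of_hasPullback (j ≫ fb) u).flip
  haveI : IsOpenImmersion j' :=
    MorphismProperty.of_isPullback (P := @IsOpenImmersion) hsqj.flip hj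
  -- the closed complement
  let i' : pullback i (pullback.fst fb u) ⟶ pullback fb u := pullback.snd i (pullback.fst fb u)
  haveI : IsClosedImmersion i' := by
    haveI := hi
    exact inferInstanceAs (IsClosedImmersion (pullback.snd i (pullback.fst fb u)))
  have hri' : Set.range i'.base = (pullback.fst fb u).base ⁻¹' Set.range i.base :=
    Scheme.Pullback.range_snd i (pullback.fst fb u)
  have hrj' : Set.range j'.base = (pullback.fst fb u).base ⁻¹' Set.range j.base := by
    have e : j' = (hsqj.flip.isoPullback).hom ≫ pullback.snd j (pullback.fst fb u) := by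
      simp
    rw [e]
    have : Set.range ((hsqj.flip.isoPullback).hom ≫ pullback.snd j (pullback.fst fb u)).base =
        Set.range (pullback.snd j (pullback.fst fb u)).base := by
      rw [Scheme.Hom.comp_base, TopCat.coe_comp, Set.range_comp]
      have hs : Function.Surjective (hsqj.flip.isoPullback).hom.base :=
        (hsqj.flip.isoPullback).hom.homeomorph.surjective
      rw [hs.range_eq, Set.image_univ]
    rw [this]
    exact Scheme.Pullback.range_snd j (pullback.fst fb u)
  -- `i' ≫ fb'` is a base change of `i ≫ fb`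
  have hsqi : IsPullback (i' ≫ pullback.snd fb u) (pullback.fst i (pullback.fst fb u)) u
      (i ≫ fb) :=
    (IsPullback.of_hasPullback i (pullback.fst fb u)).flip.paste_horiz hR
  refine ⟨pullback fb u, pullback i (pullback.fst fb u), j', pullback.snd fb u, i', hj'snd,
    inferInstance, inferInstance, ?_, ?_, ?_, isStronglyProjective_baseChange fb u hproj, ?_,
    ?_, ?_, ?_⟩
  · rw [hrj', hri', hji, Set.preimage_compl]
  · intro s'
    rw [hrj']
    exact fibre_dense_baseChange fb u _ hd s'
  · haveI := hsm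
    exact inferInstanceAs (Smooth (pullback.snd fb u))
  · intro Ω _ _ σ
    obtain ⟨h1, h2⟩ := hgeom Ω (σ ≫ u)
    let e := pullbackLeftPullbackSndIso fb u σ
    have hhom : IsHomeomorph e.inv.base := e.inv.homeomorph.isHomeomorph
    refine ⟨?_, ?_⟩
    · rw [irreducibleSpace_def] at h1 ⊢
      have := h1.image e.inv.base hhom.continuous.continuousOn
      have hu : e.inv.base '' (⊤ : Set _) = ⊤ := by
        change e.inv.base '' Set.univ = Set.univ
        rw [Set.image_univ, hhom.surjective.range_eq]
      rwa [hu] at this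
    · rw [← h2]
      exact (IsHomeomorph.topologicalKrullDim_eq _ hhom).symm
  · exact MorphismProperty.of_isPullback (P := @IsFinite) hsqi.flip hfin
  · exact MorphismProperty.of_isPullback (P := @Etale) hsqi.flip het
  · haveI : Surjective (i ≫ fb) := ⟨hsurj⟩
    haveI : Surjective (i' ≫ pullback.snd fb u) :=
      MorphismProperty.of_isPullback (P := @Surjective) hsqi.flip inferInstance
    exact (i' ≫ pullback.snd fb u).surjective

end Groth.Agent.Lib.Helper4.ElemFib
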