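import Mathlib
import Groth.Agent.Lib.Helper4.TorsorFpqc4

/-!
# Flat base change preserves injectivity of the structure map on functions (helper4)

* `injective_inr_of_isPushout`: in a pushout square of commutative rings, the pushout of an injective map along a flat map
  is injective.
* `appTop_injective_of_flat_baseChange`: if `φ' : X' ⟶ Y'` is quasi-compact and quasi-separated with
  `Γ(Y', O) ⟶ Γ(X', φ'⁻¹ O)` injective for all opens `O`, then for flat `g : T ⟶ Y'` the projection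
  `X' ×_{Y'} T ⟶ T` is injective on global functions.
* `a1_cancel_of_flat_baseChange`: the same for morphisms to the affine line.
-/

set_option autoImplicit false
set_option linter.style.haveILetI false
set_option linter.unusedSectionVars false
set_option backward.isDefEq.respectTransparency false
universe u
open CategoryTheory CategoryTheory.Limits AlgebraicGeometry TensorProduct

namespace Groth.Agent.Lib.Helper4.EqIntDesc

open Groth.Agent.Lib.Helper4.TorsorFpqc4

theorem injective_inr_of_isPushout {R A B X : CommRingCat.{u}} {f : R ⟶ A} {g : R ⟶ B} {a : A ⟶ X} {b : B ⟶ X}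
    (H : IsPushout f g a b) (hf : Function.Injective f.hom) (hg : g.hom.Flat) :
    Function.Injective b.hom := by
  algebraize [f.hom, g.hom]
  let e := (CommRingCat.isPushout_tensorProduct R A B).isoIsPushout A B H
  have hb : b = CommRingCat.ofHom (Algebra.TensorProduct.includeRight (R := R) (A := A) (B := B)).toRingHom ≫ e.hom :=
    (IsPushout.inr_isoIsPushout_hom _ _ _ _).symm
  rw [hb]
  have hinc : Function.Injective (Algebra.TensorProduct.includeRight : B →ₐ[R] A ⊗[R] B) :=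
    Algebra.TensorProduct.includeRight_injective (R := R) (A := A) (B := B) hf
  have he : Function.Injective e.hom.hom := (ConcreteCategory.bijective_of_isIso e.hom).1
  exact he.comp hinc

theorem appTop_injective_of_flat_baseChange {X' Y' T : Scheme.{u}} (φ' : X' ⟶ Y') [QuasiCompact φ']
    [QuasiSeparated φ'] (hinj : ∀ O : Y'.Opens, Function.Injective (φ'.app O).hom)
    (g : T ⟶ Y') [Flat g] : Function.Injective (pullback.snd φ' g).appTop.hom := by
  intro sa sb h
  refine T.IsSheaf.section_ext fun t _ => ?_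
  obtain ⟨_, ⟨B, hB, rfl⟩, hxB, -⟩ := Y'.isBasis_affineOpens.exists_subset_of_mem_open
    (Set.mem_univ (g t)) isOpen_univ
  obtain ⟨_, ⟨C, hC, rfl⟩, hxC, hCB : C ≤ g ⁻¹ᵁ B⟩ :=
    T.isBasis_affineOpens.exists_subset_of_mem_open hxB (g ⁻¹ᵁ B).2
  refine ⟨C, le_top, hxC, ?_⟩
  have H : IsPullback (pullback.fst φ' g) (pullback.snd φ' g) φ' g := IsPullback.of_hasPullback φ' g
  have hUX : IsCompact ((φ' ⁻¹ᵁ B : X'.Opens) : Set X') := φ'.isCompact_preimage hB.isCompact
  have hUX' : IsQuasiSeparated ((φ' ⁻¹ᵁ B : X'.Opens) : Set X') :=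
    φ'.isQuasiSeparated_preimage hB.isQuasiSeparated
  have hiso := isIso_pushoutSection_of_isQuasiSeparated_of_flat_right H (US := B) (UT := C)
    (UX := φ' ⁻¹ᵁ B) (UY := pullback.fst φ' g ⁻¹ᵁ (φ' ⁻¹ᵁ B) ⊓ pullback.snd φ' g ⁻¹ᵁ C) hCB le_rfl rfl
    hB hC hUX hUX'
  have hpo := (isIso_pushoutSection_iff H (US := B) (UT := C) (UX := φ' ⁻¹ᵁ B)
    (UY := pullback.fst φ' g ⁻¹ᵁ (φ' ⁻¹ᵁ B) ⊓ pullback.snd φ' g ⁻¹ᵁ C) hCB le_rfl rfl).mp hiso
  have hflat : (g.appLE B C hCB).hom.Flat := g.flat_appLE hB hC hCB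
  have hinjB : Function.Injective (φ'.appLE B (φ' ⁻¹ᵁ B) le_rfl).hom := by
    rw [← Scheme.Hom.app_eq_appLE]
    exact hinj B
  have hinjC := injective_inr_of_isPushout hpo hinjB hflat
  apply hinjC
  have key : ∀ s : Γ(T, ⊤),
      ((pullback.snd φ' g).appLE C (pullback.fst φ' g ⁻¹ᵁ (φ' ⁻¹ᵁ B) ⊓ pullback.snd φ' g ⁻¹ᵁ C)
        inf_le_right).hom ((T.presheaf.map (homOfLE (le_top : C ≤ ⊤)).op).hom s) =
      ((pullback φ' g).presheaf.map (homOfLE (le_top :
        pullback.fst φ' g ⁻¹ᵁ (φ' ⁻¹ᵁ B) ⊓ pullback.snd φ' g ⁻¹ᵁ C ≤ ⊤)).op).hom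
        ((pullback.snd φ' g).appTop.hom s) := by
    intro s
    have e1 : T.presheaf.map (homOfLE (le_top : C ≤ ⊤)).op ≫
        (pullback.snd φ' g).appLE C (pullback.fst φ' g ⁻¹ᵁ (φ' ⁻¹ᵁ B) ⊓ pullback.snd φ' g ⁻¹ᵁ C)
          inf_le_right =
        (pullback.snd φ' g).appTop ≫ (pullback φ' g).presheaf.map (homOfLE (le_top :
          pullback.fst φ' g ⁻¹ᵁ (φ' ⁻¹ᵁ B) ⊓ pullback.snd φ' g ⁻¹ᵁ C ≤ ⊤)).op := by
      rw [Scheme.Hom.map_appLE, Scheme.Hom.appTop, Scheme.Hom.app_eq_appLE, Scheme.Hom.appLE_map]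
    exact ConcreteCategory.congr_hom e1 s
  rw [key, key, h]

theorem a1_cancel_of_flat_baseChange {X' Y' T : Scheme.{u}} (φ' : X' ⟶ Y') [QuasiCompact φ']
    [QuasiSeparated φ'] (hinj : ∀ O : Y'.Opens, Function.Injective (φ'.app O).hom)
    (g : T ⟶ Y') [Flat g] (a b : T ⟶ A1.{u})
    (h : pullback.snd φ' g ≫ a = pullback.snd φ' g ≫ b) : a = b := by
  obtain ⟨sa, rfl⟩ := toA1_surjective a
  obtain ⟨sb, rfl⟩ := toA1_surjective b
  rw [comp_toA1, comp_toA1] at h
  rw [appTop_injective_of_flat_baseChange φ' hinj g (toA1_injective h)]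

end Groth.Agent.Lib.Helper4.EqIntDesc
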