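import Mathlib
import Groth.Agent.Lib.Helper4.EqIntDesc1
import Groth.Agent.Lib.Helper4.SheafGlue
import Groth.Agent.Lib.Helper4.DescGlueOpenSingle

/-!
# Descent of "functions on the base are the invariant functions" along fpqc base change (helper4)

* `InvFun π p₁ p₂`: every morphism `V ⟶ 𝔸¹` equalised by `p₁, p₂ : W ⟶ V` factors uniquely through `π : V ⟶ U`.
* `SecTop π p₁ p₂`: the same on global sections.
* `invFun_iff_secTop`.
* `invFun_descent`: `InvFun` descends along a flat surjective quasi-compact base change `U' ⟶ U`, if the base changed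
  morphism satisfies cancellation after flat base change.
-/

set_option autoImplicit false
set_option linter.style.haveILetI false
set_option linter.unusedSectionVars false
set_option backward.isDefEq.respectTransparency false
universe u
open CategoryTheory CategoryTheory.Limits AlgebraicGeometry

namespace Groth.Agent.Lib.Helper4.EqIntDesc

open Groth.Agent.Lib.Helper4.TorsorFpqc4

variable {V U W : Scheme.{u}}

/-- Every morphism `V ⟶ 𝔸¹` equalised by `p₁, p₂` factors uniquely through `π`. -/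
def InvFun (π : V ⟶ U) (p₁ p₂ : W ⟶ V) : Prop :=
  ∀ m : V ⟶ A1.{u}, p₁ ≫ m = p₂ ≫ m → ∃! z : U ⟶ A1.{u}, π ≫ z = m

/-- Global functions on `U` are the global functions on `V` equalised by `p₁, p₂`. -/
def SecTop (π : V ⟶ U) (p₁ p₂ : W ⟶ V) : Prop :=
  Function.Injective π.appTop.hom ∧
    ∀ s : Γ(V, ⊤), s ∈ Set.range π.appTop.hom ↔ p₁.appTop.hom s = p₂.appTop.hom s

theorem invFun_of_secTop {π : V ⟶ U} {p₁ p₂ : W ⟶ V} (h : SecTop π p₁ p₂) : InvFun π p₁ p₂ := by
  intro m hm
  obtain ⟨s, rfl⟩ := toA1_surjective m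
  rw [comp_toA1, comp_toA1] at hm
  obtain ⟨c, hc⟩ := (h.2 s).2 (toA1_injective hm)
  refine ⟨toA1 c, by show π ≫ toA1 c = toA1 s; rw [comp_toA1, hc], fun z hz => ?_⟩
  obtain ⟨c', rfl⟩ := toA1_surjective z
  have hz : π ≫ toA1 c' = toA1 s := hz
  rw [comp_toA1] at hz
  have : π.appTop.hom c' = π.appTop.hom c := (toA1_injective hz).trans hc.symm
  rw [h.1 this]

theorem secTop_of_invFun {π : V ⟶ U} {p₁ p₂ : W ⟶ V} (hp : p₁ ≫ π = p₂ ≫ π) (h : InvFun π p₁ p₂) :
    SecTop π p₁ p₂ := by
  refine ⟨fun c c' hcc => ?_, fun s => ⟨?_, fun hs => ?_⟩⟩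
  · obtain ⟨z, _, huniq⟩ := h (π ≫ toA1 c) (by rw [← Category.assoc, hp, Category.assoc])
    have e1 : toA1 c = z := huniq _ rfl
    have e2 : toA1 c' = z := huniq _ (by
      show π ≫ toA1 c' = π ≫ toA1 c
      rw [comp_toA1, comp_toA1, hcc])
    exact toA1_injective (e1.trans e2.symm)
  · rintro ⟨c, rfl⟩
    have h1 : π.appTop ≫ p₁.appTop = π.appTop ≫ p₂.appTop := by
      rw [← Scheme.Hom.comp_appTop, ← Scheme.Hom.comp_appTop, hp]
    exact ConcreteCategory.congr_hom h1 c
  · obtain ⟨z, hz, -⟩ := h (toA1 s) (by rw [comp_toA1, comp_toA1 p₂, hs])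
    obtain ⟨c, hc⟩ := toA1_surjective z
    refine ⟨c, toA1_injective ?_⟩
    rw [← comp_toA1, hc, hz]

variable {V' U' W' : Scheme.{u}}

/-- Descent of `InvFun` along a flat, surjective, quasi-compact base change. -/
theorem invFun_descent (π : V ⟶ U) (p₁ p₂ : W ⟶ V)
    (αU : U' ⟶ U) [Flat αU] [Surjective αU] [QuasiCompact αU]
    (prV : V' ⟶ V) (π' : V' ⟶ U') (sq : IsPullback prV π' π αU)
    (p₁' p₂' : W' ⟶ V') (gW : W' ⟶ W) (h₁ : p₁' ≫ prV = gW ≫ p₁) (h₂ : p₂' ≫ prV = gW ≫ p₂)
    (hcancel : ∀ (T : Scheme.{u}) (g : T ⟶ U') [Flat g] (a b : T ⟶ A1.{u}),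
      pullback.snd π' g ≫ a = pullback.snd π' g ≫ b → a = b)
    (h' : InvFun π' p₁' p₂') : InvFun π p₁ p₂ := by
  intro m hm
  have hm' : p₁' ≫ prV ≫ m = p₂' ≫ prV ≫ m := by
    rw [← Category.assoc, h₁, Category.assoc, hm, ← Category.assoc, ← h₂, Category.assoc]
  obtain ⟨z', hz', huniq'⟩ := h' (prV ≫ m) hm'
  have hz'' : π' ≫ z' = prV ≫ m := hz'
  -- the two pullbacks of `z'` agree
  have hcomp : pullback.fst αU αU ≫ z' = pullback.snd αU αU ≫ z' := by
    apply hcancel (pullback αU αU) (pullback.fst αU αU)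
    have hc : (pullback.fst π' (pullback.fst αU αU) ≫ prV) ≫ π =
        (pullback.snd π' (pullback.fst αU αU) ≫ pullback.snd αU αU) ≫ αU := by
      rw [Category.assoc, sq.w, ← Category.assoc, pullback.condition, Category.assoc, Category.assoc,
        pullback.condition]
    have e1 : pullback.snd π' (pullback.fst αU αU) ≫ pullback.fst αU αU ≫ z' =
        pullback.fst π' (pullback.fst αU αU) ≫ prV ≫ m := by
      rw [← Category.assoc, ← pullback.condition, Category.assoc, hz'']
    have e2 : pullback.snd π' (pullback.fst αU αU) ≫ pullback.snd αU αU ≫ z' =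
        pullback.fst π' (pullback.fst αU αU) ≫ prV ≫ m := by
      have l1 : sq.lift _ _ hc ≫ prV = pullback.fst π' (pullback.fst αU αU) ≫ prV := sq.lift_fst _ _ hc
      have l2 : sq.lift _ _ hc ≫ π' = pullback.snd π' (pullback.fst αU αU) ≫ pullback.snd αU αU :=
        sq.lift_snd _ _ hc
      rw [← Category.assoc, ← l2, Category.assoc, hz'', ← Category.assoc, l1, Category.assoc]
    rw [e1, e2]
  -- glue
  have hcov := DescGlueOpenSingle.singleton_mem αU
  obtain ⟨z, hz⟩ := SheafGlue.exists_glue_of_fpqc (fun _ : PUnit.{u + 1} => U') (fun _ => αU) hcov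
    (fun _ => z') (by
      intro _ _ T gi gj hg
      have e1 : pullback.lift gi gj hg ≫ pullback.fst αU αU = gi := pullback.lift_fst _ _ _
      have e2 : pullback.lift gi gj hg ≫ pullback.snd αU αU = gj := pullback.lift_snd _ _ _
      rw [← e1, Category.assoc, hcomp, ← Category.assoc, e2])
  have hz₀ : αU ≫ z = z' := hz PUnit.unit
  -- the base change of the covering
  haveI : Flat prV := MorphismProperty.of_isPullback (P := @Flat) sq.flip inferInstance
  haveI : Surjective prV := MorphismProperty.of_isPullback (P := @Surjective) sq.flip inferInstance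
  haveI : QuasiCompact prV := MorphismProperty.of_isPullback (P := @QuasiCompact) sq.flip inferInstance
  have hcov' := DescGlueOpenSingle.singleton_mem prV
  refine ⟨z, ?_, fun z₂ hz₂ => ?_⟩
  · refine SheafGlue.hom_ext_of_fpqc (fun _ : PUnit.{u + 1} => V') (fun _ => prV) hcov' _ _ (fun _ => ?_)
    rw [← Category.assoc, sq.w, Category.assoc, hz₀, hz'']
  · refine SheafGlue.hom_ext_of_fpqc (fun _ : PUnit.{u + 1} => U') (fun _ => αU) hcov _ _ (fun _ => ?_)
    rw [hz₀]
    apply huniq'
    show π' ≫ αU ≫ z₂ = prV ≫ m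
    rw [← Category.assoc, ← sq.w, Category.assoc, hz₂]

end Groth.Agent.Lib.Helper4.EqIntDesc
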