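import Mathlib
import Groth.Prelude.Def_W4bk4git07Quot
import Groth.Agent.Lib.Helper4.EqIntDesc2

/-!
# The sections clause of a geometric quotient, restricted maps form, and its descent (helper4)

* `sections_iff_secTop`: the sections clause of `GIT.IsGeomQuot` over an open `U` of `Y` is `SecTop` for the restricted maps.
* `sections_descent`: the sections clause descends along a flat, surjective, quasi-compact base change of `Y`, for
  quasi-compact quasi-separated `φ`.
-/

set_option autoImplicit false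
set_option linter.style.haveILetI false
set_option linter.unusedSectionVars false
set_option backward.isDefEq.respectTransparency false
universe u
open CategoryTheory MonoidalCategory CartesianMonoidalCategory MonObj AlgebraicGeometry
open CategoryTheory.Limits

namespace Groth.Agent.Lib.Helper4.EqIntDesc

open Groth.Agent.Lib.Helper4.TorsorFpqc4

section Restr

variable {S : Scheme.{u}} {G X Y : Over S} [GrpObj G] (a : AlgGrp.Action G X) (φ : X ⟶ Y)

/-- the preimage of `U` in `X` -/
abbrev VV (U : Y.left.Opens) : X.left.Opens := φ.left ⁻¹ᵁ U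

/-- the locus of `G × X` where both the action and the projection land in `φ⁻¹ U` -/
noncomputable abbrev WW (U : Y.left.Opens) : (G ⊗ X).left.Opens :=
  a.act.left ⁻¹ᵁ (VV φ U) ⊓ (snd G X).left ⁻¹ᵁ (VV φ U)

/-- the restriction of `φ` -/
noncomputable abbrev ππ (U : Y.left.Opens) : (VV φ U).toScheme ⟶ U.toScheme :=
  φ.left.resLE U (VV φ U) le_rfl

/-- the restriction of the action -/
noncomputable abbrev pp₁ (U : Y.left.Opens) : (WW a φ U).toScheme ⟶ (VV φ U).toScheme :=
  a.act.left.resLE (VV φ U) (WW a φ U) inf_le_left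

/-- the restriction of the projection -/
noncomputable abbrev pp₂ (U : Y.left.Opens) : (WW a φ U).toScheme ⟶ (VV φ U).toScheme :=
  (snd G X).left.resLE (VV φ U) (WW a φ U) inf_le_right

theorem pp_comp (hinv : GIT.IsInvariant a φ) (U : Y.left.Opens) :
    pp₁ a φ U ≫ ππ φ U = pp₂ a φ U ≫ ππ φ U := by
  rw [← cancel_mono U.ι]
  simp only [Category.assoc, Scheme.Hom.resLE_comp_ι, Scheme.Hom.resLE_comp_ι_assoc]
  rw [hinv.left]

/-- The sections clause over `U` in terms of the restricted maps. -/
theorem sections_iff_secTop (U : Y.left.Opens) :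
    (Function.Injective (φ.left.app U) ∧ Set.range (φ.left.app U) = {f | GIT.IsInvSection a φ U f}) ↔
      SecTop (ππ φ U) (pp₁ a φ U) (pp₂ a φ U) := by
  set V : X.left.Opens := VV φ U with hV
  set W₀ : (G ⊗ X).left.Opens := WW a φ U with hW₀
  set π : V.toScheme ⟶ U.toScheme := ππ φ U with hπ
  set p₁ : W₀.toScheme ⟶ V.toScheme := pp₁ a φ U with hp₁
  set p₂ : W₀.toScheme ⟶ V.toScheme := pp₂ a φ U with hp₂
  have eπ : U.topIso.inv ≫ π.appTop = φ.left.app U ≫ V.topIso.inv := by
    rw [Scheme.Hom.appTop, hπ, Scheme.Hom.resLE_app_top, Iso.inv_hom_id_assoc, ← Scheme.Hom.app_eq_appLE]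
  have ep₁ : V.topIso.inv ≫ p₁.appTop = a.act.left.appLE V W₀ inf_le_left ≫ W₀.topIso.inv := by
    rw [Scheme.Hom.appTop, hp₁, Scheme.Hom.resLE_app_top, Iso.inv_hom_id_assoc]
  have ep₂ : V.topIso.inv ≫ p₂.appTop = (snd G X).left.appLE V W₀ inf_le_right ≫ W₀.topIso.inv := by
    rw [Scheme.Hom.appTop, hp₂, Scheme.Hom.resLE_app_top, Iso.inv_hom_id_assoc]
  have kπ : ∀ c : Γ(Y.left, U), π.appTop.hom (U.topIso.inv.hom c) = V.topIso.inv.hom ((φ.left.app U).hom c) :=
    fun c => ConcreteCategory.congr_hom eπ c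
  have k₁ : ∀ f : Γ(X.left, V), p₁.appTop.hom (V.topIso.inv.hom f) =
      W₀.topIso.inv.hom ((a.act.left.appLE V W₀ inf_le_left).hom f) :=
    fun f => ConcreteCategory.congr_hom ep₁ f
  have k₂ : ∀ f : Γ(X.left, V), p₂.appTop.hom (V.topIso.inv.hom f) =
      W₀.topIso.inv.hom (((snd G X).left.appLE V W₀ inf_le_right).hom f) :=
    fun f => ConcreteCategory.congr_hom ep₂ f
  have injU : Function.Injective U.topIso.inv.hom :=
    (ConcreteCategory.bijective_of_isIso U.topIso.inv).1
  have injV : Function.Injective V.topIso.inv.hom :=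
    (ConcreteCategory.bijective_of_isIso V.topIso.inv).1
  have injW : Function.Injective W₀.topIso.inv.hom :=
    (ConcreteCategory.bijective_of_isIso W₀.topIso.inv).1
  have surjU : Function.Surjective U.topIso.inv.hom :=
    (ConcreteCategory.bijective_of_isIso U.topIso.inv).2
  have surjV : Function.Surjective V.topIso.inv.hom :=
    (ConcreteCategory.bijective_of_isIso V.topIso.inv).2
  have hinvsec : ∀ f : Γ(X.left, V), GIT.IsInvSection a φ U f ↔
      (a.act.left.appLE V W₀ inf_le_left).hom f = ((snd G X).left.appLE V W₀ inf_le_right).hom f :=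
    fun f => Iff.rfl
  constructor
  · rintro ⟨hi, hr⟩
    refine ⟨fun c₀ c₀' hcc => ?_, fun s => ⟨?_, fun hs => ?_⟩⟩
    · obtain ⟨c, rfl⟩ := surjU c₀
      obtain ⟨c', rfl⟩ := surjU c₀'
      rw [kπ, kπ] at hcc
      rw [hi (injV hcc)]
    · rintro ⟨c₀, rfl⟩
      obtain ⟨c, rfl⟩ := surjU c₀
      rw [kπ, k₁, k₂]
      have hmem : (φ.left.app U).hom c ∈ {f | GIT.IsInvSection a φ U f} := by
        rw [← hr]; exact ⟨c, rfl⟩
      exact congrArg _ ((hinvsec _).1 hmem)
    · obtain ⟨f, rfl⟩ := surjV s
      rw [k₁, k₂] at hs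
      have hmem : f ∈ Set.range (φ.left.app U) := by
        rw [hr]; exact (hinvsec f).2 (injW hs)
      obtain ⟨c, rfl⟩ := hmem
      exact ⟨U.topIso.inv.hom c, kπ c⟩
  · rintro ⟨hinj, hrange⟩
    refine ⟨fun c c' hcc => ?_, ?_⟩
    · apply injU
      apply hinj
      show π.appTop.hom (U.topIso.inv.hom c) = π.appTop.hom (U.topIso.inv.hom c')
      rw [kπ, kπ]
      exact congrArg _ hcc
    · ext f
      constructor
      · rintro ⟨c, rfl⟩
        show (a.act.left.appLE V W₀ inf_le_left).hom ((φ.left.app U).hom c) =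
          ((snd G X).left.appLE V W₀ inf_le_right).hom ((φ.left.app U).hom c)
        apply injW
        rw [← k₁, ← k₂]
        exact (hrange _).1 ⟨U.topIso.inv.hom c, kπ c⟩
      · intro hf
        have hf' : (a.act.left.appLE V W₀ inf_le_left).hom f =
          ((snd G X).left.appLE V W₀ inf_le_right).hom f := hf
        have h1 : p₁.appTop.hom (V.topIso.inv.hom f) = p₂.appTop.hom (V.topIso.inv.hom f) := by
          rw [k₁, k₂, hf']
        obtain ⟨c₀, hc₀⟩ := (hrange _).2 h1
        obtain ⟨c, rfl⟩ := surjU c₀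
        refine ⟨c, ?_⟩
        apply injV
        rw [← kπ]
        exact hc₀

end Restr

end Groth.Agent.Lib.Helper4.EqIntDesc
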