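import Mathlib
import Groth.Prelude.Def_W4bk4git07Quot
import Groth.Agent.Lib.Helper4.EqIntDesc3

/-!
# Descent of the sections clause of a geometric quotient along fpqc base change (helper4)
-/

set_option autoImplicit false
set_option linter.style.haveILetI false
set_option linter.unusedSectionVars false
set_option backward.isDefEq.respectTransparency false
universe u
open CategoryTheory MonoidalCategory CartesianMonoidalCategory MonObj AlgebraicGeometry
open CategoryTheory.Limits

namespace Groth.Agent.Lib.Helper4.EqIntDesc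

open Groth.Agent.Lib.Helper4.TorsorFpqc4

variable {S : Scheme.{u}} {G X Y X' Y' : Over S} [GrpObj G]
  {a : AlgGrp.Action G X} {φ : X ⟶ Y} {α : Y' ⟶ Y} {pr : X' ⟶ X} {φ' : X' ⟶ Y'} {a' : AlgGrp.Action G X'}

theorem isPullback_left' (hpb : IsPullback pr φ' φ α) : IsPullback pr.left φ'.left φ.left α.left :=
  hpb.map (Over.forget S)

theorem act_left_comp (heq : a'.act ≫ pr = (G ◁ pr) ≫ a.act) :
    a'.act.left ≫ pr.left = (G ◁ pr).left ≫ a.act.left := by
  rw [← Over.comp_left, ← Over.comp_left, heq]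

theorem snd_left_comp : (snd G X').left ≫ pr.left = (G ◁ pr).left ≫ (snd G X).left := by
  rw [← Over.comp_left, ← Over.comp_left, whiskerLeft_snd]

/-- injectivity on sections over opens of an open subscheme -/
theorem app_injective_restrict {X₀ Y₀ : Scheme.{u}} (f : X₀ ⟶ Y₀)
    (hinj : ∀ O : Y₀.Opens, Function.Injective (f.app O).hom) (U : Y₀.Opens) (O : U.toScheme.Opens) :
    Function.Injective ((f ∣_ U).app O).hom := by
  rw [morphismRestrict_app]
  have h2 : Function.Injective (X₀.presheaf.map (eqToHom (image_morphismRestrict_preimage f U O)).op).hom :=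
    (ConcreteCategory.bijective_of_isIso _).1
  exact h2.comp (hinj _)

/-- The sections clause descends along a flat, surjective, quasi-compact base change. -/
theorem sections_descent [QuasiCompact φ.left] [QuasiSeparated φ.left]
    [Flat α.left] [Surjective α.left] [QuasiCompact α.left]
    (hinv : GIT.IsInvariant a φ) (hpb : IsPullback pr φ' φ α)
    (heq : a'.act ≫ pr = (G ◁ pr) ≫ a.act)
    (h : ∀ U' : Y'.left.Opens, Function.Injective (φ'.left.app U') ∧
      Set.range (φ'.left.app U') = {f | GIT.IsInvSection a' φ' U' f})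
    (U : Y.left.Opens) :
    Function.Injective (φ.left.app U) ∧ Set.range (φ.left.app U) = {f | GIT.IsInvSection a φ U f} := by
  have hpbL := isPullback_left' hpb
  rw [sections_iff_secTop]
  refine secTop_of_invFun (pp_comp a φ hinv U) ?_
  -- the base changed open
  set U' : Y'.left.Opens := α.left ⁻¹ᵁ U with hU'
  have e : pr.left ⁻¹ᵁ (φ.left ⁻¹ᵁ U) = φ'.left ⁻¹ᵁ (α.left ⁻¹ᵁ U) := by
    rw [← Scheme.Hom.comp_preimage, ← Scheme.Hom.comp_preimage, hpbL.w]
  have hVV : VV φ' U' = pr.left ⁻¹ᵁ (VV φ U) ⊓ φ'.left ⁻¹ᵁ U' := by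
    show φ'.left ⁻¹ᵁ U' = pr.left ⁻¹ᵁ (φ.left ⁻¹ᵁ U) ⊓ φ'.left ⁻¹ᵁ U'
    rw [e]; exact (inf_idem _).symm
  have hle : VV φ' U' ≤ pr.left ⁻¹ᵁ (VV φ U) := by rw [hVV]; exact inf_le_left
  have sq := Scheme.Hom.isPullback_resLE hpbL (US := U) (UT := U') (UX := VV φ U) (UY := VV φ' U')
    le_rfl le_rfl hVV
  -- the restricted covering
  have hαU : α.left.resLE U U' le_rfl = α.left ∣_ U := Scheme.Hom.resLE_eq_morphismRestrict _
  haveI : Flat (α.left.resLE U U' le_rfl) := by rw [hαU]; infer_instance
  haveI : QuasiCompact (α.left.resLE U U' le_rfl) := by rw [hαU]; infer_instance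
  haveI : Surjective (α.left.resLE U U' le_rfl) := by
    rw [hαU]
    exact AlgebraicGeometry.IsZariskiLocalAtTarget.restrict (P := @Surjective) inferInstance U
  -- properties of the restriction of `φ'`
  haveI : QuasiCompact φ'.left := MorphismProperty.of_isPullback (P := @QuasiCompact) hpbL inferInstance
  haveI : QuasiSeparated φ'.left := MorphismProperty.of_isPullback (P := @QuasiSeparated) hpbL inferInstance
  have hπ' : ππ φ' U' = φ'.left ∣_ U' := Scheme.Hom.resLE_eq_morphismRestrict _
  haveI : QuasiCompact (ππ φ' U') := by rw [hπ']; infer_instance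
  haveI : QuasiSeparated (ππ φ' U') := by rw [hπ']; infer_instance
  have hinjO : ∀ O : U'.toScheme.Opens, Function.Injective ((ππ φ' U').app O).hom := by
    intro O
    rw [hπ']
    exact app_injective_restrict φ'.left (fun O' => (h O').1) U' O
  -- the map between the loci in `G × X'` and `G × X`
  have hWle : WW a' φ' U' ≤ (G ◁ pr).left ⁻¹ᵁ (WW a φ U) := by
    intro x hx
    refine ⟨?_, ?_⟩
    · show a.act.left.base ((G ◁ pr).left.base x) ∈ VV φ U
      have : a.act.left.base ((G ◁ pr).left.base x) = pr.left.base (a'.act.left.base x) := by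
        rw [← Scheme.Hom.comp_apply, ← Scheme.Hom.comp_apply, act_left_comp heq]
      rw [this]
      exact hle hx.1
    · show (snd G X).left.base ((G ◁ pr).left.base x) ∈ VV φ U
      have : (snd G X).left.base ((G ◁ pr).left.base x) = pr.left.base ((snd G X').left.base x) := by
        rw [← Scheme.Hom.comp_apply, ← Scheme.Hom.comp_apply, snd_left_comp]
      rw [this]
      exact hle hx.2
  have h₁ : pp₁ a' φ' U' ≫ pr.left.resLE (VV φ U) (VV φ' U') hle =
      (G ◁ pr).left.resLE (WW a φ U) (WW a' φ' U') hWle ≫ pp₁ a φ U := by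
    rw [← cancel_mono (VV φ U).ι]
    simp only [Category.assoc, Scheme.Hom.resLE_comp_ι, Scheme.Hom.resLE_comp_ι_assoc]
    rw [act_left_comp heq]
  have h₂ : pp₂ a' φ' U' ≫ pr.left.resLE (VV φ U) (VV φ' U') hle =
      (G ◁ pr).left.resLE (WW a φ U) (WW a' φ' U') hWle ≫ pp₂ a φ U := by
    rw [← cancel_mono (VV φ U).ι]
    simp only [Category.assoc, Scheme.Hom.resLE_comp_ι, Scheme.Hom.resLE_comp_ι_assoc]
    rw [snd_left_comp]
  refine invFun_descent (ππ φ U) (pp₁ a φ U) (pp₂ a φ U) (α.left.resLE U U' le_rfl)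
    (pr.left.resLE (VV φ U) (VV φ' U') hle) (ππ φ' U') sq (pp₁ a' φ' U') (pp₂ a' φ' U')
    ((G ◁ pr).left.resLE (WW a φ U) (WW a' φ' U') hWle) h₁ h₂ ?_ ?_
  · intro T g _ a₀ b₀ hab
    exact a1_cancel_of_flat_baseChange (ππ φ' U') hinjO g a₀ b₀ hab
  · exact invFun_of_secTop ((sections_iff_secTop a' φ' U').1 (h U'))

end Groth.Agent.Lib.Helper4.EqIntDesc
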