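import Mathlib
import Groth.Prelude.Def_W4bk4git07Quot
import Groth.Agent.Lib.Helper4.EqIntDesc4

/-!
# Geometric quotients descend along fpqc base change (helper4)

`isGeomQuot_descent`: `φ : X ⟶ Y` invariant, quasi-compact and quasi-separated, `α : Y' ⟶ Y` flat, surjective and
quasi-compact, `X' = X ×_Y Y'` with an action making `X' ⟶ X` equivariant; if `X' ⟶ Y'` is a geometric quotient then so is `φ`.
-/

set_option autoImplicit false
set_option linter.style.haveILetI false
set_option linter.unusedSectionVars false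
set_option backward.isDefEq.respectTransparency false
universe u
open CategoryTheory MonoidalCategory CartesianMonoidalCategory MonObj AlgebraicGeometry
open CategoryTheory.Limits

namespace Groth.Agent.Lib.Helper4.EqIntDesc

variable {S : Scheme.{u}} {G X Y X' Y' : Over S} [GrpObj G]
  {a : AlgGrp.Action G X} {φ : X ⟶ Y} {α : Y' ⟶ Y} {pr : X' ⟶ X} {φ' : X' ⟶ Y'} {a' : AlgGrp.Action G X'}

theorem surjective_descent [Surjective α.left] (hpb : IsPullback pr φ' φ α)
    (hs : Function.Surjective φ'.left.base) : Function.Surjective φ.left.base := by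
  have hpbL := isPullback_left' hpb
  intro y
  obtain ⟨y', rfl⟩ := α.left.surjective y
  obtain ⟨x', rfl⟩ := hs y'
  refine ⟨pr.left.base x', ?_⟩
  show (pr.left ≫ φ.left).base x' = (φ'.left ≫ α.left).base x'
  rw [hpbL.w]

theorem orbit_descent [Surjective α.left] (hinv : GIT.IsInvariant a φ) (hpb : IsPullback pr φ' φ α)
    (heq : a'.act ≫ pr = (G ◁ pr) ≫ a.act) (hinv' : GIT.IsInvariant a' φ')
    (ho : Function.Surjective (GIT.PsiY a' φ' hinv').base) :
    Function.Surjective (GIT.PsiY a φ hinv).base := by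
  have hpbL := isPullback_left' hpb
  -- the comparison of fibre squares
  have hm : (pullback.fst φ'.left φ'.left ≫ pr.left) ≫ φ.left =
      (pullback.snd φ'.left φ'.left ≫ pr.left) ≫ φ.left := by
    rw [Category.assoc, Category.assoc, hpbL.w, ← Category.assoc, ← Category.assoc, pullback.condition]
  let m : pullback φ'.left φ'.left ⟶ pullback φ.left φ.left := pullback.lift _ _ hm
  have hm1 : m ≫ pullback.fst φ.left φ.left = pullback.fst φ'.left φ'.left ≫ pr.left := pullback.lift_fst _ _ _
  have hm2 : m ≫ pullback.snd φ.left φ.left = pullback.snd φ'.left φ'.left ≫ pr.left := pullback.lift_snd _ _ _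
  have hΨ : GIT.PsiY a' φ' hinv' ≫ m = (G ◁ pr).left ≫ GIT.PsiY a φ hinv := by
    apply pullback.hom_ext
    · rw [Category.assoc, hm1, Category.assoc]
      simp only [GIT.PsiY, pullback.lift_fst, pullback.lift_fst_assoc]
      exact act_left_comp heq
    · rw [Category.assoc, hm2, Category.assoc]
      simp only [GIT.PsiY, pullback.lift_snd, pullback.lift_snd_assoc]
      exact snd_left_comp
  -- a surjection onto the fibre square of `φ` factoring through `m`
  let Q := pullback (pullback.fst φ.left φ.left ≫ φ.left) α.left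
  let qf : Q ⟶ pullback φ.left φ.left := pullback.fst _ _
  let qs : Q ⟶ Y'.left := pullback.snd _ _
  have hq : qf ≫ pullback.fst φ.left φ.left ≫ φ.left = qs ≫ α.left := pullback.condition
  have c1 : (qf ≫ pullback.fst φ.left φ.left) ≫ φ.left = qs ≫ α.left := by rw [Category.assoc, hq]
  have c2 : (qf ≫ pullback.snd φ.left φ.left) ≫ φ.left = qs ≫ α.left := by
    rw [Category.assoc, ← pullback.condition, hq]
  have hl : hpbL.lift _ _ c1 ≫ φ'.left = hpbL.lift _ _ c2 ≫ φ'.left := by
    rw [hpbL.lift_snd, hpbL.lift_snd]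
  let l : Q ⟶ pullback φ'.left φ'.left := pullback.lift _ _ hl
  have hlm : l ≫ m = qf := by
    apply pullback.hom_ext
    · rw [Category.assoc, hm1, ← Category.assoc]
      simp only [l, pullback.lift_fst]
      exact hpbL.lift_fst _ _ c1
    · rw [Category.assoc, hm2, ← Category.assoc]
      simp only [l, pullback.lift_snd]
      exact hpbL.lift_fst _ _ c2
  intro z
  obtain ⟨q, rfl⟩ := qf.surjective z
  obtain ⟨w', hw'⟩ := ho (l.base q)
  refine ⟨(G ◁ pr).left.base w', ?_⟩
  have e1 : (GIT.PsiY a φ hinv).base ((G ◁ pr).left.base w') =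
      ((G ◁ pr).left ≫ GIT.PsiY a φ hinv).base w' := rfl
  have e2 : (GIT.PsiY a' φ' hinv' ≫ m).base w' = m.base ((GIT.PsiY a' φ' hinv').base w') := rfl
  rw [e1, ← hΨ, e2, hw']
  show (l ≫ m).base q = qf.base q
  rw [hlm]

theorem subm_descent [Flat α.left] [Surjective α.left] [QuasiCompact α.left]
    (hpb : IsPullback pr φ' φ α) (hsub : GIT.IsUnivSubmersive φ'.left) :
    GIT.IsUnivSubmersive φ.left := by
  have hpbL := isPullback_left' hpb
  intro X₁ Z i₁ i₂ f₁ sq
  let bZ : pullback i₂ α.left ⟶ Z := pullback.fst _ _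
  let gY : pullback i₂ α.left ⟶ Y'.left := pullback.snd _ _
  let dX : pullback f₁ bZ ⟶ X₁ := pullback.fst _ _
  let f₁' : pullback f₁ bZ ⟶ pullback i₂ α.left := pullback.snd _ _
  have hbZgY : bZ ≫ i₂ = gY ≫ α.left := pullback.condition
  have hdX : dX ≫ f₁ = f₁' ≫ bZ := pullback.condition
  have hk : (dX ≫ i₁) ≫ φ.left = (f₁' ≫ gY) ≫ α.left := by
    rw [Category.assoc, ← sq.w, ← Category.assoc, hdX, Category.assoc, hbZgY, Category.assoc]
  let k : pullback f₁ bZ ⟶ X'.left := hpbL.lift _ _ hk
  have hk1 : k ≫ pr.left = dX ≫ i₁ := hpbL.lift_fst _ _ hk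
  have hk2 : k ≫ φ'.left = f₁' ≫ gY := hpbL.lift_snd _ _ hk
  -- the base change of `φ'`
  have sq1 : IsPullback dX f₁' f₁ bZ := IsPullback.of_hasPullback _ _
  have sq2 : IsPullback bZ gY i₂ α.left := IsPullback.of_hasPullback _ _
  have big : IsPullback (dX ≫ i₁) f₁' φ.left (bZ ≫ i₂) := sq1.paste_horiz sq.flip
  have big' : IsPullback (k ≫ pr.left) f₁' φ.left (gY ≫ α.left) := by
    rw [hk1, ← hbZgY]; exact big
  have sq3 : IsPullback k f₁' φ'.left gY := IsPullback.of_right big' hk2 hpbL
  have hq' : Topology.IsQuotientMap f₁' := hsub k gY f₁' sq3.flip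
  haveI : Flat bZ := inferInstance
  haveI : Surjective bZ := inferInstance
  haveI : QuasiCompact bZ := inferInstance
  have hqbZ : Topology.IsQuotientMap bZ := Flat.isQuotientMap_of_surjective bZ
  have hcomp : Topology.IsQuotientMap (f₁ ∘ dX) := by
    have e : (f₁ ∘ dX : _ → _) = (bZ ∘ f₁' : _ → _) := by
      ext x
      show (dX ≫ f₁).base x = (f₁' ≫ bZ).base x
      rw [hdX]
    rw [e]
    exact hqbZ.comp hq'
  exact Topology.IsQuotientMap.of_comp dX.continuous f₁.continuous hcomp

/-- Geometric quotients descend along flat, surjective, quasi-compact base change. -/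
theorem isGeomQuot_descent [QuasiCompact φ.left] [QuasiSeparated φ.left]
    [Flat α.left] [Surjective α.left] [QuasiCompact α.left]
    (hinv : GIT.IsInvariant a φ) (hpb : IsPullback pr φ' φ α)
    (heq : a'.act ≫ pr = (G ◁ pr) ≫ a.act) (h : GIT.IsGeomQuot a' φ') : GIT.IsGeomQuot a φ :=
  ⟨hinv, surjective_descent hpb h.surj, orbit_descent hinv hpb heq h.inv h.orbit,
    subm_descent hpb h.subm, sections_descent hinv hpb heq h.sections⟩

end Groth.Agent.Lib.Helper4.EqIntDesc
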