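import Mathlib
import Groth.Prelude.Def_W4bk4git07Quot
import Groth.Agent.Lib.Helper4.EqIntDesc5

/-!
# The induced action on a base change, and descent of universal geometric quotients (helper4)
-/

set_option autoImplicit false
set_option linter.style.haveILetI false
set_option linter.unusedSectionVars false
set_option backward.isDefEq.respectTransparency false
universe u
open CategoryTheory MonoidalCategory CartesianMonoidalCategory MonObj AlgebraicGeometry
open CategoryTheory.Limits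

namespace Groth.Agent.Lib.Helper4.EqIntDesc

variable {S : Scheme.{u}} {G : Over S} [GrpObj G]

section BC

variable {X₁ Y₁ X₁' Y₁' : Over S}

theorem bc_cond (a₁ : AlgGrp.Action G X₁) {φ₁ : X₁ ⟶ Y₁} (hinv₁ : GIT.IsInvariant a₁ φ₁)
    {α₁ : Y₁' ⟶ Y₁} {pr' : X₁' ⟶ X₁} {φ₁' : X₁' ⟶ Y₁'} (hpb : IsPullback pr' φ₁' φ₁ α₁) :
    ((G ◁ pr') ≫ a₁.act) ≫ φ₁ = (snd G X₁' ≫ φ₁') ≫ α₁ := by
  have h : a₁.act ≫ φ₁ = snd G X₁ ≫ φ₁ := hinv₁
  rw [Category.assoc, h, ← Category.assoc, whiskerLeft_snd, Category.assoc, hpb.w, Category.assoc]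

/-- The induced action on a base change of an invariant morphism. -/
noncomputable def bcAction (a₁ : AlgGrp.Action G X₁) {φ₁ : X₁ ⟶ Y₁} (hinv₁ : GIT.IsInvariant a₁ φ₁)
    {α₁ : Y₁' ⟶ Y₁} {pr' : X₁' ⟶ X₁} {φ₁' : X₁' ⟶ Y₁'} (hpb : IsPullback pr' φ₁' φ₁ α₁) :
    AlgGrp.Action G X₁' where
  act := hpb.lift ((G ◁ pr') ≫ a₁.act) (snd G X₁' ≫ φ₁') (bc_cond a₁ hinv₁ hpb)
  one_act := by
    apply hpb.hom_ext
    · rw [Category.assoc, hpb.lift_fst, ← Category.assoc, ← whisker_exchange, Category.assoc, a₁.one_act]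
      exact leftUnitor_naturality pr'
    · rw [Category.assoc, hpb.lift_snd, ← Category.assoc, whiskerRight_snd]
      rw [leftUnitor_hom]
  mul_act := by
    apply hpb.hom_ext
    · simp only [Category.assoc, hpb.lift_fst]
      rw [← Category.assoc, ← whisker_exchange, Category.assoc, a₁.mul_act]
      rw [← whiskerLeft_comp_assoc, hpb.lift_fst, whiskerLeft_comp_assoc]
      simp
    · simp only [Category.assoc, hpb.lift_snd]
      rw [← Category.assoc (G ◁ _), whiskerLeft_snd, Category.assoc, hpb.lift_snd]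
      simp

theorem bcAction_act_fst (a₁ : AlgGrp.Action G X₁) {φ₁ : X₁ ⟶ Y₁} (hinv₁ : GIT.IsInvariant a₁ φ₁)
    {α₁ : Y₁' ⟶ Y₁} {pr' : X₁' ⟶ X₁} {φ₁' : X₁' ⟶ Y₁'} (hpb : IsPullback pr' φ₁' φ₁ α₁) :
    (bcAction a₁ hinv₁ hpb).act ≫ pr' = (G ◁ pr') ≫ a₁.act := hpb.lift_fst _ _ _

theorem bcAction_act_snd (a₁ : AlgGrp.Action G X₁) {φ₁ : X₁ ⟶ Y₁} (hinv₁ : GIT.IsInvariant a₁ φ₁)
    {α₁ : Y₁' ⟶ Y₁} {pr' : X₁' ⟶ X₁} {φ₁' : X₁' ⟶ Y₁'} (hpb : IsPullback pr' φ₁' φ₁ α₁) :
    (bcAction a₁ hinv₁ hpb).act ≫ φ₁' = snd G X₁' ≫ φ₁' := hpb.lift_snd _ _ _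

end BC

variable {X Y X' Y' : Over S}
  {a : AlgGrp.Action G X} {φ : X ⟶ Y} {α : Y' ⟶ Y} {pr : X' ⟶ X} {φ' : X' ⟶ Y'} {a' : AlgGrp.Action G X'}

/-- Universal geometric quotients descend along flat, surjective, quasi-compact base change. -/
theorem isUnivGeomQuot_descent [QuasiCompact φ.left] [QuasiSeparated φ.left]
    [Flat α.left] [Surjective α.left] [QuasiCompact α.left]
    (hinv : GIT.IsInvariant a φ) (hpb : IsPullback pr φ' φ α)
    (heq : a'.act ≫ pr = (G ◁ pr) ≫ a.act) (hinv' : GIT.IsInvariant a' φ')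
    (h : GIT.IsUnivGeomQuot a' φ') : GIT.IsUnivGeomQuot a φ := by
  refine ⟨isGeomQuot_descent hinv hpb heq h.1, ?_⟩
  intro X₁ Y₁ pr₁ φ₁ g _ hpb₁ a₁ heq₁ hinv₁
  -- the base changed covering
  have hpbα : IsPullback (pullback.fst g α) (pullback.snd g α) g α := IsPullback.of_hasPullback g α
  have hpbαL := isPullback_left' hpbα
  haveI : Flat (pullback.fst g α).left := MorphismProperty.of_isPullback (P := @Flat) hpbαL.flip inferInstance
  haveI : Surjective (pullback.fst g α).left :=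
    MorphismProperty.of_isPullback (P := @Surjective) hpbαL.flip inferInstance
  haveI : QuasiCompact (pullback.fst g α).left :=
    MorphismProperty.of_isPullback (P := @QuasiCompact) hpbαL.flip inferInstance
  have hpb₁L := isPullback_left' hpb₁
  haveI : QuasiCompact φ₁.left := MorphismProperty.of_isPullback (P := @QuasiCompact) hpb₁L inferInstance
  haveI : QuasiSeparated φ₁.left :=
    MorphismProperty.of_isPullback (P := @QuasiSeparated) hpb₁L inferInstance
  have hpb' : IsPullback (pullback.fst φ₁ (pullback.fst g α)) (pullback.snd φ₁ (pullback.fst g α)) φ₁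
      (pullback.fst g α) := IsPullback.of_hasPullback _ _
  refine isGeomQuot_descent (a' := bcAction a₁ hinv₁ hpb') hinv₁ hpb' (bcAction_act_fst a₁ hinv₁ hpb') ?_
  -- the comparison with the base change of `φ'`
  have hk : (pullback.fst φ₁ (pullback.fst g α) ≫ pr₁) ≫ φ =
      (pullback.snd φ₁ (pullback.fst g α) ≫ pullback.snd g α) ≫ α := by
    rw [Category.assoc, hpb₁.w, ← Category.assoc, hpb'.w, Category.assoc, Category.assoc, hpbα.w]
  have hk1 : hpb.lift _ _ hk ≫ pr = pullback.fst φ₁ (pullback.fst g α) ≫ pr₁ := hpb.lift_fst _ _ hk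
  have hk2 : hpb.lift _ _ hk ≫ φ' = pullback.snd φ₁ (pullback.fst g α) ≫ pullback.snd g α :=
    hpb.lift_snd _ _ hk
  have big : IsPullback (pullback.fst φ₁ (pullback.fst g α) ≫ pr₁) (pullback.snd φ₁ (pullback.fst g α)) φ
      (pullback.fst g α ≫ g) := hpb'.paste_horiz hpb₁
  have big' : IsPullback (hpb.lift _ _ hk ≫ pr) (pullback.snd φ₁ (pullback.fst g α)) φ
      (pullback.snd g α ≫ α) := by
    rw [hk1, ← hpbα.w]; exact big
  have sq3 : IsPullback (hpb.lift _ _ hk) (pullback.snd φ₁ (pullback.fst g α)) φ' (pullback.snd g α) :=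
    IsPullback.of_right big' hk2 hpb
  refine h.2 (hpb.lift _ _ hk) (pullback.snd φ₁ (pullback.fst g α)) (pullback.snd g α) trivial sq3
    (bcAction a₁ hinv₁ hpb') ?_ (bcAction_act_snd a₁ hinv₁ hpb')
  apply hpb.hom_ext
  · rw [Category.assoc, hk1, ← Category.assoc, bcAction_act_fst, Category.assoc, heq₁, Category.assoc, heq,
      ← whiskerLeft_comp_assoc, ← whiskerLeft_comp_assoc, hk1]
  · have hi : a'.act ≫ φ' = snd G X' ≫ φ' := hinv'
    rw [Category.assoc, hk2, ← Category.assoc, bcAction_act_snd, Category.assoc, Category.assoc, hi,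
      ← Category.assoc (G ◁ _), whiskerLeft_snd, Category.assoc, hk2]

end Groth.Agent.Lib.Helper4.EqIntDesc
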