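import Mathlib
import Groth.Prelude.Def_Grpd

/-!
# The groupoid scheme of a jointly monic equivalence relation

`ofEqv`: schemes `U`, `R` over `S`, `s t : R ⟶ U` jointly monic on `T`-points, with a reflexivity map `e`, a symmetry
`i` and a transitivity map `c`: a groupoid scheme over `S` (all axioms follow from joint monicity).
-/

set_option backward.isDefEq.respectTransparency false
set_option autoImplicit false
set_option linter.style.haveILetI false
set_option linter.unusedSectionVars false

universe u
open CategoryTheory CategoryTheory.Limits AlgebraicGeometry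

namespace Groth.Agent.Lib.Helper4.EqvGrpd

variable {S U R : Scheme.{u}} (pU : U ⟶ S) (s t : R ⟶ U) (e : U ⟶ R) (i : R ⟶ R) (c : pullback s t ⟶ R)

/-- the groupoid scheme of a jointly monic equivalence relation -/
noncomputable def ofEqv
    (hJ : ∀ ⦃T : Scheme.{u}⦄ (a b : T ⟶ R), a ≫ t = b ≫ t → a ≫ s = b ≫ s → a = b)
    (e_s : e ≫ s = 𝟙 U) (e_t : e ≫ t = 𝟙 U) (i_s : i ≫ s = t) (i_t : i ≫ t = s)
    (c_s : c ≫ s = pullback.snd s t ≫ s) (c_t : c ≫ t = pullback.fst s t ≫ t)
    (hst : s ≫ pU = t ≫ pU) : Grpd.GroupoidScheme S where
  U := U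
  R := R
  pU := pU
  pR := s ≫ pU
  s := s
  t := t
  e := e
  i := i
  c := c
  s_over := rfl
  t_over := hst.symm
  comp_s := fun α β h => by
    rw [Category.assoc, c_s, pullback.lift_snd_assoc]
  comp_t := fun α β h => by
    rw [Category.assoc, c_t, pullback.lift_fst_assoc]
  assoc := fun α β γ h₁ h₂ => by
    apply hJ
    · simp only [Category.assoc, c_t, pullback.lift_fst_assoc]
    · simp only [Category.assoc, c_s, pullback.lift_snd_assoc]
  e_s := e_s
  e_t := e_t
  comp_e := fun α => by
    apply hJ
    · simp only [Category.assoc, c_t, pullback.lift_fst_assoc]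
    · simp only [Category.assoc, c_s, pullback.lift_snd_assoc, e_s, Category.comp_id]
  e_comp := fun α => by
    apply hJ
    · simp only [Category.assoc, c_t, pullback.lift_fst_assoc, e_t, Category.comp_id]
    · simp only [Category.assoc, c_s, pullback.lift_snd_assoc]
  i_s := i_s
  i_t := i_t
  comp_i := fun α => by
    apply hJ
    · simp only [Category.assoc, c_t, pullback.lift_fst_assoc, e_t, Category.comp_id]
    · simp only [Category.assoc, c_s, pullback.lift_snd_assoc, i_s, e_s, Category.comp_id]
  i_comp := fun α => by
    apply hJ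
    · simp only [Category.assoc, c_t, pullback.lift_fst_assoc, i_t, e_t, Category.comp_id]
    · simp only [Category.assoc, c_s, pullback.lift_snd_assoc, e_s, Category.comp_id]

end Groth.Agent.Lib.Helper4.EqvGrpd
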