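import Mathlib

/-!
# Quasi-finite points: isolated points of fibres, finite fibres and base change (helper4)

* `quasiFiniteAt_of_isolated`, `exists_isolating_open`: for `f` locally of finite type, `f` is
  quasi-finite at `x` iff `x` is isolated in its fibre.
* `quasiFiniteAt_of_finite_fibre`, `quasiFiniteAt_comp`.
* `isFinite_fiberToSpecResidueField_of_finite`: a finite fibre of a morphism locally of finite type
  is a finite scheme over the residue field.
* `finite_preimage_of_isPullback`: finiteness of a fibre is stable under base change.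
-/

set_option backward.isDefEq.respectTransparency false
set_option autoImplicit false
set_option linter.style.haveILetI false
set_option linter.unusedSectionVars false

universe u
open CategoryTheory CategoryTheory.Limits AlgebraicGeometry

namespace Groth.Agent.Lib.Helper4.EtLocGrpd

variable {X Y : Scheme.{u}} (f : X ⟶ Y)

/-- A point which is isolated in its fibre is a quasi-finite point. -/
theorem quasiFiniteAt_of_isolated [LocallyOfFiniteType f] (x : X) (V : X.Opens) (hxV : x ∈ V)
    (hV : ∀ z ∈ V, f z = f x → z = x) : f.QuasiFiniteAt x := by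
  rw [Scheme.Hom.quasiFiniteAt_iff_isOpen_singleton_asFiber]
  have h1 : {f.asFiber x} = (f.fiberι (f x)) ⁻¹' (V : Set X) := by
    ext z
    simp only [Set.mem_singleton_iff, Set.mem_preimage, SetLike.mem_coe]
    constructor
    · rintro rfl
      rw [Scheme.Hom.fiberι_asFiber]; exact hxV
    · intro hz
      have hz2 : f (f.fiberι (f x) z) = f x := by
        have := (f.fiberHomeo (f x) z).2
        simpa using this
      have h3 := hV _ hz hz2
      apply (f.fiberι (f x)).isEmbedding.injective
      rw [h3, Scheme.Hom.fiberι_asFiber]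
  rw [h1]
  exact V.2.preimage (f.fiberι (f x)).continuous

theorem exists_isolating_open [LocallyOfFiniteType f] (x : X) (hx : f.QuasiFiniteAt x) :
    ∃ V : X.Opens, x ∈ V ∧ ∀ z ∈ V, f z = f x → z = x := by
  rw [Scheme.Hom.quasiFiniteAt_iff_isOpen_singleton_asFiber] at hx
  obtain ⟨V, hV, hVeq⟩ := (f.fiberι (f x)).isEmbedding.isOpen_iff.mp hx
  refine ⟨⟨V, hV⟩, ?_, ?_⟩
  · have : f.asFiber x ∈ (f.fiberι (f x)) ⁻¹' V := by rw [hVeq]; rfl
    simpa using this
  · intro z hz hfz
    have hz' : (f.fiberHomeo (f x)).symm ⟨z, hfz⟩ ∈ (f.fiberι (f x)) ⁻¹' V := by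
      simp only [Set.mem_preimage, Scheme.Hom.fiberι_fiberHomeo_symm]
      exact hz
    rw [hVeq] at hz'
    have h2 := congrArg (f.fiberι (f x)) (Set.mem_singleton_iff.mp hz')
    simpa using h2

theorem quasiFiniteAt_of_finite_fibre [LocallyOfFiniteType f] (x : X)
    (h : (f ⁻¹' {f x}).Finite) : f.QuasiFiniteAt x := by
  have : Finite (f.fiber (f x)) := (f.fiberHomeo (f x)).finite_iff.mpr h
  exact Scheme.Hom.quasiFiniteAt_iff_isOpen_singleton_asFiber.mpr (isOpen_discrete _)

theorem quasiFiniteAt_comp {Z : Scheme.{u}} (g : Y ⟶ Z) (x : X) (h1 : f.QuasiFiniteAt x)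
    (h2 : g.QuasiFiniteAt (f x)) : (f ≫ g).QuasiFiniteAt x := by
  simp only [Scheme.Hom.QuasiFiniteAt, Scheme.Hom.stalkMap_comp, CommRingCat.hom_comp] at *
  exact RingHom.QuasiFinite.comp h1 h2

theorem isFinite_fiberToSpecResidueField_of_finite [LocallyOfFiniteType f] (y : Y)
    (h : (f ⁻¹' {y}).Finite) : IsFinite (f.fiberToSpecResidueField y) := by
  have hF : Finite (f.fiber y) := (f.fiberHomeo y).finite_iff.mpr h
  haveI : LocallyOfFiniteType (f.fiberToSpecResidueField y) :=
    MorphismProperty.pullback_snd _ _ inferInstance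
  haveI : LocallyQuasiFinite (f.fiberToSpecResidueField y) :=
    LocallyQuasiFinite.of_finite_preimage_singleton _ (fun _ => Set.toFinite _)
  haveI : CompactSpace (f.fiber y) := Finite.compactSpace
  haveI : QuasiCompact (f.fiberToSpecResidueField y) :=
    HasAffineProperty.iff_of_isAffine (P := @QuasiCompact)
      (f := f.fiberToSpecResidueField y).mpr inferInstance
  exact IsFinite.of_locallyQuasiFinite _

theorem finite_preimage_of_isPullback {P X Y Z : Scheme.{u}} {fst : P ⟶ X} {snd : P ⟶ Y}
    {f : X ⟶ Z} {g : Y ⟶ Z} [LocallyOfFiniteType f] (h : IsPullback fst snd f g) (y : Y)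
    (hfin : (f ⁻¹' {g y}).Finite) : (snd ⁻¹' {y}).Finite := by
  have h1 := isFinite_fiberToSpecResidueField_of_finite f (g y) hfin
  have h2 : IsFinite (snd.fiberToSpecResidueField y) :=
    MorphismProperty.of_isPullback (isPullback_fiberToSpecResidueField_of_isPullback h y) h1
  have h3 := (snd.fiberToSpecResidueField y).finite_preimage_singleton
    (IsLocalRing.closedPoint (Y.residueField y))
  have h4 : Finite (snd.fiber y) := by
    have : (snd.fiberToSpecResidueField y) ⁻¹' {IsLocalRing.closedPoint (Y.residueField y)} =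
        Set.univ := by
      ext z
      simp [Scheme.Hom.fiberToSpecResidueField_apply]
    rw [this] at h3
    exact Set.finite_univ_iff.mp h3
  exact (snd.fiberHomeo y).finite_iff.mp h4

end Groth.Agent.Lib.Helper4.EtLocGrpd
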