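import Mathlib
import Groth.Prelude.Def_Grpd
import Groth.Agent.S7457
import Groth.Agent.Lib.Helper4.EtLocGrpd1

/-!
# Orbits of points in groupoid schemes: finiteness and quasi-finiteness (helper4)

For a groupoid scheme `(U, R, s, t, c)` over `S` and a point `u` of `U` with `s⁻¹{u}` finite:
* `orbit G u = t(s⁻¹{u})`, `orbR G u = s⁻¹(orbit)`; both are finite (`finite_orbit`, `finite_orbR`);
* `t` maps `orbR` into `orbit` (`t_mem_orbit`);
* if `U → S` is quasi-finite at `u` then it is quasi-finite at every point of the orbit and `R → S`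
  is quasi-finite at every point of `orbR`.
-/

set_option backward.isDefEq.respectTransparency false
set_option autoImplicit false
set_option linter.style.haveILetI false
set_option linter.unusedSectionVars false

universe u
open CategoryTheory CategoryTheory.Limits AlgebraicGeometry

namespace Groth.Agent.Lib.Helper4.EtLocGrpd

variable {S : Scheme.{u}} (G : Grpd.GroupoidScheme S) (u : G.U)

/-- The orbit `t(s⁻¹{u})` of a point. -/
def orbit : Set G.U := G.t '' (G.s ⁻¹' {u})

/-- The arrows whose source lies in the orbit of `u`. -/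
def orbR : Set G.R := G.s ⁻¹' (orbit G u)

theorem c_s : G.c ≫ G.s = pullback.snd G.s G.t ≫ G.s := by
  have h := G.comp_s (pullback.fst G.s G.t) (pullback.snd G.s G.t) pullback.condition
  have e : pullback.lift (pullback.fst G.s G.t) (pullback.snd G.s G.t) pullback.condition =
      𝟙 _ := by apply pullback.hom_ext <;> simp
  rwa [e, Category.id_comp] at h

theorem c_t : G.c ≫ G.t = pullback.fst G.s G.t ≫ G.t := by
  have h := G.comp_t (pullback.fst G.s G.t) (pullback.snd G.s G.t) pullback.condition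
  have e : pullback.lift (pullback.fst G.s G.t) (pullback.snd G.s G.t) pullback.condition =
      𝟙 _ := by apply pullback.hom_ext <;> simp
  rwa [e, Category.id_comp] at h

theorem s_e_apply (x : G.U) : G.s (G.e x) = x := by
  rw [← Scheme.Hom.comp_apply, G.e_s]; rfl

theorem t_e_apply (x : G.U) : G.t (G.e x) = x := by
  rw [← Scheme.Hom.comp_apply, G.e_t]; rfl

theorem pU_s_apply (r : G.R) : G.pU (G.s r) = G.pR r := by
  rw [← Scheme.Hom.comp_apply, G.s_over]

theorem pU_t_apply (r : G.R) : G.pU (G.t r) = G.pR r := by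
  rw [← Scheme.Hom.comp_apply, G.t_over]

theorem self_mem_orbit : u ∈ orbit G u :=
  ⟨G.e u, s_e_apply G u, t_e_apply G u⟩

theorem pU_of_mem_orbit {x : G.U} (hx : x ∈ orbit G u) : G.pU x = G.pU u := by
  obtain ⟨r, hr, rfl⟩ := hx
  rw [pU_t_apply, ← pU_s_apply, hr]

theorem pR_of_mem_orbR {r : G.R} (hr : r ∈ orbR G u) : G.pR r = G.pU u := by
  rw [← pU_s_apply]
  exact pU_of_mem_orbit G u hr

theorem t_mem_orbit {r : G.R} (hr : r ∈ orbR G u) : G.t r ∈ orbit G u := by
  obtain ⟨r₁, hr₁, h⟩ := hr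
  obtain ⟨z, hz1, hz2⟩ := Scheme.Pullback.exists_preimage_pullback (f := G.s) (g := G.t) r r₁ h.symm
  refine ⟨G.c z, ?_, ?_⟩
  · show G.s (G.c z) = u
    rw [← Scheme.Hom.comp_apply, c_s, Scheme.Hom.comp_apply, hz2]
    exact hr₁
  · rw [← Scheme.Hom.comp_apply, c_t, Scheme.Hom.comp_apply, hz1]

theorem finite_orbit (hfin : (G.s ⁻¹' {u}).Finite) : (orbit G u).Finite :=
  hfin.image _

theorem finite_s_preimage_t [LocallyOfFiniteType G.s] (r₀ : G.R)
    (h : (G.s ⁻¹' {G.s r₀}).Finite) : (G.s ⁻¹' {G.t r₀}).Finite := by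
  have hpb : IsPullback G.c (pullback.snd G.s G.t) G.s G.s := (Groth.Agent.S7457.result S G).2
  have h1 := finite_preimage_of_isPullback hpb r₀ h
  refine (h1.image (pullback.fst G.s G.t)).subset ?_
  intro α hα
  obtain ⟨z, hz1, hz2⟩ := Scheme.Pullback.exists_preimage_pullback (f := G.s) (g := G.t) α r₀ hα
  exact ⟨z, hz2, hz1⟩

theorem finite_orbR [LocallyOfFiniteType G.s] (hfin : (G.s ⁻¹' {u}).Finite) :
    (orbR G u).Finite := by
  refine (finite_orbit G u hfin).preimage' ?_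
  rintro x ⟨r₀, hr₀, rfl⟩
  apply finite_s_preimage_t
  rw [Set.mem_preimage, Set.mem_singleton_iff] at hr₀
  rw [hr₀]; exact hfin

theorem finite_s_preimage_of_mem_orbit [LocallyOfFiniteType G.s] (hfin : (G.s ⁻¹' {u}).Finite)
    {x : G.U} (hx : x ∈ orbit G u) : (G.s ⁻¹' {x}).Finite := by
  obtain ⟨r₀, hr₀, rfl⟩ := hx
  apply finite_s_preimage_t
  rw [Set.mem_preimage, Set.mem_singleton_iff] at hr₀
  rw [hr₀]; exact hfin

section QF

variable [LocallyOfFiniteType G.pU] [Flat G.s] [LocallyOfFinitePresentation G.s]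
  [Flat G.t] [LocallyOfFinitePresentation G.t]

theorem lft_pR : LocallyOfFiniteType G.pR := by
  rw [← G.s_over]; infer_instance

theorem quasiFiniteAt_pR_of_s (hu : G.pU.QuasiFiniteAt u) (hfin : (G.s ⁻¹' {u}).Finite)
    (r : G.R) (hr : G.s r = u) : G.pR.QuasiFiniteAt r := by
  have h1 : G.s.QuasiFiniteAt r := quasiFiniteAt_of_finite_fibre G.s r (by rw [hr]; exact hfin)
  have h2 := quasiFiniteAt_comp G.s G.pU r h1 (by rw [hr]; exact hu)
  rwa [G.s_over] at h2

theorem quasiFiniteAt_pU_of_mem_orbit (hu : G.pU.QuasiFiniteAt u) (hfin : (G.s ⁻¹' {u}).Finite)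
    {x : G.U} (hx : x ∈ orbit G u) : G.pU.QuasiFiniteAt x := by
  obtain ⟨r₀, hr₀, rfl⟩ := hx
  haveI := lft_pR G
  have h1 := quasiFiniteAt_pR_of_s G u hu hfin r₀ hr₀
  obtain ⟨W, hrW, hW⟩ := exists_isolating_open G.pR r₀ h1
  have hopen : IsOpen (G.t '' (W : Set G.R)) := G.t.isOpenMap _ W.2
  refine quasiFiniteAt_of_isolated G.pU (G.t r₀) ⟨_, hopen⟩ ⟨r₀, hrW, rfl⟩ ?_
  rintro _ ⟨w, hw, rfl⟩ hz
  rw [pU_t_apply, pU_t_apply] at hz
  rw [hW w hw hz]

theorem quasiFiniteAt_pR_of_mem_orbR (hu : G.pU.QuasiFiniteAt u) (hfin : (G.s ⁻¹' {u}).Finite)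
    {r : G.R} (hr : r ∈ orbR G u) : G.pR.QuasiFiniteAt r := by
  have h0 := quasiFiniteAt_pU_of_mem_orbit G u hu hfin hr
  have h1 : G.s.QuasiFiniteAt r :=
    quasiFiniteAt_of_finite_fibre G.s r (finite_s_preimage_of_mem_orbit G u hfin hr)
  have h2 := quasiFiniteAt_comp G.s G.pU r h1 h0
  rwa [G.s_over] at h2

end QF

end Groth.Agent.Lib.Helper4.EtLocGrpd
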