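import Mathlib
import Groth.Prelude.Def_Grpd
import Groth.Prelude.Def_Hens2
import Groth.Agent.Lib.Helper4.EtLocGrpd2
import Groth.Agent.Lib.Helper4.FinSup
import Groth.Agent.Lib.Helper13.EL3

/-!
# Étale localization of groupoid schemes at a quasi-finite point: good pairs (helper4)

`Good G u g p' U' R'`: for an étale neighbourhood `g : (S', p') → (S, p)`, opens `U' ⊆ U_{S'}`,
`R' ⊆ R_{S'}` which are closed, finite over `S'`, and whose fibres over `p'` are the orbit of `u`,
resp. the arrows with source in the orbit.  `exists_good`: such pairs exist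
(Stacks, More on Groupoids, Lemma 03FM, first half).
-/

set_option backward.isDefEq.respectTransparency false
set_option autoImplicit false
set_option linter.style.haveILetI false
set_option linter.unusedSectionVars false

universe u
open CategoryTheory CategoryTheory.Limits AlgebraicGeometry

namespace Groth.Agent.Lib.Helper4.EtLocGrpd

open Groth.Agent.Lib.helper13.EL

variable {S : Scheme.{u}} (G : Grpd.GroupoidScheme S) (u : G.U)
variable {S' : Scheme.{u}} (g : S' ⟶ S)

/-- base change of `s` -/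
noncomputable def bs : pullback G.pR g ⟶ pullback G.pU g :=
  pullback.map G.pR g G.pU g G.s (𝟙 S') (𝟙 S) ((Category.comp_id _).trans G.s_over.symm)
    ((Category.comp_id _).trans (Category.id_comp _).symm)

/-- base change of `t` -/
noncomputable def bt : pullback G.pR g ⟶ pullback G.pU g :=
  pullback.map G.pR g G.pU g G.t (𝟙 S') (𝟙 S) ((Category.comp_id _).trans G.t_over.symm)
    ((Category.comp_id _).trans (Category.id_comp _).symm)

@[reassoc (attr := simp)]
theorem bs_fst : bs G g ≫ pullback.fst G.pU g = pullback.fst G.pR g ≫ G.s := by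
  simp [bs]

@[reassoc (attr := simp)]
theorem bs_snd : bs G g ≫ pullback.snd G.pU g = pullback.snd G.pR g := by
  simp [bs]

@[reassoc (attr := simp)]
theorem bt_fst : bt G g ≫ pullback.fst G.pU g = pullback.fst G.pR g ≫ G.t := by
  simp [bt]

@[reassoc (attr := simp)]
theorem bt_snd : bt G g ≫ pullback.snd G.pU g = pullback.snd G.pR g := by
  simp [bt]

theorem fst_bs (r : ↥(pullback G.pR g)) :
    pullback.fst G.pU g (bs G g r) = G.s (pullback.fst G.pR g r) := by
  rw [← Scheme.Hom.comp_apply, bs_fst, Scheme.Hom.comp_apply]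

theorem snd_bs (r : ↥(pullback G.pR g)) :
    pullback.snd G.pU g (bs G g r) = pullback.snd G.pR g r := by
  rw [← Scheme.Hom.comp_apply, bs_snd]

theorem fst_bt (r : ↥(pullback G.pR g)) :
    pullback.fst G.pU g (bt G g r) = G.t (pullback.fst G.pR g r) := by
  rw [← Scheme.Hom.comp_apply, bt_fst, Scheme.Hom.comp_apply]

theorem snd_bt (r : ↥(pullback G.pR g)) :
    pullback.snd G.pU g (bt G g r) = pullback.snd G.pR g r := by
  rw [← Scheme.Hom.comp_apply, bt_snd]

/-- A good pair of opens over an étale neighbourhood. -/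
structure Good (p' : S') (U' : (pullback G.pU g).Opens) (R' : (pullback G.pR g).Opens) :
    Prop where
  cu : ∀ x : ↥(pullback G.pU g), pullback.snd G.pU g x = p' →
    (x ∈ U' ↔ pullback.fst G.pU g x ∈ orbit G u)
  cr : ∀ r : ↥(pullback G.pR g), pullback.snd G.pR g r = p' →
    (r ∈ R' ↔ pullback.fst G.pR g r ∈ orbR G u)
  closedU : IsClosed (U' : Set ↥(pullback G.pU g))
  closedR : IsClosed (R' : Set ↥(pullback G.pR g))
  finU : IsFinite (U'.ι ≫ pullback.snd G.pU g)
  finR : IsFinite (R'.ι ≫ pullback.snd G.pR g)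

section GoodFamily

variable {X : Scheme.{u}} (f : X ⟶ S) [LocallyOfFiniteType f] [IsSeparated f]

/-- The union of a finite family of good opens whose points enumerate a set `O`. -/
theorem good_family {n : ℕ} (x : Fin n → ↥X) (p' : S')
    (hb : Function.Bijective (g.residueFieldMap p'))
    (V : Fin n → (pullback f g).Opens) (v : Fin n → ↥(pullback f g))
    (hV : ∀ i, IsGoodOpen f g p' (x i) (V i) (v i)) :
    (∀ w : ↥(pullback f g), pullback.snd f g w = p' →
      (w ∈ (⨆ i, V i) ↔ pullback.fst f g w ∈ Set.range x)) ∧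
    IsClosed (((⨆ i, V i : (pullback f g).Opens)) : Set ↥(pullback f g)) ∧
    IsFinite ((⨆ i, V i).ι ≫ pullback.snd f g) := by
  refine ⟨?_, ?_, ?_⟩
  · intro w hw
    rw [TopologicalSpace.Opens.mem_iSup]
    constructor
    · rintro ⟨i, hi⟩
      have := (hV i).uniq w hi hw
      exact ⟨i, by rw [this, (hV i).fst_eq]⟩
    · rintro ⟨i, hi⟩
      refine ⟨i, ?_⟩
      have : w = v i := by
        apply eq_of_fst_eq_of_snd_eq
        · rw [hw]; exact hb
        · rw [(hV i).fst_eq, hi]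
        · rw [hw, (hV i).snd_eq]
      rw [this]; exact (hV i).mem
  · rw [TopologicalSpace.Opens.coe_iSup]
    exact isClosed_iUnion_of_finite fun i => (hV i).closed inferInstance
  · exact Groth.Agent.Lib.Helper4.FinSup.isFinite_iSup (pullback.snd f g) V
      (fun i => (hV i).finite)

end GoodFamily

section Exists

variable [LocallyOfFiniteType G.pU] [IsSeparated G.pU] [IsSeparated G.pR] [Flat G.s]
  [LocallyOfFinitePresentation G.s] [Flat G.t] [LocallyOfFinitePresentation G.t]

/-- Existence of good pairs. -/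
theorem exists_good (hu : G.pU.QuasiFiniteAt u) (hfin : (G.s ⁻¹' {u}).Finite) :
    ∃ (S' : Scheme.{u}) (g : S' ⟶ S) (p' : S'), Hens2.IsEtaleNbhd g p' (G.pU u) ∧
      ∃ (U' : (pullback G.pU g).Opens) (R' : (pullback G.pR g).Opens), Good G u g p' U' R' := by
  haveI := lft_pR G
  obtain ⟨n₁, x₁, hx₁⟩ := (finite_orbit G u hfin).fin_embedding
  obtain ⟨n₂, x₂, hx₂⟩ := (finite_orbR G u hfin).fin_embedding
  have hx₁m : ∀ i, x₁ i ∈ orbit G u := fun i => hx₁ ▸ Set.mem_range_self i
  have hx₂m : ∀ i, x₂ i ∈ orbR G u := fun i => hx₂ ▸ Set.mem_range_self i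
  obtain ⟨S₁, g₁, p₁, hg₁, hgp₁, hb₁, V₁, v₁, hV₁⟩ :=
    exists_etale_nbhd_of_quasiFiniteAt_finite G.pU (G.pU u) (fun i => x₁ i)
      (fun i => pU_of_mem_orbit G u (hx₁m i))
      (fun i => quasiFiniteAt_pU_of_mem_orbit G u hu hfin (hx₁m i))
  obtain ⟨S₂, g₂, p₂, hg₂, hgp₂, hb₂, V₂, v₂, hV₂⟩ :=
    exists_etale_nbhd_of_quasiFiniteAt_finite G.pR (G.pU u) (fun i => x₂ i)
      (fun i => pR_of_mem_orbR G u (hx₂m i))
      (fun i => quasiFiniteAt_pR_of_mem_orbR G u hu hfin (hx₂m i))
  obtain ⟨S', g', p', π₁, π₂, hg', hgp', hb', hπ₁, hπ₂, hπp₁, hπp₂⟩ :=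
    exists_common_refinement g₁ g₂ p₁ p₂ (G.pU u) hgp₁ hgp₂ hb₁ hb₂
  choose w₁ hw₁ using fun i => (hV₁ i).refine π₁ g' hπ₁ hb₁ p' hπp₁ hb'
  choose w₂ hw₂ using fun i => (hV₂ i).refine π₂ g' hπ₂ hb₂ p' hπp₂ hb'
  obtain ⟨a1, a2, a3⟩ := good_family g' G.pU (fun i => x₁ i) p' hb' _ w₁ hw₁
  obtain ⟨b1, b2, b3⟩ := good_family g' G.pR (fun i => x₂ i) p' hb' _ w₂ hw₂
  refine ⟨S', g', p', ⟨hg', hgp', hb'⟩, _, _, ⟨?_, ?_, a2, b2, a3, b3⟩⟩
  · intro x hx
    rw [a1 x hx, ← hx₁]
  · intro r hr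
    rw [b1 r hr, ← hx₂]

end Exists

end Groth.Agent.Lib.Helper4.EtLocGrpd
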