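import Mathlib
import Groth.Agent.Lib.Helper4.EtLocGrpd3

/-!
# Étale localization of groupoid schemes: restriction to an open of the étale neighbourhood and
the bad loci (helper4)
-/

set_option backward.isDefEq.respectTransparency false
set_option autoImplicit false
set_option linter.style.haveILetI false
set_option linter.unusedSectionVars false

universe u
open CategoryTheory CategoryTheory.Limits AlgebraicGeometry

namespace Groth.Agent.Lib.Helper4.EtLocGrpd

open Groth.Agent.Lib.helper13.EL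

variable {S : Scheme.{u}} (G : Grpd.GroupoidScheme S) (u : G.U)
variable {S' : Scheme.{u}} (g : S' ⟶ S)

section Restrict

variable (W : S'.Opens)

/-- `U_{W} ⟶ U_{S'}` -/
noncomputable def ψU : pullback G.pU (W.ι ≫ g) ⟶ pullback G.pU g :=
  refineMap G.pU g W.ι (W.ι ≫ g) rfl

/-- `R_{W} ⟶ R_{S'}` -/
noncomputable def ψR : pullback G.pR (W.ι ≫ g) ⟶ pullback G.pR g :=
  refineMap G.pR g W.ι (W.ι ≫ g) rfl

theorem ψR_bs : ψR G g W ≫ bs G g = bs G (W.ι ≫ g) ≫ ψU G g W := by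
  apply pullback.hom_ext
  · simp [ψR, ψU]
  · simp [ψR, ψU]

theorem ψR_bt : ψR G g W ≫ bt G g = bt G (W.ι ≫ g) ≫ ψU G g W := by
  apply pullback.hom_ext
  · simp [ψR, ψU]
  · simp [ψR, ψU]

theorem bs_ψR (r : ↥(pullback G.pR (W.ι ≫ g))) :
    bs G g (ψR G g W r) = ψU G g W (bs G (W.ι ≫ g) r) := by
  rw [← Scheme.Hom.comp_apply, ψR_bs, Scheme.Hom.comp_apply]

theorem bt_ψR (r : ↥(pullback G.pR (W.ι ≫ g))) :
    bt G g (ψR G g W r) = ψU G g W (bt G (W.ι ≫ g) r) := by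
  rw [← Scheme.Hom.comp_apply, ψR_bt, Scheme.Hom.comp_apply]

theorem snd_ψU (x : ↥(pullback G.pU (W.ι ≫ g))) :
    pullback.snd G.pU g (ψU G g W x) = W.ι (pullback.snd G.pU (W.ι ≫ g) x) :=
  refineMap_snd_apply ..

theorem fst_ψU (x : ↥(pullback G.pU (W.ι ≫ g))) :
    pullback.fst G.pU g (ψU G g W x) = pullback.fst G.pU (W.ι ≫ g) x :=
  refineMap_fst_apply ..

theorem snd_ψR (x : ↥(pullback G.pR (W.ι ≫ g))) :
    pullback.snd G.pR g (ψR G g W x) = W.ι (pullback.snd G.pR (W.ι ≫ g) x) :=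
  refineMap_snd_apply ..

theorem fst_ψR (x : ↥(pullback G.pR (W.ι ≫ g))) :
    pullback.fst G.pR g (ψR G g W x) = pullback.fst G.pR (W.ι ≫ g) x :=
  refineMap_fst_apply ..

variable {G g}

theorem isEtaleNbhd_restrict {p' : S'} {p : S} (hg : Hens2.IsEtaleNbhd g p' p) (hp' : p' ∈ W) :
    Hens2.IsEtaleNbhd (W.ι ≫ g) (⟨p', hp'⟩ : ↥W) p := by
  haveI := hg.etale
  refine ⟨inferInstance, ?_, ?_⟩
  · exact hg.base_eq
  · rw [Scheme.residueFieldMap_comp]
    have h1 : Function.Bijective (W.ι.residueFieldMap (⟨p', hp'⟩ : ↥W)) :=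
      ConcreteCategory.bijective_of_isIso _
    exact h1.comp hg.residue_bijective

variable {u}

theorem Good.restrict {p' : S'} {U' : (pullback G.pU g).Opens} {R' : (pullback G.pR g).Opens}
    (h : Good G u g p' U' R') (hp' : p' ∈ W) :
    Good G u (W.ι ≫ g) (⟨p', hp'⟩ : ↥W) ((ψU G g W) ⁻¹ᵁ U') ((ψR G g W) ⁻¹ᵁ R') := by
  refine ⟨?_, ?_, ?_, ?_, ?_, ?_⟩
  · intro x hx
    have h1 : pullback.snd G.pU g (ψU G g W x) = p' := by rw [snd_ψU, hx]; rfl
    have h2 := h.cu _ h1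
    rw [fst_ψU] at h2
    exact h2
  · intro x hx
    have h1 : pullback.snd G.pR g (ψR G g W x) = p' := by rw [snd_ψR, hx]; rfl
    have h2 := h.cr _ h1
    rw [fst_ψR] at h2
    exact h2
  · exact h.closedU.preimage (ψU G g W).continuous
  · exact h.closedR.preimage (ψR G g W).continuous
  · exact isFinite_refine G.pU g W.ι (W.ι ≫ g) rfl U' h.finU
  · exact isFinite_refine G.pR g W.ι (W.ι ≫ g) rfl R' h.finR

end Restrict

end Groth.Agent.Lib.Helper4.EtLocGrpd
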