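import Mathlib
import Groth.Agent.Lib.Helper4.EtLocGrpd4

/-!
# Étale localization of groupoid schemes: base change of `j` and the bad loci (helper4)

* `bj`, `isPullback_bj`: `j' : R_{S'} → U_{S'} ×_{S'} U_{S'}` is a base change of `j`.
* `badC`, `badD`: the closed subsets of `S'` to be removed so that `s', t'` map `R'` into `U'` and
  `R'` is the full restriction of `R_{S'}` to `U'`; neither contains `p'`.
-/

set_option backward.isDefEq.respectTransparency false
set_option autoImplicit false
set_option linter.style.haveILetI false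
set_option linter.unusedSectionVars false

universe u
open CategoryTheory CategoryTheory.Limits AlgebraicGeometry

namespace Groth.Agent.Lib.Helper4.EtLocGrpd

open Groth.Agent.Lib.helper13.EL

variable {S : Scheme.{u}} (G : Grpd.GroupoidScheme S) (u : G.U)
variable {S' : Scheme.{u}} (g : S' ⟶ S)

section BaseChangeJ

/-- the base change of `j = (t, s)` -/
noncomputable def bj : pullback G.pR g ⟶ pullback (pullback.snd G.pU g) (pullback.snd G.pU g) :=
  pullback.lift (bt G g) (bs G g) (by rw [bt_snd, bs_snd])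

/-- `U_{S'} ×_{S'} U_{S'} ⟶ U ×_S U` -/
noncomputable def qmap :
    pullback (pullback.snd G.pU g) (pullback.snd G.pU g) ⟶ pullback G.pU G.pU :=
  pullback.map _ _ _ _ (pullback.fst G.pU g) (pullback.fst G.pU g) g
    pullback.condition.symm pullback.condition.symm

@[reassoc (attr := simp)]
theorem bj_fst : bj G g ≫ pullback.fst _ _ = bt G g := pullback.lift_fst _ _ _

@[reassoc (attr := simp)]
theorem bj_snd : bj G g ≫ pullback.snd _ _ = bs G g := pullback.lift_snd _ _ _

@[reassoc (attr := simp)]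
theorem j_fst : G.j ≫ pullback.fst G.pU G.pU = G.t := pullback.lift_fst _ _ _

@[reassoc (attr := simp)]
theorem j_snd : G.j ≫ pullback.snd G.pU G.pU = G.s := pullback.lift_snd _ _ _

@[reassoc (attr := simp)]
theorem qmap_fst : qmap G g ≫ pullback.fst G.pU G.pU =
    pullback.fst _ _ ≫ pullback.fst G.pU g := by simp [qmap]

@[reassoc (attr := simp)]
theorem qmap_snd : qmap G g ≫ pullback.snd G.pU G.pU =
    pullback.snd _ _ ≫ pullback.fst G.pU g := by simp [qmap]

theorem isPullback_bj : IsPullback (pullback.fst G.pR g) (bj G g) G.j (qmap G g) := by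
  have w : pullback.fst G.pR g ≫ G.j = bj G g ≫ qmap G g := by
    apply pullback.hom_ext
    · simp
    · simp
  refine ⟨⟨w⟩, ⟨PullbackCone.IsLimit.mk w
    (fun c => pullback.lift c.fst (c.snd ≫ pullback.fst _ _ ≫ pullback.snd G.pU g) ?_)
    ?_ ?_ ?_⟩⟩
  · have h1 := congrArg (fun k => k ≫ pullback.fst G.pU G.pU ≫ G.pU) c.condition
    simp only [Category.assoc, j_fst_assoc, qmap_fst_assoc, G.t_over] at h1
    rw [h1, pullback.condition]
    simp
  · intro c
    exact pullback.lift_fst _ _ _
  · intro c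
    have e1 : c.fst ≫ G.t = c.snd ≫ pullback.fst _ _ ≫ pullback.fst G.pU g := by
      have h1 := congrArg (fun k => k ≫ pullback.fst G.pU G.pU) c.condition
      simpa only [Category.assoc, j_fst, qmap_fst] using h1
    have e2 : c.fst ≫ G.s = c.snd ≫ pullback.snd _ _ ≫ pullback.fst G.pU g := by
      have h1 := congrArg (fun k => k ≫ pullback.snd G.pU G.pU) c.condition
      simpa only [Category.assoc, j_snd, qmap_snd] using h1
    apply pullback.hom_ext
    · rw [Category.assoc, bj_fst]
      apply pullback.hom_ext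
      · rw [Category.assoc, bt_fst, pullback.lift_fst_assoc, e1, Category.assoc]
      · rw [Category.assoc, bt_snd, pullback.lift_snd, Category.assoc]
    · rw [Category.assoc, bj_snd]
      apply pullback.hom_ext
      · rw [Category.assoc, bs_fst, pullback.lift_fst_assoc, e2, Category.assoc]
      · rw [Category.assoc, bs_snd, pullback.lift_snd, Category.assoc, pullback.condition]
  · intro c m hm1 hm2
    apply pullback.hom_ext
    · rw [pullback.lift_fst]; exact hm1
    · rw [pullback.lift_snd, ← hm2, Category.assoc, bj_fst_assoc, bt_snd]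

instance [UniversallyClosed G.j] : UniversallyClosed (bj G g) :=
  MorphismProperty.of_isPullback (P := @UniversallyClosed) (isPullback_bj G g) inferInstance

end BaseChangeJ

section Bad

variable {G u g}
variable {p' : S'} {U' : (pullback G.pU g).Opens} {R' : (pullback G.pR g).Opens}

variable (G g U' R') in
/-- The image in `S'` of the points of `R'` which `s'` or `t'` does not map into `U'`. -/
def badC : Set S' :=
  {y | ∃ r : ↥(pullback G.pR g), r ∈ R' ∧ pullback.snd G.pR g r = y ∧
    (bs G g r ∉ U' ∨ bt G g r ∉ U')}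

variable (G g U' R') in
/-- The image in `S'` of the points outside `R'` which `s'` and `t'` map into `U'`. -/
def badD : Set S' :=
  {y | ∃ r : ↥(pullback G.pR g), r ∉ R' ∧ bs G g r ∈ U' ∧ bt G g r ∈ U' ∧
    pullback.snd G.pR g r = y}

theorem isClosed_badC (h : Good G u g p' U' R') : IsClosed (badC G g U' R') := by
  haveI := h.finR
  have hB : IsClosed {r : ↥(pullback G.pR g) | bs G g r ∉ U' ∨ bt G g r ∉ U'} := by
    have h1 : IsOpen ((bs G g) ⁻¹' (U' : Set _)) := U'.2.preimage (bs G g).continuous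
    have h2 : IsOpen ((bt G g) ⁻¹' (U' : Set _)) := U'.2.preimage (bt G g).continuous
    exact h1.isClosed_compl.union h2.isClosed_compl
  have e : badC G g U' R' = (R'.ι ≫ pullback.snd G.pR g) ''
      (R'.ι ⁻¹' {r : ↥(pullback G.pR g) | bs G g r ∉ U' ∨ bt G g r ∉ U'}) := by
    ext y
    constructor
    · rintro ⟨r, hr, rfl, hb⟩
      exact ⟨⟨r, hr⟩, hb, rfl⟩
    · rintro ⟨r, hb, rfl⟩
      exact ⟨R'.ι r, r.2, rfl, hb⟩
  rw [e]
  exact (R'.ι ≫ pullback.snd G.pR g).isClosedMap _ (hB.preimage R'.ι.continuous)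

theorem not_mem_badC (h : Good G u g p' U' R') : p' ∉ badC G g U' R' := by
  rintro ⟨r, hr, hrp, hb⟩
  have h1 := (h.cr r hrp).mp hr
  have h2 : bs G g r ∈ U' := by
    rw [h.cu _ ((snd_bs G g r).trans hrp), fst_bs]
    exact h1
  have h3 : bt G g r ∈ U' := by
    rw [h.cu _ ((snd_bt G g r).trans hrp), fst_bt]
    exact t_mem_orbit G u h1
  rcases hb with hb | hb
  · exact hb h2
  · exact hb h3

theorem not_mem_badD (h : Good G u g p' U' R') : p' ∉ badD G g U' R' := by
  rintro ⟨r, hr, hs, -, hrp⟩
  apply hr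
  rw [h.cr r hrp]
  have := (h.cu _ ((snd_bs G g r).trans hrp)).mp hs
  rwa [fst_bs] at this

theorem isClosed_badD [UniversallyClosed G.j] (h : Good G u g p' U' R') :
    IsClosed (badD G g U' R') := by
  haveI := h.finU
  -- the closed set `Z`
  have hZ : IsClosed {r : ↥(pullback G.pR g) | r ∉ R' ∧ bs G g r ∈ U' ∧ bt G g r ∈ U'} := by
    have h0 : IsClosed ((R' : Set ↥(pullback G.pR g))ᶜ) := R'.2.isClosed_compl
    have h1 : IsClosed ((bs G g) ⁻¹' (U' : Set _)) := h.closedU.preimage (bs G g).continuous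
    have h2 : IsClosed ((bt G g) ⁻¹' (U' : Set _)) := h.closedU.preimage (bt G g).continuous
    exact h0.inter (h1.inter h2)
  set Z := {r : ↥(pullback G.pR g) | r ∉ R' ∧ bs G g r ∈ U' ∧ bt G g r ∈ U'} with hZdef
  have hjZ : IsClosed ((bj G g) '' Z) := (bj G g).isClosedMap _ hZ
  -- the open `K` of the product
  let A := pullback.snd G.pU g
  let K : (pullback A A).Opens := (pullback.snd A A) ⁻¹ᵁ U'
  have hK : IsPullback (pullback.snd A A ∣_ U') (K.ι ≫ pullback.fst A A) (U'.ι ≫ A) A :=
    (isPullback_morphismRestrict (pullback.snd A A) U').paste_vert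
      (IsPullback.of_hasPullback A A).flip
  haveI hKfin : IsFinite (K.ι ≫ pullback.fst A A) :=
    MorphismProperty.of_isPullback (P := @IsFinite) hK h.finU
  have h3 : IsClosed ((bt G g) '' Z) := by
    have e : (bt G g) '' Z = (K.ι ≫ pullback.fst A A) '' (K.ι ⁻¹' ((bj G g) '' Z)) := by
      ext x
      constructor
      · rintro ⟨r, hr, rfl⟩
        have hmem : bj G g r ∈ K := by
          show pullback.snd A A (bj G g r) ∈ U'
          rw [← Scheme.Hom.comp_apply, bj_snd]
          exact hr.2.1
        refine ⟨⟨bj G g r, hmem⟩, ⟨r, hr, rfl⟩, ?_⟩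
        show pullback.fst A A (bj G g r) = _
        rw [← Scheme.Hom.comp_apply, bj_fst]
      · rintro ⟨k, ⟨r, hr, hrk⟩, rfl⟩
        refine ⟨r, hr, ?_⟩
        show _ = pullback.fst A A (K.ι k)
        rw [← hrk, ← Scheme.Hom.comp_apply, bj_fst]
    rw [e]
    exact (K.ι ≫ pullback.fst A A).isClosedMap _ (hjZ.preimage K.ι.continuous)
  have e : badD G g U' R' = (U'.ι ≫ A) '' (U'.ι ⁻¹' ((bt G g) '' Z)) := by
    ext y
    constructor
    · rintro ⟨r, hr, hs, ht, rfl⟩
      refine ⟨⟨bt G g r, ht⟩, ⟨r, ⟨hr, hs, ht⟩, rfl⟩, ?_⟩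
      show A (bt G g r) = _
      exact snd_bt G g r
    · rintro ⟨x, ⟨r, hr, hrx⟩, rfl⟩
      refine ⟨r, hr.1, hr.2.1, hr.2.2, ?_⟩
      show _ = A (U'.ι x)
      rw [← hrx]
      exact (snd_bt G g r).symm
  rw [e]
  exact (U'.ι ≫ A).isClosedMap _ (h3.preimage U'.ι.continuous)

end Bad

end Groth.Agent.Lib.Helper4.EtLocGrpd
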