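import Mathlib
import Groth.Agent.Lib.Helper4.EtLocGrpd5

/-!
# Étale localization of groupoid schemes at a quasi-finite point (helper4)

`main`: Stacks, More on Groupoids, Lemma 03FM (parts (a)–(e) and (h)): for a groupoid scheme
`(U, R, s, t, c)` over `S`, a point `u` of `U` at which `U → S` is quasi-finite, with `s⁻¹{u}`
finite, `U → S` separated locally of finite type, `R → S` separated, `s, t` flat lfp: there are an
elementary étale neighbourhood `(S', p') → (S, p)` and clopen `U' ⊆ U_{S'}`, `R' ⊆ R_{S'}` finite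
over `S'` with the prescribed fibres over `p'`, stable under `s', t'`; if `j` is universally closed
then moreover `R' = s'⁻¹(U') ∩ t'⁻¹(U')`.
-/

set_option backward.isDefEq.respectTransparency false
set_option autoImplicit false
set_option linter.style.haveILetI false
set_option linter.unusedSectionVars false

universe u
open CategoryTheory CategoryTheory.Limits AlgebraicGeometry

namespace Groth.Agent.Lib.Helper4.EtLocGrpd

open Groth.Agent.Lib.helper13.EL

variable {S : Scheme.{u}} {G : Grpd.GroupoidScheme S} {u : G.U}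
variable {S' : Scheme.{u}} {g : S' ⟶ S}
variable {p' : S'} {U' : (pullback G.pU g).Opens} {R' : (pullback G.pR g).Opens}

theorem conclusions {p : S} (hup : G.pU u = p) (hg : Hens2.IsEtaleNbhd g p' p)
    (h : Good G u g p' U' R') :
    (∃ u' : ↥(pullback G.pU g), u' ∈ U' ∧ pullback.fst G.pU g u' = u ∧
      pullback.snd G.pU g u' = p') ∧
    (∀ u' : ↥(pullback G.pU g), u' ∈ U' → pullback.fst G.pU g u' = u →
      pullback.snd G.pU g u' = p' →
      {x : ↥(pullback G.pU g) | x ∈ U' ∧ pullback.snd G.pU g x = p'} =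
        ⇑(bt G g) '' (⇑(bs G g) ⁻¹' {u'})) ∧
    {r : ↥(pullback G.pR g) | r ∈ R' ∧ pullback.snd G.pR g r = p'} =
      ⇑(bs G g) ⁻¹' {x | x ∈ U' ∧ pullback.snd G.pU g x = p'} := by
  have hb := hg.residue_bijective
  have hgp : g p' = p := hg.base_eq
  refine ⟨?_, ?_, ?_⟩
  · obtain ⟨u', h1, h2⟩ := Scheme.Pullback.exists_preimage_pullback (f := G.pU) (g := g) u p'
      (hup.trans hgp.symm)
    refine ⟨u', ?_, h1, h2⟩
    rw [h.cu u' h2, h1]
    exact self_mem_orbit G u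
  · intro u' _ hu'1 hu'2
    ext x
    constructor
    · rintro ⟨hxU, hxp⟩
      obtain ⟨r, hr, hrt⟩ := (h.cu x hxp).mp hxU
      have hr' : G.s r = u := hr
      have hpr : G.pR r = g p' := by
        rw [← pU_s_apply, hr', hup, hgp]
      obtain ⟨r', h1, h2⟩ := Scheme.Pullback.exists_preimage_pullback (f := G.pR) (g := g) r p' hpr
      refine ⟨r', ?_, ?_⟩
      · show bs G g r' = u'
        apply eq_of_fst_eq_of_snd_eq
        · rw [snd_bs, h2]; exact hb
        · rw [fst_bs, h1, hr', hu'1]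
        · rw [snd_bs, h2, hu'2]
      · apply eq_of_fst_eq_of_snd_eq
        · rw [snd_bt, h2]; exact hb
        · rw [fst_bt, h1, hrt]
        · rw [snd_bt, h2, hxp]
    · rintro ⟨r', hr', rfl⟩
      have hr'' : bs G g r' = u' := hr'
      have hsnd : pullback.snd G.pR g r' = p' := by
        rw [← snd_bs, hr'', hu'2]
      have hsnd' : pullback.snd G.pU g (bt G g r') = p' := by rw [snd_bt, hsnd]
      refine ⟨?_, hsnd'⟩
      rw [h.cu _ hsnd', fst_bt]
      refine ⟨pullback.fst G.pR g r', ?_, rfl⟩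
      show G.s (pullback.fst G.pR g r') = u
      rw [← fst_bs, hr'', hu'1]
  · ext r
    constructor
    · rintro ⟨hr, hrp⟩
      have hsnd : pullback.snd G.pU g (bs G g r) = p' := by rw [snd_bs, hrp]
      refine ⟨?_, hsnd⟩
      rw [h.cu _ hsnd, fst_bs]
      exact (h.cr r hrp).mp hr
    · rintro ⟨hU, hp⟩
      have hrp : pullback.snd G.pR g r = p' := by rw [← snd_bs]; exact hp
      refine ⟨?_, hrp⟩
      rw [h.cr r hrp]
      have := (h.cu _ hp).mp hU
      rwa [fst_bs] at this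

theorem finish (W : S'.Opens) (hWC : ∀ y ∈ W, y ∉ badC G g U' R') :
    ⇑(bs G (W.ι ≫ g)) '' (((ψR G g W) ⁻¹ᵁ R' : (pullback G.pR (W.ι ≫ g)).Opens) : Set _) ⊆
      ((ψU G g W) ⁻¹ᵁ U' : (pullback G.pU (W.ι ≫ g)).Opens) ∧
    ⇑(bt G (W.ι ≫ g)) '' (((ψR G g W) ⁻¹ᵁ R' : (pullback G.pR (W.ι ≫ g)).Opens) : Set _) ⊆
      ((ψU G g W) ⁻¹ᵁ U' : (pullback G.pU (W.ι ≫ g)).Opens) ∧
    ((∀ y ∈ W, y ∉ badD G g U' R') →
      (((ψR G g W) ⁻¹ᵁ R' : (pullback G.pR (W.ι ≫ g)).Opens) : Set _) =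
        ⇑(bs G (W.ι ≫ g)) ⁻¹' (((ψU G g W) ⁻¹ᵁ U' : (pullback G.pU (W.ι ≫ g)).Opens) : Set _) ∩
        ⇑(bt G (W.ι ≫ g)) ⁻¹' (((ψU G g W) ⁻¹ᵁ U' : (pullback G.pU (W.ι ≫ g)).Opens) : Set _)) := by
  have key : ∀ r : ↥(pullback G.pR (W.ι ≫ g)), ψR G g W r ∈ R' →
      bs G g (ψR G g W r) ∈ U' ∧ bt G g (ψR G g W r) ∈ U' := by
    intro r hr
    by_contra hcon
    have hmem : pullback.snd G.pR g (ψR G g W r) ∈ badC G g U' R' := by
      refine ⟨ψR G g W r, hr, rfl, ?_⟩
      by_contra hcon2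
      push Not at hcon2
      exact hcon hcon2
    rw [snd_ψR] at hmem
    exact hWC _ (pullback.snd G.pR (W.ι ≫ g) r).2 hmem
  refine ⟨?_, ?_, ?_⟩
  · rintro _ ⟨r, hr, rfl⟩
    show ψU G g W (bs G (W.ι ≫ g) r) ∈ U'
    rw [← bs_ψR]
    exact (key r hr).1
  · rintro _ ⟨r, hr, rfl⟩
    show ψU G g W (bt G (W.ι ≫ g) r) ∈ U'
    rw [← bt_ψR]
    exact (key r hr).2
  · intro hWD
    ext r
    constructor
    · intro hr
      refine ⟨?_, ?_⟩
      · show ψU G g W (bs G (W.ι ≫ g) r) ∈ U'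
        rw [← bs_ψR]
        exact (key r hr).1
      · show ψU G g W (bt G (W.ι ≫ g) r) ∈ U'
        rw [← bt_ψR]
        exact (key r hr).2
    · rintro ⟨h1, h2⟩
      have h1' : bs G g (ψR G g W r) ∈ U' := by rw [bs_ψR]; exact h1
      have h2' : bt G g (ψR G g W r) ∈ U' := by rw [bt_ψR]; exact h2
      show ψR G g W r ∈ R'
      by_contra hcon
      have hmem : pullback.snd G.pR g (ψR G g W r) ∈ badD G g U' R' :=
        ⟨ψR G g W r, hcon, h1', h2', rfl⟩
      rw [snd_ψR] at hmem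
      exact hWD _ (pullback.snd G.pR (W.ι ≫ g) r).2 hmem

variable (G u) in
theorem main (p : S) (hup : G.pU u = p) [LocallyOfFiniteType G.pU] [IsSeparated G.pU]
    [IsSeparated G.pR] [Flat G.s] [LocallyOfFinitePresentation G.s] [Flat G.t]
    [LocallyOfFinitePresentation G.t]
    (hqf : ∃ V : G.U.Opens, u ∈ V ∧ ∀ x ∈ V, G.pU x = p → x = u)
    (hfin : (⇑G.s ⁻¹' {u}).Finite) :
    ∃ (S' : Scheme.{u}) (g : S' ⟶ S) (p' : S') (_ : Hens2.IsEtaleNbhd g p' p)
      (U' : (pullback G.pU g).Opens) (R' : (pullback G.pR g).Opens),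
      IsClosed (U' : Set ↥(pullback G.pU g)) ∧ IsClosed (R' : Set ↥(pullback G.pR g)) ∧
      (∃ u' : ↥(pullback G.pU g), u' ∈ U' ∧ pullback.fst G.pU g u' = u ∧
        pullback.snd G.pU g u' = p') ∧
      (∀ u' : ↥(pullback G.pU g), u' ∈ U' → pullback.fst G.pU g u' = u →
        pullback.snd G.pU g u' = p' →
        {x : ↥(pullback G.pU g) | x ∈ U' ∧ pullback.snd G.pU g x = p'} =
          ⇑(bt G g) '' (⇑(bs G g) ⁻¹' {u'})) ∧
      {r : ↥(pullback G.pR g) | r ∈ R' ∧ pullback.snd G.pR g r = p'} =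
        ⇑(bs G g) ⁻¹' {x | x ∈ U' ∧ pullback.snd G.pU g x = p'} ∧
      IsFinite (U'.ι ≫ pullback.snd G.pU g) ∧ IsFinite (R'.ι ≫ pullback.snd G.pR g) ∧
      ⇑(bs G g) '' (R' : Set ↥(pullback G.pR g)) ⊆ U' ∧
      ⇑(bt G g) '' (R' : Set ↥(pullback G.pR g)) ⊆ U' ∧
      (UniversallyClosed G.j → (R' : Set ↥(pullback G.pR g)) =
        ⇑(bs G g) ⁻¹' (U' : Set ↥(pullback G.pU g)) ∩ ⇑(bt G g) ⁻¹' (U' : Set ↥(pullback G.pU g))) := by
  classical
  obtain ⟨V, huV, hV⟩ := hqf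
  have hu : G.pU.QuasiFiniteAt u :=
    quasiFiniteAt_of_isolated G.pU u V huV (fun z hz hfz => hV z hz (hfz.trans hup))
  obtain ⟨S', g, p', hg0, U', R', hgood⟩ := exists_good G u hu hfin
  have hg : Hens2.IsEtaleNbhd g p' p := hup ▸ hg0
  -- the closed set to remove
  let D : Set S' := if UniversallyClosed G.j then badD G g U' R' else ∅
  have hDclosed : IsClosed D := by
    by_cases hj : UniversallyClosed G.j
    · simp only [D, if_pos hj]
      exact isClosed_badD hgood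
    · simp only [D, if_neg hj]
      exact isClosed_empty
  have hDp : p' ∉ D := by
    by_cases hj : UniversallyClosed G.j
    · simp only [D, if_pos hj]
      exact not_mem_badD hgood
    · simp only [D, if_neg hj]
      exact Set.notMem_empty _
  let W : S'.Opens := ⟨(badC G g U' R' ∪ D)ᶜ, ((isClosed_badC hgood).union hDclosed).isOpen_compl⟩
  have hp'W : p' ∈ W := by
    show p' ∈ (badC G g U' R' ∪ D)ᶜ
    rw [Set.mem_compl_iff, Set.mem_union]
    rintro (h | h)
    · exact not_mem_badC hgood h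
    · exact hDp h
  have hWC : ∀ y ∈ W, y ∉ badC G g U' R' := fun y hy hc => hy (Or.inl hc)
  have hWD : ∀ y ∈ W, y ∉ D := fun y hy hc => hy (Or.inr hc)
  have hgood' := hgood.restrict W hp'W
  have hg' := isEtaleNbhd_restrict W hg hp'W
  obtain ⟨c1, c2, c3⟩ := conclusions hup hg' hgood'
  obtain ⟨f1, f2, f3⟩ := finish W hWC
  refine ⟨W, W.ι ≫ g, ⟨p', hp'W⟩, hg', (ψU G g W) ⁻¹ᵁ U', (ψR G g W) ⁻¹ᵁ R',
    hgood'.closedU, hgood'.closedR, c1, c2, c3, hgood'.finU, hgood'.finR, f1, f2, ?_⟩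
  intro hj
  apply f3
  intro y hy
  have := hWD y hy
  simpa only [D, if_pos hj] using this

end Groth.Agent.Lib.Helper4.EtLocGrpd
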