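import Mathlib
import Groth.Agent.Lib.Helper14.EtaleFixed

/-!
Descent of sections of an étale morphism along a surjective morphism whose base change to the
étale scheme is a quotient map (variant of `Helper14.EtaleSubmDescent.exists_section_of_descent`
with only the two consequences of universal submersivity that the proof uses) (helper4).
-/

set_option autoImplicit false
universe u

namespace Groth.Agent.Lib.Helper4.EtSubm

open AlgebraicGeometry CategoryTheory Limits
open Groth.Agent.Lib.Helper14.EtaleFixed

/-- the equalizer locus of two maps into a target with open-immersion diagonal: if `(φ,c)` lands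
in the diagonal at every point, the maps agree (restated), and conversely membership in the
range of the diagonal is implied by equality after precomposition. -/
theorem mem_range_diag_of_comp_eq {X Y P Q : Scheme.{u}} (f : X ⟶ Y) (φ c : P ⟶ X)
    (h : φ ≫ f = c ≫ f) (k : Q ⟶ P) (hk : k ≫ φ = k ≫ c) (q : Q) :
    (pullback.lift φ c h) (k q) ∈ Set.range (pullback.diagonal f) := by
  refine ⟨(k ≫ φ) q, ?_⟩
  have key : (k ≫ φ) ≫ pullback.diagonal f = k ≫ pullback.lift φ c h := by
    apply pullback.hom_ext
    · rw [Category.assoc, pullback.diagonal_fst, Category.comp_id, Category.assoc,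
        pullback.lift_fst]
    · rw [Category.assoc, pullback.diagonal_snd, Category.comp_id, Category.assoc,
        pullback.lift_snd, hk]
  rw [← Scheme.Hom.comp_apply, ← Scheme.Hom.comp_apply, key]

/-- **Descent of sections.** -/
theorem exists_section_of_descent' {X' X E : Scheme.{u}} (p : X' ⟶ X)
    (hpsurj : Function.Surjective p) (r : E ⟶ X) [Etale r]
    (hquot : Topology.IsQuotientMap (pullback.fst r p)) (σ' : X' ⟶ E) (hσ' : σ' ≫ r = p)
    (hdesc : pullback.fst p p ≫ σ' = pullback.snd p p ≫ σ') :
    ∃ σ : X ⟶ E, σ ≫ r = 𝟙 X ∧ p ≫ σ = σ' := by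
  have hΔ : IsOpenImmersion (pullback.diagonal r) := inferInstance
  let a : pullback r p ⟶ E := pullback.fst r p
  let b : pullback r p ⟶ X' := pullback.snd r p
  have hab : a ≫ r = b ≫ p := pullback.condition
  let τ' : X' ⟶ pullback r p := pullback.lift σ' (𝟙 X') (by rw [hσ', Category.id_comp])
  have hτa : τ' ≫ a = σ' := pullback.lift_fst _ _ _
  have hτb : τ' ≫ b = 𝟙 X' := pullback.lift_snd _ _ _
  have hquot : Topology.IsQuotientMap a := hquot
  -- `τ'` is an open immersion
  have hτet : Etale τ' := by
    have : Etale (τ' ≫ b) := by rw [hτb]; infer_instance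
    exact Etale.of_comp τ' b
  have hτmono : Mono τ' := by
    have : Mono (τ' ≫ b) := by rw [hτb]; infer_instance
    exact mono_of_mono τ' b
  have hτoi : IsOpenImmersion τ' := IsOpenImmersion.of_flat_of_mono τ'
  -- the comparison map
  have hcmp : a ≫ r = (b ≫ σ') ≫ r := by rw [Category.assoc, hσ', hab]
  let cmp : pullback r p ⟶ pullback r r := pullback.lift a (b ≫ σ') hcmp
  -- `range τ' = cmp ⁻¹ (range Δ)`
  have hΩ : Set.range τ' = cmp ⁻¹' (Set.range (pullback.diagonal r)) := by
    ext e'
    constructor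
    · rintro ⟨x', rfl⟩
      refine mem_range_diag_of_comp_eq r a (b ≫ σ') hcmp τ' ?_ x'
      rw [hτa, reassoc_of% hτb]
    · intro he'
      -- the open subscheme `W` where the two maps agree
      let W : (pullback r p).Opens := cmp ⁻¹ᵁ (pullback.diagonal r).opensRange
      have hsub : Set.range (W.ι ≫ cmp) ⊆ Set.range (pullback.diagonal r) := by
        rintro _ ⟨w, rfl⟩
        rw [Scheme.Hom.comp_apply]
        exact w.2
      let k := IsOpenImmersion.lift (pullback.diagonal r) (W.ι ≫ cmp) hsub
      have hk : k ≫ pullback.diagonal r = W.ι ≫ cmp := IsOpenImmersion.lift_fac _ _ _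
      have h1 : W.ι ≫ a = k := by
        have : k ≫ pullback.diagonal r ≫ pullback.fst r r = (W.ι ≫ cmp) ≫ pullback.fst r r := by
          rw [← Category.assoc, hk]
        rw [pullback.diagonal_fst, Category.comp_id, Category.assoc, pullback.lift_fst] at this
        exact this.symm
      have h2 : W.ι ≫ b ≫ σ' = k := by
        have : k ≫ pullback.diagonal r ≫ pullback.snd r r = (W.ι ≫ cmp) ≫ pullback.snd r r := by
          rw [← Category.assoc, hk]
        rw [pullback.diagonal_snd, Category.comp_id, Category.assoc, pullback.lift_snd] at this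
        exact this.symm
      have h3 : W.ι = (W.ι ≫ b) ≫ τ' := by
        apply pullback.hom_ext
        · rw [Category.assoc, hτa]
          show W.ι ≫ a = _
          rw [h1, Category.assoc, h2]
        · rw [Category.assoc, hτb, Category.comp_id]
      have he'W : e' ∈ W := he'
      refine ⟨(W.ι ≫ b) ⟨e', he'W⟩, ?_⟩
      rw [← Scheme.Hom.comp_apply, ← h3]
      rfl
  have hΩopen : IsOpen (Set.range τ') := τ'.isOpenEmbedding.isOpen_range
  -- saturation
  have hsat : a ⁻¹' (Set.range σ') = Set.range τ' := by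
    ext e'
    constructor
    · rintro ⟨x', hx'⟩
      -- `e'` and `τ' x'` have the same image under `a`
      have ha : a (τ' x') = a e' := by
        rw [← Scheme.Hom.comp_apply, hτa, hx']
      obtain ⟨e'', h1, h2⟩ := Scheme.Pullback.exists_preimage_pullback (f := a) (g := a)
        (τ' x') e' ha
      -- the two composites `E'' → E ×_X E` agree
      let q₁ := pullback.fst a a
      let q₂ := pullback.snd a a
      have hq : q₁ ≫ a = q₂ ≫ a := pullback.condition
      have hw : (q₁ ≫ b) ≫ p = (q₂ ≫ b) ≫ p := by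
        rw [Category.assoc, Category.assoc, ← hab, reassoc_of% hq]
      let w : pullback a a ⟶ pullback p p := pullback.lift (q₁ ≫ b) (q₂ ≫ b) hw
      have hbσ : q₁ ≫ b ≫ σ' = q₂ ≫ b ≫ σ' := by
        have e1 : q₁ ≫ b = w ≫ pullback.fst p p := (pullback.lift_fst _ _ _).symm
        have e2 : q₂ ≫ b = w ≫ pullback.snd p p := (pullback.lift_snd _ _ _).symm
        rw [← Category.assoc, e1, Category.assoc, hdesc, ← Category.assoc, ← e2, Category.assoc]
      have hcc : q₁ ≫ cmp = q₂ ≫ cmp := by
        apply pullback.hom_ext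
        · simp only [cmp, Category.assoc, pullback.lift_fst]; exact hq
        · simp only [cmp, Category.assoc, pullback.lift_snd]; exact hbσ
      rw [hΩ]
      show cmp e' ∈ Set.range (pullback.diagonal r)
      have : cmp e' = cmp (τ' x') := by
        rw [← h2, ← h1]
        show (q₂ ≫ cmp) e'' = (q₁ ≫ cmp) e''
        rw [hcc]
      rw [this]
      have : τ' x' ∈ Set.range τ' := ⟨x', rfl⟩
      rw [hΩ] at this
      exact this
    · rintro ⟨x', rfl⟩
      exact ⟨x', by rw [← Scheme.Hom.comp_apply, hτa]⟩
  have hUopen : IsOpen (Set.range σ') := by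
    rw [← hquot.isOpen_preimage, hsat]
    exact hΩopen
  let U : E.Opens := ⟨Set.range σ', hUopen⟩
  let u : (U : Scheme.{u}) ⟶ X := U.ι ≫ r
  -- `σ'` factors through `U`
  let σU : X' ⟶ U := IsOpenImmersion.lift U.ι σ' (by
    rw [Scheme.Opens.range_ι]; exact subset_rfl)
  have hσU : σU ≫ U.ι = σ' := IsOpenImmersion.lift_fac _ _ _
  have hσUu : σU ≫ u = p := by rw [← Category.assoc, hσU, hσ']
  -- `u` is a monomorphism
  have humono : Mono u := by
    constructor
    intro T α β hαβ
    rw [← cancel_mono U.ι]
    have hαβ' : (α ≫ U.ι) ≫ r = (β ≫ U.ι) ≫ r := by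
      simpa only [Category.assoc] using hαβ
    refine eq_of_diag_range r (α ≫ U.ι) (β ≫ U.ι) hαβ' fun t => ?_
    -- pull back to `X'`
    let pr₁ : pullback (α ≫ u) p ⟶ T := pullback.fst (α ≫ u) p
    let pr₂ : pullback (α ≫ u) p ⟶ X' := pullback.snd (α ≫ u) p
    have hpr : pr₁ ≫ α ≫ u = pr₂ ≫ p := pullback.condition
    obtain ⟨x', hx'⟩ := hpsurj ((α ≫ u) t)
    obtain ⟨t', ht', -⟩ := Scheme.Pullback.exists_preimage_pullback (f := α ≫ u) (g := p)
      t x' hx'.symm
    have key : ∀ γ : T ⟶ U, γ ≫ u = α ≫ u → pr₁ ≫ γ ≫ U.ι = pr₂ ≫ σ' := by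
      intro γ hγ
      let γ' : pullback (α ≫ u) p ⟶ pullback r p :=
        pullback.lift (pr₁ ≫ γ ≫ U.ι) pr₂ (by
          rw [Category.assoc, Category.assoc]
          show pr₁ ≫ γ ≫ u = _
          rw [hγ, hpr])
      have hγ'a : γ' ≫ a = pr₁ ≫ γ ≫ U.ι := pullback.lift_fst _ _ _
      have hγ'b : γ' ≫ b = pr₂ := pullback.lift_snd _ _ _
      have hsub : Set.range γ' ⊆ Set.range τ' := by
        rintro _ ⟨z, rfl⟩
        rw [← hsat]
        show a (γ' z) ∈ Set.range σ'
        rw [← Scheme.Hom.comp_apply, hγ'a, Scheme.Hom.comp_apply, Scheme.Hom.comp_apply]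
        exact (γ (pr₁ z)).2
      let l := IsOpenImmersion.lift τ' γ' hsub
      have hl : l ≫ τ' = γ' := IsOpenImmersion.lift_fac _ _ _
      have hl' : l = pr₂ := by
        have := congrArg (· ≫ b) hl
        simp only [Category.assoc, hτb, Category.comp_id, hγ'b] at this
        exact this
      rw [← hγ'a, ← hl, hl', Category.assoc, hτa]
    have e1 := key α rfl
    have e2 := key β hαβ.symm
    rw [← ht']
    exact mem_range_diag_of_comp_eq r (α ≫ U.ι) (β ≫ U.ι) hαβ' pr₁ (by rw [e1, e2]) t'
  have huet : Etale u := inferInstance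
  have huoi : IsOpenImmersion u := IsOpenImmersion.of_flat_of_mono u
  have husurj : Surjective u := by
    constructor
    intro x
    obtain ⟨x', rfl⟩ := hpsurj x
    exact ⟨σU x', by rw [← Scheme.Hom.comp_apply, hσUu]⟩
  have huiso : IsIso u := (isIso_iff_isOpenImmersion_and_surjective u).mpr ⟨huoi, husurj⟩
  refine ⟨inv u ≫ U.ι, ?_, ?_⟩
  · rw [Category.assoc]
    show inv u ≫ u = 𝟙 X
    exact IsIso.inv_hom_id u
  · have : σU = p ≫ inv u := by
      rw [← hσUu, Category.assoc, IsIso.hom_inv_id, Category.comp_id]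
    rw [← Category.assoc, ← this, hσU]


end Groth.Agent.Lib.Helper4.EtSubm
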