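import Mathlib
import Groth.Prelude.Def_NonAbH2
import Groth.Agent.Lib.Helper4.ExactH1
import Groth.Agent.Lib.Helper4.SheafGlue

/-!
# Exactness of the cohomology sequence of fpqc torsors in low degrees (helper4)
-/

set_option autoImplicit false
set_option linter.style.haveILetI false
set_option backward.isDefEq.respectTransparency false
universe u
open CategoryTheory MonoidalCategory CartesianMonoidalCategory MonObj GrpObj AlgebraicGeometry
open CategoryTheory.Limits

namespace Groth.Agent.Lib.Helper4.ExactH1Sch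

theorem exact_at_H1_sub {S : Scheme.{u}}
    {G G' G'' : Over S} [GrpObj G] [GrpObj G'] [GrpObj G'']
    (u : G' ⟶ G) (v : G ⟶ G'') (hex : NonAbH1.IsExactSeq Scheme.fpqcPrecoverage u v)
    (Q : NonAbH1.TorsorSch G' Scheme.fpqcPrecoverage) :
    NonAbH1.IsPushforwardAlongSch u Q.act (NonAbH1.trivialAction G) ↔
      ∃ (f : 𝟙_ (Over S) ⟶ G'') (i : Q.X ⟶ G), NonAbH1.IsPullbackTorsor u v f i Q.act := by
  obtain ⟨hu, hv, huv, hpb, hloc⟩ := hex
  constructor
  · rintro ⟨j, hj⟩
    haveI : IsIso (lift Q.act.act (snd G' Q.X)) := Q.isTorsor.1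
    have hE := SheafGlue.effEpi_of_isLocallyTrivialFor Q.X Q.isTorsor.2
    obtain ⟨f, i, hpbi, hi⟩ := ExactH1.exists_pullbackTorsor_of_pushforward u v huv hpb
      Q.act.act Q.act.one_act hE j hj
    exact ⟨f, i, hu, hv, hpbi, hi⟩
  · rintro ⟨f, i, -, -, -, hi⟩
    exact ⟨i⁻¹, ExactH1.pushforward_of_pullbackTorsor u Q.act.act i hi⟩

end Groth.Agent.Lib.Helper4.ExactH1Sch
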