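import Mathlib
import Groth.Prelude.Def_NonAbH2
import Groth.Agent.Lib.Helper4.ExactH1
import Groth.Agent.Lib.Helper4.SheafGlue

/-!
# Exactness of the cohomology sequence of fpqc torsors at `H¹(S, G)` (helper4)
-/

set_option autoImplicit false
set_option linter.style.haveILetI false
set_option backward.isDefEq.respectTransparency false
universe u
open CategoryTheory MonoidalCategory CartesianMonoidalCategory MonObj GrpObj AlgebraicGeometry
open CategoryTheory.Limits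

namespace Groth.Agent.Lib.Helper4.ExactH1Sch

/-- Local triviality of the fibre over the unit section of an equivariant morphism `ρ : P ⟶ G''`. -/
theorem isLocallyTrivialFor_fibre {S : Scheme.{u}}
    {G G'' P Q : Over S} [GrpObj G] [GrpObj G'']
    (v : G ⟶ G'') [IsMonHom v] (aP : G ⊗ P ⟶ P)
    (ρ : P ⟶ G'') (hρ : aP ≫ ρ = lift (fst G P ≫ v) (snd G P ≫ ρ) ≫ μ[G''])
    (hP : NonAbH1.IsLocallyTrivialFor Scheme.fpqcPrecoverage P)
    (hv : NonAbH1.IsLocallyTrivialFor Scheme.fpqcPrecoverage (Over.mk v.left : Over G''.left))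
    (inc : Q ⟶ P) (hQ : IsPullback inc (toUnit Q) ρ η[G'']) :
    NonAbH1.IsLocallyTrivialFor Scheme.fpqcPrecoverage Q := by
  have hρpt : ∀ {T : Over S} (g : T ⟶ G) (p : T ⟶ P), (lift g p ≫ aP) ≫ ρ = (g ≫ v) * (p ≫ ρ) := by
    intro T g p
    rw [Category.assoc, hρ, ← Category.assoc, Hom.mul_def]
    congr 1
    apply CartesianMonoidalCategory.hom_ext <;> simp
  obtain ⟨RP, hRP, hsecP⟩ := hP
  obtain ⟨Rv, hRv, hsecv⟩ := hv
  obtain ⟨𝒰, rfl⟩ := RP.exists_eq_preZeroHypercover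
  obtain ⟨𝒱, rfl⟩ := Rv.exists_eq_preZeroHypercover
  choose p hp using fun i => hsecP (𝒰.f i) (Presieve.ofArrows.mk i)
  choose s hs using fun k => hsecv (𝒱.f k) (Presieve.ofArrows.mk k)
  have hs' : ∀ k, s k ≫ v.left = 𝒱.f k := hs
  let c : ∀ i, 𝒰.X i ⟶ G''.left := fun i => p i ≫ ρ.left
  have hmem : Presieve.ofArrows (fun q : Σ _ : 𝒰.I₀, 𝒱.I₀ => pullback (c q.1) (𝒱.f q.2))
      (fun q => pullback.fst (c q.1) (𝒱.f q.2) ≫ 𝒰.f q.1) ∈ Scheme.fpqcPrecoverage S :=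
    Precoverage.comp_mem_coverings (J := Scheme.fpqcPrecoverage) 𝒰.f hRP
      (σ := fun _ => 𝒱.I₀) (Y := fun i k => pullback (c i) (𝒱.f k))
      (fun i k => pullback.fst (c i) (𝒱.f k))
      (fun i => Precoverage.mem_coverings_of_isPullback 𝒱.f hRv (c i) _
        (fun k => pullback.snd (c i) (𝒱.f k)) (fun k => IsPullback.of_hasPullback (c i) (𝒱.f k)))
  refine ⟨_, hmem, ?_⟩
  rintro S' f ⟨⟨i, k⟩⟩
  -- the section over the member `(i, k)`
  let W : Over S := Over.mk (pullback.fst (c i) (𝒱.f k) ≫ 𝒰.f i)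
  let pW : W ⟶ P := Over.homMk (pullback.fst (c i) (𝒱.f k) ≫ p i) (by
    change (pullback.fst (c i) (𝒱.f k) ≫ p i) ≫ P.hom = pullback.fst (c i) (𝒱.f k) ≫ 𝒰.f i
    rw [Category.assoc, hp])
  have hcond : pullback.snd (c i) (𝒱.f k) ≫ 𝒱.f k = pullback.fst (c i) (𝒱.f k) ≫ p i ≫ ρ.left :=
    pullback.condition.symm
  let gW : W ⟶ G := Over.homMk (pullback.snd (c i) (𝒱.f k) ≫ s k) (by
    change (pullback.snd (c i) (𝒱.f k) ≫ s k) ≫ G.hom = pullback.fst (c i) (𝒱.f k) ≫ 𝒰.f i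
    rw [← Over.w v, Category.assoc, ← Category.assoc (s k), hs', ← Category.assoc, hcond,
      Category.assoc, Category.assoc, Over.w ρ, hp])
  have hgv : gW ≫ v = pW ≫ ρ := by
    ext
    change (pullback.snd (c i) (𝒱.f k) ≫ s k) ≫ v.left = (pullback.fst (c i) (𝒱.f k) ≫ p i) ≫ ρ.left
    rw [Category.assoc, hs', hcond, Category.assoc]
  let qP : W ⟶ P := lift gW⁻¹ pW ≫ aP
  have hqP : qP ≫ ρ = toUnit W ≫ η[G''] := by
    rw [hρpt, GrpObj.inv_comp, hgv, inv_mul_cancel, Hom.one_def]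
  let q : W ⟶ Q := hQ.lift qP (toUnit W) hqP
  exact ⟨q.left, Over.w q⟩

theorem exact_at_H1 {S : Scheme.{u}}
    {G G' G'' : Over S} [GrpObj G] [GrpObj G'] [GrpObj G'']
    (u : G' ⟶ G) (v : G ⟶ G'') (hex : NonAbH1.IsExactSeq Scheme.fpqcPrecoverage u v)
    (P : NonAbH1.TorsorSch G Scheme.fpqcPrecoverage) :
    NonAbH1.IsPushforwardAlongSch v P.act (NonAbH1.trivialAction G'') ↔
      ∃ Q : NonAbH1.TorsorSch G' Scheme.fpqcPrecoverage, NonAbH1.IsPushforwardAlongSch u Q.act P.act := by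
  obtain ⟨hu, hv, huv, hpb, hloc⟩ := hex
  haveI : IsIso (lift P.act.act (snd G P.X)) := P.isTorsor.1
  constructor
  · rintro ⟨ρ, hρ⟩
    have hρ' : P.act.act ≫ ρ = lift (fst G P.X ≫ v) (snd G P.X ≫ ρ) ≫ μ[G''] := hρ
    have hQ : IsPullback (pullback.fst ρ η[G'']) (toUnit (pullback ρ η[G''])) ρ η[G''] := by
      have := IsPullback.of_hasPullback ρ η[G'']
      rwa [toUnit_unique (pullback.snd ρ η[G'']) (toUnit _)] at this
    obtain ⟨aQ, h1, h2, h3, h4⟩ := ExactH1.reduction_of_equivariant u v huv hpb P.act.act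
      P.act.one_act P.act.mul_act ρ hρ' (pullback.fst ρ η[G'']) hQ
    have hlocQ := isLocallyTrivialFor_fibre v P.act.act ρ hρ' P.isTorsor.2 hloc
      (pullback.fst ρ η[G'']) hQ
    exact ⟨⟨pullback ρ η[G''], ⟨aQ, h1, h2⟩, ⟨h3, hlocQ⟩⟩, pullback.fst ρ η[G''], h4⟩
  · rintro ⟨Q, h, hh⟩
    haveI : IsIso (lift Q.act.act (snd G' Q.X)) := Q.isTorsor.1
    have hE := SheafGlue.effEpi_of_isLocallyTrivialFor Q.X Q.isTorsor.2
    obtain ⟨ρ, hρ⟩ := ExactH1.exists_equivariant_of_reduction u v huv P.act.act P.act.one_act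
      P.act.mul_act Q.act.act hE h hh
    exact ⟨ρ, hρ⟩

end Groth.Agent.Lib.Helper4.ExactH1Sch
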