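import Mathlib
import Groth.Agent.Lib.Helper4.ExactH1

/-!
# Abstract functoriality of push-forwards of torsors (helper4)

`existsUnique_pushforward_hom`: in a cartesian monoidal category, if `q' : P ⟶ P'` and `q'' : P ⟶ P''` are equivariant along
`u : J ⟶ J'` and `u ≫ v : J ⟶ J''`, with `P`, `P'` pseudo-torsors and `P ⟶ 𝟙` a universally effective epimorphism, then there
is exactly one `v`-equivariant `r : P' ⟶ P''` with `q' ≫ r = q''`.
-/

set_option autoImplicit false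
set_option linter.unusedSectionVars false
universe v₁ u₁
open CategoryTheory MonoidalCategory CartesianMonoidalCategory MonObj GrpObj Limits

namespace Groth.Agent.Lib.Helper4.ExactH1

variable {C : Type u₁} [Category.{v₁} C] [CartesianMonoidalCategory C]

section Div

variable {G X : C} [GrpObj G] (a : G ⊗ X ⟶ X) (hone : (η[G] ▷ X) ≫ a = (λ_ X).hom)
  (hmul : (μ[G] ▷ X) ≫ a = (α_ G G X).hom ≫ (G ◁ a) ≫ a) [IsIso (lift a (snd G X))]

include hone hmul in
theorem divMap_act_right {T : C} (p p' : T ⟶ X) (g : T ⟶ G) :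
    lift p (lift g p' ≫ a) ≫ divMap a = (lift p p' ≫ divMap a) * g⁻¹ := by
  symm
  apply eq_divMap
  rw [mul_pt a hmul, ← mul_pt a hmul g⁻¹ g, inv_mul_cancel, one_pt a hone, act_divMap]

include hmul in
theorem divMap_act_left {T : C} (p p' : T ⟶ X) (g : T ⟶ G) :
    lift (lift g p ≫ a) p' ≫ divMap a = g * (lift p p' ≫ divMap a) := by
  symm
  apply eq_divMap
  rw [mul_pt a hmul, act_divMap]

include hone in
theorem divMap_self {T : C} (p : T ⟶ X) : lift p p ≫ divMap a = 1 := by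
  symm
  apply eq_divMap
  rw [one_pt a hone]

end Div

variable {J J' J'' P P' P'' : C} [GrpObj J] [GrpObj J'] [GrpObj J'']

theorem existsUnique_pushforward_hom (u : J ⟶ J') (v : J' ⟶ J'') [IsMonHom u] [IsMonHom v]
    (a : J ⊗ P ⟶ P) [IsIso (lift a (snd J P))] (hE : EffEpi P)
    (a' : J' ⊗ P' ⟶ P') (hone' : (η[J'] ▷ P') ≫ a' = (λ_ P').hom)
    (hmul' : (μ[J'] ▷ P') ≫ a' = (α_ J' J' P').hom ≫ (J' ◁ a') ≫ a') [IsIso (lift a' (snd J' P'))]
    (a'' : J'' ⊗ P'' ⟶ P'') (hone'' : (η[J''] ▷ P'') ≫ a'' = (λ_ P'').hom)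
    (hmul'' : (μ[J''] ▷ P'') ≫ a'' = (α_ J'' J'' P'').hom ≫ (J'' ◁ a'') ≫ a'')
    (q' : P ⟶ P') (hq' : a ≫ q' = lift (fst J P ≫ u) (snd J P ≫ q') ≫ a')
    (q'' : P ⟶ P'') (hq'' : a ≫ q'' = lift (fst J P ≫ u ≫ v) (snd J P ≫ q'') ≫ a'') :
    ∃! r : P' ⟶ P'', a' ≫ r = lift (fst J' P' ≫ v) (snd J' P' ≫ r) ≫ a'' ∧ q' ≫ r = q'' := by
  have hq'pt : ∀ {T : C} (j : T ⟶ J) (p : T ⟶ P), (lift j p ≫ a) ≫ q' = lift (j ≫ u) (p ≫ q') ≫ a' := by
    intro T j p
    rw [Category.assoc, hq', ← Category.assoc]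
    congr 1
    apply CartesianMonoidalCategory.hom_ext <;> simp
  have hq''pt : ∀ {T : C} (j : T ⟶ J) (p : T ⟶ P),
      (lift j p ≫ a) ≫ q'' = lift ((j ≫ u) ≫ v) (p ≫ q'') ≫ a'' := by
    intro T j p
    rw [Category.assoc, hq'', ← Category.assoc]
    congr 1
    apply CartesianMonoidalCategory.hom_ext <;> simp
  let m : P ⊗ P' ⟶ P'' :=
    lift (lift (snd P P') (fst P P' ≫ q') ≫ divMap a' ≫ v) (fst P P' ≫ q'') ≫ a''
  have hmpt : ∀ {T : C} (p : T ⟶ P) (p' : T ⟶ P'),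
      lift p p' ≫ m = lift ((lift p' (p ≫ q') ≫ divMap a') ≫ v) (p ≫ q'') ≫ a'' := by
    intro T p p'
    have e0 : lift p p' ≫ lift (snd P P') (fst P P' ≫ q') = lift p' (p ≫ q') := by
      apply CartesianMonoidalCategory.hom_ext <;> simp
    have e1 : lift p p' ≫ lift (lift (snd P P') (fst P P' ≫ q') ≫ divMap a' ≫ v) (fst P P' ≫ q'') =
        lift ((lift p' (p ≫ q') ≫ divMap a') ≫ v) (p ≫ q'') := by
      apply CartesianMonoidalCategory.hom_ext
      · simp only [Category.assoc, lift_fst]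
        rw [← Category.assoc, e0]
      · simp
    simp only [m]
    rw [← Category.assoc, e1]
  obtain ⟨r, hr, hruniq⟩ := hE P' P'' m (fun W p₁ p₂ p' => by
    obtain ⟨j, hj, -⟩ := existsUnique_act a p₁ p₂
    rw [hmpt, hmpt, ← hj, hq'pt, hq''pt, divMap_act_right a' hone' hmul', MonObj.mul_comp,
      GrpObj.inv_comp, ← mul_pt a'' hmul'', inv_mul_cancel_right])
  have hrpt : ∀ {T : C} (p : T ⟶ P) (p' : T ⟶ P'),
      p' ≫ r = lift ((lift p' (p ≫ q') ≫ divMap a') ≫ v) (p ≫ q'') ≫ a'' := by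
    intro T p p'
    rw [← hmpt, ← hr, lift_snd_assoc]
  have hr1 : a' ≫ r = lift (fst J' P' ≫ v) (snd J' P' ≫ r) ≫ a'' := by
    have := hE.epi_snd (J' ⊗ P')
    rw [← cancel_epi (snd P (J' ⊗ P'))]
    rw [← Category.assoc, hrpt (fst P (J' ⊗ P')) (snd P (J' ⊗ P') ≫ a')]
    have e1 : snd P (J' ⊗ P') ≫ a' =
        lift (snd P (J' ⊗ P') ≫ fst J' P') (snd P (J' ⊗ P') ≫ snd J' P') ≫ a' := by
      congr 1
      apply CartesianMonoidalCategory.hom_ext <;> simp
    rw [e1, divMap_act_left a' hmul', MonObj.mul_comp, mul_pt a'' hmul'', ← hrpt]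
    rw [← Category.assoc]
    congr 1
    apply CartesianMonoidalCategory.hom_ext <;> simp
  have hr2 : q' ≫ r = q'' := by
    have := hrpt (𝟙 P) q'
    rw [Category.id_comp, Category.id_comp, divMap_self a' hone', MonObj.one_comp, one_pt a'' hone''] at this
    exact this
  refine ⟨r, ⟨hr1, hr2⟩, fun r' ⟨hr1', hr2'⟩ => ?_⟩
  apply hruniq
  have hr'pt : ∀ {T : C} (j' : T ⟶ J') (p' : T ⟶ P'),
      (lift j' p' ≫ a') ≫ r' = lift (j' ≫ v) (p' ≫ r') ≫ a'' := by
    intro T j' p'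
    rw [Category.assoc, hr1', ← Category.assoc]
    congr 1
    apply CartesianMonoidalCategory.hom_ext <;> simp
  have e2 : snd P P' = lift (lift (snd P P') (fst P P' ≫ q') ≫ divMap a') (fst P P' ≫ q') ≫ a' :=
    (act_divMap a' _ _).symm
  have e3 : 𝟙 (P ⊗ P') = lift (fst P P') (snd P P') := by
    apply CartesianMonoidalCategory.hom_ext <;> simp
  have e4 : (fst P P' ≫ q') ≫ r' = fst P P' ≫ q'' := by rw [Category.assoc, hr2']
  rw [e2, hr'pt, e4, ← Category.id_comp m, e3, hmpt]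

end Groth.Agent.Lib.Helper4.ExactH1
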