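import Mathlib
import Groth.Prelude.Def_NonAbH2
import Groth.Agent.Lib.Helper4.CentralExt

/-!
# Rigidity of commutative extensions (helper4)

* `isMonHom_of_mul`: a morphism of group objects in a cartesian monoidal category which is multiplicative on the universal pair
  of points is a homomorphism.
* `rigid_of_exact`: for a sequence `1 → G → E → P → 1` exact for the fppf topology with `E` commutative, if every
  homomorphism `P ⟶ G` is trivial then every endomorphism of the group `E` compatible with `u` and `v` is the identity.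
-/

set_option autoImplicit false
universe u
open CategoryTheory CategoryTheory.Limits MonoidalCategory CartesianMonoidalCategory MonObj GrpObj AlgebraicGeometry

namespace Groth.Agent.Lib.Helper4.ExtRigid

open Groth.Agent.Lib.Helper4.ExactH1 Groth.Agent.Lib.Helper4.CentralExt

theorem isMonHom_of_mul {C : Type*} [Category C] [CartesianMonoidalCategory C] {P G : C} [GrpObj P] [GrpObj G] (d : P ⟶ G)
    (h : (fst P P * snd P P) ≫ d = (fst P P ≫ d) * (snd P P ≫ d)) : IsMonHom d := by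
  have hmul : ∀ {T : C} (x y : T ⟶ P), (x * y) ≫ d = (x ≫ d) * (y ≫ d) := by
    intro T x y
    have := congrArg (fun m => lift x y ≫ m) h
    simpa only [← Category.assoc, MonObj.comp_mul, lift_fst, lift_snd] using this
  have hone : (1 : 𝟙_ C ⟶ P) ≫ d = 1 := by
    have := hmul (1 : 𝟙_ C ⟶ P) 1
    rw [_root_.mul_one] at this
    exact mul_eq_left.1 this.symm
  refine ⟨?_, ?_⟩
  · rw [MonObj.one_eq_one P, MonObj.one_eq_one G]; exact hone
  · have hμ : μ[P] = fst P P * snd P P := by rw [Hom.mul_def, lift_fst_snd, Category.id_comp]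
    rw [hμ, h, Hom.mul_def, lift_fst_comp_snd_comp]

theorem comm_aux {H : Type*} [CommGroup H] (a b x y : H) : (a * b) * (x * y)⁻¹ = (a * x⁻¹) * (b * y⁻¹) := by
  rw [_root_.mul_inv, _root_.mul_mul_mul_comm]

variable {S : Scheme.{u}} {P G E : Over S} [GrpObj P] [GrpObj G] [GrpObj E]

/-- **Rigidity.** -/
theorem rigid_of_exact [IsCommMonObj E] (u : G ⟶ E) (v : E ⟶ P)
    (hex : NonAbH1.IsExactSeq Scheme.fppfPrecoverage u v)
    (hPG : ∀ d : P ⟶ G, IsMonHom d → d = 1)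
    (φ : E ⟶ E) [IsMonHom φ] (hφu : u ≫ φ = u) (hφv : φ ≫ v = v) : φ = 𝟙 E := by
  obtain ⟨hu, hv, huv, hpb, hloc⟩ := hex
  have hloc' : NonAbH1.IsLocallyTrivialFor Scheme.fpqcPrecoverage (Over.mk v.left : Over P.left) :=
    QuotSectionSch.isLocallyTrivialFor_mono Scheme.fppfPrecoverage_le_fpqcPrecoverage _ hloc
  have hinj : ∀ {T : Over S} (g₁ g₂ : T ⟶ G), g₁ ≫ u = g₂ ≫ u → g₁ = g₂ := fun g₁ g₂ h =>
    u_inj_pt u v huv hpb g₁ g₂ h
  obtain ⟨d, hd⟩ := exists_factor u v huv hpb (φ * (𝟙 E)⁻¹) (by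
    rw [MonObj.mul_comp, GrpObj.inv_comp, hφv, Category.id_comp, mul_inv_cancel])
  have hdp : ∀ {T : Over S} (x : T ⟶ E), (x ≫ d) ≫ u = (x ≫ φ) * x⁻¹ := by
    intro T x
    rw [Category.assoc, hd, MonObj.comp_mul, GrpObj.comp_inv, Category.comp_id]
  have hdmul : ∀ {T : Over S} (x y : T ⟶ E), (x * y) ≫ d = (x ≫ d) * (y ≫ d) := by
    intro T x y
    apply hinj
    rw [hdp, MonObj.mul_comp, MonObj.mul_comp, hdp, hdp]
    exact comm_aux _ _ _ _
  have hdu : u ≫ d = 1 := by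
    apply hinj
    rw [hdp, hφu, mul_inv_cancel, MonObj.one_comp]
  have hinv : ∀ (T : Over S) (x₁ x₂ : T ⟶ E), x₁ ≫ v = x₂ ≫ v → x₁ ≫ d = x₂ ≫ d := by
    intro T x₁ x₂ hx
    obtain ⟨g', hg', -⟩ := existsUnique_of_exact u v hpb x₁ x₂ hx
    rw [hg', hdmul, Category.assoc, hdu, MonObj.comp_one, _root_.mul_one]
  obtain ⟨db, hdb, -⟩ := TorsorDesc.existsUnique_desc v hloc' d hinv
  have hepi2 : Epi (v ▷ E ≫ P ◁ v) := by
    have := TorsorDesc.epi_of_isLocallyTrivialFor _ (isLocallyTrivialFor_whiskerRight v E _ hloc')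
    have := TorsorDesc.epi_of_isLocallyTrivialFor _ (TorsorDesc.isLocallyTrivialFor_whiskerLeft v P _ hloc')
    exact epi_comp _ _
  have e1 : (v ▷ E ≫ P ◁ v) ≫ fst P P = fst E E ≫ v := by
    rw [Category.assoc, whiskerLeft_fst, whiskerRight_fst]
  have e2 : (v ▷ E ≫ P ◁ v) ≫ snd P P = snd E E ≫ v := by
    rw [Category.assoc, whiskerLeft_snd, whiskerRight_snd_assoc]
  have hL : (v ▷ E ≫ P ◁ v) ≫ (fst P P * snd P P) ≫ db = (fst E E ≫ d) * (snd E E ≫ d) := by
    calc (v ▷ E ≫ P ◁ v) ≫ (fst P P * snd P P) ≫ db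
        = ((v ▷ E ≫ P ◁ v) ≫ (fst P P * snd P P)) ≫ db := (Category.assoc _ _ _).symm
      _ = ((fst E E * snd E E) ≫ v) ≫ db := by rw [MonObj.comp_mul, e1, e2, MonObj.mul_comp (fst E E) (snd E E) v]
      _ = (fst E E ≫ d) * (snd E E ≫ d) := by rw [Category.assoc, hdb, hdmul]
  have hR : (v ▷ E ≫ P ◁ v) ≫ ((fst P P ≫ db) * (snd P P ≫ db)) = (fst E E ≫ d) * (snd E E ≫ d) := by
    rw [MonObj.comp_mul, ← Category.assoc, e1, ← Category.assoc, e2, Category.assoc, hdb, Category.assoc, hdb]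
  have hdbmul : (fst P P * snd P P) ≫ db = (fst P P ≫ db) * (snd P P ≫ db) := by
    rw [← cancel_epi (v ▷ E ≫ P ◁ v), hL, hR]
  have hdb1 : db = 1 := hPG db (isMonHom_of_mul db hdbmul)
  have hd1 : d = 1 := by rw [← hdb, hdb1, MonObj.comp_one]
  rw [hd1, MonObj.one_comp] at hd
  exact (mul_inv_eq_one.1 hd.symm)

end Groth.Agent.Lib.Helper4.ExtRigid
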