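import Mathlib
import Groth.Agent.Lib.Helper4.DescFF

/-!
# Gluing morphisms of `X`-schemes on local points of an fpqc covering family (helper4)

Fix an fpqc covering family `f i : U i ⟶ X`.  A *local point* of an `X`-scheme `T` is a morphism `x : T.left ⟶ U i` over `X`
(`x ≫ f i = T.hom`).

* `lp_comp`: composite of a local point with a morphism over `X`.
* `hom_ext_localPts`: two morphisms `Z ⟶ W` over `X` which agree on all points `z : T ⟶ Z` of `X`-schemes `T` that carry a
  local point are equal.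
* `exists_glue`: a family of maps `(T ⟶ Z) → (T ⟶ W)` defined for `X`-schemes `T` with a chosen local point, natural in `T`
  and independent of the local point, comes from a (unique) morphism `Z ⟶ W` over `X`.
-/

set_option autoImplicit false
set_option backward.isDefEq.respectTransparency false
universe w u
open CategoryTheory CategoryTheory.Limits AlgebraicGeometry

namespace Groth.Agent.Lib.Helper4.FamGlue

open Groth.Agent.Lib.Helper4.SheafGlue Groth.Agent.Lib.Helper4.DescFF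

variable {X : Scheme.{u}} {I : Type w} {U : I → Scheme.{u}} (f : ∀ i, U i ⟶ X)

/-- A local point of `T` composed with a morphism `T' ⟶ T` over `X`. -/
theorem lp_comp {T T' : Over X} (g : T' ⟶ T) {i : I} {x : T.left ⟶ U i} (h : x ≫ f i = T.hom) :
    (g.left ≫ x) ≫ f i = T'.hom := by
  rw [Category.assoc, h, Over.w]

/-- Two morphisms of `X`-schemes which agree on all points with values in `X`-schemes carrying a local point are equal. -/
theorem hom_ext_localPts (hf : Presieve.ofArrows U f ∈ Scheme.fpqcPrecoverage X) {Z W : Over X} (F F' : Z ⟶ W)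
    (h : ∀ (T : Over X) (i : I) (x : T.left ⟶ U i), x ≫ f i = T.hom → ∀ z : T ⟶ Z, z ≫ F = z ≫ F') : F = F' := by
  apply Over.OverMorphism.ext
  refine hom_ext_of_fpqc _ _ (pullback_cover f hf Z.hom) _ _ (fun i => ?_)
  have := h (Over.mk (pullback.fst (f i) Z.hom ≫ f i)) i (pullback.fst (f i) Z.hom) rfl
    (Over.homMk (pullback.snd (f i) Z.hom) pullback.condition.symm)
  exact congrArg (fun a => a.left) this

section glue

variable {Z W : Over X}
  (m : ∀ (T : Over X) (i : I) (x : T.left ⟶ U i), x ≫ f i = T.hom → (T ⟶ Z) → (T ⟶ W))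

/-- Scheme-level form of `m` with an explicit structure morphism. -/
def mS {T : Scheme.{u}} (t : T ⟶ X) (i : I) (x : T ⟶ U i) (h : x ≫ f i = t) (z : T ⟶ Z.left)
    (hz : z ≫ Z.hom = t) : T ⟶ W.left :=
  (m (Over.mk t) i x h (Over.homMk z hz)).left

theorem mS_hom {T : Scheme.{u}} (t : T ⟶ X) (i : I) (x : T ⟶ U i) (h : x ≫ f i = t) (z : T ⟶ Z.left)
    (hz : z ≫ Z.hom = t) : mS f m t i x h z hz ≫ W.hom = t :=
  Over.w (m (Over.mk t) i x h (Over.homMk z hz))

theorem mS_congr {T : Scheme.{u}} {t t' : T ⟶ X} {i : I} {x x' : T ⟶ U i} (h : x ≫ f i = t) {z z' : T ⟶ Z.left}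
    (hz : z ≫ Z.hom = t) (et : t = t') (ex : x = x') (ez : z = z') :
    mS f m t i x h z hz =
      mS f m t' i x' (by rw [← et, ← ex]; exact h) z' (by rw [← et, ← ez]; exact hz) := by
  subst et ex ez; rfl

theorem comp_mS
    (hnat : ∀ (T T' : Over X) (g : T' ⟶ T) (i : I) (x : T.left ⟶ U i) (h : x ≫ f i = T.hom) (z : T ⟶ Z),
      g ≫ m T i x h z = m T' i (g.left ≫ x) (lp_comp f g h) (g ≫ z))
    {T T' : Scheme.{u}} (g : T' ⟶ T) (t : T ⟶ X) (i : I) (x : T ⟶ U i) (h : x ≫ f i = t) (z : T ⟶ Z.left)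
    (hz : z ≫ Z.hom = t) :
    g ≫ mS f m t i x h z hz =
      mS f m (g ≫ t) i (g ≫ x) (by rw [Category.assoc, h]) (g ≫ z) (by rw [Category.assoc, hz]) := by
  have e := hnat (Over.mk t) (Over.mk (g ≫ t)) (Over.homMk g rfl) i x h (Over.homMk z hz)
  have e' := congrArg (fun a => a.left) e
  refine e'.trans ?_
  have ez : (Over.homMk g rfl : Over.mk (g ≫ t) ⟶ Over.mk t) ≫ Over.homMk z hz =
      Over.homMk (g ≫ z) (by rw [Category.assoc, hz]; rfl) := Over.OverMorphism.ext rfl
  unfold mS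
  rw [ez]
  rfl

/-- **Gluing on local points.** -/
theorem exists_glue (hf : Presieve.ofArrows U f ∈ Scheme.fpqcPrecoverage X)
    (hnat : ∀ (T T' : Over X) (g : T' ⟶ T) (i : I) (x : T.left ⟶ U i) (h : x ≫ f i = T.hom) (z : T ⟶ Z),
      g ≫ m T i x h z = m T' i (g.left ≫ x) (lp_comp f g h) (g ≫ z))
    (hind : ∀ (T : Over X) (i j : I) (x₀ : T.left ⟶ U i) (x₁ : T.left ⟶ U j) (h₀ : x₀ ≫ f i = T.hom)
      (h₁ : x₁ ≫ f j = T.hom) (z : T ⟶ Z), m T i x₀ h₀ z = m T j x₁ h₁ z) :
    ∃ F : Z ⟶ W, ∀ (T : Over X) (i : I) (x : T.left ⟶ U i) (h : x ≫ f i = T.hom) (z : T ⟶ Z),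
      z ≫ F = m T i x h z := by
  have hindS : ∀ {T : Scheme.{u}} (t : T ⟶ X) (i j : I) (x₀ : T ⟶ U i) (x₁ : T ⟶ U j) (h₀ : x₀ ≫ f i = t)
      (h₁ : x₁ ≫ f j = t) (z : T ⟶ Z.left) (hz : z ≫ Z.hom = t),
      mS f m t i x₀ h₀ z hz = mS f m t j x₁ h₁ z hz := fun t i j x₀ x₁ h₀ h₁ z hz =>
    congrArg (fun a => a.left) (hind (Over.mk t) i j x₀ x₁ h₀ h₁ (Over.homMk z hz))
  obtain ⟨G, hG⟩ := exists_glue_of_fpqc _ _ (pullback_cover f hf Z.hom)
    (fun i => mS f m (pullback.fst (f i) Z.hom ≫ f i) i (pullback.fst (f i) Z.hom) rfl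
      (pullback.snd (f i) Z.hom) pullback.condition.symm) (by
      intro i j W' gi gj hg
      rw [comp_mS f m hnat, comp_mS f m hnat]
      have ht : gi ≫ pullback.fst (f i) Z.hom ≫ f i = gj ≫ pullback.fst (f j) Z.hom ≫ f j := by
        rw [pullback.condition, pullback.condition, ← Category.assoc, hg, Category.assoc]
      refine (mS_congr f m _ _ ht rfl hg).trans ?_
      exact hindS _ _ _ _ _ _ _ _ _)
  have hGw : G ≫ W.hom = Z.hom := by
    refine hom_ext_of_fpqc _ _ (pullback_cover f hf Z.hom) _ _ (fun i => ?_)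
    rw [← Category.assoc, hG, mS_hom, pullback.condition]
  refine ⟨Over.homMk G hGw, fun T i x h z => ?_⟩
  apply Over.OverMorphism.ext
  show z.left ≫ G = (m T i x h z).left
  have hz : z.left ≫ Z.hom = T.hom := Over.w z
  have hv1 : pullback.lift x z.left (h.trans hz.symm) ≫ pullback.fst (f i) Z.hom = x := pullback.lift_fst _ _ _
  have hv2 : pullback.lift x z.left (h.trans hz.symm) ≫ pullback.snd (f i) Z.hom = z.left := pullback.lift_snd _ _ _
  have e1 : z.left ≫ G = pullback.lift x z.left (h.trans hz.symm) ≫ pullback.snd (f i) Z.hom ≫ G := by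
    rw [← Category.assoc, hv2]
  rw [e1, hG, comp_mS f m hnat]
  refine (mS_congr f m _ _ (by rw [← Category.assoc, hv1, h]) hv1 hv2).trans ?_
  rfl

end glue

end Groth.Agent.Lib.Helper4.FamGlue
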