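import Groth.Agent.Lib.Helper4.MagicSq

/-!
# The base change of the diagonal along a pair whose second member factors through a terminal-like category (helper4)

For `y' = (x₁, x₂) : 𝒜 ⟶ 𝒳 × 𝒳` over `C` with `x₂ ≅ c ⋙ u` for `u : 𝒯 ⟶ 𝒳` and `𝒯` with exactly one morphism over every
morphism of `C` between the images of two objects: `𝒜 ×_{𝒳 × 𝒳} 𝒳 ≃ 𝒜 ×_{x₁, 𝒳, u} 𝒯`.
-/

set_option autoImplicit false
set_option backward.isDefEq.respectTransparency false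
set_option backward.isDefEq.respectTransparency.types false
set_option linter.unusedSectionVars false
set_option linter.unusedVariables false
open CategoryTheory CategoryTheory.Functor CategoryTheory.Limits
universe v₄ u₄ v₃ u₃ v₂ u₂ v u

namespace Groth.Agent.Lib.helper4.FibEqDiag
open Groth.Agent.FibEquiv Groth.Agent.Lib.helper4.FibPaste Groth.Agent.Lib.helper4.DiagBC FibCat

variable {C : Type u} [Category.{v} C]

theorem selfOver_ext {R : C} {a b : (selfOver C).obj} (f g : a ⟶ b) (hf : (selfOver C).p.IsHomLift (𝟙 R) f)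
    (hg : (selfOver C).p.IsHomLift (𝟙 R) g) : f = g := by
  have h1 := IsHomLift.fac' (selfOver C).p (𝟙 R) f
  have h2 := IsHomLift.fac' (selfOver C).p (𝟙 R) g
  exact h1.trans h2.symm

section Terminal

variable {𝒯 : BasedCategory.{v₄, u₄} C}
  (hT : ∀ (w w' : 𝒯.obj) (k : 𝒯.p.obj w ⟶ 𝒯.p.obj w'), ∃! m : w ⟶ w', 𝒯.p.map m = k)

/-- the unique morphism over a morphism of the base -/
noncomputable def uMor (w w' : 𝒯.obj) (k : 𝒯.p.obj w ⟶ 𝒯.p.obj w') : w ⟶ w' := (hT w w' k).exists.choose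

theorem uMor_map (w w' : 𝒯.obj) (k : 𝒯.p.obj w ⟶ 𝒯.p.obj w') : 𝒯.p.map (uMor hT w w' k) = k :=
  (hT w w' k).exists.choose_spec

include hT in
theorem mor_ext {w w' : 𝒯.obj} (m m' : w ⟶ w') (h : 𝒯.p.map m = 𝒯.p.map m') : m = m' :=
  (hT w w' (𝒯.p.map m')).unique h rfl

/-- the unique isomorphism between two objects over the same object of the base -/
noncomputable def uIso (w w' : 𝒯.obj) (e : 𝒯.p.obj w = 𝒯.p.obj w') : w ≅ w' where
  hom := uMor hT w w' (eqToHom e)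
  inv := uMor hT w' w (eqToHom e.symm)
  hom_inv_id := by
    apply mor_ext hT
    rw [Functor.map_comp, uMor_map, uMor_map, eqToHom_trans, eqToHom_refl, CategoryTheory.Functor.map_id]
  inv_hom_id := by
    apply mor_ext hT
    rw [Functor.map_comp, uMor_map, uMor_map, eqToHom_trans, eqToHom_refl, CategoryTheory.Functor.map_id]

theorem uIso_hom_map (w w' : 𝒯.obj) (e : 𝒯.p.obj w = 𝒯.p.obj w') : 𝒯.p.map (uIso hT w w' e).hom = eqToHom e :=
  uMor_map hT w w' _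

theorem uIso_isHomLift (w w' : 𝒯.obj) (e : 𝒯.p.obj w = 𝒯.p.obj w') :
    𝒯.p.IsHomLift (𝟙 (𝒯.p.obj w)) (uIso hT w w' e).hom := by
  apply IsHomLift.of_fac' _ _ _ rfl e.symm
  rw [uIso_hom_map, eqToHom_refl, Category.id_comp, Category.id_comp]

end Terminal

section Main

variable {𝒳 : BasedCategory.{v₂, u₂} C} {𝒜 : BasedCategory.{v₃, u₃} C} {𝒯 : BasedCategory.{v₄, u₄} C}
  (y' : 𝒜 ⥤ᵇ fp (toSelf 𝒳) (toSelf 𝒳)) (u : 𝒯 ⥤ᵇ 𝒳) (c : 𝒜 ⥤ᵇ 𝒯)
  (τ : BasedFunctor.comp y' (fpSnd (toSelf 𝒳) (toSelf 𝒳)) ≅ BasedFunctor.comp c u)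
  (hT : ∀ (w w' : 𝒯.obj) (k : 𝒯.p.obj w ⟶ 𝒯.p.obj w'), ∃! m : w ⟶ w', 𝒯.p.map m = k)

/-- the first member of the pair -/
abbrev x₁ : 𝒜 ⥤ᵇ 𝒳 := BasedFunctor.comp y' (fpFst (toSelf 𝒳) (toSelf 𝒳))

/-- the second member of the pair -/
abbrev x₂ : 𝒜 ⥤ᵇ 𝒳 := BasedFunctor.comp y' (fpSnd (toSelf 𝒳) (toSelf 𝒳))

theorem base_eq (z : (fp (x₁ y') u).obj) : 𝒯.p.obj (c.toFunctor.obj z.obj.fst) = 𝒯.p.obj z.obj.snd :=
  (c.w_obj z.obj.fst).trans (fp_snd_obj (x₁ y') u z).symm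

/-- the comparison of the two points of `𝒯` -/
noncomputable abbrev dIso (z : (fp (x₁ y') u).obj) : c.toFunctor.obj z.obj.fst ≅ z.obj.snd :=
  uIso hT _ _ (base_eq y' u c z)

/-- the isomorphism `x₂ a ≅ x₁ a` attached to an object of `𝒜 ×_𝒳 𝒯` -/
noncomputable def kap (z : (fp (x₁ y') u).obj) :
    (x₂ y').toFunctor.obj z.obj.fst ≅ (x₁ y').toFunctor.obj z.obj.fst :=
  appIso τ z.obj.fst ≪≫ u.toFunctor.mapIso (dIso y' u c hT z) ≪≫ z.obj.iso.symm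

theorem kap_isHomLift (z : (fp (x₁ y') u).obj) :
    𝒳.p.IsHomLift (𝟙 (𝒜.p.obj z.obj.fst)) (kap y' u c τ hT z).hom := by
  have h1 : 𝒳.p.IsHomLift (𝟙 (𝒜.p.obj z.obj.fst)) (appIso τ z.obj.fst).hom := appIso_isHomLift τ z.obj.fst
  have h2 : 𝒯.p.IsHomLift (𝟙 (𝒜.p.obj z.obj.fst)) (dIso y' u c hT z).hom :=
    @isHomLift_of_eq _ _ _ _ 𝒯.p _ _ (c.w_obj z.obj.fst) _ _ _ (uIso_isHomLift hT _ _ _)
  have h3 : 𝒳.p.IsHomLift (𝟙 (𝒜.p.obj z.obj.fst)) (u.toFunctor.map (dIso y' u c hT z).hom) := inferInstance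
  have h4 : 𝒳.p.IsHomLift (𝟙 (𝒜.p.obj z.obj.fst)) z.obj.iso.hom := fp_iso_isHomLift _ _ z
  have h5 : 𝒳.p.IsHomLift (𝟙 (𝒜.p.obj z.obj.fst)) z.obj.iso.inv := IsHomLift.lift_id_inv _ _ _
  change 𝒳.p.IsHomLift (𝟙 (𝒜.p.obj z.obj.fst))
    ((appIso τ z.obj.fst).hom ≫ u.toFunctor.map (dIso y' u c hT z).hom ≫ z.obj.iso.inv)
  infer_instance

theorem kap_naturality {z z' : (fp (x₁ y') u).obj} (m : z ⟶ z') :
    (x₂ y').toFunctor.map m.hom.fst ≫ (kap y' u c τ hT z').hom =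
      (kap y' u c τ hT z).hom ≫ (x₁ y').toFunctor.map m.hom.fst := by
  have h1 := appIso_naturality τ m.hom.fst
  have h2 : (x₁ y').toFunctor.map m.hom.fst ≫ z'.obj.iso.hom = z.obj.iso.hom ≫ u.toFunctor.map m.hom.snd :=
    m.hom.w
  have h3 : c.toFunctor.map m.hom.fst ≫ (dIso y' u c hT z').hom = (dIso y' u c hT z).hom ≫ m.hom.snd := by
    apply mor_ext hT
    rw [Functor.map_comp, Functor.map_comp, uIso_hom_map, uIso_hom_map]
    have e1 := Functor.congr_hom c.w m.hom.fst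
    have e2 := Functor.congr_hom (fpSnd (x₁ y') u).w m
    change 𝒯.p.map (c.toFunctor.map m.hom.fst) = _ at e1
    change 𝒯.p.map m.hom.snd = _ at e2
    rw [e1, e2]
    simp
  change (x₂ y').toFunctor.map m.hom.fst ≫ (appIso τ z'.obj.fst).hom ≫
      u.toFunctor.map (dIso y' u c hT z').hom ≫ z'.obj.iso.inv =
    ((appIso τ z.obj.fst).hom ≫ u.toFunctor.map (dIso y' u c hT z).hom ≫ z.obj.iso.inv) ≫
      (x₁ y').toFunctor.map m.hom.fst
  change (x₂ y').toFunctor.map m.hom.fst ≫ (appIso τ z'.obj.fst).hom =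
    (appIso τ z.obj.fst).hom ≫ u.toFunctor.map (c.toFunctor.map m.hom.fst) at h1
  rw [← Category.assoc, h1, Category.assoc, ← u.toFunctor.map_comp_assoc, h3, u.toFunctor.map_comp_assoc]
  simp only [Category.assoc]
  congr 2
  rw [Iso.comp_inv_eq, Category.assoc, h2, Iso.inv_hom_id_assoc]

/-- the component of the 2-isomorphism defining the comparison functor -/
noncomputable def epsApp (z : (fp (x₁ y') u).obj) :
    y'.toFunctor.obj z.obj.fst ≅ (FibCat.diag (toSelf 𝒳)).toFunctor.obj ((x₁ y').toFunctor.obj z.obj.fst) :=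
  fpIsoMk (toSelf 𝒳) (toSelf 𝒳) (X := y'.toFunctor.obj z.obj.fst)
    (Y := (FibCat.diag (toSelf 𝒳)).toFunctor.obj ((x₁ y').toFunctor.obj z.obj.fst))
    (Iso.refl _) (kap y' u c τ hT z) (by
      have hk := kap_isHomLift y' u c τ hT z
      have e0 : 𝒳.p.obj ((x₁ y').toFunctor.obj z.obj.fst) = 𝒜.p.obj z.obj.fst := (x₁ y').w_obj z.obj.fst
      have h1 : (selfOver C).p.IsHomLift (𝟙 (𝒜.p.obj z.obj.fst))
          ((toSelf 𝒳).toFunctor.map (kap y' u c τ hT z).hom) := inferInstance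
      have h2 : (selfOver C).p.IsHomLift (𝟙 (𝒜.p.obj z.obj.fst)) (y'.toFunctor.obj z.obj.fst).obj.iso.hom :=
        @isHomLift_of_eq _ _ _ _ (selfOver C).p _ _ e0 _ _ _ (fp_iso_isHomLift _ _ (y'.toFunctor.obj z.obj.fst))
      have h3 : (selfOver C).p.IsHomLift (𝟙 (𝒜.p.obj z.obj.fst))
          ((FibCat.diag (toSelf 𝒳)).toFunctor.obj ((x₁ y').toFunctor.obj z.obj.fst)).obj.iso.hom :=
        @isHomLift_of_eq _ _ _ _ (selfOver C).p _ _ e0 _ _ _
          (fp_iso_isHomLift _ _ ((FibCat.diag (toSelf 𝒳)).toFunctor.obj ((x₁ y').toFunctor.obj z.obj.fst)))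
      have h4 : (selfOver C).p.IsHomLift (𝟙 (𝒜.p.obj z.obj.fst))
          ((toSelf 𝒳).toFunctor.map (Iso.refl ((x₁ y').toFunctor.obj z.obj.fst)).hom) := by
        have : 𝒳.p.IsHomLift (𝟙 (𝒜.p.obj z.obj.fst)) (Iso.refl ((x₁ y').toFunctor.obj z.obj.fst)).hom :=
          IsHomLift.id e0
        infer_instance
      apply selfOver_ext (R := 𝒜.p.obj z.obj.fst)
      · exact @IsHomLift.comp_of_lift_id _ _ _ _ (selfOver C).p _ _ _ _ _ _ h4 h3
      · exact @IsHomLift.comp_of_lift_id _ _ _ _ (selfOver C).p _ _ _ _ _ _ h2 h1)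

theorem epsApp_hom_fst (z : (fp (x₁ y') u).obj) : (epsApp y' u c τ hT z).hom.hom.fst = 𝟙 _ := rfl

theorem epsApp_hom_snd (z : (fp (x₁ y') u).obj) :
    (epsApp y' u c τ hT z).hom.hom.snd = (kap y' u c τ hT z).hom := rfl

/-- the 2-isomorphism defining the comparison functor -/
noncomputable def eps : BasedFunctor.comp (fpFst (x₁ y') u) y' ≅
    BasedFunctor.comp (BasedFunctor.comp (fpFst (x₁ y') u) (x₁ y')) (FibCat.diag (toSelf 𝒳)) :=
  BasedNatIso.mkNatIso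
    (NatIso.ofComponents (fun z => epsApp y' u c τ hT z) (fun {z z'} m => by
      apply fp_hom_ext
      · change (x₁ y').toFunctor.map m.hom.fst ≫ 𝟙 _ = 𝟙 _ ≫ (x₁ y').toFunctor.map m.hom.fst
        rw [Category.comp_id, Category.id_comp]
      · exact kap_naturality y' u c τ hT m))
    (fun z => by
      apply Groth.Agent.FibFp.lift_to
      change 𝒳.p.IsHomLift (𝟙 (𝒜.p.obj z.obj.fst)) (𝟙 ((x₁ y').toFunctor.obj z.obj.fst))
      exact IsHomLift.id ((x₁ y').w_obj z.obj.fst))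

/-- the comparison functor `𝒜 ×_𝒳 𝒯 ⟶ 𝒜 ×_{𝒳 × 𝒳} 𝒳` -/
noncomputable def Lam : fp (x₁ y') u ⥤ᵇ fp y' (FibCat.diag (toSelf 𝒳)) :=
  fpLift (fpFst (x₁ y') u) (BasedFunctor.comp (fpFst (x₁ y') u) (x₁ y')) (eps y' u c τ hT)

theorem Lam_fst : BasedFunctor.comp (Lam y' u c τ hT) (fpFst y' (FibCat.diag (toSelf 𝒳))) = fpFst (x₁ y') u := rfl

theorem Lam_map_fst {z z' : (fp (x₁ y') u).obj} (m : z ⟶ z') :
    ((Lam y' u c τ hT).toFunctor.map m).hom.fst = m.hom.fst := rfl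

theorem Lam_map_snd {z z' : (fp (x₁ y') u).obj} (m : z ⟶ z') :
    ((Lam y' u c τ hT).toFunctor.map m).hom.snd = (x₁ y').toFunctor.map m.hom.fst := rfl

theorem Lam_obj_iso (z : (fp (x₁ y') u).obj) :
    ((Lam y' u c τ hT).toFunctor.obj z).obj.iso = epsApp y' u c τ hT z := rfl

theorem map_snd_eq {z z' : (fp (x₁ y') u).obj} (m : z ⟶ z') :
    𝒯.p.map m.hom.snd = eqToHom (fp_snd_obj (x₁ y') u z) ≫ 𝒜.p.map m.hom.fst ≫
      eqToHom (fp_snd_obj (x₁ y') u z').symm := by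
  have e2 := Functor.congr_hom (fpSnd (x₁ y') u).w m
  exact e2

instance Lam_faithful : (Lam y' u c τ hT).toFunctor.Faithful where
  map_injective {z z'} m m' h := by
    have h1 : m.hom.fst = m'.hom.fst := congrArg (fun k => k.hom.fst) h
    apply fp_hom_ext
    · exact h1
    · apply mor_ext hT
      rw [map_snd_eq, map_snd_eq, h1]

instance Lam_full : (Lam y' u c τ hT).toFunctor.Full where
  map_surjective {z z'} n := by
    let n₁ : z.obj.fst ⟶ z'.obj.fst := n.hom.fst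
    let n₂ : (x₁ y').toFunctor.obj z.obj.fst ⟶ (x₁ y').toFunctor.obj z'.obj.fst := n.hom.snd
    have hw := n.hom.w
    have e1 : (x₁ y').toFunctor.map n₁ = n₂ := by
      have := congrArg (fun k => k.hom.fst) hw
      change (x₁ y').toFunctor.map n₁ ≫ 𝟙 _ = 𝟙 _ ≫ n₂ at this
      simpa using this
    have e2 : (x₂ y').toFunctor.map n₁ ≫ (kap y' u c τ hT z').hom = (kap y' u c τ hT z).hom ≫ n₂ := by
      have := congrArg (fun k => k.hom.snd) hw
      exact this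
    let m₂ : z.obj.snd ⟶ z'.obj.snd := uMor hT _ _ (eqToHom (fp_snd_obj (x₁ y') u z) ≫ 𝒜.p.map n₁ ≫
      eqToHom (fp_snd_obj (x₁ y') u z').symm)
    have h3 : c.toFunctor.map n₁ ≫ (dIso y' u c hT z').hom = (dIso y' u c hT z).hom ≫ m₂ := by
      apply mor_ext hT
      rw [Functor.map_comp, Functor.map_comp, uIso_hom_map, uIso_hom_map, uMor_map]
      have e1 := Functor.congr_hom c.w n₁
      change 𝒯.p.map (c.toFunctor.map n₁) = _ at e1
      rw [e1]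
      simp
    have h1 := appIso_naturality τ n₁
    change (x₂ y').toFunctor.map n₁ ≫ (appIso τ z'.obj.fst).hom =
      (appIso τ z.obj.fst).hom ≫ u.toFunctor.map (c.toFunctor.map n₁) at h1
    have hww : (x₁ y').toFunctor.map n₁ ≫ z'.obj.iso.hom = z.obj.iso.hom ≫ u.toFunctor.map m₂ := by
      change (x₂ y').toFunctor.map n₁ ≫ (appIso τ z'.obj.fst).hom ≫
          u.toFunctor.map (dIso y' u c hT z').hom ≫ z'.obj.iso.inv =
        ((appIso τ z.obj.fst).hom ≫ u.toFunctor.map (dIso y' u c hT z).hom ≫ z.obj.iso.inv) ≫ n₂ at e2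
      rw [← Category.assoc, h1, Category.assoc, ← u.toFunctor.map_comp_assoc, h3, u.toFunctor.map_comp_assoc] at e2
      simp only [Category.assoc] at e2
      have e3 := (cancel_epi (appIso τ z.obj.fst).hom).1 e2
      have e4 := (cancel_epi (u.toFunctor.map (dIso y' u c hT z).hom)).1 e3
      rw [e1, ← cancel_mono z'.obj.iso.inv, Category.assoc, Category.assoc, Iso.hom_inv_id, Category.comp_id, e4,
        Iso.hom_inv_id_assoc]
    refine ⟨fpHomMk (x₁ y') u n₁ m₂ hww, ?_⟩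
    apply fp_hom_ext
    · rfl
    · exact e1

theorem dIso_self (z : (fp (x₁ y') u).obj) (h : z.obj.snd = c.toFunctor.obj z.obj.fst) :
    (dIso y' u c hT z).hom = eqToHom h.symm := by
  apply mor_ext hT
  rw [uIso_hom_map, eqToHom_map]

theorem Lam_essSurj (ζ : (fp y' (FibCat.diag (toSelf 𝒳))).obj) :
    ∃ (z : (fp (x₁ y') u).obj) (e : (Lam y' u c τ hT).toFunctor.obj z ≅ ζ),
      (fp y' (FibCat.diag (toSelf 𝒳))).p.IsHomLift (𝟙 ((fp y' (FibCat.diag (toSelf 𝒳))).p.obj ζ)) e.hom := by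
  let a : 𝒜.obj := ζ.obj.fst
  let x : 𝒳.obj := ζ.obj.snd
  let ι : y'.toFunctor.obj a ≅ (FibCat.diag (toSelf 𝒳)).toFunctor.obj x := ζ.obj.iso
  let i₁ : (x₁ y').toFunctor.obj a ≅ x := isoFst (toSelf 𝒳) (toSelf 𝒳) ι
  let i₂ : (x₂ y').toFunctor.obj a ≅ x := isoSnd (toSelf 𝒳) (toSelf 𝒳) ι
  have hι : (fp (toSelf 𝒳) (toSelf 𝒳)).p.IsHomLift (𝟙 (𝒜.p.obj a)) ι.hom := fp_iso_isHomLift _ _ ζ
  have h1 : 𝒳.p.IsHomLift (𝟙 (𝒜.p.obj a)) i₁.hom := Groth.Agent.FibFp.lift_from _ _ _ ι.hom hι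
  have h2 : 𝒳.p.IsHomLift (𝟙 (𝒜.p.obj a)) i₂.hom := Groth.Agent.FibFp.lift_from_snd _ _ _ ι.hom hι
  have h2' : 𝒳.p.IsHomLift (𝟙 (𝒜.p.obj a)) i₂.inv := IsHomLift.lift_id_inv _ _ _
  have h3 : 𝒳.p.IsHomLift (𝟙 (𝒜.p.obj a)) (appIso τ a).hom := appIso_isHomLift τ a
  let j : (x₁ y').toFunctor.obj a ≅ u.toFunctor.obj (c.toFunctor.obj a) := i₁ ≪≫ i₂.symm ≪≫ appIso τ a
  have hj : 𝒳.p.IsHomLift (𝟙 (𝒜.p.obj a)) j.hom := by
    change 𝒳.p.IsHomLift (𝟙 (𝒜.p.obj a)) (i₁.hom ≫ i₂.inv ≫ (appIso τ a).hom)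
    infer_instance
  let z : (fp (x₁ y') u).obj := ⟨⟨a, c.toFunctor.obj a, j⟩, hj⟩
  have hd : (dIso y' u c hT z).hom = 𝟙 _ := dIso_self y' u c hT z rfl
  have hk : (kap y' u c τ hT z).hom ≫ i₁.hom = i₂.hom := by
    change ((appIso τ a).hom ≫ u.toFunctor.map (dIso y' u c hT z).hom ≫ j.inv) ≫ i₁.hom = i₂.hom
    rw [hd, CategoryTheory.Functor.map_id]
    change ((appIso τ a).hom ≫ 𝟙 (u.toFunctor.obj (c.toFunctor.obj a)) ≫
      ((appIso τ a).inv ≫ i₂.hom) ≫ i₁.inv) ≫ i₁.hom = i₂.hom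
    simp only [Category.assoc, Iso.inv_hom_id, Category.comp_id]
    erw [Category.id_comp, Iso.hom_inv_id_assoc]
  refine ⟨z, fpIsoMk y' (FibCat.diag (toSelf 𝒳)) (X := (Lam y' u c τ hT).toFunctor.obj z) (Y := ζ)
    (Iso.refl a) i₁ ?_, ?_⟩
  · apply fp_hom_ext
    · change (y'.toFunctor.map (𝟙 a)).hom.fst ≫ i₁.hom = 𝟙 _ ≫ i₁.hom
      rw [CategoryTheory.Functor.map_id]
      rfl
    · change (y'.toFunctor.map (𝟙 a)).hom.snd ≫ i₂.hom = (kap y' u c τ hT z).hom ≫ i₁.hom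
      rw [hk, CategoryTheory.Functor.map_id]
      exact Category.id_comp _
  · apply Groth.Agent.FibFp.lift_to
    change 𝒜.p.IsHomLift (𝟙 (𝒜.p.obj a)) (𝟙 a)
    infer_instance

theorem Lam_isEquivOver : FibCat.IsEquivOver (Lam y' u c τ hT) :=
  isEquivOver_of _ (Lam_essSurj y' u c τ hT)

end Main

end Groth.Agent.Lib.helper4.FibEqDiag
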