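import Groth.Agent.Lib.Helper4.FibEqDiag

/-!
# A model with few objects of the base change of the diagonal (helper4)

For `y' = (x₁, x₂) : 𝒜 ⟶ 𝒳 × 𝒳` over `C` the 2-fibre product `𝒜 ×_{𝒳 × 𝒳} 𝒳` is equivalent over `C` to a category whose objects
are the pairs `(a, φ : x₁ a ≅ x₂ a)` with `φ` over the identity: its objects live in the universe of the objects of `𝒜` and of the
morphisms of `𝒳`.
-/

set_option autoImplicit false
set_option backward.isDefEq.respectTransparency false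
set_option backward.isDefEq.respectTransparency.types false
set_option linter.unusedSectionVars false
set_option linter.unusedVariables false
open CategoryTheory CategoryTheory.Functor CategoryTheory.Limits
universe w v₄ u₄ v₃ u₃ v₂ u₂ v u

namespace Groth.Agent.Lib.helper4.FibIsoModel
open Groth.Agent.FibEquiv Groth.Agent.Lib.helper4.FibPaste Groth.Agent.Lib.helper4.DiagBC FibCat
open Groth.Agent.Lib.helper4.FibEqDiag

variable {C : Type u} [Category.{v} C]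

section Induced

variable {𝒲 : BasedCategory.{v₂, u₂} C} {Z : Type w} (f : Z → 𝒲.obj)

/-- the category over `C` induced on a family of objects -/
def inducedBased : BasedCategory.{v₂, w} C where
  obj := InducedCategory 𝒲.obj f
  p := inducedFunctor f ⋙ 𝒲.p

/-- the inclusion of the induced category -/
def inducedIncl : inducedBased f ⥤ᵇ 𝒲 where
  toFunctor := inducedFunctor f
  w := rfl

instance : (inducedIncl f).toFunctor.Full := by
  change (inducedFunctor f).Full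
  infer_instance

instance : (inducedIncl f).toFunctor.Faithful := by
  change (inducedFunctor f).Faithful
  infer_instance

theorem inducedIncl_isEquivOver
    (h : ∀ η : 𝒲.obj, ∃ (z : Z) (e : f z ≅ η), 𝒲.p.IsHomLift (𝟙 (𝒲.p.obj η)) e.hom) :
    IsEquivOver (inducedIncl f) :=
  isEquivOver_of _ (fun η => by
    obtain ⟨z, e, he⟩ := h η
    exact ⟨z, e, he⟩)

end Induced

section Model

variable {𝒳 : BasedCategory.{v₂, u₂} C} {𝒜 : BasedCategory.{v₃, u₃} C}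
  (y' : 𝒜 ⥤ᵇ fp (toSelf 𝒳) (toSelf 𝒳))

/-- an isomorphism from a point of `𝒳 × 𝒳` to a point of the diagonal -/
def toDiagIso (a : 𝒜.obj) (x : 𝒳.obj) (i₁ : (x₁ y').toFunctor.obj a ≅ x) (i₂ : (x₂ y').toFunctor.obj a ≅ x)
    (h1 : 𝒳.p.IsHomLift (𝟙 (𝒜.p.obj a)) i₁.hom) (h2 : 𝒳.p.IsHomLift (𝟙 (𝒜.p.obj a)) i₂.hom) :
    y'.toFunctor.obj a ≅ (FibCat.diag (toSelf 𝒳)).toFunctor.obj x :=
  fpIsoMk (toSelf 𝒳) (toSelf 𝒳) (X := y'.toFunctor.obj a)
    (Y := (FibCat.diag (toSelf 𝒳)).toFunctor.obj x) i₁ i₂ (by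
      have e0 : 𝒳.p.obj ((x₁ y').toFunctor.obj a) = 𝒜.p.obj a := (x₁ y').w_obj a
      have ex : 𝒳.p.obj x = 𝒜.p.obj a := IsHomLift.codomain_eq 𝒳.p (𝟙 (𝒜.p.obj a)) i₁.hom
      have l1 : (selfOver C).p.IsHomLift (𝟙 (𝒜.p.obj a)) ((toSelf 𝒳).toFunctor.map i₂.hom) := inferInstance
      have l2 : (selfOver C).p.IsHomLift (𝟙 (𝒜.p.obj a)) (y'.toFunctor.obj a).obj.iso.hom :=
        @isHomLift_of_eq _ _ _ _ (selfOver C).p _ _ e0 _ _ _ (fp_iso_isHomLift _ _ (y'.toFunctor.obj a))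
      have l3 : (selfOver C).p.IsHomLift (𝟙 (𝒜.p.obj a))
          ((FibCat.diag (toSelf 𝒳)).toFunctor.obj x).obj.iso.hom :=
        @isHomLift_of_eq _ _ _ _ (selfOver C).p _ _ ex _ _ _
          (fp_iso_isHomLift _ _ ((FibCat.diag (toSelf 𝒳)).toFunctor.obj x))
      have l4 : (selfOver C).p.IsHomLift (𝟙 (𝒜.p.obj a)) ((toSelf 𝒳).toFunctor.map i₁.hom) := inferInstance
      apply selfOver_ext (R := 𝒜.p.obj a)
      · exact @IsHomLift.comp_of_lift_id _ _ _ _ (selfOver C).p _ _ _ _ _ _ l4 l3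
      · exact @IsHomLift.comp_of_lift_id _ _ _ _ (selfOver C).p _ _ _ _ _ _ l2 l1)

theorem toDiagIso_hom_fst (a : 𝒜.obj) (x : 𝒳.obj) (i₁ : (x₁ y').toFunctor.obj a ≅ x)
    (i₂ : (x₂ y').toFunctor.obj a ≅ x)
    (h1 : 𝒳.p.IsHomLift (𝟙 (𝒜.p.obj a)) i₁.hom) (h2 : 𝒳.p.IsHomLift (𝟙 (𝒜.p.obj a)) i₂.hom) :
    (toDiagIso y' a x i₁ i₂ h1 h2).hom.hom.fst = i₁.hom := rfl

theorem toDiagIso_hom_snd (a : 𝒜.obj) (x : 𝒳.obj) (i₁ : (x₁ y').toFunctor.obj a ≅ x)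
    (i₂ : (x₂ y').toFunctor.obj a ≅ x)
    (h1 : 𝒳.p.IsHomLift (𝟙 (𝒜.p.obj a)) i₁.hom) (h2 : 𝒳.p.IsHomLift (𝟙 (𝒜.p.obj a)) i₂.hom) :
    (toDiagIso y' a x i₁ i₂ h1 h2).hom.hom.snd = i₂.hom := rfl

/-- the objects of the model: an object of `𝒜` and an isomorphism over the identity between its two images -/
structure IsoObj where
  /-- the object of `𝒜` -/
  a : 𝒜.obj
  /-- the isomorphism -/
  φ : (x₁ y').toFunctor.obj a ≅ (x₂ y').toFunctor.obj a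
  /-- it lies over the identity -/
  h : 𝒳.p.IsHomLift (𝟙 (𝒜.p.obj a)) φ.hom

/-- the object of the 2-fibre product attached to an object of the model -/
def modelObj (z : IsoObj y') : (fp y' (FibCat.diag (toSelf 𝒳))).obj :=
  ⟨⟨z.a, (x₂ y').toFunctor.obj z.a,
    toDiagIso y' z.a ((x₂ y').toFunctor.obj z.a) z.φ (Iso.refl _) z.h (IsHomLift.id ((x₂ y').w_obj z.a))⟩, by
    change (fp (toSelf 𝒳) (toSelf 𝒳)).p.IsHomLift (𝟙 (𝒜.p.obj z.a)) _
    apply Groth.Agent.FibFp.lift_to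
    exact z.h⟩

theorem modelObj_essSurj (ζ : (fp y' (FibCat.diag (toSelf 𝒳))).obj) :
    ∃ (z : IsoObj y') (e : modelObj y' z ≅ ζ),
      (fp y' (FibCat.diag (toSelf 𝒳))).p.IsHomLift (𝟙 ((fp y' (FibCat.diag (toSelf 𝒳))).p.obj ζ)) e.hom := by
  let a : 𝒜.obj := ζ.obj.fst
  let x : 𝒳.obj := ζ.obj.snd
  let ι : y'.toFunctor.obj a ≅ (FibCat.diag (toSelf 𝒳)).toFunctor.obj x := ζ.obj.iso
  let i₁ : (x₁ y').toFunctor.obj a ≅ x := isoFst (toSelf 𝒳) (toSelf 𝒳) ι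
  let i₂ : (x₂ y').toFunctor.obj a ≅ x := isoSnd (toSelf 𝒳) (toSelf 𝒳) ι
  have hι : (fp (toSelf 𝒳) (toSelf 𝒳)).p.IsHomLift (𝟙 (𝒜.p.obj a)) ι.hom := fp_iso_isHomLift _ _ ζ
  have h1 : 𝒳.p.IsHomLift (𝟙 (𝒜.p.obj a)) i₁.hom := Groth.Agent.FibFp.lift_from _ _ _ ι.hom hι
  have h2 : 𝒳.p.IsHomLift (𝟙 (𝒜.p.obj a)) i₂.hom := Groth.Agent.FibFp.lift_from_snd _ _ _ ι.hom hι
  have h2' : 𝒳.p.IsHomLift (𝟙 (𝒜.p.obj a)) i₂.inv := IsHomLift.lift_id_inv _ _ _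
  have hj : 𝒳.p.IsHomLift (𝟙 (𝒜.p.obj a)) (i₁ ≪≫ i₂.symm).hom := by
    change 𝒳.p.IsHomLift (𝟙 (𝒜.p.obj a)) (i₁.hom ≫ i₂.inv)
    infer_instance
  let z : IsoObj y' := ⟨a, i₁ ≪≫ i₂.symm, hj⟩
  refine ⟨z, fpIsoMk y' (FibCat.diag (toSelf 𝒳)) (X := modelObj y' z) (Y := ζ) (Iso.refl a) i₂ ?_, ?_⟩
  · apply fp_hom_ext
    · change (y'.toFunctor.map (𝟙 a)).hom.fst ≫ i₁.hom = (i₁.hom ≫ i₂.inv) ≫ i₂.hom
      rw [CategoryTheory.Functor.map_id, Category.assoc, Iso.inv_hom_id, Category.comp_id]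
      exact Category.id_comp _
    · change (y'.toFunctor.map (𝟙 a)).hom.snd ≫ i₂.hom = 𝟙 _ ≫ i₂.hom
      rw [CategoryTheory.Functor.map_id]
      rfl
  · apply Groth.Agent.FibFp.lift_to
    change 𝒜.p.IsHomLift (𝟙 (𝒜.p.obj a)) (𝟙 a)
    infer_instance

/-- the model -/
abbrev model : BasedCategory.{max v₂ v₃, max u₃ v₂} C := inducedBased (modelObj y')

theorem exists_model : ∃ (𝒥 : BasedCategory.{max v₂ v₃, max u₃ v₂} C)
    (Φ : 𝒥 ⥤ᵇ fp y' (FibCat.diag (toSelf 𝒳))), IsEquivOver Φ :=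
  ⟨model y', inducedIncl (modelObj y'), inducedIncl_isEquivOver _ (modelObj_essSurj y')⟩

end Model

end Groth.Agent.Lib.helper4.FibIsoModel
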