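import Mathlib

/-!
# The absolute Galois group acting on an algebraic closure: algebraic lemmas (helper4)

For a field `K` and an algebraic closure `Ω` (possibly inseparable over `K`), `Gal(Ω/K)` with the Krull
topology: an automorphism is determined by its restriction to the separable closure, restriction to the
separable closure is a homeomorphism (hence `Gal(Ω/K)` is compact), two embeddings of a field into `Ω`
are conjugate, stabilisers of families of elements are closed.
-/

set_option autoImplicit false
set_option linter.unusedSectionVars false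
set_option linter.style.haveILetI false

universe u

namespace Groth.Agent.Lib.helper4.FieldPi1

open IntermediateField

variable {K : Type u} [Field K] {Ω : Type u} [Field Ω] [Algebra K Ω] [IsAlgClosed Ω]
  [Algebra.IsAlgebraic K Ω]

instance isAlgClosure_of : IsAlgClosure K Ω := ⟨inferInstance, inferInstance⟩
instance normal_of : Normal K Ω := IsAlgClosure.normal K Ω

/-- an automorphism of the algebraic closure is determined on the separable closure -/
theorem eq_of_eqOn_sep (σ τ : Ω ≃ₐ[K] Ω) (h : ∀ x ∈ separableClosure K Ω, σ x = τ x) : σ = τ := by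
  have h1 : (σ : Ω →+* Ω).comp (algebraMap (separableClosure K Ω) Ω) =
      (τ : Ω →+* Ω).comp (algebraMap (separableClosure K Ω) Ω) := by
    ext x
    exact h x.1 x.2
  have h2 := IsPurelyInseparable.injective_comp_algebraMap (separableClosure K Ω) Ω Ω h1
  ext x
  exact RingHom.congr_fun h2 x

/-- an automorphism fixing all finite separable subextensions is the identity -/
theorem eq_one_of_fix_sep (σ : Ω ≃ₐ[K] Ω)
    (h : ∀ (E : IntermediateField K Ω), FiniteDimensional K E → Algebra.IsSeparable K E →
      ∀ x ∈ E, σ x = x) : σ = 1 := by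
  apply eq_of_eqOn_sep
  intro x hx
  have hsep : IsSeparable K x := mem_separableClosure_iff.1 hx
  have hint : IsIntegral K x := hsep.isIntegral
  have h1 : FiniteDimensional K K⟮x⟯ := adjoin.finiteDimensional hint
  have h2 : Algebra.IsSeparable K K⟮x⟯ := (isSeparable_adjoin_simple_iff_isSeparable K Ω).2 hsep
  exact h K⟮x⟯ h1 h2 x (mem_adjoin_simple_self K x)


section Compact

variable (K Ω)

/-- restriction to the separable closure -/
noncomputable def resSep : (Ω ≃ₐ[K] Ω) →* (separableClosure K Ω ≃ₐ[K] separableClosure K Ω) :=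
  AlgEquiv.restrictNormalHom (F := K) (K₁ := Ω) (separableClosure K Ω)

theorem resSep_apply (σ : Ω ≃ₐ[K] Ω) (x : separableClosure K Ω) :
    ((resSep K Ω σ x : separableClosure K Ω) : Ω) = σ x :=
  AlgEquiv.restrictNormalHom_apply (separableClosure K Ω) σ x

theorem resSep_injective : Function.Injective (resSep K Ω) := by
  intro σ τ h
  apply eq_of_eqOn_sep
  intro x hx
  rw [← resSep_apply K Ω σ ⟨x, hx⟩, ← resSep_apply K Ω τ ⟨x, hx⟩, h]

theorem resSep_surjective : Function.Surjective (resSep K Ω) :=
  AlgEquiv.restrictNormalHom_surjective Ω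

/-- restriction to the separable closure as a group isomorphism -/
noncomputable def resSepEquiv : (Ω ≃ₐ[K] Ω) ≃* (separableClosure K Ω ≃ₐ[K] separableClosure K Ω) :=
  MulEquiv.ofBijective (resSep K Ω) ⟨resSep_injective K Ω, resSep_surjective K Ω⟩

theorem resSepEquiv_apply (σ : Ω ≃ₐ[K] Ω) : resSepEquiv K Ω σ = resSep K Ω σ := rfl

theorem continuous_resSepEquiv : Continuous (resSepEquiv K Ω) :=
  InfiniteGalois.restrictNormalHom_continuous (separableClosure K Ω)

/-- an automorphism whose restriction to the separable closure fixes `E ∩ Kˢ` fixes `E` -/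
theorem mem_fixingSubgroup_of_resSep (E : IntermediateField K Ω) (σ : Ω ≃ₐ[K] Ω)
    (h : ∀ x : separableClosure K Ω, (x : Ω) ∈ E → resSep K Ω σ x = x) : σ ∈ E.fixingSubgroup := by
  rw [IntermediateField.mem_fixingSubgroup_iff]
  intro x hx
  obtain ⟨n, y, hy⟩ := IsPurelyInseparable.pow_mem (separableClosure K Ω) (ringExpChar K) x
  have hyE : (y : Ω) ∈ E := by
    change algebraMap (separableClosure K Ω) Ω y ∈ E
    rw [hy]
    exact pow_mem hx _
  have h1 : σ (y : Ω) = y := by
    rw [← resSep_apply K Ω σ y, h y hyE]
  have h2 : σ x ^ ringExpChar K ^ n = x ^ ringExpChar K ^ n := by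
    rw [← map_pow, ← hy]
    exact h1
  haveI : ExpChar Ω (ringExpChar K) := expChar_of_injective_algebraMap (algebraMap K Ω).injective _
  exact iterateFrobenius_inj Ω (ringExpChar K) n (by simpa [iterateFrobenius_def] using h2)

theorem continuous_resSepEquiv_symm : Continuous (resSepEquiv K Ω).symm := by
  apply continuous_of_continuousAt_one _ (continuousAt_def.mpr _)
  intro N hN
  rw [map_one, krullTopology_mem_nhds_one_iff] at hN
  obtain ⟨E, hE, hO⟩ := hN
  rw [krullTopology_mem_nhds_one_iff]
  let E' : IntermediateField K (separableClosure K Ω) := E.comap (separableClosure K Ω).val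
  have hfin : FiniteDimensional K E' := by
    let f : E' →ₗ[K] E :=
      { toFun := fun x => ⟨((x : separableClosure K Ω) : Ω), x.2⟩
        map_add' := fun _ _ => rfl
        map_smul' := fun _ _ => rfl }
    have hf : Function.Injective f := by
      intro x y hxy
      apply Subtype.ext
      apply Subtype.ext
      exact congrArg (fun z : E => (z : Ω)) hxy
    exact FiniteDimensional.of_injective f hf
  refine ⟨E', hfin, ?_⟩
  intro τ hτ
  apply hO
  change (resSepEquiv K Ω).symm τ ∈ E.fixingSubgroup
  apply mem_fixingSubgroup_of_resSep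
  intro x hx
  have h1 : resSep K Ω ((resSepEquiv K Ω).symm τ) = τ := (resSepEquiv K Ω).apply_symm_apply τ
  rw [h1]
  exact (IntermediateField.mem_fixingSubgroup_iff E' τ).1 hτ x hx

/-- restriction to the separable closure is a homeomorphism -/
noncomputable def resSepHomeo :
    (Ω ≃ₐ[K] Ω) ≃ₜ* (separableClosure K Ω ≃ₐ[K] separableClosure K Ω) :=
  { resSepEquiv K Ω with
    continuous_toFun := continuous_resSepEquiv K Ω
    continuous_invFun := continuous_resSepEquiv_symm K Ω }

instance compactSpace_gal : CompactSpace (Ω ≃ₐ[K] Ω) :=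
  (resSepHomeo K Ω).symm.compactSpace

end Compact


section Conj

/-- two embeddings over `K` of a field into the algebraic closure are conjugate under `Gal(Ω/K)` -/
theorem exists_conj (L : Type u) [Field L] (i : K →+* L) (a a' : L →+* Ω)
    (h : a.comp i = algebraMap K Ω) (h' : a'.comp i = algebraMap K Ω) :
    ∃ σ : Ω ≃ₐ[K] Ω, ∀ z, σ (a z) = a' z := by
  letI : Algebra K L := i.toAlgebra
  let aA : L →ₐ[K] Ω := { a with commutes' := fun r => RingHom.congr_fun h r }
  let aA' : L →ₐ[K] Ω := { a' with commutes' := fun r => RingHom.congr_fun h' r }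
  let χ : aA.fieldRange ≃ₐ[K] aA'.fieldRange :=
    (AlgEquiv.ofInjectiveField aA).symm.trans (AlgEquiv.ofInjectiveField aA')
  refine ⟨χ.liftNormal Ω, fun z => ?_⟩
  have h1 := χ.liftNormal_commutes Ω (AlgEquiv.ofInjectiveField aA z)
  have h2 : χ (AlgEquiv.ofInjectiveField aA z) = AlgEquiv.ofInjectiveField aA' z := by
    change (AlgEquiv.ofInjectiveField aA') ((AlgEquiv.ofInjectiveField aA).symm
      ((AlgEquiv.ofInjectiveField aA) z)) = _
    rw [AlgEquiv.symm_apply_apply]
  rw [h2] at h1
  exact h1

/-- the automorphisms fixing a family of elements form a closed set -/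
theorem isClosed_fix {ι : Type*} (f : ι → Ω) : IsClosed {σ : Ω ≃ₐ[K] Ω | ∀ i, σ (f i) = f i} := by
  have : {σ : Ω ≃ₐ[K] Ω | ∀ i, σ (f i) = f i} = ⋂ i, (MulAction.stabilizer (Ω ≃ₐ[K] Ω) (f i) : Set _) := by
    ext σ
    simp [MulAction.mem_stabilizer_iff]
  rw [this]
  apply isClosed_iInter
  intro i
  exact Subgroup.isClosed_of_isOpen _ (stabilizer_isOpen_of_isIntegral (f i))

end Conj

end Groth.Agent.Lib.helper4.FieldPi1
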