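import Mathlib
import Groth.Prelude.Def_FEt
import Groth.Agent.Lib.Helper14.FEtGal13
import Groth.Agent.Lib.Helper4.FieldPi1A

/-!
# The absolute Galois group acts on the fibres of finite étale covers of `Spec K` (helper4)

`Gal(Ω/K)` acts on the geometric fibres `FEt.fiberObj ξ Y` of finite étale covers of `Spec K` at the geometric point
`ξ : Spec Ω ⟶ Spec K`; points with the same image are conjugate; stabilisers are closed.
-/

set_option autoImplicit false
set_option linter.unusedSectionVars false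
set_option linter.style.haveILetI false

universe u

namespace Groth.Agent.Lib.helper4.FieldPi1

open AlgebraicGeometry CategoryTheory CategoryTheory.Limits
open Groth.Agent.Lib.helper14.FEtGal Groth.Agent.Lib.helper14.FibIso

variable (K : Type u) [Field K] (Ω : Type u) [Field Ω] [Algebra K Ω]

/-- the geometric point of `Spec K` with values in `Ω` -/
noncomputable abbrev gpt : Spec (CommRingCat.of Ω) ⟶ Spec (CommRingCat.of K) :=
  Spec.map (CommRingCat.ofHom (algebraMap K Ω))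

variable {K Ω}

/-- `Spec` of an automorphism -/
noncomputable abbrev spσ (σ : Ω ≃ₐ[K] Ω) : Spec (CommRingCat.of Ω) ⟶ Spec (CommRingCat.of Ω) :=
  Spec.map (CommRingCat.ofHom (σ : Ω →+* Ω))

theorem spσ_gpt (σ : Ω ≃ₐ[K] Ω) : spσ σ ≫ gpt K Ω = gpt K Ω := by
  rw [← Spec.map_comp, ← CommRingCat.ofHom_comp]
  congr 2
  ext x
  simp

theorem spσ_one : spσ (1 : Ω ≃ₐ[K] Ω) = 𝟙 _ := by
  change Spec.map (CommRingCat.ofHom (RingHom.id Ω)) = 𝟙 _
  exact Spec.map_id _

theorem spσ_mul (σ τ : Ω ≃ₐ[K] Ω) : spσ (σ * τ) = spσ σ ≫ spσ τ := by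
  rw [← Spec.map_comp, ← CommRingCat.ofHom_comp]
  rfl

noncomputable instance mulActionFiberObj (Y : FEt.Cat (Spec (CommRingCat.of K))) :
    MulAction (Ω ≃ₐ[K] Ω) (FEt.fiberObj (gpt K Ω) Y) where
  smul σ s := ⟨spσ σ ≫ s.1, by rw [Category.assoc, s.2, spσ_gpt]⟩
  one_smul s := Subtype.ext (by
    change spσ (1 : Ω ≃ₐ[K] Ω) ≫ s.1 = s.1
    rw [spσ_one, Category.id_comp])
  mul_smul σ τ s := Subtype.ext (by
    change spσ (σ * τ) ≫ s.1 = spσ σ ≫ spσ τ ≫ s.1
    rw [spσ_mul, Category.assoc])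

theorem smul_val {Y : FEt.Cat (Spec (CommRingCat.of K))} (σ : Ω ≃ₐ[K] Ω)
    (s : FEt.fiberObj (gpt K Ω) Y) : (σ • s).1 = spσ σ ≫ s.1 := rfl

theorem map_smul {Y Z : FEt.Cat (Spec (CommRingCat.of K))} (f : Y ⟶ Z) (σ : Ω ≃ₐ[K] Ω)
    (s : FEt.fiberObj (gpt K Ω) Y) :
    ((FEt.fiber (gpt K Ω)).map f (σ • s) : FEt.fiberObj (gpt K Ω) Z) =
      σ • (id ((FEt.fiber (gpt K Ω)).map f s) : FEt.fiberObj (gpt K Ω) Z) := by
  apply Subtype.ext
  change (spσ σ ≫ s.1) ≫ f.left = spσ σ ≫ s.1 ≫ f.left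
  rw [Category.assoc]

/-- the image point of a geometric point -/
noncomputable def imPt {Y : Scheme.{u}} (s : Spec (CommRingCat.of Ω) ⟶ Y) : Y :=
  s (IsLocalRing.closedPoint Ω)

theorem exists_decomp {Y : Scheme.{u}} (s : Spec (CommRingCat.of Ω) ⟶ Y) :
    ∃ (y : Y) (a : Y.residueField y ⟶ CommRingCat.of Ω),
      s = Spec.map a ≫ Y.fromSpecResidueField y ∧ y = imPt s :=
  ⟨_, ((Scheme.SpecToEquivOfField Ω Y) s).2,
    ((Scheme.SpecToEquivOfField Ω Y).symm_apply_apply s).symm, rfl⟩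

theorem spσ_comp_decomp {Y : Scheme.{u}} (σ : Ω ≃ₐ[K] Ω) (y : Y)
    (a : Y.residueField y ⟶ CommRingCat.of Ω) :
    spσ σ ≫ Spec.map a ≫ Y.fromSpecResidueField y =
      Spec.map (a ≫ CommRingCat.ofHom (σ : Ω →+* Ω)) ≫ Y.fromSpecResidueField y := by
  rw [Spec.map_comp, Category.assoc]

theorem decomp_eq_iff {Y : Scheme.{u}} (y : Y) (a a' : Y.residueField y ⟶ CommRingCat.of Ω) :
    Spec.map a ≫ Y.fromSpecResidueField y = Spec.map a' ≫ Y.fromSpecResidueField y ↔ a = a' := by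
  constructor
  · intro h
    exact Spec.map_injective ((cancel_mono _).1 h)
  · rintro rfl; rfl

section Closed

variable [IsAlgClosed Ω] [Algebra.IsAlgebraic K Ω]

/-- two geometric points of a scheme over `K` with the same image point are conjugate -/
theorem exists_smul_eq_of_imPt_eq {Y : FEt.Cat (Spec (CommRingCat.of K))}
    (s s' : FEt.fiberObj (gpt K Ω) Y) (h : imPt s.1 = imPt s'.1) : ∃ σ : Ω ≃ₐ[K] Ω, σ • s = s' := by
  obtain ⟨y, a, hs, hy⟩ := exists_decomp s.1
  obtain ⟨y', a', hs', hy'⟩ := exists_decomp s'.1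
  have hyy : y = y' := by rw [hy, hy', h]
  subst hyy
  let i : CommRingCat.of K ⟶ Y.left.residueField y :=
    Spec.preimage (Y.left.fromSpecResidueField y ≫ Y.hom)
  have hi : Spec.map i = Y.left.fromSpecResidueField y ≫ Y.hom := Spec.map_preimage _
  have h1 : i ≫ a = CommRingCat.ofHom (algebraMap K Ω) := by
    apply Spec.map_injective
    rw [Spec.map_comp, hi, ← Category.assoc, ← hs, s.2]
  have h2 : i ≫ a' = CommRingCat.ofHom (algebraMap K Ω) := by
    apply Spec.map_injective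
    rw [Spec.map_comp, hi, ← Category.assoc, ← hs', s'.2]
  obtain ⟨σ, hσ⟩ := exists_conj (K := K) (Ω := Ω) (Y.left.residueField y) i.hom a.hom a'.hom
    (by rw [← CommRingCat.hom_comp, h1]; rfl) (by rw [← CommRingCat.hom_comp, h2]; rfl)
  refine ⟨σ, Subtype.ext ?_⟩
  rw [smul_val, hs, hs', spσ_comp_decomp, decomp_eq_iff]
  ext z
  exact hσ z

/-- the stabiliser of a geometric point is closed -/
theorem isClosed_stabilizer {Y : FEt.Cat (Spec (CommRingCat.of K))}
    (s : FEt.fiberObj (gpt K Ω) Y) :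
    IsClosed (MulAction.stabilizer (Ω ≃ₐ[K] Ω) s : Set (Ω ≃ₐ[K] Ω)) := by
  obtain ⟨y, a, hs, -⟩ := exists_decomp s.1
  have : (MulAction.stabilizer (Ω ≃ₐ[K] Ω) s : Set (Ω ≃ₐ[K] Ω)) =
      {σ : Ω ≃ₐ[K] Ω | ∀ z, σ (a.hom z) = a.hom z} := by
    ext σ
    rw [SetLike.mem_coe, MulAction.mem_stabilizer_iff, Set.mem_ofPred_eq]
    constructor
    · intro h z
      have h' := congrArg Subtype.val h
      rw [smul_val, hs, spσ_comp_decomp, decomp_eq_iff] at h'
      exact congrArg (fun f : Y.left.residueField y ⟶ CommRingCat.of Ω => f.hom z) h'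
    · intro h
      apply Subtype.ext
      rw [smul_val, hs, spσ_comp_decomp, decomp_eq_iff]
      ext z
      exact h z
  rw [this]
  exact isClosed_fix _

end Closed

end Groth.Agent.Lib.helper4.FieldPi1
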