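import Mathlib
import Groth.Prelude.Def_FEt
import Groth.Agent.Lib.Helper14.FEtGal13
import Groth.Agent.Lib.Helper4.FieldPi1B

/-!
# The absolute Galois group is the fundamental group of `Spec K` (helper4)

`Gal(Ω/K)` is a fundamental group (Mathlib's `IsFundamentalGroup`) of the fibre functor of finite étale covers of
`Spec K` at the geometric point `Spec Ω ⟶ Spec K`.
-/

set_option autoImplicit false
set_option linter.unusedSectionVars false
set_option linter.style.haveILetI false

universe u

namespace Groth.Agent.Lib.helper4.FieldPi1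

open AlgebraicGeometry CategoryTheory CategoryTheory.Limits
open Groth.Agent.Lib.helper14.FEtGal Groth.Agent.Lib.helper14.FibIso

variable {K : Type u} [Field K] {Ω : Type u} [Field Ω] [Algebra K Ω]

/-- a finite scheme over a field is discrete -/
theorem discreteTopology_of_finite (Y : FEt.Cat (Spec (CommRingCat.of K))) :
    DiscreteTopology Y.left := by
  let f : Y.left ⟶ Spec (CommRingCat.of K) := Y.hom
  haveI : IsFinite f := Y.prop.1
  haveI : IsAffine Y.left := isAffine_of_isAffineHom f
  have hfin : f.appTop.hom.Finite := Scheme.Hom.finite_appTop f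
  let φ : K →+* Γ(Y.left, ⊤) :=
    (f.appTop.hom).comp ((Scheme.ΓSpecIso (CommRingCat.of K)).inv.hom)
  have hφ : φ.Finite := by
    refine RingHom.Finite.comp hfin (RingHom.Finite.of_surjective _ ?_)
    exact (ConcreteCategory.bijective_of_isIso (Scheme.ΓSpecIso (CommRingCat.of K)).inv).2
  letI : Algebra K Γ(Y.left, ⊤) := φ.toAlgebra
  haveI : Module.Finite K Γ(Y.left, ⊤) := hφ
  haveI : IsArtinianRing Γ(Y.left, ⊤) := IsArtinianRing.of_finite K _
  haveI : DiscreteTopology (Spec Γ(Y.left, ⊤)) :=
    inferInstanceAs (DiscreteTopology (PrimeSpectrum _))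
  exact Y.left.isoSpec.hom.homeomorph.symm.discreteTopology


section Galois

variable [IsAlgClosed Ω] [Algebra.IsAlgebraic K Ω]

instance preGalois_specField : PreGaloisCategory (FEt.Cat (Spec (CommRingCat.of K))) :=
  preGaloisCategory_cat

instance fiberFunctor_specField :
    PreGaloisCategory.FiberFunctor (fiberFin (gpt K Ω)) :=
  fiberFunctor_fiberFin (gpt K Ω)

instance galois_specField : GaloisCategory (FEt.Cat (Spec (CommRingCat.of K))) where
  hasFiberFunctor := ⟨fiberFin (gpt K (AlgebraicClosure K)), ⟨inferInstance⟩⟩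

theorem imPt_eq_of_subsingleton {Y : Scheme.{u}} (s : Spec (CommRingCat.of Ω) ⟶ Y)
    (p : Spec (CommRingCat.of Ω)) : s p = imPt s := by
  have : p = IsLocalRing.closedPoint Ω := Subsingleton.elim _ _
  rw [this]
  rfl

/-- all geometric points of a connected cover of `Spec K` have the same image -/
theorem imPt_eq_of_isConnected (X : FEt.Cat (Spec (CommRingCat.of K)))
    [PreGaloisCategory.IsConnected X] (s s' : FEt.fiberObj (gpt K Ω) X) :
    imPt s'.1 = imPt s.1 := by
  haveI := discreteTopology_of_finite X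
  let U : X.left.Opens := ⟨{imPt s.1}, isOpen_discrete _⟩
  let g : (U : Scheme.{u}) ⟶ X.left := U.ι
  haveI : IsOpenImmersion g := inferInstanceAs (IsOpenImmersion U.ι)
  have hrange : Set.range g = {imPt s.1} := Scheme.Opens.range_ι U
  haveI : IsClosedImmersion g := by
    apply IsClosedImmersion.of_isPreimmersion
    rw [hrange]
    exact isClosed_discrete _
  let f : X.left ⟶ Spec (CommRingCat.of K) := X.hom
  haveI : IsFinite f := X.prop.1
  haveI : Etale f := X.prop.2
  let Z : FEt.Cat (Spec (CommRingCat.of K)) := mkObj (g ≫ f)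
  let i : Z ⟶ X := MorphismProperty.Over.homMk g rfl trivial
  haveI : Mono i := by
    apply (MorphismProperty.Over.forget _ _ _ ⋙ Over.forget _).mono_of_mono_map
    change Mono g
    infer_instance
  have hne : IsInitial Z → False := by
    rw [PreGaloisCategory.not_initial_iff_fiber_nonempty (fiberFin (gpt K Ω)) Z]
    have hs : Set.range s.1 ⊆ Set.range g := by
      rintro _ ⟨p, rfl⟩
      rw [hrange, imPt_eq_of_subsingleton]
      rfl
    let t : Spec (CommRingCat.of Ω) ⟶ (U : Scheme.{u}) := IsOpenImmersion.lift g s.1 hs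
    have ht : t ≫ g = s.1 := IsOpenImmersion.lift_fac _ _ _
    have ht' : t ≫ Z.hom = gpt K Ω := by
      change t ≫ g ≫ f = _
      rw [← Category.assoc, ht]
      exact s.2
    exact ⟨(⟨t, ht'⟩ : FEt.fiberObj (gpt K Ω) Z)⟩
  have hiso : IsIso i := PreGaloisCategory.IsConnected.noTrivialComponent Z i hne
  have hg : IsIso g := by
    have := (MorphismProperty.Over.forget _ _ _ ⋙ Over.forget _).map_isIso i
    exact this
  have hsurj : Function.Surjective g := by
    intro x
    exact ⟨(inv g) x, by rw [← Scheme.Hom.comp_apply, IsIso.inv_hom_id]; rfl⟩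
  obtain ⟨z, hz⟩ := hsurj (imPt s'.1)
  have : imPt s'.1 ∈ Set.range g := ⟨z, hz⟩
  rw [hrange] at this
  exact this


noncomputable instance mulActionFiberFin (Y : FEt.Cat (Spec (CommRingCat.of K))) :
    MulAction (Ω ≃ₐ[K] Ω) ((fiberFin (gpt K Ω)).obj Y) :=
  inferInstanceAs (MulAction (Ω ≃ₐ[K] Ω) (FEt.fiberObj (gpt K Ω) Y))

/-- the separable finite subextensions as covers of `Spec K` -/
theorem fix_of_smul_eq (σ : Ω ≃ₐ[K] Ω)
    (h : ∀ (Y : FEt.Cat (Spec (CommRingCat.of K))) (s : FEt.fiberObj (gpt K Ω) Y), σ • s = s)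
    (E : IntermediateField K Ω) (h1 : FiniteDimensional K E) (h2 : Algebra.IsSeparable K E) :
    ∀ x ∈ E, σ x = x := by
  intro x hx
  let φ : CommRingCat.of K ⟶ CommRingCat.of E := CommRingCat.ofHom (algebraMap K E)
  haveI : IsFinite (Spec.map φ) := by
    rw [IsFinite.SpecMap_iff]
    exact RingHom.finite_algebraMap.2 h1
  haveI : Etale (Spec.map φ) := by
    rw [HasRingHomProperty.Spec_iff (P := @Etale)]
    change (algebraMap K E).Etale
    rw [RingHom.etale_algebraMap]
    haveI : Algebra.FormallyEtale K E := Algebra.FormallyEtale.of_isSeparable K E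
    haveI : Algebra.FinitePresentation K E :=
      Algebra.FinitePresentation.of_finiteType.1 inferInstance
    exact ⟨inferInstance, inferInstance⟩
  let Y : FEt.Cat (Spec (CommRingCat.of K)) := mkObj (Spec.map φ)
  let ψ : CommRingCat.of E ⟶ CommRingCat.of Ω := CommRingCat.ofHom (algebraMap E Ω)
  have hs : Spec.map ψ ≫ Y.hom = gpt K Ω := by
    change Spec.map ψ ≫ Spec.map φ = _
    rw [← Spec.map_comp]
    rfl
  let s : FEt.fiberObj (gpt K Ω) Y := ⟨Spec.map ψ, hs⟩
  have h3 := congrArg Subtype.val (h Y s)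
  rw [smul_val] at h3
  change Spec.map _ ≫ Spec.map ψ = Spec.map ψ at h3
  rw [← Spec.map_comp] at h3
  have h4 := Spec.map_injective h3
  have h5 := congrArg (fun f : CommRingCat.of E ⟶ CommRingCat.of Ω => f.hom ⟨x, hx⟩) h4
  exact h5


open scoped FintypeCatDiscrete in
instance isFundamentalGroup_gal :
    PreGaloisCategory.IsFundamentalGroup (fiberFin (gpt K Ω)) (Ω ≃ₐ[K] Ω) where
  naturality σ {Y Z} f s := map_smul f σ s
  transitive_of_isGalois X _ := ⟨fun s s' => by
    have h : imPt (Ω := Ω) (Y := X.left) (Subtype.val (p := fun t => t ≫ X.hom = gpt K Ω) s) =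
        imPt (Subtype.val (p := fun t => t ≫ X.hom = gpt K Ω) s') :=
      (imPt_eq_of_isConnected X s' s)
    exact exists_smul_eq_of_imPt_eq s s' h⟩
  continuous_smul X := by
    rw [continuousSMul_iff_stabilizer_isOpen]
    intro s
    let t : FEt.fiberObj (gpt K Ω) X := s
    change IsOpen ((MulAction.stabilizer (Ω ≃ₐ[K] Ω) t : Subgroup (Ω ≃ₐ[K] Ω)) : Set (Ω ≃ₐ[K] Ω))
    haveI : Finite (FEt.fiberObj (gpt K Ω) X) := (card_fiberObj (gpt K Ω) X).1
    haveI : Finite (MulAction.orbit (Ω ≃ₐ[K] Ω) t) := Subtype.finite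
    haveI : Finite ((Ω ≃ₐ[K] Ω) ⧸ MulAction.stabilizer (Ω ≃ₐ[K] Ω) t) :=
      Finite.of_equiv _ (MulAction.orbitEquivQuotientStabilizer (Ω ≃ₐ[K] Ω) t)
    haveI : (MulAction.stabilizer (Ω ≃ₐ[K] Ω) t).FiniteIndex :=
      Subgroup.finiteIndex_of_finite_quotient
    exact Subgroup.isOpen_of_isClosed_of_finiteIndex _ (isClosed_stabilizer t)
  non_trivial' σ h := by
    apply eq_one_of_fix_sep
    exact fix_of_smul_eq σ (fun Y s => h Y s)

end Galois

end Groth.Agent.Lib.helper4.FieldPi1
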