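import Mathlib
import Groth.Prelude.Def_FEt
import Groth.Agent.Lib.Helper14.FEtGal13
import Groth.Agent.Lib.Helper4.FieldPi1C

/-!
# `π₁(Spec K) ≅ Gal(K̄/K)` and `FEt(Spec K) ≌ finite continuous Gal-sets` (helper4)
-/

set_option autoImplicit false
set_option linter.unusedSectionVars false
set_option linter.style.haveILetI false

universe u

namespace Groth.Agent.Lib.helper4.FieldPi1

open AlgebraicGeometry CategoryTheory CategoryTheory.Limits
open Groth.Agent.Lib.helper14.FEtGal Groth.Agent.Lib.helper14.FibIso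

variable (K : Type u) [Field K] (Ω : Type u) [Field Ω] [Algebra K Ω] [IsAlgClosed Ω]
  [Algebra.IsAlgebraic K Ω]

/-- the Galois group is the automorphism group of the finite-set-valued fibre functor -/
noncomputable def galEquivAutFin : (Ω ≃ₐ[K] Ω) ≃* Aut (fiberFin (gpt K Ω)) :=
  PreGaloisCategory.toAutMulEquiv (fiberFin (gpt K Ω)) (Ω ≃ₐ[K] Ω)

/-- the Galois group is the fundamental group of `Spec K` -/
noncomputable def galEquivPiOne : (Ω ≃ₐ[K] Ω) ≃* Aut (FEt.fiber (gpt K Ω)) :=
  ((galEquivAutFin K Ω).trans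
    (((ObjectProperty.fullyFaithfulι _).whiskeringRight
      (FEt.Cat (Spec (CommRingCat.of K)))).autMulEquivOfFullyFaithful (fiberFin (gpt K Ω)))).trans
    (fiberFinIso (gpt K Ω)).conjAut

/-- the Galois group as a topological group is the automorphism group of the fibre functor -/
noncomputable def galHomeoAutFin : (Ω ≃ₐ[K] Ω) ≃ₜ* Aut (fiberFin (gpt K Ω)) :=
  { galEquivAutFin K Ω with
    continuous_toFun :=
      (PreGaloisCategory.toAutMulEquiv_isHomeomorph (fiberFin (gpt K Ω)) (Ω ≃ₐ[K] Ω)).continuous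
    continuous_invFun :=
      (PreGaloisCategory.toAutMulEquiv_isHomeomorph (fiberFin (gpt K Ω))
        (Ω ≃ₐ[K] Ω)).homeomorph.symm.continuous }

open scoped FintypeCatDiscrete in
/-- finite étale covers of `Spec K` are finite continuous `Gal(Ω/K)`-sets -/
noncomputable def fetEquivContAction :
    FEt.Cat (Spec (CommRingCat.of K)) ≌ ContAction FintypeCat.{u} (Ω ≃ₐ[K] Ω) :=
  (PreGaloisCategory.functorToContAction (fiberFin (gpt K Ω))).asEquivalence.trans
    (ContAction.resEquiv _ (galHomeoAutFin K Ω))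

end Groth.Agent.Lib.helper4.FieldPi1
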