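import Mathlib
import Groth.Agent.Lib.Helper4.DvrDense5
import Groth.Agent.Lib.Helper4.ValRefined
import Groth.Agent.Lib.Helper4.FunFieldProper

/-!
# Properness from lifting of nontrivial valuation rings at the maximal points

The analogue of `DvrDense`–`DvrDense5` without Noetherian hypotheses: arbitrary valuation
subrings `A ≠ ⊤` of the residue fields of the maximal points, finitely many irreducible
components.
-/

set_option backward.isDefEq.respectTransparency false
set_option backward.isDefEq.respectTransparency.types false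
set_option autoImplicit false
set_option linter.style.haveILetI false
universe u
open CategoryTheory CategoryTheory.Limits AlgebraicGeometry

namespace Groth.Agent.Lib.helper4.ValDense

open Groth.Agent.Lib.helper4.GenFinite3 Groth.Agent.Lib.helper4.DvrDense
open Groth.Agent.Lib.helper4.DvrDense3 Groth.Agent.Lib.helper4.DvrDense5
open Groth.Agent.Lib.helper19.ProjSpaceProper
open Groth.Agent.Lib.helper4.FunFieldProper

/-- A specialization of the image of a point, different from it, is realized by a nontrivial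
valuation ring of the residue field of the point. -/
theorem exists_valuationSubring_ne_top {Z P : Scheme.{u}} (g : Z ⟶ P) (z : Z) (w' : P)
    (hsp : g.base z ⤳ w') (hne : w' ≠ g.base z) :
    ∃ (R : ValuationSubring (Z.residueField z)) (m : Spec (.of R) ⟶ P), R ≠ ⊤ ∧
      m.base (IsLocalRing.closedPoint R) = w' ∧
        Spec.map (CommRingCat.ofHom R.subtype) ≫ m = Z.fromSpecResidueField z ≫ g := by
  obtain ⟨R, m, hcl, hgen⟩ :=
    Groth.Agent.Lib.helper4.ValRefined.exists_valuationSubring_of_specializes g z w' hsp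
  refine ⟨R, m, ?_, hcl, hgen⟩
  rintro rfl
  apply hne
  -- the subtype map of `⊤` is bijective, so the spectrum is a point
  have hbij : Function.Bijective (⊤ : ValuationSubring (Z.residueField z)).subtype :=
    ⟨Subtype.val_injective, fun a => ⟨⟨a, trivial⟩, rfl⟩⟩
  let pt : Spec (Z.residueField z) := IsLocalRing.closedPoint (Z.residueField z)
  have h1 : Spec.map (CommRingCat.ofHom (⊤ : ValuationSubring (Z.residueField z)).subtype) pt =
      IsLocalRing.closedPoint (⊤ : ValuationSubring (Z.residueField z)) := by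
    have hloc : IsLocalHom (⊤ : ValuationSubring (Z.residueField z)).subtype :=
      ⟨fun a ha => by
        obtain ⟨b, hb⟩ := ha.exists_right_inv
        exact IsUnit.of_mul_eq_one ⟨b, trivial⟩ (Subtype.ext hb)⟩
    exact IsLocalRing.comap_closedPoint _
  rw [← hcl, ← h1, ← Scheme.Hom.comp_apply, hgen, Scheme.Hom.comp_apply]
  exact congrArg _ (Scheme.fromSpecResidueField_apply _ pt)

/-- **Core.** An immersion `j : X' ⟶ P`, with `P` separated over `S`, is a closed immersion as soon
as nontrivial valuation rings of residue fields of maximal points of a dense family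
`p : U' ⟶ X'`, mapping to `P`, lift to `X'` over `S`. -/
theorem isClosedImmersion_of_val {X' P S U' : Scheme.{u}} (j : X' ⟶ P)
    [IsImmersion j] (b : P ⟶ S) [IsSeparated b] (p : U' ⟶ X')
    [QuasiCompact (p ≫ j)] (hd : DenseRange p)
    (H : ∀ (u : U'), IsMaxPt u → ∀ (A : ValuationSubring (U'.residueField u)),
      A ≠ ⊤ → ∀ (m : Spec (CommRingCat.of A) ⟶ P),
      Spec.map (CommRingCat.ofHom A.subtype) ≫ m = U'.fromSpecResidueField u ≫ p ≫ j →
      ∃ l : Spec (CommRingCat.of A) ⟶ X', l ≫ j ≫ b = m ≫ b ∧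
        Spec.map (CommRingCat.ofHom A.subtype) ≫ l = U'.fromSpecResidueField u ≫ p) :
    IsClosedImmersion j := by
  refine IsClosedImmersion.of_isPreimmersion j ?_
  rw [← closure_subset_iff_isClosed]
  intro x' hx
  have h1 : x' ∈ closure (Set.range (p ≫ j)) := by
    have : Set.range j ⊆ closure (Set.range (p ≫ j)) := by
      rw [Scheme.Hom.comp_base, TopCat.coe_comp, Set.range_comp, ← Set.image_univ,
        ← hd.closure_range]
      exact image_closure_subset_closure_image j.continuous
    exact closure_minimal this isClosed_closure hx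
  obtain ⟨u₀, hu₀⟩ :=
    Groth.Agent.Lib.Helper4.GlueClosedPoint.exists_specializes_of_mem_closure_range (p ≫ j) x' h1
  obtain ⟨u, humax, huu₀⟩ := exists_isMaxPt_specializes U' u₀
  have hu : (p ≫ j) u ⤳ x' := (huu₀.map (p ≫ j).continuous).trans hu₀
  by_cases hne : x' = (p ≫ j) u
  · exact ⟨p u, hne.symm⟩
  obtain ⟨A, m, hA, hcl, hgen⟩ := exists_valuationSubring_ne_top (p ≫ j) u x' hu hne
  obtain ⟨l, hl1, hl2⟩ := H u humax A hA m hgen
  have hdom := isDominant_SpecMap_subtype A
  have hlm : l ≫ j = m := by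
    refine ext_of_isDominant_of_isSeparated b (by rw [Category.assoc]; exact hl1)
      (Spec.map (CommRingCat.ofHom A.subtype)) ?_
    rw [← Category.assoc, hl2, Category.assoc, hgen]
  refine ⟨l (IsLocalRing.closedPoint A), ?_⟩
  rw [← hcl, ← hlm]
  rfl

variable {X S : Scheme.{u}}

/-- Lifting of nontrivial valuation rings at maximal points. -/
def ValGeneric (f : X ⟶ S) : Prop :=
  ∀ (η : X), IsMaxPt η → ∀ (A : ValuationSubring (X.residueField η)),
    A ≠ ⊤ → ∀ y : Spec (CommRingCat.of A) ⟶ S,
    Spec.map (CommRingCat.ofHom A.subtype) ≫ y = X.fromSpecResidueField η ≫ f →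
    ∃ l : Spec (CommRingCat.of A) ⟶ X, l ≫ f = y ∧
      Spec.map (CommRingCat.ofHom A.subtype) ≫ l = X.fromSpecResidueField η

/-- Transport of the hypothesis along an open immersion. -/
lemma valGeneric_openImmersion (f : X ⟶ S) (H : ValGeneric f) {W : Scheme.{u}} (t : W ⟶ X)
    [IsOpenImmersion t] (ξ : W) (hξ : IsMaxPt ξ) (A : ValuationSubring (W.residueField ξ))
    (hA : A ≠ ⊤) (y : Spec (CommRingCat.of A) ⟶ S)
    (hy : Spec.map (CommRingCat.ofHom A.subtype) ≫ y = W.fromSpecResidueField ξ ≫ t ≫ f) :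
    ∃ l : Spec (CommRingCat.of A) ⟶ X, l ≫ f = y ∧
      Spec.map (CommRingCat.ofHom A.subtype) ≫ l = W.fromSpecResidueField ξ ≫ t := by
  have hη := isMaxPt_of_isOpenImmersion t ξ hξ
  let ρ : X.residueField (t ξ) ⟶ W.residueField ξ := t.residueFieldMap ξ
  have hρiso : IsIso ρ := inferInstance
  have hρbij : Function.Bijective ρ.hom := (ConcreteCategory.isIso_iff_bijective ρ).mp hρiso
  let A' : ValuationSubring (X.residueField (t ξ)) := A.comap ρ.hom
  let eA : ↥A' ≃+* ↥A := comapEquiv A ρ.hom hρbij.2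
  have hA' : A' ≠ ⊤ := comap_ne_top A ρ.hom hρbij.2 hA
  let σ : Spec (CommRingCat.of ↥A) ⟶ Spec (CommRingCat.of ↥A') :=
    Spec.map (CommRingCat.ofHom (eA : ↥A' →+* ↥A))
  have hσ : IsIso σ := by
    have : IsIso (CommRingCat.ofHom (eA : ↥A' →+* ↥A)) := (eA.toCommRingCatIso).isIso_hom
    infer_instance
  have hsq : Spec.map ρ ≫ Spec.map (CommRingCat.ofHom A'.subtype) =
      Spec.map (CommRingCat.ofHom A.subtype) ≫ σ := by
    rw [← Spec.map_comp, ← Spec.map_comp]
    congr 1
  have htri : W.fromSpecResidueField ξ ≫ t = Spec.map ρ ≫ X.fromSpecResidueField (t ξ) :=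
    (Scheme.Hom.SpecMap_residueFieldMap_fromSpecResidueField t ξ).symm
  have hρepi : Epi (Spec.map ρ) := inferInstance
  obtain ⟨l', hl'1, hl'2⟩ := H (t ξ) hη A' hA' (inv σ ≫ y) (by
    rw [← cancel_epi (Spec.map ρ), ← Category.assoc, hsq, Category.assoc,
      IsIso.hom_inv_id_assoc, hy, ← Category.assoc, htri, Category.assoc])
  refine ⟨σ ≫ l', ?_, ?_⟩
  · rw [Category.assoc, hl'1, IsIso.hom_inv_id_assoc]
  · rw [← Category.assoc, ← hsq, Category.assoc, hl'2, htri]

/-- **Quasi-compact quasi-separated base, finitely many irreducible components.** -/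
theorem isProper_of_valGeneric_of_qcqs [CompactSpace S] [QuasiSeparatedSpace S]
    (f : X ⟶ S) [IsSeparated f] [LocallyOfFiniteType f] [QuasiCompact f]
    (hfin : (irreducibleComponents X).Finite) (H : ValGeneric f) : IsProper f := by
  have : CompactSpace X := QuasiCompact.compactSpace_of_compactSpace f
  obtain ⟨n, X'', π, j, hj, hjf, hπ, hsurj, V, hVaff, hVd, hViso, hpreV⟩ :=
    DvrDense2.chow_finite_components_dense f hfin
  let b := CohB1.ProjSpaceOver.toBase n S
  have : QuasiSeparatedSpace (CohB1.ProjSpaceOver n S) := quasiSeparatedSpace_of_quasiSeparated b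
  let p : (π ⁻¹ᵁ V).toScheme ⟶ X'' := (π ⁻¹ᵁ V).ι
  have hcpt : CompactSpace (π ⁻¹ᵁ V).toScheme :=
    isCompact_iff_compactSpace.mp (π.isCompact_preimage hVaff.isCompact)
  have : QuasiCompact (p ≫ j) := inferInstance
  have hpd : DenseRange p := by
    rw [DenseRange, Scheme.Opens.range_ι]
    exact hpreV
  have hpπ : p ≫ π = (π ∣_ V) ≫ V.ι := (morphismRestrict_ι π V).symm
  have ht : IsOpenImmersion (p ≫ π) := by rw [hpπ]; infer_instance
  have hcl : IsClosedImmersion j := by
    refine isClosedImmersion_of_val j b p hpd ?_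
    intro ξ hξ A hA m hm
    obtain ⟨l₀, hl₀1, hl₀2⟩ := valGeneric_openImmersion f H (p ≫ π) ξ hξ A hA (m ≫ b) (by
      rw [← Category.assoc, hm, Category.assoc, Category.assoc, Category.assoc]
      show _ ≫ p ≫ j ≫ CohB1.ProjSpaceOver.toBase n S = _
      rw [hjf])
    obtain ⟨l, hl1, hl2⟩ := exists_lift_of_isProper π A
      ((π ⁻¹ᵁ V).toScheme.fromSpecResidueField ξ ≫ p) l₀ (by
        rw [hl₀2, Category.assoc])
    refine ⟨l, ?_, hl1⟩
    show l ≫ j ≫ b = m ≫ b
    rw [hjf, ← Category.assoc, hl2, hl₀1]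
  have h1 : IsProper (j ≫ b) := inferInstance
  have h2 : IsProper (π ≫ f) := by rw [← hjf]; exact h1
  have h3 : UniversallyClosed f := UniversallyClosed.of_comp_surjective π f
  exact { }

/-- The hypothesis restricts to opens of the base. -/
lemma valGeneric_restrict (f : X ⟶ S) (H : ValGeneric f) (V : S.Opens) :
    ValGeneric (f ∣_ V) := by
  intro η hη A hA y hy
  obtain ⟨l, hl1, hl2⟩ := valGeneric_openImmersion f H (f ⁻¹ᵁ V).ι η hη A hA (y ≫ V.ι) (by
    rw [← Category.assoc, hy, Category.assoc, morphismRestrict_ι])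
  have hr : Set.range l ⊆ Set.range (f ⁻¹ᵁ V).ι := by
    rintro _ ⟨a, rfl⟩
    rw [Scheme.Opens.range_ι]
    show f (l a) ∈ V
    rw [← Scheme.Hom.comp_apply, hl1, Scheme.Hom.comp_apply]
    exact (y a).2
  refine ⟨IsOpenImmersion.lift (f ⁻¹ᵁ V).ι l hr, ?_, ?_⟩
  · rw [← cancel_mono V.ι, Category.assoc, morphismRestrict_ι, ← Category.assoc,
      IsOpenImmersion.lift_fac, hl1]
  · rw [← cancel_mono (f ⁻¹ᵁ V).ι, Category.assoc, IsOpenImmersion.lift_fac, hl2]

/-- **Properness from lifting of nontrivial valuation rings at the maximal points**, when the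
preimages of affine opens have finitely many irreducible components. -/
theorem isProper_of_valGeneric (f : X ⟶ S) [IsSeparated f]
    [LocallyOfFiniteType f] [QuasiCompact f]
    (hfin : ∀ V : S.Opens, IsAffineOpen V →
      (irreducibleComponents (f ⁻¹ᵁ V).toScheme).Finite)
    (H : ValGeneric f) : IsProper f := by
  refine IsZariskiLocalAtTarget.of_forall_exists_morphismRestrict (P := @IsProper) fun s => ?_
  obtain ⟨_, ⟨V : S.Opens, hV, rfl⟩, hsV, -⟩ :=
    S.isBasis_affineOpens.exists_subset_of_mem_open (Set.mem_univ s) isOpen_univ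
  refine ⟨V, hsV, ?_⟩
  have : IsAffine V.toScheme := hV
  exact isProper_of_valGeneric_of_qcqs (f ∣_ V) (hfin V hV) (valGeneric_restrict f H V)

end Groth.Agent.Lib.helper4.ValDense
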