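import Mathlib
import Groth.Agent.Lib.Helper4.ValDense

/-!
# Properness via arbitrary valuation rings of the function field (no Noetherian hypothesis)
-/

set_option backward.isDefEq.respectTransparency false
set_option backward.isDefEq.respectTransparency.types false
set_option autoImplicit false
set_option linter.style.haveILetI false
universe u
open CategoryTheory CategoryTheory.Limits AlgebraicGeometry

namespace Groth.Agent.Lib.helper4.FunFieldProper2

open Groth.Agent.Lib.helper4.GenFinite3 Groth.Agent.Lib.helper4.DvrDense
open Groth.Agent.Lib.helper4.FunFieldProper Groth.Agent.Lib.helper4.ValDense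

/-- A preirreducible space has finitely many irreducible components. -/
lemma finite_irreducibleComponents_of_preirreducible (T : Type*) [TopologicalSpace T]
    [PreirreducibleSpace T] : (irreducibleComponents T).Finite := by
  refine (Set.finite_singleton (Set.univ : Set T)).subset ?_
  intro C hC
  have hne : (Set.univ : Set T).Nonempty := hC.1.nonempty.mono (Set.subset_univ _)
  have huniv : IsIrreducible (Set.univ : Set T) :=
    ⟨hne, PreirreducibleSpace.isPreirreducible_univ⟩
  exact Set.eq_univ_of_univ_subset (hC.2 huniv (Set.subset_univ _))

variable {X Y : Scheme.{u}}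

/-- Opens of an integral scheme have finitely many irreducible components. -/
lemma finite_irreducibleComponents_opens [IsIntegral X] (U : X.Opens) :
    (irreducibleComponents U.toScheme).Finite := by
  haveI : PreirreducibleSpace U.toScheme := by
    have h1 : IsPreirreducible (Set.univ : Set X) := PreirreducibleSpace.isPreirreducible_univ
    have h2 := h1.preimage U.ι.isOpenEmbedding
    rw [Set.preimage_univ] at h2
    exact ⟨h2⟩
  exact finite_irreducibleComponents_of_preirreducible _

/-- The hypothesis of the criterion for valuation rings of the function field gives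
valuation-ring-lifting at the generic point. -/
theorem valGeneric_of_functionField [IsIntegral X] [Y.IsSeparated] (f : X ⟶ Y)
    (h : ∀ (R : ValuationSubring X.functionField), R ≠ ⊤ →
      ∀ (y : Y) (hy : f.base (genericPoint X) ⤳ y),
        ((∀ a : Y.presheaf.stalk y,
          (Y.presheaf.stalkSpecializes hy ≫ f.stalkMap (genericPoint X)).hom a ∈ R) ∧
          ∀ a ∈ IsLocalRing.maximalIdeal (Y.presheaf.stalk y), R.valuation
            ((Y.presheaf.stalkSpecializes hy ≫ f.stalkMap (genericPoint X)).hom a) < 1) →
        ∃ x : X, (∀ a : X.presheaf.stalk x,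
          algebraMap (X.presheaf.stalk x) X.functionField a ∈ R) ∧
          ∀ a ∈ IsLocalRing.maximalIdeal (X.presheaf.stalk x),
            R.valuation (algebraMap (X.presheaf.stalk x) X.functionField a) < 1) :
    ValGeneric f := by
  intro η hη A hA y hy
  obtain rfl : genericPoint X = η := hη _ ((genericPoint_spec X).specializes trivial)
  obtain ⟨y₀, hy₀, h1, h2⟩ := exists_dominated_of_hom f A y hy
  obtain ⟨x, hx, -⟩ := h _ (comap_ne_top A _
    (X.residue_surjective (genericPoint X)) hA) y₀ hy₀ ⟨h1, h2⟩
  exact exists_lift_of_stalk_le f A y hy x hx

/-- **Properness via valuation rings of the function field.** -/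
theorem isProper_of_valuationRings_of_functionField [IsIntegral X] [X.IsSeparated]
    [Y.IsSeparated] (f : X ⟶ Y) [LocallyOfFiniteType f] [QuasiCompact f]
    (h : ∀ (R : ValuationSubring X.functionField), R ≠ ⊤ →
      ∀ (y : Y) (hy : f.base (genericPoint X) ⤳ y),
        ((∀ a : Y.presheaf.stalk y,
          (Y.presheaf.stalkSpecializes hy ≫ f.stalkMap (genericPoint X)).hom a ∈ R) ∧
          ∀ a ∈ IsLocalRing.maximalIdeal (Y.presheaf.stalk y), R.valuation
            ((Y.presheaf.stalkSpecializes hy ≫ f.stalkMap (genericPoint X)).hom a) < 1) →
        ∃ x : X, (∀ a : X.presheaf.stalk x,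
          algebraMap (X.presheaf.stalk x) X.functionField a ∈ R) ∧
          ∀ a ∈ IsLocalRing.maximalIdeal (X.presheaf.stalk x),
            R.valuation (algebraMap (X.presheaf.stalk x) X.functionField a) < 1) :
    IsProper f :=
  isProper_of_valGeneric f (fun V _ => finite_irreducibleComponents_opens (f ⁻¹ᵁ V))
    (valGeneric_of_functionField f h)

end Groth.Agent.Lib.helper4.FunFieldProper2
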