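import Mathlib
import Groth.Agent.Lib.Helper4.GenFinite5

/-!
# Generic finiteness: version with finitely many irreducible components (Stacks 02NX)
-/

set_option backward.isDefEq.respectTransparency false
set_option backward.isDefEq.respectTransparency.types false
set_option autoImplicit false
universe u
open CategoryTheory AlgebraicGeometry

namespace Groth.Agent.Lib.helper4.GenFinite6

open Groth.Agent.Lib.helper4.GenFinite3 Groth.Agent.Lib.helper4.GenFinite4
  Groth.Agent.Lib.helper4.GenFinite5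

section Topology

variable {T : Type*} [TopologicalSpace T]

/-- In a space with finitely many irreducible components, two points whose closures are distinct
irreducible components have disjoint open neighbourhoods. -/
lemma exists_disjoint_nbhds_of_finite_irreducibleComponents
    (hT : (irreducibleComponents T).Finite) (x x' : T)
    (hx : closure {x} ∈ irreducibleComponents T) (hx' : closure {x'} ∈ irreducibleComponents T)
    (hne : closure ({x} : Set T) ≠ closure {x'}) :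
    ∃ O O' : Set T, IsOpen O ∧ IsOpen O' ∧ x ∈ O ∧ x' ∈ O' ∧ Disjoint O O' := by
  -- the open complement of the union of the other components
  let K : Set T → Set T := fun Z₀ => ⋃ Z ∈ irreducibleComponents T \ {Z₀}, Z
  have hKcl : ∀ Z₀, IsClosed (K Z₀) := fun Z₀ =>
    (hT.subset Set.sdiff_subset).isClosed_biUnion
      (fun Z hZ => isClosed_of_mem_irreducibleComponents Z hZ.1)
  have hmem : ∀ y : T, closure {y} ∈ irreducibleComponents T → y ∉ K (closure {y}) := by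
    intro y hy hyK
    simp only [K, Set.mem_iUnion] at hyK
    obtain ⟨Z, ⟨hZ, hZne⟩, hyZ⟩ := hyK
    apply hZne
    have hle : closure {y} ⊆ Z :=
      (isClosed_of_mem_irreducibleComponents Z hZ).closure_subset_iff.mpr
        (Set.singleton_subset_iff.mpr hyZ)
    exact Set.Subset.antisymm (hy.2 hZ.1 hle) hle
  have hsub : ∀ Z₀ : Set T, (K Z₀)ᶜ ⊆ Z₀ := by
    intro Z₀ y hy
    have : y ∈ ⋃₀ irreducibleComponents T := by rw [sUnion_irreducibleComponents]; trivial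
    obtain ⟨Z, hZ, hyZ⟩ := this
    by_cases h : Z = Z₀
    · exact h ▸ hyZ
    · exfalso
      apply hy
      simp only [K, Set.mem_iUnion]
      exact ⟨Z, ⟨hZ, h⟩, hyZ⟩
  refine ⟨(K (closure {x}))ᶜ, (K (closure {x'}))ᶜ, (hKcl _).isOpen_compl, (hKcl _).isOpen_compl,
    hmem x hx, hmem x' hx', ?_⟩
  rw [Set.disjoint_left]
  intro y hy hy'
  apply hy'
  simp only [K, Set.mem_iUnion]
  exact ⟨closure {x}, ⟨hx, hne⟩, hsub _ hy⟩

end Topology

variable {X Y : Scheme.{u}}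

/-- Pairwise disjoint affine neighbourhoods, inside a given open, of a finite set of points that
are pairwise separated by disjoint open sets. -/
lemma exists_disjoint_affine_nbhds' (X₁ : X.Opens) (F : Set X) (hF : F.Finite)
    (hFX : F ⊆ X₁)
    (hsep : ∀ x ∈ F, ∀ x' ∈ F, x ≠ x' →
      ∃ O O' : Set X, IsOpen O ∧ IsOpen O' ∧ x ∈ O ∧ x' ∈ O' ∧ Disjoint O O') :
    ∃ U : F → X.Opens, (∀ x, IsAffineOpen (U x)) ∧ (∀ x : F, x.1 ∈ U x) ∧ (∀ x, U x ≤ X₁) ∧
      Pairwise (Function.onFun Disjoint U) := by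
  classical
  have hpair : ∀ x x' : X, ∃ O O' : Set X, IsOpen O ∧ IsOpen O' ∧
      (x ∈ F → x' ∈ F → x ≠ x' → x ∈ O ∧ x' ∈ O' ∧ Disjoint O O') := by
    intro x x'
    by_cases h : x ∈ F ∧ x' ∈ F ∧ x ≠ x'
    · obtain ⟨O, O', hO, hO', h1, h2, h3⟩ := hsep x h.1 x' h.2.1 h.2.2
      exact ⟨O, O', hO, hO', fun _ _ _ => ⟨h1, h2, h3⟩⟩
    · exact ⟨∅, ∅, isOpen_empty, isOpen_empty, fun a b c => absurd ⟨a, b, c⟩ h⟩
  choose O O' hO hO' hOO' using hpair
  let N : X → Set X := fun x => (X₁ : Set X) ∩ ⋂ x' ∈ F \ {x}, (O x x' ∩ O' x' x)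
  have hNo : ∀ x, IsOpen (N x) := fun x =>
    X₁.2.inter ((hF.subset Set.sdiff_subset).isOpen_biInter
      (fun x' _ => (hO x x').inter (hO' x' x)))
  have hxN : ∀ x ∈ F, x ∈ N x := by
    intro x hx
    refine ⟨hFX hx, ?_⟩
    simp only [Set.mem_iInter]
    intro x' hx'
    have hne : x ≠ x' := fun e => hx'.2 (e ▸ rfl)
    exact ⟨(hOO' x x' hx hx'.1 hne).1, (hOO' x' x hx'.1 hx hne.symm).2.1⟩
  have hbasis := fun x : F => X.isBasis_affineOpens.exists_subset_of_mem_open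
    (hxN x.1 x.2) (hNo x.1)
  choose U' hU' hxU' hU'N using hbasis
  have hU'aff : ∀ x : F, ∃ U : X.Opens, IsAffineOpen U ∧ (U : Set X) = U' x := by
    intro x
    obtain ⟨U, hU, hUe⟩ := hU' x
    exact ⟨U, hU, hUe⟩
  choose U hUaff hUe using hU'aff
  refine ⟨U, hUaff, ?_, ?_, ?_⟩
  · intro x
    show x.1 ∈ (U x : Set X)
    rw [hUe]
    exact hxU' x
  · intro x z hz
    have hz' : z ∈ (U x : Set X) := hz
    rw [hUe] at hz'
    exact (hU'N x hz').1
  · intro x x' hne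
    have hne' : x.1 ≠ x'.1 := fun e => hne (Subtype.ext e)
    show Disjoint (U x) (U x')
    rw [← TopologicalSpace.Opens.coe_disjoint, hUe, hUe]
    refine Set.disjoint_of_subset ?_ ?_ (hOO' x.1 x'.1 x.2 x'.2 hne').2.2
    · intro z hz
      have h1 := (hU'N x hz).2
      simp only [Set.mem_iInter] at h1
      exact (h1 x'.1 ⟨x'.2, fun e => hne' (Set.mem_singleton_iff.mp e).symm⟩).1
    · intro z hz
      have h1 := (hU'N x' hz).2
      simp only [Set.mem_iInter] at h1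
      exact (h1 x.1 ⟨x.2, fun e => hne' (Set.mem_singleton_iff.mp e)⟩).2

/-- **Generic finiteness**, variant where quasi-separatedness is replaced by the hypothesis that
the points of the fibre are pairwise separated by disjoint opens. -/
theorem exists_isFinite_morphismRestrict' (f : X ⟶ Y) [LocallyOfFiniteType f] [QuasiCompact f]
    (η : Y) (hmax : IsMaxPt η) (hfin : (f ⁻¹' {η}).Finite)
    (hsep : ∀ x ∈ f ⁻¹' {η}, ∀ x' ∈ f ⁻¹' {η}, x ≠ x' →
      ∃ O O' : Set X, IsOpen O ∧ IsOpen O' ∧ x ∈ O ∧ x' ∈ O' ∧ Disjoint O O') :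
    ∃ V : Y.Opens, IsAffineOpen V ∧ η ∈ V ∧ IsFinite (f ∣_ V) := by
  classical
  obtain ⟨_, ⟨V₀ : Y.Opens, hV₀, rfl⟩, hηV₀, -⟩ :=
    Y.isBasis_affineOpens.exists_subset_of_mem_open (Set.mem_univ η) isOpen_univ
  have hηV₀' : η ∈ V₀ := hηV₀
  have hcpt : IsCompact ((f ⁻¹ᵁ V₀ : X.Opens) : Set X) := f.isCompact_preimage hV₀.isCompact
  obtain ⟨𝒜, h𝒜fin, h𝒜⟩ := isCompact_iff_finite_and_eq_biUnion_affineOpens.mp hcpt
  have : Finite 𝒜 := h𝒜fin
  have := Fintype.ofFinite 𝒜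
  have hAle : ∀ A : 𝒜, (A.1 : X.Opens) ≤ f ⁻¹ᵁ V₀ := by
    intro A
    rw [h𝒜]
    exact le_iSup₂ (f := fun (i : X.affineOpens) (_ : i ∈ 𝒜) => (i : X.Opens)) A.1 A.2
  have hg := fun A : 𝒜 =>
    exists_basicOpen_isFinite' f η hmax hfin V₀ hV₀ hηV₀' A.1.1 A.1.2 (hAle A)
  choose gA hηgA hgA using hg
  let g₁ : Γ(Y, V₀) := ∏ A, gA A
  have hηg₁ : η ∈ Y.basicOpen g₁ := by
    rw [Scheme.mem_basicOpen _ _ η hηV₀', map_prod, IsUnit.prod_univ_iff]
    intro A
    exact (Scheme.mem_basicOpen _ _ η hηV₀').mp (hηgA A)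
  set V₁ : Y.Opens := Y.basicOpen g₁ with hV₁def
  have hV₁ : IsAffineOpen V₁ := hV₀.basicOpen g₁
  have hV₁V₀ : V₁ ≤ V₀ := Y.basicOpen_le g₁
  let X₁ : X.Opens := f ⁻¹ᵁ V₁
  have hFX : f ⁻¹' {η} ⊆ (X₁ : Set X) := by
    intro x hx
    have hx' : f x = η := hx
    show f x ∈ V₁
    rw [hx']
    exact hηg₁
  obtain ⟨U, hUaff, hxU, hUX₁, hUdisj⟩ :=
    exists_disjoint_affine_nbhds' X₁ _ hfin hFX hsep
  have : Finite (f ⁻¹' {η}) := hfin
  let W : X.Opens := ⨆ x, U x
  have hW : IsAffineOpen W := IsAffineOpen.iSup_of_disjoint hUaff hUdisj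
  have hFW : f ⁻¹' {η} ⊆ (W : Set X) := fun x hx =>
    (le_iSup U ⟨x, hx⟩) (hxU ⟨x, hx⟩)
  have hWX₁ : W ≤ X₁ := iSup_le hUX₁
  have hηcl : η ∉ closure (f '' ((W : Set X)ᶜ)) := by
    intro hx
    obtain ⟨c, hcC, hcx⟩ :=
      Groth.Agent.Lib.Helper4.GlueClosedPoint.exists_specializes_of_mem_closure_image f
        ((W : Set X)ᶜ) W.2.isClosed_compl η hx
    have heq : f c = η := hmax _ hcx
    exact hcC (hFW heq)
  let V₂ : Y.Opens := V₁ ⊓ ⟨(closure (f '' ((W : Set X)ᶜ)))ᶜ, isClosed_closure.isOpen_compl⟩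
  have hηV₂ : η ∈ V₂ := ⟨hηg₁, hηcl⟩
  obtain ⟨g₂, hg₂V₂, hηg₂⟩ := hV₀.exists_basicOpen_le (V := V₂) ⟨η, hηV₂⟩ hηV₀'
  have hηg₂' : η ∈ Y.basicOpen g₂ := hηg₂
  set g : Γ(Y, V₀) := g₁ * g₂ with hgdef
  set V : Y.Opens := Y.basicOpen g with hVdef
  have hVeq : V = V₁ ⊓ Y.basicOpen g₂ := Scheme.basicOpen_mul _ _ _
  have hV : IsAffineOpen V := hV₀.basicOpen g
  have hηV : η ∈ V := by rw [hVeq]; exact ⟨hηg₁, hηg₂'⟩
  have hVV₂ : V ≤ V₂ := by rw [hVeq]; exact inf_le_right.trans hg₂V₂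
  have hpreW : f ⁻¹ᵁ V ≤ W := by
    intro x hx
    by_contra hxW
    exact (hVV₂ hx).2 (subset_closure ⟨x, hxW, rfl⟩)
  have hWV₀ : W ≤ f ⁻¹ᵁ V₀ := hWX₁.trans (fun x hx => hV₁V₀ hx)
  have hpre_eq : f ⁻¹ᵁ V = X.basicOpen ((f.appLE V₀ W hWV₀).hom g) := by
    have := Scheme.basicOpen_appLE f W V₀ hWV₀ g
    refine le_antisymm ?_ ?_
    · intro x hx
      rw [this]
      exact ⟨hpreW hx, hx⟩
    · rw [this]
      exact inf_le_right
  have hU : IsAffineOpen (f ⁻¹ᵁ V) := by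
    rw [hpre_eq]
    exact hW.basicOpen _
  refine ⟨V, hV, hηV, ?_⟩
  refine isFinite_morphismRestrict_of_finite_appLE f V hV hU ?_
  rw [RingHom.finite_iff_isIntegral_and_finiteType]
  refine ⟨?_, f.finiteType_appLE hV hU le_rfl⟩
  let A' : 𝒜 → X.Opens := fun A => X.basicOpen ((f.appLE V₀ A.1.1 (hAle A)).hom g)
  have hA'eq : ∀ A : 𝒜, A' A = A.1.1 ⊓ f ⁻¹ᵁ V := fun A =>
    Scheme.basicOpen_appLE f A.1.1 V₀ (hAle A) g
  have hA'le : ∀ A, A' A ≤ f ⁻¹ᵁ V := fun A => by rw [hA'eq]; exact inf_le_right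
  refine isIntegral_appLE_of_cover f V (f ⁻¹ᵁ V) le_rfl A' hA'le ?_ ?_
  · intro x hx
    have hx₀ : x ∈ f ⁻¹ᵁ V₀ := Y.basicOpen_le g hx
    rw [h𝒜] at hx₀
    simp only [TopologicalSpace.Opens.mem_iSup] at hx₀
    obtain ⟨A, hA, hxA⟩ := hx₀
    refine TopologicalSpace.Opens.mem_iSup.mpr ⟨⟨A, hA⟩, ?_⟩
    rw [hA'eq]
    exact ⟨hxA, hx⟩
  · intro A
    have hdvd : gA A ∣ g := (Finset.dvd_prod_of_mem _ (Finset.mem_univ A)).trans
      (Dvd.intro _ rfl)
    have h1 := hgA A g hdvd (hA'le A)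
    exact (finite_appLE_of_isFinite_resLE f V (A' A) hV (A.1.2.basicOpen _) (hA'le A)
      h1).to_isIntegral

/-- A property local at the target that holds over each `U i` holds over `⨆ i, U i`. -/
lemma morphismRestrict_iSup (P : MorphismProperty Scheme.{u}) [IsZariskiLocalAtTarget P]
    (f : X ⟶ Y) {ι : Type*} (U : ι → Y.Opens) (h : ∀ i, P (f ∣_ U i)) :
    P (f ∣_ (⨆ i, U i)) := by
  set V : Y.Opens := ⨆ i, U i with hVdef
  refine IsZariskiLocalAtTarget.of_iSup_eq_top (P := P) (fun i => V.ι ⁻¹ᵁ U i) ?_ ?_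
  · refine top_le_iff.mp fun x _ => ?_
    have hx : x.1 ∈ ⨆ i, U i := x.2
    obtain ⟨i, hi⟩ := TopologicalSpace.Opens.mem_iSup.mp hx
    exact TopologicalSpace.Opens.mem_iSup.mpr ⟨i, hi⟩
  · intro i
    rw [P.arrow_mk_iso_iff (morphismRestrictRestrict f V (V.ι ⁻¹ᵁ U i))]
    have e : V.ι ''ᵁ (V.ι ⁻¹ᵁ U i) = U i := by
      rw [Scheme.Hom.image_preimage_eq_opensRange_inf, Scheme.Opens.opensRange_ι]
      exact inf_eq_right.mpr (le_iSup U i)
    rw [P.arrow_mk_iso_iff (morphismRestrictEq f e)]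
    exact h i

/-- **Stacks 02NX.** Let `f` be locally of finite type and quasi-compact, `X` with finitely many
irreducible components, such that the points over the generic points of `Y` are generic points
of `X`. Then `f` is finite over a dense open of `Y`. -/
theorem exists_dense_isFinite (f : X ⟶ Y) [LocallyOfFiniteType f] [QuasiCompact f]
    (hX : (irreducibleComponents (X : Type u)).Finite)
    (hgen : ∀ x : X, closure {f x} ∈ irreducibleComponents (Y : Type u) →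
      closure {x} ∈ irreducibleComponents (X : Type u)) :
    ∃ V : Y.Opens, Dense (V : Set Y) ∧ IsFinite (f ∣_ V) := by
  classical
  have hX0 : {x : X | closure {x} ∈ irreducibleComponents (X : Type u)}.Finite := by
    refine Set.Finite.of_finite_image (f := fun x : X => closure ({x} : Set X))
      (hX.subset ?_) ?_
    · rintro _ ⟨x, hx, rfl⟩
      exact hx
    · intro x _ x' _ h
      exact (inseparable_iff_closure_eq.mpr h).eq
  have key : ∀ Z : irreducibleComponents (Y : Type u), ∃ V : Y.Opens, IsAffineOpen V ∧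
      Z.1 ⊆ closure (V : Set Y) ∧ IsFinite (f ∣_ V) := by
    intro Z
    have hirr : IsIrreducible Z.1 := Z.2.1
    have hcl : IsClosed Z.1 := isClosed_of_mem_irreducibleComponents _ Z.2
    obtain ⟨η, hη⟩ := QuasiSober.sober hirr hcl
    have hηZ : closure {η} = Z.1 := hη
    have hηcomp : closure {η} ∈ irreducibleComponents (Y : Type u) := hηZ ▸ Z.2
    have hmax := isMaxPt_of_closure_mem_irreducibleComponents η hηcomp
    have hfibsub : f ⁻¹' {η} ⊆ {x | closure {x} ∈ irreducibleComponents (X : Type u)} := by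
      intro x hx
      have hx' : f x = η := hx
      exact hgen x (by rw [hx']; exact hηcomp)
    have hfin := hX0.subset hfibsub
    obtain ⟨V, hV, hηV, hVfin⟩ := exists_isFinite_morphismRestrict' f η hmax hfin (by
      intro x hx x' hx' hne
      exact exists_disjoint_nbhds_of_finite_irreducibleComponents hX x x' (hfibsub hx)
        (hfibsub hx') (fun h => hne (inseparable_iff_closure_eq.mpr h).eq))
    refine ⟨V, hV, ?_, hVfin⟩
    rw [← hηZ]
    exact closure_minimal (Set.singleton_subset_iff.mpr (subset_closure hηV)) isClosed_closure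
  choose V hVaff hVcl hVfin using key
  refine ⟨⨆ Z, V Z, ?_, morphismRestrict_iSup @IsFinite f V hVfin⟩
  rw [dense_iff_closure_eq]
  apply Set.eq_univ_of_univ_subset
  rw [← sUnion_irreducibleComponents]
  rintro y ⟨Z, hZ, hyZ⟩
  have hle : ((V ⟨Z, hZ⟩ : Y.Opens) : Set Y) ⊆ ((⨆ Z, V Z : Y.Opens) : Set Y) :=
    le_iSup V ⟨Z, hZ⟩
  exact closure_mono hle (hVcl ⟨Z, hZ⟩ hyZ)

end Groth.Agent.Lib.helper4.GenFinite6
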