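import Mathlib

/-!
# The generic point lies in the interior of the image of a morphism locally of finite type (helper4)

`exists_forall_prime_mem_range` : for a finite type algebra `A → B` and a prime `q₀` of `B` over `𝔭₀`, there is
`a ∉ 𝔭₀` such that every prime `p ⊇ 𝔭₀` with `a ∉ p` is in the image of `Spec B → Spec A` (no Noetherian
hypothesis; proof through a maximal ideal of the fibre and a dominating valuation ring).
-/

set_option backward.isDefEq.respectTransparency false
set_option backward.isDefEq.respectTransparency.types false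
set_option autoImplicit false
set_option linter.style.haveILetI false
set_option linter.unusedVariables false

open TensorProduct CategoryTheory AlgebraicGeometry

universe u

namespace Groth.Agent.Lib.helper4.GenericImage

/-- valuation-ring membership from a polynomial relation with unit leading coefficient -/
theorem mem_valuationSubring_of_root {L : Type*} [Field L] (V : ValuationSubring L)
    {Abar : Type*} [CommRing Abar] (g : Abar →+* L) (hg : ∀ x, g x ∈ V)
    (P : Polynomial Abar) (hP : P ≠ 0) (hlead : IsUnit (⟨g P.leadingCoeff, hg _⟩ : V))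
    (y : L) (hy : P.eval₂ g y = 0) : y ∈ V := by
  let gV : Abar →+* V := g.codRestrict V.toSubring hg
  have hint : IsIntegral V y := by
    obtain ⟨u, hu⟩ := hlead
    let Q : Polynomial V := Polynomial.C (↑u⁻¹ : V) * P.map gV
    have hlc : (P.map gV).leadingCoeff = (u : V) := by
      have h0 : gV P.leadingCoeff = (u : V) := by rw [hu]; rfl
      have h1 : gV P.leadingCoeff ≠ 0 := by
        rw [h0]; exact u.ne_zero
      rw [Polynomial.leadingCoeff_map_of_leadingCoeff_ne_zero _ h1, h0]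
    refine ⟨Q, ?_, ?_⟩
    · show (Polynomial.C (↑u⁻¹ : V) * P.map gV).Monic
      rw [Polynomial.Monic, Polynomial.leadingCoeff_mul, Polynomial.leadingCoeff_C, hlc]
      exact u.inv_mul
    · show Polynomial.eval₂ (algebraMap V L) y Q = 0
      rw [Polynomial.eval₂_mul, Polynomial.eval₂_map]
      have : (algebraMap V L).comp gV = g := by ext x; rfl
      rw [this, hy, mul_zero]
  have := (IsIntegrallyClosed.isIntegral_iff (R := V) (K := L)).mp hint
  obtain ⟨z, hz⟩ := this
  rw [← hz]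
  exact z.2

theorem exists_forall_prime_mem_range {A B : Type u} [CommRing A] [CommRing B] [Algebra A B]
    [Algebra.FiniteType A B] (q₀ : Ideal B) [q₀.IsPrime] :
    ∃ a : A, a ∉ q₀.comap (algebraMap A B) ∧ ∀ p : Ideal A, p.IsPrime →
      q₀.comap (algebraMap A B) ≤ p → a ∉ p →
        ∃ Q : Ideal B, Q.IsPrime ∧ Q.comap (algebraMap A B) = p := by
  classical
  set 𝔭₀ : Ideal A := q₀.comap (algebraMap A B) with h𝔭₀
  haveI h𝔭₀p : 𝔭₀.IsPrime := Ideal.comap_isPrime _ _
  let κ := 𝔭₀.ResidueField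
  let T := 𝔭₀.Fiber B
  haveI : Nontrivial T := by
    let e := PrimeSpectrum.preimageEquivFiber A B ⟨𝔭₀, h𝔭₀p⟩
    let q : PrimeSpectrum B := ⟨q₀, inferInstance⟩
    have hq : q ∈ PrimeSpectrum.comap (algebraMap A B) ⁻¹' {⟨𝔭₀, h𝔭₀p⟩} := by
      show PrimeSpectrum.comap (algebraMap A B) q = ⟨𝔭₀, h𝔭₀p⟩
      rfl
    exact (PrimeSpectrum.nonempty_iff_nontrivial.mp ⟨e ⟨q, hq⟩⟩)
  obtain ⟨M, hM⟩ := Ideal.exists_maximal T
  let L := T ⧸ M
  letI : Field L := Ideal.Quotient.field M
  haveI : Algebra.FiniteType κ T := inferInstance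
  haveI : Algebra.FiniteType κ L :=
    Algebra.FiniteType.of_surjective (Ideal.Quotient.mkₐ κ M) (Ideal.Quotient.mkₐ_surjective κ M)
  haveI : Module.Finite κ L := finite_of_finite_type_of_isJacobsonRing κ L
  let ψ : B →+* L := (Ideal.Quotient.mk M).comp
    (Algebra.TensorProduct.includeRight (R := A) (A := κ) (B := B)).toRingHom
  let g : (A ⧸ 𝔭₀) →+* L := (algebraMap κ L).comp (algebraMap (A ⧸ 𝔭₀) κ)
  have hgψ : ∀ x : A, g (Ideal.Quotient.mk 𝔭₀ x) = ψ (algebraMap A B x) := by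
    intro x
    show algebraMap κ L (algebraMap (A ⧸ 𝔭₀) κ (Ideal.Quotient.mk 𝔭₀ x)) =
      Ideal.Quotient.mk M ((1 : κ) ⊗ₜ[A] (algebraMap A B x))
    have h1 : algebraMap (A ⧸ 𝔭₀) κ (Ideal.Quotient.mk 𝔭₀ x) = algebraMap A κ x := rfl
    rw [h1]
    have h2 : ((1 : κ) ⊗ₜ[A] (algebraMap A B x) : T) = (algebraMap A κ x) ⊗ₜ[A] (1 : B) := by
      rw [Algebra.algebraMap_eq_smul_one, Algebra.algebraMap_eq_smul_one, TensorProduct.tmul_smul,
        TensorProduct.smul_tmul']
    rw [h2]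
    rfl
  have hginj : Function.Injective g :=
    (algebraMap κ L).injective.comp (Ideal.injective_algebraMap_quotient_residueField 𝔭₀)
  obtain ⟨s, hs⟩ := (Algebra.FiniteType.out : (⊤ : Subalgebra A B).FG)
  have halg : ∀ b : B, ∃ P : Polynomial (A ⧸ 𝔭₀), P ≠ 0 ∧ P.eval₂ g (ψ b) = 0 := by
    intro b
    have h1 : IsAlgebraic κ (ψ b) := Algebra.IsAlgebraic.isAlgebraic _
    obtain ⟨Q, hQ, hQe⟩ := h1
    refine ⟨IsLocalization.integerNormalization (nonZeroDivisors (A ⧸ 𝔭₀)) Q, ?_, ?_⟩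
    · intro hN
      exact hQ (IsFractionRing.integerNormalization_eq_zero_iff.mp hN)
    · exact IsLocalization.integerNormalization_eval₂_eq_zero (nonZeroDivisors (A ⧸ 𝔭₀))
        (algebraMap κ L) Q hQe
  choose P hP0 hPe using halg
  have hlift : ∀ b : B, ∃ a : A, Ideal.Quotient.mk 𝔭₀ a = (P b).leadingCoeff :=
    fun b => Ideal.Quotient.mk_surjective _
  choose c hc using hlift
  have hcne : ∀ b : B, c b ∉ 𝔭₀ := by
    intro b hcb
    apply hP0 b
    rw [← Polynomial.leadingCoeff_eq_zero, ← hc b, Ideal.Quotient.eq_zero_iff_mem]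
    exact hcb
  refine ⟨∏ b ∈ s, c b, ?_, ?_⟩
  · intro hmem
    obtain ⟨b, -, hb⟩ := (Ideal.IsPrime.prod_mem_iff (hp := h𝔭₀p)).mp hmem
    exact hcne b hb
  · intro p hp hle hap
    haveI := hp
    let ι : A →+* L := g.comp (Ideal.Quotient.mk 𝔭₀)
    have hι : ∀ x : p.primeCompl, IsUnit (ι x) := by
      intro x
      rw [isUnit_iff_ne_zero]
      intro h0
      have : Ideal.Quotient.mk 𝔭₀ (x : A) = 0 := hginj (by rw [map_zero]; exact h0)
      rw [Ideal.Quotient.eq_zero_iff_mem] at this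
      exact x.2 (hle this)
    let f : Localization.AtPrime p →+* L := IsLocalization.lift hι
    obtain ⟨V, hV, hloc⟩ := IsLocalRing.exists_factor_valuationRing f
    have hfι : ∀ x : A, f (algebraMap A _ x) = ι x := fun x => IsLocalization.lift_eq hι x
    have hιV : ∀ x : A, ι x ∈ V := fun x => by
      have := hV (algebraMap A _ x); rwa [hfι] at this
    have hgV : ∀ x : A ⧸ 𝔭₀, g x ∈ V := by
      intro x; obtain ⟨x, rfl⟩ := Ideal.Quotient.mk_surjective x; exact hιV x
    have hcod : ∀ x : A, (f.codRestrict V.toSubring hV) (algebraMap A _ x) = ⟨ι x, hιV x⟩ :=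
      fun x => Subtype.ext (hfι x)
    have hunit : ∀ x : A, x ∉ p → IsUnit (⟨ι x, hιV x⟩ : V) := by
      intro x hx
      have h1 : IsUnit (algebraMap A (Localization.AtPrime p) x) :=
        IsLocalization.map_units _ (⟨x, hx⟩ : p.primeCompl)
      have := h1.map (f.codRestrict V.toSubring hV)
      rwa [hcod] at this
    have hnonunit : ∀ x : A, x ∈ p → ¬ IsUnit (⟨ι x, hιV x⟩ : V) := by
      intro x hx hu
      rw [← hcod] at hu
      have : IsUnit (algebraMap A (Localization.AtPrime p) x) := hloc.map_nonunit _ hu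
      exact (IsLocalization.AtPrime.isUnit_to_map_iff _ p x).mp this hx
    have hsV : ∀ b ∈ s, ψ b ∈ V := by
      intro b hb
      refine mem_valuationSubring_of_root V g hgV (P b) (hP0 b) ?_ (ψ b) (hPe b)
      have hcb : c b ∉ p := by
        intro h
        apply hap
        exact Ideal.mem_of_dvd _ (Finset.dvd_prod_of_mem c hb) h
      have := hunit (c b) hcb
      have heq : (⟨g (P b).leadingCoeff, hgV _⟩ : V) = ⟨ι (c b), hιV (c b)⟩ := by
        apply Subtype.ext
        show g (P b).leadingCoeff = g (Ideal.Quotient.mk 𝔭₀ (c b))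
        rw [hc b]
      rw [heq]
      exact this
    have hψV : ∀ b : B, ψ b ∈ V := by
      intro b
      have hb : b ∈ Algebra.adjoin A (s : Set B) := by rw [hs]; trivial
      induction hb using Algebra.adjoin_induction with
      | mem x hx => exact hsV x hx
      | algebraMap x => rw [← hgψ]; exact hιV x
      | add x y _ _ hx hy => rw [map_add]; exact V.add_mem _ _ hx hy
      | mul x y _ _ hx hy => rw [map_mul]; exact V.mul_mem _ _ hx hy
    let ψV : B →+* V := ψ.codRestrict V.toSubring hψV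
    refine ⟨(IsLocalRing.maximalIdeal V).comap ψV, Ideal.comap_isPrime _ _, ?_⟩
    ext x
    simp only [Ideal.mem_comap, IsLocalRing.mem_maximalIdeal, mem_nonunits_iff]
    have : ψV (algebraMap A B x) = ⟨ι x, hιV x⟩ := Subtype.ext (hgψ x).symm
    rw [this]
    constructor
    · intro h; by_contra hx; exact h (hunit x hx)
    · exact hnonunit x


theorem genericPoint_mem_interior_range {X Y : Scheme.{u}} (f : X ⟶ Y)
    [LocallyOfFiniteType f] [IrreducibleSpace Y] (h : genericPoint Y ∈ Set.range f.base) :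
    genericPoint Y ∈ interior (Set.range f.base) := by
  obtain ⟨x₀, hx₀⟩ := h
  obtain ⟨_, ⟨V, hV, rfl⟩, hηV, -⟩ :=
    Y.isBasis_affineOpens.exists_subset_of_mem_open (Set.mem_univ (genericPoint Y)) isOpen_univ
  have hx₀V : x₀ ∈ f ⁻¹ᵁ V := by
    show f x₀ ∈ V
    rw [show f x₀ = genericPoint Y from hx₀]
    exact hηV
  obtain ⟨_, ⟨U, hU, rfl⟩, hx₀U, hUV⟩ :=
    X.isBasis_affineOpens.exists_subset_of_mem_open hx₀V (f ⁻¹ᵁ V).2
  have e : U ≤ f ⁻¹ᵁ V := hUV
  let φ' := f.appLE V U e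
  have hsq : Spec.map φ' ≫ hV.fromSpec = hU.fromSpec ≫ f := hV.SpecMap_appLE_fromSpec f hU e
  letI : Algebra Γ(Y, V) Γ(X, U) := φ'.hom.toAlgebra
  haveI : Algebra.FiniteType Γ(Y, V) Γ(X, U) :=
    f.finiteType_appLE hV hU e
  obtain ⟨q₀', hq₀'⟩ : ∃ q : Spec Γ(X, U), hU.fromSpec q = x₀ := by
    have : x₀ ∈ Set.range hU.fromSpec := by rw [hU.range_fromSpec]; exact hx₀U
    exact this
  haveI : q₀'.asIdeal.IsPrime := q₀'.2
  obtain ⟨a, ha, hap⟩ := exists_forall_prime_mem_range (A := Γ(Y, V)) (B := Γ(X, U)) q₀'.asIdeal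
  let 𝔭₀' : Spec Γ(Y, V) := Spec.map φ' q₀'
  have h𝔭₀' : hV.fromSpec 𝔭₀' = genericPoint Y := by
    show (Spec.map φ' ≫ hV.fromSpec) q₀' = _
    rw [hsq, Scheme.Hom.comp_apply, hq₀']
    exact hx₀
  have hopen : IsOpen (hV.fromSpec '' (PrimeSpectrum.basicOpen a : Set (PrimeSpectrum Γ(Y, V)))) :=
    hV.fromSpec.isOpenEmbedding.isOpenMap _ (PrimeSpectrum.basicOpen a).2
  rw [mem_interior]
  refine ⟨_, ?_, hopen, ⟨𝔭₀', ha, h𝔭₀'⟩⟩
  rintro _ ⟨p', hp', rfl⟩
  have hsp : hV.fromSpec 𝔭₀' ⤳ hV.fromSpec p' := by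
    rw [h𝔭₀']
    exact genericPoint_specializes _
  rw [hV.fromSpec.isOpenEmbedding.isInducing.specializes_iff] at hsp
  have hle : 𝔭₀'.asIdeal ≤ p'.asIdeal := (PrimeSpectrum.le_iff_specializes 𝔭₀' p').mpr hsp
  obtain ⟨Q, hQp, hQ⟩ := hap p'.asIdeal p'.2 hle hp'
  let Q' : Spec Γ(X, U) := ⟨Q, hQp⟩
  refine ⟨hU.fromSpec Q', ?_⟩
  show (hU.fromSpec ≫ f) Q' = _
  rw [← hsq, Scheme.Hom.comp_apply]
  congr 1
  exact PrimeSpectrum.ext hQ

end Groth.Agent.Lib.helper4.GenericImage
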