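import Mathlib
import Groth.Prelude.Def_W4bk4git07Quot

/-!
# A geometric quotient by a universally open group scheme is universally open (helper4)
-/

set_option autoImplicit false
set_option linter.style.haveILetI false
set_option backward.isDefEq.respectTransparency false
universe u
open CategoryTheory MonoidalCategory CartesianMonoidalCategory MonObj AlgebraicGeometry
open CategoryTheory.Limits

namespace Groth.Agent.Lib.Helper4.GeomQuotOpen

variable {S : Scheme.{u}} {G X Y : Over S} [GrpObj G] (a : AlgGrp.Action G X) (φ : X ⟶ Y)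

theorem universallyOpen_of_isGeomQuot (h : GIT.IsGeomQuot a φ) (hG : UniversallyOpen G.hom) :
    UniversallyOpen φ.left := by
  have hsnd : UniversallyOpen (snd G X).left := by
    rw [Over.snd_left]
    infer_instance
  haveI : Surjective (GIT.PsiY a φ h.inv) := ⟨h.orbit⟩
  refine ⟨fun X' Y' i₁ i₂ f' sq => ?_⟩
  -- `sq : IsPullback f' i₁ i₂ φ.left`
  have hq : Topology.IsQuotientMap f'.base := h.subm i₁ i₂ f' sq
  set Ψ := GIT.PsiY a φ h.inv with hΨ
  have hcomm : f' ≫ i₂ = i₁ ≫ φ.left := sq.w
  let κ : pullback f' f' ⟶ pullback φ.left φ.left :=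
    pullback.map f' f' φ.left φ.left i₁ i₁ i₂ hcomm hcomm
  have hκ1 : κ ≫ pullback.fst φ.left φ.left = pullback.fst f' f' ≫ i₁ := pullback.lift_fst _ _ _
  have hκ2 : κ ≫ pullback.snd φ.left φ.left = pullback.snd f' f' ≫ i₁ := pullback.lift_snd _ _ _
  -- the bottom square
  have bottom : IsPullback κ (pullback.snd f' f') (pullback.snd φ.left φ.left) i₁ := by
    have big : IsPullback (pullback.fst f' f' ≫ i₁) (pullback.snd f' f') φ.left (f' ≫ i₂) :=
      (IsPullback.of_hasPullback f' f').paste_horiz sq.flip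
    rw [← hκ1, hcomm] at big
    exact IsPullback.of_right big hκ2 (IsPullback.of_hasPullback φ.left φ.left)
  have top : IsPullback (pullback.fst Ψ κ) (pullback.snd Ψ κ) Ψ κ := IsPullback.of_hasPullback Ψ κ
  have big := top.paste_vert bottom
  have hΨsnd : Ψ ≫ pullback.snd φ.left φ.left = (snd G X).left := pullback.lift_snd _ _ _
  rw [hΨsnd] at big
  have hp₂ : UniversallyOpen (pullback.snd Ψ κ ≫ pullback.snd f' f') :=
    MorphismProperty.of_isPullback big hsnd
  -- the open map statement
  show IsOpenMap f'.base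
  intro V hV
  rw [← hq.isOpen_preimage]
  have key : f'.base ⁻¹' (f'.base '' V) =
      (pullback.snd Ψ κ ≫ pullback.snd f' f').base ''
        ((pullback.snd Ψ κ ≫ pullback.fst f' f').base ⁻¹' V) := by
    ext x₂
    constructor
    · rintro ⟨x₁, hx₁, hx⟩
      obtain ⟨z, hz1, hz2⟩ := Scheme.Pullback.exists_preimage_pullback (f := f') (g := f') x₁ x₂ hx
      obtain ⟨e, he⟩ := (inferInstance : Surjective (pullback.snd Ψ κ)).surj z
      refine ⟨e, ?_, ?_⟩
      · show (pullback.snd Ψ κ ≫ pullback.fst f' f').base e ∈ V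
        have : (pullback.snd Ψ κ ≫ pullback.fst f' f').base e = x₁ := by
          rw [← hz1, ← he]; rfl
        rw [this]; exact hx₁
      · rw [← hz2, ← he]; rfl
    · rintro ⟨e, he, rfl⟩
      refine ⟨(pullback.snd Ψ κ ≫ pullback.fst f' f').base e, he, ?_⟩
      have hc : (pullback.snd Ψ κ ≫ pullback.fst f' f') ≫ f' =
          (pullback.snd Ψ κ ≫ pullback.snd f' f') ≫ f' := by
        rw [Category.assoc, Category.assoc, pullback.condition]
      have := congrArg (fun k : pullback Ψ κ ⟶ Y' => k.base e) hc
      exact this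
  rw [key]
  exact (pullback.snd Ψ κ ≫ pullback.snd f' f').isOpenMap _
    (hV.preimage (pullback.snd Ψ κ ≫ pullback.fst f' f').continuous)

end Groth.Agent.Lib.Helper4.GeomQuotOpen
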