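import Mathlib
import Groth.Prelude.Def_StGerb2
import Groth.Agent.Lib.Helper4.GerbAut
import Groth.Agent.Lib.Helper4.QuotCmp5
import Groth.Agent.Lib.Helper4.SpYon2
import Groth.Agent.Lib.Helper27.StkElem1

/-!
# The sheaf of isomorphisms from the pullbacks of a global object (helper4)

For a stack in groupoids `𝒳` over `(Sch/S)` with an object `x` over `S` itself (a functor `x : (Sch/S) ⟶ 𝒳` over `(Sch/S)`):
* `xt x : Over S ⥤ 𝒳.obj`, `T ↦ x_T`, the pullbacks of the global object, `bm`: the morphism of bases under `x_T ⟶ y`;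
* `isoSh h𝒳 x y`: the fppf sheaf `T ↦ Hom_𝒳(x_T, y)` (the sheaf `Isom(x, y)` over the base of `y`), its points
  `pt`/`ofPt`, the structure map `isoπ` and the functoriality `isoMap` in `y`.
-/

set_option backward.isDefEq.respectTransparency false
set_option backward.isDefEq.respectTransparency.types false
set_option autoImplicit false
set_option linter.style.haveILetI false
set_option linter.unusedSectionVars false
set_option linter.unusedVariables false
set_option linter.unusedSimpArgs false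

universe u

open CategoryTheory CategoryTheory.Limits MonoidalCategory CartesianMonoidalCategory MonObj GrpObj AlgebraicGeometry
open AlgSt Opposite

namespace Groth.Agent.Lib.helper4.GerbBG

open Groth.Agent.Lib.helper27.StkElem1 Groth.Agent.Lib.helper4.SpQuot Groth.Agent.Lib.helper4.SpYon

variable {S : Scheme.{u}} {𝒳 : AlgSt.Cat S}

/-- schemes over `S` as objects of the slice over the terminal `S`-scheme -/
def tt (S : Scheme.{u}) : Over S ⥤ Over (Over.mk (𝟙 S)) where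
  obj T := Over.mk (Over.homMk T.hom : T ⟶ Over.mk (𝟙 S))
  map f := Over.homMk f (by ext; simp)

variable (x : FibCat.overCat (Over.mk (𝟙 S)) ⥤ᵇ 𝒳)

/-- the pullbacks of the global object -/
def xt : Over S ⥤ 𝒳.obj := tt S ⋙ x.toFunctor

theorem p_xt (T : Over S) : 𝒳.p.obj ((xt x).obj T) = T := x.w_obj ((tt S).obj T)

instance xt_isHomLift {T' T : Over S} (k : T' ⟶ T) : 𝒳.p.IsHomLift k ((xt x).map k) := by
  have h : (FibCat.overCat (Over.mk (𝟙 S))).p.IsHomLift k ((tt S).map k) := by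
    change (FibCat.overCat (Over.mk (𝟙 S))).p.IsHomLift
      ((FibCat.overCat (Over.mk (𝟙 S))).p.map ((tt S).map k)) ((tt S).map k)
    infer_instance
  exact BasedFunctor.preserves_isHomLift x k ((tt S).map k)

/-- the morphism of bases under a morphism out of a pullback of the global object -/
def bm {T : Over S} {y : 𝒳.obj} (m : (xt x).obj T ⟶ y) : T ⟶ 𝒳.p.obj y :=
  eqToHom (p_xt x T).symm ≫ 𝒳.p.map m

instance isHomLift_bm {T : Over S} {y : 𝒳.obj} (m : (xt x).obj T ⟶ y) : 𝒳.p.IsHomLift (bm x m) m := by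
  apply IsHomLift.of_fac' 𝒳.p _ _ (p_xt x T) rfl
  simp [bm]

theorem bm_eq {T : Over S} {y : 𝒳.obj} (m : (xt x).obj T ⟶ y) (g : T ⟶ 𝒳.p.obj y) [𝒳.p.IsHomLift g m] :
    bm x m = g := by
  have h := IsHomLift.fac' 𝒳.p g m
  simp only [eqToHom_refl, Category.comp_id] at h
  unfold bm
  rw [h, ← Category.assoc, eqToHom_trans, eqToHom_refl, Category.id_comp]

theorem bm_map_comp {T' T : Over S} {y : 𝒳.obj} (k : T' ⟶ T) (m : (xt x).obj T ⟶ y) :
    bm x ((xt x).map k ≫ m) = k ≫ bm x m :=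
  bm_eq x _ _

theorem bm_comp {T : Over S} {y y' : 𝒳.obj} (m : (xt x).obj T ⟶ y) (a : y ⟶ y') :
    bm x (m ≫ a) = bm x m ≫ 𝒳.p.map a :=
  bm_eq x _ _

/-- the presheaf `T ↦ Hom(x_T, y)` -/
def isoPsh (y : 𝒳.obj) : (Over S)ᵒᵖ ⥤ Type (u + 1) := (xt x).op ⋙ yoneda.obj y ⋙ uliftFunctor.{u + 1, u}

theorem isoPsh_map {y : 𝒳.obj} {T' T : Over S} (k : T' ⟶ T) (m : (xt x).obj T ⟶ y) :
    (isoPsh x y).map k.op ⟨m⟩ = ⟨(xt x).map k ≫ m⟩ := rfl

/-- the factorisation of a lift of `f` through the canonical lift `x_f` -/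
noncomputable def lft (h𝒳 : FibCat.IsFibGrpd 𝒳.p) {T' T : Over S} (f : T' ⟶ T) {x' : 𝒳.obj}
    (χ : x' ⟶ (xt x).obj T) (hχ : 𝒳.p.IsHomLift f χ) : x' ⟶ (xt x).obj T' :=
  lift h𝒳 f ((xt x).map f) (xt_isHomLift x f) (𝟙 T') f (Category.id_comp f).symm χ hχ

theorem lft_isHomLift (h𝒳 : FibCat.IsFibGrpd 𝒳.p) {T' T : Over S} (f : T' ⟶ T) {x' : 𝒳.obj}
    (χ : x' ⟶ (xt x).obj T) (hχ : 𝒳.p.IsHomLift f χ) : 𝒳.p.IsHomLift (𝟙 T') (lft x h𝒳 f χ hχ) :=
  lift_isHomLift h𝒳 _ _ _ _ _ _ _ _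

theorem lft_comp (h𝒳 : FibCat.IsFibGrpd 𝒳.p) {T' T : Over S} (f : T' ⟶ T) {x' : 𝒳.obj}
    (χ : x' ⟶ (xt x).obj T) (hχ : 𝒳.p.IsHomLift f χ) : lft x h𝒳 f χ hχ ≫ (xt x).map f = χ :=
  lift_comp h𝒳 _ _ _ _ _ _ _ _

theorem lft_self (h𝒳 : FibCat.IsFibGrpd 𝒳.p) {T' T : Over S} (f : T' ⟶ T) :
    lft x h𝒳 f ((xt x).map f) (xt_isHomLift x f) = 𝟙 _ := by
  symm
  apply lift_uniq h𝒳
  · exact IsHomLift.of_fac' 𝒳.p _ _ (p_xt x T') (p_xt x T') (by simp)
  · exact Category.id_comp _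

theorem isoPsh_isSheaf (h𝒳 : Stk.IsStack (AlgSp.J S) 𝒳) (y : 𝒳.obj) :
    Presieve.IsSheaf (AlgSp.J S) (isoPsh x y) := by
  obtain ⟨hsep, hglue, -⟩ := elem_of_isStack (AlgSp.J S) h𝒳
  have hfg := h𝒳.1
  intro T R hR fam hfam
  have hc := (Presieve.compatible_iff_sieveCompatible fam).1 hfam
  have hc' : ∀ ⦃T' T'' : Over S⦄ (f : T' ⟶ T) (hf : R f) (k : T'' ⟶ T'),
      (fam (k ≫ f) (R.downward_closed hf k)).down = (xt x).map k ≫ (fam f hf).down := by
    intro T' T'' f hf k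
    have := hc f k hf
    rw [this]
    rfl
  -- the morphism of bases
  obtain ⟨m', hm'⟩ := yon_glue (G := (AlgSp.yon S).obj (𝒳.p.obj y)) R hR
    (fun T' t ht => (AlgSp.yon S).map (bm x (fam t ht).down)) (by
      intro T' T'' t ht k
      rw [← Functor.map_comp, hc' t ht k, bm_map_comp])
  obtain ⟨g, rfl⟩ := (AlgSp.yon S).map_surjective m'
  have hg : ∀ ⦃T' : Over S⦄ (t : T' ⟶ T) (ht : R t), t ≫ g = bm x (fam t ht).down := by
    intro T' t ht
    apply (AlgSp.yon S).map_injective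
    rw [Functor.map_comp]
    exact hm' t ht
  -- gluing
  obtain ⟨a, ha, hφ⟩ := hglue R hR g ((xt x).obj T) y (p_xt x T) rfl
    (fun V' f hf x' χ hχ => lft x hfg f χ hχ ≫ (fam f hf).down)
    (by
      intro V' f hf x' χ hχ
      have h1 := lft_isHomLift x hfg f χ hχ
      have h2 : 𝒳.p.IsHomLift (f ≫ g) (fam f hf).down := by
        rw [hg f hf]; infer_instance
      exact isHomLift_comp' (𝟙 V') (f ≫ g) (f ≫ g) (Category.id_comp _) _ _ h1 h2)
    (by
      intro V' f hf x' χ hχ V'' f' x'' κ hκ h'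
      change lft x hfg (f' ≫ f) (κ ≫ χ) h' ≫ (fam (f' ≫ f) _).down = κ ≫ lft x hfg f χ hχ ≫ (fam f hf).down
      rw [hc' f hf f', ← Category.assoc, ← Category.assoc κ]
      congr 1
      have h1 := lft_isHomLift x hfg (f' ≫ f) (κ ≫ χ) h'
      have h2 := lft_isHomLift x hfg f χ hχ
      apply cancel hfg ((xt x).map f) f'
      · exact isHomLift_comp' (𝟙 V'') f' f' (Category.id_comp _) _ _ h1 (xt_isHomLift x f')
      · exact isHomLift_comp' f' (𝟙 V') f' (Category.comp_id _) _ _ hκ h2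
      · rw [Category.assoc, ← Functor.map_comp, lft_comp, Category.assoc, lft_comp])
  have haf : ∀ ⦃T' : Over S⦄ (f : T' ⟶ T) (hf : R f), (xt x).map f ≫ a = (fam f hf).down := by
    intro T' f hf
    rw [hφ f hf _ ((xt x).map f) (xt_isHomLift x f), lft_self, Category.id_comp]
  refine ⟨⟨a⟩, ?_, ?_⟩
  · intro T' f hf
    change (⟨(xt x).map f ≫ a⟩ : ULift _) = fam f hf
    rw [haf f hf]
    rfl
  · rintro ⟨b⟩ hb
    have hbf : ∀ ⦃T' : Over S⦄ (f : T' ⟶ T) (hf : R f), (xt x).map f ≫ b = (fam f hf).down := by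
      intro T' f hf
      have := hb f hf
      rw [← this]
      rfl
    have hbg : bm x b = g := by
      apply (AlgSp.yon S).map_injective
      apply yon_hom_ext_of_cover _ _ R hR
      intro T' t ht
      rw [← Functor.map_comp, ← Functor.map_comp, ← bm_map_comp, hbf t ht, hg t ht]
    have hb' : 𝒳.p.IsHomLift g b := by rw [← hbg]; infer_instance
    congr 1
    apply hsep R hR g b a hb' ha
    intro V' f hf
    exact ⟨(xt x).obj V', (xt x).map f, xt_isHomLift x f, by rw [hbf f hf, haf f hf]⟩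

/-- the sheaf `T ↦ Hom(x_T, y)` -/
noncomputable def isoSh (h𝒳 : Stk.IsStack (AlgSp.J S) 𝒳) (y : 𝒳.obj) : AlgSp.Sp S :=
  ⟨isoPsh x y, (isSheaf_iff_isSheaf_of_type _ _).2 (isoPsh_isSheaf x h𝒳 y)⟩

end Groth.Agent.Lib.helper4.GerbBG
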