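import Mathlib
import Groth.Agent.Lib.Helper4.GerbBG1
import Groth.Agent.Lib.Helper4.Band

/-!
# Points of the sheaf of isomorphisms and the action of the automorphism group (helper4)
-/

set_option backward.isDefEq.respectTransparency false
set_option backward.isDefEq.respectTransparency.types false
set_option autoImplicit false
set_option linter.style.haveILetI false
set_option linter.unusedSectionVars false
set_option linter.unusedVariables false
set_option linter.unusedSimpArgs false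

universe u

open CategoryTheory CategoryTheory.Limits MonoidalCategory CartesianMonoidalCategory MonObj GrpObj AlgebraicGeometry
open AlgSt Opposite

namespace Groth.Agent.Lib.helper4.GerbBG

open Groth.Agent.Lib.helper27.StkElem1 Groth.Agent.Lib.helper4.SpQuot Groth.Agent.Lib.helper4.SpYon

variable {S : Scheme.{u}} {𝒳 : AlgSt.Cat S} (x : FibCat.overCat (Over.mk (𝟙 S)) ⥤ᵇ 𝒳)
  (h𝒳 : Stk.IsStack (AlgSp.J S) 𝒳)

section Points

/-- the point of the sheaf of isomorphisms given by a morphism `x_T ⟶ y` -/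
noncomputable def pt {y : 𝒳.obj} {T : Over S} (m : (xt x).obj T ⟶ y) : (AlgSp.yon S).obj T ⟶ isoSh x h𝒳 y :=
  yEq.symm (⟨m⟩ : ULift.{u + 1} ((xt x).obj T ⟶ y))

/-- the morphism `x_T ⟶ y` given by a point of the sheaf of isomorphisms -/
noncomputable def ofPt {y : 𝒳.obj} {T : Over S} (s : (AlgSp.yon S).obj T ⟶ isoSh x h𝒳 y) : (xt x).obj T ⟶ y :=
  (show ULift.{u + 1} ((xt x).obj T ⟶ y) from yEq s).down

@[simp] theorem ofPt_pt {y : 𝒳.obj} {T : Over S} (m : (xt x).obj T ⟶ y) : ofPt x h𝒳 (pt x h𝒳 m) = m := by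
  unfold ofPt pt
  rw [Equiv.apply_symm_apply]

@[simp] theorem pt_ofPt {y : 𝒳.obj} {T : Over S} (s : (AlgSp.yon S).obj T ⟶ isoSh x h𝒳 y) :
    pt x h𝒳 (ofPt x h𝒳 s) = s := by
  unfold ofPt pt
  exact Equiv.symm_apply_apply _ _

theorem pt_injective {y : 𝒳.obj} {T : Over S} {m m' : (xt x).obj T ⟶ y} (h : pt x h𝒳 m = pt x h𝒳 m') : m = m' := by
  rw [← ofPt_pt x h𝒳 m, h, ofPt_pt]

theorem map_pt {y : 𝒳.obj} {T' T : Over S} (k : T' ⟶ T) (m : (xt x).obj T ⟶ y) :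
    (AlgSp.yon S).map k ≫ pt x h𝒳 m = pt x h𝒳 ((xt x).map k ≫ m) := by
  apply yEq.injective
  rw [yEq_map_comp]
  unfold pt
  rw [Equiv.apply_symm_apply, Equiv.apply_symm_apply]
  rfl

theorem ofPt_map {y : 𝒳.obj} {T' T : Over S} (k : T' ⟶ T) (s : (AlgSp.yon S).obj T ⟶ isoSh x h𝒳 y) :
    ofPt x h𝒳 ((AlgSp.yon S).map k ≫ s) = (xt x).map k ≫ ofPt x h𝒳 s := by
  conv_lhs => rw [← pt_ofPt x h𝒳 s, map_pt, ofPt_pt]

end Points

section Maps

/-- the structure map of the sheaf of isomorphisms -/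
noncomputable def isoπ (y : 𝒳.obj) : isoSh x h𝒳 y ⟶ (AlgSp.yon S).obj (𝒳.p.obj y) :=
  homOfYon (fun T s => (AlgSp.yon S).map (bm x (ofPt x h𝒳 s))) (by
    intro T' T k s
    rw [← Functor.map_comp, ofPt_map, bm_map_comp])

theorem pt_isoπ {y : 𝒳.obj} {T : Over S} (m : (xt x).obj T ⟶ y) :
    pt x h𝒳 m ≫ isoπ x h𝒳 y = (AlgSp.yon S).map (bm x m) := by
  unfold isoπ
  rw [comp_homOfYon, ofPt_pt]

/-- functoriality of the sheaf of isomorphisms in the target -/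
noncomputable def isoMap {y y' : 𝒳.obj} (a : y ⟶ y') : isoSh x h𝒳 y ⟶ isoSh x h𝒳 y' :=
  homOfYon (fun T s => pt x h𝒳 (ofPt x h𝒳 s ≫ a)) (by
    intro T' T k s
    rw [map_pt, ofPt_map, Category.assoc])

theorem pt_isoMap {y y' : 𝒳.obj} (a : y ⟶ y') {T : Over S} (m : (xt x).obj T ⟶ y) :
    pt x h𝒳 m ≫ isoMap x h𝒳 a = pt x h𝒳 (m ≫ a) := by
  unfold isoMap
  rw [comp_homOfYon, ofPt_pt]

theorem hom_ext_pt {y : 𝒳.obj} {F : AlgSp.Sp S} (l l' : isoSh x h𝒳 y ⟶ F)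
    (h : ∀ (T : Over S) (m : (xt x).obj T ⟶ y), pt x h𝒳 m ≫ l = pt x h𝒳 m ≫ l') : l = l' := by
  apply hom_ext_yon
  intro T s
  rw [← pt_ofPt x h𝒳 s]
  exact h T _

theorem isoMap_id (y : 𝒳.obj) : isoMap x h𝒳 (𝟙 y) = 𝟙 _ := by
  apply hom_ext_pt
  intro T m
  rw [pt_isoMap, Category.comp_id, Category.comp_id]

theorem isoMap_comp {y y' y'' : 𝒳.obj} (a : y ⟶ y') (b : y' ⟶ y'') :
    isoMap x h𝒳 (a ≫ b) = isoMap x h𝒳 a ≫ isoMap x h𝒳 b := by
  apply hom_ext_pt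
  intro T m
  rw [pt_isoMap, ← Category.assoc (pt x h𝒳 m), pt_isoMap, pt_isoMap, Category.assoc]

theorem isoMap_isoπ {y y' : 𝒳.obj} (a : y ⟶ y') :
    isoMap x h𝒳 a ≫ isoπ x h𝒳 y' = isoπ x h𝒳 y ≫ (AlgSp.yon S).map (𝒳.p.map a) := by
  apply hom_ext_pt
  intro T m
  rw [← Category.assoc, pt_isoMap, pt_isoπ, ← Category.assoc, pt_isoπ, ← Functor.map_comp, bm_comp]

end Maps

section Act

variable (G : Over S) [GrpObj G] (r : Gerb.AutRep x (Gerb.ptsGrp (Over.mk (𝟙 S)) G))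

/-- the automorphism of `x_T` attached to a `T`-point of the group -/
noncomputable def aut {T : Over S} (g : T ⟶ G) : Gerb.AutO ((xt x).obj T) := r.iso ((tt S).obj T) g

theorem aut_mul {T : Over S} (g g' : T ⟶ G) : aut x G r (g * g') = aut x G r g * aut x G r g' :=
  map_mul (r.iso ((tt S).obj T)) g g'

theorem aut_one {T : Over S} : aut x G r (1 : T ⟶ G) = 1 :=
  map_one (r.iso ((tt S).obj T))

theorem aut_inv {T : Over S} (g : T ⟶ G) : aut x G r g⁻¹ = (aut x G r g)⁻¹ :=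
  map_inv (r.iso ((tt S).obj T)) g

theorem aut_natural {T' T : Over S} (k : T' ⟶ T) (g : T ⟶ G) :
    (aut x G r (k ≫ g)).hom.1 ≫ (xt x).map k = (xt x).map k ≫ (aut x G r g).hom.1 :=
  r.natural ((tt S).map k) g

theorem aut_hom_inv {T : Over S} (g : T ⟶ G) : (aut x G r g).hom.1 ≫ (aut x G r g⁻¹).hom.1 = 𝟙 _ := by
  rw [aut_inv]
  exact Groth.Agent.Lib.helper4.Band.autO_hom_inv _ _

theorem aut_inv_hom {T : Over S} (g : T ⟶ G) : (aut x G r g⁻¹).hom.1 ≫ (aut x G r g).hom.1 = 𝟙 _ := by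
  rw [aut_inv]
  exact Groth.Agent.Lib.helper4.Band.autO_inv_hom_id _ _

/-- the action of the group on morphisms out of the pullbacks of the global object: `g • m = m ∘ g⁻¹` -/
noncomputable def sact {T : Over S} {y : 𝒳.obj} (g : T ⟶ G) (m : (xt x).obj T ⟶ y) : (xt x).obj T ⟶ y :=
  (aut x G r g⁻¹).hom.1 ≫ m

theorem sact_one {T : Over S} {y : 𝒳.obj} (m : (xt x).obj T ⟶ y) : sact x G r 1 m = m := by
  unfold sact
  rw [inv_one, aut_one]
  exact Category.id_comp m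

theorem sact_mul {T : Over S} {y : 𝒳.obj} (g g' : T ⟶ G) (m : (xt x).obj T ⟶ y) :
    sact x G r (g * g') m = sact x G r g (sact x G r g' m) := by
  unfold sact
  rw [_root_.mul_inv_rev, aut_mul, Groth.Agent.Lib.helper4.Band.autO_mul_hom, Category.assoc]

theorem map_sact {T' T : Over S} {y : 𝒳.obj} (k : T' ⟶ T) (g : T ⟶ G) (m : (xt x).obj T ⟶ y) :
    (xt x).map k ≫ sact x G r g m = sact x G r (k ≫ g) ((xt x).map k ≫ m) := by
  unfold sact
  rw [← Category.assoc, ← aut_natural, Category.assoc, comp_inv]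

theorem sact_comp {T : Over S} {y y' : 𝒳.obj} (g : T ⟶ G) (m : (xt x).obj T ⟶ y) (a : y ⟶ y') :
    sact x G r g m ≫ a = sact x G r g (m ≫ a) :=
  Category.assoc _ _ _

theorem isHomLift_aut {T : Over S} (g : T ⟶ G) : 𝒳.p.IsHomLift (𝟙 T) (aut x G r g).hom.1 := by
  have h : 𝒳.p.IsHomLift (𝟙 (𝒳.p.obj ((xt x).obj T))) (aut x G r g).hom.1 := (aut x G r g).hom.2
  exact Groth.Agent.FibEquiv.isHomLift_of_eq 𝒳.p (p_xt x T) _

theorem bm_sact {T : Over S} {y : 𝒳.obj} (g : T ⟶ G) (m : (xt x).obj T ⟶ y) :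
    bm x (sact x G r g m) = bm x m := by
  have := isHomLift_aut x G r g⁻¹
  have h : 𝒳.p.IsHomLift (𝟙 T ≫ bm x m) (sact x G r g m) := by
    unfold sact
    infer_instance
  rw [Category.id_comp] at h
  exact bm_eq x _ _

/-- transitivity of the action on morphisms with the same morphism of bases -/
theorem exists_sact (hfg : FibCat.IsFibGrpd 𝒳.p) {T : Over S} {y : 𝒳.obj} (m m' : (xt x).obj T ⟶ y)
    (h : bm x m = bm x m') : ∃ g : T ⟶ G, sact x G r g m' = m := by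
  have hm : 𝒳.p.IsHomLift (bm x m') m := by rw [← h]; infer_instance
  obtain ⟨κ, hκ, e⟩ := Groth.Agent.Lib.helper4.Descent.exists_factor hfg (bm x m') m' (𝟙 T) (bm x m')
    (Category.id_comp _).symm m
  have hκ' : 𝒳.p.IsHomLift (𝟙 (𝒳.p.obj ((xt x).obj T))) κ :=
    Groth.Agent.FibEquiv.isHomLift_of_eq 𝒳.p (p_xt x T).symm _
  let α : Gerb.AutO ((xt x).obj T) := Groth.Agent.Lib.helper4.GerbLocal.mkAutO hfg _ κ hκ'
  refine ⟨((r.iso ((tt S).obj T)).symm α)⁻¹, ?_⟩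
  unfold sact aut
  rw [_root_.inv_inv, MulEquiv.apply_symm_apply]
  exact e

/-- freeness of the action -/
theorem sact_cancel (hfg : FibCat.IsFibGrpd 𝒳.p) {T : Over S} {y : 𝒳.obj} (g g' : T ⟶ G) (m : (xt x).obj T ⟶ y)
    (h : sact x G r g m = sact x G r g' m) : g = g' := by
  have h1 := isHomLift_aut x G r g⁻¹
  have h2 := isHomLift_aut x G r g'⁻¹
  have h3 : (aut x G r g⁻¹).hom.1 = (aut x G r g'⁻¹).hom.1 :=
    Groth.Agent.Lib.helper4.Descent.cancel_right hfg m (𝟙 T) _ _ h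
  have h4 : aut x G r g⁻¹ = aut x G r g'⁻¹ := Groth.Agent.Lib.helper4.Band.autO_ext _ _ _ h3
  have h5 : g⁻¹ = g'⁻¹ := (r.iso ((tt S).obj T)).injective h4
  exact inv_injective h5

end Act


end Groth.Agent.Lib.helper4.GerbBG
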