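import Mathlib
import Groth.Agent.Lib.Helper4.GerbBG2

/-!
# The torsor of isomorphisms from the pullbacks of a global object (helper4)
-/

set_option backward.isDefEq.respectTransparency false
set_option backward.isDefEq.respectTransparency.types false
set_option autoImplicit false
set_option linter.style.haveILetI false
set_option linter.unusedSectionVars false
set_option linter.unusedVariables false
set_option linter.unusedSimpArgs false

universe u

open CategoryTheory CategoryTheory.Limits MonoidalCategory CartesianMonoidalCategory MonObj GrpObj AlgebraicGeometry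
open AlgSt Opposite

namespace Groth.Agent.Lib.helper4.GerbBG

open Groth.Agent.Lib.helper27.StkElem1 Groth.Agent.Lib.helper4.SpQuot Groth.Agent.Lib.helper4.SpYon
open Groth.Agent.Lib.helper4.QuotCmp

variable {S : Scheme.{u}} {𝒳 : AlgSt.Cat S} (x : FibCat.overCat (Over.mk (𝟙 S)) ⥤ᵇ 𝒳)
  (h𝒳 : Stk.IsStack (AlgSp.J S) 𝒳)

/-- any two maps to the sheaf of the terminal `S`-scheme agree -/
theorem hom_B₀_ext {F : AlgSp.Sp S} (a b : F ⟶ B₀ S) : a = b := by
  apply hom_ext_yon
  intro T s
  rw [hom_B₀_eq (s ≫ a), hom_B₀_eq (s ≫ b)]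

/-- morphisms of sheaves as morphisms over the terminal representable sheaf -/
noncomputable def ovHom {A A' : Over (B₀ S)} (f : A.left ⟶ A'.left) : A ⟶ A' :=
  Over.homMk f (hom_B₀_ext _ _)

@[simp] theorem ovHom_left {A A' : Over (B₀ S)} (f : A.left ⟶ A'.left) : (ovHom f).left = f := rfl

theorem ovHom_comp {A A' A'' : Over (B₀ S)} (f : A.left ⟶ A'.left) (g : A'.left ⟶ A''.left) :
    ovHom (f ≫ g) = (ovHom f : A ⟶ A') ≫ (ovHom g : A' ⟶ A'') := by
  apply Over.OverMorphism.ext
  rfl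

theorem ovHom_eq {A A' : Over (B₀ S)} (f : A ⟶ A') : ovHom f.left = f := by
  apply Over.OverMorphism.ext
  rfl

/-- morphisms over the terminal representable sheaf agree when they agree on points from schemes -/
theorem hom_ext_Y {A A' : Over (B₀ S)} (f f' : A ⟶ A')
    (h : ∀ (T : Over S) (s : (Y S).obj T ⟶ A), s ≫ f = s ≫ f') : f = f' := by
  apply Over.OverMorphism.ext
  apply hom_ext_yon
  intro T s
  have := h T (ovHom s)
  exact congrArg (fun k => k.left) this

/-- every point from a scheme of the sheaf of a scheme is the image of a morphism of schemes -/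
theorem exists_Y_map {T G : Over S} (a : (Y S).obj T ⟶ (Y S).obj G) : ∃ g : T ⟶ G, (Y S).map g = a :=
  (Y S).map_surjective a

/-- the sheaf of isomorphisms as an object over the terminal representable sheaf -/
noncomputable def Pob (y : 𝒳.obj) : Over (B₀ S) := Over.mk (isoπ x h𝒳 y ≫ (AlgSp.yon S).map (toUnit (𝒳.p.obj y)))

/-- points of the torsor -/
noncomputable def pB {y : 𝒳.obj} {T : Over S} (m : (xt x).obj T ⟶ y) : (Y S).obj T ⟶ Pob x h𝒳 y :=
  ovHom (pt x h𝒳 m)

theorem exists_pB {y : 𝒳.obj} {T : Over S} (p : (Y S).obj T ⟶ Pob x h𝒳 y) : ∃ m, pB x h𝒳 m = p := by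
  refine ⟨ofPt x h𝒳 p.left, ?_⟩
  apply Over.OverMorphism.ext
  exact pt_ofPt x h𝒳 p.left

theorem pB_injective {y : 𝒳.obj} {T : Over S} {m m' : (xt x).obj T ⟶ y} (h : pB x h𝒳 m = pB x h𝒳 m') : m = m' :=
  pt_injective x h𝒳 (congrArg (fun k => k.left) h)

theorem map_pB {y : 𝒳.obj} {T' T : Over S} (k : T' ⟶ T) (m : (xt x).obj T ⟶ y) :
    (Y S).map k ≫ pB x h𝒳 m = pB x h𝒳 ((xt x).map k ≫ m) := by
  apply Over.OverMorphism.ext
  exact map_pt x h𝒳 k m

section Act

variable (G : Over S) [GrpObj G] (r : Gerb.AutRep x (Gerb.ptsGrp (Over.mk (𝟙 S)) G))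

/-- the point of the group scheme under a point of its sheaf -/
noncomputable def gOf {T : Over S} (q : (AlgSp.yon S).obj T ⟶ (AlgSp.yon S).obj G) : T ⟶ G :=
  (AlgSp.yon S).preimage q

theorem gOf_map {T : Over S} (g : T ⟶ G) : gOf G ((AlgSp.yon S).map g) = g :=
  (AlgSp.yon S).map_injective (Functor.map_preimage _ _)

theorem map_gOf {T' T : Over S} (k : T' ⟶ T) (q : (AlgSp.yon S).obj T ⟶ (AlgSp.yon S).obj G) :
    gOf G ((AlgSp.yon S).map k ≫ q) = k ≫ gOf G q := by
  apply (AlgSp.yon S).map_injective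
  unfold gOf
  rw [Functor.map_preimage, Functor.map_comp, Functor.map_preimage]

/-- the action morphism on the underlying sheaves -/
noncomputable def actL (y : 𝒳.obj) : ((Y S).obj G ⊗ Pob x h𝒳 y).left ⟶ (Pob x h𝒳 y).left :=
  homOfYon (fun T s => pt x h𝒳 (sact x G r (gOf G (s ≫ (fst ((Y S).obj G) (Pob x h𝒳 y)).left))
      (ofPt x h𝒳 (s ≫ (snd ((Y S).obj G) (Pob x h𝒳 y)).left)))) (by
    intro T' T k s
    rw [map_pt, map_sact, Category.assoc, Category.assoc, map_gOf, ofPt_map])

/-- the action morphism -/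
noncomputable def actH (y : 𝒳.obj) : (Y S).obj G ⊗ Pob x h𝒳 y ⟶ Pob x h𝒳 y := ovHom (actL x h𝒳 G r y)

theorem lift_actH {y : 𝒳.obj} {T : Over S} (g : T ⟶ G) (m : (xt x).obj T ⟶ y) :
    lift ((Y S).map g) (pB x h𝒳 m) ≫ actH x h𝒳 G r y = pB x h𝒳 (sact x G r g m) := by
  apply Over.OverMorphism.ext
  change (lift ((Y S).map g) (pB x h𝒳 m)).left ≫ actL x h𝒳 G r y = pt x h𝒳 _
  unfold actL
  rw [comp_homOfYon]
  have h1 : (lift ((Y S).map g) (pB x h𝒳 m)).left ≫ (fst ((Y S).obj G) (Pob x h𝒳 y)).left =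
      (AlgSp.yon S).map g := by
    rw [← Over.comp_left, lift_fst]
    rfl
  have h2 : (lift ((Y S).map g) (pB x h𝒳 m)).left ≫ (snd ((Y S).obj G) (Pob x h𝒳 y)).left = pt x h𝒳 m := by
    rw [← Over.comp_left, lift_snd]
    rfl
  rw [h1, h2, gOf_map, ofPt_pt]

/-- the decomposition of a point of `G ×_B P` -/
theorem exists_lift_eq {y : 𝒳.obj} {T : Over S} (s : (Y S).obj T ⟶ (Y S).obj G ⊗ Pob x h𝒳 y) :
    ∃ (g : T ⟶ G) (m : (xt x).obj T ⟶ y), s = lift ((Y S).map g) (pB x h𝒳 m) := by
  obtain ⟨g, hg⟩ := exists_Y_map (s ≫ fst _ _)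
  obtain ⟨m, hm⟩ := exists_pB x h𝒳 (s ≫ snd _ _)
  refine ⟨g, m, ?_⟩
  apply CartesianMonoidalCategory.hom_ext
  · rw [lift_fst, hg]
  · rw [lift_snd, hm]

/-- the action of the group sheaf on the sheaf of isomorphisms -/
noncomputable def gact (y : 𝒳.obj) : AlgSp.GAction ((Y S).obj G) (Pob x h𝒳 y) where
  act := actH x h𝒳 G r y
  one_act := by
    apply hom_ext_Y
    intro T s
    obtain ⟨m, hm⟩ := exists_pB x h𝒳 (s ≫ snd _ _)
    have hs : s ≫ (η[(Y S).obj G] ▷ Pob x h𝒳 y) = lift ((Y S).map (1 : T ⟶ G)) (pB x h𝒳 m) := by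
      apply CartesianMonoidalCategory.hom_ext
      · rw [Category.assoc, whiskerRight_fst, lift_fst, Functor.map_one, Hom.one_def]
        rw [← Category.assoc]
        congr 1
        exact toUnit_unique _ _
      · rw [Category.assoc, whiskerRight_snd, lift_snd, hm]
    rw [← Category.assoc, hs, lift_actH, sact_one, leftUnitor_hom, hm]
  mul_act := by
    apply hom_ext_Y
    intro T s
    obtain ⟨g₁, hg₁⟩ := exists_Y_map (s ≫ fst _ _ ≫ fst _ _)
    obtain ⟨g₂, hg₂⟩ := exists_Y_map (s ≫ fst _ _ ≫ snd _ _)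
    obtain ⟨m, hm⟩ := exists_pB x h𝒳 (s ≫ snd _ _)
    have hs : s ≫ (μ[(Y S).obj G] ▷ Pob x h𝒳 y) = lift ((Y S).map (g₁ * g₂)) (pB x h𝒳 m) := by
      apply CartesianMonoidalCategory.hom_ext
      · rw [Category.assoc, whiskerRight_fst, lift_fst, Functor.map_mul, Hom.mul_def, hg₁, hg₂, ← Category.assoc]
        congr 1
        apply CartesianMonoidalCategory.hom_ext
        · simp only [lift_fst, Category.assoc]
        · simp only [lift_snd, Category.assoc]
      · rw [Category.assoc, whiskerRight_snd, lift_snd, hm]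
    have hs' : s ≫ (α_ ((Y S).obj G) ((Y S).obj G) (Pob x h𝒳 y)).hom ≫ ((Y S).obj G ◁ actH x h𝒳 G r y) =
        lift ((Y S).map g₁) (pB x h𝒳 (sact x G r g₂ m)) := by
      apply CartesianMonoidalCategory.hom_ext
      · rw [Category.assoc, Category.assoc, whiskerLeft_fst, associator_hom_fst, lift_fst, hg₁]
      · rw [Category.assoc, Category.assoc, whiskerLeft_snd, lift_snd, ← lift_actH, ← Category.assoc,
          ← Category.assoc]
        congr 1
        apply CartesianMonoidalCategory.hom_ext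
        · simp only [lift_fst, Category.assoc, associator_hom_snd_fst, hg₂]
        · simp only [lift_snd, Category.assoc, associator_hom_snd_snd, hm]
    rw [← Category.assoc, hs, lift_actH, ← Category.assoc, ← Category.assoc, Category.assoc s, hs', lift_actH, sact_mul]

end Act

end Groth.Agent.Lib.helper4.GerbBG
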