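import Mathlib
import Groth.Agent.Lib.Helper4.GerbBG3
import Groth.Agent.Lib.Helper4.QuotGeom1

/-!
# The torsor of isomorphisms from the pullbacks of a global object: the object of the classifying stack (helper4)
-/

set_option backward.isDefEq.respectTransparency false
set_option backward.isDefEq.respectTransparency.types false
set_option autoImplicit false
set_option linter.style.haveILetI false
set_option linter.unusedSectionVars false
set_option linter.unusedVariables false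
set_option linter.unusedSimpArgs false

universe u

open CategoryTheory CategoryTheory.Limits MonoidalCategory CartesianMonoidalCategory MonObj GrpObj AlgebraicGeometry
open AlgSt Opposite

namespace Groth.Agent.Lib.helper4.GerbBG

open Groth.Agent.Lib.helper27.StkElem1 Groth.Agent.Lib.helper4.SpQuot Groth.Agent.Lib.helper4.SpYon
open Groth.Agent.Lib.helper4.QuotCmp

variable {S : Scheme.{u}} {𝒳 : AlgSt.Cat S} (x : FibCat.overCat (Over.mk (𝟙 S)) ⥤ᵇ 𝒳)
  (h𝒳 : Stk.IsStack (AlgSp.J S) 𝒳)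
  (G : Over S) [GrpObj G] (r : Gerb.AutRep x (Gerb.ptsGrp (Over.mk (𝟙 S)) G))

/-- the structure map of the torsor -/
noncomputable def πH (y : 𝒳.obj) : Pob x h𝒳 y ⟶ (Y S).obj (𝒳.p.obj y) := Over.homMk (isoπ x h𝒳 y) rfl

theorem pB_πH {y : 𝒳.obj} {T : Over S} (m : (xt x).obj T ⟶ y) :
    pB x h𝒳 m ≫ πH x h𝒳 y = (Y S).map (bm x m) := by
  apply Over.OverMorphism.ext
  exact pt_isoπ x h𝒳 m

theorem actH_πH (y : 𝒳.obj) :
    actH x h𝒳 G r y ≫ πH x h𝒳 y = snd ((Y S).obj G) (Pob x h𝒳 y) ≫ πH x h𝒳 y := by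
  apply hom_ext_Y
  intro T s
  obtain ⟨g, m, rfl⟩ := exists_lift_eq x h𝒳 G s
  rw [← Category.assoc, lift_actH, pB_πH, ← Category.assoc, lift_snd, pB_πH, bm_sact]

theorem cartH (y : 𝒳.obj) :
    IsPullback (actH x h𝒳 G r y) (snd ((Y S).obj G) (Pob x h𝒳 y)) (πH x h𝒳 y) (πH x h𝒳 y) := by
  refine IsPullback.of_map (Over.forget (B₀ S)) (actH_πH x h𝒳 G r y) ?_
  change IsPullback (actH x h𝒳 G r y).left (snd ((Y S).obj G) (Pob x h𝒳 y)).left (isoπ x h𝒳 y) (isoπ x h𝒳 y)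
  have hw : (actH x h𝒳 G r y).left ≫ isoπ x h𝒳 y =
      (snd ((Y S).obj G) (Pob x h𝒳 y)).left ≫ isoπ x h𝒳 y :=
    congrArg (fun k => k.left) (actH_πH x h𝒳 G r y)
  refine isPullback_of_yon hw ?_ ?_
  · intro T a b hab
    rw [← pt_ofPt x h𝒳 a, ← pt_ofPt x h𝒳 b, pt_isoπ, pt_isoπ] at hab
    have hbm := (AlgSp.yon S).map_injective hab
    obtain ⟨g, hg⟩ := exists_sact x G r h𝒳.1 _ _ hbm
    refine ⟨(lift ((Y S).map g) (pB x h𝒳 (ofPt x h𝒳 b))).left, ?_, ?_⟩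
    · have := congrArg (fun k => k.left) (lift_actH x h𝒳 G r g (ofPt x h𝒳 b))
      refine this.trans ?_
      change pt x h𝒳 _ = a
      rw [hg, pt_ofPt]
    · have := congrArg (fun k => k.left) (lift_snd ((Y S).map g) (pB x h𝒳 (ofPt x h𝒳 b)))
      refine this.trans ?_
      exact pt_ofPt x h𝒳 b
  · intro T l l' h1 h2
    obtain ⟨g, m, hl⟩ := exists_lift_eq x h𝒳 G (ovHom l : (Y S).obj T ⟶ _)
    obtain ⟨g', m', hl'⟩ := exists_lift_eq x h𝒳 G (ovHom l' : (Y S).obj T ⟶ _)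
    have e2 : (ovHom l : (Y S).obj T ⟶ _) ≫ snd ((Y S).obj G) (Pob x h𝒳 y) = ovHom l' ≫ snd _ _ := by
      apply Over.OverMorphism.ext
      exact h2
    have e1 : (ovHom l : (Y S).obj T ⟶ _) ≫ actH x h𝒳 G r y = ovHom l' ≫ actH x h𝒳 G r y := by
      apply Over.OverMorphism.ext
      exact h1
    rw [hl, hl', lift_snd, lift_snd] at e2
    have hm : m = m' := pB_injective x h𝒳 e2
    subst hm
    rw [hl, hl', lift_actH, lift_actH] at e1
    have hg : g = g' := sact_cancel x G r h𝒳.1 g g' m (pB_injective x h𝒳 e1)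
    subst hg
    have := hl.trans hl'.symm
    exact congrArg (fun k => k.left) this

/-- the global object -/
def x₀ : 𝒳.obj := (xt x).obj (Over.mk (𝟙 S))

theorem hterm (U : Over S) : Nonempty (U ⟶ 𝒳.p.obj (x₀ x)) := by
  unfold x₀
  rw [p_xt]
  exact ⟨Over.mkIdTerminal.from U⟩

/-- an object with a morphism to the global object is a pullback of it -/
theorem exists_iso_xt (hfg : FibCat.IsFibGrpd 𝒳.p) {y' : 𝒳.obj} (c : y' ⟶ x₀ x) {V : Over S} (hV : 𝒳.p.obj y' = V) :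
    ∃ κ : (xt x).obj V ⟶ y', 𝒳.p.IsHomLift (𝟙 V) κ ∧ IsIso κ := by
  subst hV
  let t : 𝒳.p.obj y' ⟶ Over.mk (𝟙 S) := Over.mkIdTerminal.from _
  have hc : 𝒳.p.IsHomLift t c := by
    apply IsHomLift.of_fac' 𝒳.p _ _ rfl (p_xt x (Over.mk (𝟙 S)))
    have key : ∀ (Z : Over S) (e : Z = Over.mk (𝟙 S)) (a b : 𝒳.p.obj y' ⟶ Z), a = b := by
      intro Z e
      subst e
      intro a b
      exact (Over.mkIdTerminal (X := S)).hom_ext a b
    exact key _ (p_xt x (Over.mk (𝟙 S))) _ _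
  obtain ⟨κ, hκ, -⟩ := Groth.Agent.Lib.helper4.Descent.exists_factor hfg t ((xt x).map t) (𝟙 _) t
    (Category.id_comp _).symm c
  haveI := Groth.Agent.Lib.helper4.Descent.isIso_of_lift hfg (𝟙 (𝒳.p.obj y')) κ
  refine ⟨inv κ, ?_, inferInstance⟩
  exact IsHomLift.lift_id_inv_isIso 𝒳.p _ κ

/-- the sieve of the maps to the base of `y` along which `y` becomes isomorphic to a pullback of the global object -/
def secS (y : 𝒳.obj) : Sieve (𝒳.p.obj y) where
  arrows V f := ∃ m : (xt x).obj V ⟶ y, bm x m = f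
  downward_closed := by
    rintro V W f ⟨m, rfl⟩ k
    exact ⟨(xt x).map k ≫ m, bm_map_comp x k m⟩

theorem secS_mem (hg : Gerb.IsGerbe (AlgSp.J S) 𝒳) (y : 𝒳.obj) : secS x y ∈ (AlgSp.J S) (𝒳.p.obj y) := by
  refine (AlgSp.J S).superset_covering ?_
    (Groth.Agent.Lib.helper4.GerbLocal.sieveP_mem (AlgSp.J S) hg (x₀ x) (hterm x) y)
  rintro V f ⟨y', χ, c, hχ⟩
  have hV : 𝒳.p.obj y' = V := IsHomLift.domain_eq 𝒳.p f χ
  obtain ⟨κ, hκ, -⟩ := exists_iso_xt x hg.1.1 c hV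
  have h : 𝒳.p.IsHomLift (𝟙 V ≫ f) (κ ≫ χ) := inferInstance
  rw [Category.id_comp] at h
  exact ⟨κ ≫ χ, bm_eq x _ _⟩

theorem locH (hg : Gerb.IsGerbe (AlgSp.J S) 𝒳) (y : 𝒳.obj) :
    HasSecLoc (T := 𝒳.p.obj y) Scheme.fppfPrecoverage (isoπ x h𝒳 y) := by
  obtain ⟨R', hR', h⟩ := Groth.Agent.Lib.Helper4.QuotGeom.exists_presieve_of_mem_J (secS x y) (secS_mem x hg y)
  refine ⟨R', hR', ?_⟩
  intro T' f hf
  obtain ⟨m, hm⟩ := h f hf
  exact ⟨pt x h𝒳 m, by rw [pt_isoπ, hm]⟩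

/-- the torsor of isomorphisms from the pullbacks of the global object to `y` -/
noncomputable def Φobj (hg : Gerb.IsGerbe (AlgSp.J S) 𝒳) (y : 𝒳.obj) :
    SpQuotObj Scheme.fppfPrecoverage ((Y S).obj G) (mapAction (trivAction G)) where
  base := 𝒳.p.obj y
  b := (AlgSp.yon S).map (toUnit (𝒳.p.obj y))
  P := Pob x h𝒳 y
  act := gact x h𝒳 G r y
  π := πH x h𝒳 y
  cart := cartH x h𝒳 G r y
  loc := locH x h𝒳 hg y
  φ := isTerminalYUnit.from _
  eqv := isTerminalYUnit.hom_ext _ _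

end Groth.Agent.Lib.helper4.GerbBG
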