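import Mathlib
import Groth.Agent.Lib.Helper4.GerbBG4

/-!
# The functor from a gerbe with a global object to the classifying stack of its automorphism group (helper4)
-/

set_option backward.isDefEq.respectTransparency false
set_option backward.isDefEq.respectTransparency.types false
set_option autoImplicit false
set_option linter.style.haveILetI false
set_option linter.unusedSectionVars false
set_option linter.unusedVariables false
set_option linter.unusedSimpArgs false

universe u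

open CategoryTheory CategoryTheory.Limits MonoidalCategory CartesianMonoidalCategory MonObj GrpObj AlgebraicGeometry
open AlgSt Opposite

namespace Groth.Agent.Lib.helper4.GerbBG

open Groth.Agent.Lib.helper27.StkElem1 Groth.Agent.Lib.helper4.SpQuot Groth.Agent.Lib.helper4.SpYon
open Groth.Agent.Lib.helper4.QuotCmp

variable {S : Scheme.{u}} {𝒳 : AlgSt.Cat S} (x : FibCat.overCat (Over.mk (𝟙 S)) ⥤ᵇ 𝒳)
  (h𝒳 : Stk.IsStack (AlgSp.J S) 𝒳)
  (G : Over S) [GrpObj G] (r : Gerb.AutRep x (Gerb.ptsGrp (Over.mk (𝟙 S)) G))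
  (hg : Gerb.IsGerbe (AlgSp.J S) 𝒳)

/-- the map of torsors induced by a morphism -/
noncomputable def topH {y y' : 𝒳.obj} (a : y ⟶ y') : Pob x h𝒳 y ⟶ Pob x h𝒳 y' := ovHom (isoMap x h𝒳 a)

theorem pB_topH {y y' : 𝒳.obj} (a : y ⟶ y') {T : Over S} (m : (xt x).obj T ⟶ y) :
    pB x h𝒳 m ≫ topH x h𝒳 a = pB x h𝒳 (m ≫ a) := by
  apply Over.OverMorphism.ext
  exact pt_isoMap x h𝒳 a m

theorem topH_eqv {y y' : 𝒳.obj} (a : y ⟶ y') :
    actH x h𝒳 G r y ≫ topH x h𝒳 a = ((Y S).obj G ◁ topH x h𝒳 a) ≫ actH x h𝒳 G r y' := by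
  apply hom_ext_Y
  intro T s
  obtain ⟨g, m, rfl⟩ := exists_lift_eq x h𝒳 G s
  have h1 : lift ((Y S).map g) (pB x h𝒳 m) ≫ ((Y S).obj G ◁ topH x h𝒳 a) =
      lift ((Y S).map g) (pB x h𝒳 (m ≫ a)) := by
    apply CartesianMonoidalCategory.hom_ext
    · simp only [Category.assoc, whiskerLeft_fst, lift_fst]
    · simp only [Category.assoc, whiskerLeft_snd, lift_snd, lift_snd_assoc, pB_topH]
  rw [← Category.assoc, lift_actH, pB_topH, ← Category.assoc, h1, lift_actH, sact_comp]

theorem wbH {y y' : 𝒳.obj} (a : y ⟶ y') :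
    (AlgSp.yon S).map (𝒳.p.map a) ≫ (AlgSp.yon S).map (toUnit (𝒳.p.obj y')) =
      (AlgSp.yon S).map (toUnit (𝒳.p.obj y)) := by
  rw [← Functor.map_comp]
  congr 1
  exact toUnit_unique _ _

/-- the morphism of torsors induced by a morphism -/
noncomputable def Φmap {y y' : 𝒳.obj} (a : y ⟶ y') : Φobj x h𝒳 G r hg y ⟶ Φobj x h𝒳 G r hg y' where
  base := 𝒳.p.map a
  wb := wbH a
  top := topH x h𝒳 a
  eqv := topH_eqv x h𝒳 G r a
  cart := cart_of_eqv (A := Φobj x h𝒳 G r hg y) (A' := Φobj x h𝒳 G r hg y') (𝒳.p.map a) (wbH a) (topH x h𝒳 a)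
    (topH_eqv x h𝒳 G r a) (by
      apply Over.OverMorphism.ext
      exact isoMap_isoπ x h𝒳 a)
  wφ := isTerminalYUnit.hom_ext _ _

/-- the functor from the gerbe to the classifying stack of sheaf torsors -/
noncomputable def Φ : 𝒳 ⥤ᵇ SpQuotSt Scheme.fppfPrecoverage ((Y S).obj G) (mapAction (trivAction G)) where
  toFunctor :=
    { obj := Φobj x h𝒳 G r hg
      map := fun a => Φmap x h𝒳 G r hg a
      map_id := fun y => by
        apply SpQuotObj.hom_ext
        · exact 𝒳.p.map_id y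
        · change topH x h𝒳 (𝟙 y) = 𝟙 _
          apply Over.OverMorphism.ext
          exact isoMap_id x h𝒳 y
      map_comp := fun a b => by
        apply SpQuotObj.hom_ext
        · exact 𝒳.p.map_comp a b
        · change topH x h𝒳 (a ≫ b) = topH x h𝒳 a ≫ topH x h𝒳 b
          apply Over.OverMorphism.ext
          exact isoMap_comp x h𝒳 a b }
  w := rfl

end Groth.Agent.Lib.helper4.GerbBG
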