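import Groth.Agent.Lib.Helper4.GerbLocal
set_option autoImplicit false
set_option backward.isDefEq.respectTransparency false
set_option backward.isDefEq.respectTransparency.types false
set_option linter.unusedSectionVars false
set_option linter.style.haveILetI false
open CategoryTheory CategoryTheory.Functor CategoryTheory.Limits
universe v₄ u₄ v₃ u₃ v₂ u₂ v u

/-! Functors out of a gerbe with a global object: faithful / full from injectivity / surjectivity on the automorphism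
groups of the pullbacks of the global object; local essential surjectivity between gerbes. -/

namespace Groth.Agent.Lib.helper4.GerbFF
open Groth.Agent.FibEquiv Groth.Agent.FibFiberwise Groth.Agent.FibFpProj Groth.Agent.FibYoneda
open Groth.Agent.Lib.helper4.Descent Groth.Agent.Lib.helper4.GerbLocal

variable {C : Type u} [Category.{v} C] (J : GrothendieckTopology C) {𝒳 : BasedCategory.{v₂, u₂} C}
  {𝒴 : BasedCategory.{v₃, u₃} C}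

theorem mem_map_of_mem {y' y : 𝒳.obj} (R : Sieve (𝒳.p.obj y)) {V : C} (f : V ⟶ 𝒳.p.obj y) (hf : R f) (χ : y' ⟶ y)
    [𝒳.p.IsHomLift f χ] : R (𝒳.p.map χ) := by
  have hV : 𝒳.p.obj y' = V := IsHomLift.domain_eq 𝒳.p f χ
  subst hV
  have : 𝒳.p.map χ = f := by simpa using IsHomLift.fac' 𝒳.p f χ
  rwa [this]

theorem map_base_eq (φ : 𝒳 ⥤ᵇ 𝒴) {y₁ y₂ : 𝒳.obj} (a₁ a₂ : y₁ ⟶ y₂) (h : φ.map a₁ = φ.map a₂) :
    𝒳.p.map a₁ = 𝒳.p.map a₂ := by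
  have e1 := Functor.congr_hom φ.w.symm a₁
  have e2 := Functor.congr_hom φ.w.symm a₂
  simp only [Functor.comp_map] at e1 e2
  rw [e1, e2, h]

/-- faithful from injectivity on automorphism groups of the pullbacks of the global object -/
theorem faithful_of_injective (h𝒳 : Gerb.IsGerbe J 𝒳) (h𝒴 : FibCat.IsFibGrpd 𝒴.p) (φ : 𝒳 ⥤ᵇ 𝒴) (x : 𝒳.obj)
    (hne : ∀ U : C, Nonempty (U ⟶ 𝒳.p.obj x))
    (hinj : ∀ y' : 𝒳.obj, Nonempty (y' ⟶ x) → Function.Injective (Gerb.autMap φ y')) :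
    φ.toFunctor.Faithful := by
  have hfg : FibCat.IsFibGrpd 𝒳.p := h𝒳.1.1
  constructor
  intro y₁ y₂ a₁ a₂ h12
  have hb := map_base_eq φ a₁ a₂ h12
  have ha₁ : 𝒳.p.IsHomLift (𝒳.p.map a₂) a₁ := by rw [← hb]; infer_instance
  obtain ⟨c, hc, hca⟩ := exists_factor hfg (𝒳.p.map a₂) a₂ (𝟙 _) (𝒳.p.map a₂) (by simp) a₁
  suffices hc1 : c = 𝟙 y₁ by rw [← hca, hc1, Category.id_comp]
  have hφc : φ.map c = 𝟙 (φ.obj y₁) := by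
    have h1 : 𝒴.p.IsHomLift (𝟙 (𝒳.p.obj y₁)) (φ.map c) := inferInstance
    have h2 : 𝒴.p.IsHomLift (𝟙 (𝒳.p.obj y₁)) (𝟙 (φ.obj y₁)) := IsHomLift.id (φ.w_obj y₁)
    apply cancel_right h𝒴 (φ.map a₂) (𝟙 (𝒳.p.obj y₁))
    rw [← φ.toFunctor.map_comp, hca, Category.id_comp]
    exact h12
  have h3 : 𝒳.p.IsHomLift (𝟙 (𝒳.p.obj y₁)) (𝟙 y₁) := IsHomLift.id rfl
  apply sepJ J hfg (faithful_of_isStack J h𝒳.1) c (𝟙 y₁) (𝟙 (𝒳.p.obj y₁)) (sieveP hfg x y₁)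
    (sieveP_mem J h𝒳 x hne y₁)
  rintro V f ⟨y', χ, c', hχ⟩
  refine ⟨y', χ, hχ, ?_⟩
  have h4 : 𝒳.p.IsHomLift (f ≫ 𝟙 _) (χ ≫ c) := inferInstance
  obtain ⟨d, hd, hdχ⟩ := exists_factor hfg f χ (𝟙 V) (f ≫ 𝟙 _) (by simp) (χ ≫ c)
  have hV : 𝒳.p.obj y' = V := IsHomLift.domain_eq 𝒳.p f χ
  subst hV
  have hφd : φ.map d = 𝟙 (φ.obj y') := by
    have h1 : 𝒴.p.IsHomLift (𝟙 (𝒳.p.obj y')) (φ.map d) := inferInstance
    have h2 : 𝒴.p.IsHomLift (𝟙 (𝒳.p.obj y')) (𝟙 (φ.obj y')) := IsHomLift.id (φ.w_obj y')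
    apply cancel_right h𝒴 (φ.map χ) (𝟙 (𝒳.p.obj y'))
    rw [← φ.toFunctor.map_comp, hdχ, φ.toFunctor.map_comp, hφc, Category.comp_id, Category.id_comp]
  have hα : Gerb.autMap φ y' (mkAutO hfg y' d hd) = Gerb.autMap φ y' 1 := by
    apply Aut.ext; apply Functor.Fiber.hom_ext
    change φ.map d = φ.map (𝟙 y')
    rw [hφd, φ.toFunctor.map_id]
  have hd1 : d = 𝟙 y' := congrArg (fun a => a.hom.1) (hinj y' ⟨c'⟩ hα)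
  rw [← hdχ, hd1, Category.id_comp, Category.comp_id]

/-- fibrewise fullness from surjectivity on automorphism groups of the pullbacks of the global object -/
theorem full_fib_of_surjective (h𝒳 : Gerb.IsGerbe J 𝒳) (h𝒴 : FibCat.IsFibGrpd 𝒴.p)
    (h𝒴f : ∀ ⦃U : C⦄ (R : Sieve U), R ∈ J U → (Stk.resSieve R 𝒴).Faithful)
    (φ : 𝒳 ⥤ᵇ 𝒴) [hfaith : φ.toFunctor.Faithful] (x : 𝒳.obj)
    (hne : ∀ U : C, Nonempty (U ⟶ 𝒳.p.obj x))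
    (hsurj : ∀ y' : 𝒳.obj, Nonempty (y' ⟶ x) → Function.Surjective (Gerb.autMap φ y'))
    (y₁ y₂ : 𝒳.obj) (b : φ.obj y₁ ⟶ φ.obj y₂) (hb : 𝒴.p.IsHomLift (𝟙 (𝒳.p.obj y₁)) b) :
    ∃ a : y₁ ⟶ y₂, φ.map a = b := by
  classical
  have hfg : FibCat.IsFibGrpd 𝒳.p := h𝒳.1.1
  have e : 𝒳.p.obj y₂ = 𝒳.p.obj y₁ := (φ.w_obj y₂).symm.trans (IsHomLift.codomain_eq 𝒴.p (𝟙 (𝒳.p.obj y₁)) b)
  have hb₀ : (FibCat.selfOver C).p.IsHomLift (𝟙 (𝒳.p.obj y₁))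
      (eqToHom e.symm : (FibCat.toSelf 𝒳).obj y₁ ⟶ (FibCat.toSelf 𝒳).obj y₂) :=
    IsHomLift.of_fac' _ _ _ rfl e (by simp [eqToHom_map])
  obtain ⟨R₀, hR₀, hloc⟩ := h𝒳.2.2 y₁ y₂ (eqToHom e.symm) hb₀
  let R : Sieve (𝒳.p.obj y₁) := sieveP hfg x y₁ ⊓ R₀
  have hR : R ∈ J (𝒳.p.obj y₁) := J.intersection_covering (sieveP_mem J h𝒳 x hne y₁) hR₀
  -- local preimages
  have hex : ∀ (y' : 𝒳.obj) (χ : y' ⟶ y₁), R (𝒳.p.map χ) → ∃ m : y' ⟶ y₂, φ.map m = φ.map χ ≫ b := by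
    intro y' χ h
    obtain ⟨y₀, a₁, a₂, h1, h2, -⟩ := hloc (𝒳.p.map χ) h.2
    obtain ⟨κ, hκ, hκa⟩ := exists_factor hfg (𝒳.p.map χ) a₁ (𝟙 _) (𝒳.p.map χ) (by simp) χ
    have h3 : 𝒳.p.IsHomLift (𝒳.p.map χ) (κ ≫ a₂) := by
      have : 𝒳.p.IsHomLift (𝟙 _ ≫ 𝒳.p.map χ) (κ ≫ a₂) := inferInstance
      simpa using this
    have h4 : 𝒴.p.IsHomLift (𝒳.p.map χ) (φ.map (κ ≫ a₂)) := inferInstance
    have h5 : 𝒴.p.IsHomLift (𝒳.p.map χ) (φ.map χ) := inferInstance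
    have h6 : 𝒴.p.IsHomLift (𝒳.p.map χ ≫ 𝟙 _) (φ.map χ ≫ b) := inferInstance
    obtain ⟨u, hu, hufac⟩ := exists_factor h𝒴 (𝒳.p.map χ) (φ.map (κ ≫ a₂)) (𝟙 _) (𝒳.p.map χ ≫ 𝟙 _) (by simp)
      (φ.map χ ≫ b)
    have hu' : 𝒴.p.IsHomLift (𝟙 (𝒴.p.obj (φ.obj y'))) u := isHomLift_of_eq 𝒴.p (φ.w_obj y').symm u
    obtain ⟨α, hα⟩ := hsurj y' ((sieveP_map_iff hfg x χ).1 h.1) (mkAutO h𝒴 (φ.obj y') u hu')
    have hαu : φ.map α.hom.1 = u := congrArg (fun a => a.hom.1) hα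
    refine ⟨α.hom.1 ≫ κ ≫ a₂, ?_⟩
    rw [φ.toFunctor.map_comp, hαu, hufac]
  let Ψ : ∀ (y' : 𝒳.obj) (χ : y' ⟶ y₁), R (𝒳.p.map χ) → (y' ⟶ y₂) := fun y' χ h => (hex y' χ h).choose
  have hΨ : ∀ y' χ h, φ.map (Ψ y' χ h) = φ.map χ ≫ b := fun y' χ h => (hex y' χ h).choose_spec
  obtain ⟨a, ha, hfac⟩ := glue hfg (x := y₁) (y := y₂) (eqToHom e.symm) R (full_of_isStack J h𝒳.1 R hR) Ψ
    (fun y' χ h => by
      have h5 : 𝒴.p.IsHomLift (𝒳.p.map χ) (φ.map χ) := inferInstance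
      have h6 : 𝒴.p.IsHomLift (𝒳.p.map χ ≫ 𝟙 _) (φ.map χ ≫ b) := inferInstance
      rw [Category.comp_id] at h6
      have h7 : 𝒴.p.IsHomLift (𝒳.p.map χ ≫ eqToHom e.symm) (φ.map (Ψ y' χ h)) := by
        rw [hΨ y' χ h]; infer_instance
      exact φ.isHomLift_map _ _)
    (fun y' χ h y'' κ h' => by
      apply φ.toFunctor.map_injective
      rw [hΨ _ _ h', φ.toFunctor.map_comp, φ.toFunctor.map_comp, hΨ _ _ h, Category.assoc])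
  refine ⟨a, ?_⟩
  have ha' : 𝒳.p.IsHomLift (𝟙 (𝒳.p.obj y₁)) a := isHomLift_id_of_eqToHom e.symm a
  have hφa : 𝒴.p.IsHomLift (𝟙 (𝒳.p.obj y₁)) (φ.map a) := inferInstance
  apply sepJ J h𝒴 h𝒴f (φ.map a) b (𝟙 (𝒳.p.obj y₁)) R hR
  rintro V f hf
  obtain ⟨y', χ, c, hχ⟩ := hf.1
  have hmem : R (𝒳.p.map χ) := mem_map_of_mem R f hf χ
  refine ⟨φ.obj y', φ.map χ, inferInstance, ?_⟩
  rw [← φ.toFunctor.map_comp, hfac y' χ hmem, hΨ y' χ hmem]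

/-- full from surjectivity on automorphism groups of the pullbacks of the global object -/
theorem full_of_surjective (h𝒳 : Gerb.IsGerbe J 𝒳) (h𝒴 : FibCat.IsFibGrpd 𝒴.p)
    (h𝒴f : ∀ ⦃U : C⦄ (R : Sieve U), R ∈ J U → (Stk.resSieve R 𝒴).Faithful)
    (φ : 𝒳 ⥤ᵇ 𝒴) [hfaith : φ.toFunctor.Faithful] (x : 𝒳.obj)
    (hne : ∀ U : C, Nonempty (U ⟶ 𝒳.p.obj x))
    (hsurj : ∀ y' : 𝒳.obj, Nonempty (y' ⟶ x) → Function.Surjective (Gerb.autMap φ y')) :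
    φ.toFunctor.Full := by
  have hfg : FibCat.IsFibGrpd 𝒳.p := h𝒳.1.1
  constructor
  intro y₁ y₂ b
  let g : 𝒳.p.obj y₁ ⟶ 𝒳.p.obj y₂ := eqToHom (φ.w_obj y₁).symm ≫ 𝒴.p.map b ≫ eqToHom (φ.w_obj y₂)
  have hb : 𝒴.p.IsHomLift g b := by
    apply IsHomLift.of_fac 𝒴.p g b (φ.w_obj y₁) (φ.w_obj y₂)
    simp [g]
  obtain ⟨y₂', γ, hγ⟩ := hfg.exists_lift (x := y₂) g
  have hφγ : 𝒴.p.IsHomLift g (φ.map γ) := inferInstance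
  obtain ⟨b', hb', hb'fac⟩ := exists_factor h𝒴 g (φ.map γ) (𝟙 _) g (by simp) b
  obtain ⟨a', ha'⟩ := full_fib_of_surjective J h𝒳 h𝒴 h𝒴f φ x hne hsurj y₁ y₂' b' hb'
  exact ⟨a' ≫ γ, by rw [φ.toFunctor.map_comp, ha', hb'fac]⟩

/-- a functor between gerbes is locally essentially surjective -/
theorem locEssSurj (h𝒳 : Gerb.IsGerbe J 𝒳) (h𝒴 : Gerb.IsGerbe J 𝒴) (φ : 𝒳 ⥤ᵇ 𝒴) (z : 𝒴.obj) :
    ∃ R ∈ J (𝒴.p.obj z), ∀ ⦃V : C⦄ (f : V ⟶ 𝒴.p.obj z), R f →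
      ∃ (y : 𝒳.obj) (t : φ.obj y ⟶ z), 𝒴.p.IsHomLift f t := by
  have hfg : FibCat.IsFibGrpd 𝒳.p := h𝒳.1.1
  have hfg' : FibCat.IsFibGrpd 𝒴.p := h𝒴.1.1
  let S : Sieve (𝒴.p.obj z) :=
    { arrows := fun V f => ∃ (y : 𝒳.obj) (t : φ.obj y ⟶ z), 𝒴.p.IsHomLift f t
      downward_closed := by
        rintro V W f ⟨y, t, ht⟩ k
        have hV : 𝒳.p.obj y = V := (φ.w_obj y).symm.trans (IsHomLift.domain_eq 𝒴.p f t)
        subst hV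
        obtain ⟨y'', κ, hκ⟩ := hfg.exists_lift (x := y) k
        have : 𝒴.p.IsHomLift k (φ.map κ) := inferInstance
        exact ⟨y'', φ.map κ ≫ t, inferInstance⟩ }
  refine ⟨S, ?_, fun V f hf => hf⟩
  obtain ⟨R₁, hR₁, hloc₁⟩ := h𝒳.2.1 (𝒴.p.obj z)
  refine J.transitive hR₁ S (fun V f hf => ?_)
  obtain ⟨y, g₀, hg₀⟩ := hloc₁ f hf
  have hyV : 𝒳.p.obj y = V := IsHomLift.domain_eq (FibCat.selfOver C).p f g₀
  subst hyV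
  obtain ⟨zf, ζ, hζ⟩ := hfg'.exists_lift (x := z) f
  have hzf : 𝒴.p.obj zf = 𝒳.p.obj y := IsHomLift.domain_eq 𝒴.p f ζ
  have hφy : 𝒴.p.obj (φ.obj y) = 𝒳.p.obj y := φ.w_obj y
  have hb₀ : (FibCat.selfOver C).p.IsHomLift (𝟙 (𝒴.p.obj (φ.obj y)))
      (eqToHom (hφy.trans hzf.symm) : (FibCat.toSelf 𝒴).obj (φ.obj y) ⟶ (FibCat.toSelf 𝒴).obj zf) :=
    IsHomLift.of_fac' _ _ _ rfl (hzf.trans hφy.symm) (by simp [eqToHom_map])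
  obtain ⟨R₂, hR₂, hloc₂⟩ := h𝒴.2.2 (φ.obj y) zf _ hb₀
  refine J.superset_covering ?_ (J.pullback_stable (eqToHom hφy.symm) hR₂)
  intro W k hk
  obtain ⟨z₀, a₁, a₂, h1, h2, -⟩ := hloc₂ _ hk
  have h1' : 𝒴.p.IsHomLift k a₁ := (IsHomLift.lift_comp_eqToHom_iff 𝒴.p k a₁ hφy.symm).1 h1
  have h2' : 𝒴.p.IsHomLift k a₂ := (IsHomLift.lift_comp_eqToHom_iff 𝒴.p k a₂ hφy.symm).1 h2
  obtain ⟨y'', κ, hκ⟩ := hfg.exists_lift (x := y) k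
  have hφκ : 𝒴.p.IsHomLift k (φ.map κ) := inferInstance
  obtain ⟨ι, hι, -⟩ := exists_factor hfg' k a₁ (𝟙 _) k (by simp) (φ.map κ)
  refine ⟨y'', ι ≫ a₂ ≫ ζ, ?_⟩
  have : 𝒴.p.IsHomLift (𝟙 W ≫ k ≫ f) (ι ≫ a₂ ≫ ζ) := inferInstance
  simpa using this

end Groth.Agent.Lib.helper4.GerbFF
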