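import Mathlib
import Groth.Agent.Lib.Helper4.GerbBG5
import Groth.Agent.Lib.Helper4.GerbFF
import Groth.Agent.Lib.Helper4.GerbLocal
import Groth.Agent.Lib.Helper4.QuotCmp5
import Groth.Agent.Lib.Helper4.FibPaste
import Groth.Agent.Lib.Helper4.GerbBasic
import Groth.Agent.Lib.Helper4.PshDict2

/-!
# The functor from a gerbe with a global object to the classifying stack is an equivalence (helper4)
-/

set_option backward.isDefEq.respectTransparency false
set_option backward.isDefEq.respectTransparency.types false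
set_option autoImplicit false
set_option linter.style.haveILetI false
set_option linter.unusedSectionVars false
set_option linter.unusedVariables false
set_option linter.unusedSimpArgs false

universe u

open CategoryTheory CategoryTheory.Limits MonoidalCategory CartesianMonoidalCategory MonObj GrpObj AlgebraicGeometry
open AlgSt Opposite

namespace Groth.Agent.Lib.helper4.GerbBG

open Groth.Agent.Lib.helper27.StkElem1 Groth.Agent.Lib.helper4.SpQuot Groth.Agent.Lib.helper4.SpYon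
open Groth.Agent.Lib.helper4.QuotCmp

variable {S : Scheme.{u}} {𝒳 : AlgSt.Cat S} (x : FibCat.overCat (Over.mk (𝟙 S)) ⥤ᵇ 𝒳)
  (h𝒳 : Stk.IsStack (AlgSp.J S) 𝒳)
  (G : Over S) [GrpObj G] (r : Gerb.AutRep x (Gerb.ptsGrp (Over.mk (𝟙 S)) G))
  (hg : Gerb.IsGerbe (AlgSp.J S) 𝒳)

theorem Φ_map_top {y y' : 𝒳.obj} (a : y ⟶ y') : ((Φ x h𝒳 G r hg).map a).top = topH x h𝒳 a := rfl

theorem Φ_map_base {y y' : 𝒳.obj} (a : y ⟶ y') : ((Φ x h𝒳 G r hg).map a).base = 𝒳.p.map a := rfl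

theorem autMap_injective {y' : 𝒳.obj} (c : y' ⟶ x₀ x) :
    Function.Injective (Gerb.autMap (Φ x h𝒳 G r hg) y') := by
  intro α β hαβ
  obtain ⟨κ, hκ, hiso⟩ := exists_iso_xt x h𝒳.1 c rfl
  have h1 : (Φ x h𝒳 G r hg).map α.hom.1 = (Φ x h𝒳 G r hg).map β.hom.1 := by
    have := congrArg (fun a0 => a0.hom.1) hαβ
    exact this
  have h2 : topH x h𝒳 α.hom.1 = topH x h𝒳 β.hom.1 := congrArg (fun T => T.top) h1
  have h3 : pB x h𝒳 (κ ≫ α.hom.1) = pB x h𝒳 (κ ≫ β.hom.1) := by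
    rw [← pB_topH, ← pB_topH, h2]
  have h4 := pB_injective x h𝒳 h3
  have h5 : α.hom.1 = β.hom.1 := (cancel_epi κ).1 h4
  apply Aut.ext
  apply Functor.Fiber.hom_ext
  exact h5

theorem autMap_surjective {y' : 𝒳.obj} (c : y' ⟶ x₀ x) :
    Function.Surjective (Gerb.autMap (Φ x h𝒳 G r hg) y') := by
  intro τ
  obtain ⟨κ, hκ, hiso⟩ := exists_iso_xt x h𝒳.1 c rfl
  have hbκ : bm x κ = 𝟙 _ := bm_eq x κ (𝟙 _)
  have hT : (SpQuotSt Scheme.fppfPrecoverage ((Y S).obj G) (mapAction (trivAction G))).p.IsHomLift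
      (𝟙 (Φobj x h𝒳 G r hg y').base) τ.hom.1 := τ.hom.2
  have hTb : τ.hom.1.base = 𝟙 _ := base_eq_of_isHomLift _ _ hT
  obtain ⟨m₁, hm₁⟩ := exists_pB x h𝒳 (pB x h𝒳 κ ≫ τ.hom.1.top)
  have hbm₁ : bm x m₁ = 𝟙 _ := by
    apply (Y S).map_injective
    rw [← pB_πH x h𝒳 m₁, hm₁, Category.assoc]
    have hw := τ.hom.1.cart.w
    change τ.hom.1.top ≫ πH x h𝒳 y' = πH x h𝒳 y' ≫ _ at hw
    rw [hw, ← Category.assoc, pB_πH, hbκ]
    apply Over.OverMorphism.ext
    change (AlgSp.yon S).map (𝟙 _) ≫ (AlgSp.yon S).map τ.hom.1.base = (AlgSp.yon S).map (𝟙 _)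
    rw [hTb, CategoryTheory.Functor.map_id, Category.id_comp]
  have hm₁l : 𝒳.p.IsHomLift (𝟙 (𝒳.p.obj y')) m₁ := by
    have := isHomLift_bm x m₁
    rw [hbm₁] at this
    exact this
  have hκinv : 𝒳.p.IsHomLift (𝟙 (𝒳.p.obj y')) (inv κ) := IsHomLift.lift_id_inv_isIso 𝒳.p _ κ
  have hα₀ : 𝒳.p.IsHomLift (𝟙 (𝒳.p.obj y')) (inv κ ≫ m₁) := by
    have : 𝒳.p.IsHomLift (𝟙 (𝒳.p.obj y') ≫ 𝟙 (𝒳.p.obj y')) (inv κ ≫ m₁) := inferInstance
    rw [Category.id_comp] at this
    exact this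
  refine ⟨Groth.Agent.Lib.helper4.GerbLocal.mkAutO h𝒳.1 y' (inv κ ≫ m₁) hα₀, ?_⟩
  apply Aut.ext
  apply Functor.Fiber.hom_ext
  change (Φ x h𝒳 G r hg).map (inv κ ≫ m₁) = τ.hom.1
  apply SpQuotObj.hom_ext
  · rw [hTb]
    have h2 := IsHomLift.fac' 𝒳.p (𝟙 (𝒳.p.obj y')) (inv κ ≫ m₁)
    simp only [eqToHom_refl, Category.id_comp, Category.comp_id] at h2
    exact h2
  · change topH x h𝒳 (inv κ ≫ m₁) = τ.hom.1.top
    apply hom_ext_Y
    intro T' s
    obtain ⟨m, rfl⟩ := exists_pB x h𝒳 s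
    have hbb : bm x m = bm x ((xt x).map (bm x m) ≫ κ) := by
      rw [bm_map_comp, hbκ, Category.comp_id]
    obtain ⟨g, hg'⟩ := exists_sact x G r h𝒳.1 m ((xt x).map (bm x m) ≫ κ) hbb
    rw [pB_topH]
    conv_lhs => rw [← hg', sact_comp, Category.assoc, IsIso.hom_inv_id_assoc]
    conv_rhs => rw [← hg', ← lift_actH, Category.assoc]
    have heqv := τ.hom.1.eqv
    change actH x h𝒳 G r y' ≫ τ.hom.1.top = ((Y S).obj G ◁ τ.hom.1.top) ≫ actH x h𝒳 G r y' at heqv
    rw [heqv, ← Category.assoc, lift_whiskerLeft, ← map_pB, Category.assoc, ← hm₁, map_pB, lift_actH]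

/-- sections of the terminal representable sheaf are unique -/
theorem sec_B₀_eq {V : Over S} (s s' : (B₀ S).obj.obj (op V)) : s = s' := by
  apply (yEq (T := V) (F := B₀ S)).symm.injective
  exact hom_B₀_ext _ _

theorem bm_id (V : Over S) : bm x (𝟙 ((xt x).obj V)) = eqToHom (p_xt x V).symm := by
  unfold bm
  rw [CategoryTheory.Functor.map_id, Category.comp_id]

/-- every torsor is locally in the image -/
theorem locEssSurj (z : SpQuotObj Scheme.fppfPrecoverage ((Y S).obj G) (mapAction (trivAction G))) :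
    ∃ R ∈ (AlgSp.J S) z.base, ∀ ⦃V : Over S⦄ (f : V ⟶ z.base), R f →
      ∃ (y : 𝒳.obj) (t : (Φ x h𝒳 G r hg).obj y ⟶ z),
        (SpQuotSt Scheme.fppfPrecoverage ((Y S).obj G) (mapAction (trivAction G))).p.IsHomLift f t := by
  refine ⟨secSieve z, secSieve_mem z, ?_⟩
  rintro V f ⟨σ, hσ⟩
  let w := ofSec σ
  let ρ := trivW z w
  have hρb : ρ.base = f := by
    apply (AlgSp.yon S).map_injective
    rw [yon_map_trivW_base, secY_ofSec, hσ]
  let A := Φobj x h𝒳 G r hg ((xt x).obj V)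
  let w' : (ofSp A.P.left).obj := ofSec (pt x h𝒳 (𝟙 ((xt x).obj V)))
  let τ := trivW A w'
  have hτb : τ.base = eqToHom (p_xt x V).symm := by
    apply (AlgSp.yon S).map_injective
    rw [yon_map_trivW_base, secY_ofSec]
    change pt x h𝒳 (𝟙 ((xt x).obj V)) ≫ isoπ x h𝒳 _ = _
    rw [pt_isoπ, bm_id]
  haveI : IsIso τ.base := by rw [hτb]; infer_instance
  haveI : IsIso τ := isIso_of_isIso_base τ
  let ψ : aW A w' ⟶ aW z w := ⟨𝟙 V, sec_B₀_eq _ _⟩
  refine ⟨(xt x).obj V, inv τ ≫ (spQuotMap Scheme.fppfPrecoverage ((Y S).obj G) (mapAction (trivAction G))).map ψ ≫ ρ, ?_⟩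
  have hdom : (SpQuotSt Scheme.fppfPrecoverage ((Y S).obj G) (mapAction (trivAction G))).p.obj
      ((Φ x h𝒳 G r hg).obj ((xt x).obj V)) = V := p_xt x V
  apply IsHomLift.of_fac' (SpQuotSt Scheme.fppfPrecoverage ((Y S).obj G) (mapAction (trivAction G))).p _ _ hdom rfl
  have h1 : (SpQuotSt Scheme.fppfPrecoverage ((Y S).obj G) (mapAction (trivAction G))).p.map (inv τ) = inv τ.base :=
    Functor.map_inv (SpQuotSt Scheme.fppfPrecoverage ((Y S).obj G) (mapAction (trivAction G))).p τ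
  rw [Functor.map_comp, Functor.map_comp, h1]
  change inv τ.base ≫ 𝟙 V ≫ ρ.base = eqToHom _ ≫ f ≫ eqToHom _
  rw [hρb]
  simp only [hτb, inv_eqToHom, eqToHom_refl, Category.id_comp, Category.comp_id, eqToHom_trans_assoc]
  exact congrArg (fun k => eqToHom hdom ≫ k) (Category.id_comp f)

/-- **The functor from a gerbe with a global object to the classifying stack of its automorphism group is an equivalence.** -/
theorem isEquivOver_Φ : FibCat.IsEquivOver (Φ x h𝒳 G r hg) := by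
  have hYstack : Stk.IsStack (AlgSp.J S)
      (SpQuotSt Scheme.fppfPrecoverage ((Y S).obj G) (mapAction (trivAction G))) := isStack_spQuotSt _ _
  have hfaith : (Φ x h𝒳 G r hg).toFunctor.Faithful :=
    Groth.Agent.Lib.helper4.GerbFF.faithful_of_injective _ hg hYstack.1 (Φ x h𝒳 G r hg) (x₀ x) (hterm x)
      (fun y' ⟨c⟩ => autMap_injective x h𝒳 G r hg c)
  have hfull : (Φ x h𝒳 G r hg).toFunctor.Full :=
    Groth.Agent.Lib.helper4.GerbFF.full_of_surjective _ hg hYstack.1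
      (Groth.Agent.Lib.helper4.GerbLocal.faithful_of_isStack _ hYstack) (Φ x h𝒳 G r hg) (x₀ x) (hterm x)
      (fun y' ⟨c⟩ => autMap_surjective x h𝒳 G r hg c)
  apply Groth.Agent.FibEquiv.isEquivOver_of (Φ x h𝒳 G r hg)
  intro z
  obtain ⟨R, hR, hloc⟩ := locEssSurj x h𝒳 G r hg z
  have h1 := hg.1.2 R hR
  have h2 := hYstack.2 R hR
  unfold Stk.IsStackFor Stk.resSieve at h1 h2
  exact Groth.Agent.StkLocal.essImage_of_locally (Φ x h𝒳 G r hg) hYstack.1 z R inferInstance inferInstance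
    inferInstance hloc

include x h𝒳 r hg in
/-- **A gerbe with a global object whose automorphism group is an affine group scheme `G` is the classifying stack of `G`.** -/
theorem isQuotientOf_of_isGerbe [IsAffineHom G.hom] :
    AlgSt.IsQuotientOf Scheme.fppfPrecoverage G (AlgSt.trivAction G) 𝒳 := by
  obtain ⟨Ψ, hΨ⟩ := Groth.Agent.StkLib.isEquivOver_symm (isEquivOver_Φ x h𝒳 G r hg)
  exact ⟨BasedFunctor.comp (cmp Scheme.fppfPrecoverage G (trivAction G)) Ψ,
    Groth.Agent.Lib.helper4.FibPaste.isEquivOver_comp _ _ isEquivOver_cmp hΨ⟩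

/-- the slice over the terminal object is the whole base -/
theorem isEquivOver_toSelf_overCat (S : Scheme.{u}) :
    FibCat.IsEquivOver (FibCat.toSelf (FibCat.overCat (Over.mk (𝟙 S)))) := by
  haveI : (FibCat.toSelf (FibCat.overCat (Over.mk (𝟙 S)))).toFunctor.Faithful :=
    inferInstanceAs (Over.forget (Over.mk (𝟙 S))).Faithful
  haveI : (FibCat.toSelf (FibCat.overCat (Over.mk (𝟙 S)))).toFunctor.Full := by
    constructor
    intro A B f
    exact ⟨Over.homMk f ((Over.mkIdTerminal (X := S)).hom_ext _ _), rfl⟩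
  apply Groth.Agent.FibEquiv.isEquivOver_of
  intro T₀
  refine ⟨Over.mk ((Over.mkIdTerminal (X := S)).from T₀), Iso.refl _, ?_⟩
  change (𝟭 (Over S)).IsHomLift (𝟙 T₀) (𝟙 T₀)
  exact IsHomLift.id rfl

include h𝒳 in
/-- a stack in groupoids which is a gerbe over the base (seen as the slice over the terminal object) is a gerbe -/
theorem isGerbe_of_isGerbeOver_base (π : 𝒳 ⥤ᵇ FibCat.overCat (Over.mk (𝟙 S)))
    (hπ : Gerb.IsGerbeOver (AlgSp.J S) π) : Gerb.IsGerbe (AlgSp.J S) 𝒳 := by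
  refine ⟨h𝒳, ?_⟩
  have h := Groth.Agent.Lib.helper4.GerbBasic.isGerbeOver_postcomp (AlgSp.J S) π
    (FibCat.toSelf (FibCat.overCat (Over.mk (𝟙 S)))) (isEquivOver_toSelf_overCat S) hπ
  have e : BasedFunctor.comp π (FibCat.toSelf (FibCat.overCat (Over.mk (𝟙 S)))) = FibCat.toSelf 𝒳 := by
    apply Groth.Agent.Lib.helper4.PshDict2.basedFunctor_ext
    exact π.w
  rw [e] at h
  exact h

end Groth.Agent.Lib.helper4.GerbBG
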