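import Mathlib
import Groth.Agent.Lib.Helper4.GerbBG6

/-!
# The trivial torsor goes to the global object under the equivalence of a gerbe with the classifying stack (helper4)
-/

set_option backward.isDefEq.respectTransparency false
set_option backward.isDefEq.respectTransparency.types false
set_option autoImplicit false
set_option linter.style.haveILetI false
set_option linter.unusedSectionVars false
set_option linter.unusedVariables false
set_option linter.unusedSimpArgs false

universe u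

open CategoryTheory CategoryTheory.Limits MonoidalCategory CartesianMonoidalCategory MonObj GrpObj AlgebraicGeometry
open AlgSt Opposite

namespace Groth.Agent.Lib.helper4.GerbBG

open Groth.Agent.Lib.helper27.StkElem1 Groth.Agent.Lib.helper4.SpQuot Groth.Agent.Lib.helper4.SpYon
open Groth.Agent.Lib.helper4.QuotCmp

variable {S : Scheme.{u}} {𝒳 : AlgSt.Cat S} (x : FibCat.overCat (Over.mk (𝟙 S)) ⥤ᵇ 𝒳)
  (h𝒳 : Stk.IsStack (AlgSp.J S) 𝒳)
  (G : Over S) [GrpObj G] (r : Gerb.AutRep x (Gerb.ptsGrp (Over.mk (𝟙 S)) G))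
  (hg : Gerb.IsGerbe (AlgSp.J S) 𝒳)

/-- the canonical morphism from the canonical structure on the source of `c` to `c` -/
def kc (c : Over (Over.mk (𝟙 S))) : (tt S).obj c.left ⟶ c :=
  Over.homMk (𝟙 c.left) ((Over.mkIdTerminal (X := S)).hom_ext _ _)

@[simp] theorem kc_left (c : Over (Over.mk (𝟙 S))) : (kc c).left = 𝟙 c.left := rfl

theorem kc_natural {c c' : Over (Over.mk (𝟙 S))} (k : c ⟶ c') : (tt S).map k.left ≫ kc c' = kc c ≫ k := by
  apply Over.OverMorphism.ext
  change k.left ≫ 𝟙 _ = 𝟙 _ ≫ k.left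
  rw [Category.comp_id, Category.id_comp]

theorem bm_kc (c : Over (Over.mk (𝟙 S))) : bm x (x.map (kc c)) = eqToHom (x.w_obj c).symm := by
  unfold bm
  have e := Functor.congr_hom x.w (kc c)
  simp only [Functor.comp_map] at e
  have e' : 𝒳.p.map (x.map (kc c)) = eqToHom (x.w_obj ((tt S).obj c.left)) ≫ (kc c).left ≫ eqToHom (x.w_obj c).symm := e
  rw [e', kc_left]
  simp only [eqToHom_trans_assoc, eqToHom_refl, Category.id_comp]
  exact Category.id_comp _

/-- the object of the slice over the terminal object attached to a point of the terminal sheaf -/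
abbrev cOf (a : (AlgSt.ofSch (𝟙_ (Over S))).obj) : (FibCat.overCat (Over.mk (𝟙 S))).obj := (AlgSt.toOverCat (Over.mk (𝟙 S))).obj a

/-- the canonical isomorphism from the pullback of the global object -/
def κa (a : (AlgSt.ofSch (𝟙_ (Over S))).obj) : (xt x).obj a.base ⟶ x.obj (cOf a) := x.map (kc (cOf a))

theorem κa_natural {a b : (AlgSt.ofSch (𝟙_ (Over S))).obj} (f : a ⟶ b) :
    (xt x).map f.hom ≫ κa x b = κa x a ≫ x.map ((AlgSt.toOverCat (Over.mk (𝟙 S))).map f) := by
  unfold κa
  change x.map ((tt S).map f.hom) ≫ x.map (kc (cOf b)) = _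
  rw [← x.toFunctor.map_comp, ← x.toFunctor.map_comp]
  exact congrArg (fun k => x.map k) (kc_natural ((AlgSt.toOverCat (Over.mk (𝟙 S))).map f))

/-- the universal point of the torsor of the global object over the trivial torsor -/
noncomputable def mU (a : (AlgSt.ofSch (𝟙_ (Over S))).obj) : (xt x).obj (G ⊗ a.base) ⟶ x.obj (cOf a) :=
  sact x G r (fst G a.base) ((xt x).map (snd G a.base) ≫ κa x a)

theorem map_mU (a : (AlgSt.ofSch (𝟙_ (Over S))).obj) {T : Over S} (q : T ⟶ G ⊗ a.base) :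
    (xt x).map q ≫ mU x G r a = sact x G r (q ≫ fst G a.base) ((xt x).map (q ≫ snd G a.base) ≫ κa x a) := by
  unfold mU
  rw [map_sact, ← Category.assoc, ← (xt x).map_comp]

theorem bm_mU (a : (AlgSt.ofSch (𝟙_ (Over S))).obj) :
    bm x (mU x G r a) = snd G a.base ≫ eqToHom (x.w_obj (cOf a)).symm := by
  unfold mU
  rw [bm_sact, bm_map_comp]
  congr 1
  exact bm_kc x (cOf a)

theorem leftMul_fst (T : Over S) {Z : Over S} (g : Z ⟶ G) (p : Z ⟶ G ⊗ T) :
    (lift g p ≫ (AlgSt.leftMul G T).act) ≫ fst G T = g * (p ≫ fst G T) := by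
  unfold AlgSt.leftMul
  simp only [Category.assoc, lift_fst, lift_snd, comp_mul, lift_fst_assoc, lift_snd_assoc]

theorem leftMul_snd (T : Over S) {Z : Over S} (g : Z ⟶ G) (p : Z ⟶ G ⊗ T) :
    (lift g p ≫ (AlgSt.leftMul G T).act) ≫ snd G T = p ≫ snd G T := by
  unfold AlgSt.leftMul
  simp only [Category.assoc, lift_fst, lift_snd, comp_mul, lift_fst_assoc, lift_snd_assoc]

theorem exists_lift_Y {A A' T : Over S} (s : (Y S).obj T ⟶ (Y S).obj A ⊗ (Y S).obj A') :
    ∃ (g : T ⟶ A) (p : T ⟶ A'), s = lift ((Y S).map g) ((Y S).map p) := by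
  obtain ⟨g, hg'⟩ := exists_Y_map (s ≫ fst _ _)
  obtain ⟨p, hp⟩ := exists_Y_map (s ≫ snd _ _)
  refine ⟨g, p, ?_⟩
  apply CartesianMonoidalCategory.hom_ext
  · rw [lift_fst, hg']
  · rw [lift_snd, hp]

theorem Ncomp_eqv (a : (AlgSt.ofSch (𝟙_ (Over S))).obj) :
    (mapAction (AlgSt.leftMul G a.base)).act ≫ pB x h𝒳 (mU x G r a) =
      ((Y S).obj G ◁ pB x h𝒳 (mU x G r a)) ≫ actH x h𝒳 G r (x.obj (cOf a)) := by
  apply hom_ext_Y
  intro T s
  obtain ⟨g, p, rfl⟩ := exists_lift_Y s
  rw [mapAction_act, Category.assoc, lift_mu_assoc, ← Functor.map_comp_assoc, map_pB, map_mU, ← Category.assoc,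
    lift_whiskerLeft, map_pB, lift_actH, map_mU, ← sact_mul, leftMul_fst, leftMul_snd]

theorem Ncomp_wb (a : (AlgSt.ofSch (𝟙_ (Over S))).obj) :
    (AlgSp.yon S).map (eqToHom (x.w_obj (cOf a)).symm : a.base ⟶ 𝒳.p.obj (x.obj (cOf a))) ≫
      (Φobj x h𝒳 G r hg (x.obj (cOf a))).b =
    ((cmp Scheme.fppfPrecoverage G (trivAction G)).obj
      ((AlgSt.quotMap Scheme.fppfPrecoverage G (AlgSt.trivAction G)).obj a)).b := hom_B₀_ext _ _

/-- the component of the comparison at a point: the trivial torsor maps to the torsor of the global object -/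
noncomputable def Ncomp (a : (AlgSt.ofSch (𝟙_ (Over S))).obj) :
    (cmp Scheme.fppfPrecoverage G (trivAction G)).obj
      ((AlgSt.quotMap Scheme.fppfPrecoverage G (AlgSt.trivAction G)).obj a) ⟶
    (Φ x h𝒳 G r hg).obj (x.obj (cOf a)) where
  base := eqToHom (x.w_obj (cOf a)).symm
  wb := Ncomp_wb x h𝒳 G r hg a
  top := pB x h𝒳 (mU x G r a)
  eqv := Ncomp_eqv x h𝒳 G r a
  cart := cart_of_eqv (A := (cmp Scheme.fppfPrecoverage G (trivAction G)).obj
      ((AlgSt.quotMap Scheme.fppfPrecoverage G (AlgSt.trivAction G)).obj a))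
    (A' := (Φ x h𝒳 G r hg).obj (x.obj (cOf a))) _ (Ncomp_wb x h𝒳 G r hg a) (pB x h𝒳 (mU x G r a))
    (Ncomp_eqv x h𝒳 G r a) (by
      change pB x h𝒳 (mU x G r a) ≫ πH x h𝒳 _ = (Y S).map (snd G a.base) ≫ _
      rw [pB_πH, bm_mU]
      apply Over.OverMorphism.ext
      change (AlgSp.yon S).map _ = (AlgSp.yon S).map _ ≫ (AlgSp.yon S).map _
      rw [← Functor.map_comp])
  wφ := isTerminalYUnit.hom_ext _ _

instance isIso_Ncomp (a : (AlgSt.ofSch (𝟙_ (Over S))).obj) : IsIso (Ncomp x h𝒳 G r hg a) := by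
  haveI : IsIso (Ncomp x h𝒳 G r hg a).base := by
    change IsIso (eqToHom (x.w_obj (cOf a)).symm)
    infer_instance
  exact isIso_of_isIso_base _

theorem Ncomp_naturality {a b : (AlgSt.ofSch (𝟙_ (Over S))).obj} (f : a ⟶ b) :
    (cmp Scheme.fppfPrecoverage G (trivAction G)).map
        ((AlgSt.quotMap Scheme.fppfPrecoverage G (AlgSt.trivAction G)).map f) ≫ Ncomp x h𝒳 G r hg b =
      Ncomp x h𝒳 G r hg a ≫ (Φ x h𝒳 G r hg).map (x.map ((AlgSt.toOverCat (Over.mk (𝟙 S))).map f)) := by
  apply SpQuotObj.hom_ext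
  · change f.hom ≫ eqToHom (x.w_obj (cOf b)).symm =
      eqToHom (x.w_obj (cOf a)).symm ≫ 𝒳.p.map (x.map ((AlgSt.toOverCat (Over.mk (𝟙 S))).map f))
    have e := Functor.congr_hom x.w ((AlgSt.toOverCat (Over.mk (𝟙 S))).map f)
    simp only [Functor.comp_map] at e
    have e' : 𝒳.p.map (x.map ((AlgSt.toOverCat (Over.mk (𝟙 S))).map f)) =
        eqToHom (x.w_obj (cOf a)) ≫ f.hom ≫ eqToHom (x.w_obj (cOf b)).symm := e
    rw [e', eqToHom_trans_assoc, eqToHom_refl, Category.id_comp]
  · change (Y S).map (G ◁ f.hom) ≫ pB x h𝒳 (mU x G r b) =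
      pB x h𝒳 (mU x G r a) ≫ topH x h𝒳 (x.map ((AlgSt.toOverCat (Over.mk (𝟙 S))).map f))
    rw [map_pB, map_mU, pB_topH]
    congr 1
    unfold mU
    rw [sact_comp, whiskerLeft_fst, whiskerLeft_snd, (xt x).map_comp, Category.assoc, Category.assoc,
      κa_natural]

/-- **the trivial torsor corresponds to the global object**: the composite of the universal torsor with the
comparison to sheaf torsors is the composite of the global object with the functor to the classifying stack -/
noncomputable def Niso :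
    BasedFunctor.comp (AlgSt.quotMap Scheme.fppfPrecoverage G (AlgSt.trivAction G))
        (cmp Scheme.fppfPrecoverage G (trivAction G)) ≅
      BasedFunctor.comp (AlgSt.toOverCat (Over.mk (𝟙 S))) (BasedFunctor.comp x (Φ x h𝒳 G r hg)) :=
  BasedNatIso.mkNatIso
    (NatIso.ofComponents (fun a => asIso (Ncomp x h𝒳 G r hg a)) (fun f => Ncomp_naturality x h𝒳 G r hg f))
    (fun a => by
      change (SpQuotSt Scheme.fppfPrecoverage ((Y S).obj G) (mapAction (trivAction G))).p.IsHomLift
        (𝟙 a.base) (Ncomp x h𝒳 G r hg a)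
      have hcod : (SpQuotSt Scheme.fppfPrecoverage ((Y S).obj G) (mapAction (trivAction G))).p.obj
          ((Φ x h𝒳 G r hg).obj (x.obj (cOf a))) = a.base := x.w_obj (cOf a)
      apply IsHomLift.of_fac' (SpQuotSt Scheme.fppfPrecoverage ((Y S).obj G) (mapAction (trivAction G))).p _ _
        rfl hcod
      change eqToHom (x.w_obj (cOf a)).symm = _
      simp only [eqToHom_refl, Category.id_comp]
      exact (Category.id_comp _).symm)

end Groth.Agent.Lib.helper4.GerbBG
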