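import Mathlib
import Groth.Agent.Lib.Helper4.GerbBG7
import Groth.Agent.Lib.Helper4.AlgStLocIm

/-!
# The gerbe of the objects locally isomorphic to a point of a stack (helper4)
-/

set_option backward.isDefEq.respectTransparency false
set_option backward.isDefEq.respectTransparency.types false
set_option autoImplicit false
set_option linter.style.haveILetI false
set_option linter.unusedSectionVars false
set_option linter.unusedVariables false
set_option linter.unusedSimpArgs false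

universe u

open CategoryTheory CategoryTheory.Limits MonoidalCategory CartesianMonoidalCategory MonObj GrpObj AlgebraicGeometry
open AlgSt Opposite

namespace Groth.Agent.Lib.helper4.GerbBG

open Groth.Agent.Lib.helper27.StkElem1 Groth.Agent.Lib.helper4.SpQuot Groth.Agent.Lib.helper4.SpYon
open Groth.Agent.Lib.helper4.QuotCmp Groth.Agent.Lib.helper4.AlgStLocIm Groth.Agent.Lib.helper4.StkSub

variable {S : Scheme.{u}} {𝒳 : AlgSt.Cat S} (x : FibCat.overCat (Over.mk (𝟙 S)) ⥤ᵇ 𝒳)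
  (h𝒳 : Stk.IsStack (AlgSp.J S) 𝒳)

/-- the substack of the objects locally isomorphic to pullbacks of the point -/
abbrev Xs : AlgSt.Cat S := AlgSt.fullSub 𝒳 (locIm x)

theorem hO : FibCat.IsFibGrpd (FibCat.overCat (Over.mk (𝟙 S))).p := Groth.Agent.FibOver.isFibGrpd_overCat _

/-- the point of the substack -/
def xs : FibCat.overCat (Over.mk (𝟙 S)) ⥤ᵇ Xs x := toLocIm x hO

theorem xs_comp : BasedFunctor.comp (xs x) (AlgSt.subIncl 𝒳 (locIm x)) = x := rfl

include h𝒳 in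
theorem isStack_Xs : Stk.IsStack (AlgSp.J S) (Xs x) := isStack_fullSub_locIm x hO h𝒳

theorem isHomLift_kc (c : Over (Over.mk (𝟙 S))) : 𝒳.p.IsHomLift (𝟙 c.left) (x.map (kc c)) := by
  have h : (FibCat.overCat (Over.mk (𝟙 S))).p.IsHomLift (𝟙 c.left) (kc c) := by
    change (FibCat.overCat (Over.mk (𝟙 S))).p.IsHomLift ((FibCat.overCat (Over.mk (𝟙 S))).p.map (kc c)) (kc c)
    infer_instance
  exact x.preserves_isHomLift _ _

theorem secS_mem_of_locIm (y : 𝒳.obj) (h : locIm x y) : secS x y ∈ (AlgSp.J S) (𝒳.p.obj y) := by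
  obtain ⟨T, R, hR, hT, H⟩ := h
  subst hT
  refine (AlgSp.J S).superset_covering ?_ hR
  intro V f hf
  obtain ⟨c, φ, hφ⟩ := H f hf
  have hV : c.left = V := (x.w_obj c).symm.trans (IsHomLift.domain_eq 𝒳.p f φ)
  subst hV
  have h1 := isHomLift_kc x c
  have h2 : 𝒳.p.IsHomLift (𝟙 c.left ≫ f) (x.map (kc c) ≫ φ) := inferInstance
  rw [Category.id_comp] at h2
  exact ⟨x.map (kc c) ≫ φ, bm_eq x _ _⟩

theorem locSurjObj_Xs : Gerb.LocSurjObj (AlgSp.J S) (FibCat.toSelf (Xs x)) := by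
  intro U
  refine ⟨⊤, (AlgSp.J S).top_mem _, ?_⟩
  intro V f _
  refine ⟨(xs x).obj ((tt S).obj V), eqToHom (p_xt x V) ≫ f, ?_⟩
  apply IsHomLift.of_fac' (FibCat.selfOver (Over S)).p _ _ (p_xt x V) rfl
  change eqToHom (p_xt x V) ≫ f = _
  simp

theorem locSurjHom_Xs : Gerb.LocSurjHom (AlgSp.J S) (FibCat.toSelf (Xs x)) := by
  intro y₁ y₂ b hb
  have h21 : 𝒳.p.obj y₂.obj = 𝒳.p.obj y₁.obj :=
    IsHomLift.codomain_eq (FibCat.selfOver (Over S)).p (𝟙 ((Xs x).p.obj y₁)) b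
  have hb' : b = eqToHom h21.symm := by
    have := IsHomLift.fac' (FibCat.selfOver (Over S)).p (𝟙 ((Xs x).p.obj y₁)) b
    simp only [eqToHom_refl, Category.id_comp] at this
    exact this
  refine ⟨secS x y₁.obj ⊓ (secS x y₂.obj).pullback b,
    (AlgSp.J S).intersection_covering (secS_mem_of_locIm x y₁.obj y₁.property)
      ((AlgSp.J S).pullback_stable b (secS_mem_of_locIm x y₂.obj y₂.property)), ?_⟩
  rintro V f ⟨⟨m₁, hm₁⟩, ⟨m₂, hm₂⟩⟩
  have e1 : 𝒳.p.map m₁ = eqToHom (p_xt x V) ≫ f := by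
    rw [← hm₁]; unfold bm; simp
  have e2 : 𝒳.p.map m₂ = eqToHom (p_xt x V) ≫ f ≫ b := by
    rw [← hm₂]; unfold bm; simp
  have hd : (Xs x).p.obj ((xs x).obj ((tt S).obj V)) = V := p_xt x V
  refine ⟨(xs x).obj ((tt S).obj V), ObjectProperty.homMk m₁, ObjectProperty.homMk m₂, ?_, ?_, ?_⟩
  · apply IsHomLift.of_fac' (Xs x).p _ _ hd rfl
    change 𝒳.p.map m₁ = _
    rw [e1]; simp
  · apply IsHomLift.of_fac' (Xs x).p _ _ hd h21
    change 𝒳.p.map m₂ = _
    rw [e2, hb']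
  · change 𝒳.p.map m₁ ≫ b = 𝒳.p.map m₂
    rw [e1, e2, Category.assoc]

include h𝒳 in
/-- the objects locally isomorphic to pullbacks of a point form a gerbe -/
theorem isGerbe_Xs : Gerb.IsGerbe (AlgSp.J S) (Xs x) :=
  ⟨isStack_Xs x h𝒳, locSurjObj_Xs x, locSurjHom_Xs x⟩

instance subIncl_faithful : (AlgSt.subIncl 𝒳 (locIm x)).toFunctor.Faithful :=
  inferInstanceAs (ObjectProperty.ι (locIm x)).Faithful

instance subIncl_full : (AlgSt.subIncl 𝒳 (locIm x)).toFunctor.Full :=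
  inferInstanceAs (ObjectProperty.ι (locIm x)).Full

include h𝒳 in
theorem autMap_subIncl_bijective (y : (Xs x).obj) :
    Function.Bijective (Gerb.autMap (AlgSt.subIncl 𝒳 (locIm x)) y) := by
  constructor
  · intro α β h
    have h1 : (AlgSt.subIncl 𝒳 (locIm x)).map α.hom.1 = (AlgSt.subIncl 𝒳 (locIm x)).map β.hom.1 :=
      congrArg (fun a0 => a0.hom.1) h
    have h2 : α.hom.1 = β.hom.1 := (AlgSt.subIncl 𝒳 (locIm x)).toFunctor.map_injective h1
    apply Aut.ext
    apply Functor.Fiber.hom_ext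
    exact h2
  · intro τ
    have hl : 𝒳.p.IsHomLift (𝟙 ((Xs x).p.obj y))
        ((AlgSt.subIncl 𝒳 (locIm x)).toFunctor.map (ObjectProperty.homMk τ.hom.1 : y ⟶ y)) := τ.hom.2
    have hl' : (Xs x).p.IsHomLift (𝟙 ((Xs x).p.obj y)) (ObjectProperty.homMk τ.hom.1 : y ⟶ y) :=
      (AlgSt.subIncl 𝒳 (locIm x)).isHomLift_map _ _
    refine ⟨Groth.Agent.Lib.helper4.GerbLocal.mkAutO (isStack_Xs x h𝒳).1 y (ObjectProperty.homMk τ.hom.1) hl', ?_⟩
    apply Aut.ext
    apply Functor.Fiber.hom_ext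
    rfl

variable (G : Over S) [GrpObj G] (r : Gerb.AutRep x (Gerb.ptsGrp (Over.mk (𝟙 S)) G))

/-- the automorphism groups of the point of the substack are those of the point -/
noncomputable def autEquivSub (y : (Xs x).obj) : Gerb.AutO y ≃* Gerb.AutO y.obj :=
  MulEquiv.ofBijective (Gerb.autMap (AlgSt.subIncl 𝒳 (locIm x)) y) (autMap_subIncl_bijective x h𝒳 y)

theorem autEquivSub_hom (y : (Xs x).obj) (α : Gerb.AutO y) :
    (autEquivSub x h𝒳 y α).hom.1 = α.hom.1.hom := rfl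

theorem autEquivSub_symm_hom (y : (Xs x).obj) (τ : Gerb.AutO y.obj) :
    ((autEquivSub x h𝒳 y).symm τ).hom.1.hom = τ.hom.1 := by
  rw [← autEquivSub_hom x h𝒳, MulEquiv.apply_symm_apply]

/-- the automorphism group scheme of the point of the substack -/
noncomputable def rs : Gerb.AutRep (xs x) (Gerb.ptsGrp (Over.mk (𝟙 S)) G) where
  iso T := (r.iso T).trans (autEquivSub x h𝒳 ((xs x).obj T)).symm
  natural {T' T} h a := by
    apply (AlgSt.subIncl 𝒳 (locIm x)).toFunctor.map_injective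
    rw [Functor.map_comp, Functor.map_comp]
    change ((autEquivSub x h𝒳 ((xs x).obj T')).symm (r.iso T' _)).hom.1.hom ≫ x.map h =
      x.map h ≫ ((autEquivSub x h𝒳 ((xs x).obj T)).symm (r.iso T a)).hom.1.hom
    rw [autEquivSub_symm_hom, autEquivSub_symm_hom]
    exact r.natural h a

end Groth.Agent.Lib.helper4.GerbBG
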