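import Mathlib
import Groth.Agent.Lib.Helper4.GerbBG8
import Groth.Agent.Lib.Helper4.AlgStBoot3
import Groth.Agent.Lib.Helper4.AlgStBootFppf
import Groth.Agent.Lib.Helper4.QuotSt5

/-!
# The classifying stack of the stabilizer of a point maps fully faithfully to the stack (helper4)
-/

set_option backward.isDefEq.respectTransparency false
set_option backward.isDefEq.respectTransparency.types false
set_option autoImplicit false
set_option linter.style.haveILetI false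
set_option linter.unusedSectionVars false
set_option linter.unusedVariables false
set_option linter.unusedSimpArgs false

universe u

open CategoryTheory CategoryTheory.Limits MonoidalCategory CartesianMonoidalCategory MonObj GrpObj AlgebraicGeometry
open AlgSt Opposite

namespace Groth.Agent.Lib.helper4.GerbBG

open Groth.Agent.Lib.helper27.StkElem1 Groth.Agent.Lib.helper4.SpQuot Groth.Agent.Lib.helper4.SpYon
open Groth.Agent.Lib.helper4.QuotCmp Groth.Agent.Lib.helper4.AlgStLocIm Groth.Agent.Lib.helper4.StkSub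
open Groth.Agent.FibEquiv Groth.Agent.Lib.helper4.FibPaste FibCat

variable {S : Scheme.{u}} {𝒳 : AlgSt.Cat S} (x : FibCat.overCat (Over.mk (𝟙 S)) ⥤ᵇ 𝒳)
  (h𝒳 : Stk.IsStack (AlgSp.J S) 𝒳)
  (G : Over S) [GrpObj G] (r : Gerb.AutRep x (Gerb.ptsGrp (Over.mk (𝟙 S)) G))

include h𝒳 r in
/-- the classifying stack of the automorphism group scheme of a point maps fully faithfully to the stack, the trivial
torsor going to the point -/
theorem exists_fullyFaithful_BG [IsAffineHom G.hom] :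
    ∃ j : AlgSt.BG Scheme.fppfPrecoverage G ⥤ᵇ 𝒳, j.toFunctor.Full ∧ j.toFunctor.Faithful ∧
      Nonempty (BasedFunctor.comp (AlgSt.quotMap Scheme.fppfPrecoverage G (AlgSt.trivAction G)) j ≅
        BasedFunctor.comp (AlgSt.toOverCat (Over.mk (𝟙 S))) x) := by
  have hst := isStack_Xs x h𝒳
  have hge := isGerbe_Xs x h𝒳
  obtain ⟨Ψ, ⟨α⟩, ⟨β⟩⟩ := isEquivOver_Φ (xs x) hst G (rs x h𝒳 G r) hge
  have hΨ : IsEquivOver Ψ := ⟨_, ⟨β⟩, ⟨α⟩⟩
  obtain ⟨⟨fullΨ, faithΨ⟩, -⟩ := of_isEquivOver Ψ hΨ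
  refine ⟨BasedFunctor.comp (cmp Scheme.fppfPrecoverage G (trivAction G))
    (BasedFunctor.comp Ψ (AlgSt.subIncl 𝒳 (locIm x))), ?_, ?_, ?_⟩
  · exact inferInstanceAs ((cmp Scheme.fppfPrecoverage G (trivAction G)).toFunctor ⋙ Ψ.toFunctor ⋙
      (AlgSt.subIncl 𝒳 (locIm x)).toFunctor).Full
  · exact inferInstanceAs ((cmp Scheme.fppfPrecoverage G (trivAction G)).toFunctor ⋙ Ψ.toFunctor ⋙
      (AlgSt.subIncl 𝒳 (locIm x)).toFunctor).Faithful
  · let N := Niso (xs x) hst G (rs x h𝒳 G r) hge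
    let I1 := Groth.Agent.Lib.helper4.AlgStRep.whiskerRightIso N
      (BasedFunctor.comp Ψ (AlgSt.subIncl 𝒳 (locIm x)))
    let I2 := whiskerLeftIso (BasedFunctor.comp (AlgSt.toOverCat (Over.mk (𝟙 S))) (xs x))
      (Groth.Agent.Lib.helper4.AlgStRep.whiskerRightIso α (AlgSt.subIncl 𝒳 (locIm x)))
    exact ⟨Iso.trans I1 I2⟩

open Groth.Agent.Lib.helper4.AlgStBoot Groth.Agent.Lib.helper4.AlgStBootFppf Groth.Agent.Lib.helper4.AlgStSetoid
  Groth.Agent.Lib.helper4.AlgStSelf Groth.Agent.Lib.helper4.AlgStOpenSub Groth.Agent.Lib.helper4.FibSwap in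
/-- a fully faithful functor from the classifying stack of an affine fppf group scheme to an algebraic stack, sending the
trivial torsor to a point, is a monomorphism -/
theorem isMono_of_fullyFaithful_BG (hX : AlgSt.IsAlgStack Scheme.fppfPrecoverage 𝒳)
    [IsAffineHom G.hom] (hfl : Flat G.hom) (hlfp : LocallyOfFinitePresentation G.hom)
    (j : AlgSt.BG Scheme.fppfPrecoverage G ⥤ᵇ 𝒳) [j.toFunctor.Full] [j.toFunctor.Faithful]
    (i : BasedFunctor.comp (AlgSt.quotMap Scheme.fppfPrecoverage G (AlgSt.trivAction G)) j ≅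
      BasedFunctor.comp (AlgSt.toOverCat (Over.mk (𝟙 S))) x) : AlgSt.IsMono j := by
  intro U y
  have hBG : Stk.IsStack (AlgSp.J S) (AlgSt.BG Scheme.fppfPrecoverage G) := isStack_quotSt
  have hU := isAlgStack_overCat U
  have hOg : IsFibGrpd (FibCat.overCat (𝟙_ (Over S))).p := Groth.Agent.FibOver.isFibGrpd_overCat _
  have h𝒲st : Stk.IsStack (AlgSp.J S) (fp y j) :=
    Groth.Agent.StkFp.isStack_fp y j _ hU.isStack hBG (Groth.Agent.StkFp.isPrestack_of_isStack _ hX.isStack)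
  haveI : (fpFst y j).toFunctor.Faithful := fpFst_faithful_of_faithful y j
  have hset : IsFibSetoid (fp y j).p :=
    ⟨h𝒲st.1, Groth.Agent.StkLib.thin_source (fpFst y j) (thin_overCat U)⟩
  let Q : FibCat.overCat (𝟙_ (Over S)) ⥤ᵇ AlgSt.BG Scheme.fppfPrecoverage G :=
    BasedFunctor.comp (AlgSt.ofOverCat (𝟙_ (Over S)))
      (AlgSt.quotMap Scheme.fppfPrecoverage G (AlgSt.trivAction G))
  have hQ1 : AlgSt.RepByAlgSpWith (AlgSp.LocP @Flat) Q := Groth.Agent.Lib.helper4.QuotSt5.flat_quotMap hfl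
  have hQ2 : AlgSt.RepByAlgSpWith (AlgSp.LocP @LocallyOfFinitePresentation) Q :=
    Groth.Agent.Lib.helper4.QuotSt5.lfp_quotMap hlfp
  have hQ3 : AlgSt.RepByAlgSpWith AlgSp.IsSurjectiveMor Q := Groth.Agent.Lib.helper4.QuotSt5.surjective_quotMap
  have hq1 := Groth.Agent.S12779.result hOg hBG.1 h𝒲st.1 _ Q (fpSnd y j) hQ1
  have hq2 := Groth.Agent.S12779.result hOg hBG.1 h𝒲st.1 _ Q (fpSnd y j) hQ2
  have hq3 := Groth.Agent.S12779.result hOg hBG.1 h𝒲st.1 _ Q (fpSnd y j) hQ3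
  have h𝒲' : IsFibGrpd (fp (fpSnd y j) Q).p := Groth.Agent.FibFpProj.isFibGrpd_fp _ _ h𝒲st.1 hOg hBG.1
  -- the cover is an algebraic space
  let x'' : FibCat.overCat (𝟙_ (Over S)) ⥤ᵇ 𝒳 :=
    BasedFunctor.comp (AlgSt.ofOverCat (𝟙_ (Over S))) (BasedFunctor.comp (AlgSt.toOverCat (Over.mk (𝟙 S))) x)
  have hx'' : AlgSt.RepByAlgSp (fp y x'') := (Groth.Agent.S12765.result hX.isStack.1).1 hX.diag _ x'' U y
  let jj : BasedFunctor.comp Q j ≅ x'' := whiskerLeftIso (AlgSt.ofOverCat (𝟙_ (Over S))) i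
  have h1 : AlgSt.RepByAlgSp (fp y (BasedFunctor.comp Q j)) :=
    repByAlgSp_of_isEquivOver
      (fpMap y y x'' (BasedFunctor.comp Q j) (BasedFunctor.id _) (BasedFunctor.id _) (Iso.refl _) jj.symm)
      (fpMap_isEquivOver _ _ _ _ _ _ _ _ (isEquivOver_id' _) (isEquivOver_id' _)) hx''
  obtain ⟨Gi, ⟨α⟩, ⟨β⟩⟩ := pasteR_isEquivOver y j Q
  have hrep : AlgSt.RepByAlgSp (fp (fpSnd y j) Q) :=
    repByAlgSp_of_isEquivOver Gi (isEquivOver_symm α β) h1
  obtain ⟨F, e, he⟩ := repByAlgSp_of_isFibSetoid_of_fppfCover h𝒲st hset h𝒲' hrep _ hq1 hq2 hq3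
  refine ⟨F, e, he, ?_⟩
  obtain ⟨⟨fulle, _⟩, _⟩ := of_isEquivOver e he
  haveI := fulle
  haveI : (fpFst y j).toFunctor.Full := fpFst_full_of_full y j
  haveI : (BasedFunctor.comp e (fpFst y j)).toFunctor.Full :=
    inferInstanceAs (e.toFunctor ⋙ (fpFst y j).toFunctor).Full
  change Mono _
  exact mono_spMapOfOver_of_full _

end Groth.Agent.Lib.helper4.GerbBG
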