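import Mathlib
import Groth.Agent.Lib.Helper4.GerbBG9
import Groth.Agent.Lib.Helper4.AlgStDiagSurj
import Groth.Prelude.Def_StCoarse

/-!
# Coarse moduli spaces of a gerbe and of its base (helper4)
-/

set_option backward.isDefEq.respectTransparency false
set_option backward.isDefEq.respectTransparency.types false
set_option autoImplicit false
set_option linter.style.haveILetI false
set_option linter.unusedSectionVars false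
set_option linter.unusedVariables false
set_option linter.unusedSimpArgs false

universe u

open CategoryTheory CategoryTheory.Limits AlgebraicGeometry
open AlgSt Opposite

namespace Groth.Agent.Lib.helper4.GerbCoarse

open Groth.Agent.FibEquiv Groth.Agent.Lib.helper4.FibPaste FibCat Groth.Agent.FibYoneda
open Groth.Agent.Lib.helper4.Descent

variable {S : Scheme.{u}}

/-- a covering sieve of a geometric point is the maximal sieve -/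
theorem id_mem_of_mem_J {Ω : Type u} [Field Ω] [IsAlgClosed Ω] (t : Spec (CommRingCat.of Ω) ⟶ S)
    (R : Sieve (Over.mk t)) (hR : R ∈ AlgSp.J S (Over.mk t)) : R (𝟙 (Over.mk t)) := by
  obtain ⟨R', hR', hle⟩ := Groth.Agent.Lib.Helper4.QuotGeom.exists_presieve_of_mem_J R hR
  obtain ⟨𝒰, rfl⟩ := R'.exists_eq_preZeroHypercover
  have h : (∀ x, ∃ i, x ∈ Set.range (𝒰.f i)) ∧
      ∀ i, (@Flat ⊓ @LocallyOfFinitePresentation : MorphismProperty Scheme.{u}) (𝒰.f i) :=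
    (Scheme.ofArrows_mem_precoverage_iff _).1 hR'
  obtain ⟨pt⟩ : Nonempty ↥(Spec (CommRingCat.of Ω)) := inferInstance
  obtain ⟨i, w, hw⟩ := h.1 pt
  haveI : LocallyOfFinitePresentation (𝒰.f i) := (h.2 i).2
  obtain ⟨σ, hσ⟩ := Groth.Agent.Lib.helper4.AlgStDiagSurj.exists_section_of_lft (k := Ω) (𝒰.f i) ⟨w⟩
  have h1 := hle (𝒰.f i) (Presieve.ofArrows.mk i)
  let s : Over.mk t ⟶ Over.mk (𝒰.f i ≫ (Over.mk t).hom) := Over.homMk σ (by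
    change σ ≫ 𝒰.f i ≫ t = t
    rw [← Category.assoc, hσ, Category.id_comp])
  have h2 := R.downward_closed h1 s
  have e : s ≫ (Over.homMk (𝒰.f i) : Over.mk (𝒰.f i ≫ (Over.mk t).hom) ⟶ Over.mk t) = 𝟙 _ := by
    apply Over.OverMorphism.ext
    exact hσ
  rw [e] at h2
  exact h2

theorem id_mem_of_mem_J' {Ω : Type u} [Field Ω] [IsAlgClosed Ω] (t : Spec (CommRingCat.of Ω) ⟶ S)
    (U : Over S) (hU : U = Over.mk t) (R : Sieve U) (hR : R ∈ AlgSp.J S U) : R (𝟙 U) := by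
  subst hU
  exact id_mem_of_mem_J t R hR

section FibSec

variable {𝒳 𝒴 : AlgSt.Cat S} {M : AlgSp.Sp S}

/-- a morphism of the category of a sheaf over the identity identifies the sections -/
theorem sec_eq_of_hom {T : Over S} {a b : (AlgSt.ofSp M).obj} (h : a ⟶ b) (ha : a.base = T) (hb : b.base = T)
    (hl : (AlgSt.ofSp M).p.IsHomLift (𝟙 T) h) :
    M.obj.map (eqToHom ha.symm).op a.sec = M.obj.map (eqToHom hb.symm).op b.sec := by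
  obtain ⟨Ta, sa⟩ := a
  obtain ⟨Tb, sb⟩ := b
  change Ta = T at ha
  subst ha
  change Tb = Ta at hb
  subst hb
  have hh : h.hom = 𝟙 _ := by
    have := IsHomLift.fac' (AlgSt.ofSp M).p (𝟙 Tb) h
    simpa using this
  have := h.map_sec
  rw [hh] at this
  change M.obj.map (𝟙 Tb).op sb = sa at this
  change M.obj.map (𝟙 Tb).op sa = M.obj.map (𝟙 Tb).op sb
  rw [this]
  simp

theorem fibSec_eq_of_hom (π : 𝒴 ⥤ᵇ AlgSt.ofSp M) {T : Over S} (y y' : 𝒴.p.Fiber T) (b : y.1 ⟶ y'.1)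
    (hb : 𝒴.p.IsHomLift (𝟙 T) b) : AlgSt.fibSec π y = AlgSt.fibSec π y' :=
  sec_eq_of_hom (π.map b) ((π.w_obj y.1).trans y.2) ((π.w_obj y'.1).trans y'.2) (π.preserves_isHomLift _ _)

theorem fibSec_eq_of_iso {φ φ' : 𝒳 ⥤ᵇ AlgSt.ofSp M} (i : φ ≅ φ') {T : Over S} (x : 𝒳.p.Fiber T) :
    AlgSt.fibSec φ x = AlgSt.fibSec φ' x := by
  have h := appIso_isHomLift i x.1
  have h' : (AlgSt.ofSp M).p.IsHomLift (𝟙 T) (appIso i x.1).hom := isHomLift_of_eq _ x.2 _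
  exact sec_eq_of_hom (appIso i x.1).hom ((φ.w_obj x.1).trans x.2) ((φ'.w_obj x.1).trans x.2) h'

/-- the image of an object of a fibre -/
def mapFib (F : 𝒳 ⥤ᵇ 𝒴) {T : Over S} (x : 𝒳.p.Fiber T) : 𝒴.p.Fiber T := ⟨F.obj x.1, (F.w_obj x.1).trans x.2⟩

theorem fibSec_comp (F : 𝒳 ⥤ᵇ 𝒴) (π : 𝒴 ⥤ᵇ AlgSt.ofSp M) {T : Over S} (x : 𝒳.p.Fiber T) :
    AlgSt.fibSec (BasedFunctor.comp F π) x = AlgSt.fibSec π (mapFib F x) := rfl

end FibSec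

section GeomLift

variable {𝒳 𝒴 : AlgSt.Cat S} (F : 𝒳 ⥤ᵇ 𝒴) (hF : Gerb.IsGerbeOver (AlgSp.J S) F)
  {Ω : Type u} [Field Ω] [IsAlgClosed Ω] (t : Spec (CommRingCat.of Ω) ⟶ S)

/-- an isomorphism of a fibre from a morphism over the identity (fibred in groupoids) -/
noncomputable def fibIsoOfHom (h𝒳 : IsFibGrpd 𝒳.p) {T : Over S} (x x' : 𝒳.p.Fiber T) (a : x.1 ⟶ x'.1)
    (ha : 𝒳.p.IsHomLift (𝟙 T) a) : x ≅ x' :=
  haveI := isIso_of_lift h𝒳 (𝟙 T) a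
  fiberIsoMk 𝒳.p (asIso a) ha

include hF in
/-- over a geometric point every object of the base of a gerbe lifts -/
theorem exists_lift_obj (y : 𝒴.p.Fiber (Over.mk t)) :
    ∃ (x : 𝒳.p.Fiber (Over.mk t)) (g : F.obj x.1 ⟶ y.1), 𝒴.p.IsHomLift (𝟙 (Over.mk t)) g := by
  obtain ⟨R, hR, H⟩ := hF.1 y.1
  have h1 := id_mem_of_mem_J' t _ y.2 R hR
  obtain ⟨x, g, hg⟩ := H _ h1
  have hx : 𝒳.p.obj x = Over.mk t :=
    ((F.w_obj x).symm.trans (IsHomLift.domain_eq 𝒴.p (𝟙 (𝒴.p.obj y.1)) g)).trans y.2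
  refine ⟨⟨x, hx⟩, g, ?_⟩
  exact isHomLift_of_eq 𝒴.p y.2 g

include hF in
/-- over a geometric point objects of a gerbe with isomorphic images are isomorphic -/
theorem nonempty_iso_of_hom (h𝒳 : IsFibGrpd 𝒳.p) (x x' : 𝒳.p.Fiber (Over.mk t)) (b : F.obj x.1 ⟶ F.obj x'.1)
    (hb : 𝒴.p.IsHomLift (𝟙 (Over.mk t)) b) : Nonempty (x ≅ x') := by
  have hb' : 𝒴.p.IsHomLift (𝟙 (𝒳.p.obj x.1)) b := isHomLift_of_eq 𝒴.p x.2.symm b
  obtain ⟨R, hR, H⟩ := hF.2 x.1 x'.1 b hb'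
  have h1 := id_mem_of_mem_J' t _ x.2 R hR
  obtain ⟨x₀, φ, ψ, hφ, hψ, -⟩ := H _ h1
  haveI := isIso_of_lift h𝒳 (𝟙 (𝒳.p.obj x.1)) φ
  have hinv : 𝒳.p.IsHomLift (𝟙 (𝒳.p.obj x.1)) (inv φ) := IsHomLift.lift_id_inv_isIso 𝒳.p _ φ
  have hc : 𝒳.p.IsHomLift (𝟙 (𝒳.p.obj x.1) ≫ 𝟙 (𝒳.p.obj x.1)) (inv φ ≫ ψ) := inferInstance
  rw [Category.id_comp] at hc
  have hc' : 𝒳.p.IsHomLift (𝟙 (Over.mk t)) (inv φ ≫ ψ) := isHomLift_of_eq 𝒳.p x.2 _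
  exact ⟨fibIsoOfHom h𝒳 x x' (inv φ ≫ ψ) hc'⟩

end GeomLift

section Main

variable {𝒳 𝒴 : AlgSt.Cat S} (h𝒳 : IsFibGrpd 𝒳.p) (h𝒴 : IsFibGrpd 𝒴.p) (F : 𝒳 ⥤ᵇ 𝒴)
  (hF : Gerb.IsGerbeOver (AlgSp.J S) F)
  (huniv : ∀ (N : AlgSp.Sp S), AlgSp.IsAlgSpace N → ∀ φ : 𝒳 ⥤ᵇ AlgSt.ofSp N,
      ∃ ψ : 𝒴 ⥤ᵇ AlgSt.ofSp N, Nonempty (BasedFunctor.comp F ψ ≅ φ) ∧
        ∀ ψ' : 𝒴 ⥤ᵇ AlgSt.ofSp N, Nonempty (BasedFunctor.comp F ψ' ≅ φ) → Nonempty (ψ' ≅ ψ))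

include h𝒳 hF huniv in
/-- a coarse moduli space of the base of a gerbe is one of the gerbe -/
theorem isCoarseModuli_comp {M : AlgSp.Sp S} (π : 𝒴 ⥤ᵇ AlgSt.ofSp M) (hπ : AlgSt.IsCoarseModuli π) :
    AlgSt.IsCoarseModuli (BasedFunctor.comp F π) := by
  refine ⟨⟨hπ.1.1, ?_⟩, ?_⟩
  · intro N hN φ
    obtain ⟨ψ, ⟨i1⟩, huniq⟩ := huniv N hN φ
    obtain ⟨g, ⟨i2⟩, hg⟩ := hπ.1.2 N hN ψ
    refine ⟨g, ⟨(whiskerLeftIso F i2).trans i1⟩, ?_⟩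
    rintro g' ⟨i3⟩
    exact hg g' (huniq (BasedFunctor.comp π (AlgSt.ofSpMap g')) ⟨i3⟩)
  · intro Ω _ _ t
    obtain ⟨h1, h2⟩ := hπ.2 Ω t
    constructor
    · intro m
      obtain ⟨y, hy⟩ := h1 m
      obtain ⟨x, g, hg⟩ := exists_lift_obj F hF t y
      refine ⟨x, ?_⟩
      rw [fibSec_comp, ← hy]
      exact fibSec_eq_of_hom π (mapFib F x) y g hg
    · intro x x' h
      rw [fibSec_comp, fibSec_comp] at h
      obtain ⟨e⟩ := h2 _ _ h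
      exact nonempty_iso_of_hom F hF t h𝒳 x x' e.hom.1 e.hom.2

include h𝒴 hF huniv in
/-- a coarse moduli space of a gerbe descends to its base -/
theorem isCoarseModuli_of_comp {M : AlgSp.Sp S} (π' : 𝒳 ⥤ᵇ AlgSt.ofSp M) (hπ' : AlgSt.IsCoarseModuli π')
    (ψ : 𝒴 ⥤ᵇ AlgSt.ofSp M) (i1 : BasedFunctor.comp F ψ ≅ π') : AlgSt.IsCoarseModuli ψ := by
  refine ⟨⟨hπ'.1.1, ?_⟩, ?_⟩
  · intro N hN φ
    obtain ⟨g, ⟨i2⟩, hg⟩ := hπ'.1.2 N hN (BasedFunctor.comp F φ)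
    obtain ⟨ψ₂, ⟨j1⟩, huniq₂⟩ := huniv N hN (BasedFunctor.comp F φ)
    obtain ⟨k1⟩ := huniq₂ φ ⟨Iso.refl _⟩
    have i4 : BasedFunctor.comp F (BasedFunctor.comp ψ (AlgSt.ofSpMap g)) ≅ BasedFunctor.comp F φ :=
      (Groth.Agent.Lib.helper4.AlgStRep.whiskerRightIso i1 (AlgSt.ofSpMap g)).trans i2
    obtain ⟨k2⟩ := huniq₂ (BasedFunctor.comp ψ (AlgSt.ofSpMap g)) ⟨i4⟩
    refine ⟨g, ⟨k2.trans k1.symm⟩, ?_⟩
    rintro g' ⟨i3⟩
    apply hg g'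
    exact ⟨(Groth.Agent.Lib.helper4.AlgStRep.whiskerRightIso i1.symm (AlgSt.ofSpMap g')).trans
      (whiskerLeftIso F i3)⟩
  · intro Ω _ _ t
    obtain ⟨h1, h2⟩ := hπ'.2 Ω t
    constructor
    · intro m
      obtain ⟨x, hx⟩ := h1 m
      refine ⟨mapFib F x, ?_⟩
      rw [← fibSec_comp, fibSec_eq_of_iso i1, hx]
    · intro y y' h
      obtain ⟨x, g, hg⟩ := exists_lift_obj F hF t y
      obtain ⟨x', g', hg'⟩ := exists_lift_obj F hF t y'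
      have e1 : AlgSt.fibSec π' x = AlgSt.fibSec π' x' := by
        rw [← fibSec_eq_of_iso i1, ← fibSec_eq_of_iso i1, fibSec_comp, fibSec_comp,
          fibSec_eq_of_hom ψ (mapFib F x) y g hg, fibSec_eq_of_hom ψ (mapFib F x') y' g' hg', h]
      obtain ⟨e⟩ := h2 x x' e1
      haveI := isIso_of_lift h𝒴 (𝟙 (Over.mk t)) g
      have hinv : 𝒴.p.IsHomLift (𝟙 (Over.mk t)) (inv g) := IsHomLift.lift_id_inv_isIso 𝒴.p _ g
      have he : 𝒳.p.IsHomLift (𝟙 (Over.mk t)) e.hom.1 := e.hom.2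
      have hFe : 𝒴.p.IsHomLift (𝟙 (Over.mk t)) (F.map e.hom.1) := F.preserves_isHomLift _ _
      have hc : 𝒴.p.IsHomLift (𝟙 (Over.mk t) ≫ 𝟙 (Over.mk t) ≫ 𝟙 (Over.mk t)) (inv g ≫ F.map e.hom.1 ≫ g') :=
        inferInstance
      rw [Category.id_comp, Category.id_comp] at hc
      exact ⟨fibIsoOfHom h𝒴 y y' (inv g ≫ F.map e.hom.1 ≫ g') hc⟩

end Main

end Groth.Agent.Lib.helper4.GerbCoarse
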