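import Groth.Agent.Lib.Helper4.MagicSq
import Groth.Agent.Lib.Helper4.GerbBC
import Groth.Agent.Lib.Helper4.Descent
import Groth.Agent.FibFp
set_option autoImplicit false
set_option backward.isDefEq.respectTransparency false
set_option backward.isDefEq.respectTransparency.types false
set_option linter.unusedVariables false
set_option linter.style.haveILetI false
open CategoryTheory CategoryTheory.Functor CategoryTheory.Limits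
universe v₇ u₇ v₆ u₆ v₅ u₅ v₄ u₄ v₃ u₃ v₂ u₂ v u

/-! Fibre products of gerbes: if `f : 𝒳 ⟶ 𝒵` and `g : 𝒴 ⟶ 𝒵` are gerbes then so is
`𝒳 ×_𝒯 𝒴 ⟶ 𝒵 ×_𝒯 𝒵` for every `t : 𝒵 ⟶ 𝒯` with `𝒯` fibred in groupoids. -/

namespace Groth.Agent.Lib.helper4.GerbProd
open Groth.Agent.FibEquiv Groth.Agent.Lib.helper4.FibPaste Groth.Agent.Lib.helper4.DiagBC FibCat
open Groth.Agent.Lib.helper4.MagicSq Groth.Agent.Lib.helper4.GerbBC Groth.Agent.Lib.helper4.Descent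

variable {C : Type u} [Category.{v} C] (J : GrothendieckTopology C)
  {𝒳 : BasedCategory.{v₂, u₂} C} {𝒴 : BasedCategory.{v₃, u₃} C} {𝒵 : BasedCategory.{v₄, u₄} C}
  {𝒯 : BasedCategory.{v₅, u₅} C}
  (f : 𝒳 ⥤ᵇ 𝒵) (g : 𝒴 ⥤ᵇ 𝒵) (t : 𝒵 ⥤ᵇ 𝒯)

theorem locSurjObj_Φ (h𝒯 : IsFibGrpd 𝒯.p) (hf : Gerb.LocSurjObj J f) (hg : Gerb.LocSurjObj J g) :
    Gerb.LocSurjObj J (Φ f g t) := by
  intro η
  obtain ⟨R₁, hR₁, h₁⟩ := hf η.obj.fst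
  obtain ⟨R₂, hR₂, h₂⟩ := hg η.obj.snd
  have e₂ : 𝒵.p.obj η.obj.snd = 𝒵.p.obj η.obj.fst := fp_snd_obj t t η
  refine ⟨R₁ ⊓ R₂.pullback (eqToHom e₂.symm), J.intersection_covering hR₁ (J.pullback_stable _ hR₂), ?_⟩
  intro V c hc
  obtain ⟨x, a, ha⟩ := h₁ c hc.1
  obtain ⟨y, b, hb0⟩ := h₂ (c ≫ eqToHom e₂.symm) hc.2
  have hb : 𝒵.p.IsHomLift c b := isHomLift_of_comp_eqToHom 𝒵.p e₂ c b hb0
  have hV : 𝒳.p.obj x = V := (f.w_obj x).symm.trans (IsHomLift.domain_eq 𝒵.p c a)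
  subst hV
  have hta : 𝒯.p.IsHomLift c (t.map a) := inferInstance
  have hφ : 𝒯.p.IsHomLift (𝟙 (𝒵.p.obj η.obj.fst)) η.obj.iso.hom := η.property
  have htaφ : 𝒯.p.IsHomLift (c ≫ 𝟙 (𝒵.p.obj η.obj.fst)) (t.map a ≫ η.obj.iso.hom) := inferInstance
  have htb : 𝒯.p.IsHomLift c (t.map b) := inferInstance
  obtain ⟨ψ, hψ, hψfac⟩ := exists_factor h𝒯 c (t.map b) (𝟙 _) (c ≫ 𝟙 (𝒵.p.obj η.obj.fst))
    ((Category.comp_id _).trans (Category.id_comp _).symm) (t.map a ≫ η.obj.iso.hom)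
  haveI : IsIso ψ := isIso_of_lift h𝒯 (𝟙 (𝒳.p.obj x)) ψ
  let ξ : (fp (BasedFunctor.comp f t) (BasedFunctor.comp g t)).obj := ⟨⟨x, y, asIso ψ⟩, hψ⟩
  refine ⟨ξ, fpHomMk t t a b hψfac.symm, ?_⟩
  apply Groth.Agent.FibFp.lift_to
  exact ha

theorem locSurjHom_Φ (h𝒯 : IsFibGrpd 𝒯.p) (hf : Gerb.LocSurjHom J f) (hg : Gerb.LocSurjHom J g) :
    Gerb.LocSurjHom J (Φ f g t) := by
  intro ξ ξ' β hβ
  have hβ' : (fp t t).p.IsHomLift (𝟙 (𝒳.p.obj ξ.obj.fst)) β := hβ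
  have hβ₁ : 𝒵.p.IsHomLift (𝟙 (𝒳.p.obj ξ.obj.fst)) ((fpFst t t).map β) := inferInstance
  have hβ₂ : 𝒵.p.IsHomLift (𝟙 (𝒳.p.obj ξ.obj.fst)) ((fpSnd t t).map β) := inferInstance
  have e₂ : 𝒴.p.obj ξ.obj.snd = 𝒳.p.obj ξ.obj.fst :=
    fp_snd_obj (BasedFunctor.comp f t) (BasedFunctor.comp g t) ξ
  have hβ₂'' : 𝒵.p.IsHomLift (𝟙 (𝒳.p.obj ξ.obj.fst)) β.hom.snd := hβ₂
  have hβ₂' : 𝒵.p.IsHomLift (𝟙 (𝒴.p.obj ξ.obj.snd)) β.hom.snd :=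
    Groth.Agent.FibEquiv.isHomLift_of_eq 𝒵.p e₂.symm _
  obtain ⟨R₁, hR₁, h₁⟩ := hf ξ.obj.fst ξ'.obj.fst β.hom.fst hβ₁
  obtain ⟨R₂, hR₂, h₂⟩ := hg ξ.obj.snd ξ'.obj.snd β.hom.snd hβ₂'
  refine ⟨R₁ ⊓ R₂.pullback (eqToHom e₂.symm), J.intersection_covering hR₁ (J.pullback_stable _ hR₂), ?_⟩
  intro V c hc
  obtain ⟨x₀, φ₁, φ₁', hφ₁, hφ₁', hcomm₁⟩ := h₁ c hc.1
  obtain ⟨y₀, φ₂, φ₂', hφ₂0, hφ₂'0, hcomm₂⟩ := h₂ (c ≫ eqToHom e₂.symm) hc.2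
  have hφ₂ : 𝒴.p.IsHomLift c φ₂ := isHomLift_of_comp_eqToHom 𝒴.p e₂ c φ₂ hφ₂0
  have hφ₂' : 𝒴.p.IsHomLift c φ₂' := isHomLift_of_comp_eqToHom 𝒴.p e₂ c φ₂' hφ₂'0
  have hV : 𝒳.p.obj x₀ = V := IsHomLift.domain_eq 𝒳.p c φ₁
  subst hV
  have h1 : 𝒯.p.IsHomLift c (t.map (f.map φ₁)) := inferInstance
  have hψ : 𝒯.p.IsHomLift (𝟙 (𝒳.p.obj ξ.obj.fst)) ξ.obj.iso.hom := ξ.property
  have h2 : 𝒯.p.IsHomLift (c ≫ 𝟙 (𝒳.p.obj ξ.obj.fst)) (t.map (f.map φ₁) ≫ ξ.obj.iso.hom) := inferInstance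
  have h3 : 𝒯.p.IsHomLift c (t.map (g.map φ₂)) := inferInstance
  obtain ⟨ψ₀, hψ₀, hψ₀fac⟩ := exists_factor h𝒯 c (t.map (g.map φ₂)) (𝟙 _) (c ≫ 𝟙 (𝒳.p.obj ξ.obj.fst))
    ((Category.comp_id _).trans (Category.id_comp _).symm) (t.map (f.map φ₁) ≫ ξ.obj.iso.hom)
  haveI : IsIso ψ₀ := isIso_of_lift h𝒯 (𝟙 (𝒳.p.obj x₀)) ψ₀
  let ξ₀ : (fp (BasedFunctor.comp f t) (BasedFunctor.comp g t)).obj := ⟨⟨x₀, y₀, asIso ψ₀⟩, hψ₀⟩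
  have hw : t.map β.hom.fst ≫ ξ'.obj.iso.hom = ξ.obj.iso.hom ≫ t.map β.hom.snd := β.hom.w
  have w' : t.map (f.map φ₁') ≫ ξ'.obj.iso.hom = ψ₀ ≫ t.map (g.map φ₂') := by
    rw [← hcomm₁, ← hcomm₂, t.toFunctor.map_comp, t.toFunctor.map_comp, Category.assoc, hw,
      ← Category.assoc, ← hψ₀fac, Category.assoc]
  refine ⟨ξ₀, fpHomMk _ _ φ₁ φ₂ hψ₀fac.symm, fpHomMk _ _ φ₁' φ₂' w',
    Groth.Agent.FibFp.lift_to _ _ c _ hφ₁, Groth.Agent.FibFp.lift_to _ _ c _ hφ₁', ?_⟩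
  apply fp_hom_ext
  · exact hcomm₁
  · exact hcomm₂

theorem isGerbeOver_Φ (h𝒯 : IsFibGrpd 𝒯.p) (hf : Gerb.IsGerbeOver J f) (hg : Gerb.IsGerbeOver J g) :
    Gerb.IsGerbeOver J (Φ f g t) :=
  ⟨locSurjObj_Φ J f g t h𝒯 hf.1 hg.1, locSurjHom_Φ J f g t h𝒯 hf.2 hg.2⟩

end Groth.Agent.Lib.helper4.GerbProd
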