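import Mathlib
import Groth.Agent.Lib.Helper4.GerbCoarse
import Groth.Agent.Lib.Helper4.AlgStQCTop
import Groth.Agent.Lib.Helper4.AlgStOpenSub4
import Groth.Agent.Lib.Helper4.AlgStBoot3
import Groth.Agent.Lib.Helper5.ResidualSp1

/-!
# Residual gerbes of gerbes over algebraic spaces (helper4)

* `exists_field_mem_of_mem_J`: a covering sieve of the spectrum of a field contains a morphism from the spectrum of a field.
* `map_injective_of_locSurjHom`: a functor between categories fibred in groupoids along which morphisms between images lift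
  locally (second gerbe condition) is injective on points.
* `ofSpMap_full`, `ofSpMap_faithful`: the functor of a monomorphism of sheaves is fully faithful.
* `resGerbeExists_of_locSurjHom`: S16871.
-/

set_option backward.isDefEq.respectTransparency false
set_option backward.isDefEq.respectTransparency.types false
set_option autoImplicit false
set_option linter.style.haveILetI false
set_option linter.unusedSectionVars false
set_option linter.unusedVariables false
set_option linter.unusedSimpArgs false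

universe u

open CategoryTheory CategoryTheory.Limits AlgebraicGeometry
open AlgSt Opposite

namespace Groth.Agent.Lib.helper4.GerbRes

open Groth.Agent.FibEquiv Groth.Agent.Lib.helper4.FibPaste FibCat Groth.Agent.FibYoneda
open Groth.Agent.Lib.helper4.Descent Groth.Agent.Lib.helper4.PointsBasic Groth.Agent.Lib.helper4.AlgStPts

variable {S : Scheme.{u}}

/-- a covering sieve of the spectrum of a field contains a morphism from the spectrum of a field -/
theorem exists_field_mem_of_mem_J {K : Type u} [Field K] (t : Spec (CommRingCat.of K) ⟶ S)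
    (R : Sieve (Over.mk t)) (hR : R ∈ AlgSp.J S (Over.mk t)) :
    ∃ (L : Type u) (_ : Field L) (s : Spec (CommRingCat.of L) ⟶ S) (f : Over.mk s ⟶ Over.mk t), R f := by
  obtain ⟨R', hR', hle⟩ := Groth.Agent.Lib.Helper4.QuotGeom.exists_presieve_of_mem_J R hR
  obtain ⟨𝒰, rfl⟩ := R'.exists_eq_preZeroHypercover
  have h : (∀ x, ∃ i, x ∈ Set.range (𝒰.f i)) ∧
      ∀ i, (@Flat ⊓ @LocallyOfFinitePresentation : MorphismProperty Scheme.{u}) (𝒰.f i) :=
    (Scheme.ofArrows_mem_precoverage_iff _).1 hR'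
  obtain ⟨pt⟩ : Nonempty ↥(Spec (CommRingCat.of K)) := inferInstance
  obtain ⟨i, w, hw⟩ := h.1 pt
  have h1 := hle (𝒰.f i) (Presieve.ofArrows.mk i)
  let s : Spec (CommRingCat.of ↥((𝒰.X i).residueField w)) ⟶ S :=
    (𝒰.X i).fromSpecResidueField w ≫ 𝒰.f i ≫ t
  let g : Over.mk s ⟶ Over.mk (𝒰.f i ≫ (Over.mk t).hom) :=
    Over.homMk ((𝒰.X i).fromSpecResidueField w) rfl
  exact ⟨↥((𝒰.X i).residueField w), inferInstance, s,
    g ≫ (Over.homMk (𝒰.f i) : Over.mk (𝒰.f i ≫ (Over.mk t).hom) ⟶ Over.mk t), R.downward_closed h1 g⟩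

theorem exists_field_mem_of_mem_J' {K : Type u} [Field K] (t : Spec (CommRingCat.of K) ⟶ S)
    (U : Over S) (hU : U = Over.mk t) (R : Sieve U) (hR : R ∈ AlgSp.J S U) :
    ∃ (L : Type u) (_ : Field L) (s : Spec (CommRingCat.of L) ⟶ S) (f : Over.mk s ⟶ U), R f := by
  subst hU
  exact exists_field_mem_of_mem_J t R hR

/-- a functor between categories fibred in groupoids along which morphisms between images lift locally is injective on
points -/
theorem map_injective_of_locSurjHom {𝒳 𝒴 : AlgSt.Cat S} (h𝒳 : IsFibGrpd 𝒳.p) (h𝒴 : IsFibGrpd 𝒴.p)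
    (F : 𝒳 ⥤ᵇ 𝒴) (hF : Gerb.LocSurjHom (AlgSp.J S) F) : Function.Injective (Points.map F) := by
  intro z z' h
  obtain ⟨p, rfl⟩ := Points.mk_surjective z
  obtain ⟨p', rfl⟩ := Points.mk_surjective z'
  have hrel : AlgSt.FPt.Rel (p.map F) (p'.map F) :=
    (Groth.Agent.S12817.result 𝒴 h𝒴).eqvGen_iff.mp (Quot.eqvGen_exact h)
  obtain ⟨r, α, β, -⟩ := hrel
  have hr : 𝒴.p.obj r.obj = Over.mk r.str := r.lies
  have hp : 𝒴.p.obj (F.obj p.obj) = 𝒳.p.obj p.obj := F.w_obj p.obj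
  have hp' : 𝒴.p.obj (F.obj p'.obj) = 𝒳.p.obj p'.obj := F.w_obj p'.obj
  let g₁ : Over.mk r.str ⟶ 𝒳.p.obj p.obj := eqToHom hr.symm ≫ 𝒴.p.map α ≫ eqToHom hp
  let g₂ : Over.mk r.str ⟶ 𝒳.p.obj p'.obj := eqToHom hr.symm ≫ 𝒴.p.map β ≫ eqToHom hp'
  have hα : 𝒴.p.IsHomLift g₁ α := IsHomLift.of_fac _ _ _ hr hp rfl
  have hβ : 𝒴.p.IsHomLift g₂ β := IsHomLift.of_fac _ _ _ hr hp' rfl
  obtain ⟨s₁, ψ₁, hψ₁⟩ := h𝒳.exists_lift (x := p.obj) g₁
  obtain ⟨s₂, ψ₂, hψ₂⟩ := h𝒳.exists_lift (x := p'.obj) g₂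
  have hψ₁' : 𝒴.p.IsHomLift g₁ (F.toFunctor.map ψ₁) := F.preserves_isHomLift g₁ ψ₁
  have hψ₂' : 𝒴.p.IsHomLift g₂ (F.toFunctor.map ψ₂) := F.preserves_isHomLift g₂ ψ₂
  haveI := h𝒴
  obtain ⟨ι₁, hι₁⟩ := exists_iso_of_lifts 𝒴.p g₁ (F.toFunctor.map ψ₁) α
  obtain ⟨ι₂, hι₂⟩ := exists_iso_of_lifts 𝒴.p g₂ β (F.toFunctor.map ψ₂)
  have hs₁ : 𝒳.p.obj s₁ = Over.mk r.str := IsHomLift.domain_eq 𝒳.p g₁ ψ₁
  have hb : 𝒴.p.IsHomLift (𝟙 (Over.mk r.str)) (ι₁.hom ≫ ι₂.hom) := by
    have : 𝒴.p.IsHomLift (𝟙 (Over.mk r.str) ≫ 𝟙 (Over.mk r.str)) (ι₁.hom ≫ ι₂.hom) := inferInstance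
    simpa using this
  have hb' : 𝒴.p.IsHomLift (𝟙 (𝒳.p.obj s₁)) (ι₁.hom ≫ ι₂.hom) :=
    isHomLift_id_of_eq 𝒴.p hs₁.symm _ hb
  obtain ⟨R, hR, hRf⟩ := hF s₁ s₂ (ι₁.hom ≫ ι₂.hom) hb'
  obtain ⟨L, instL, s, f, hf⟩ := exists_field_mem_of_mem_J' r.str _ hs₁ R hR
  obtain ⟨x₀, φ, ψ, hφ, hψ, -⟩ := hRf f hf
  let q : AlgSt.FPt 𝒳 := { K := L, str := s, obj := x₀, lies := IsHomLift.domain_eq 𝒳.p f φ }
  exact Points.sound ⟨q, φ ≫ ψ₁, ψ ≫ ψ₂, trivial⟩

/-- the functor of a map of sheaves is faithful -/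
instance ofSpMap_faithful {F G : AlgSp.Sp S} (a : F ⟶ G) : (AlgSt.ofSpMap a).toFunctor.Faithful where
  map_injective {x y} f g h := by
    apply Stk.EltObj.Hom.ext
    have h' := congrArg (fun m => Stk.EltObj.Hom.hom m) h
    exact h'

/-- the functor of a monomorphism of sheaves is full -/
theorem ofSpMap_full {F G : AlgSp.Sp S} (a : F ⟶ G) [Mono a] : (AlgSt.ofSpMap a).toFunctor.Full where
  map_surjective {x y} f := by
    refine ⟨⟨f.hom, ?_⟩, ?_⟩
    · apply Groth.Agent.Lib.helper4.AlgStFull.injective_of_mono a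
      have h1 := f.map_sec
      change G.obj.map f.hom.op (a.hom.app _ y.sec) = a.hom.app _ x.sec at h1
      rw [← h1]
      exact NatTrans.naturality_apply a.hom f.hom.op y.sec
    · apply Stk.EltObj.Hom.ext
      rfl

section Main

variable {𝒳 : AlgSt.Cat S} (h𝒳 : AlgSt.IsAlgStack Scheme.fppfPrecoverage 𝒳)
  (X : AlgSp.Space S) (π : 𝒳 ⥤ᵇ AlgSt.ofSp X.obj)
include h𝒳

/-- S16871 (only the second gerbe condition is used): the residual gerbe of an algebraic stack `𝒳` with a functor to an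
algebraic space along which morphisms between images lift locally exists at every point: it is `𝒳 ×_X Z` with `Z` the
residual space of the image point. -/
theorem resGerbeExists_of_locSurjHom (hπ : Gerb.LocSurjHom (AlgSp.J S) π) (x : AlgSt.Points 𝒳) :
    Gerb.ResGerbeExists Scheme.fppfPrecoverage 𝒳 x := by
  obtain ⟨Z, i, hmono, hrange, -⟩ :=
    Groth.Agent.Lib.helper5.ResidualSp.exists_residualSpace X (ptsEquiv X.obj (Points.map π x))
  haveI : Mono i.hom := hmono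
  have hZ : AlgSt.IsAlgStack Scheme.fppfPrecoverage (AlgSt.ofSp Z.obj) :=
    Groth.Agent.Lib.helper4.AlgStSelf.isAlgStack_ofSp Z
  have hX : AlgSt.IsAlgStack Scheme.fppfPrecoverage (AlgSt.ofSp X.obj) :=
    Groth.Agent.Lib.helper4.AlgStSelf.isAlgStack_ofSp X
  have halg : AlgSt.IsAlgStack Scheme.fppfPrecoverage (fp π (AlgSt.ofSpMap i.hom)) :=
    Groth.Agent.Lib.helper4.AlgStSelf.isAlgStack_fp' h𝒳 hZ hX π (AlgSt.ofSpMap i.hom)
  haveI : (AlgSt.ofSpMap i.hom).toFunctor.Full := ofSpMap_full i.hom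
  haveI : (fpFst π (AlgSt.ofSpMap i.hom)).toFunctor.Full :=
    Groth.Agent.Lib.helper4.AlgStBoot.fpFst_full_of_full π (AlgSt.ofSpMap i.hom)
  haveI : (fpFst π (AlgSt.ofSpMap i.hom)).toFunctor.Faithful :=
    Groth.Agent.Lib.helper4.AlgStOpenSub.fpFst_faithful_of_faithful π (AlgSt.ofSpMap i.hom)
  have hmonoj : AlgSt.IsMono (fpFst π (AlgSt.ofSpMap i.hom)) :=
    Groth.Agent.Lib.helper4.AlgStBoot.isMono_of_full_of_faithful halg h𝒳 _
  have hinjj : Function.Injective (Points.map (fpFst π (AlgSt.ofSpMap i.hom))) :=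
    Groth.Agent.Lib.helper4.AlgStQCTop.map_injective_of_full halg.isStack.1 h𝒳.isStack.1 _
  have hinjπ : Function.Injective (Points.map π) :=
    map_injective_of_locSurjHom h𝒳.isStack.1 hX.isStack.1 π hπ
  -- every point of the fibre product maps to `x`
  have key : ∀ w : AlgSt.Points (fp π (AlgSt.ofSpMap i.hom)),
      Points.map (fpFst π (AlgSt.ofSpMap i.hom)) w = x := by
    intro w
    apply hinjπ
    apply (ptsEquiv X.obj).injective
    have h1 : Points.map π (Points.map (fpFst π (AlgSt.ofSpMap i.hom)) w) =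
        Points.map (AlgSt.ofSpMap i.hom) (Points.map (fpSnd π (AlgSt.ofSpMap i.hom)) w) := by
      rw [← map_comp, ← map_comp]
      exact map_congr_iso (fpIso π (AlgSt.ofSpMap i.hom)) w
    rw [h1, ptsEquiv_map]
    have h2 : AlgSp.Points.map i.hom (ptsEquiv Z.obj (Points.map (fpSnd π (AlgSt.ofSpMap i.hom)) w)) ∈
        Set.range (AlgSp.Points.map i.hom) := ⟨_, rfl⟩
    rw [hrange] at h2
    exact h2
  -- the fibre product has a point
  have hne : Nonempty (AlgSt.Points (fp π (AlgSt.ofSpMap i.hom))) := by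
    have h2 : ptsEquiv X.obj (Points.map π x) ∈ Set.range (AlgSp.Points.map i.hom) := by
      rw [hrange]; rfl
    obtain ⟨zb, hzb⟩ := h2
    have h3 : Points.map π x = Points.map (AlgSt.ofSpMap i.hom) ((ptsEquiv Z.obj).symm zb) := by
      apply (ptsEquiv X.obj).injective
      rw [ptsEquiv_map, Equiv.apply_symm_apply, hzb]
    obtain ⟨w, -, -⟩ := exists_points_fp hZ.isStack.1 hX.isStack.1 h𝒳.isStack.1
      (AlgSt.ofSpMap i.hom) π x ((ptsEquiv Z.obj).symm zb) h3
    exact ⟨w⟩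
  refine ⟨fp π (AlgSt.ofSpMap i.hom), fpFst π (AlgSt.ofSpMap i.hom), halg, hmonoj, hne, ⟨fun w w' => ?_⟩, key⟩
  apply hinjj
  rw [key w, key w']

end Main

end Groth.Agent.Lib.helper4.GerbRes
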