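import Mathlib
import Groth.Agent.Lib.Helper4.GerbSection2
import Groth.Agent.Lib.Helper4.AlgStLocQ5

/-!
# Gerbes are universal homeomorphisms (helper4)
-/

set_option backward.isDefEq.respectTransparency false
set_option backward.isDefEq.respectTransparency.types false
set_option autoImplicit false
set_option linter.style.haveILetI false
set_option linter.unusedSectionVars false
set_option linter.unusedVariables false
set_option linter.unusedSimpArgs false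

universe u

open CategoryTheory CategoryTheory.Limits AlgebraicGeometry
open AlgSt Opposite

namespace Groth.Agent.Lib.helper4.GerbSection

open Groth.Agent.FibEquiv Groth.Agent.FibYoneda FibCat Groth.Agent.Lib.helper4.FibPaste Groth.Agent.Lib.helper4.AlgStEquiv
open Groth.Agent.FibFpProj Groth.Agent.Lib.helper4.AlgStLocQ Groth.Agent.Lib.helper4.SmLocalST
open Groth.Agent.Lib.helper4.AlgStSource Groth.Agent.Lib.helper4.AlgStSelf
open Groth.Agent.Lib.helper4.AlgStPts Groth.Agent.Lib.helper4.PointsBasic Groth.Agent.Lib.helper5.LocPBC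
open Groth.Agent.Lib.helper4.AlgStLocSurj Groth.Agent.Lib.helper4.AlgStDiag
open Groth.Agent.Lib.helper4.AlgStSourceFam Groth.Agent.Lib.helper4.AlgStSectionR
open Groth.Agent.Lib.helper4.AlgStNoethDiag Groth.Agent.Lib.helper4.GerbBC

variable {S : Scheme.{u}}

/-- a morphism whose diagonal is surjective on points is injective on points -/
theorem injective_of_isSurjective_diag {𝒳 𝒴 : AlgSt.Cat S} (h𝒳 : IsFibGrpd 𝒳.p) (h𝒴 : IsFibGrpd 𝒴.p)
    (f : 𝒳 ⥤ᵇ 𝒴) (h : AlgSt.IsSurjective (FibCat.diag f)) : Function.Injective (Points.map f) := by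
  intro p₁ p₂ h12
  obtain ⟨w, hw1, hw2⟩ := exists_points_fp h𝒳 h𝒴 h𝒳 f f p₁ p₂ h12
  obtain ⟨q, rfl⟩ := h w
  rw [← map_comp] at hw1 hw2
  have e1 : Points.map (BasedFunctor.comp (FibCat.diag f) (fpFst f f)) q = q := map_id q
  have e2 : Points.map (BasedFunctor.comp (FibCat.diag f) (fpSnd f f)) q = q := map_id q
  rw [← hw1, ← hw2, e1, e2]

/-- a gerbe is a homeomorphism on points -/
theorem isHomeomorph_of_gerbe {𝒳 𝒴 : AlgSt.Cat S}
    (h𝒳 : AlgSt.IsAlgStack Scheme.fppfPrecoverage 𝒳) (h𝒴 : AlgSt.IsAlgStack Scheme.fppfPrecoverage 𝒴)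
    (f : 𝒳 ⥤ᵇ 𝒴) (hf : Gerb.IsGerbeOver (QuotSh.J Scheme.fppfPrecoverage S) f) :
    IsHomeomorph (Points.map f) := by
  obtain ⟨h1, h2⟩ := locQ_fppf_of_gerbe h𝒳 h𝒴 f hf
  obtain ⟨-, h4⟩ := diag_fppf h𝒳 h𝒴 f hf.2
  exact ⟨continuous_map h𝒴.isStack.1 h𝒴.atlas f, isOpenMor_of_flat_lfp h𝒳 h𝒴 f h1 h2,
    injective_of_isSurjective_diag h𝒳.isStack.1 h𝒴.isStack.1 f h4,
    isSurjective_of_locSurjObj h𝒳.isStack.1 h𝒴.isStack.1 f hf.1⟩

/-- S16869: a gerbe is a universal homeomorphism -/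
theorem isUnivHomeo_of_gerbe {𝒳 𝒴 : AlgSt.Cat S}
    (h𝒳 : AlgSt.IsAlgStack Scheme.fppfPrecoverage 𝒳) (h𝒴 : AlgSt.IsAlgStack Scheme.fppfPrecoverage 𝒴)
    (f : 𝒳 ⥤ᵇ 𝒴) (hf : Gerb.IsGerbeOver (QuotSh.J Scheme.fppfPrecoverage S) f) :
    AlgSt.IsUnivHomeo Scheme.fppfPrecoverage f := by
  intro 𝒵 h𝒵 g
  exact isHomeomorph_of_gerbe (isAlgStack_fp' h𝒵 h𝒳 h𝒴 g f) h𝒵 _
    (isGerbeOver_fpFst _ g f h𝒵.isStack.1 h𝒴.isStack.1 hf)

end Groth.Agent.Lib.helper4.GerbSection
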