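import Mathlib
import Groth.Agent.Lib.Helper4.GerbSection3
import Groth.Agent.Lib.Helper4.GerbProd
import Groth.Agent.Lib.Helper4.AlgStLocQ7
import Groth.Agent.Lib.Helper4.AlgStQCMor
import Groth.Agent.Lib.Helper4.AlgStDiagComp

/-!
# Quasi-compactness of the diagonal descends along gerbes (helper4)
-/

set_option backward.isDefEq.respectTransparency false
set_option backward.isDefEq.respectTransparency.types false
set_option autoImplicit false
set_option linter.style.haveILetI false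
set_option linter.unusedSectionVars false
set_option linter.unusedVariables false
set_option linter.unusedSimpArgs false

universe u

open CategoryTheory CategoryTheory.Limits AlgebraicGeometry
open AlgSt Opposite

namespace Groth.Agent.Lib.helper4.GerbSection

open Groth.Agent.FibEquiv Groth.Agent.FibYoneda FibCat Groth.Agent.Lib.helper4.FibPaste Groth.Agent.Lib.helper4.AlgStEquiv
open Groth.Agent.FibFpProj Groth.Agent.Lib.helper4.AlgStLocQ Groth.Agent.Lib.helper4.SmLocalST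
open Groth.Agent.Lib.helper4.AlgStSource Groth.Agent.Lib.helper4.AlgStSelf
open Groth.Agent.Lib.helper4.AlgStPts Groth.Agent.Lib.helper4.PointsBasic Groth.Agent.Lib.helper5.LocPBC
open Groth.Agent.Lib.helper4.AlgStLocSurj Groth.Agent.Lib.helper4.AlgStDiag
open Groth.Agent.Lib.helper4.AlgStSourceFam Groth.Agent.Lib.helper4.AlgStSectionR
open Groth.Agent.Lib.helper4.AlgStNoethDiag Groth.Agent.Lib.helper4.GerbBC
open Groth.Agent.Lib.helper4.MagicSq Groth.Agent.Lib.helper4.GerbProd Groth.Agent.Lib.helper4.AlgStDiagComp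
open Groth.Agent.Lib.helper4.AlgStQCMor

variable {S : Scheme.{u}}

/-- S16870: if `f` makes `𝒳` a gerbe over `𝒴` and the diagonal of `𝒳` is quasi-compact, so is the diagonal of `𝒴` -/
theorem isQuasiCompactMor_diag_of_gerbe {𝒳 𝒴 : AlgSt.Cat S}
    (h𝒳 : AlgSt.IsAlgStack Scheme.fppfPrecoverage 𝒳) (h𝒴 : AlgSt.IsAlgStack Scheme.fppfPrecoverage 𝒴)
    (f : 𝒳 ⥤ᵇ 𝒴) (hf : Gerb.IsGerbeOver (QuotSh.J Scheme.fppfPrecoverage S) f)
    (hΔ : AlgSt.IsQuasiCompactMor Scheme.fppfPrecoverage (FibCat.diag (FibCat.toSelf 𝒳))) :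
    AlgSt.IsQuasiCompactMor Scheme.fppfPrecoverage (FibCat.diag (FibCat.toSelf 𝒴)) := by
  have hsO : AlgSt.IsAlgStack Scheme.fppfPrecoverage (selfOver (Over S)) := isAlgStack_selfOver
  have hsrc : AlgSt.IsAlgStack Scheme.fppfPrecoverage
      (fp (BasedFunctor.comp f (toSelf 𝒴)) (BasedFunctor.comp f (toSelf 𝒴))) :=
    isAlgStack_fp' h𝒳 h𝒳 hsO _ _
  have htgt : AlgSt.IsAlgStack Scheme.fppfPrecoverage (fp (toSelf 𝒴) (toSelf 𝒴)) :=
    isAlgStack_fp' h𝒴 h𝒴 hsO _ _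
  have hff : AlgSt.IsAlgStack Scheme.fppfPrecoverage (fp f f) := isAlgStack_fp' h𝒳 h𝒳 h𝒴 f f
  have hΦ : Gerb.IsGerbeOver (QuotSh.J Scheme.fppfPrecoverage S) (Φ f f (toSelf 𝒴)) :=
    isGerbeOver_Φ _ f f (toSelf 𝒴) hsO.isStack.1 hf hf
  obtain ⟨hz₁, hz₂⟩ := locQ_fppf_of_gerbe hsrc htgt (Φ f f (toSelf 𝒴)) hΦ
  have hz₃ := isSurjective_of_locSurjObj hsrc.isStack.1 htgt.isStack.1 _ hΦ.1
  refine isQuasiCompactMor_of_fpFst_fppf h𝒴 htgt hsrc (FibCat.diag (toSelf 𝒴)) (Φ f f (toSelf 𝒴))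
    hz₁ hz₂ hz₃ ?_
  have e : BasedFunctor.comp f (toSelf 𝒴) = toSelf 𝒳 := Groth.Agent.Lib.helper4.FibRep.toSelf_unique _ _
  have h1 : AlgSt.IsQuasiCompactMor Scheme.fppfPrecoverage
      (FibCat.diag (BasedFunctor.comp f (toSelf 𝒴))) := by
    rw [e]; exact hΔ
  obtain ⟨-, hds⟩ := diag_fppf h𝒳 h𝒴 f hf.2
  have hι : AlgSt.IsQuasiCompactMor Scheme.fppfPrecoverage
      (ι f f (toSelf 𝒴) (compIso f (toSelf 𝒴))) :=
    isQuasiCompactMor_of_isSurjective_of_triangle h𝒳 hff hsrc (FibCat.diag f)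
      (FibCat.diag (BasedFunctor.comp f (toSelf 𝒴))) _ (diagCompIso f (toSelf 𝒴)) hds h1
  have hcmp := cmp_isEquivOver f f (toSelf 𝒴) (compIso f (toSelf 𝒴)) (compIso_app f (toSelf 𝒴))
  have hfpΦ : AlgSt.IsAlgStack Scheme.fppfPrecoverage
      (fp (Φ f f (toSelf 𝒴)) (FibCat.diag (toSelf 𝒴))) := isAlgStack_fp' hsrc h𝒴 htgt _ _
  exact isQuasiCompactMor_of_isSurjective_of_triangle hff hfpΦ hsrc
    (cmp f f (toSelf 𝒴) (compIso f (toSelf 𝒴)) (compIso_app f (toSelf 𝒴)))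
    (ι f f (toSelf 𝒴) (compIso f (toSelf 𝒴))) (fpFst (Φ f f (toSelf 𝒴)) (FibCat.diag (toSelf 𝒴)))
    (Iso.refl _) (map_bijective_of_isEquivOver _ hcmp).2 hι

end Groth.Agent.Lib.helper4.GerbSection
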