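import Mathlib
import Groth.Agent.Lib.Helper4.GerbSection2
import Groth.Agent.Lib.Helper4.AlgStLocQSmooth

/-!
# Gerbes are smooth (helper4)

If `f : 𝒳 ⟶ 𝒴` makes `𝒳` a gerbe over `𝒴` (algebraic stacks, fppf topology), then `f` is smooth (on one chart
square).  After the flat, locally finitely presented, surjective base change along `f` itself the gerbe acquires
a section (the diagonal); a section of a gerbe is flat, locally finitely presented and surjective, and smoothness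
descends along such morphisms to the source (helper5's `smooth_of_comp` for schemes).
-/

set_option backward.isDefEq.respectTransparency false
set_option backward.isDefEq.respectTransparency.types false
set_option autoImplicit false
set_option linter.style.haveILetI false
set_option linter.unusedSectionVars false
set_option linter.unusedVariables false
set_option linter.unusedSimpArgs false

universe u

open CategoryTheory CategoryTheory.Limits AlgebraicGeometry
open AlgSt Opposite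

namespace Groth.Agent.Lib.helper4.GerbSection

open Groth.Agent.FibEquiv Groth.Agent.FibYoneda FibCat Groth.Agent.Lib.helper4.FibPaste Groth.Agent.Lib.helper4.AlgStEquiv
open Groth.Agent.FibFpProj Groth.Agent.Lib.helper4.AlgStLocQ Groth.Agent.Lib.helper4.SmLocalST
open Groth.Agent.Lib.helper4.AlgStSource Groth.Agent.Lib.helper4.AlgStSelf
open Groth.Agent.Lib.helper4.AlgStPts Groth.Agent.Lib.helper4.PointsBasic Groth.Agent.Lib.helper5.LocPBC
open Groth.Agent.Lib.helper4.AlgStLocSurj Groth.Agent.Lib.helper4.AlgStDiag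
open Groth.Agent.Lib.helper4.AlgStSourceFam Groth.Agent.Lib.helper4.AlgStSectionR
open Groth.Agent.Lib.helper4.AlgStNoethDiag Groth.Agent.Lib.helper4.GerbBC

variable {S : Scheme.{u}}

/-- the identity of a scheme is smooth, as a morphism of algebraic spaces -/
theorem locP_smooth_yon_id (U : Over S) : AlgSp.LocP @Smooth ((AlgSp.yon S).map (𝟙 U)) := by
  refine locP_yon_map_of locPData_smooth (𝟙 U) ?_
  rw [Over.id_left]
  infer_instance

/-- **A gerbe with a section is smooth.** -/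
theorem locQ_smooth_of_section {𝒵 𝒯 : AlgSt.Cat S} (h𝒵 : AlgSt.IsAlgStack Scheme.fppfPrecoverage 𝒵)
    (h𝒯 : AlgSt.IsAlgStack Scheme.fppfPrecoverage 𝒯) (π : 𝒵 ⥤ᵇ 𝒯)
    (hπ : Gerb.LocSurjHom (QuotSh.J Scheme.fppfPrecoverage S) π) (σ : 𝒯 ⥤ᵇ 𝒵)
    (e : BasedFunctor.comp σ π ≅ BasedFunctor.id 𝒯) :
    AlgSt.LocQ (AlgSp.LocP @Smooth) π := by
  obtain ⟨hσ, hσs⟩ := section_fppf h𝒵 h𝒯 π hπ σ e
  have h1 : AlgSt.LocQ (AlgSp.LocP @Flat) σ :=
    locQ_locP_of_repByAlgSpWith h𝒯 h𝒵 _ locPData_flat (fppf_flat hσ)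
  have h2 : AlgSt.LocQ (AlgSp.LocP @LocallyOfFinitePresentation) σ :=
    locQ_locP_of_repByAlgSpWith h𝒯 h𝒵 _ locPData_lfp (fppf_lfp hσ)
  have h3 : AlgSt.LocQ (AlgSp.LocP @Smooth) (BasedFunctor.comp σ π) :=
    locQ_congr _ e (locQ_id h𝒯 _ locP_smooth_yon_id)
  exact locQ_smooth_of_comp h𝒯 h𝒵 h𝒯 σ π h1 h2 hσs h3

/-- **Gerbes are smooth.** -/
theorem locQ_smooth_of_gerbe {𝒳 𝒴 : AlgSt.Cat S}
    (h𝒳 : AlgSt.IsAlgStack Scheme.fppfPrecoverage 𝒳) (h𝒴 : AlgSt.IsAlgStack Scheme.fppfPrecoverage 𝒴)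
    (f : 𝒳 ⥤ᵇ 𝒴) (hf : Gerb.IsGerbeOver (QuotSh.J Scheme.fppfPrecoverage S) f) :
    AlgSt.LocQ (AlgSp.LocP @Smooth) f := by
  have hX : IsFibGrpd 𝒳.p := h𝒳.isStack.1
  have hY : IsFibGrpd 𝒴.p := h𝒴.isStack.1
  have hs : AlgSt.IsSurjective f := isSurjective_of_locSurjObj hX hY f hf.1
  obtain ⟨hfl, hfp⟩ := locQ_fppf_of_gerbe h𝒳 h𝒴 f hf
  have h𝒫 : AlgSt.IsAlgStack Scheme.fppfPrecoverage (fp f f) := isAlgStack_fp' h𝒳 h𝒳 h𝒴 f f
  have hg : Gerb.LocSurjHom (QuotSh.J Scheme.fppfPrecoverage S) (fpFst f f) :=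
    locSurjHom_fpFst _ f f hX hY hf.2
  have H : AlgSt.LocQ (AlgSp.LocP @Smooth) (fpFst f f) :=
    locQ_smooth_of_section h𝒫 h𝒳 (fpFst f f) hg (FibCat.diag f) (Iso.refl _)
  exact locQ_of_fpFst_fppf h𝒳 h𝒴 h𝒳 f _ isSmoothLocalST_smooth (isLocalOnBase_fppf_of_fpqc (Groth.Agent.S10542.result S)) f hfl hfp hs H

end Groth.Agent.Lib.helper4.GerbSection
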