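import Mathlib
import Groth.Prelude.Def_Grpd
import Groth.Agent.S7457
import Groth.Agent.Lib.Helper4.GrpdBC

/-!
# Restriction of a groupoid scheme along an arbitrary monomorphism

Given a groupoid scheme `G = (U, R, s, t, c, e, i)` over `S` and a monomorphism `ι : W ⟶ U`
(not necessarily invariant), the restricted groupoid has arrows `RW = W ×_U R ×_U W`, the arrows of
`R` with source and target in `W`.  We axiomatise `RW` by `RestrData` (a mono `ιR : RW ⟶ R` through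
which every arrow with source and target in `W` factors) and build the groupoid `d.restr`.
`RestrData.ofMono G ι` is the concrete model `RW = (R ×_{t,U} W) ×_{s,U} W`, for which the source
map is the base change along `ι` of `R ×_{t,U} W ⟶ R ⟶ U`.
-/

set_option backward.isDefEq.respectTransparency false
set_option autoImplicit false
set_option linter.style.haveILetI false
set_option linter.unusedSectionVars false

universe u
open CategoryTheory CategoryTheory.Limits AlgebraicGeometry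

namespace Groth.Agent.Lib.Helper4.GrpdRestr

open Groth.Agent.S7457 Groth.Agent.Lib.Helper4.GrpdBC

variable {S : Scheme.{u}}

/-- Data for restricting a groupoid scheme along a monomorphism `ι : W ⟶ U`. -/
structure RestrData (G : Grpd.GroupoidScheme S) where
  /-- the new scheme of objects -/
  W : Scheme.{u}
  /-- the arrows between points of `W` -/
  RW : Scheme.{u}
  ι : W ⟶ G.U
  ιR : RW ⟶ G.R
  sW : RW ⟶ W
  tW : RW ⟶ W
  ιR_s : ιR ≫ G.s = sW ≫ ι
  ιR_t : ιR ≫ G.t = tW ≫ ι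
  mono_ι : Mono ι
  mono_ιR : Mono ιR
  ex : ∀ {T : Scheme.{u}} (α : T ⟶ G.R) (a b : T ⟶ W), α ≫ G.s = a ≫ ι → α ≫ G.t = b ≫ ι →
    ∃ l : T ⟶ RW, l ≫ ιR = α

variable {G : Grpd.GroupoidScheme S} (d : RestrData G)

namespace RestrData

attribute [reassoc] ιR_s ιR_t

instance : Mono d.ι := d.mono_ι

instance : Mono d.ιR := d.mono_ιR

section lift

variable {T : Scheme.{u}} (α : T ⟶ G.R) (a b : T ⟶ d.W) (hs : α ≫ G.s = a ≫ d.ι)
  (ht : α ≫ G.t = b ≫ d.ι)

/-- the arrow of the restriction defined by an arrow of `G` with source `a` and target `b` in `W` -/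
noncomputable def lift : T ⟶ d.RW := (d.ex α a b hs ht).choose

@[reassoc (attr := simp)]
theorem lift_ιR : d.lift α a b hs ht ≫ d.ιR = α := (d.ex α a b hs ht).choose_spec

@[reassoc (attr := simp)]
theorem lift_sW : d.lift α a b hs ht ≫ d.sW = a := by
  rw [← cancel_mono d.ι, Category.assoc, ← d.ιR_s, lift_ιR_assoc, hs]

@[reassoc (attr := simp)]
theorem lift_tW : d.lift α a b hs ht ≫ d.tW = b := by
  rw [← cancel_mono d.ι, Category.assoc, ← d.ιR_t, lift_ιR_assoc, ht]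

end lift

/-- identity -/
noncomputable def eW : d.W ⟶ d.RW :=
  d.lift (d.ι ≫ G.e) (𝟙 d.W) (𝟙 d.W)
    (by rw [Category.assoc, G.e_s, Category.comp_id, Category.id_comp])
    (by rw [Category.assoc, G.e_t, Category.comp_id, Category.id_comp])

@[reassoc (attr := simp)]
theorem eW_ιR : d.eW ≫ d.ιR = d.ι ≫ G.e := d.lift_ιR _ _ _ _ _

@[reassoc (attr := simp)]
theorem eW_sW : d.eW ≫ d.sW = 𝟙 d.W := d.lift_sW _ _ _ _ _

@[reassoc (attr := simp)]
theorem eW_tW : d.eW ≫ d.tW = 𝟙 d.W := d.lift_tW _ _ _ _ _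

/-- inverse -/
noncomputable def iW : d.RW ⟶ d.RW :=
  d.lift (d.ιR ≫ G.i) d.tW d.sW (by rw [Category.assoc, G.i_s, d.ιR_t])
    (by rw [Category.assoc, G.i_t, d.ιR_s])

@[reassoc (attr := simp)]
theorem iW_ιR : d.iW ≫ d.ιR = d.ιR ≫ G.i := d.lift_ιR _ _ _ _ _

@[reassoc (attr := simp)]
theorem iW_sW : d.iW ≫ d.sW = d.tW := d.lift_sW _ _ _ _ _

@[reassoc (attr := simp)]
theorem iW_tW : d.iW ≫ d.tW = d.sW := d.lift_tW _ _ _ _ _

section cmpW

variable {T : Scheme.{u}} (α β : T ⟶ d.RW) (h : α ≫ d.sW = β ≫ d.tW)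

include h in
theorem cmpW_aux1 : (α ≫ d.ιR) ≫ G.s = (β ≫ d.ιR) ≫ G.t := by
  rw [Category.assoc, Category.assoc, d.ιR_s, d.ιR_t, ← Category.assoc, ← Category.assoc, h]

include h in
theorem cmpW_aux2 :
    cmp G (α ≫ d.ιR) (β ≫ d.ιR) (cmpW_aux1 d α β h) ≫ G.s = (β ≫ d.sW) ≫ d.ι := by
  rw [cmp_s, Category.assoc, Category.assoc, d.ιR_s]

include h in
theorem cmpW_aux3 :
    cmp G (α ≫ d.ιR) (β ≫ d.ιR) (cmpW_aux1 d α β h) ≫ G.t = (α ≫ d.tW) ≫ d.ι := by
  rw [cmp_t, Category.assoc, Category.assoc, d.ιR_t]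

/-- composition of `T`-points of the restriction -/
noncomputable def cmpW : T ⟶ d.RW :=
  d.lift (cmp G (α ≫ d.ιR) (β ≫ d.ιR) (cmpW_aux1 d α β h)) (β ≫ d.sW) (α ≫ d.tW)
    (cmpW_aux2 d α β h) (cmpW_aux3 d α β h)

@[reassoc]
theorem cmpW_ιR : cmpW d α β h ≫ d.ιR = cmp G (α ≫ d.ιR) (β ≫ d.ιR) (cmpW_aux1 d α β h) :=
  d.lift_ιR _ _ _ _ _

@[reassoc]
theorem cmpW_sW : cmpW d α β h ≫ d.sW = β ≫ d.sW := d.lift_sW _ _ _ _ _

@[reassoc]
theorem cmpW_tW : cmpW d α β h ≫ d.tW = α ≫ d.tW := d.lift_tW _ _ _ _ _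

theorem cmpW_congr {α' β' : T ⟶ d.RW} (hα : α = α') (hβ : β = β') :
    cmpW d α β h = cmpW d α' β' (by rw [← hα, ← hβ]; exact h) := by
  subst hα hβ; rfl

theorem pre_cmpW {T' : Scheme.{u}} (f : T' ⟶ T) :
    f ≫ cmpW d α β h = cmpW d (f ≫ α) (f ≫ β)
      (by rw [Category.assoc, Category.assoc, h]) := by
  rw [← cancel_mono d.ιR, Category.assoc, cmpW_ιR, cmpW_ιR, pre_cmp]
  exact cmp_congr G _ (Category.assoc _ _ _).symm (Category.assoc _ _ _).symm

end cmpW

/-- composition -/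
noncomputable def cW : pullback d.sW d.tW ⟶ d.RW :=
  cmpW d (pullback.fst _ _) (pullback.snd _ _) pullback.condition

theorem lift_cW {T : Scheme.{u}} (α β : T ⟶ d.RW) (h : α ≫ d.sW = β ≫ d.tW) :
    pullback.lift α β h ≫ d.cW = cmpW d α β h := by
  unfold cW
  rw [pre_cmpW]
  exact cmpW_congr d _ _ _ (pullback.lift_fst _ _ _) (pullback.lift_snd _ _ _)

/-- The restriction of the groupoid scheme `G` along the monomorphism `ι : W ⟶ U`. -/
noncomputable def restr : Grpd.GroupoidScheme S where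
  U := d.W
  R := d.RW
  pU := d.ι ≫ G.pU
  pR := d.ιR ≫ G.pR
  s := d.sW
  t := d.tW
  e := d.eW
  i := d.iW
  c := d.cW
  s_over := by rw [← d.ιR_s_assoc, G.s_over]
  t_over := by rw [← d.ιR_t_assoc, G.t_over]
  comp_s := fun α β h => by rw [lift_cW, cmpW_sW]
  comp_t := fun α β h => by rw [lift_cW, cmpW_tW]
  assoc := fun α β γ h₁ h₂ => by
    refine (lift_cW d _ _ _).trans (Eq.trans ?_ (lift_cW d _ _ _).symm)
    rw [← cancel_mono d.ιR, cmpW_ιR, cmpW_ιR]
    have e1 : (pullback.lift α β h₁ ≫ d.cW) ≫ d.ιR =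
        cmp G (α ≫ d.ιR) (β ≫ d.ιR) (cmpW_aux1 d α β h₁) := by rw [lift_cW, cmpW_ιR]
    have e2 : (pullback.lift β γ h₂ ≫ d.cW) ≫ d.ιR =
        cmp G (β ≫ d.ιR) (γ ≫ d.ιR) (cmpW_aux1 d β γ h₂) := by rw [lift_cW, cmpW_ιR]
    rw [cmp_congr G _ e1 rfl, cmp_congr G _ rfl e2]
    exact cmp_assoc G _ _ _ _ _
  e_s := d.eW_sW
  e_t := d.eW_tW
  comp_e := fun α => by
    rw [lift_cW, ← cancel_mono d.ιR, cmpW_ιR]
    have e1 : (α ≫ d.sW ≫ d.eW) ≫ d.ιR = (α ≫ d.ιR) ≫ G.s ≫ G.e := by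
      simp only [Category.assoc, eW_ιR, d.ιR_s_assoc]
    rw [cmp_congr G _ rfl e1]
    exact G.comp_e _
  e_comp := fun α => by
    rw [lift_cW, ← cancel_mono d.ιR, cmpW_ιR]
    have e1 : (α ≫ d.tW ≫ d.eW) ≫ d.ιR = (α ≫ d.ιR) ≫ G.t ≫ G.e := by
      simp only [Category.assoc, eW_ιR, d.ιR_t_assoc]
    rw [cmp_congr G _ e1 rfl]
    exact G.e_comp _
  i_s := d.iW_sW
  i_t := d.iW_tW
  comp_i := fun α => by
    rw [lift_cW, ← cancel_mono d.ιR, cmpW_ιR]
    have e1 : (α ≫ d.iW) ≫ d.ιR = (α ≫ d.ιR) ≫ G.i := by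
      simp only [Category.assoc, iW_ιR]
    rw [cmp_congr G _ rfl e1]
    refine (G.comp_i _).trans ?_
    simp only [Category.assoc, eW_ιR, d.ιR_t_assoc]
  i_comp := fun α => by
    rw [lift_cW, ← cancel_mono d.ιR, cmpW_ιR]
    have e1 : (α ≫ d.iW) ≫ d.ιR = (α ≫ d.ιR) ≫ G.i := by
      simp only [Category.assoc, iW_ιR]
    rw [cmp_congr G _ e1 rfl]
    refine (G.i_comp _).trans ?_
    simp only [Category.assoc, eW_ιR, d.ιR_s_assoc]

@[simp] theorem restr_U : d.restr.U = d.W := rfl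
@[simp] theorem restr_R : d.restr.R = d.RW := rfl
@[simp] theorem restr_s : d.restr.s = d.sW := rfl
@[simp] theorem restr_t : d.restr.t = d.tW := rfl

theorem jMono_restr (hJ : JMono G) : JMono d.restr := by
  intro T a b ht hs
  change a ≫ d.tW = b ≫ d.tW at ht
  change a ≫ d.sW = b ≫ d.sW at hs
  rw [← cancel_mono d.ιR]
  apply hJ
  · rw [Category.assoc, Category.assoc, d.ιR_t, ← Category.assoc, ← Category.assoc, ht]
  · rw [Category.assoc, Category.assoc, d.ιR_s, ← Category.assoc, ← Category.assoc, hs]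

/-- The concrete model `RW = (R ×_{t,U} W) ×_{s,U} W`. -/
noncomputable def ofMono (G : Grpd.GroupoidScheme S) {W : Scheme.{u}} (ι : W ⟶ G.U) [Mono ι] :
    RestrData G where
  W := W
  RW := pullback (pullback.fst G.t ι ≫ G.s) ι
  ι := ι
  ιR := pullback.fst (pullback.fst G.t ι ≫ G.s) ι ≫ pullback.fst G.t ι
  sW := pullback.snd (pullback.fst G.t ι ≫ G.s) ι
  tW := pullback.fst (pullback.fst G.t ι ≫ G.s) ι ≫ pullback.snd G.t ι
  ιR_s := by rw [Category.assoc, pullback.condition]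
  ιR_t := by rw [Category.assoc, Category.assoc, pullback.condition]
  mono_ι := inferInstance
  mono_ιR := inferInstance
  ex := fun α a b hs ht =>
    ⟨pullback.lift (pullback.lift α b ht) a (by rw [pullback.lift_fst_assoc, hs]), by
      rw [pullback.lift_fst_assoc, pullback.lift_fst]⟩

@[simp] theorem ofMono_W (G : Grpd.GroupoidScheme S) {W : Scheme.{u}} (ι : W ⟶ G.U) [Mono ι] :
    (ofMono G ι).W = W := rfl

@[simp] theorem ofMono_ι (G : Grpd.GroupoidScheme S) {W : Scheme.{u}} (ι : W ⟶ G.U) [Mono ι] :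
    (ofMono G ι).ι = ι := rfl

theorem ofMono_sW (G : Grpd.GroupoidScheme S) {W : Scheme.{u}} (ι : W ⟶ G.U) [Mono ι] :
    (ofMono G ι).sW = pullback.snd (pullback.fst G.t ι ≫ G.s) ι := rfl

end RestrData

end Groth.Agent.Lib.Helper4.GrpdRestr
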