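import Mathlib
import Groth.Prelude.Def_Grpd
import Groth.Agent.S7457
import Groth.Agent.Lib.Helper4.GrpdBC
import Groth.Agent.Lib.Helper4.GrpdRestr

/-!
# Quotient by a groupoid with a quasi-section (SGA 3 V, Théorème 6.1), part 1

`G` a groupoid scheme, `u : U' ⟶ U` a monomorphism, `V = R ×_{t,U} U'`, `v : V ⟶ R ⟶ U` (source).
`G' = G' G u` is the restriction of `G` to `U'`.  Given a morphism `q : U' ⟶ Y` coequalizing
`G'.s, G'.t` and assuming `v` is an fpqc cover, we descend `V ⟶ U' ⟶ Y` to `p : U ⟶ Y`.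
-/

set_option backward.isDefEq.respectTransparency false
set_option autoImplicit false
set_option linter.style.haveILetI false
set_option linter.unusedSectionVars false

universe u
open CategoryTheory CategoryTheory.Limits AlgebraicGeometry

namespace Groth.Agent.Lib.Helper4.GrpdQSec1

open Groth.Agent.S7457 Groth.Agent.Lib.Helper4.GrpdBC Groth.Agent.Lib.Helper4.GrpdRestr

variable {S : Scheme.{u}} (G : Grpd.GroupoidScheme S) {U' : Scheme.{u}} (u : U' ⟶ G.U) [Mono u]

/-- arrows with target in `U'` -/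
noncomputable abbrev V : Scheme.{u} := pullback G.t u

/-- the source of an arrow with target in `U'` -/
noncomputable def v : V G u ⟶ G.U := pullback.fst G.t u ≫ G.s

theorem v_def : v G u = pullback.fst G.t u ≫ G.s := rfl

/-- the restriction of `G` to `U'` -/
noncomputable def G' : Grpd.GroupoidScheme S := (RestrData.ofMono G u).restr

/-- the inclusion of the arrows of the restriction -/
noncomputable def ιR : (G' G u).R ⟶ G.R := (RestrData.ofMono G u).ιR

instance : Mono (ιR G u) := (RestrData.ofMono G u).mono_ιR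

@[reassoc]
theorem ιR_s : ιR G u ≫ G.s = (G' G u).s ≫ u := (RestrData.ofMono G u).ιR_s

@[reassoc]
theorem ιR_t : ιR G u ≫ G.t = (G' G u).t ≫ u := (RestrData.ofMono G u).ιR_t

theorem G'_s_eq : (G' G u).s = pullback.snd (v G u) u := rfl

instance [IsFinite (v G u)] : IsFinite (G' G u).s :=
  inferInstanceAs (IsFinite (pullback.snd (v G u) u))

instance [Flat (v G u)] : Flat (G' G u).s :=
  inferInstanceAs (Flat (pullback.snd (v G u) u))

instance [LocallyOfFinitePresentation (v G u)] : LocallyOfFinitePresentation (G' G u).s :=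
  inferInstanceAs (LocallyOfFinitePresentation (pullback.snd (v G u) u))

section lift

variable {T : Scheme.{u}} (α : T ⟶ G.R) (a b : T ⟶ U') (hs : α ≫ G.s = a ≫ u)
  (ht : α ≫ G.t = b ≫ u)

/-- the arrow of `G'` given by an arrow of `G` with source `a` and target `b` in `U'` -/
noncomputable def liftR : T ⟶ (G' G u).R := (RestrData.ofMono G u).lift α a b hs ht

@[reassoc (attr := simp)]
theorem liftR_ιR : liftR G u α a b hs ht ≫ ιR G u = α :=
  (RestrData.ofMono G u).lift_ιR α a b hs ht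

@[reassoc (attr := simp)]
theorem liftR_s : liftR G u α a b hs ht ≫ (G' G u).s = a :=
  (RestrData.ofMono G u).lift_sW α a b hs ht

@[reassoc (attr := simp)]
theorem liftR_t : liftR G u α a b hs ht ≫ (G' G u).t = b :=
  (RestrData.ofMono G u).lift_tW α a b hs ht

end lift

theorem jMono_G' (hJ : JMono G) : JMono (G' G u) := (RestrData.ofMono G u).jMono_restr hJ

/-! ### Points -/

theorem exists_pt_of_s_eq (r₁ r₂ : G.R) (h : G.s r₁ = G.s r₂) :
    ∃ r : G.R, G.t r = G.t r₁ ∧ G.s r = G.t r₂ := by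
  have h' : G.s r₁ = G.t (G.i r₂) := by
    rw [h, ← Scheme.Hom.comp_apply, G.i_t]
  obtain ⟨z, hz1, hz2⟩ := Scheme.Pullback.exists_preimage_pullback (f := G.s) (g := G.t) r₁
    (G.i r₂) h'
  refine ⟨G.c z, ?_, ?_⟩
  · have := G.comp_t (pullback.fst G.s G.t) (pullback.snd G.s G.t) pullback.condition
    have e : pullback.lift (pullback.fst G.s G.t) (pullback.snd G.s G.t) pullback.condition =
        𝟙 _ := by
      apply pullback.hom_ext <;> simp
    rw [e, Category.id_comp] at this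
    rw [← Scheme.Hom.comp_apply, this, Scheme.Hom.comp_apply, hz1]
  · have := G.comp_s (pullback.fst G.s G.t) (pullback.snd G.s G.t) pullback.condition
    have e : pullback.lift (pullback.fst G.s G.t) (pullback.snd G.s G.t) pullback.condition =
        𝟙 _ := by
      apply pullback.hom_ext <;> simp
    rw [e, Category.id_comp] at this
    rw [← Scheme.Hom.comp_apply, this, Scheme.Hom.comp_apply, hz2, ← Scheme.Hom.comp_apply, G.i_s]

/-- any two points of an orbit of the restriction are equivalent under `G` -/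
theorem orbit_equiv (x : U') (y₁ y₂ : U')
    (h₁ : y₁ ∈ (G' G u).t.base '' ((G' G u).s.base ⁻¹' {x}))
    (h₂ : y₂ ∈ (G' G u).t.base '' ((G' G u).s.base ⁻¹' {x})) :
    ∃ r : G.R, G.t r = u y₁ ∧ G.s r = u y₂ := by
  obtain ⟨r₁, hr₁, rfl⟩ := h₁
  obtain ⟨r₂, hr₂, rfl⟩ := h₂
  have e1 : G.s (ιR G u r₁) = G.s (ιR G u r₂) := by
    rw [← Scheme.Hom.comp_apply, ← Scheme.Hom.comp_apply, ιR_s, Scheme.Hom.comp_apply,
      Scheme.Hom.comp_apply]
    have h1 : (G' G u).s r₁ = x := hr₁
    have h2 : (G' G u).s r₂ = x := hr₂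
    rw [h1, h2]
  obtain ⟨r, hr1, hr2⟩ := exists_pt_of_s_eq G _ _ e1
  refine ⟨r, ?_, ?_⟩
  · rw [hr1, ← Scheme.Hom.comp_apply, ιR_t, Scheme.Hom.comp_apply]
    rfl
  · rw [hr2, ← Scheme.Hom.comp_apply, ιR_t, Scheme.Hom.comp_apply]
    rfl

/-! ### Descending `V ⟶ U' ⟶ Y` along `v` -/

section desc

variable {Y : Scheme.{u}} (q : U' ⟶ Y) (hq : (G' G u).s ≫ q = (G' G u).t ≫ q)

include hq in
theorem desc_cond {Z : Scheme.{u}} (g₁ g₂ : Z ⟶ V G u) (h : g₁ ≫ v G u = g₂ ≫ v G u) :
    g₁ ≫ pullback.snd G.t u ≫ q = g₂ ≫ pullback.snd G.t u ≫ q := by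
  have h0 : (g₁ ≫ pullback.fst G.t u) ≫ G.s = ((g₂ ≫ pullback.fst G.t u) ≫ G.i) ≫ G.t := by
    simp only [Category.assoc, G.i_t]
    simpa only [v_def, Category.assoc] using h
  have hs : cmp G (g₁ ≫ pullback.fst G.t u) ((g₂ ≫ pullback.fst G.t u) ≫ G.i) h0 ≫ G.s =
      (g₂ ≫ pullback.snd G.t u) ≫ u := by
    rw [cmp_s]
    simp only [Category.assoc, G.i_s, pullback.condition]
  have ht : cmp G (g₁ ≫ pullback.fst G.t u) ((g₂ ≫ pullback.fst G.t u) ≫ G.i) h0 ≫ G.t =
      (g₁ ≫ pullback.snd G.t u) ≫ u := by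
    rw [cmp_t]
    simp only [Category.assoc, pullback.condition]
  obtain ⟨l, e2, e1⟩ : ∃ l : Z ⟶ (G' G u).R, l ≫ (G' G u).s = g₂ ≫ pullback.snd G.t u ∧
      l ≫ (G' G u).t = g₁ ≫ pullback.snd G.t u :=
    ⟨liftR G u _ _ _ hs ht, liftR_s G u _ _ _ hs ht, liftR_t G u _ _ _ hs ht⟩
  rw [← Category.assoc, ← Category.assoc, ← e1, ← e2, Category.assoc, Category.assoc, hq]

variable [EffectiveEpi (v G u)]

/-- the descended morphism `U ⟶ Y` -/
noncomputable def p : G.U ⟶ Y :=
  EffectiveEpi.desc (v G u) (pullback.snd G.t u ≫ q) (fun g₁ g₂ h => desc_cond G u q hq g₁ g₂ h)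

@[reassoc]
theorem v_p : v G u ≫ p G u q hq = pullback.snd G.t u ≫ q :=
  EffectiveEpi.fac _ _ _

/-- the identity section `U' ⟶ V` -/
noncomputable def eV : U' ⟶ V G u :=
  pullback.lift (u ≫ G.e) (𝟙 U') (by rw [Category.assoc, G.e_t, Category.comp_id, Category.id_comp])

@[reassoc (attr := simp)]
theorem eV_v : eV G u ≫ v G u = u := by
  unfold eV
  rw [v_def, pullback.lift_fst_assoc, Category.assoc, G.e_s, Category.comp_id]

@[reassoc (attr := simp)]
theorem eV_snd : eV G u ≫ pullback.snd G.t u = 𝟙 U' := pullback.lift_snd _ _ _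

@[reassoc]
theorem u_p : u ≫ p G u q hq = q := by
  have := eV G u ≫= v_p G u q hq
  rwa [eV_v_assoc, eV_snd_assoc] at this

/-- a general form of `v_p`: for an arrow `α` with target `b` in `U'`, `p (s α) = q b` -/
theorem p_source {T : Scheme.{u}} (α : T ⟶ G.R) (b : T ⟶ U') (h : α ≫ G.t = b ≫ u) :
    (α ≫ G.s) ≫ p G u q hq = b ≫ q := by
  have := pullback.lift α b h ≫= v_p G u q hq
  rwa [v_def, ← Category.assoc, pullback.lift_fst_assoc, pullback.lift_snd_assoc] at this

theorem t_p [Flat (v G u)] [Surjective (v G u)] : G.t ≫ p G u q hq = G.s ≫ p G u q hq := by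
  haveI : Epi (pullback.fst G.s (v G u)) := Flat.epi_of_flat_of_surjective _
  rw [← cancel_epi (pullback.fst G.s (v G u))]
  -- `r = fst`, `r₁ = snd ≫ fst`, `x₁' = snd ≫ snd`
  have hc : pullback.fst G.s (v G u) ≫ G.s =
      (pullback.snd G.s (v G u) ≫ pullback.fst G.t u) ≫ G.s := by
    rw [pullback.condition, v_def, Category.assoc]
  have h0 : (pullback.snd G.s (v G u) ≫ pullback.fst G.t u) ≫ G.s =
      (pullback.fst G.s (v G u) ≫ G.i) ≫ G.t := by
    rw [Category.assoc _ G.i, G.i_t, hc]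
  have e1 := p_source G u q hq
    (cmp G (pullback.snd G.s (v G u) ≫ pullback.fst G.t u) (pullback.fst G.s (v G u) ≫ G.i) h0)
    (pullback.snd G.s (v G u) ≫ pullback.snd G.t u)
    (by rw [cmp_t]; simp only [Category.assoc, pullback.condition])
  rw [cmp_s, Category.assoc _ G.i, G.i_s] at e1
  have e2 := p_source G u q hq (pullback.snd G.s (v G u) ≫ pullback.fst G.t u)
    (pullback.snd G.s (v G u) ≫ pullback.snd G.t u)
    (by simp only [Category.assoc, pullback.condition])
  rw [← hc] at e2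
  rw [← Category.assoc, ← Category.assoc, e1, e2]

theorem desc_p [Flat (v G u)] [Surjective (v G u)]
    (hdesc : ∀ (T : Scheme.{u}) (g : U' ⟶ T), (G' G u).s ≫ g = (G' G u).t ≫ g →
      ∃ k : Y ⟶ T, q ≫ k = g)
    {Z : Scheme.{u}} (f : G.U ⟶ Z) (hf : G.t ≫ f = G.s ≫ f) :
    ∃ k : Y ⟶ Z, p G u q hq ≫ k = f := by
  obtain ⟨k, hk⟩ := hdesc Z (u ≫ f) (by rw [← ιR_s_assoc, ← ιR_t_assoc, hf])
  refine ⟨k, ?_⟩
  haveI : Epi (v G u) := Flat.epi_of_flat_of_surjective _
  rw [← cancel_epi (v G u), v_p_assoc, hk, ← pullback.condition_assoc, hf, v_def, Category.assoc]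

theorem uniq_p
    (huniq : ∀ (T : Scheme.{u}) (k₁ k₂ : Y ⟶ T), q ≫ k₁ = q ≫ k₂ → k₁ = k₂)
    {Z : Scheme.{u}} (k₁ k₂ : Y ⟶ Z) (h : p G u q hq ≫ k₁ = p G u q hq ≫ k₂) : k₁ = k₂ := by
  apply huniq
  have := u ≫= h
  rwa [← Category.assoc, ← Category.assoc, u_p] at this

theorem surjective_p [Surjective q] : Surjective (p G u q hq) := by
  haveI : Surjective (u ≫ p G u q hq) := by rw [u_p]; infer_instance
  exact Surjective.of_comp u _

end desc

end Groth.Agent.Lib.Helper4.GrpdQSec1
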