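import Mathlib
import Groth.Prelude.Def_Grpd
import Groth.Agent.S7457
import Groth.Agent.Lib.Helper4.GrpdBC
import Groth.Agent.Lib.Helper4.GrpdRestr
import Groth.Agent.Lib.Helper4.GrpdQSec1
import Groth.Agent.Lib.Helper4.GrpdFlatLocal

/-!
# Quotient by a groupoid with a quasi-section (SGA 3 V, Théorème 6.1), part 2

With the notation of part 1: `R ⟶ U ×_Y U` is surjective (resp. an isomorphism) as soon as
`R' ⟶ U' ×_Y U'` is (resp. is, and `(t, s)` is a monomorphism).
-/

set_option backward.isDefEq.respectTransparency false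
set_option autoImplicit false
set_option linter.style.haveILetI false
set_option linter.unusedSectionVars false

universe u
open CategoryTheory CategoryTheory.Limits AlgebraicGeometry

namespace Groth.Agent.Lib.Helper4.GrpdQSec2

open Groth.Agent.S7457 Groth.Agent.Lib.Helper4.GrpdBC Groth.Agent.Lib.Helper4.GrpdRestr
  Groth.Agent.Lib.Helper4.GrpdQSec1

variable {S : Scheme.{u}} (G : Grpd.GroupoidScheme S) {U' : Scheme.{u}} (u : U' ⟶ G.U) [Mono u]

/-- `g₁⁻¹ ∘ ρ ∘ g₂` -/
theorem exists_arrow {T : Scheme.{u}} (g₁ g₂ : T ⟶ V G u) (ρ : T ⟶ (G' G u).R)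
    (ht : ρ ≫ (G' G u).t = g₁ ≫ pullback.snd G.t u)
    (hs : ρ ≫ (G' G u).s = g₂ ≫ pullback.snd G.t u) :
    ∃ m : T ⟶ G.R, m ≫ G.t = g₁ ≫ v G u ∧ m ≫ G.s = g₂ ≫ v G u := by
  have h1 : ((g₁ ≫ pullback.fst G.t u) ≫ G.i) ≫ G.s = (ρ ≫ ιR G u) ≫ G.t := by
    rw [Category.assoc _ G.i, G.i_s, Category.assoc, pullback.condition, Category.assoc ρ, ιR_t,
      reassoc_of% ht]
  have h2 : cmp G ((g₁ ≫ pullback.fst G.t u) ≫ G.i) (ρ ≫ ιR G u) h1 ≫ G.s =
      (g₂ ≫ pullback.fst G.t u) ≫ G.t := by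
    rw [cmp_s, Category.assoc, ιR_s, reassoc_of% hs, Category.assoc, pullback.condition]
  refine ⟨cmp G (cmp G ((g₁ ≫ pullback.fst G.t u) ≫ G.i) (ρ ≫ ιR G u) h1)
    (g₂ ≫ pullback.fst G.t u) h2, ?_, ?_⟩
  · rw [cmp_t, cmp_t, Category.assoc _ G.i, G.i_t, v_def, Category.assoc]
  · rw [cmp_s, v_def, Category.assoc]

section quot

variable {Y : Scheme.{u}} (q : U' ⟶ Y) (hq : (G' G u).s ≫ q = (G' G u).t ≫ q)
  [EffectiveEpi (v G u)] [Flat (v G u)] [Surjective (v G u)]

/-- `R ⟶ U ×_Y U` -/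
noncomputable def kR : G.R ⟶ pullback (p G u q hq) (p G u q hq) :=
  pullback.lift G.t G.s (t_p G u q hq)

@[reassoc (attr := simp)]
theorem kR_fst : kR G u q hq ≫ pullback.fst _ _ = G.t := pullback.lift_fst _ _ _

@[reassoc (attr := simp)]
theorem kR_snd : kR G u q hq ≫ pullback.snd _ _ = G.s := pullback.lift_snd _ _ _

/-- `R' ⟶ U' ×_Y U'` -/
noncomputable def kq : (G' G u).R ⟶ pullback q q :=
  pullback.lift (G' G u).t (G' G u).s hq.symm

@[reassoc (attr := simp)]
theorem kq_fst : kq G u q hq ≫ pullback.fst _ _ = (G' G u).t := pullback.lift_fst _ _ _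

@[reassoc (attr := simp)]
theorem kq_snd : kq G u q hq ≫ pullback.snd _ _ = (G' G u).s := pullback.lift_snd _ _ _

section cover

variable {C : Scheme.{u}} (c : C ⟶ pullback (p G u q hq) (p G u q hq)) (g₁ g₂ : C ⟶ V G u)
  (h₁ : g₁ ≫ v G u = c ≫ pullback.fst _ _) (h₂ : g₂ ≫ v G u = c ≫ pullback.snd _ _)

include h₁ h₂ in
theorem d_cond : (g₁ ≫ pullback.snd G.t u) ≫ q = (g₂ ≫ pullback.snd G.t u) ≫ q := by
  rw [Category.assoc, Category.assoc, ← v_p G u q hq, ← Category.assoc, ← Category.assoc, h₁, h₂,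
    Category.assoc, Category.assoc, pullback.condition]

/-- `C ⟶ U' ×_Y U'` -/
noncomputable def dC : C ⟶ pullback q q :=
  pullback.lift (g₁ ≫ pullback.snd G.t u) (g₂ ≫ pullback.snd G.t u) (d_cond G u q hq c g₁ g₂ h₁ h₂)

theorem exists_lift_cover :
    ∃ m : pullback (dC G u q hq c g₁ g₂ h₁ h₂) (kq G u q hq) ⟶ G.R,
      m ≫ kR G u q hq = pullback.fst (dC G u q hq c g₁ g₂ h₁ h₂) (kq G u q hq) ≫ c := by
  obtain ⟨m, hm1, hm2⟩ := exists_arrow G u
    (pullback.fst (dC G u q hq c g₁ g₂ h₁ h₂) (kq G u q hq) ≫ g₁)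
    (pullback.fst (dC G u q hq c g₁ g₂ h₁ h₂) (kq G u q hq) ≫ g₂)
    (pullback.snd (dC G u q hq c g₁ g₂ h₁ h₂) (kq G u q hq))
    (by
      rw [← kq_fst G u q hq, ← pullback.condition_assoc]
      unfold dC
      rw [pullback.lift_fst, Category.assoc])
    (by
      rw [← kq_snd G u q hq, ← pullback.condition_assoc]
      unfold dC
      rw [pullback.lift_snd, Category.assoc])
  refine ⟨m, ?_⟩
  apply pullback.hom_ext
  · rw [Category.assoc, kR_fst, hm1, Category.assoc, h₁, Category.assoc]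
  · rw [Category.assoc, kR_snd, hm2, Category.assoc, h₂, Category.assoc]

include h₁ h₂ in
theorem surjective_kR_of_cover [Surjective c] [Surjective (kq G u q hq)] :
    Surjective (kR G u q hq) := by
  obtain ⟨m, hm⟩ := exists_lift_cover G u q hq c g₁ g₂ h₁ h₂
  haveI : Surjective (m ≫ kR G u q hq) := by rw [hm]; infer_instance
  exact Surjective.of_comp m _

include h₁ h₂ in
theorem isIso_kR_of_cover [Surjective c] [Flat c] [QuasiCompact c] [IsIso (kq G u q hq)]
    [Mono (kR G u q hq)] : IsIso (kR G u q hq) := by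
  obtain ⟨m, hm⟩ := exists_lift_cover G u q hq c g₁ g₂ h₁ h₂
  have hQ : (@Surjective ⊓ @Flat ⊓ @QuasiCompact : MorphismProperty Scheme.{u}) c :=
    ⟨⟨inferInstance, inferInstance⟩, inferInstance⟩
  refine MorphismProperty.of_pullback_snd_of_descendsAlong (P := MorphismProperty.isomorphisms _)
    (Q := (@Surjective ⊓ @Flat ⊓ @QuasiCompact : MorphismProperty Scheme.{u}))
    (f := kR G u q hq) (g := c) hQ ?_
  haveI : IsIso (pullback.fst (dC G u q hq c g₁ g₂ h₁ h₂) (kq G u q hq)) := inferInstance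
  let σ : C ⟶ pullback (kR G u q hq) c :=
    pullback.lift (inv (pullback.fst (dC G u q hq c g₁ g₂ h₁ h₂) (kq G u q hq)) ≫ m) (𝟙 C)
      (by rw [Category.assoc, hm, IsIso.inv_hom_id_assoc, Category.id_comp])
  have hσ : σ ≫ pullback.snd (kR G u q hq) c = 𝟙 C := pullback.lift_snd _ _ _
  have hσ' : pullback.snd (kR G u q hq) c ≫ σ = 𝟙 _ := by
    rw [← cancel_mono (pullback.snd (kR G u q hq) c), Category.assoc, hσ, Category.comp_id,
      Category.id_comp]
  exact ⟨σ, hσ', hσ⟩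

end cover

/-- an fpqc cover of `U ×_Y U` over which both projections lift to `V` -/
theorem exists_cover :
    ∃ (C : Scheme.{u}) (c : C ⟶ pullback (p G u q hq) (p G u q hq)) (g₁ g₂ : C ⟶ V G u),
      g₁ ≫ v G u = c ≫ pullback.fst _ _ ∧ g₂ ≫ v G u = c ≫ pullback.snd _ _ ∧
      Surjective c ∧ Flat c ∧ (QuasiCompact (v G u) → QuasiCompact c) := by
  refine ⟨pullback (pullback.fst (pullback.fst (p G u q hq) (p G u q hq)) (v G u) ≫
      pullback.snd (p G u q hq) (p G u q hq)) (v G u),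
    pullback.fst _ _ ≫ pullback.fst _ _,
    pullback.fst _ _ ≫ pullback.snd _ _, pullback.snd _ _, ?_, ?_, inferInstance, inferInstance,
    fun h => ?_⟩
  · rw [Category.assoc, ← pullback.condition, Category.assoc]
  · rw [← pullback.condition, Category.assoc]
  · haveI := h
    infer_instance

theorem surjective_kR [Surjective (kq G u q hq)] : Surjective (kR G u q hq) := by
  obtain ⟨C, c, g₁, g₂, h₁, h₂, hc, -, -⟩ := exists_cover G u q hq
  haveI := hc
  exact surjective_kR_of_cover G u q hq c g₁ g₂ h₁ h₂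

theorem mono_kR (hJ : JMono G) : Mono (kR G u q hq) := by
  constructor
  intro T a b hab
  apply hJ
  · have := hab =≫ pullback.fst _ _
    simpa only [Category.assoc, kR_fst] using this
  · have := hab =≫ pullback.snd _ _
    simpa only [Category.assoc, kR_snd] using this

theorem isIso_kR [QuasiCompact (v G u)] [IsIso (kq G u q hq)] (hJ : JMono G) :
    IsIso (kR G u q hq) := by
  obtain ⟨C, c, g₁, g₂, h₁, h₂, hc, hc', hc''⟩ := exists_cover G u q hq
  haveI := hc
  haveI := hc'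
  haveI := hc'' inferInstance
  haveI := mono_kR G u q hq hJ
  exact isIso_kR_of_cover G u q hq c g₁ g₂ h₁ h₂

theorem isPullback_p [QuasiCompact (v G u)] [IsIso (kq G u q hq)] (hJ : JMono G) :
    IsPullback G.t G.s (p G u q hq) (p G u q hq) := by
  haveI := isIso_kR G u q hq hJ
  exact IsPullback.of_iso_pullback ⟨t_p G u q hq⟩ (asIso (kR G u q hq)) (kR_fst G u q hq)
    (kR_snd G u q hq)

/-- the fibres of `p` are the orbits -/
theorem p_eq_iff [Surjective (kq G u q hq)] (x y : G.U) :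
    p G u q hq x = p G u q hq y ↔ ∃ r : G.R, G.t r = x ∧ G.s r = y := by
  constructor
  · intro h
    obtain ⟨z, hz1, hz2⟩ := Scheme.Pullback.exists_preimage_pullback (f := p G u q hq)
      (g := p G u q hq) x y h
    obtain ⟨r, rfl⟩ := (surjective_kR G u q hq).surj z
    refine ⟨r, ?_, ?_⟩
    · rw [← hz1, ← Scheme.Hom.comp_apply, kR_fst]
    · rw [← hz2, ← Scheme.Hom.comp_apply, kR_snd]
  · rintro ⟨r, rfl, rfl⟩
    rw [← Scheme.Hom.comp_apply, ← Scheme.Hom.comp_apply, t_p]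

theorem isOpenMap_p [Surjective q] [Surjective (kq G u q hq)] (hqo : IsOpenMap q.base)
    (ht : IsOpenMap G.t.base) : IsOpenMap (p G u q hq).base := by
  intro O hO
  have e1 : (p G u q hq).base ⁻¹' ((p G u q hq).base '' O) = G.t.base '' (G.s.base ⁻¹' O) := by
    ext x
    constructor
    · rintro ⟨y, hy, hxy⟩
      obtain ⟨r, hr1, hr2⟩ := (p_eq_iff G u q hq x y).mp hxy.symm
      exact ⟨r, by rw [Set.mem_preimage]; exact hr2 ▸ hy, hr1⟩
    · rintro ⟨r, hr, rfl⟩
      exact ⟨G.s r, hr, ((p_eq_iff G u q hq (G.t r) (G.s r)).mpr ⟨r, rfl, rfl⟩).symm⟩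
  have e2 : q.base ⁻¹' ((p G u q hq).base '' O) =
      u.base ⁻¹' ((p G u q hq).base ⁻¹' ((p G u q hq).base '' O)) := by
    rw [← Set.preimage_comp]
    congr 1
    have := congrArg (fun f => (f.base : U' → Y)) (u_p G u q hq)
    exact this.symm
  have e3 : (p G u q hq).base '' O = q.base '' (q.base ⁻¹' ((p G u q hq).base '' O)) :=
    (Set.image_preimage_eq _ (Surjective.surj (f := q))).symm
  rw [e3]
  apply hqo
  rw [e2, e1]
  exact (ht _ (hO.preimage G.s.continuous)).preimage u.continuous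

theorem universallyClosed_p [UniversallyClosed G.t] [UniversallyClosed q] :
    UniversallyClosed (p G u q hq) := by
  haveI : UniversallyClosed (v G u ≫ p G u q hq) := by
    rw [v_p]
    infer_instance
  exact UniversallyClosed.of_comp_surjective (v G u) _

theorem flat_p [Flat G.t] [Flat q] : Flat (p G u q hq) := by
  haveI : Flat (v G u ≫ p G u q hq) := by
    rw [v_p]
    infer_instance
  rw [Flat.iff_flat_stalkMap]
  intro x
  obtain ⟨z, rfl⟩ := (Surjective.surj (f := v G u)) x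
  exact Groth.Agent.Lib.Helper4.GrpdFlatLocal.flat_stalkMap_of_comp (v G u) (p G u q hq) z

end quot

end Groth.Agent.Lib.Helper4.GrpdQSec2
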