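import Mathlib
import Groth.Prelude.Def_Grpd
import Groth.Prelude.Def_Mor2
import Groth.Agent.Lib.Helper4.GrpdQSec1
import Groth.Agent.Lib.Helper4.GrpdQSec2
import Groth.Agent.Lib.Helper4.GrpdQuotMain

/-!
# Quotient by a groupoid with a quasi-section (SGA 3 V, Théorème 6.1)
-/

set_option backward.isDefEq.respectTransparency false
set_option autoImplicit false
set_option linter.style.haveILetI false
set_option linter.unusedSectionVars false

universe u
open CategoryTheory CategoryTheory.Limits AlgebraicGeometry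

namespace Groth.Agent.Lib.Helper4.GrpdQSecMain

open Groth.Agent.Lib.Helper4.GrpdBC Groth.Agent.Lib.Helper4.GrpdRestr
  Groth.Agent.Lib.Helper4.GrpdQSec1 Groth.Agent.Lib.Helper4.GrpdQSec2
  Groth.Agent.Lib.Helper4.GrpdQuotMain

theorem quasi_section (S : Scheme.{u}) (G : Grpd.GroupoidScheme S)
    (U' : Scheme.{u}) (u : U' ⟶ G.U) [IsImmersion u]
    (h1 : Mor2.IsFinLocFree (pullback.fst G.t u ≫ G.s) ∧ Surjective (pullback.fst G.t u ≫ G.s))
    (h2 : ∀ E : Set U', (∀ x ∈ E, ∀ y ∈ E, ∃ r : G.R, G.t.base r = u.base x ∧ G.s.base r = u.base y) →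
      ∃ W : U'.Opens, IsAffineOpen W ∧ E ⊆ (W : Set U')) :
    ∃ (Y : Scheme.{u}) (p : G.U ⟶ Y) (w : G.t ≫ p = G.s ≫ p),
      Nonempty (IsColimit (Cofork.ofπ p w)) ∧ Surjective p ∧
      (IsOpenMap G.t.base → IsOpenMap p.base) ∧ (UniversallyClosed G.t → UniversallyClosed p) ∧
      Function.Surjective (pullback.lift G.t G.s w).base ∧
      (Mono G.j → IsPullback G.t G.s p p ∧ (Flat G.t → Flat p)) := by
  obtain ⟨⟨hfin, hflat, hlfp⟩, hsurj⟩ := h1
  haveI : IsFinite (v G u) := hfin
  haveI : Flat (v G u) := hflat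
  haveI : LocallyOfFinitePresentation (v G u) := hlfp
  haveI : Surjective (v G u) := hsurj
  have haff : ∀ x : (G' G u).U, ∃ W : (G' G u).U.Opens, IsAffineOpen W ∧
      (G' G u).t.base '' ((G' G u).s.base ⁻¹' {x}) ⊆ (W : Set (G' G u).U) := fun x =>
    h2 _ (fun y₁ hy₁ y₂ hy₂ => orbit_equiv G u x y₁ y₂ hy₁ hy₂)
  obtain ⟨Y, q, hq, hdesc, huniq, -, hint, hsurjq, hopen, -, hksurj, -, hmono⟩ :=
    exists_quotient (G' G u) haff
  haveI := hint
  haveI := hsurjq
  haveI : Surjective (kq G u q hq) := ⟨hksurj⟩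
  refine ⟨Y, p G u q hq, t_p G u q hq, ⟨?_⟩, surjective_p G u q hq,
    fun ht => isOpenMap_p G u q hq hopen ht, fun ht => ?_, (surjective_kR G u q hq).surj,
    fun hm => ?_⟩
  · exact Cofork.IsColimit.mk _
      (fun s => (desc_p G u q hq hdesc s.π s.condition).choose)
      (fun s => (desc_p G u q hq hdesc s.π s.condition).choose_spec)
      (fun s m hm => uniq_p G u q hq huniq _ _
        (hm.trans (desc_p G u q hq hdesc s.π s.condition).choose_spec.symm))
  · haveI := ht
    exact universallyClosed_p G u q hq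
  · haveI := hm
    have hJ : JMono G := jMono_of_mono G
    obtain ⟨-, hqflat, -, hkiso⟩ := hmono (jMono_G' G u hJ)
    haveI : IsIso (kq G u q hq) := hkiso
    refine ⟨isPullback_p G u q hq hJ, fun hft => ?_⟩
    haveI := hft
    haveI := hqflat
    exact flat_p G u q hq

end Groth.Agent.Lib.Helper4.GrpdQSecMain
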