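import Mathlib
import Groth.Prelude.Def_Mor2
import Groth.Agent.Lib.Helper4.GrpdQuotMain

/-!
# Quotients by finite locally free groupoids: the forms of the statements S5690, S4085, S4086
-/

set_option backward.isDefEq.respectTransparency false
set_option autoImplicit false
set_option linter.style.haveILetI false
set_option linter.unusedSectionVars false

universe u
open CategoryTheory CategoryTheory.Limits AlgebraicGeometry

namespace Groth.Agent.Lib.Helper4.GrpdQuotForms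

open Groth.Agent.Lib.Helper4.GrpdBC Groth.Agent.Lib.Helper4.GrpdQuotMain

variable {S : Scheme.{u}} (G : Grpd.GroupoidScheme S)

theorem form_S5690 [IsFinite G.s] [Flat G.s] [LocallyOfFinitePresentation G.s]
    (haff : ∀ x : ↥G.U, ∃ V : G.U.Opens, IsAffineOpen V ∧
      G.t.base '' (G.s.base ⁻¹' {x}) ⊆ (V : Set ↥G.U)) :
    ∃ (Y : Scheme.{u}) (q : G.U ⟶ Y) (w : G.s ≫ q = G.t ≫ q),
      Nonempty (IsColimit (Cofork.ofπ q w)) ∧ IsAffineHom q ∧ IsIntegralHom q ∧ Surjective q ∧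
      (∀ x x' : ↥G.U, q.base x = q.base x' ↔ ∃ r : ↥G.R, G.s.base r = x ∧ G.t.base r = x') ∧
      (Mono G.j → IsFinite q ∧ Flat q ∧ LocallyOfFinitePresentation q ∧
        IsIso (pullback.lift G.t G.s w.symm : G.R ⟶ pullback q q)) := by
  obtain ⟨Y, q, w, hdesc, huniq, h1, h2, h3, -, hfib, -, -, hmono⟩ := exists_quotient G haff
  refine ⟨Y, q, w, ⟨?_⟩, h1, h2, h3, ?_, ?_⟩
  · exact Cofork.IsColimit.mk _ (fun s => (hdesc s.pt s.π s.condition).choose)
      (fun s => (hdesc s.pt s.π s.condition).choose_spec)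
      (fun s m hm => huniq _ _ _ (hm.trans (hdesc s.pt s.π s.condition).choose_spec.symm))
  · intro x x'
    constructor
    · intro h
      obtain ⟨r, hr1, hr2⟩ := (hfib x' x).mp h.symm
      exact ⟨r, hr2, hr1⟩
    · rintro ⟨r, hr1, hr2⟩
      exact ((hfib x' x).mpr ⟨r, hr2, hr1⟩).symm
  · intro hm
    haveI := hm
    exact hmono (jMono_of_mono G)

theorem form_S4085 (ha : Mor2.IsFinLocFree G.s)
    (hb : ∀ x : G.U, ∃ V : G.U.Opens, IsAffineOpen V ∧
      G.t.base '' (G.s.base ⁻¹' {x}) ⊆ (V : Set G.U)) :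
    ∃ (Y : Scheme.{u}) (p : G.U ⟶ Y) (w : G.t ≫ p = G.s ≫ p),
      Nonempty (IsColimit (Cofork.ofπ p w)) ∧ IsIntegralHom p ∧ Surjective p ∧ IsOpenMap p.base ∧
      (∀ x y : G.U, p.base x = p.base y ↔ ∃ r : G.R, G.t.base r = x ∧ G.s.base r = y) ∧
      Function.Surjective (pullback.lift G.t G.s w).base ∧ (IsAffine G.U → IsAffine Y) := by
  obtain ⟨hfin, hflat, hlfp⟩ := ha
  obtain ⟨Y, q, w, hdesc, huniq, -, h2, h3, h4, hfib, hsurj, haffY, -⟩ := exists_quotient G hb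
  refine ⟨Y, q, w.symm, ⟨?_⟩, h2, h3, h4, hfib, hsurj, haffY⟩
  exact Cofork.IsColimit.mk _ (fun s => (hdesc s.pt s.π s.condition.symm).choose)
    (fun s => (hdesc s.pt s.π s.condition.symm).choose_spec)
    (fun s m hm => huniq _ _ _ (hm.trans (hdesc s.pt s.π s.condition.symm).choose_spec.symm))

theorem form_S4086 (ha : Mor2.IsFinLocFree G.s)
    (hb : ∀ x : G.U, ∃ V : G.U.Opens, IsAffineOpen V ∧
      G.t.base '' (G.s.base ⁻¹' {x}) ⊆ (V : Set G.U))
    [Mono G.j] (Y : Scheme.{u}) (p : G.U ⟶ Y) (w : G.t ≫ p = G.s ≫ p)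
    (hc : IsColimit (Cofork.ofπ p w)) :
    IsPullback G.t G.s p p ∧ Mor2.IsFinLocFree p := by
  obtain ⟨hfin, hflat, hlfp⟩ := ha
  obtain ⟨Y₀, q, w₀, hdesc, huniq, -, -, -, -, -, -, -, hmono⟩ := exists_quotient G hb
  obtain ⟨hq1, hq2, hq3, hiso⟩ := hmono (jMono_of_mono G)
  -- the comparison isomorphism
  obtain ⟨a, ha⟩ := hdesc Y p w.symm
  let b : Y ⟶ Y₀ := Cofork.IsColimit.desc hc q w₀.symm
  have hb' : p ≫ b = q := Cofork.IsColimit.π_desc hc
  have hab : a ≫ b = 𝟙 Y₀ := huniq _ _ _ (by rw [← Category.assoc, ha, hb', Category.comp_id])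
  have hba : b ≫ a = 𝟙 Y := by
    apply Cofork.IsColimit.hom_ext hc
    change p ≫ b ≫ a = p ≫ 𝟙 Y
    rw [← Category.assoc, hb', ha, Category.comp_id]
  let φ : Y₀ ≅ Y := ⟨a, b, hab, hba⟩
  haveI : IsIso a := ⟨b, hab, hba⟩
  have hpb₀ : IsPullback G.t G.s q q :=
    IsPullback.of_iso_pullback ⟨w₀.symm⟩ (asIso (pullback.lift G.t G.s w₀.symm))
      (pullback.lift_fst _ _ _) (pullback.lift_snd _ _ _)
  refine ⟨?_, ?_, ?_, ?_⟩
  · exact hpb₀.of_iso (Iso.refl _) (Iso.refl _) (Iso.refl _) φ (by simp) (by simp)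
      (by simpa using ha) (by simpa using ha)
  · rw [← ha]; infer_instance
  · rw [← ha]; infer_instance
  · rw [← ha]; infer_instance

end Groth.Agent.Lib.Helper4.GrpdQuotForms
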