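import Mathlib
import Groth.Agent.Lib.Helper4.GrpdFinFlat
import Groth.Agent.Lib.Helper14.RepSh6

/-!
# Finite locally free groupoids, affine case: `M = Spec C` is the fppf quotient sheaf `U/R`
-/

set_option backward.isDefEq.respectTransparency false
set_option autoImplicit false
set_option linter.style.haveILetI false
set_option linter.unusedSectionVars false

universe u
open CategoryTheory CategoryTheory.Limits AlgebraicGeometry

namespace Groth.Agent.Lib.Helper4.GrpdQuotSheaf

open Groth.Agent.Lib.Helper4.GrpdBC Groth.Agent.Lib.Helper4.GrpdLocalCase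
  Groth.Agent.Lib.Helper4.GrpdFinFlat Groth.Agent.Lib.Helper14.RepSh

variable {S : Scheme.{u}} (G : Grpd.GroupoidScheme S)
  [IsAffine G.U] [IsAffine G.R] [IsFinite G.s] [Flat G.s] [LocallyOfFinitePresentation G.s]
  [IsFinite G.t] [Flat G.t] [LocallyOfFinitePresentation G.t]

theorem isPullback_toQuot (hJ : JMono G) : IsPullback G.t G.s G.toQuot G.toQuot := by
  haveI := isIso_kQuot G hJ
  exact IsPullback.of_iso_pullback ⟨Groth.Agent.S1878.t_toQuot G⟩ (asIso (kQuot G))
    (kQuot_fst G) (kQuot_snd G)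

theorem toQuot_isQuotient (hJ : JMono G) :
    ∃! m : Spec (CommRingCat.of G.invariants) ⟶ S, ∃ h : G.toQuot ≫ m = G.pU,
      QuotSh.IsQuotient Scheme.fppfPrecoverage
        (Over.homMk G.s G.s_over : Over.mk G.pR ⟶ Over.mk G.pU)
        (Over.homMk G.t G.t_over : Over.mk G.pR ⟶ Over.mk G.pU)
        (Over.homMk G.toQuot h : Over.mk G.pU ⟶ Over.mk m) := by
  obtain ⟨⟨hfin, hflat, hlfp⟩, -⟩ := finite_flat_quotient G hJ
  have hpb := isPullback_toQuot G hJ
  haveI hsurj : Surjective G.toQuot := ⟨(Groth.Agent.S1878.result S G).1.1⟩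
  haveI : IsRegularEpi G.toQuot := isRegularEpi_of_flat_of_surjective_of_isAffine _
  haveI : Epi G.toQuot := Flat.epi_of_flat_of_surjective _
  obtain ⟨m, hm⟩ := IsRegularEpi.exists_of_isKernelPair G.toQuot hpb G.pU
    (G.t_over.trans G.s_over.symm)
  refine ⟨m, ⟨hm, ?_⟩, ?_⟩
  · have hk : IsKernelPair (Over.homMk G.toQuot hm : Over.mk G.pU ⟶ Over.mk m)
        (Over.homMk G.s G.s_over : Over.mk G.pR ⟶ Over.mk G.pU)
        (Over.homMk G.t G.t_over : Over.mk G.pR ⟶ Over.mk G.pU) := by
      apply isPullback_over_of_left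
      · ext
        exact hpb.w.symm
      · exact hpb.flip
    haveI : Flat (Over.homMk G.toQuot hm : Over.mk G.pU ⟶ Over.mk m).left := hflat
    haveI : LocallyOfFinitePresentation
      (Over.homMk G.toQuot hm : Over.mk G.pU ⟶ Over.mk m).left := hlfp
    haveI : Surjective (Over.homMk G.toQuot hm : Over.mk G.pU ⟶ Over.mk m).left := hsurj
    haveI := epi_repMap_fppf (Over.homMk G.toQuot hm : Over.mk G.pU ⟶ Over.mk m)
    exact isQuotient_of_isKernelPair Scheme.fppfPrecoverage _ _ _ hk
  · rintro m' ⟨h', -⟩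
    exact (cancel_epi G.toQuot).1 (h'.trans hm.symm)

end Groth.Agent.Lib.Helper4.GrpdQuotSheaf
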