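import Mathlib
import Groth.Agent.Lib.Helper4.AffineDescent
import Groth.Agent.Lib.Helper4.DescEtale

/-!
# (Quasi-)separatedness passes to the target of a finite flat surjection

`q : U ⟶ M` finite, flat, surjective and `π : M ⟶ S`.  If `q ≫ π` is quasi-separated (resp.
separated) then so is `π`.
-/

set_option backward.isDefEq.respectTransparency false
set_option autoImplicit false
set_option linter.style.haveILetI false
set_option linter.unusedSectionVars false

universe u
open CategoryTheory CategoryTheory.Limits AlgebraicGeometry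

namespace Groth.Agent.Lib.Helper4.QuotSep

variable {U M S : Scheme.{u}} (q : U ⟶ M) (π : M ⟶ S)

theorem fpqc_map [Surjective q] [Flat q] [QuasiCompact q] :
    (@Surjective ⊓ @Flat ⊓ @QuasiCompact : MorphismProperty Scheme.{u})
      (pullback.map (q ≫ π) (q ≫ π) π π q q (𝟙 S) (Category.comp_id _) (Category.comp_id _)) := by
  have hq : (@Surjective ⊓ @Flat ⊓ @QuasiCompact : MorphismProperty Scheme.{u}) q :=
    ⟨⟨inferInstance, inferInstance⟩, inferInstance⟩
  exact MorphismProperty.pullbackMap (P := (@Surjective ⊓ @Flat ⊓ @QuasiCompact :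
    MorphismProperty Scheme.{u})) hq hq rfl rfl

theorem quasiSeparated_of_comp [Surjective q] [Flat q] [QuasiCompact q]
    [QuasiSeparated (q ≫ π)] : QuasiSeparated π := by
  constructor
  have hpb := pullback_map_diagonal_isPullback q q π
  haveI := Groth.Agent.Lib.Helper4.DescEtale.quasiCompact_descendsAlong_fpqc.{u}
  refine MorphismProperty.of_isPullback_of_descendsAlong (P := @QuasiCompact)
    (Q := (@Surjective ⊓ @Flat ⊓ @QuasiCompact : MorphismProperty Scheme.{u})) hpb.flip
    (fpqc_map q π) ?_
  -- `U ×_M U ⟶ U ×_S U` is quasi-compact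
  haveI : QuasiCompact (pullback.map q q (q ≫ π) (q ≫ π) (𝟙 U) (𝟙 U) π (Category.id_comp _).symm
      (Category.id_comp _).symm ≫ pullback.fst (q ≫ π) (q ≫ π)) := by
    rw [pullback.lift_fst, Category.comp_id]
    infer_instance
  exact QuasiCompact.of_comp _ (pullback.fst (q ≫ π) (q ≫ π))

theorem isSeparated_of_comp [Surjective q] [Flat q] [IsFinite q]
    [IsSeparated (q ≫ π)] : IsSeparated π := by
  constructor
  have hpb := pullback_map_diagonal_isPullback q q π
  refine MorphismProperty.of_isPullback_of_descendsAlong (P := @IsClosedImmersion)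
    (Q := (@Surjective ⊓ @Flat ⊓ @QuasiCompact : MorphismProperty Scheme.{u})) hpb.flip
    (fpqc_map q π) ?_
  rw [IsClosedImmersion.iff_isProper_and_mono]
  constructor
  · haveI : IsProper (pullback.map q q (q ≫ π) (q ≫ π) (𝟙 U) (𝟙 U) π (Category.id_comp _).symm
        (Category.id_comp _).symm ≫ pullback.fst (q ≫ π) (q ≫ π)) := by
      rw [pullback.lift_fst, Category.comp_id]
      infer_instance
    exact IsProper.of_comp _ (pullback.fst (q ≫ π) (q ≫ π))
  · haveI : Mono (pullback.diagonal π) := inferInstance
    exact hpb.mono_snd_of_mono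

end Groth.Agent.Lib.Helper4.QuotSep
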