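import Mathlib
import Groth.Prelude.Def_AlgSp
import Groth.Prelude.Def_Mor2
import Groth.Agent.Lib.Helper4.GrpdQuotSheaf2
import Groth.Agent.Lib.Helper4.QuotSep

/-!
# Uniqueness of scheme quotients (as representing objects of the quotient sheaf) and separation
properties of quotients by finite locally free equivalence relations (Stacks 03JF-type statement)
-/

set_option backward.isDefEq.respectTransparency false
set_option autoImplicit false
set_option linter.style.haveILetI false
set_option linter.unusedSectionVars false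

universe u
open CategoryTheory CategoryTheory.Limits AlgebraicGeometry

namespace Groth.Agent.Lib.Helper4.GrpdQuotSheaf3

open Groth.Agent.Lib.Helper4.GrpdBC Groth.Agent.Lib.Helper4.GrpdQuotMain
  Groth.Agent.Lib.Helper14.RepSh Groth.Agent.Lib.Helper4.GrpdQuotSheaf2

variable {S : Scheme.{u}}

/-- Two schemes representing the quotient sheaf are uniquely isomorphic under `U`. -/
theorem exists_iso_of_isQuotient (K : Precoverage Scheme.{u}) [(QuotSh.J K S).Subcanonical]
    {R U M M' : Over S} (s t : R ⟶ U) (q : U ⟶ M) (q' : U ⟶ M')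
    (h : QuotSh.IsQuotient K s t q) (h' : QuotSh.IsQuotient K s t q') :
    ∃ g : M ≅ M', q ≫ g.hom = q' := by
  obtain ⟨w, hw⟩ := h
  obtain ⟨w', hw'⟩ := h'
  obtain ⟨g, hg⟩ := exists_repMap_eq K (inv (QuotSh.quotDesc K q w) ≫ QuotSh.quotDesc K q' w')
  obtain ⟨g', hg'⟩ := exists_repMap_eq K (inv (QuotSh.quotDesc K q' w') ≫ QuotSh.quotDesc K q w)
  have h1 : g ≫ g' = 𝟙 M := by
    apply repMap_injective K
    rw [repMap_comp, hg, hg', repMap_id]
    simp
  have h2 : g' ≫ g = 𝟙 M' := by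
    apply repMap_injective K
    rw [repMap_comp, hg, hg', repMap_id]
    simp
  refine ⟨⟨g, g', h1, h2⟩, ?_⟩
  apply repMap_injective K
  rw [repMap_comp, hg, ← quotπ_quotDesc K q w, ← quotπ_quotDesc K q' w']
  simp

variable (G : Grpd.GroupoidScheme S)

/-- the quotient map of a finite locally free equivalence relation is surjective -/
theorem surjective_of_isQuotient (hs : Mor2.IsFinLocFree G.s) (ht : Mor2.IsFinLocFree G.t)
    (heq : AlgSp.IsEqvRel (Over.homMk G.s G.s_over : Over.mk G.pR ⟶ Over.mk G.pU)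
      (Over.homMk G.t G.t_over : Over.mk G.pR ⟶ Over.mk G.pU))
    (h3 : ∀ Z : Set ↥G.U, IsClosed Z → Z.Nonempty →
      ∃ u ∈ Z, ∃ W : G.U.Opens, IsAffineOpen W ∧ ∀ r : ↥G.R, G.s r = u → G.t r ∈ W)
    (M : Over S) (m : Over.mk G.pU ⟶ M)
    (hq : QuotSh.IsQuotient Scheme.fppfPrecoverage
      (Over.homMk G.s G.s_over : Over.mk G.pR ⟶ Over.mk G.pU)
      (Over.homMk G.t G.t_over : Over.mk G.pR ⟶ Over.mk G.pU) m) : Surjective m.left := by
  obtain ⟨hs1, hs2, hs3⟩ := hs
  obtain ⟨ht1, ht2, ht3⟩ := ht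
  obtain ⟨Y, q, w, hdesc, -, -, -, hsurj, -, -, -, -, hmono⟩ :=
    exists_quotient G (haff_of_closed G h3)
  obtain ⟨M', m', hm', hsurj'⟩ : ∃ (M' : Over S) (m' : Over.mk G.pU ⟶ M'),
      QuotSh.IsQuotient Scheme.fppfPrecoverage
        (Over.homMk G.s G.s_over : Over.mk G.pR ⟶ Over.mk G.pU)
        (Over.homMk G.t G.t_over : Over.mk G.pR ⟶ Over.mk G.pU) m' ∧ Surjective m'.left := by
    have hJ := jMono_of_isEqvRel G heq
    obtain ⟨hfin, hflat, hlfp, hiso⟩ := hmono hJ
    obtain ⟨πY, hπ⟩ := hdesc S G.pU (G.s_over.trans G.t_over.symm)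
    have hpb : IsPullback G.t G.s q q :=
      IsPullback.of_iso_pullback ⟨w.symm⟩ (asIso (pullback.lift G.t G.s w.symm))
        (pullback.lift_fst _ _ _) (pullback.lift_snd _ _ _)
    refine ⟨Over.mk πY, Over.homMk q hπ, ?_, hsurj⟩
    have hk : IsKernelPair (Over.homMk q hπ : Over.mk G.pU ⟶ Over.mk πY)
        (Over.homMk G.s G.s_over : Over.mk G.pR ⟶ Over.mk G.pU)
        (Over.homMk G.t G.t_over : Over.mk G.pR ⟶ Over.mk G.pU) := by
      apply isPullback_over_of_left
      · ext
        exact hpb.w.symm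
      · exact hpb.flip
    haveI : Flat (Over.homMk q hπ : Over.mk G.pU ⟶ Over.mk πY).left := hflat
    haveI : LocallyOfFinitePresentation (Over.homMk q hπ : Over.mk G.pU ⟶ Over.mk πY).left :=
      hlfp
    haveI : Surjective (Over.homMk q hπ : Over.mk G.pU ⟶ Over.mk πY).left := hsurj
    haveI := epi_repMap_fppf (Over.homMk q hπ : Over.mk G.pU ⟶ Over.mk πY)
    exact isQuotient_of_isKernelPair Scheme.fppfPrecoverage _ _ _ hk
  obtain ⟨g, hg⟩ := exists_iso_of_isQuotient Scheme.fppfPrecoverage _ _ m' m hm' hq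
  have hg' : m'.left ≫ g.hom.left = m.left := by
    rw [← Over.comp_left, hg]
  haveI := hsurj'
  haveI : IsIso g.hom.left := inferInstanceAs (IsIso ((Over.forget S).map g.hom))
  rw [← hg']
  infer_instance

/-- Stacks 03JF-type statement: separation properties of the quotient. -/
theorem separation (hs : Mor2.IsFinLocFree G.s) (ht : Mor2.IsFinLocFree G.t)
    (heq : AlgSp.IsEqvRel (Over.homMk G.s G.s_over : Over.mk G.pR ⟶ Over.mk G.pU)
      (Over.homMk G.t G.t_over : Over.mk G.pR ⟶ Over.mk G.pU))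
    (h3 : ∀ Z : Set ↥G.U, IsClosed Z → Z.Nonempty →
      ∃ u ∈ Z, ∃ W : G.U.Opens, IsAffineOpen W ∧ ∀ r : ↥G.R, G.s r = u → G.t r ∈ W)
    (M : Over S) (m : Over.mk G.pU ⟶ M) (hm : Mor2.IsFinLocFree m.left)
    (hq : QuotSh.IsQuotient Scheme.fppfPrecoverage
      (Over.homMk G.s G.s_over : Over.mk G.pR ⟶ Over.mk G.pU)
      (Over.homMk G.t G.t_over : Over.mk G.pR ⟶ Over.mk G.pU) m) :
    (QuasiSeparated G.pU → QuasiSeparated M.hom) ∧
      (QuasiSeparatedSpace ↥G.U → QuasiSeparatedSpace ↥M.left) ∧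
      (IsSeparated G.pU → IsSeparated M.hom) ∧ (G.U.IsSeparated → M.left.IsSeparated) := by
  haveI := surjective_of_isQuotient G hs ht heq h3 M m hq
  obtain ⟨hm1, hm2, hm3⟩ := hm
  have hw : m.left ≫ M.hom = G.pU := Over.w m
  refine ⟨fun h => ?_, fun h => ?_, fun h => ?_, fun h => ?_⟩
  · haveI : QuasiSeparated (m.left ≫ M.hom) := by rw [hw]; exact h
    exact QuotSep.quasiSeparated_of_comp m.left M.hom
  · rw [quasiSeparatedSpace_iff_quasiSeparated] at h ⊢
    haveI : QuasiSeparated (m.left ≫ terminal.from M.left) := by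
      rw [terminal.comp_from]; exact h
    exact QuotSep.quasiSeparated_of_comp m.left (terminal.from M.left)
  · haveI : IsSeparated (m.left ≫ M.hom) := by rw [hw]; exact h
    exact QuotSep.isSeparated_of_comp m.left M.hom
  · haveI : IsSeparated (m.left ≫ terminal.from M.left) := by
      rw [terminal.comp_from]; exact h.1
    exact ⟨QuotSep.isSeparated_of_comp m.left (terminal.from M.left)⟩

end Groth.Agent.Lib.Helper4.GrpdQuotSheaf3
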