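import Mathlib
import Groth.Prelude.Def_HilbD
import Groth.Agent.Lib.Helper4.ClosedDescent
import Groth.Agent.Lib.Helper4.FlatDescends
import Groth.Agent.Lib.Helper4.AffineDescent
import Groth.Agent.Lib.Helper4.DescUnivInj
import Groth.Agent.Lib.Helper14.HilbSep2

/-!
# fpqc descent for the Hilbert functor of points `Hilb^d_{X/S}` along a single cover (helper4)

* `pull_eq_comap`: `HilbD.pull f g I = I.comap (XTmap f g)`.
* `isFinLocFreeOfDeg_descends`: finite locally free of degree `d` descends along a flat surjective quasi-compact base change.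
* `existsUnique_of_cover`: the sheaf condition of `Hilb^d_{X/S}` for a single fpqc cover.
-/

set_option autoImplicit false
set_option linter.style.haveILetI false
set_option linter.unusedSectionVars false
set_option linter.unusedVariables false

universe u

open CategoryTheory CategoryTheory.Limits AlgebraicGeometry MorphismProperty

namespace Groth.Agent.Lib.Helper4.HilbDesc

open Groth.Agent.Lib.Helper14.HilbSep

variable {X S : Scheme.{u}} (f : X ⟶ S) (d : ℕ)

theorem pull_eq_comap {T T' : Over S} (g : T' ⟶ T) (I : (PicF.XT f T).IdealSheafData) :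
    HilbD.pull f g I = I.comap (PicF.XTmap f g) := by
  unfold HilbD.pull Scheme.IdealSheafData.comap
  have h : pullback.snd I.subschemeι (PicF.XTmap f g) =
      (pullbackSymmetry I.subschemeι (PicF.XTmap f g)).hom ≫ pullback.fst (PicF.XTmap f g) I.subschemeι := by
    simp
  rw [h, Scheme.Hom.ker_comp_of_isIso]

/-- finite locally free of degree `d` descends along fpqc base change -/
theorem isFinLocFreeOfDeg_descends {P A B C : Scheme.{u}} (fst : P ⟶ A) (snd : P ⟶ B) (p : A ⟶ C) (g : B ⟶ C)
    (h : IsPullback fst snd p g) [Flat g] [Surjective g] [QuasiCompact g]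
    (hsnd : Mor2.IsFinLocFreeOfDeg d snd) : Mor2.IsFinLocFreeOfDeg d p := by
  obtain ⟨⟨h1, h2, h3⟩, h4⟩ := hsnd
  have hg : (@Surjective ⊓ @Flat ⊓ @QuasiCompact : MorphismProperty Scheme.{u}) g :=
    ⟨⟨inferInstance, inferInstance⟩, inferInstance⟩
  have hfin : IsFinite p := of_isPullback_of_descendsAlong (P := @IsFinite) h.flip hg h1
  have hflat : Flat p := of_isPullback_of_descendsAlong (P := @Flat) h.flip hg h2
  have hlfp : LocallyOfFinitePresentation p :=
    of_isPullback_of_descendsAlong (P := @LocallyOfFinitePresentation) h.flip hg h3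
  refine ⟨⟨hfin, hflat, hlfp⟩, fun y => ?_⟩
  obtain ⟨b, rfl⟩ := Surjective.surj (f := g) y
  rw [← Scheme.Hom.finrank_of_isPullback fst snd p g h b, h4]

/-- the sheaf condition of `Hilb^d_{X/S}` for a single fpqc cover -/
theorem existsUnique_of_cover (T : Over S) {T' : Scheme.{u}} (g : T' ⟶ T.left)
    [QuasiCompact g] [Flat g] [Surjective g] (Z' : HilbD.Obj f d (HilbD.coverOver T g))
    (hZ' : HilbD.pull f (HilbD.overlapFst T g) Z'.1 = HilbD.pull f (HilbD.overlapSnd T g) Z'.1) :
    ∃! I : (PicF.XT f T).IdealSheafData, Mor2.IsFinLocFreeOfDeg d (I.subschemeι ≫ PicF.XTproj f T) ∧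
      HilbD.pull f (HilbD.coverHom T g) I = Z'.1 := by
  set G := PicF.XTmap f (HilbD.coverHom T g) with hG
  have sqG : IsPullback G (PicF.XTproj f (HilbD.coverOver T g)) (PicF.XTproj f T) g :=
    isPullback_XTmap f (HilbD.coverHom T g)
  haveI : Flat G := MorphismProperty.of_isPullback (P := @Flat) sqG.flip inferInstance
  haveI : Surjective G := MorphismProperty.of_isPullback (P := @Surjective) sqG.flip inferInstance
  haveI : QuasiCompact G := MorphismProperty.of_isPullback (P := @QuasiCompact) sqG.flip inferInstance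
  have hcov : Presieve.ofArrows (fun _ : PUnit.{u + 1} => PicF.XT f (HilbD.coverOver T g)) (fun _ => G) ∈
      Scheme.fpqcPrecoverage (PicF.XT f T) := DescUnivInj.singleton_mem G
  have hGfst : G ≫ pullback.fst f T.hom = pullback.fst f (HilbD.coverOver T g).hom := XTmap_fst f _
  have hGsnd : G ≫ pullback.snd f T.hom = pullback.snd f (HilbD.coverOver T g).hom ≫ g := XTmap_snd f _
  have c1 : (pullback.fst G G ≫ pullback.snd f (HilbD.coverOver T g).hom) ≫ g =
      (pullback.snd G G ≫ pullback.snd f (HilbD.coverOver T g).hom) ≫ g := by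
    rw [Category.assoc, Category.assoc, ← hGsnd, pullback.condition_assoc]
  have c0 : pullback.fst G G ≫ pullback.fst f (HilbD.coverOver T g).hom =
      pullback.snd G G ≫ pullback.fst f (HilbD.coverOver T g).hom := by
    rw [← hGfst, pullback.condition_assoc]
  obtain ⟨θ, hθ1, hθ2⟩ : ∃ θ : pullback G G ⟶ PicF.XT f (HilbD.overlapOver T g),
      θ ≫ PicF.XTmap f (HilbD.overlapFst T g) = pullback.fst G G ∧
      θ ≫ PicF.XTmap f (HilbD.overlapSnd T g) = pullback.snd G G := by
    refine ⟨pullback.lift (pullback.fst G G ≫ pullback.fst f (HilbD.coverOver T g).hom)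
      (pullback.lift (pullback.fst G G ≫ pullback.snd f (HilbD.coverOver T g).hom)
        (pullback.snd G G ≫ pullback.snd f (HilbD.coverOver T g).hom) c1) ?_, ?_, ?_⟩
    · change _ = _ ≫ ((pullback.fst g g ≫ g) ≫ T.hom)
      rw [Category.assoc, pullback.condition]
      simp only [Category.assoc]
      rw [pullback.lift_fst_assoc]
      simp
    · apply pullback.hom_ext
      · rw [Category.assoc, XTmap_fst, pullback.lift_fst]
      · rw [Category.assoc, XTmap_snd, pullback.lift_snd_assoc]
        exact pullback.lift_fst _ _ _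
    · apply pullback.hom_ext
      · rw [Category.assoc, XTmap_fst, pullback.lift_fst, c0]
      · rw [Category.assoc, XTmap_snd, pullback.lift_snd_assoc]
        exact pullback.lift_snd _ _ _
  have hcompat : ∀ _ _ : PUnit.{u + 1}, (Z'.1).comap (pullback.fst G G) = (Z'.1).comap (pullback.snd G G) := by
    intro _ _
    rw [← hθ1, ← hθ2, Scheme.IdealSheafData.comap_comp, Scheme.IdealSheafData.comap_comp,
      ← pull_eq_comap, ← pull_eq_comap, hZ']
  obtain ⟨J, hJ, hJu⟩ := ClosedDescent.existsUnique_idealSheafData (fun _ : PUnit.{u + 1} => G) hcov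
    (fun _ => Z'.1) hcompat
  have hJ' : HilbD.pull f (HilbD.coverHom T g) J = Z'.1 := by
    rw [pull_eq_comap]
    exact hJ PUnit.unit
  refine ⟨J, ⟨?_, hJ'⟩, fun I hI => hJu I (fun _ => by rw [← pull_eq_comap]; exact hI.2)⟩
  have h1 : Mor2.IsFinLocFreeOfDeg d ((HilbD.pull f (HilbD.coverHom T g) J).subschemeι ≫
      PicF.XTproj f (HilbD.coverOver T g)) := by
    rw [hJ']
    exact Z'.2
  have h2 : Mor2.IsFinLocFreeOfDeg d (bcι f (HilbD.coverHom T g) J ≫ PicF.XTproj f (HilbD.coverOver T g)) := by
    have e : bcι f (HilbD.coverHom T g) J =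
        (bcι f (HilbD.coverHom T g) J).toImage ≫ (bcι f (HilbD.coverHom T g) J).imageι :=
      (Scheme.Hom.toImage_imageι _).symm
    rw [e, Category.assoc]
    exact isFinLocFreeOfDeg_iso_comp d _ _ h1
  have sqZ := isPullback_bcZ f (HilbD.coverHom T g) J
  have e : (HilbD.coverHom T g).left = g := rfl
  rw [e] at sqZ
  exact isFinLocFreeOfDeg_descends d _ _ _ _ sqZ h2

end Groth.Agent.Lib.Helper4.HilbDesc
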