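import Mathlib

/-!
# Homomorphisms from a group scheme with connected fibres to an étale separated group scheme are trivial (helper4)
-/

set_option autoImplicit false
set_option linter.style.haveILetI false
set_option linter.unusedSectionVars false
set_option backward.isDefEq.respectTransparency false
universe u
open CategoryTheory MonoidalCategory CartesianMonoidalCategory MonObj GrpObj AlgebraicGeometry
open CategoryTheory.Limits

namespace Groth.Agent.Lib.Helper4.HomToEtale

/-- A section of an étale separated morphism is an open and closed immersion. -/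
theorem isOpenImmersion_section {X S : Scheme.{u}} (p : X ⟶ S) [Etale p] (e : S ⟶ X) (he : e ≫ p = 𝟙 S) :
    IsOpenImmersion e := by
  haveI : Etale (e ≫ p) := by rw [he]; infer_instance
  haveI : Etale e := Etale.of_comp e p
  haveI : Mono e := mono_of_mono_fac he
  exact IsOpenImmersion.of_flat_of_mono e

theorem isClosedImmersion_section {X S : Scheme.{u}} (p : X ⟶ S) [IsSeparated p] (e : S ⟶ X)
    (he : e ≫ p = 𝟙 S) : IsClosedImmersion e := by
  haveI : IsClosedImmersion (e ≫ p) := by rw [he]; infer_instance
  exact IsClosedImmersion.of_comp e p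

/-- A morphism `f : P ⟶ X` over `S` carrying a section `eP` of `P` to a section `eX` of the étale separated `X ⟶ S`
is constant when the fibres of `P ⟶ S` are connected. -/
theorem eq_const_of_connected_fibres {P X S : Scheme.{u}} (p : P ⟶ S) (x : X ⟶ S) [Etale x] [IsSeparated x]
    (hP : ∀ s : S, ConnectedSpace ↥(p.fiber s))
    (eP : S ⟶ P) (heP : eP ≫ p = 𝟙 S) (eX : S ⟶ X) (heX : eX ≫ x = 𝟙 S)
    (f : P ⟶ X) (hf : f ≫ x = p) (hfe : eP ≫ f = eX) : f = p ≫ eX := by
  haveI := isOpenImmersion_section x eX heX
  haveI := isClosedImmersion_section x eX heX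
  have hopen : IsOpen (Set.range eX.base) := eX.isOpenEmbedding.isOpen_range
  have hclosed : IsClosed (Set.range eX.base) := eX.isClosedEmbedding.isClosed_range
  have hall : Set.range f.base ⊆ Set.range eX.base := by
    rintro _ ⟨t, rfl⟩
    set s := p.base t with hs
    haveI := hP s
    -- the clopen subset of the fibre
    have hclopen : IsClopen ((p.fiberι s ≫ f).base ⁻¹' Set.range eX.base) :=
      ⟨hclosed.preimage (p.fiberι s ≫ f).continuous, hopen.preimage (p.fiberι s ≫ f).continuous⟩
    have hne : ((p.fiberι s ≫ f).base ⁻¹' Set.range eX.base).Nonempty := by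
      have h1 : eP.base s ∈ Set.range (p.fiberι s).base := by
        rw [Scheme.Hom.range_fiberι]
        show p.base (eP.base s) = s
        have := congrArg (fun k : S ⟶ S => k.base s) heP
        exact this
      obtain ⟨z, hz⟩ := h1
      refine ⟨z, ?_⟩
      show f.base ((p.fiberι s).base z) ∈ Set.range eX.base
      rw [hz]
      refine ⟨s, ?_⟩
      have := congrArg (fun k : S ⟶ X => k.base s) hfe
      exact this.symm
    have huniv := (isClopen_iff.mp hclopen).resolve_left hne.ne_empty
    have h2 : t ∈ Set.range (p.fiberι s).base := by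
      rw [Scheme.Hom.range_fiberι]
      rfl
    obtain ⟨z, hz⟩ := h2
    have h3 : z ∈ (p.fiberι s ≫ f).base ⁻¹' Set.range eX.base := by rw [huniv]; trivial
    have h4 : f.base ((p.fiberι s).base z) ∈ Set.range eX.base := h3
    rwa [hz] at h4
  set l := IsOpenImmersion.lift eX f hall with hl
  have hl1 : l ≫ eX = f := IsOpenImmersion.lift_fac _ _ _
  have hl2 : l = p := by
    rw [← hf, ← hl1, Category.assoc, heX, Category.comp_id]
  rw [← hl1, hl2]

theorem hom_eq_one {S : Scheme.{u}} (P X : Over S) [GrpObj P] [GrpObj X]
    [Etale X.hom] [IsSeparated X.hom]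
    (hP : ∀ s : S, ConnectedSpace ↥(P.hom.fiber s))
    (f : P ⟶ X) [IsMonHom f] : f = 1 := by
  have h1 : η[P].left ≫ P.hom = 𝟙 S := Over.w η[P]
  have h2 : η[X].left ≫ X.hom = 𝟙 S := Over.w η[X]
  have h3 : η[P].left ≫ f.left = η[X].left := by
    rw [← Over.comp_left, IsMonHom.one_hom]
  have key := eq_const_of_connected_fibres P.hom X.hom hP η[P].left h1 η[X].left h2 f.left (Over.w f) h3
  rw [Hom.one_def]
  ext
  rw [key]
  rfl

end Groth.Agent.Lib.Helper4.HomToEtale
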