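import Mathlib

set_option backward.isDefEq.respectTransparency false
set_option autoImplicit false
set_option linter.style.haveILetI false

/-!
# Horizontal curves through closed points of closed fibres (algebra)

* `mem_minimalPrimes_of_forall_prime_mem`: Artin–Tate style lemma.  In a Noetherian domain `D`,
  if every nonzero prime below the prime `n` contains `π ∈ n`, then `n` is minimal over `(π)`.
* `quasiFiniteAt_of_mem_minimalPrimes`: a maximal ideal minimal over `(π)` (with `π` from the base)
  is isolated in its fibre, hence the algebra is quasi-finite there.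
* `isAlgebraic_of_quasiFiniteAt`: a finite type domain quasi-finite at some prime is algebraic over
  the base (via Zariski's main theorem).
* `exists_prime_le_closed_in_generic_fibre`: the algebraic form of "there is a closed point of the
  generic fibre specializing to a given closed point of a closed fibre".
-/

namespace Groth.Agent.Lib.Helper4.HorizCurve

open Ideal

theorem mem_minimalPrimes_of_forall_prime_mem {D : Type*} [CommRing D] [IsDomain D]
    [IsNoetherianRing D] (n : Ideal D) [n.IsPrime] (π : D) (hπ0 : π ≠ 0) (hπ : π ∈ n)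
    (H : ∀ p : Ideal D, p.IsPrime → p ≠ ⊥ → p ≤ n → π ∈ p) :
    n ∈ (Ideal.span {π}).minimalPrimes := by
  by_contra hn
  have hfin : (Ideal.span {π}).minimalPrimes.Finite :=
    Ideal.finite_minimalPrimes_of_isNoetherianRing D _
  have hπn : Ideal.span {π} ≤ n := (Ideal.span_singleton_le_iff_mem _).2 hπ
  have h1 : ∀ p ∈ (Ideal.span {π}).minimalPrimes, ¬ n ≤ p := by
    intro p hp hnp
    have hpn : p ≤ n := hp.2 ⟨inferInstance, hπn⟩ hnp
    have : n = p := le_antisymm hnp hpn
    exact hn (this ▸ hp)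
  obtain ⟨y, hyn, hy⟩ : ∃ y ∈ n, ∀ p ∈ (Ideal.span {π}).minimalPrimes, y ∉ p := by
    by_contra hcon
    push Not at hcon
    have hsub : (n : Set D) ⊆ ⋃ p ∈ (hfin.toFinset : Set (Ideal D)), ((fun q : Ideal D => q) p : Set D) := by
      intro y hy
      obtain ⟨p, hp, hyp⟩ := hcon y hy
      exact Set.mem_biUnion (by simpa using hp) hyp
    rw [Ideal.subset_union_prime (R := D) (s := hfin.toFinset) (f := fun q : Ideal D => q) ⊥ ⊥
      (fun i hi _ _ => ((hfin.mem_toFinset).1 hi).1.1)] at hsub
    obtain ⟨p, hp, hnp⟩ := hsub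
    exact h1 p ((hfin.mem_toFinset).1 hp) hnp
  obtain ⟨p0, hp0, hp0n⟩ := Ideal.exists_minimalPrimes_le hπn
  have hy0 : y ≠ 0 := by
    rintro rfl
    exact hy p0 hp0 p0.zero_mem
  have hyn' : Ideal.span {y} ≤ n := (Ideal.span_singleton_le_iff_mem _).2 hyn
  obtain ⟨p, hp, hpn⟩ := Ideal.exists_minimalPrimes_le hyn'
  have hpprime : p.IsPrime := hp.1.1
  have hyp : y ∈ p := hp.1.2 (Ideal.mem_span_singleton_self y)
  have hpbot : p ≠ ⊥ := by
    rintro rfl
    exact hy0 (by simpa using hyp)
  have hht : p.height ≤ 1 := Ideal.height_le_one_of_isPrincipal_of_mem_minimalPrimes _ p hp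
  have hπp : π ∈ p := H p hpprime hpbot hpn
  obtain ⟨q, hq, hqp⟩ := Ideal.exists_minimalPrimes_le
    (show Ideal.span {π} ≤ p from (Ideal.span_singleton_le_iff_mem _).2 hπp)
  have hqprime : q.IsPrime := hq.1.1
  have hπq : π ∈ q := hq.1.2 (Ideal.mem_span_singleton_self π)
  have hqbot : q ≠ ⊥ := by
    rintro rfl
    exact hπ0 (by simpa using hπq)
  have hq1 : 1 ≤ q.height := by
    rw [Order.one_le_iff_pos, pos_iff_ne_zero, Ne, Ideal.height_eq_zero_iff_eq_bot]
    exact hqbot
  have hqp' : q = p := Ideal.eq_of_le_of_height_le (I := q) (J := p) hqp (hht.trans hq1)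
  exact hy q hq (hqp' ▸ hyp)

theorem quasiFiniteAt_of_mem_minimalPrimes {R D : Type*} [CommRing R] [CommRing D]
    [IsNoetherianRing D] [Algebra R D] [Algebra.FiniteType R D]
    (n : Ideal D) [hn : n.IsMaximal] (π : R) (hπ : algebraMap R D π ∈ n)
    (hmin : n ∈ (Ideal.span {algebraMap R D π}).minimalPrimes) :
    Algebra.QuasiFiniteAt R n := by
  set I : Ideal D := Ideal.span {algebraMap R D π} with hI
  have hfin : I.minimalPrimes.Finite := Ideal.finite_minimalPrimes_of_isNoetherianRing D _
  let q : PrimeSpectrum D := ⟨n, inferInstance⟩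
  refine Algebra.QuasiFiniteAt.of_isOpen_singleton_fiber (R := R) q ?_
  -- the closed set: union of the other components of `V(π)`
  let C : Set (PrimeSpectrum D) := ⋃ p ∈ (I.minimalPrimes \ {n}), PrimeSpectrum.zeroLocus (p : Set D)
  have hC : IsClosed C :=
    Set.Finite.isClosed_biUnion (hfin.subset Set.sdiff_subset)
      (fun p _ => PrimeSpectrum.isClosed_zeroLocus _)
  have hqC : q ∉ C := by
    intro hq
    simp only [C, Set.mem_iUnion, PrimeSpectrum.mem_zeroLocus, SetLike.coe_subset_coe] at hq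
    obtain ⟨p, ⟨hp, hpn⟩, hpq⟩ := hq
    have : n ≤ p := hmin.2 hp.1 hpq
    exact hpn (le_antisymm hpq this)
  have : ({⟨q, rfl⟩} : Set (PrimeSpectrum.comap (algebraMap R D) ⁻¹' {q.comap (algebraMap R D)})) =
      Subtype.val ⁻¹' Cᶜ := by
    ext ⟨r, hr⟩
    simp only [Set.mem_singleton_iff, Subtype.mk.injEq, Set.mem_preimage, Set.mem_compl_iff]
    constructor
    · rintro rfl
      exact hqC
    · intro hrC
      -- π ∈ r since r lies over the same prime as n
      have hπr : algebraMap R D π ∈ r.asIdeal := by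
        have h1 : π ∈ (q.comap (algebraMap R D)).asIdeal := hπ
        have h2 : r.comap (algebraMap R D) = q.comap (algebraMap R D) := hr
        rw [← h2] at h1
        exact h1
      obtain ⟨p, hp, hpr⟩ := Ideal.exists_minimalPrimes_le
        (show I ≤ r.asIdeal from (Ideal.span_singleton_le_iff_mem _).2 hπr)
      by_cases hpn : p = n
      · subst hpn
        have : p = r.asIdeal := hn.eq_of_le r.2.ne_top hpr
        exact PrimeSpectrum.ext this.symm
      · exfalso
        apply hrC
        simp only [C, Set.mem_iUnion, PrimeSpectrum.mem_zeroLocus, SetLike.coe_subset_coe]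
        exact ⟨p, ⟨hp, hpn⟩, hpr⟩
  rw [this]
  exact hC.isOpen_compl.preimage continuous_subtype_val

theorem isAlgebraic_of_quasiFiniteAt {R D : Type*} [CommRing R] [IsDomain R] [CommRing D]
    [IsDomain D] [Algebra R D] [Algebra.FiniteType R D]
    (n : Ideal D) [n.IsPrime] [Algebra.QuasiFiniteAt R n] :
    Algebra.IsAlgebraic R D := by
  obtain ⟨S', hS', r, hrn, hbij⟩ :=
    Algebra.QuasiFiniteAt.exists_fg_and_exists_notMem_and_awayMap_bijective (R := R) n
  have : Module.Finite R S' := ⟨(Submodule.fg_top _).mpr hS'⟩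
  have hint : Algebra.IsIntegral R S' := inferInstance
  have hr0 : (r : D) ≠ 0 := fun h => hrn (h ▸ n.zero_mem)
  have halgS : ∀ s : S', IsAlgebraic R (s : D) := fun s =>
    ((Algebra.IsIntegral.isIntegral (R := R) s).map S'.val).isAlgebraic
  refine ⟨fun d => ?_⟩
  -- `d / 1 ∈ D[1/r]` comes from `S'[1/r]`
  obtain ⟨y, hy⟩ := hbij.2 (algebraMap D (Localization.Away (r : D)) d)
  obtain ⟨s, t, rfl⟩ := IsLocalization.exists_mk'_eq (Submonoid.powers r) y
  obtain ⟨k, hk⟩ := t.2
  have hcomm : ∀ t : S', Localization.awayMap S'.val.toRingHom r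
      (algebraMap S' (Localization.Away r) t) = algebraMap D (Localization.Away (r : D)) (t : D) := by
    intro t
    simp [Localization.awayMap, IsLocalization.Away.map, IsLocalization.map_eq]
  have h2 := congrArg (Localization.awayMap S'.val.toRingHom r)
    (IsLocalization.mk'_spec (Localization.Away r) s t)
  rw [map_mul, hy, hcomm, hcomm] at h2
  have h3 : algebraMap D (Localization.Away (r : D)) (d * ((t : S') : D)) =
      algebraMap D (Localization.Away (r : D)) (s : D) := by
    rw [map_mul]; exact h2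
  have hinj : Function.Injective (algebraMap D (Localization.Away (r : D))) :=
    IsLocalization.injective _ (powers_le_nonZeroDivisors_of_noZeroDivisors hr0)
  have hj' : d * (r : D) ^ k = (s : D) := by
    have := hinj h3
    rw [← hk] at this
    simpa using this
  have h1 : IsAlgebraic R ((r : D) ^ k * d) := by
    rw [mul_comm, hj']
    exact halgS s
  exact IsAlgebraic.of_mul (mem_nonZeroDivisors_of_ne_zero (pow_ne_zero k hr0))
    ((halgS r).pow k) h1

theorem exists_prime_le_closed_in_generic_fibre {R A : Type*} [CommRing R] [IsDedekindDomain R]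
    [CommRing A] [Algebra R A] [Algebra.FiniteType R A]
    (n : Ideal A) [hnmax : n.IsMaximal] (hn : n.comap (algebraMap R A) ≠ ⊥)
    (p0 : Ideal A) [hp0prime : p0.IsPrime] (hp0 : p0 ≤ n) (hp0R : p0.comap (algebraMap R A) = ⊥) :
    ∃ q : Ideal A, q.IsPrime ∧ q ≤ n ∧ q.comap (algebraMap R A) = ⊥ ∧
      ∀ r : Ideal A, r.IsPrime → q ≤ r → r.comap (algebraMap R A) = ⊥ → r = q := by
  have hNoeth : IsNoetherianRing A := Algebra.FiniteType.isNoetherianRing R A
  let S : Set (Ideal A) := {q | q.IsPrime ∧ q ≤ n ∧ q.comap (algebraMap R A) = ⊥}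
  have hSne : S.Nonempty := ⟨p0, hp0prime, hp0, hp0R⟩
  obtain ⟨(q : Ideal A), ⟨hqprime, hqn, hqR⟩, hqmax⟩ :=
    (set_has_maximal_iff_noetherian (R := A) (M := A)).2 hNoeth S hSne
  refine ⟨q, hqprime, hqn, hqR, ?_⟩
  -- the uniformizer
  obtain ⟨π, hπm, hπ0⟩ := Submodule.exists_mem_ne_zero_of_ne_bot hn
  have hπn : algebraMap R A π ∈ n := hπm
  have hπq : algebraMap R A π ∉ q := by
    intro h
    have : π ∈ q.comap (algebraMap R A) := h
    rw [hqR] at this
    exact hπ0 (by simpa using this)
  let mk := Ideal.Quotient.mk q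
  have hmk : Function.Surjective mk := Ideal.Quotient.mk_surjective
  have hker : RingHom.ker mk = q := Ideal.mk_ker
  let nbar : Ideal (A ⧸ q) := n.map mk
  have hnbar : nbar.IsMaximal :=
    Ideal.IsMaximal.map_of_surjective_of_ker_le hmk (hker.trans_le hqn)
  have hcomapnbar : nbar.comap mk = n := by
    rw [Ideal.comap_map_of_surjective mk hmk, ← RingHom.ker_eq_comap_bot, hker]
    exact sup_eq_left.2 hqn
  have hπbar : algebraMap R (A ⧸ q) π ∈ nbar := Ideal.mem_map_of_mem mk hπn
  have hπbar0 : algebraMap R (A ⧸ q) π ≠ 0 := by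
    intro h
    exact hπq (Ideal.Quotient.eq_zero_iff_mem.1 h)
  have hH : ∀ p : Ideal (A ⧸ q), p.IsPrime → p ≠ ⊥ → p ≤ nbar → algebraMap R (A ⧸ q) π ∈ p := by
    intro p hp hpbot hpn
    let p' : Ideal A := p.comap mk
    have hp'prime : p'.IsPrime := Ideal.comap_isPrime mk p
    have hqp' : q ≤ p' := by
      rw [← hker]
      exact Ideal.ker_le_comap mk
    have hp'n : p' ≤ n := by
      rw [← hcomapnbar]
      exact Ideal.comap_mono hpn
    have hp'q : p' ≠ q := by
      intro h
      apply hpbot
      rw [← Ideal.map_comap_of_surjective mk hmk p]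
      change Ideal.map mk p' = ⊥
      rw [h]
      exact (Ideal.map_eq_bot_iff_le_ker mk).2 hker.ge
    have hp'R : p'.comap (algebraMap R A) ≠ ⊥ := by
      intro h
      exact hqmax p' ⟨hp'prime, hp'n, h⟩ (lt_of_le_of_ne hqp' (Ne.symm hp'q))
    have hp'Rprime : (p'.comap (algebraMap R A)).IsPrime := Ideal.comap_isPrime _ _
    have hp'Rmax : (p'.comap (algebraMap R A)).IsMaximal := hp'Rprime.isMaximal hp'R
    have hle : p'.comap (algebraMap R A) ≤ n.comap (algebraMap R A) := Ideal.comap_mono hp'n
    have heq : p'.comap (algebraMap R A) = n.comap (algebraMap R A) :=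
      hp'Rmax.eq_of_le (Ideal.comap_ne_top _ hnmax.ne_top) hle
    have : π ∈ p'.comap (algebraMap R A) := heq ▸ hπm
    exact this
  have hDnoeth : IsNoetherianRing (A ⧸ q) := inferInstance
  have hDdom : IsDomain (A ⧸ q) := Ideal.Quotient.isDomain q
  have hmin := mem_minimalPrimes_of_forall_prime_mem nbar _ hπbar0 hπbar hH
  have hDft : Algebra.FiniteType R (A ⧸ q) :=
    Algebra.FiniteType.of_surjective (Ideal.Quotient.mkₐ R q) (Ideal.Quotient.mkₐ_surjective R q)
  have hqf : Algebra.QuasiFiniteAt R nbar := quasiFiniteAt_of_mem_minimalPrimes nbar π hπbar hmin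
  have halg : Algebra.IsAlgebraic R (A ⧸ q) := isAlgebraic_of_quasiFiniteAt nbar
  intro r hr hqr hrR
  refine le_antisymm ?_ hqr
  by_contra hrq
  obtain ⟨x, hxr, hxq⟩ := Set.not_subset.1 hrq
  have hx0 : mk x ≠ 0 := fun h => hxq (Ideal.Quotient.eq_zero_iff_mem.1 h)
  have hxr' : mk x ∈ r.map mk := Ideal.mem_map_of_mem mk hxr
  have hne := Ideal.comap_ne_bot_of_algebraic_mem hx0 hxr' (Algebra.IsAlgebraic.isAlgebraic (R := R) (mk x))
  apply hne
  have hcomapr : (r.map mk).comap mk = r := by
    rw [Ideal.comap_map_of_surjective mk hmk, ← RingHom.ker_eq_comap_bot, hker]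
    exact sup_eq_left.2 hqr
  have : (r.map mk).comap (algebraMap R (A ⧸ q)) = ((r.map mk).comap mk).comap (algebraMap R A) := by
    rw [Ideal.comap_comap]
    rfl
  rw [this, hcomapr, hrR]

end Groth.Agent.Lib.Helper4.HorizCurve
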