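import Mathlib
import Groth.Agent.Lib.Helper4.HorizCurve

set_option backward.isDefEq.respectTransparency false
set_option autoImplicit false
set_option linter.style.haveILetI false

/-!
# Closed points of fibres: from an open subset to the whole fibre (Jacobson transfer)

* `eq_of_specializes_of_fibre_of_open`: for `f : X ⟶ Y` locally of finite type, a point `x` which is
  closed in `U ∩ f⁻¹(f x)` for an open `U ∋ x` is closed in the whole fibre `f⁻¹(f x)`.
* `exists_closedPoint_genericFibre_specializing`: over a Dedekind domain, every closed point of a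
  closed fibre of a dominant finite-type morphism from an irreducible scheme is a specialization of
  a closed point of the generic fibre.
-/

universe u

open AlgebraicGeometry CategoryTheory

namespace Groth.Agent.Lib.Helper4.HorizCurve

theorem eq_of_specializes_of_fibre_of_open {X Y : Scheme.{u}} (f : X ⟶ Y) [LocallyOfFiniteType f]
    (U : X.Opens) (x : X) (hxU : x ∈ U)
    (H : ∀ z : X, z ∈ U → f.base z = f.base x → x ⤳ z → z = x) :
    ∀ z : X, f.base z = f.base x → x ⤳ z → z = x := by
  intro z hz hxz
  obtain ⟨y, hy⟩ : ∃ y, f.base x = y := ⟨_, rfl⟩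
  rw [hy] at hz
  replace H : ∀ z : X, z ∈ U → f.base z = y → x ⤳ z → z = x := fun z hzU hfz => H z hzU (hfz.trans hy.symm)
  let ι := f.fiberι y
  have hι : Topology.IsEmbedding ι.base := ι.isEmbedding
  obtain ⟨xF, hxF⟩ : x ∈ Set.range ι.base := by
    rw [f.range_fiberι]; exact hy
  have hloc : IsLocallyClosed ({xF} : Set (f.fiber y)) := by
    refine ⟨ι.base ⁻¹' U, closure {xF}, U.2.preimage ι.continuous, isClosed_closure, ?_⟩
    ext w
    simp only [Set.mem_singleton_iff, Set.mem_inter_iff, Set.mem_preimage]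
    constructor
    · rintro rfl
      exact ⟨by rw [hxF]; exact hxU, subset_closure rfl⟩
    · rintro ⟨hwU, hwcl⟩
      have hsp : xF ⤳ w := specializes_iff_mem_closure.2 hwcl
      have hsp' : x ⤳ ι.base w := by
        have := hsp.map ι.continuous
        rwa [hxF] at this
      have hfw : f.base (ι.base w) = y := by
        have : ι.base w ∈ Set.range ι.base := ⟨w, rfl⟩
        rw [f.range_fiberι] at this
        exact this
      have := H _ hwU hfw hsp'
      exact hι.injective (this.trans hxF.symm)
  have hcl : IsClosed ({xF} : Set (f.fiber y)) :=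
    isClosed_singleton_of_isLocallyClosed_singleton hloc
  obtain ⟨zF, hzF⟩ : z ∈ Set.range ι.base := by
    rw [f.range_fiberι]; exact hz
  have hsp : xF ⤳ zF := by
    rw [← hι.isInducing.specializes_iff, hxF, hzF]
    exact hxz
  have : zF ∈ closure ({xF} : Set (f.fiber y)) := specializes_iff_mem_closure.1 hsp
  rw [hcl.closure_eq] at this
  rw [← hzF, ← hxF, this]

theorem exists_closedPoint_genericFibre_specializing {R : Type u} [CommRing R] [IsDedekindDomain R]
    {X : Scheme.{u}} [IrreducibleSpace X] (f : X ⟶ Spec (CommRingCat.of R)) [LocallyOfFiniteType f]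
    (hdom : DenseRange f.base) (x' : X) (hx' : IsClosed ({x'} : Set X))
    (_hs : (f.base x').asIdeal.IsMaximal) :
    ∃ x : X, (f.base x).asIdeal = ⊥ ∧ (∀ z : X, (f.base z).asIdeal = ⊥ → x ⤳ z → z = x) ∧
      x ⤳ x' := by
  by_cases hbot : (f.base x').asIdeal = ⊥
  · refine ⟨x', hbot, fun z _ hz => ?_, specializes_rfl⟩
    have : z ∈ closure ({x'} : Set X) := specializes_iff_mem_closure.1 hz
    rw [hx'.closure_eq] at this
    exact this
  -- affine open neighbourhood of `x'`
  obtain ⟨_, ⟨U, hU, rfl⟩, hxU, -⟩ :=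
    X.isBasis_affineOpens.exists_subset_of_mem_open (Set.mem_univ x') isOpen_univ
  let j : Spec Γ(X, U) ⟶ X := hU.fromSpec
  have hjemb : Topology.IsOpenEmbedding j.base := j.isOpenEmbedding
  have hjrange : Set.range j.base = U := hU.range_fromSpec
  obtain ⟨φ, hφ⟩ : ∃ φ : CommRingCat.of R ⟶ Γ(X, U), Spec.map φ = j ≫ f :=
    ⟨Spec.preimage (j ≫ f), Spec.map_preimage _⟩
  have hft : LocallyOfFiniteType (Spec.map φ) := by rw [hφ]; infer_instance
  rw [HasRingHomProperty.Spec_iff (P := @LocallyOfFiniteType)] at hft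
  algebraize [φ.hom]
  have hcomap : ∀ p : Spec Γ(X, U), (f.base (j.base p)).asIdeal =
      p.asIdeal.comap (algebraMap R Γ(X, U)) := by
    intro p
    have : f.base (j.base p) = (Spec.map φ).base p := by rw [hφ]; rfl
    rw [this]
    rfl
  -- the closed point
  obtain ⟨n, hn⟩ : x' ∈ Set.range j.base := by rw [hjrange]; exact hxU
  have hncl : IsClosed ({n} : Set (Spec Γ(X, U))) := by
    have : ({n} : Set (Spec Γ(X, U))) = j.base ⁻¹' {x'} := by
      ext p
      simp only [Set.mem_singleton_iff, Set.mem_preimage]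
      constructor
      · rintro rfl; exact hn
      · intro h; exact hjemb.injective (h.trans hn.symm)
    rw [this]
    exact hx'.preimage j.continuous
  have hnmax : n.asIdeal.IsMaximal := (PrimeSpectrum.isClosed_singleton_iff_isMaximal n).1 hncl
  -- the generic point
  let ξ : X := genericPoint X
  have hξ : IsGenericPoint ξ (⊤ : Set X) := genericPoint_spec X
  obtain ⟨p0, hp0⟩ : ξ ∈ Set.range j.base := by
    rw [hjrange]
    exact hξ.mem_open_set_iff U.2 |>.2 ⟨x', trivial, hxU⟩
  have hp0n : p0.asIdeal ≤ n.asIdeal := by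
    have h1 : ξ ⤳ x' := hξ.specializes trivial
    rw [← hp0, ← hn, hjemb.isInducing.specializes_iff] at h1
    exact (PrimeSpectrum.le_iff_specializes p0 n).2 h1
  have hfξ : (f.base ξ).asIdeal = ⊥ := by
    have hgen : IsGenericPoint (f.base ξ) (closure (f.base '' (⊤ : Set X))) :=
      hξ.image f.continuous
    have hcl : closure (f.base '' (⊤ : Set X)) = Set.univ := by
      rw [Set.top_eq_univ, Set.image_univ]
      exact hdom.closure_range
    rw [hcl] at hgen
    let b : Spec (CommRingCat.of R) := ⟨⊥, Ideal.isPrime_bot⟩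
    have h1 : f.base ξ ⤳ b := hgen.specializes (Set.mem_univ _)
    have h2 : (f.base ξ).asIdeal ≤ b.asIdeal := (PrimeSpectrum.le_iff_specializes _ _).2 h1
    exact le_bot_iff.1 h2
  have hp0R : p0.asIdeal.comap (algebraMap R Γ(X, U)) = ⊥ := by
    rw [← hcomap, hp0, hfξ]
  have hnR : n.asIdeal.comap (algebraMap R Γ(X, U)) ≠ ⊥ := by
    rw [← hcomap, hn]
    exact hbot
  obtain ⟨q, hqprime, hqn, hqR, hqmax⟩ :=
    exists_prime_le_closed_in_generic_fibre (R := R) n.asIdeal hnR p0.asIdeal hp0n hp0R
  let qq : Spec Γ(X, U) := ⟨q, hqprime⟩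
  have hfq : (f.base (j.base qq)).asIdeal = ⊥ := by rw [hcomap]; exact hqR
  refine ⟨j.base qq, hfq, ?_, ?_⟩
  · intro z hz hqz
    refine eq_of_specializes_of_fibre_of_open f U (j.base qq) ?_ ?_ z ?_ hqz
    · change j.base qq ∈ (U : Set X)
      rw [← hjrange]; exact ⟨qq, rfl⟩
    · intro z hzU hfz hqz
      obtain ⟨r, rfl⟩ : z ∈ Set.range j.base := by rw [hjrange]; exact hzU
      rw [hjemb.isInducing.specializes_iff] at hqz
      have hqr : q ≤ r.asIdeal := (PrimeSpectrum.le_iff_specializes qq r).2 hqz
      have hrR : r.asIdeal.comap (algebraMap R Γ(X, U)) = ⊥ := by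
        rw [← hcomap, hfz, hfq]
      have := hqmax r.asIdeal r.2 hqr hrR
      congr 1
      exact PrimeSpectrum.ext this
    · exact PrimeSpectrum.ext (hz.trans hfq.symm)
  · rw [← hn, hjemb.isInducing.specializes_iff]
    exact (PrimeSpectrum.le_iff_specializes qq n).1 hqn

end Groth.Agent.Lib.Helper4.HorizCurve
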