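import Mathlib

/-!
# Primitive elements with integral minimal polynomial (helper4)

* `exists_monic_primitive`: `R` integrally closed domain with fraction field `F`, `K/F` finite
  separable. Then there is a monic `g : R[X]` whose image in `F[X]` is irreducible separable and a root
  `θ : K` of `g` generating `K` over `F`, with `g ∣ p` whenever `p(θ) = 0`.
* `exists_adjoinRoot_embedding`: the resulting embedding `AdjoinRoot g → K` is injective and `K` is
  its field of fractions.
-/

set_option autoImplicit false
set_option linter.style.haveILetI false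

open Polynomial IntermediateField

namespace Groth.Agent.Lib.helper4.Hypersurf

variable {R F K : Type*} [CommRing R] [IsDomain R] [IsIntegrallyClosed R] [Field F] [Algebra R F]
  [IsFractionRing R F] [Field K] [Algebra R K] [Algebra F K] [IsScalarTower R F K]

theorem exists_monic_primitive [FiniteDimensional F K] [Algebra.IsSeparable F K] :
    ∃ (g : R[X]) (θ : K), g.Monic ∧ Irreducible (g.map (algebraMap R F)) ∧
      (g.map (algebraMap R F)).Separable ∧ aeval θ g = 0 ∧
      (∀ p : R[X], aeval θ p = 0 → g ∣ p) ∧ F⟮θ⟯ = ⊤ := by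
  obtain ⟨α, hα⟩ := Field.exists_primitive_element F K
  have halgF : IsAlgebraic F α := Algebra.IsAlgebraic.isAlgebraic α
  haveI : Algebra.IsAlgebraic R F := IsLocalization.isAlgebraic F (nonZeroDivisors R)
  have halgR : IsAlgebraic R α := by
    haveI : Algebra.IsAlgebraic F K := inferInstance
    haveI : Algebra.IsAlgebraic R K := Algebra.IsAlgebraic.trans R F K
    exact Algebra.IsAlgebraic.isAlgebraic α
  obtain ⟨y, hy0, hyint⟩ := halgR.exists_integral_multiple
  set θ : K := y • α with hθ
  have hinjRF : Function.Injective (algebraMap R F) := IsFractionRing.injective R F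
  have hyF : algebraMap R F y ≠ 0 := fun h => hy0 (hinjRF (by rw [h, map_zero]))
  have hθ' : θ = algebraMap F K (algebraMap R F y) * α := by
    rw [hθ, Algebra.smul_def, IsScalarTower.algebraMap_apply R F K]
  have hadj : F⟮θ⟯ = ⊤ := by
    rw [← hα]
    apply le_antisymm
    · rw [adjoin_simple_le_iff, hθ']
      exact mul_mem (IntermediateField.algebraMap_mem _ _) (mem_adjoin_simple_self F α)
    · rw [adjoin_simple_le_iff]
      have : α = algebraMap F K (algebraMap R F y)⁻¹ * θ := by
        rw [hθ', ← mul_assoc, ← map_mul, inv_mul_cancel₀ hyF, map_one, one_mul]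
      rw [this]
      exact mul_mem (IntermediateField.algebraMap_mem _ _) (mem_adjoin_simple_self F θ)
  have hintF : IsIntegral F θ := Algebra.IsIntegral.isIntegral θ
  have hmin : minpoly F θ = (minpoly R θ).map (algebraMap R F) :=
    minpoly.isIntegrallyClosed_eq_field_fractions' F hyint
  refine ⟨minpoly R θ, θ, minpoly.monic hyint, ?_, ?_, minpoly.aeval R θ, ?_, hadj⟩
  · rw [← hmin]; exact minpoly.irreducible hintF
  · rw [← hmin]; exact Algebra.IsSeparable.isSeparable F θ
  · intro p hp
    haveI : FaithfulSMul R K := by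
      rw [faithfulSMul_iff_algebraMap_injective, IsScalarTower.algebraMap_eq R F K]
      exact (algebraMap F K).injective.comp hinjRF
    exact minpoly.isIntegrallyClosed_dvd hyint hp

omit [IsIntegrallyClosed R] in
theorem exists_adjoinRoot_embedding (g : R[X]) (θ : K) (hroot : aeval θ g = 0)
    (hdvd : ∀ p : R[X], aeval θ p = 0 → g ∣ p) (htop : F⟮θ⟯ = ⊤) [Algebra.IsAlgebraic F K] :
    ∃ ψ : AdjoinRoot g →ₐ[R] K, Function.Injective ψ ∧
      ∀ x : K, ∃ a b : AdjoinRoot g, b ≠ 0 ∧ x * ψ b = ψ a := by
  let ψ : AdjoinRoot g →ₐ[R] K := AdjoinRoot.liftAlgHom g (Algebra.ofId R K) θ (by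
    rw [← hroot, aeval_def, Algebra.ofId]; rfl)
  have hψ : ∀ p : R[X], ψ (AdjoinRoot.mk g p) = aeval θ p := by
    intro p
    simp [ψ, aeval_def, Algebra.ofId]
  have hinj : Function.Injective ψ := by
    rw [injective_iff_map_eq_zero]
    intro b hb
    obtain ⟨p, rfl⟩ := AdjoinRoot.mk_surjective b
    rw [hψ] at hb
    exact AdjoinRoot.mk_eq_zero.mpr (hdvd p hb)
  refine ⟨ψ, hinj, ?_⟩
  intro x
  have hx : x ∈ F⟮θ⟯ := htop ▸ mem_top
  have hint : IsIntegral F θ := Algebra.IsIntegral.isIntegral θ
  rw [← IntermediateField.mem_toSubalgebra,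
    IntermediateField.adjoin_simple_toSubalgebra_of_isAlgebraic hint.isAlgebraic,
    Algebra.adjoin_singleton_eq_range_aeval] at hx
  obtain ⟨q, rfl⟩ := hx
  obtain ⟨b, hbM, hb⟩ := IsLocalization.integerNormalization_spec (nonZeroDivisors R) q
  have hb0 : (b : R) ≠ 0 := nonZeroDivisors.ne_zero hbM
  refine ⟨AdjoinRoot.mk g (IsLocalization.integerNormalization (nonZeroDivisors R) q),
    AdjoinRoot.of g b, ?_, ?_⟩
  · intro h
    have h1 : ψ (AdjoinRoot.of g (b : R)) = 0 := by rw [h, map_zero]
    have h2 : ψ (AdjoinRoot.of g (b : R)) = algebraMap R K b := by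
      have := hψ (C (b : R))
      rw [aeval_C] at this
      exact this
    rw [h2, IsScalarTower.algebraMap_apply R F K] at h1
    have h3 := (algebraMap F K).injective (h1.trans (map_zero _).symm)
    exact hb0 (IsFractionRing.injective R F (h3.trans (map_zero _).symm))
  · rw [hψ]
    have h2 : ψ (AdjoinRoot.of g (b : R)) = algebraMap R K b := by
      have := hψ (C (b : R))
      rw [aeval_C] at this
      exact this
    rw [h2]
    have h3 : aeval θ (IsLocalization.integerNormalization (nonZeroDivisors R) q) =
        aeval θ ((IsLocalization.integerNormalization (nonZeroDivisors R) q).map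
          (algebraMap R F)) := by
      rw [aeval_map_algebraMap]
    rw [h3, hb, Algebra.smul_def, map_mul, mul_comm]
    congr 1
    simp [IsScalarTower.algebraMap_apply R F K]


section Concrete

variable {k K' : Type*} [Field k] [Field K'] [Algebra k K'] {d : ℕ} (s : Fin d → K')

open MvPolynomial in
set_option backward.isDefEq.respectTransparency false in
/-- The concrete form: a field `K'` with separating transcendence basis `s` over `k`, finite over
`k(s)`, is the fraction field of a hypersurface ring `k[T_1..T_d][T]/(g)`. -/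
theorem exists_hypersurface_model (hs : IsTranscendenceBasis k s)
    (hsep : Algebra.IsSeparable ↥(IntermediateField.adjoin k (Set.range s)) K')
    (hfin : FiniteDimensional ↥(IntermediateField.adjoin k (Set.range s)) K') :
    ∃ (g : Polynomial (MvPolynomial (Fin d) k)), g.Monic ∧
      Irreducible (g.map (algebraMap (MvPolynomial (Fin d) k)
        (FractionRing (MvPolynomial (Fin d) k)))) ∧
      (g.map (algebraMap (MvPolynomial (Fin d) k)
        (FractionRing (MvPolynomial (Fin d) k)))).Separable ∧
      ∃ ψ : AdjoinRoot g →ₐ[k] K', Function.Injective ψ ∧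
        ∀ x : K', ∃ a b : AdjoinRoot g, b ≠ 0 ∧ x * ψ b = ψ a := by
  classical
  let R := MvPolynomial (Fin d) k
  let L := ↥(IntermediateField.adjoin k (Set.range s))
  let e : FractionRing R ≃ₐ[k] L := hs.1.aevalEquivField
  letI algRL : Algebra R L := (e.toRingEquiv.toRingHom.comp (algebraMap R (FractionRing R))).toAlgebra
  let e' : FractionRing R ≃ₐ[R] L := AlgEquiv.ofRingEquiv (f := e.toRingEquiv) (fun _ => rfl)
  haveI : IsFractionRing R L := IsLocalization.isLocalization_of_algEquiv (nonZeroDivisors R) e'
  letI algRK : Algebra R K' := (aeval s : R →ₐ[k] K').toRingHom.toAlgebra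
  haveI : IsScalarTower R L K' := by
    apply IsScalarTower.of_algebraMap_eq
    intro r
    show aeval s r = ((e (algebraMap R (FractionRing R) r) : L) : K')
    rw [AlgebraicIndependent.aevalEquivField_algebraMap_apply_coe]
  haveI : IsScalarTower k R K' := IsScalarTower.of_algebraMap_eq (fun x => by
    show algebraMap k K' x = aeval s (algebraMap k R x)
    rw [AlgHom.commutes])
  haveI hufm : UniqueFactorizationMonoid (MvPolynomial (Fin d) k) :=
    MvPolynomial.uniqueFactorizationMonoid (Fin d)
  haveI hic : IsIntegrallyClosed (MvPolynomial (Fin d) k) :=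
    UniqueFactorizationMonoid.instIsIntegrallyClosed
  obtain ⟨g, θ, hmonic, hirr, hsepg, hroot, hdvd, htop⟩ :=
    exists_monic_primitive (R := R) (F := L) (K := K')
  obtain ⟨ψ, hinj, hfrac⟩ := exists_adjoinRoot_embedding (R := R) (F := L) (K := K') g θ hroot hdvd htop
  have hmap : (g.map (algebraMap R (FractionRing R))).map (e.toRingEquiv : FractionRing R →+* L) =
      g.map (algebraMap R L) := by
    rw [Polynomial.map_map]
    rfl
  refine ⟨g, hmonic, ?_, ?_, ψ.restrictScalars k, hinj, hfrac⟩
  · have h1 : Irreducible ((Polynomial.mapEquiv e.toRingEquiv)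
        (g.map (algebraMap R (FractionRing R)))) := by
      show Irreducible ((g.map (algebraMap R (FractionRing R))).map
        (e.toRingEquiv : FractionRing R →+* L))
      rw [hmap]; exact hirr
    exact (MulEquiv.irreducible_iff (Polynomial.mapEquiv e.toRingEquiv)).mp h1
  · rw [← hmap] at hsepg
    exact (Polynomial.separable_map _).mp hsepg

end Concrete

end Groth.Agent.Lib.helper4.Hypersurf
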