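import Mathlib
import Groth.Agent.Lib.Helper4.Hypersurf1
import Groth.Agent.Lib.Helper4.BiratGeneric
import Groth.Prelude.Def_CurvBase

/-!
# An integral variety with separating transcendence basis is birational to a hypersurface (helper4)
-/

set_option backward.isDefEq.respectTransparency false
set_option autoImplicit false
set_option linter.style.haveILetI false

universe u

open CategoryTheory AlgebraicGeometry
attribute [local instance] Curv2.stalkAlgebra

namespace Groth.Agent.Lib.helper4.Hypersurf

open Groth.Agent.Lib.Helper4.BiratGeneric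

variable (k : Type u) [Field k] (X : Scheme.{u}) [X.Over (Spec (CommRingCat.of k))] [IsIntegral X]

theorem algebraMap_stalk_eq (x : X) (c : k) :
    algebraMap k (X.presheaf.stalk x) c =
      X.presheaf.germ ⊤ x trivial ((X ↘ Spec (CommRingCat.of k)).appTop
        ((Scheme.ΓSpecIso (CommRingCat.of k)).inv c)) := rfl

theorem fromSpecStalk_comp_over (x : X) :
    X.fromSpecStalk x ≫ (X ↘ Spec (CommRingCat.of k)) =
      Spec.map (CommRingCat.ofHom (algebraMap k (X.presheaf.stalk x))) := by
  have h1 : (X ↘ Spec (CommRingCat.of k)) = X.toSpecΓ ≫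
      Spec.map ((X ↘ Spec (CommRingCat.of k)).appTop) ≫
        Spec.map (Scheme.ΓSpecIso (CommRingCat.of k)).inv := by
    rw [← Scheme.toSpecΓ_naturality_assoc, toSpecΓ_SpecMap_ΓSpecIso_inv, Category.comp_id]
  rw [h1, Scheme.fromSpecStalk_toSpecΓ_assoc, ← Spec.map_comp, ← Spec.map_comp]
  rfl

theorem finiteDimensional_functionField [LocallyOfFiniteType (X ↘ Spec (CommRingCat.of k))]
    {d : ℕ} (s : Fin d → X.presheaf.stalk (genericPoint X)) (hs : IsTranscendenceBasis k s) :
    FiniteDimensional ↥(IntermediateField.adjoin k (Set.range s))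
      (X.presheaf.stalk (genericPoint X)) := by
  classical
  obtain ⟨_, ⟨U, hU, rfl⟩, hxU, -⟩ :=
    (X.isBasis_affineOpens).exists_subset_of_mem_open (Set.mem_univ (genericPoint X)) isOpen_univ
  haveI : Nonempty U := ⟨⟨_, hxU⟩⟩
  haveI hfr : IsFractionRing Γ(X, U) X.functionField :=
    functionField_isFractionRing_of_isAffineOpen X U hU
  have hft : ((X ↘ Spec (CommRingCat.of k)).appLE ⊤ U le_top).hom.FiniteType :=
    LocallyOfFiniteType.finiteType_appLE _ (isAffineOpen_top _) hU _
  set φ₀ := ((X ↘ Spec (CommRingCat.of k)).appLE ⊤ U le_top).hom with hφ₀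
  letI := φ₀.toAlgebra
  have hft' : Algebra.FiniteType Γ(Spec (CommRingCat.of k), ⊤) Γ(X, U) := hft
  obtain ⟨t, ht⟩ := hft'.out
  let L := ↥(IntermediateField.adjoin k (Set.range s))
  let γ := X.germToFunctionField U
  have hγalg : ∀ a : Γ(X, U), algebraMap Γ(X, U) X.functionField a = γ a := fun a => rfl
  let M : IntermediateField L X.functionField :=
    IntermediateField.adjoin L ((fun a => γ a) '' (t : Set Γ(X, U)))
  have hconst : ∀ c : Γ(Spec (CommRingCat.of k), ⊤),
      γ (φ₀ c) = algebraMap k X.functionField ((Scheme.ΓSpecIso (CommRingCat.of k)).hom c) := by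
    intro c
    rw [algebraMap_stalk_eq]
    have h1 : (Scheme.ΓSpecIso (CommRingCat.of k)).inv
        ((Scheme.ΓSpecIso (CommRingCat.of k)).hom c) = c := by
      rw [← CommRingCat.comp_apply, Iso.hom_inv_id, CommRingCat.id_apply]
    rw [h1]
    show X.presheaf.germ U (genericPoint X) _ (((X ↘ Spec (CommRingCat.of k)).appLE ⊤ U le_top) c) = _
    simp only [Scheme.Hom.appLE, CommRingCat.comp_apply]
    rw [TopCat.Presheaf.germ_res_apply]
    rfl
  have hmem : ∀ a : Γ(X, U), γ a ∈ M := by
    intro a
    have ha : a ∈ Algebra.adjoin Γ(Spec (CommRingCat.of k), ⊤) (t : Set Γ(X, U)) := by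
      rw [ht]; trivial
    induction ha using Algebra.adjoin_induction with
    | mem x hx => exact IntermediateField.subset_adjoin _ _ ⟨x, hx, rfl⟩
    | algebraMap r =>
      show γ (φ₀ r) ∈ M
      rw [hconst, IsScalarTower.algebraMap_apply k L X.functionField]
      exact IntermediateField.algebraMap_mem _ _
    | add x y _ _ hx hy => rw [map_add]; exact add_mem hx hy
    | mul x y _ _ hx hy => rw [map_mul]; exact mul_mem hx hy
  have hMtop : M = ⊤ := by
    rw [eq_top_iff]
    rintro x -
    obtain ⟨a, b, -, rfl⟩ := IsFractionRing.div_surjective (A := Γ(X, U)) x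
    rw [hγalg, hγalg]
    exact div_mem (hmem a) (hmem b)
  haveI : Algebra.IsAlgebraic L X.functionField := hs.isAlgebraic_field
  haveI : FiniteDimensional L M := by
    haveI : Finite ((fun a => γ a) '' (t : Set Γ(X, U))) := (t.finite_toSet.image _).to_subtype
    exact IntermediateField.finiteDimensional_adjoin
      (fun x _ => Algebra.IsIntegral.isIntegral x)
  have e : M ≃ₗ[L] X.functionField := by
    rw [hMtop]
    exact (IntermediateField.topEquiv (F := L) (E := X.functionField)).toLinearEquiv
  exact e.finiteDimensional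

theorem exists_open_iso_hypersurface [LocallyOfFiniteType (X ↘ Spec (CommRingCat.of k))]
    {d : ℕ} (s : Fin d → X.presheaf.stalk (genericPoint X)) (hs : IsTranscendenceBasis k s)
    (hsep : Algebra.IsSeparable ↥(IntermediateField.adjoin k (Set.range s))
      (X.presheaf.stalk (genericPoint X))) :
    ∃ (g : Polynomial (MvPolynomial (Fin d) k)), g.Monic ∧
      Irreducible (g.map (algebraMap (MvPolynomial (Fin d) k)
        (FractionRing (MvPolynomial (Fin d) k)))) ∧
      (g.map (algebraMap (MvPolynomial (Fin d) k)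
        (FractionRing (MvPolynomial (Fin d) k)))).Separable ∧
      ∃ (U : X.Opens) (V : (Spec (CommRingCat.of (AdjoinRoot g))).Opens)
        (e : (U : Scheme.{u}) ≅ (V : Scheme.{u})),
        (U : Set X).Nonempty ∧ (V : Set (Spec (CommRingCat.of (AdjoinRoot g)))).Nonempty ∧
        e.hom ≫ V.ι ≫ Spec.map (CommRingCat.ofHom (algebraMap k (AdjoinRoot g))) =
          U.ι ≫ (X ↘ Spec (CommRingCat.of k)) := by
  have hfin := finiteDimensional_functionField k X s hs
  obtain ⟨g, hmonic, hirr, hsepg, ψ, hinj, hfrac⟩ :=
    exists_hypersurface_model (K' := X.presheaf.stalk (genericPoint X)) s hs hsep hfin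
  refine ⟨g, hmonic, hirr, hsepg, ?_⟩
  set B := AdjoinRoot g with hB
  haveI : IsDomain B := Function.Injective.isDomain ψ.toRingHom hinj
  haveI : IsDomain (CommRingCat.of B) := ‹IsDomain B›
  let Y : Scheme.{u} := Spec (CommRingCat.of B)
  haveI : IsIntegral Y := inferInstance
  let sY : Y ⟶ Spec (CommRingCat.of k) := Spec.map (CommRingCat.ofHom (algebraMap k B))
  let sX := (X ↘ Spec (CommRingCat.of k))
  haveI : LocallyOfFiniteType sY := by
    rw [HasRingHomProperty.Spec_iff (P := @LocallyOfFiniteType)]
    show (algebraMap k B).FiniteType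
    have h1 : Algebra.FiniteType (MvPolynomial (Fin d) k) B := inferInstance
    have h2 : Algebra.FiniteType k (MvPolynomial (Fin d) k) := inferInstance
    exact RingHom.finiteType_algebraMap.mpr (Algebra.FiniteType.trans h2 h1)
  -- `K_X` as a fraction field of `B`
  letI algBK : Algebra B X.functionField := ψ.toRingHom.toAlgebra
  haveI : IsFractionRing B X.functionField := by
    rw [IsFractionRing, isLocalization_iff]
    refine ⟨?_, ?_, ?_⟩
    · intro b
      have hb0 : (b : B) ≠ 0 := nonZeroDivisors.ne_zero b.2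
      have : ψ (b : B) ≠ 0 := fun h => hb0 (hinj (h.trans (map_zero ψ).symm))
      exact this.isUnit
    · intro x
      obtain ⟨a, b, hb0, hab⟩ := hfrac x
      exact ⟨⟨a, ⟨b, mem_nonZeroDivisors_of_ne_zero hb0⟩⟩, hab⟩
    · intro a b hab
      exact ⟨1, by rw [hinj hab]⟩
  letI algBY : Algebra B Y.functionField :=
    AlgebraicGeometry.instAlgebraCarrierFunctionFieldSpec (CommRingCat.of B)
  haveI : IsFractionRing B Y.functionField :=
    AlgebraicGeometry.functionField_isFractionRing_of_affine (CommRingCat.of B)
  let eAlg : X.functionField ≃ₐ[B] Y.functionField :=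
    IsLocalization.algEquiv (nonZeroDivisors B) X.functionField Y.functionField
  let e : X.presheaf.stalk (genericPoint X) ≅ Y.presheaf.stalk (genericPoint Y) :=
    eAlg.toRingEquiv.toCommRingCatIso
  have he : Spec.map e.inv ≫ Y.fromSpecStalk (genericPoint Y) ≫ sY =
      X.fromSpecStalk (genericPoint X) ≫ sX := by
    rw [fromSpecStalk_comp_over, Spec.fromSpecStalk_eq', ← Spec.map_comp, ← Spec.map_comp]
    congr 1
    ext c
    show eAlg.symm (algebraMap B Y.functionField (algebraMap k B c)) = _
    rw [AlgEquiv.commutes]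
    show ψ (algebraMap k B c) = _
    rw [AlgHom.commutes]
    rfl
  have hbir : Scheme.BirationalOver sX sY :=
    birationalOver_of_stalkIso sX sY e he
      (locUniq_of_isGermInjectiveAt sX _) (locUniq_of_isGermInjectiveAt sY _)
      (fun φ hφ ↦ spread_out_of_isGermInjective' sX sY φ hφ)
      (fun φ hφ ↦ spread_out_of_isGermInjective' sY sX φ hφ)
  obtain ⟨p, hp⟩ := hbir
  refine ⟨p.source, p.target, p.iso, p.dense_source.nonempty, p.dense_target.nonempty, hp⟩

end Groth.Agent.Lib.helper4.Hypersurf
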