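import Mathlib
import Groth.Agent.Lib.Helper4.JacobsonCompl2
set_option backward.isDefEq.respectTransparency false
set_option backward.isDefEq.respectTransparency.types false
set_option autoImplicit false
set_option linter.style.haveILetI false

open AlgebraicGeometry CategoryTheory

universe u

namespace Groth.Agent.Lib.helper4.JacobsonCompl

theorem isJacobsonRing_away_of_le_jacobson (A : Type u) [CommRing A] [IsNoetherianRing A]
    (I : Ideal A) (hI : I ≤ (⊥ : Ideal A).jacobson) (f : A) (hf : f ∈ I) :
    IsJacobsonRing (Localization.Away f) := by
  rw [PrimeSpectrum.isJacobsonRing_iff_jacobsonSpace]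
  haveI := jacobsonSpace_compl_zeroLocus A I hI
  have hemb := PrimeSpectrum.localization_away_isOpenEmbedding (Localization.Away f) f
  have hrange : ∀ x, PrimeSpectrum.comap (algebraMap A (Localization.Away f)) x ∈
      (PrimeSpectrum.zeroLocus (I : Set A))ᶜ := by
    intro x hx
    have h1 : PrimeSpectrum.comap (algebraMap A (Localization.Away f)) x ∈
        Set.range (PrimeSpectrum.comap (algebraMap A (Localization.Away f))) := ⟨x, rfl⟩
    rw [PrimeSpectrum.localization_away_comap_range (Localization.Away f) f] at h1
    exact h1 (hx hf)
  let g : PrimeSpectrum (Localization.Away f) → ↥((PrimeSpectrum.zeroLocus (I : Set A))ᶜ) :=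
    Set.codRestrict (PrimeSpectrum.comap (algebraMap A (Localization.Away f))) _ hrange
  have hg : Topology.IsOpenEmbedding g := by
    refine Topology.IsOpenEmbedding.of_comp g
      (PrimeSpectrum.isClosed_zeroLocus _).isOpen_compl.isOpenEmbedding_subtypeVal ?_
    exact hemb
  exact JacobsonSpace.of_isOpenEmbedding hg

end Groth.Agent.Lib.helper4.JacobsonCompl
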