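import Groth.Prelude.Def_LiftSq
set_option autoImplicit false
set_option backward.isDefEq.respectTransparency false
set_option backward.isDefEq.respectTransparency.types false
open CategoryTheory
universe v₆ u₆ v₅ u₅ v₄ u₄ v₃ u₃ v₂ u₂ v u

/-! Unique lifting against a fixed functor `j` over the base is stable under composition. -/

namespace Groth.Agent.Lib.helper4.LiftSqComp
open LiftSq

variable {C : Type u} [Category.{v} C]
  {𝒜 : BasedCategory.{v₂, u₂} C} {ℬ : BasedCategory.{v₃, u₃} C}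
  {𝒳 : BasedCategory.{v₄, u₄} C} {𝒴 : BasedCategory.{v₅, u₅} C} {𝒵 : BasedCategory.{v₆, u₆} C}

theorem app_comp {F G H : 𝒳 ⥤ᵇ 𝒴} (α : F ⟶ G) (β : G ⟶ H) (x : 𝒳.obj) :
    (α ≫ β).toNatTrans.app x = α.toNatTrans.app x ≫ β.toNatTrans.app x := rfl

theorem app_id (F : 𝒳 ⥤ᵇ 𝒴) (x : 𝒳.obj) : (𝟙 F : F ⟶ F).toNatTrans.app x = 𝟙 _ := rfl

theorem whiskerLeft_app (F : 𝒜 ⥤ᵇ 𝒳) {G H : 𝒳 ⥤ᵇ 𝒴} (α : G ⟶ H) (a : 𝒜.obj) :
    (BasedCategory.whiskerLeft F α).toNatTrans.app a = α.toNatTrans.app (F.toFunctor.obj a) := rfl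

theorem whiskerRight_app {F G : 𝒜 ⥤ᵇ 𝒳} (α : F ⟶ G) (H : 𝒳 ⥤ᵇ 𝒴) (a : 𝒜.obj) :
    (BasedCategory.whiskerRight α H).toNatTrans.app a = H.toFunctor.map (α.toNatTrans.app a) := rfl

theorem hom_ext' {F G : 𝒳 ⥤ᵇ 𝒴} (α β : F ⟶ G)
    (h : ∀ x, α.toNatTrans.app x = β.toNatTrans.app x) : α = β :=
  BasedNatTrans.homCategory.ext _ _ (NatTrans.ext (funext h))

theorem congr_app {F G : 𝒳 ⥤ᵇ 𝒴} {α β : F ⟶ G} (h : α = β) (x : 𝒳.obj) :
    α.toNatTrans.app x = β.toNatTrans.app x := by rw [h]

/-- whiskering an isomorphism on the right -/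
def wrIso {F G : 𝒜 ⥤ᵇ 𝒳} (e : F ≅ G) (H : 𝒳 ⥤ᵇ 𝒴) :
    BasedFunctor.comp F H ≅ BasedFunctor.comp G H where
  hom := BasedCategory.whiskerRight e.hom H
  inv := BasedCategory.whiskerRight e.inv H
  hom_inv_id := by
    rw [← whiskerRight_comp', e.hom_inv_id, whiskerRight_id']
  inv_hom_id := by
    rw [← whiskerRight_comp', e.inv_hom_id, whiskerRight_id']

/-- whiskering an isomorphism on the left -/
def wlIso (F : 𝒜 ⥤ᵇ 𝒳) {G H : 𝒳 ⥤ᵇ 𝒴} (e : G ≅ H) :
    BasedFunctor.comp F G ≅ BasedFunctor.comp F H where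
  hom := BasedCategory.whiskerLeft F e.hom
  inv := BasedCategory.whiskerLeft F e.inv
  hom_inv_id := by
    rw [← whiskerLeft_comp', e.hom_inv_id, whiskerLeft_id']
  inv_hom_id := by
    rw [← whiskerLeft_comp', e.inv_hom_id, whiskerLeft_id']

section Comp

variable (j : 𝒜 ⥤ᵇ ℬ) (f : 𝒳 ⥤ᵇ 𝒴) (g : 𝒴 ⥤ᵇ 𝒵)

/-- the outer square seen as a square against `g` -/
def sq1 (sq : Sq j (BasedFunctor.comp f g)) : Sq j g where
  top := BasedFunctor.comp sq.top f
  bot := sq.bot
  iso := sq.iso

/-- a lift of the outer square gives a lift of the square against `g` -/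
def lift1 {sq : Sq j (BasedFunctor.comp f g)} (d : sq.Lift) : (sq1 j f g sq).Lift where
  fn := BasedFunctor.comp d.fn f
  isoTop := wrIso d.isoTop f
  isoBot := d.isoBot
  w := by
    apply hom_ext'
    intro a
    exact congr_app d.w a

/-- the square against `f` cut out by a lift `d'` -/
def sq2 {sq : Sq j (BasedFunctor.comp f g)} (d' : sq.Lift) : Sq j f where
  top := sq.top
  bot := BasedFunctor.comp d'.fn f
  iso := wrIso d'.isoTop f

theorem liftsUniquely_comp (hf : LiftsUniquely j f) (hg : LiftsUniquely j g) :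
    LiftsUniquely j (BasedFunctor.comp f g) := by
  intro sq
  constructor
  · -- existence
    obtain ⟨⟨d1⟩, -⟩ := hg (sq1 j f g sq)
    let s2 : Sq j f := ⟨sq.top, d1.fn, d1.isoTop⟩
    obtain ⟨⟨d2⟩, -⟩ := hf s2
    refine ⟨⟨d2.fn, d2.isoTop, d1.isoBot ≪≫ wrIso d2.isoBot g, ?_⟩⟩
    apply hom_ext'
    intro a
    have h1 := congr_app d1.w a
    have h2 := congr_app d2.w a
    simp only [app_comp, whiskerLeft_app, whiskerRight_app] at h1 h2
    change (d1.isoBot.hom.toNatTrans.app (j.toFunctor.obj a) ≫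
        g.toFunctor.map (d2.isoBot.hom.toNatTrans.app (j.toFunctor.obj a))) ≫
        g.toFunctor.map (f.toFunctor.map (d2.isoTop.hom.toNatTrans.app a)) = sq.iso.hom.toNatTrans.app a
    rw [Category.assoc, ← Functor.map_comp]
    have h2' : d2.isoBot.hom.toNatTrans.app (j.toFunctor.obj a) ≫
        f.toFunctor.map (d2.isoTop.hom.toNatTrans.app a) = d1.isoTop.hom.toNatTrans.app a := h2
    rw [h2']
    exact h1
  · -- uniqueness
    intro d d'
    obtain ⟨-, u1⟩ := hg (sq1 j f g sq)
    obtain ⟨U12⟩ := u1 (lift1 j f g d) (lift1 j f g d')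
    obtain ⟨U21⟩ := u1 (lift1 j f g d') (lift1 j f g d)
    obtain ⟨U11⟩ := u1 (lift1 j f g d) (lift1 j f g d)
    obtain ⟨U22⟩ := u1 (lift1 j f g d') (lift1 j f g d')
    let θ' : lift1 j f g d ⟶ lift1 j f g d' := U12.default
    let θ'' : lift1 j f g d' ⟶ lift1 j f g d := U21.default
    have h12 : θ' ≫ θ'' = 𝟙 _ := (U11.uniq _).trans (U11.uniq _).symm
    have h21 : θ'' ≫ θ' = 𝟙 _ := (U22.uniq _).trans (U22.uniq _).symm
    have h12' : θ'.hom ≫ θ''.hom = 𝟙 _ := congrArg (fun t => t.hom) h12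
    have h21' : θ''.hom ≫ θ'.hom = 𝟙 _ := congrArg (fun t => t.hom) h21
    let Θ : BasedFunctor.comp d'.fn f ≅ BasedFunctor.comp d.fn f := ⟨θ''.hom, θ'.hom, h21', h12'⟩
    -- two lifts of the square against f cut out by d'
    let e' : (sq2 j f g d').Lift :=
      { fn := d'.fn, isoTop := d'.isoTop, isoBot := Iso.refl _
        w := by
          change BasedCategory.whiskerLeft j (𝟙 (BasedFunctor.comp d'.fn f)) ≫ BasedCategory.whiskerRight d'.isoTop.hom f =
            BasedCategory.whiskerRight d'.isoTop.hom f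
          rw [whiskerLeft_id']
          exact Category.id_comp _ }
    let e : (sq2 j f g d').Lift :=
      { fn := d.fn, isoTop := d.isoTop, isoBot := Θ
        w := θ''.w_top }
    obtain ⟨-, u2⟩ := hf (sq2 j f g d')
    obtain ⟨V⟩ := u2 e e'
    let θ : e ⟶ e' := V.default
    have hθf : BasedCategory.whiskerRight θ.hom f = θ'.hom := by
      have h := θ.w_bot
      change θ''.hom ≫ BasedCategory.whiskerRight θ.hom f = 𝟙 _ at h
      calc BasedCategory.whiskerRight θ.hom f
          = (θ'.hom ≫ θ''.hom) ≫ BasedCategory.whiskerRight θ.hom f := by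
            rw [h12', Category.id_comp]
        _ = θ'.hom := by rw [Category.assoc, h, Category.comp_id]
    have key : ∀ τ : d ⟶ d', τ.hom = θ.hom := by
      intro τ
      -- whiskerRight τ f is a morphism lift1 d ⟶ lift1 d'
      let τ1 : lift1 j f g d ⟶ lift1 j f g d' :=
        { hom := BasedCategory.whiskerRight τ.hom f
          w_top := by
            apply hom_ext'
            intro a
            have h := congr_app τ.w_top a
            simp only [app_comp, whiskerLeft_app] at h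
            change f.toFunctor.map (τ.hom.toNatTrans.app (j.toFunctor.obj a)) ≫
              f.toFunctor.map (d'.isoTop.hom.toNatTrans.app a) =
              f.toFunctor.map (d.isoTop.hom.toNatTrans.app a)
            rw [← Functor.map_comp, h]
          w_bot := by
            apply hom_ext'
            intro b
            exact congr_app τ.w_bot b }
      have hτ1 : τ1 = θ' := U12.uniq τ1
      have hτf : BasedCategory.whiskerRight τ.hom f = θ'.hom := congrArg (fun t => t.hom) hτ1
      let τ2 : e ⟶ e' :=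
        { hom := τ.hom
          w_top := τ.w_top
          w_bot := by
            change θ''.hom ≫ BasedCategory.whiskerRight τ.hom f = 𝟙 _
            rw [hτf, h21'] }
      exact congrArg (fun t => t.hom) (V.uniq τ2)
    let τ0 : d ⟶ d' :=
      { hom := θ.hom
        w_top := θ.w_top
        w_bot := by
          have h := θ'.w_bot
          change d.isoBot.hom ≫ BasedCategory.whiskerRight θ'.hom g = d'.isoBot.hom at h
          rw [← hθf] at h
          apply hom_ext'
          intro b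
          exact congr_app h b }
    exact ⟨{ default := τ0, uniq := fun τ => Sq.Lift.hom_ext (key τ) }⟩

end Comp

end Groth.Agent.Lib.helper4.LiftSqComp
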