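import Groth.Agent.Lib.Helper4.LiftSqComp
import Groth.Agent.StkFp
set_option autoImplicit false
set_option backward.isDefEq.respectTransparency false
set_option backward.isDefEq.respectTransparency.types false
open CategoryTheory
universe v₆ u₆ v₅ u₅ v₄ u₄ v₃ u₃ v₂ u₂ v u

/-! Unique lifting against a fixed functor `j` over the base is stable under base change
(first projection of the 2-fibre product). -/

namespace Groth.Agent.Lib.helper4.LiftSqFp
open LiftSq FibCat Groth.Agent.Lib.helper4.LiftSqComp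

variable {C : Type u} [Category.{v} C]
  {𝒜 : BasedCategory.{v₂, u₂} C} {ℬ : BasedCategory.{v₃, u₃} C}
  {𝒳 : BasedCategory.{v₄, u₄} C} {𝒴 : BasedCategory.{v₅, u₅} C} {𝒴' : BasedCategory.{v₆, u₆} C}


section GenLemmas
variable {𝒞 : Type*} [Category 𝒞]

theorem gl_a {X Y Z W : 𝒞} (A : X ⟶ Y) (A' : Y ⟶ X) (B : Z ⟶ W) (B' : W ⟶ Z) (T : Y ⟶ W) (D : X ⟶ Z)
    (hA : A' ≫ A = 𝟙 _) (hB : B ≫ B' = 𝟙 _) (h : D ≫ B = A ≫ T) : A' ≫ D = T ≫ B' := by
  calc A' ≫ D = A' ≫ D ≫ B ≫ B' := by rw [hB, Category.comp_id]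
    _ = A' ≫ (A ≫ T) ≫ B' := by rw [← Category.assoc D, h]
    _ = T ≫ B' := by rw [Category.assoc, ← Category.assoc A', hA, Category.id_comp]

theorem gl_b {X Y Z V W : 𝒞} (a : Y ⟶ X) (b : X ⟶ Y) (c : X ⟶ Z) (T₁ : Y ⟶ V) (T₂ : Z ⟶ W) (F : V ⟶ W)
    (hab : a ≫ b = 𝟙 _) (h : (b ≫ T₁) ≫ F = c ≫ T₂) : (a ≫ c) ≫ T₂ = T₁ ≫ F := by
  calc (a ≫ c) ≫ T₂ = a ≫ (b ≫ T₁) ≫ F := by rw [Category.assoc, h]
    _ = T₁ ≫ F := by rw [Category.assoc, ← Category.assoc a, hab, Category.id_comp]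

theorem gl_c {X Y Z W : 𝒞} (I : Y ⟶ X) (H₁ : X ⟶ Y) (H₂ : X ⟶ Z) (t₁ : Y ⟶ W) (t₂ : Z ⟶ W) (s : X ⟶ W)
    (h1 : H₁ ≫ t₁ = s) (h2 : H₂ ≫ t₂ = s) (hI : I ≫ H₁ = 𝟙 _) : (I ≫ H₂) ≫ t₂ = t₁ := by
  rw [Category.assoc, h2, ← h1, ← Category.assoc, hI, Category.id_comp]

theorem gl_d {X Y Z : 𝒞} (I : Y ⟶ X) (H₁ : X ⟶ Y) (H₂ : X ⟶ Z) (hI : H₁ ≫ I = 𝟙 _) :
    H₁ ≫ (I ≫ H₂) = H₂ := by
  rw [← Category.assoc, hI, Category.id_comp]

theorem gl_e {X Y Z V W : 𝒞} (yH₁ : X ⟶ Y) (yH₂ : X ⟶ Z) (yτ : Y ⟶ Z) (T₁ : Y ⟶ V) (T₂ : Z ⟶ W) (fτ : V ⟶ W)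
    (h2 : yτ ≫ T₂ = T₁ ≫ fτ) (h : yH₁ ≫ yτ = yH₂) : (yH₁ ≫ T₁) ≫ fτ = yH₂ ≫ T₂ := by
  rw [Category.assoc, ← h2, ← Category.assoc, h]

theorem gl_f {X Y Z : 𝒞} (I : Y ⟶ X) (H₁ : X ⟶ Y) (H₂ : X ⟶ Z) (τ : Y ⟶ Z)
    (h : H₁ ≫ τ = H₂) (hI : I ≫ H₁ = 𝟙 _) : τ = I ≫ H₂ := by
  rw [← h, ← Category.assoc, hI, Category.id_comp]

end GenLemmas

variable (j : 𝒜 ⥤ᵇ ℬ) (f : 𝒳 ⥤ᵇ 𝒴) (y : 𝒴' ⥤ᵇ 𝒴)

theorem fpIso_app (t : (fp y f).obj) : (fpIso y f).hom.toNatTrans.app t = t.obj.iso.hom := rfl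

/-- the induced square against `f` -/
def sq' (sq : Sq j (fpFst y f)) : Sq j f where
  top := BasedFunctor.comp sq.top (fpSnd y f)
  bot := BasedFunctor.comp sq.bot y
  iso := wrIso sq.iso y ≪≫ wlIso sq.top (fpIso y f)

theorem sq'_iso_app (sq : Sq j (fpFst y f)) (a : 𝒜.obj) :
    (sq' j f y sq).iso.hom.toNatTrans.app a =
      y.toFunctor.map (sq.iso.hom.toNatTrans.app a) ≫ (sq.top.toFunctor.obj a).obj.iso.hom := rfl

/-- a lift of `sq` gives a lift of `sq'` -/
def liftM {sq : Sq j (fpFst y f)} (d : sq.Lift) : (sq' j f y sq).Lift where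
  fn := BasedFunctor.comp d.fn (fpSnd y f)
  isoTop := wrIso d.isoTop (fpSnd y f)
  isoBot := wrIso d.isoBot y ≪≫ wlIso d.fn (fpIso y f)
  w := by
    apply hom_ext'
    intro a
    have h1 := congr_app d.w a
    have h2 := (d.isoTop.hom.toNatTrans.app a).hom.w
    change d.isoBot.hom.toNatTrans.app (j.toFunctor.obj a) ≫ (d.isoTop.hom.toNatTrans.app a).hom.fst =
      sq.iso.hom.toNatTrans.app a at h1
    change y.toFunctor.map (d.isoTop.hom.toNatTrans.app a).hom.fst ≫ (sq.top.toFunctor.obj a).obj.iso.hom =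
      (d.fn.toFunctor.obj (j.toFunctor.obj a)).obj.iso.hom ≫
        f.toFunctor.map (d.isoTop.hom.toNatTrans.app a).hom.snd at h2
    rw [sq'_iso_app]
    change (y.toFunctor.map (d.isoBot.hom.toNatTrans.app (j.toFunctor.obj a)) ≫
        (d.fn.toFunctor.obj (j.toFunctor.obj a)).obj.iso.hom) ≫
        f.toFunctor.map (d.isoTop.hom.toNatTrans.app a).hom.snd = _
    have h3 : y.toFunctor.map (d.isoBot.hom.toNatTrans.app (j.toFunctor.obj a)) ≫
        y.toFunctor.map (d.isoTop.hom.toNatTrans.app a).hom.fst =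
        y.toFunctor.map (sq.iso.hom.toNatTrans.app a) := by
      rw [← CategoryTheory.Functor.map_comp, h1]
    rw [← h3]
    exact gl_e _ _ _ _ _ _ h2 rfl

theorem liftM_isoBot_app {sq : Sq j (fpFst y f)} (d : sq.Lift) (b : ℬ.obj) :
    (liftM j f y d).isoBot.hom.toNatTrans.app b =
      y.toFunctor.map (d.isoBot.hom.toNatTrans.app b) ≫ (d.fn.toFunctor.obj b).obj.iso.hom := rfl

theorem liftsUniquely_fpFst (hf : LiftsUniquely j f) : LiftsUniquely j (fpFst y f) := by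
  intro sq
  constructor
  · -- existence
    obtain ⟨⟨d'⟩, -⟩ := hf (sq' j f y sq)
    let fn : ℬ ⥤ᵇ fp y f := fpLift sq.bot d'.fn d'.isoBot
    have hw : ∀ a : 𝒜.obj, d'.isoBot.hom.toNatTrans.app (j.toFunctor.obj a) ≫
        f.toFunctor.map (d'.isoTop.hom.toNatTrans.app a) =
        y.toFunctor.map (sq.iso.hom.toNatTrans.app a) ≫ (sq.top.toFunctor.obj a).obj.iso.hom := by
      intro a
      have h := congr_app d'.w a
      rw [sq'_iso_app] at h
      exact h
    have hinv1 : ∀ a : 𝒜.obj, sq.iso.hom.toNatTrans.app a ≫ sq.iso.inv.toNatTrans.app a = 𝟙 _ :=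
      fun a => congr_app sq.iso.hom_inv_id a
    have hinv2 : ∀ a : 𝒜.obj, sq.iso.inv.toNatTrans.app a ≫ sq.iso.hom.toNatTrans.app a = 𝟙 _ :=
      fun a => congr_app sq.iso.inv_hom_id a
    have hinv3 : ∀ a : 𝒜.obj, d'.isoTop.hom.toNatTrans.app a ≫ d'.isoTop.inv.toNatTrans.app a = 𝟙 _ :=
      fun a => congr_app d'.isoTop.hom_inv_id a
    have hinv4 : ∀ a : 𝒜.obj, d'.isoTop.inv.toNatTrans.app a ≫ d'.isoTop.hom.toNatTrans.app a = 𝟙 _ :=
      fun a => congr_app d'.isoTop.inv_hom_id a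
    let γ : BasedFunctor.comp j fn ⟶ sq.top :=
      Groth.Agent.StkFp.mkTrans y f (H := BasedFunctor.comp j fn) (H' := sq.top) sq.iso.hom d'.isoTop.hom
        (fun a => (hw a).symm)
    let δ : sq.top ⟶ BasedFunctor.comp j fn :=
      Groth.Agent.StkFp.mkTrans y f (H := sq.top) (H' := BasedFunctor.comp j fn) sq.iso.inv d'.isoTop.inv
        (fun a => by
          change y.toFunctor.map (sq.iso.inv.toNatTrans.app a) ≫
              d'.isoBot.hom.toNatTrans.app (j.toFunctor.obj a) =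
            (sq.top.toFunctor.obj a).obj.iso.hom ≫ f.toFunctor.map (d'.isoTop.inv.toNatTrans.app a)
          have e1 : y.toFunctor.map (sq.iso.inv.toNatTrans.app a) ≫
              y.toFunctor.map (sq.iso.hom.toNatTrans.app a) = 𝟙 _ := by
            rw [← CategoryTheory.Functor.map_comp, hinv2, CategoryTheory.Functor.map_id]
          have e2 : f.toFunctor.map (d'.isoTop.hom.toNatTrans.app a) ≫
              f.toFunctor.map (d'.isoTop.inv.toNatTrans.app a) = 𝟙 _ := by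
            rw [← CategoryTheory.Functor.map_comp, hinv3, CategoryTheory.Functor.map_id]
          exact gl_a _ _ _ _ _ _ e1 e2 (hw a))
    have hγδ : γ ≫ δ = 𝟙 _ := by
      apply Groth.Agent.StkFp.trans_ext y f
      · apply hom_ext'; intro a; exact hinv1 a
      · apply hom_ext'; intro a; exact hinv3 a
    have hδγ : δ ≫ γ = 𝟙 _ := by
      apply Groth.Agent.StkFp.trans_ext y f
      · apply hom_ext'; intro a; exact hinv2 a
      · apply hom_ext'; intro a; exact hinv4 a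
    refine ⟨⟨fn, ⟨γ, δ, hγδ, hδγ⟩, Iso.refl _, ?_⟩⟩
    apply hom_ext'
    intro a
    change 𝟙 _ ≫ sq.iso.hom.toNatTrans.app a = sq.iso.hom.toNatTrans.app a
    exact Category.id_comp _
  · -- uniqueness
    intro d₁ d₂
    obtain ⟨-, u'⟩ := hf (sq' j f y sq)
    obtain ⟨U⟩ := u' (liftM j f y d₁) (liftM j f y d₂)
    let ψ : liftM j f y d₁ ⟶ liftM j f y d₂ := U.default
    have hb1 : ∀ b : ℬ.obj, d₁.isoBot.hom.toNatTrans.app b ≫ d₁.isoBot.inv.toNatTrans.app b = 𝟙 _ :=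
      fun b => congr_app d₁.isoBot.hom_inv_id b
    have hb2 : ∀ b : ℬ.obj, d₁.isoBot.inv.toNatTrans.app b ≫ d₁.isoBot.hom.toNatTrans.app b = 𝟙 _ :=
      fun b => congr_app d₁.isoBot.inv_hom_id b
    have hψbot : ∀ b : ℬ.obj, (y.toFunctor.map (d₁.isoBot.hom.toNatTrans.app b) ≫
        (d₁.fn.toFunctor.obj b).obj.iso.hom) ≫ f.toFunctor.map (ψ.hom.toNatTrans.app b) =
        y.toFunctor.map (d₂.isoBot.hom.toNatTrans.app b) ≫ (d₂.fn.toFunctor.obj b).obj.iso.hom := by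
      intro b
      have h := congr_app ψ.w_bot b
      rw [liftM_isoBot_app] at h
      exact h
    let θ : d₁.fn ⟶ d₂.fn :=
      Groth.Agent.StkFp.mkTrans y f (H := d₁.fn) (H' := d₂.fn) (d₁.isoBot.inv ≫ d₂.isoBot.hom) ψ.hom
        (fun b => by
          change y.toFunctor.map (d₁.isoBot.inv.toNatTrans.app b ≫ d₂.isoBot.hom.toNatTrans.app b) ≫
              (d₂.fn.toFunctor.obj b).obj.iso.hom =
            (d₁.fn.toFunctor.obj b).obj.iso.hom ≫ f.toFunctor.map (ψ.hom.toNatTrans.app b)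
          have e1 : y.toFunctor.map (d₁.isoBot.inv.toNatTrans.app b) ≫
              y.toFunctor.map (d₁.isoBot.hom.toNatTrans.app b) = 𝟙 _ := by
            rw [← CategoryTheory.Functor.map_comp, hb2, CategoryTheory.Functor.map_id]
          rw [CategoryTheory.Functor.map_comp]
          exact gl_b _ _ _ _ _ _ e1 (hψbot b))
    have hθfst : ∀ b : ℬ.obj, (θ.toNatTrans.app b).hom.fst =
        d₁.isoBot.inv.toNatTrans.app b ≫ d₂.isoBot.hom.toNatTrans.app b := fun b => rfl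
    have hθsnd : ∀ b : ℬ.obj, (θ.toNatTrans.app b).hom.snd = ψ.hom.toNatTrans.app b := fun b => rfl
    have hd : ∀ (d : sq.Lift) (a : 𝒜.obj), d.isoBot.hom.toNatTrans.app (j.toFunctor.obj a) ≫
        (d.isoTop.hom.toNatTrans.app a).hom.fst = sq.iso.hom.toNatTrans.app a :=
      fun d a => congr_app d.w a
    let τ0 : d₁ ⟶ d₂ :=
      { hom := θ
        w_top := by
          apply Groth.Agent.StkFp.trans_ext y f
          · apply hom_ext'
            intro a
            change (θ.toNatTrans.app (j.toFunctor.obj a)).hom.fst ≫ (d₂.isoTop.hom.toNatTrans.app a).hom.fst =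
              (d₁.isoTop.hom.toNatTrans.app a).hom.fst
            rw [hθfst]
            exact gl_c _ _ _ _ _ _ (hd d₁ a) (hd d₂ a) (hb2 _)
          · apply hom_ext'
            intro a
            exact congr_app ψ.w_top a
        w_bot := by
          apply hom_ext'
          intro b
          change d₁.isoBot.hom.toNatTrans.app b ≫ (θ.toNatTrans.app b).hom.fst =
            d₂.isoBot.hom.toNatTrans.app b
          rw [hθfst]
          exact gl_d _ _ _ (hb1 b) }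
    refine ⟨{ default := τ0, uniq := fun τ => ?_ }⟩
    have hτbot : ∀ b : ℬ.obj, d₁.isoBot.hom.toNatTrans.app b ≫ (τ.hom.toNatTrans.app b).hom.fst =
        d₂.isoBot.hom.toNatTrans.app b := fun b => congr_app τ.w_bot b
    let τ' : liftM j f y d₁ ⟶ liftM j f y d₂ :=
      { hom := BasedCategory.whiskerRight τ.hom (fpSnd y f)
        w_top := by
          apply hom_ext'
          intro a
          have h := congr_app τ.w_top a
          exact congrArg (fun m => m.hom.snd) h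
        w_bot := by
          apply hom_ext'
          intro b
          have h2 := (τ.hom.toNatTrans.app b).hom.w
          change y.toFunctor.map (τ.hom.toNatTrans.app b).hom.fst ≫ (d₂.fn.toFunctor.obj b).obj.iso.hom =
            (d₁.fn.toFunctor.obj b).obj.iso.hom ≫ f.toFunctor.map (τ.hom.toNatTrans.app b).hom.snd at h2
          rw [app_comp, liftM_isoBot_app, liftM_isoBot_app]
          change (y.toFunctor.map (d₁.isoBot.hom.toNatTrans.app b) ≫ (d₁.fn.toFunctor.obj b).obj.iso.hom) ≫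
            f.toFunctor.map (τ.hom.toNatTrans.app b).hom.snd = _
          have h3 : y.toFunctor.map (d₁.isoBot.hom.toNatTrans.app b) ≫
              y.toFunctor.map (τ.hom.toNatTrans.app b).hom.fst =
              y.toFunctor.map (d₂.isoBot.hom.toNatTrans.app b) := by
            rw [← CategoryTheory.Functor.map_comp, hτbot]
          exact gl_e _ _ _ _ _ _ h2 h3 }
    have hτ' : τ' = ψ := U.uniq τ'
    apply Sq.Lift.hom_ext
    apply Groth.Agent.StkFp.trans_ext y f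
    · apply hom_ext'
      intro b
      change (τ.hom.toNatTrans.app b).hom.fst = (θ.toNatTrans.app b).hom.fst
      rw [hθfst]
      exact gl_f _ _ _ _ (hτbot b) (hb2 b)
    · exact congrArg (fun t => t.hom) hτ'

end Groth.Agent.Lib.helper4.LiftSqFp
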