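import Mathlib
import Groth.Agent.Lib.Helper4.LocImm
set_option backward.isDefEq.respectTransparency false
set_option backward.isDefEq.respectTransparency.types false
set_option autoImplicit false
set_option linter.style.haveILetI false

open AlgebraicGeometry CategoryTheory

universe u

namespace Groth.Agent.Lib.helper4.LocImm

/-- In a reduced ring with finitely many minimal primes, the kernel of localization at a prime
is killed by a single element outside the prime. -/
theorem exists_kill_of_finite_minimalPrimes {A : Type*} [CommRing A] [IsReduced A]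
    (hfin : (minimalPrimes A).Finite) (p : Ideal A) [p.IsPrime] :
    ∃ h₀ : A, h₀ ∉ p ∧ ∀ k u : A, u ∉ p → u * k = 0 → h₀ * k = 0 := by
  classical
  have hch : ∀ P : Ideal A, ¬ P ≤ p → ∃ c ∈ P, c ∉ p := fun P hP => Set.not_subset.mp hP
  let c : Ideal A → A := fun P => if hP : P ≤ p then 1 else (hch P hP).choose
  have hc1 : ∀ P : Ideal A, ¬ P ≤ p → c P ∈ P := by
    intro P hP
    simp only [c, dif_neg hP]
    exact (hch P hP).choose_spec.1
  have hc2 : ∀ P : Ideal A, c P ∉ p := by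
    intro P
    by_cases hP : P ≤ p
    · simp only [c, dif_pos hP]
      exact fun h => (Ideal.IsPrime.ne_top ‹_›) ((Ideal.eq_top_iff_one _).mpr h)
    · simp only [c, dif_neg hP]
      exact (hch P hP).choose_spec.2
  refine ⟨∏ P ∈ hfin.toFinset, c P, ?_, ?_⟩
  · intro h
    obtain ⟨P, -, hP⟩ := Ideal.IsPrime.prod_mem_iff.mp h
    exact hc2 P hP
  · intro k u hu huk
    have hmem : (∏ P ∈ hfin.toFinset, c P) * k ∈ sInf (minimalPrimes A) := by
      rw [Ideal.mem_sInf]
      intro P hP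
      haveI : P.IsPrime := hP.1.1
      by_cases hPp : P ≤ p
      · have huP : u ∉ P := fun h => hu (hPp h)
        have : u * k ∈ P := by rw [huk]; exact P.zero_mem
        exact P.mul_mem_left _ ((Ideal.IsPrime.mem_or_mem ‹_› this).resolve_left huP)
      · apply P.mul_mem_right
        have hPm : P ∈ hfin.toFinset := (Set.Finite.mem_toFinset hfin).mpr hP
        exact Ideal.mem_of_dvd P (Finset.dvd_prod_of_mem c hPm) (hc1 P hPp)
    have hrad : sInf (minimalPrimes A) = (⊥ : Ideal A).radical := Ideal.sInf_minimalPrimes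
    rw [hrad, Ideal.radical_bot_of_isReduced] at hmem
    exact (Ideal.mem_bot).mp hmem

/-- A surjection whose kernel is killed by `h₀` becomes bijective after inverting `h₀`. -/
theorem bijective_of_kill {A B A' B' : Type*} [CommRing A] [CommRing B] [CommRing A']
    [CommRing B'] (ψ : A →+* B) (hψs : Function.Surjective ψ) (h₀ : A)
    (hkill : ∀ k : A, ψ k = 0 → h₀ * k = 0)
    [Algebra A A'] [Algebra B B'] [IsLocalization.Away h₀ A'] [IsLocalization.Away (ψ h₀) B']
    (ψ' : A' →+* B') (hψ' : ψ'.comp (algebraMap A A') = (algebraMap B B').comp ψ) :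
    Function.Bijective ψ' := by
  have hc : ∀ a : A, ψ' (algebraMap A A' a) = algebraMap B B' (ψ a) := fun a =>
    congrArg (fun f : A →+* B' => f a) hψ'
  have hunit : IsUnit (algebraMap A A' h₀) := IsLocalization.Away.algebraMap_isUnit h₀
  have hpow : ∀ n : ℕ, IsUnit (algebraMap A A' (h₀ ^ n)) := fun n => by
    rw [map_pow]; exact hunit.pow n
  constructor
  · rw [injective_iff_map_eq_zero]
    intro z hz
    obtain ⟨a, ⟨_, n, rfl⟩, rfl⟩ := IsLocalization.exists_mk'_eq (Submonoid.powers h₀) z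
    have h1 : IsLocalization.mk' A' a (⟨h₀ ^ n, n, rfl⟩ : Submonoid.powers h₀) *
        algebraMap A A' (h₀ ^ n) = algebraMap A A' a := IsLocalization.mk'_spec _ _ _
    have h2 : algebraMap B B' (ψ a) = 0 := by
      rw [← hc, ← h1, map_mul, hz, zero_mul]
    obtain ⟨⟨_, m, rfl⟩, hm⟩ := (IsLocalization.map_eq_zero_iff (Submonoid.powers (ψ h₀)) B' _).mp h2
    have h3 : ψ (h₀ ^ m * a) = 0 := by rw [map_mul, map_pow]; exact hm
    have h4 := hkill _ h3
    have h5 : algebraMap A A' a = 0 := by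
      have h6 := congrArg (algebraMap A A') h4
      rw [map_mul, map_mul, map_zero, ← mul_assoc] at h6
      exact ((hunit.mul (hpow m)).mul_right_eq_zero).mp h6
    rw [← h1] at h5
    exact ((hpow n).mul_left_eq_zero).mp h5
  · intro z
    obtain ⟨b, ⟨_, n, rfl⟩, rfl⟩ := IsLocalization.exists_mk'_eq (Submonoid.powers (ψ h₀)) z
    obtain ⟨a, rfl⟩ := hψs b
    refine ⟨IsLocalization.mk' A' a (⟨h₀ ^ n, n, rfl⟩ : Submonoid.powers h₀), ?_⟩
    rw [IsLocalization.eq_mk'_iff_mul_eq]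
    have h1 : IsLocalization.mk' A' a (⟨h₀ ^ n, n, rfl⟩ : Submonoid.powers h₀) *
        algebraMap A A' (h₀ ^ n) = algebraMap A A' a := IsLocalization.mk'_spec _ _ _
    show ψ' _ * algebraMap B B' (ψ h₀ ^ n) = _
    rw [← map_pow, ← hc, ← map_mul, h1, hc]


theorem finite_minimalPrimes_of_finite_irreducibleComponents (S : Scheme.{u})
    (hS : (irreducibleComponents (S : Type u)).Finite) {V : S.Opens} (hV : IsAffineOpen V) :
    (minimalPrimes Γ(S, V)).Finite := by
  classical
  haveI := hS.to_subtype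
  -- a minimal prime gives a maximal point, whose closure is an irreducible component
  have hcomp : ∀ P : minimalPrimes Γ(S, V),
      closure ({hV.fromSpec ⟨P.1, P.2.1.1⟩} : Set S) ∈ irreducibleComponents (S : Type u) := by
    intro P
    have hmax : ∀ z : S, z ⤳ hV.fromSpec ⟨P.1, P.2.1.1⟩ → z = hV.fromSpec ⟨P.1, P.2.1.1⟩ := by
      intro z hz
      have hzr : z ∈ Set.range hV.fromSpec :=
        hz.mem_open hV.fromSpec.isOpenEmbedding.isOpen_range ⟨_, rfl⟩
      obtain ⟨b, rfl⟩ := hzr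
      rw [hV.fromSpec.isOpenEmbedding.isInducing.specializes_iff] at hz
      have hle : b.asIdeal ≤ P.1 := (PrimeSpectrum.le_iff_specializes b ⟨P.1, P.2.1.1⟩).mpr hz
      have : b = ⟨P.1, P.2.1.1⟩ := PrimeSpectrum.ext (le_antisymm hle (P.2.2 ⟨b.2, bot_le⟩ hle))
      rw [this]
    refine ⟨isIrreducible_singleton.closure, ?_⟩
    intro Z hZ hle
    have hZc : IsIrreducible (closure Z) := hZ.closure
    obtain ⟨ζ, hζ⟩ := QuasiSober.sober hZc isClosed_closure
    have h1 : ζ ⤳ hV.fromSpec ⟨P.1, P.2.1.1⟩ := by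
      rw [specializes_iff_mem_closure, hζ.def]
      exact subset_closure (hle (subset_closure rfl))
    have h2 := hmax ζ h1
    rw [h2] at hζ
    rw [hζ.def]
    exact subset_closure
  let g : minimalPrimes Γ(S, V) → irreducibleComponents (S : Type u) := fun P => ⟨_, hcomp P⟩
  have hg : Function.Injective g := by
    intro P Q hPQ
    have h1 : closure ({hV.fromSpec ⟨P.1, P.2.1.1⟩} : Set S) =
        closure ({hV.fromSpec ⟨Q.1, Q.2.1.1⟩} : Set S) := congrArg Subtype.val hPQ
    have h2 : hV.fromSpec ⟨P.1, P.2.1.1⟩ = hV.fromSpec ⟨Q.1, Q.2.1.1⟩ := by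
      have hi : Inseparable (hV.fromSpec ⟨P.1, P.2.1.1⟩) (hV.fromSpec ⟨Q.1, Q.2.1.1⟩) :=
        inseparable_iff_closure_eq.mpr h1
      exact hi.eq
    have h3 := hV.fromSpec.isOpenEmbedding.injective h2
    exact Subtype.ext (congrArg PrimeSpectrum.asIdeal h3)
  exact Set.finite_coe_iff.mp (Finite.of_injective g hg)

theorem exists_openImmersion_nhd {X S : Scheme.{u}} (f : X ⟶ S)
    [LocallyOfFiniteType f] [IsReduced S] (hS : (irreducibleComponents (S : Type u)).Finite)
    (x : X) (hx : IsIso (f.stalkMap x)) :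
    ∃ U : X.Opens, x ∈ U ∧ IsOpenImmersion (U.ι ≫ f) := by
  have hbij : Function.Bijective (f.stalkMap x) := ConcreteCategory.bijective_of_isIso _
  obtain ⟨U₁, V₁, h, hxU₁, hU₁, hV₁, hcl⟩ := exists_closedImmersion_nhd f x hbij.2
  haveI : IsAffine U₁.toScheme := hU₁
  haveI : IsAffine V₁.toScheme := hV₁
  let ψ := (f.appLE V₁ U₁ h).hom
  -- surjectivity on sections
  have hψs : Function.Surjective ψ := by
    have h1 := (IsClosedImmersion.isAffine_surjective_of_isAffine (f.resLE V₁ U₁ h)).2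
    rw [Scheme.Hom.appTop, Scheme.Hom.resLE_app_top] at h1
    intro b
    obtain ⟨w, hw⟩ := h1 (U₁.topIso.inv b)
    refine ⟨V₁.topIso.hom w, ?_⟩
    simp only [CommRingCat.comp_apply] at hw
    exact (ConcreteCategory.bijective_of_isIso U₁.topIso.inv).1 hw
  have hfin := finite_minimalPrimes_of_finite_irreducibleComponents S hS hV₁
  haveI := (hV₁.primeIdealOf ⟨f x, h hxU₁⟩).isPrime
  obtain ⟨h₀, hh₀, hkill⟩ := exists_kill_of_finite_minimalPrimes hfin
    (hV₁.primeIdealOf ⟨f x, h hxU₁⟩).asIdeal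
  have hkill' : ∀ k : Γ(S, V₁), ψ k = 0 → h₀ * k = 0 := by
    intro k hk
    haveI := hV₁.isLocalization_stalk ⟨f x, h hxU₁⟩
    letI := TopCat.Presheaf.algebra_section_stalk S.presheaf (⟨f x, h hxU₁⟩ : V₁)
    have h1 : f.stalkMap x (S.presheaf.germ V₁ (f x) (h hxU₁) k) = 0 := by
      rw [stalkMap_germ_appLE f V₁ U₁ h x hxU₁]
      show X.presheaf.germ U₁ x hxU₁ (ψ k) = 0
      rw [hk, map_zero]
    have h2 : S.presheaf.germ V₁ (f x) (h hxU₁) k = 0 := hbij.1 (by rw [h1, map_zero])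
    have h3 : algebraMap Γ(S, V₁) (S.presheaf.stalk (f x)) k = 0 := h2
    obtain ⟨u, hu⟩ := (IsLocalization.map_eq_zero_iff
      (hV₁.primeIdealOf ⟨f x, h hxU₁⟩).asIdeal.primeCompl (S.presheaf.stalk (f x)) _).mp h3
    exact hkill k u.1 u.2 hu
  -- the smaller opens
  have hfxV₂ : f x ∈ S.basicOpen h₀ := by
    by_contra hcon
    exact hh₀ ((mem_primeIdealOf_iff hV₁ (f x) (h hxU₁) _).mpr hcon)
  have hU₂eq : X.basicOpen (ψ h₀) = U₁ ⊓ f ⁻¹ᵁ (S.basicOpen h₀) := by
    show X.basicOpen ((f.appLE V₁ U₁ h) h₀) = _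
    simp only [Scheme.Hom.appLE, CommRingCat.comp_apply]
    rw [Scheme.basicOpen_res, Scheme.preimage_basicOpen]
  have hUV₂ : X.basicOpen (ψ h₀) ≤ f ⁻¹ᵁ (S.basicOpen h₀) := by
    rw [hU₂eq]; exact inf_le_right
  have hxU₂ : x ∈ X.basicOpen (ψ h₀) := by
    rw [hU₂eq]; exact ⟨hxU₁, hfxV₂⟩
  refine ⟨X.basicOpen (ψ h₀), hxU₂, ?_⟩
  haveI : IsAffine (X.basicOpen (ψ h₀)).toScheme := hU₁.basicOpen _
  haveI : IsAffine (S.basicOpen h₀).toScheme := hV₁.basicOpen _
  haveI := hV₁.isLocalization_basicOpen h₀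
  haveI := hU₁.isLocalization_basicOpen (ψ h₀)
  have hbij₂ : Function.Bijective (f.appLE (S.basicOpen h₀) (X.basicOpen (ψ h₀)) hUV₂).hom := by
    refine bijective_of_kill ψ hψs h₀ hkill' _ ?_
    rw [RingHom.algebraMap_toAlgebra, RingHom.algebraMap_toAlgebra, ← CommRingCat.hom_comp,
      ← CommRingCat.hom_comp, Scheme.Hom.map_appLE, Scheme.Hom.appLE_map]
  have hiso₁ : IsIso (f.appLE (S.basicOpen h₀) (X.basicOpen (ψ h₀)) hUV₂) :=
    (ConcreteCategory.isIso_iff_bijective _).mpr hbij₂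
  have hiso₂ : IsIso ((f.resLE (S.basicOpen h₀) (X.basicOpen (ψ h₀)) hUV₂).appTop) := by
    rw [Scheme.Hom.appTop, Scheme.Hom.resLE_app_top]
    infer_instance
  have hiso₃ : IsIso (f.resLE (S.basicOpen h₀) (X.basicOpen (ψ h₀)) hUV₂) := by
    have := (MorphismProperty.arrow_mk_iso_iff (MorphismProperty.isomorphisms Scheme)
      (arrowIsoSpecΓOfIsAffine (f.resLE (S.basicOpen h₀) (X.basicOpen (ψ h₀)) hUV₂))).mpr
      (inferInstanceAs (IsIso (Spec.map
        (f.resLE (S.basicOpen h₀) (X.basicOpen (ψ h₀)) hUV₂).appTop)))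
    exact this
  rw [← Scheme.Hom.resLE_comp_ι f hUV₂]
  infer_instance

end Groth.Agent.Lib.helper4.LocImm
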