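import Mathlib
import Groth.Agent.Lib.Helper16.LocImm

/-!
# Localizing morphisms: injectivity criterion (helper4)

* `exists_open_mono_of_isLocalizing`: a localizing morphism is locally on the source a mono.
* `exists_maximal_generization`: every point of a scheme has a maximal generization.
* `mem_range_diagonal_of_mono`: a point of `X ×_Y X` whose two projections agree and lie in an
  open `V` with `V.ι ≫ f` mono is in the range of the diagonal.
* `injective_of_isSeparated_of_injOn`: localizing + separated + injective on maximal points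
  implies injective.
-/

set_option backward.isDefEq.respectTransparency false
set_option autoImplicit false
set_option linter.style.haveILetI false

universe u

open CategoryTheory AlgebraicGeometry CategoryTheory.Limits

namespace Groth.Agent.Lib.helper4.LocImmInj

open _root_.LocImm Groth.Agent.Lib.helper16.LocImm

/-- A localizing morphism is, locally on the source, a monomorphism. -/
theorem exists_open_mono_of_isLocalizing {X Y : Scheme.{u}} (f : X ⟶ Y) (hf : IsLocalizing f)
    (x : X) : ∃ V : X.Opens, x ∈ V ∧ Mono (V.ι ≫ f) := by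
  obtain ⟨U, V, hxV, e, hφ⟩ := hf x
  refine ⟨V.1, hxV, ?_⟩
  have hepi := isLocHom_epi _ hφ
  have hVaff : IsAffine V.1.toScheme := V.2
  have hepi' : Epi (f.resLE U.1 V.1 e).appTop := by
    have := (MorphismProperty.epimorphisms CommRingCat).arrow_mk_iso_iff
      (arrowResLEAppIso f U.1 V.1 e)
    exact this.mpr hepi
  have hmono : Mono (f.resLE U.1 V.1 e) := by
    constructor
    intro T g h hgh
    apply ext_of_isAffine
    have key2 := congrArg Scheme.Hom.appTop hgh
    simp only [Scheme.Hom.comp_appTop] at key2
    exact (cancel_epi _).mp key2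
  rw [← Scheme.Hom.resLE_comp_ι f e]
  infer_instance

/-- Every point of a scheme has a generization that is a maximal point. -/
theorem exists_maximal_generization {X : Type*} [TopologicalSpace X] [QuasiSober X] [T0Space X]
    (z : X) : ∃ η : X, η ⤳ z ∧ ∀ η' : X, η' ⤳ η → η' = η := by
  have hirr := isIrreducible_irreducibleComponent (x := z)
  have hcl := isClosed_irreducibleComponent (x := z)
  have hgp := hirr.isGenericPoint_genericPoint hcl
  refine ⟨hirr.genericPoint, hgp.specializes mem_irreducibleComponent, ?_⟩
  intro η' hη'
  -- closure {η'} ⊇ component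
  have h1 : irreducibleComponent z ⊆ closure {η'} := by
    rw [← hgp.def]
    exact specializes_iff_closure_subset.mp hη'
  have hmax : Maximal IsIrreducible (irreducibleComponent z) :=
    irreducibleComponent_mem_irreducibleComponents z
  have h2 : closure {η'} ⊆ irreducibleComponent z :=
    hmax.le_of_ge isIrreducible_singleton.closure h1
  have h3 : hirr.genericPoint ⤳ η' := by
    rw [specializes_iff_closure_subset, hgp.def]
    exact h2
  exact (hη'.antisymm h3).eq

/-- A point of `X ×_Y X` with both projections in an open `V` such that `V.ι ≫ f` is a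
monomorphism lies in the range of the diagonal. -/
theorem mem_range_diagonal_of_mono {X Y : Scheme.{u}} (f : X ⟶ Y) (V : X.Opens)
    [Mono (V.ι ≫ f)] (z : ↥(pullback f f)) (h1 : pullback.fst f f z ∈ V)
    (h2 : pullback.snd f f z ∈ V) : z ∈ Set.range (pullback.diagonal f) := by
  have hz : z ∈ Set.range (pullback.map (V.ι ≫ f) (V.ι ≫ f) f f V.ι V.ι (𝟙 Y)
      (by simp) (by simp)) := by
    rw [Scheme.Pullback.range_map]
    refine ⟨?_, ?_⟩ <;> simpa
  obtain ⟨w, rfl⟩ := hz
  have heq : pullback.map (V.ι ≫ f) (V.ι ≫ f) f f V.ι V.ι (𝟙 Y) (by simp) (by simp) =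
      pullback.fst (V.ι ≫ f) (V.ι ≫ f) ≫ V.ι ≫ pullback.diagonal f := by
    apply pullback.hom_ext
    · simp
    · simp [fst_eq_snd_of_mono_eq (V.ι ≫ f)]
  rw [heq]
  exact ⟨_, (Scheme.Hom.comp_apply _ _ _).symm⟩

/-- A localizing, separated morphism which is injective on maximal points is injective. -/
theorem injective_of_isSeparated_of_injOn {X Y : Scheme.{u}} (f : X ⟶ Y) (hf : IsLocalizing f)
    [IsSeparated f]
    (hinj : Set.InjOn (fun x => f x) {x : X | ∀ x' : X, x' ⤳ x → x' = x}) :
    Function.Injective f.base := by
  have hfl : Flat f := flat_of_isLocalizing f hf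
  have hcl : IsClosed (Set.range (pullback.diagonal f)) :=
    (pullback.diagonal f).isClosedEmbedding.isClosed_range
  have hsurj : ∀ z : ↥(pullback f f), z ∈ Set.range (pullback.diagonal f) := by
    intro z
    obtain ⟨η, hηz, hmax⟩ := exists_maximal_generization z
    refine hcl.stableUnderSpecialization hηz ?_
    have hg1 : GeneralizingMap (pullback.fst f f) := Flat.generalizingMap _
    have hg2 : GeneralizingMap (pullback.snd f f) := Flat.generalizingMap _
    have hm1 : ∀ x' : X, x' ⤳ pullback.fst f f η → x' = pullback.fst f f η := by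
      intro x' hx'
      obtain ⟨η', hη', rfl⟩ := hg1 hx'
      rw [hmax η' hη']
    have hm2 : ∀ x' : X, x' ⤳ pullback.snd f f η → x' = pullback.snd f f η := by
      intro x' hx'
      obtain ⟨η', hη', rfl⟩ := hg2 hx'
      rw [hmax η' hη']
    have hcond : f (pullback.fst f f η) = f (pullback.snd f f η) := by
      rw [← Scheme.Hom.comp_apply, ← Scheme.Hom.comp_apply, pullback.condition]
    have heq : pullback.fst f f η = pullback.snd f f η := hinj hm1 hm2 hcond
    obtain ⟨V, hV, hmono⟩ := exists_open_mono_of_isLocalizing f hf (pullback.fst f f η)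
    exact mem_range_diagonal_of_mono f V η hV (heq ▸ hV)
  intro x1 x2 h
  obtain ⟨z, hz1, hz2⟩ := Scheme.Pullback.exists_preimage_pullback (f := f) (g := f) x1 x2 h
  obtain ⟨x, rfl⟩ := hsurj z
  rw [← hz1, ← hz2, ← Scheme.Hom.comp_apply, ← Scheme.Hom.comp_apply]
  simp

end Groth.Agent.Lib.helper4.LocImmInj
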