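import Mathlib
import Groth.Agent.Lib.Helper4.LocImm
import Groth.Agent.Lib.Helper4.LocImmInj
import Groth.Agent.Lib.Helper16.LocImm2
import Groth.Prelude.Def_EssFT

/-!
# Spreading out a local isomorphism of an essentially finite type map to a localizing map (helper4)

* `exists_isLocHom_away`: `φ : A → B` essentially of finite type, `A` Noetherian, `q` a prime of `B`
  with `A_p → B_q` bijective (elementwise form). Then there is `b ∉ q` with `A → B_b` localizing.
-/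

set_option backward.isDefEq.respectTransparency false
set_option autoImplicit false
set_option linter.style.haveILetI false

universe u

open CategoryTheory AlgebraicGeometry CategoryTheory.Limits

namespace Groth.Agent.Lib.helper4.LocImmNhd

open _root_.LocImm Groth.Agent.Lib.helper16.LocImm Groth.Agent.Lib.helper4.LocImm

theorem exists_isLocHom_away {A B : Type u} [CommRing A] [CommRing B] [IsNoetherianRing A]
    (φ : A →+* B) (hφ : φ.EssFiniteType) (q : Ideal B) [hq : q.IsPrime]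
    (Hs : ∀ b : B, ∃ a t : A, ∃ u : B, φ t ∉ q ∧ u ∉ q ∧ u * (φ t * b - φ a) = 0)
    (Hi : ∀ a : A, (∃ u : B, u ∉ q ∧ u * φ a = 0) → ∃ t : A, φ t ∉ q ∧ t * a = 0) :
    ∃ b : B, b ∉ q ∧ ∀ (B' : Type u) [CommRing B'] [Algebra B B'] [IsLocalization.Away b B'],
      IsLocHom ((algebraMap B B').comp φ) := by
  classical
  letI := φ.toAlgebra
  have hφ' : Algebra.EssFiniteType A B := hφ
  obtain ⟨σ, hσ⟩ := (Algebra.essFiniteType_iff A B).mp hφ'
  let C : Subalgebra A B := Algebra.adjoin A (σ : Set B)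
  have hFT : Algebra.FiniteType A C := by
    constructor
    rw [Subalgebra.fg_top]
    exact ⟨_, rfl⟩
  let φC : A →+* C := algebraMap A C
  have hφC : ∀ a : A, ((φC a : C) : B) = φ a := fun a => rfl
  let q' : Ideal C := q.comap (algebraMap C B)
  haveI hq' : q'.IsPrime := Ideal.comap_isPrime _ _
  have hmemq' : ∀ c : C, c ∈ q' ↔ (c : B) ∈ q := fun c => Iff.rfl
  have hunit_notMem : ∀ τ : B, IsUnit τ → τ ∉ q := fun τ hτ h =>
    hq.ne_top (Ideal.eq_top_of_isUnit_mem _ h hτ)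
  have Hs' : ∀ c : C, ∃ a t : A, ∃ u' : C, φC t ∉ q' ∧ u' ∉ q' ∧
      u' * (φC t * c - φC a) = 0 := by
    intro c
    obtain ⟨a, t, u, ht, hu, h⟩ := Hs c
    obtain ⟨τ, hτC, hτu, huτ⟩ := hσ u
    refine ⟨a, t, ⟨u * τ, huτ⟩, ?_, ?_, ?_⟩
    · rw [hmemq', hφC]; exact ht
    · rw [hmemq']
      intro hmem
      rcases hq.mem_or_mem hmem with h1 | h1
      · exact hu h1
      · exact hunit_notMem τ hτu h1
    · apply Subtype.ext
      simp only [MulMemClass.coe_mul, AddSubgroupClass.coe_sub, hφC, ZeroMemClass.coe_zero]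
      rw [mul_comm u τ, mul_assoc, h, mul_zero]
  obtain ⟨t₀, u₀, ht₀, hu₀, E1, -⟩ := exists_spread_surjective φC hFT q' Hs'
  -- transfer E1 to B
  have E1' : ∀ c : C, ∃ (a : A) (n m : ℕ),
      (φ t₀ * (u₀ : B)) ^ m * (φ t₀ ^ n * (c : B) - φ a) = 0 := by
    intro c
    obtain ⟨a, n, m, h⟩ := E1 c
    refine ⟨a, n, m, ?_⟩
    have := congrArg (fun x : C => (x : B)) h
    simpa [hφC] using this
  let b₀ : B := φ t₀ * (u₀ : B)
  have hb₀ : b₀ ∉ q := by
    intro h
    rcases hq.mem_or_mem h with h1 | h1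
    · exact ht₀ ((hmemq' _).mpr (by rw [hφC]; exact h1))
    · exact hu₀ h1
  -- the ideal of elements killed by a power of b₀
  let I : Ideal A := RingHom.ker ((algebraMap B (Localization.Away b₀)).comp φ)
  have hI : ∀ a : A, a ∈ I ↔ ∃ n : ℕ, b₀ ^ n * φ a = 0 := by
    intro a
    rw [RingHom.mem_ker, RingHom.comp_apply,
      IsLocalization.map_eq_zero_iff (Submonoid.powers b₀) (Localization.Away b₀)]
    constructor
    · rintro ⟨⟨_, n, rfl⟩, h⟩
      exact ⟨n, h⟩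
    · rintro ⟨n, h⟩
      exact ⟨⟨_, n, rfl⟩, h⟩
  obtain ⟨G, hG⟩ := (IsNoetherian.noetherian I : I.FG)
  have hGt : ∀ g ∈ G, ∃ t : A, φ t ∉ q ∧ t * g = 0 := by
    intro g hg
    have hgI : g ∈ I := hG ▸ Ideal.subset_span hg
    obtain ⟨n, hn⟩ := (hI g).mp hgI
    exact Hi g ⟨b₀ ^ n, fun h => hb₀ (hq.mem_of_pow_mem n h), hn⟩
  choose! tg htg1 htg2 using hGt
  let t₁ : A := ∏ g ∈ G, tg g
  have ht₁ : φ t₁ ∉ q := by
    rw [map_prod]
    intro h
    obtain ⟨g, hg, hgq⟩ := Ideal.IsPrime.prod_mem_iff.mp h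
    exact htg1 g hg hgq
  have ht₁I : ∀ a ∈ I, t₁ * a = 0 := by
    intro a ha
    rw [← hG] at ha
    refine Submodule.span_induction ?_ ?_ ?_ ?_ ha
    · intro g hg
      show (∏ g ∈ G, tg g) * g = 0
      rw [← Finset.mul_prod_erase G tg hg, mul_comm (tg g), mul_assoc, htg2 g hg, mul_zero]
    · simp
    · intro x y _ _ hx hy
      rw [mul_add, hx, hy, add_zero]
    · intro r x _ hx
      rw [smul_eq_mul, mul_left_comm, hx, mul_zero]
  refine ⟨b₀ * φ t₁, fun h => (hq.mem_or_mem h).elim hb₀ ht₁, ?_⟩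
  intro B' _ _ hAway
  obtain ⟨b, hb⟩ : ∃ b : B, b = b₀ * φ t₁ := ⟨_, rfl⟩
  rw [← hb] at hAway
  let ι : B →+* B' := algebraMap B B'
  let χ : A →+* B' := ι.comp φ
  have hχ : ∀ a, χ a = ι (φ a) := fun a => rfl
  have hub : IsUnit (ι b) := IsLocalization.Away.algebraMap_isUnit b
  have hub₀ : IsUnit (ι b₀) := by
    rw [hb, map_mul] at hub
    exact isUnit_of_mul_isUnit_left hub
  have hut₁ : IsUnit (χ t₁) := by
    rw [hb, map_mul] at hub
    exact isUnit_of_mul_isUnit_right hub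
  have hut₀ : IsUnit (χ t₀) := by
    have : ι b₀ = χ t₀ * ι (u₀ : B) := by simp [b₀, χ]
    rw [this] at hub₀
    exact isUnit_of_mul_isUnit_left hub₀
  -- E1 in B'
  have E1'' : ∀ c : C, ∃ (a : A) (n : ℕ), χ t₀ ^ n * ι (c : B) = χ a := by
    intro c
    obtain ⟨a, n, m, h⟩ := E1' c
    refine ⟨a, n, ?_⟩
    have h2 := congrArg ι h
    simp only [map_mul, map_pow, map_sub, map_zero] at h2
    have hu' : IsUnit (ι (φ t₀) * ι (u₀ : B)) := by simpa [b₀] using hub₀
    have h3 := (hu'.pow m).mul_right_eq_zero.mp h2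
    exact sub_eq_zero.mp h3
  unfold IsLocHom
  letI := χ.toAlgebra
  have halg : ∀ a : A, algebraMap A B' a = χ a := fun a => rfl
  refine ⟨(IsUnit.submonoid B').comap χ, ?_⟩
  rw [isLocalization_iff]
  refine ⟨fun y => y.2, ?_, ?_⟩
  · intro z
    obtain ⟨n, β, hz⟩ := IsLocalization.Away.surj b z
    obtain ⟨τ, hτC, hτu, hβτ⟩ := hσ β
    obtain ⟨a_c, n_c, hc⟩ := E1'' ⟨β * τ, hβτ⟩
    obtain ⟨a_τ, n_τ, hτ⟩ := E1'' ⟨τ, hτC⟩
    have hbC : b ∈ C := by
      rw [hb]
      refine C.mul_mem (C.mul_mem ?_ u₀.2) ?_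
      · exact C.algebraMap_mem t₀
      · exact C.algebraMap_mem t₁
    obtain ⟨a_b, n_b, hbb⟩ := E1'' ⟨b, hbC⟩
    simp only at hc hτ hbb
    have hu1 : IsUnit (χ a_b) := by
      rw [← hbb]; exact (hut₀.pow _).mul hub
    have hu2 : IsUnit (χ a_τ) := by
      rw [← hτ]; exact (hut₀.pow _).mul (hτu.map ι)
    refine ⟨⟨a_c * t₀ ^ (n_b * n + n_τ), ⟨a_b ^ n * a_τ * t₀ ^ n_c, ?_⟩⟩, ?_⟩
    · show IsUnit (χ _)
      rw [map_mul, map_mul, map_pow, map_pow]
      exact ((hu1.pow _).mul hu2).mul (hut₀.pow _)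
    · show z * χ (a_b ^ n * a_τ * t₀ ^ n_c) = χ (a_c * t₀ ^ (n_b * n + n_τ))
      rw [map_mul χ, map_mul χ, map_mul χ, map_pow χ, map_pow χ, map_pow χ,
        ← hbb, ← hτ, ← hc, map_mul ι, ← show z * ι b ^ n = ι β from hz]
      ring
  · intro x y hxy
    rw [halg, halg] at hxy
    have h0 : ι (φ (x - y)) = 0 := by
      rw [map_sub, map_sub, sub_eq_zero]; exact hxy
    obtain ⟨⟨_, n, rfl⟩, hn⟩ := (IsLocalization.map_eq_zero_iff (Submonoid.powers b) B' _).mp h0
    have hn' : b₀ ^ n * φ (t₁ ^ n * (x - y)) = 0 := by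
      have : b₀ ^ n * φ (t₁ ^ n * (x - y)) = b ^ n * φ (x - y) := by
        rw [hb, mul_pow, map_mul, map_pow]; ring
      rw [this]; exact hn
    have h1 : t₁ ^ n * (x - y) ∈ I := (hI _).mpr ⟨n, hn'⟩
    have h2 := ht₁I _ h1
    refine ⟨⟨t₁ ^ (n + 1), ?_⟩, ?_⟩
    · show IsUnit (χ _)
      rw [map_pow]; exact hut₁.pow _
    · show t₁ ^ (n + 1) * x = t₁ ^ (n + 1) * y
      rw [← sub_eq_zero, ← mul_sub, pow_succ', mul_assoc]
      exact h2

/-- `P'` (localizing) is stable under postcomposition with open immersions. -/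
theorem P'_respects_isOpenImmersion : (P' : MorphismProperty Scheme.{u}).Respects @IsOpenImmersion :=
  HasRingHomProperty.respects_isOpenImmersion (P := P')
    (RingHom.locally_stableUnderCompositionWithLocalizationAwaySource
      Q_stableUnderCompositionWithLocalizationAway.left)

/-- If `g` is locally essentially of finite type, the target is locally Noetherian and the stalk
map of `g` at `y` is bijective, then `g` is localizing on an open neighbourhood of `y`. -/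
theorem exists_open_localizing_of_bijective_stalkMap {Y₁ Y₂ : Scheme.{u}}
    [IsLocallyNoetherian Y₂] (g : Y₁ ⟶ Y₂) [EssFT.LocallyEssFiniteType g] (y : Y₁)
    (hbij : Function.Bijective (g.stalkMap y)) :
    ∃ W : Y₁.Opens, y ∈ W ∧ P' (W.ι ≫ g) := by
  obtain ⟨U₂, V₁, hy, e, hess⟩ :=
    EssFT.LocallyEssFiniteType.exists_appLE_essFiniteType (f := g) y
  haveI : IsNoetherianRing Γ(Y₂, U₂.1) := IsLocallyNoetherian.component_noetherian U₂
  let φ := (g.appLE U₂.1 V₁.1 e).hom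
  haveI := (V₁.2.primeIdealOf ⟨y, hy⟩).isPrime
  have Hs := fun b => hyp_of_stalkMap_surjective g U₂.2 V₁.2 e y hy hbij.2 b
  have Hi : ∀ a : Γ(Y₂, U₂.1), (∃ u : Γ(Y₁, V₁.1), u ∉ (V₁.2.primeIdealOf ⟨y, hy⟩).asIdeal ∧
      u * φ a = 0) → ∃ t : Γ(Y₂, U₂.1), φ t ∉ (V₁.2.primeIdealOf ⟨y, hy⟩).asIdeal ∧ t * a = 0 := by
    rintro a ⟨u, hu, hua⟩
    haveI hlocY := U₂.2.isLocalization_stalk ⟨g y, e hy⟩
    letI := TopCat.Presheaf.algebra_section_stalk Y₂.presheaf (⟨g y, e hy⟩ : U₂.1)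
    haveI hlocX := V₁.2.isLocalization_stalk ⟨y, hy⟩
    letI := TopCat.Presheaf.algebra_section_stalk Y₁.presheaf (⟨y, hy⟩ : V₁.1)
    have hu' : IsUnit (Y₁.presheaf.germ V₁.1 y hy u) :=
      (IsLocalization.AtPrime.isUnit_to_map_iff (Y₁.presheaf.stalk y)
        (V₁.2.primeIdealOf ⟨y, hy⟩).asIdeal u).mpr hu
    have h1 : Y₁.presheaf.germ V₁.1 y hy (φ a) = 0 := by
      have := congrArg (Y₁.presheaf.germ V₁.1 y hy) hua
      rw [map_mul, map_zero] at this
      exact hu'.mul_right_eq_zero.mp this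
    have h1' : g.stalkMap y (Y₂.presheaf.germ U₂.1 (g y) (e hy) a) = 0 := by
      rw [stalkMap_germ_appLE g U₂.1 V₁.1 e y hy]; exact h1
    have h2 : Y₂.presheaf.germ U₂.1 (g y) (e hy) a = 0 := hbij.1 (by rw [h1', map_zero])
    have h2' : algebraMap Γ(Y₂, U₂.1) (Y₂.presheaf.stalk (g y)) a = 0 := h2
    obtain ⟨t, ht⟩ := (IsLocalization.map_eq_zero_iff
      (U₂.2.primeIdealOf ⟨g y, e hy⟩).asIdeal.primeCompl (Y₂.presheaf.stalk (g y)) a).mp h2'
    refine ⟨t.1, ?_, ht⟩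
    have htunit : IsUnit (Y₂.presheaf.germ U₂.1 (g y) (e hy) t.1) :=
      IsLocalization.map_units (M := (U₂.2.primeIdealOf ⟨g y, e hy⟩).asIdeal.primeCompl)
        (Y₂.presheaf.stalk (g y)) t
    have h4 : IsUnit (Y₁.presheaf.germ V₁.1 y hy (φ t.1)) := by
      have := htunit.map (g.stalkMap y).hom
      rwa [show (g.stalkMap y).hom (Y₂.presheaf.germ U₂.1 (g y) (e hy) t.1) =
        Y₁.presheaf.germ V₁.1 y hy (φ t.1) from stalkMap_germ_appLE g U₂.1 V₁.1 e y hy t.1] at this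
    have h5 : IsUnit (algebraMap Γ(Y₁, V₁.1) (Y₁.presheaf.stalk y) (φ t.1)) := h4
    exact (IsLocalization.AtPrime.isUnit_to_map_iff (Y₁.presheaf.stalk y)
      (V₁.2.primeIdealOf ⟨y, hy⟩).asIdeal _).mp h5
  obtain ⟨b, hbq, hloc⟩ := exists_isLocHom_away φ hess (V₁.2.primeIdealOf ⟨y, hy⟩).asIdeal Hs Hi
  have hyW : y ∈ Y₁.basicOpen b := by
    by_contra hcon
    exact hbq ((mem_primeIdealOf_iff V₁.2 y hy _).mpr hcon)
  have e' : Y₁.basicOpen b ≤ g ⁻¹ᵁ U₂.1 := (Y₁.basicOpen_le b).trans e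
  refine ⟨Y₁.basicOpen b, hyW, ?_⟩
  rw [← Scheme.Hom.resLE_comp_ι g e']
  refine P'_respects_isOpenImmersion.postcomp (Q := @IsOpenImmersion) _ inferInstance _ ?_
  haveI : IsAffine (Y₁.basicOpen b).toScheme := V₁.2.basicOpen b
  haveI : IsAffine U₂.1.toScheme := U₂.2
  rw [HasRingHomProperty.iff_of_isAffine (P := P')]
  apply RingHom.locally_of Q_respectsIso
  rw [Scheme.Hom.appTop, Scheme.Hom.resLE_app_top]
  have hQ : Q (g.appLE U₂.1 (Y₁.basicOpen b) e').hom := by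
    haveI := V₁.2.isLocalization_basicOpen b
    have := hloc Γ(Y₁, Y₁.basicOpen b)
    rw [RingHom.algebraMap_toAlgebra, ← CommRingCat.hom_comp, Scheme.Hom.appLE_map] at this
    exact this
  have h1 := (Q_respectsIso.cancel_right_isIso (g.appLE U₂.1 (Y₁.basicOpen b) e')
    (Y₁.basicOpen b).topIso.inv).mpr hQ
  have h2 := (Q_respectsIso.cancel_left_isIso U₂.1.topIso.hom
    (g.appLE U₂.1 (Y₁.basicOpen b) e' ≫ (Y₁.basicOpen b).topIso.inv)).mpr
      (by rw [CommRingCat.hom_comp]; exact h1)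
  rw [CommRingCat.hom_comp]
  exact h2

/-- In a Noetherian sober space, given a set `R` stable under generization and an open `U₀ ⊇ R`,
there is an open `R ⊆ U ⊆ U₀` all of whose maximal points lie in `R`. -/
theorem exists_open_maximalPoints_subset {Y : Type*} [TopologicalSpace Y]
    [TopologicalSpace.NoetherianSpace Y] [QuasiSober Y] [T0Space Y]
    (R : Set Y) (hR : StableUnderGeneralization R) (U₀ : Set Y) (hU₀ : IsOpen U₀) (hRU : R ⊆ U₀) :
    ∃ U : Set Y, IsOpen U ∧ R ⊆ U ∧ U ⊆ U₀ ∧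
      ∀ η ∈ U, (∀ η' : Y, η' ⤳ η → η' = η) → η ∈ R := by
  let M : Set Y := {η | (∀ η' : Y, η' ⤳ η → η' = η) ∧ η ∉ R}
  have hMfin : M.Finite := by
    refine Set.Finite.of_injOn (f := fun η => closure {η}) (t := irreducibleComponents Y) ?_ ?_
      TopologicalSpace.NoetherianSpace.finite_irreducibleComponents
    · rintro η ⟨hη, -⟩
      show Maximal IsIrreducible (closure {η})
      refine ⟨isIrreducible_singleton.closure, ?_⟩
      intro s hs hle
      have hgp := hs.closure.isGenericPoint_genericPoint isClosed_closure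
      have h1 : η ∈ closure s := subset_closure.trans (closure_mono hle) (subset_closure rfl)
      have h2 : hs.closure.genericPoint ⤳ η := hgp.specializes h1
      have h3 := hη _ h2
      calc s ⊆ closure s := subset_closure
        _ = closure {hs.closure.genericPoint} := hgp.def.symm
        _ = closure {η} := by rw [h3]
    · rintro η - η' - h
      exact (inseparable_iff_closure_eq.mpr h).eq
  let Z : Set Y := ⋃ η ∈ M, closure {η}
  have hZ : IsClosed Z := hMfin.isClosed_biUnion fun _ _ => isClosed_closure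
  refine ⟨U₀ ∩ Zᶜ, hU₀.inter hZ.isOpen_compl, ?_, Set.inter_subset_left, ?_⟩
  · intro r hr
    refine ⟨hRU hr, ?_⟩
    intro hrZ
    obtain ⟨η, hηM, hrη⟩ := Set.mem_iUnion₂.mp hrZ
    have : η ⤳ r := specializes_iff_mem_closure.mpr hrη
    exact hηM.2 (hR this hr)
  · rintro η ⟨-, hηZ⟩ hmax
    by_contra hηR
    exact hηZ (Set.mem_iUnion₂.mpr ⟨η, ⟨hmax, hηR⟩, subset_closure rfl⟩)

/-- Nayak-type neighbourhood lemma: given localizing immersions `f₁ : X ⟶ Y₁`, `f₁ ≫ g` with `g`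
separated and essentially of finite type (Noetherian schemes), `g` restricts to a localizing
immersion on an open neighbourhood of the image of `f₁`. -/
theorem exists_open_isLocImmersion {X Y₁ Y₂ : Scheme.{u}} [IsNoetherian Y₁] [IsLocallyNoetherian Y₂]
    (f₁ : X ⟶ Y₁) (g : Y₁ ⟶ Y₂) (hf₁ : IsLocImmersion f₁) (hf₂ : IsLocImmersion (f₁ ≫ g))
    [IsSeparated g] [EssFT.LocallyEssFiniteType g] :
    ∃ U : Y₁.Opens, Set.range (fun x => f₁ x) ⊆ (U : Set Y₁) ∧ IsLocImmersion (U.ι ≫ g) := by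
  have hflat : Flat f₁ := flat_of_isLocalizing f₁ hf₁.1
  have hst : ∀ x : X, Function.Bijective (g.stalkMap (f₁ x)) := by
    intro x
    have h1 := isIso_stalkMap_of_isLocImmersion f₁ hf₁ x
    have h2 := isIso_stalkMap_of_isLocImmersion (f₁ ≫ g) hf₂ x
    rw [Scheme.Hom.stalkMap_comp] at h2
    have h3 : IsIso (g.stalkMap (f₁ x)) := IsIso.of_isIso_comp_right _ (f₁.stalkMap x)
    exact (ConcreteCategory.isIso_iff_bijective _).mp h3
  choose W hW1 hW2 using fun x => exists_open_localizing_of_bijective_stalkMap g (f₁ x) (hst x)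
  let U₀ : Y₁.Opens := ⨆ x, W x
  have hU₀ : P' (U₀.ι ≫ g) := by
    apply IsZariskiLocalAtSource.of_openCover (Scheme.Opens.iSupOpenCover W)
    intro x
    have : (Scheme.Opens.iSupOpenCover W).f x ≫ U₀.ι ≫ g = (W x).ι ≫ g := by
      simp [Scheme.Opens.iSupOpenCover, U₀]
    rw [this]
    exact hW2 x
  have hRU₀ : Set.range (fun x => f₁ x) ⊆ (U₀ : Set Y₁) := by
    rintro _ ⟨x, rfl⟩
    exact TopologicalSpace.Opens.mem_iSup.mpr ⟨x, hW1 x⟩
  obtain ⟨U', hU'o, hRU', hU'U₀, hmax⟩ := exists_open_maximalPoints_subset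
    (Set.range (fun x => f₁ x)) (Flat.generalizingMap f₁).stableUnderGeneralization_range
    (U₀ : Set Y₁) U₀.2 hRU₀
  let U : Y₁.Opens := ⟨U', hU'o⟩
  have hle : U ≤ U₀ := hU'U₀
  have hloc : IsLocalizing (U.ι ≫ g) := by
    rw [isLocalizing_iff]
    have : U.ι = Y₁.homOfLE hle ≫ U₀.ι := (Scheme.homOfLE_ι _ _).symm
    rw [this, Category.assoc]
    exact IsZariskiLocalAtSource.comp hU₀ _
  refine ⟨U, hRU', hloc, ?_⟩
  apply Groth.Agent.Lib.helper4.LocImmInj.injective_of_isSeparated_of_injOn (U.ι ≫ g) hloc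
  have key : ∀ u : U.toScheme, (∀ v : U.toScheme, v ⤳ u → v = u) →
      U.ι u ∈ Set.range (fun x => f₁ x) := by
    intro u hu
    apply hmax _ u.2
    intro η' hη'
    have hη'U : η' ∈ U := hη'.mem_open U.2 u.2
    have := hu ⟨η', hη'U⟩ ((subtype_specializes_iff _ _).mpr hη')
    exact congrArg Subtype.val this
  intro u hu u' hu' huu'
  obtain ⟨x, hx⟩ := key u hu
  obtain ⟨x', hx'⟩ := key u' hu'
  have huu'' : g (U.ι u) = g (U.ι u') := by
    simpa using huu'
  rw [← hx, ← hx'] at huu''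
  have hxx' : x = x' := hf₂.2 (by simpa using huu'')
  apply U.ι.injective
  rw [← hx, ← hx', hxx']

end Groth.Agent.Lib.helper4.LocImmNhd
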