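import Mathlib

/-!
# Locally quasi-finite morphisms and the first projection of the self fibre product (helper4)

* `discreteTopology_of_isOpenMap_surjective`: an open surjective image of a discrete space is discrete.
* `locallyQuasiFinite_of_pullback_fst`: if `h : U ⟶ T` is locally of finite type and the first projection
  `U ×_T U ⟶ U` is locally quasi-finite, then `h` is locally quasi-finite.
-/

set_option autoImplicit false
set_option backward.isDefEq.respectTransparency false
set_option backward.isDefEq.respectTransparency.types false

universe u

open CategoryTheory CategoryTheory.Limits AlgebraicGeometry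

namespace Groth.Agent.Lib.helper4.LqfPr1

theorem discreteTopology_of_isOpenMap_surjective {A B : Type*} [TopologicalSpace A] [TopologicalSpace B]
    [DiscreteTopology A] (p : A → B) (hp : IsOpenMap p) (hs : Function.Surjective p) :
    DiscreteTopology B := by
  rw [discreteTopology_iff_isOpen_singleton]
  intro b
  obtain ⟨a, rfl⟩ := hs b
  have := hp {a} (isOpen_discrete _)
  simpa using this

/-- A locally of finite type morphism to the spectrum of a field which becomes locally quasi-finite after
base change to a field extension is locally quasi-finite (stated for the fibre of a morphism). -/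
theorem locallyQuasiFinite_of_pullback_fst {U T : Scheme.{u}} (h : U ⟶ T) [LocallyOfFiniteType h]
    (H : LocallyQuasiFinite (pullback.fst h h)) : LocallyQuasiFinite h := by
  refine LocallyQuasiFinite.of_fiberToSpecResidueField (f := h) fun t => ?_
  have hlft : LocallyOfFiniteType (h.fiberToSpecResidueField t) :=
    MorphismProperty.pullback_snd (P := @LocallyOfFiniteType) _ _ inferInstance
  rw [locallyQuasiFinite_iff_isDiscrete_preimage_singleton]
  suffices hd : DiscreteTopology ↥(h.fiber t) by
    intro x
    exact ⟨inferInstance⟩
  by_cases hne : ∃ u, h u = t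
  swap
  · have : IsEmpty ↥(h.fiber t) := by
      constructor
      intro x
      apply hne
      have : h.fiberι t x ∈ h ⁻¹' {t} := by
        rw [← h.range_fiberι t]; exact ⟨x, rfl⟩
      exact ⟨_, this⟩
    exact ⟨by ext s; simp [Set.eq_empty_of_isEmpty s]⟩
  obtain ⟨u₀, rfl⟩ := hne
  let φ := h.fiberToSpecResidueField (h u₀)
  let ρ : Spec (U.residueField u₀) ⟶ Spec (T.residueField (h u₀)) := Spec.map (h.residueFieldMap u₀)
  let ι₀ := U.fromSpecResidueField u₀
  let ιt := T.fromSpecResidueField (h u₀)
  have hρ : ρ ≫ ιt = ι₀ ≫ h := Scheme.Hom.SpecMap_residueFieldMap_fromSpecResidueField h u₀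
  -- the two basic cartesian squares
  have sqI : IsPullback (h.fiberι (h u₀)) φ h ιt := IsPullback.of_hasPullback h ιt
  have sqII : IsPullback (pullback.fst φ ρ) (pullback.snd φ ρ) φ ρ := IsPullback.of_hasPullback φ ρ
  have sqP : IsPullback (pullback.snd h h) (pullback.fst h h) h h := (IsPullback.of_hasPullback h h).flip
  have hpaste : IsPullback (pullback.fst φ ρ ≫ h.fiberι (h u₀)) (pullback.snd φ ρ) h (ι₀ ≫ h) := by
    rw [← hρ]; exact sqII.paste_horiz sqI
  let l : pullback φ ρ ⟶ pullback h h :=
    pullback.lift (pullback.snd φ ρ ≫ ι₀) (pullback.fst φ ρ ≫ h.fiberι (h u₀))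
      (by rw [Category.assoc, Category.assoc]; exact (by simpa using hpaste.w.symm))
  have hl1 : l ≫ pullback.fst h h = pullback.snd φ ρ ≫ ι₀ := pullback.lift_fst _ _ _
  have hl2 : l ≫ pullback.snd h h = pullback.fst φ ρ ≫ h.fiberι (h u₀) := pullback.lift_snd _ _ _
  have sqL : IsPullback l (pullback.snd φ ρ) (pullback.fst h h) ι₀ := by
    refine IsPullback.of_right ?_ hl1 sqP
    rw [hl2]; exact hpaste
  have hsnd : LocallyQuasiFinite (pullback.snd φ ρ) :=
    MorphismProperty.of_isPullback (P := @LocallyQuasiFinite) sqL H
  -- the base-changed fibre is a discrete space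
  have hdY : DiscreteTopology ↥(pullback φ ρ) := by
    have := (pullback.snd φ ρ).isDiscrete_preimage_singleton
      (IsLocalRing.closedPoint (U.residueField u₀))
    have huniv : (pullback.snd φ ρ) ⁻¹' {IsLocalRing.closedPoint (U.residueField u₀)} = Set.univ := by
      ext y
      simp only [Set.mem_preimage, Set.mem_singleton_iff, Set.mem_univ, iff_true]
      exact Subsingleton.elim _ _
    rw [huniv] at this
    have h2 := this.to_subtype
    exact (Homeomorph.Set.univ _).symm.isEmbedding.discreteTopology
  -- the projection to the fibre is open and surjective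
  have hopen : IsOpenMap (pullback.fst φ ρ) := (pullback.fst φ ρ).isOpenMap
  have hsurj : Function.Surjective (pullback.fst φ ρ) := by
    have : Surjective ρ := by
      constructor
      intro y
      exact ⟨IsLocalRing.closedPoint _, Subsingleton.elim _ _⟩
    exact (inferInstance : Surjective (pullback.fst φ ρ)).surj
  exact discreteTopology_of_isOpenMap_surjective _ hopen hsurj

/-- The same statement for an arbitrary cartesian square. -/
theorem locallyQuasiFinite_of_isPullback_fst {W U T : Scheme.{u}} {fst snd : W ⟶ U} {h : U ⟶ T}
    [LocallyOfFiniteType h] (sq : IsPullback fst snd h h) (H : LocallyQuasiFinite fst) :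
    LocallyQuasiFinite h := by
  apply locallyQuasiFinite_of_pullback_fst h
  have e : pullback.fst h h = sq.isoPullback.inv ≫ fst := by simp
  rw [e]
  infer_instance

end Groth.Agent.Lib.helper4.LqfPr1
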