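import Groth.Agent.Lib.Helper4.DiagBC
set_option autoImplicit false
set_option backward.isDefEq.respectTransparency false
set_option backward.isDefEq.respectTransparency.types false
open CategoryTheory CategoryTheory.Functor CategoryTheory.Limits
universe v₇ u₇ v₆ u₆ v₅ u₅ v₄ u₄ v₃ u₃ v₂ u₂ v u

/-! For a fully faithful `i : 𝒳 ⟶ 𝒳'` and `g : 𝒳' ⟶ 𝒴`, the diagonal of `g ∘ i` is the base change
of the diagonal of `g` along `i × i`. -/

namespace Groth.Agent.Lib.helper4.MonoDiagSq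
open Groth.Agent.FibEquiv Groth.Agent.Lib.helper4.FibPaste Groth.Agent.Lib.helper4.DiagBC FibCat

variable {C : Type u} [Category.{v} C]
  {𝒳 : BasedCategory.{v₂, u₂} C} {𝒳' : BasedCategory.{v₃, u₃} C} {𝒴 : BasedCategory.{v₄, u₄} C}
  (i : 𝒳 ⥤ᵇ 𝒳') (g : 𝒳' ⥤ᵇ 𝒴)

/-- `i × i : 𝒳 ×_𝒴 𝒳 ⟶ 𝒳' ×_𝒴 𝒳'` -/
abbrev ii : fp (BasedFunctor.comp i g) (BasedFunctor.comp i g) ⥤ᵇ fp g g :=
  fpLift (BasedFunctor.comp (fpFst (BasedFunctor.comp i g) (BasedFunctor.comp i g)) i)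
    (BasedFunctor.comp (fpSnd (BasedFunctor.comp i g) (BasedFunctor.comp i g)) i)
    (fpIso (BasedFunctor.comp i g) (BasedFunctor.comp i g))

/-- the comparison functor -/
abbrev cmp : 𝒳 ⥤ᵇ fp (ii i g) (FibCat.diag g) :=
  fpLift (FibCat.diag (BasedFunctor.comp i g)) i (Iso.refl _)

instance cmp_faithful : (cmp i g).toFunctor.Faithful where
  map_injective {x x'} m m' h := by
    have h1 : ((cmp i g).toFunctor.map m).hom.fst.hom.fst =
        ((cmp i g).toFunctor.map m').hom.fst.hom.fst := by rw [h]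
    exact h1

instance cmp_full [i.toFunctor.Faithful] : (cmp i g).toFunctor.Full where
  map_surjective {x x₀} n := by
    let n₁ : x ⟶ x₀ := n.hom.fst.hom.fst
    let n₂ : x ⟶ x₀ := n.hom.fst.hom.snd
    let n' : i.toFunctor.obj x ⟶ i.toFunctor.obj x₀ := n.hom.snd
    have e2 := n.hom.w
    have e3 : i.toFunctor.map n₁ = n' := by
      have := congrArg (fun k => k.hom.fst) e2
      change i.toFunctor.map n₁ ≫ 𝟙 _ = 𝟙 _ ≫ n' at this
      simpa using this
    have e4 : i.toFunctor.map n₂ = n' := by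
      have := congrArg (fun k => k.hom.snd) e2
      change i.toFunctor.map n₂ ≫ 𝟙 _ = 𝟙 _ ≫ n' at this
      simpa using this
    have e5 : n₁ = n₂ := i.toFunctor.map_injective (e3.trans e4.symm)
    refine ⟨n₁, ?_⟩
    apply fp_hom_ext
    · apply fp_hom_ext
      · rfl
      · exact e5
    · exact e3

theorem cmp_isEquivOver [i.toFunctor.Full] [i.toFunctor.Faithful] : IsEquivOver (cmp i g) := by
  apply isEquivOver_of
  intro z
  let b : (fp (BasedFunctor.comp i g) (BasedFunctor.comp i g)).obj := z.obj.fst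
  let x' : 𝒳'.obj := z.obj.snd
  let τ : (ii i g).toFunctor.obj b ≅ (FibCat.diag g).toFunctor.obj x' := z.obj.iso
  let x₁ : 𝒳.obj := b.obj.fst
  let x₂ : 𝒳.obj := b.obj.snd
  let τ₁ : i.toFunctor.obj x₁ ≅ x' := isoFst g g τ
  let τ₂ : i.toFunctor.obj x₂ ≅ x' := isoSnd g g τ
  have hτ : g.toFunctor.map τ₁.hom ≫ 𝟙 _ = b.obj.iso.hom ≫ g.toFunctor.map τ₂.hom := τ.hom.hom.w
  let θ : x₁ ≅ x₂ := i.toFunctor.preimageIso (τ₁ ≪≫ τ₂.symm)
  have hθ : i.toFunctor.map θ.hom = τ₁.hom ≫ τ₂.inv := by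
    simp [θ]
  let ea : (FibCat.diag (BasedFunctor.comp i g)).toFunctor.obj x₁ ≅ b :=
    fpIsoMk (BasedFunctor.comp i g) (BasedFunctor.comp i g) (Iso.refl x₁) θ (by
      change g.toFunctor.map (i.toFunctor.map (𝟙 x₁)) ≫ b.obj.iso.hom =
        𝟙 _ ≫ g.toFunctor.map (i.toFunctor.map θ.hom)
      rw [hθ, CategoryTheory.Functor.map_comp]
      rw [Category.comp_id] at hτ
      rw [hτ, CategoryTheory.Functor.map_id, CategoryTheory.Functor.map_id, Category.id_comp,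
        Category.id_comp, Category.assoc, ← CategoryTheory.Functor.map_comp, Iso.hom_inv_id,
        CategoryTheory.Functor.map_id]
      exact (Category.comp_id _).symm)
  refine ⟨x₁, fpIsoMk (ii i g) (FibCat.diag g) ea τ₁ ?_, ?_⟩
  · apply fp_hom_ext
    · change i.toFunctor.map (𝟙 x₁) ≫ τ₁.hom = 𝟙 _ ≫ τ₁.hom
      simp
    · change i.toFunctor.map θ.hom ≫ τ₂.hom = 𝟙 _ ≫ τ₁.hom
      rw [hθ]
      simp
  · apply Groth.Agent.FibFp.lift_to
    apply Groth.Agent.FibFp.lift_to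
    change 𝒳.p.IsHomLift (𝟙 (𝒳.p.obj x₁)) (𝟙 x₁)
    infer_instance

end Groth.Agent.Lib.helper4.MonoDiagSq
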