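import Mathlib
import Groth.Prelude.Def_Flatn

/-!
# The open subfunctor `Mor_S(X, U) ⊆ Mor_S(X, Y)` for `X → S` universally closed (helper4)

If `Mor_S(X, Y)` is represented by `M` and `j : U → Y` is an open immersion, then `Mor_S(X, U)` is
represented by the open subscheme `M₀` of `M` which is the complement of the image in `M` of the
closed set of points of `M ×_S X` which the universal morphism does not map into `U`.
-/

set_option backward.isDefEq.respectTransparency false
set_option autoImplicit false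
set_option linter.style.haveILetI false
set_option linter.unusedSectionVars false

universe u
open CategoryTheory CategoryTheory.Limits AlgebraicGeometry Opposite

namespace Groth.Agent.Lib.Helper4.MorSOpen

variable {X Y U S : Scheme.{u}} (gX : X ⟶ S) (gY : Y ⟶ S) (j : U ⟶ Y) [IsOpenImmersion j]
  (M : Over S) (e : (Flatn.morS gX gY).RepresentableBy M)

/-- `T ×_S X` over `S` -/
noncomputable abbrev P (T : Over S) : Over S := (Over.map gX).obj ((Over.pullback gX).obj T)

/-- the base change `T ×_S X ⟶ M ×_S X` -/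
noncomputable abbrev bcm {T T' : Over S} (φ : T' ⟶ T) : P gX T' ⟶ P gX T :=
  (Over.map gX).map ((Over.pullback gX).map φ)

theorem bcm_left_fst {T T' : Over S} (φ : T' ⟶ T) :
    (bcm gX φ).left ≫ pullback.fst T.hom gX = pullback.fst T'.hom gX ≫ φ.left := by
  simp [bcm]

theorem bcm_left_snd {T T' : Over S} (φ : T' ⟶ T) :
    (bcm gX φ).left ≫ pullback.snd T.hom gX = pullback.snd T'.hom gX := by
  simp [bcm]

theorem isPullback_bcm {T T' : Over S} (φ : T' ⟶ T) :
    IsPullback (bcm gX φ).left (pullback.fst T'.hom gX) (pullback.fst T.hom gX) φ.left := by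
  refine IsPullback.of_right (h₁₂ := pullback.snd T.hom gX) (h₂₂ := T.hom) (v₁₃ := gX) ?_
    (bcm_left_fst gX φ) (IsPullback.of_hasPullback T.hom gX).flip
  rw [bcm_left_snd, Over.w φ]
  exact (IsPullback.of_hasPullback T'.hom gX).flip

variable {gX gY M}

theorem homEquiv_eq {T : Over S} (φ : T ⟶ M) :
    e.homEquiv φ = bcm gX φ ≫ e.homEquiv (𝟙 M) := by
  have := e.homEquiv_comp φ (𝟙 M)
  rw [Category.comp_id] at this
  exact this

variable (gX gY M) in
/-- the universal morphism `M ×_S X ⟶ Y` -/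
noncomputable abbrev ξ : P gX M ⟶ Over.mk gY := e.homEquiv (𝟙 M)

section

variable [UniversallyClosed gX]

/-- the bad closed set of `M` -/
def bad : Set M.left := pullback.fst M.hom gX '' ((ξ gX gY M e).left ⁻¹' (Set.range j)ᶜ)

theorem isClosed_bad : IsClosed (bad j e) := by
  apply (pullback.fst M.hom gX).isClosedMap
  exact (j.isOpenEmbedding.isOpen_range.isClosed_compl).preimage (ξ gX gY M e).left.continuous

/-- the open subscheme representing `Mor_S(X, U)` -/
def M₀ : M.left.Opens := ⟨(bad j e)ᶜ, (isClosed_bad j e).isOpen_compl⟩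

theorem range_subset_iff {T : Over S} (φ : T ⟶ M) :
    Set.range (e.homEquiv φ).left ⊆ Set.range j ↔ ∀ t : T.left, φ.left t ∈ M₀ j e := by
  rw [homEquiv_eq e φ]
  constructor
  · intro h t ht
    obtain ⟨w, hw, hwt⟩ := ht
    obtain ⟨z, hz1, hz2⟩ := Scheme.exists_preimage_of_isPullback (isPullback_bcm gX φ) w t hwt
    apply hw
    rw [← hz1]
    have := h ⟨z, rfl⟩
    rwa [Over.comp_left, Scheme.Hom.comp_apply] at this
  · rintro h _ ⟨z, rfl⟩
    by_contra hc
    apply h (pullback.fst T.hom gX z)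
    refine ⟨(bcm gX φ).left z, ?_, ?_⟩
    · rw [Over.comp_left, Scheme.Hom.comp_apply] at hc
      exact hc
    · show ((bcm gX φ).left ≫ pullback.fst M.hom gX) z = _
      rw [bcm_left_fst]
      rfl

/-- `M₀` over `S` -/
noncomputable abbrev M₀' : Over S := Over.mk ((M₀ j e).ι ≫ M.hom)

/-- the inclusion `M₀ ⟶ M` -/
noncomputable abbrev ι₀ : M₀' j e ⟶ M := Over.homMk (M₀ j e).ι rfl

theorem range_of_M₀ {T : Over S} (φ : T ⟶ M₀' j e) :
    Set.range (e.homEquiv (φ ≫ ι₀ j e)).left ⊆ Set.range j := by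
  rw [range_subset_iff]
  intro t
  rw [Over.comp_left, Scheme.Hom.comp_apply]
  have : (M₀ j e).ι (φ.left t) ∈ Set.range (M₀ j e).ι := ⟨_, rfl⟩
  rwa [Scheme.Opens.range_ι] at this

/-- the forward map -/
noncomputable def toFun {T : Over S} (φ : T ⟶ M₀' j e) : P gX T ⟶ Over.mk (j ≫ gY) :=
  Over.homMk (IsOpenImmersion.lift j (e.homEquiv (φ ≫ ι₀ j e)).left (range_of_M₀ j e φ)) (by
    have h1 := Over.w (e.homEquiv (φ ≫ ι₀ j e))
    dsimp only [Over.mk_hom, Over.mk_left] at h1 ⊢
    rw [← Category.assoc, IsOpenImmersion.lift_fac]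
    exact h1)

theorem toFun_left_j {T : Over S} (φ : T ⟶ M₀' j e) :
    (toFun j e φ).left ≫ j = (e.homEquiv (φ ≫ ι₀ j e)).left := by
  simp [toFun, IsOpenImmersion.lift_fac]

/-- the inverse map -/
noncomputable def invFun {T : Over S} (ψ : P gX T ⟶ Over.mk (j ≫ gY)) : T ⟶ M₀' j e :=
  let φ' : T ⟶ M := e.homEquiv.symm (ψ ≫ (Over.homMk j rfl : Over.mk (j ≫ gY) ⟶ Over.mk gY))
  have hr : Set.range φ'.left ⊆ Set.range (M₀ j e).ι := by
    rw [Scheme.Opens.range_ι]
    rintro _ ⟨t, rfl⟩
    refine (range_subset_iff j e φ').mp ?_ t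
    simp only [φ', Equiv.apply_symm_apply]
    rintro _ ⟨z, rfl⟩
    exact ⟨ψ.left z, by simp⟩
  Over.homMk (IsOpenImmersion.lift (M₀ j e).ι φ'.left hr) (by
    dsimp only [Over.mk_hom]
    rw [← Category.assoc, IsOpenImmersion.lift_fac]
    exact Over.w φ')

theorem invFun_ι₀ {T : Over S} (ψ : P gX T ⟶ Over.mk (j ≫ gY)) :
    invFun j e ψ ≫ ι₀ j e =
      e.homEquiv.symm (ψ ≫ (Over.homMk j rfl : Over.mk (j ≫ gY) ⟶ Over.mk gY)) := by
  ext
  simp [invFun, IsOpenImmersion.lift_fac]

/-- the representation of `Mor_S(X, U)` by `M₀`. -/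
noncomputable def e₀ : (Flatn.morS gX (j ≫ gY)).RepresentableBy (M₀' j e) where
  homEquiv {T} :=
    { toFun := toFun j e
      invFun := invFun j e
      left_inv := by
        intro φ
        have : Mono (ι₀ j e) := by
          refine ⟨fun a b hab => ?_⟩
          ext
          have := congrArg (fun k => k.left) hab
          simp only [Over.comp_left, Over.homMk_left] at this
          exact (cancel_mono (M₀ j e).ι).mp this
        rw [← cancel_mono (ι₀ j e), invFun_ι₀]
        apply e.homEquiv.injective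
        rw [Equiv.apply_symm_apply]
        apply Over.OverMorphism.ext
        simp [toFun_left_j]
      right_inv := by
        intro ψ
        apply Over.OverMorphism.ext
        rw [← cancel_mono j, toFun_left_j, invFun_ι₀, Equiv.apply_symm_apply]
        simp }
  homEquiv_comp {T T'} f φ := by
    apply Over.OverMorphism.ext
    rw [← cancel_mono j]
    show (toFun j e (f ≫ φ)).left ≫ j = ((bcm gX f) ≫ toFun j e φ).left ≫ j
    have h1 : (toFun j e (f ≫ φ)).left ≫ j = (e.homEquiv ((f ≫ φ) ≫ ι₀ j e)).left :=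
      toFun_left_j j e (f ≫ φ)
    have h2 : ((bcm gX f) ≫ toFun j e φ).left ≫ j =
        (bcm gX f).left ≫ (e.homEquiv (φ ≫ ι₀ j e)).left := by
      rw [Over.comp_left, Category.assoc, toFun_left_j]
    rw [h1, h2, Category.assoc, e.homEquiv_comp]
    rfl

theorem e₀_compat {T : Over S} (φ : T ⟶ M₀' j e) :
    e.homEquiv (φ ≫ ι₀ j e) =
      (e₀ j e).homEquiv φ ≫ (Over.homMk j rfl : Over.mk (j ≫ gY) ⟶ Over.mk gY) := by
  apply Over.OverMorphism.ext
  show _ = (toFun j e φ).left ≫ j
  rw [toFun_left_j]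

end

end Groth.Agent.Lib.Helper4.MorSOpen
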