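import Mathlib
import Groth.Agent.Lib.Helper4.WeilResIso

/-!
# Weil restriction along a finite free morphism: arbitrary test schemes, arbitrary affine `Y`
(helper4)

* `WeilRes.hom_ext_gen`, `WeilRes.exists_lift_gen`: the universal property of a `WeilRes` holds for
  all test schemes `T` (gluing over an affine cover).
* `exists_weilRes_affine`: existence for any affine `Y ⟶ Z` (no étaleness).
-/

set_option autoImplicit false
set_option linter.unusedSectionVars false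
set_option linter.style.haveILetI false

universe u

open TensorProduct CategoryTheory CategoryTheory.Limits AlgebraicGeometry CommRingCat

namespace Groth.Agent.Lib.Helper4.WeilResSpec

open Groth.Agent.Lib.Helper4.WeilResAlg

variable {B Z Y : Scheme.{u}} {p : Z ⟶ B} {q : Y ⟶ Z} (R : WeilRes p q)

theorem lift_congr {X₁ X₂ S₀ T : Scheme.{u}} {f₁ : X₁ ⟶ S₀} {f₂ : X₂ ⟶ S₀} {a a' : T ⟶ X₁}
    {b b' : T ⟶ X₂} (h : a ≫ f₁ = b ≫ f₂) (ha : a = a') (hb : b = b') :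
    pullback.lift a b h = pullback.lift a' b' (by rw [← ha, ← hb]; exact h) := by
  subst ha hb
  rfl

theorem pre_lift {X₁ X₂ S₀ T T' : Scheme.{u}} {f₁ : X₁ ⟶ S₀} {f₂ : X₂ ⟶ S₀} (k : T' ⟶ T)
    (a : T ⟶ X₁) (b : T ⟶ X₂) (h : a ≫ f₁ = b ≫ f₂) :
    k ≫ pullback.lift a b h =
      pullback.lift (k ≫ a) (k ≫ b) (by rw [Category.assoc, Category.assoc, h]) := by
  apply pullback.hom_ext
  · rw [Category.assoc, pullback.lift_fst, pullback.lift_fst]
  · rw [Category.assoc, pullback.lift_snd, pullback.lift_snd]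

/-- uniqueness for arbitrary test schemes -/
theorem WeilRes.hom_ext_gen {T : Scheme.{u}} (f f' : T ⟶ R.W) (h0 : f ≫ R.pW = f' ≫ R.pW)
    (h : ∀ {T' : Scheme.{u}} (k : T' ⟶ T) (a : T' ⟶ Z) (h1 : (k ≫ f) ≫ R.pW = a ≫ p)
      (h2 : (k ≫ f') ≫ R.pW = a ≫ p),
      pullback.lift (k ≫ f) a h1 ≫ R.ev = pullback.lift (k ≫ f') a h2 ≫ R.ev) : f = f' := by
  apply Scheme.Cover.hom_ext T.affineCover
  intro i
  apply R.hom_ext
  · rw [Category.assoc, Category.assoc, h0]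
  · intro T' k a h1 h2
    have h1' : ((k ≫ T.affineCover.f i) ≫ f) ≫ R.pW = a ≫ p := by
      rw [← h1]; simp only [Category.assoc]
    have h2' : ((k ≫ T.affineCover.f i) ≫ f') ≫ R.pW = a ≫ p := by
      rw [← h2]; simp only [Category.assoc]
    have := h (k ≫ T.affineCover.f i) a h1' h2'
    rw [lift_congr h1 (Category.assoc _ _ _).symm rfl, lift_congr h2 (Category.assoc _ _ _).symm rfl]
    exact this

/-- existence for arbitrary test schemes -/
theorem WeilRes.exists_lift_gen {T : Scheme.{u}} (x : T ⟶ B) (σ : pullback x p ⟶ Y)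
    (hσ : σ ≫ q = pullback.snd x p) :
    ∃ f : T ⟶ R.W, f ≫ R.pW = x ∧
      ∀ {T' : Scheme.{u}} (h : T' ⟶ T) (a : T' ⟶ Z) (hha : h ≫ x = a ≫ p)
        (hfa : (h ≫ f) ≫ R.pW = a ≫ p),
        pullback.lift (h ≫ f) a hfa ≫ R.ev = pullback.lift h a hha ≫ σ := by
  let 𝒰 := T.affineCover
  -- local data
  have hm : ∀ i, (𝒰.f i) ≫ x = (𝒰.f i ≫ x) ≫ 𝟙 B := fun i => (Category.comp_id _).symm
  let σi : ∀ i, pullback (𝒰.f i ≫ x) p ⟶ Y := fun i =>
    pullback.map (𝒰.f i ≫ x) p x p (𝒰.f i) (𝟙 Z) (𝟙 B) (hm i).symm (by simp) ≫ σ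
  have hσi : ∀ i, σi i ≫ q = pullback.snd (𝒰.f i ≫ x) p := by
    intro i
    show (pullback.map _ _ _ _ _ _ _ _ _ ≫ σ) ≫ q = _
    rw [Category.assoc, hσ, pullback.lift_snd, Category.comp_id]
  have hex := fun i => R.exists_lift (T := 𝒰.X i) (𝒰.f i ≫ x) (σi i) (hσi i)
  let fi : ∀ i, 𝒰.X i ⟶ R.W := fun i => (hex i).choose
  have hfi1 : ∀ i, fi i ≫ R.pW = 𝒰.f i ≫ x := fun i => (hex i).choose_spec.1
  have hfi2 : ∀ i {T' : Scheme.{u}} (h : T' ⟶ 𝒰.X i) (a : T' ⟶ Z)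
      (hha : h ≫ 𝒰.f i ≫ x = a ≫ p) (hfa : (h ≫ fi i) ≫ R.pW = a ≫ p),
      pullback.lift (h ≫ fi i) a hfa ≫ R.ev =
        pullback.lift (h ≫ 𝒰.f i) a (by rw [Category.assoc, hha]) ≫ σ := by
    intro i T' h a hha hfa
    rw [(hex i).choose_spec.2 h a hha hfa]
    show pullback.lift h a hha ≫ pullback.map _ _ _ _ _ _ _ _ _ ≫ σ = _
    rw [← Category.assoc]
    congr 1
    apply pullback.hom_ext
    · rw [Category.assoc, pullback.lift_fst, pullback.lift_fst_assoc, pullback.lift_fst]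
    · rw [Category.assoc, pullback.lift_snd, pullback.lift_snd_assoc, pullback.lift_snd,
        Category.comp_id]
  -- compatibility on overlaps
  have hcompat : ∀ i j, pullback.fst (𝒰.f i) (𝒰.f j) ≫ fi i = pullback.snd _ _ ≫ fi j := by
    intro i j
    apply R.hom_ext_gen
    · rw [Category.assoc, Category.assoc, hfi1, hfi1, pullback.condition_assoc]
    · intro T' k a h1 h2
      have e1 : (k ≫ pullback.fst (𝒰.f i) (𝒰.f j)) ≫ 𝒰.f i ≫ x = a ≫ p := by
        rw [← h1, ← hfi1]; simp only [Category.assoc]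
      have e2 : (k ≫ pullback.snd (𝒰.f i) (𝒰.f j)) ≫ 𝒰.f j ≫ x = a ≫ p := by
        rw [← h2, ← hfi1]; simp only [Category.assoc]
      have e1' : ((k ≫ pullback.fst (𝒰.f i) (𝒰.f j)) ≫ fi i) ≫ R.pW = a ≫ p := by
        rw [← h1]; simp only [Category.assoc]
      have e2' : ((k ≫ pullback.snd (𝒰.f i) (𝒰.f j)) ≫ fi j) ≫ R.pW = a ≫ p := by
        rw [← h2]; simp only [Category.assoc]
      rw [lift_congr h1 (Category.assoc _ _ _).symm rfl,
        lift_congr h2 (Category.assoc _ _ _).symm rfl,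
        hfi2 i (k ≫ pullback.fst _ _) a e1 e1', hfi2 j (k ≫ pullback.snd _ _) a e2 e2']
      congr 1
      apply lift_congr
      · rw [Category.assoc, Category.assoc, pullback.condition]
      · rfl
  let f : T ⟶ R.W := 𝒰.glueMorphisms fi hcompat
  have hf : ∀ i, 𝒰.f i ≫ f = fi i := fun i => 𝒰.ι_glueMorphisms fi hcompat i
  refine ⟨f, ?_, ?_⟩
  · apply Scheme.Cover.hom_ext 𝒰
    intro i
    rw [← Category.assoc, hf, hfi1]
  · intro T' h a hha hfa
    apply Scheme.Cover.hom_ext (𝒰.pullback₁ h)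
    intro (i : 𝒰.I₀)
    let ki : pullback h (𝒰.f i) ⟶ T' := pullback.fst h (𝒰.f i)
    let hi : pullback h (𝒰.f i) ⟶ 𝒰.X i := pullback.snd h (𝒰.f i)
    have hk : ki ≫ h = hi ≫ 𝒰.f i := pullback.condition
    show ki ≫ pullback.lift (h ≫ f) a hfa ≫ R.ev = ki ≫ pullback.lift h a hha ≫ σ
    rw [← Category.assoc, ← Category.assoc, pre_lift, pre_lift]
    have e1 : hi ≫ 𝒰.f i ≫ x = (ki ≫ a) ≫ p := by
      rw [← Category.assoc, ← hk, Category.assoc, hha, Category.assoc]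
    have e1' : (hi ≫ fi i) ≫ R.pW = (ki ≫ a) ≫ p := by
      rw [Category.assoc, hfi1, e1]
    have e3 : ki ≫ h ≫ f = hi ≫ fi i := by
      rw [← Category.assoc, hk, Category.assoc, hf]
    rw [lift_congr _ e3 rfl, hfi2 i hi (ki ≫ a) e1 e1']
    congr 1
    apply lift_congr
    · exact hk.symm
    · rfl

section exist

variable {B Z Y : Scheme.{u}} [IsAffine B] [IsAffine Z] [IsAffine Y] (p : Z ⟶ B) (q : Y ⟶ Z)

/-- **Existence of the Weil restriction** of an affine `q : Y ⟶ Z` along a finite free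
`p : Z ⟶ B`, all schemes affine. -/
theorem exists_weilRes_affine (n : ℕ)
    (hb : letI := p.appTop.hom.toAlgebra
      Nonempty (Module.Basis (Fin n) Γ(B, ⊤) Γ(Z, ⊤))) :
    ∃ R : WeilRes p q, IsAffine R.W := by
  letI algAC : Algebra Γ(B, ⊤) Γ(Z, ⊤) := p.appTop.hom.toAlgebra
  letI algCD : Algebra Γ(Z, ⊤) Γ(Y, ⊤) := q.appTop.hom.toAlgebra
  obtain ⟨b⟩ := hb
  let π : MvPolynomial Γ(Y, ⊤) Γ(Z, ⊤) →ₐ[Γ(Z, ⊤)] Γ(Y, ⊤) := MvPolynomial.aeval id
  have hπ : Function.Surjective π := fun y => ⟨MvPolynomial.X y, by simp [π]⟩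
  let K : Type u := ↥(RingHom.ker π)
  let rel : K → MvPolynomial Γ(Y, ⊤) Γ(Z, ⊤) := Subtype.val
  have hrel : Ideal.span (Set.range rel) = RingHom.ker π := by
    have : Set.range rel = (RingHom.ker π : Set _) := Subtype.range_coe
    rw [this, Ideal.span_eq]
  let R₀ := ofAlg b π hπ rel hrel
  have hp : Z.isoSpec.hom ≫ sMap Γ(B, ⊤) Γ(Z, ⊤) = p ≫ B.isoSpec.hom :=
    Scheme.isoSpec_hom_naturality p
  have hq' : Y.isoSpec.hom ≫ sMap Γ(Z, ⊤) Γ(Y, ⊤) = q ≫ Z.isoSpec.hom :=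
    Scheme.isoSpec_hom_naturality q
  refine ⟨R₀.ofIso B.isoSpec Z.isoSpec Y.isoSpec p q hp hq', ?_⟩
  rw [WeilRes.ofIso_W]
  infer_instance

end exist

end Groth.Agent.Lib.Helper4.WeilResSpec
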