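import Mathlib
import Groth.Prelude.Def_Flatn
import Groth.Agent.Lib.Helper4.WeilResGen

/-!
# `Mor_S(Z, X)` is representable by an affine scheme for `Z` finite free over affine `S`, `X` affine
(helper4)

The Weil restriction of `X ×_S Z ⟶ Z` along `Z ⟶ S` represents `Flatn.morS g f`.
-/

set_option backward.isDefEq.respectTransparency false
set_option autoImplicit false
set_option linter.unusedSectionVars false
set_option linter.style.haveILetI false

universe u

open CategoryTheory CategoryTheory.Limits AlgebraicGeometry Opposite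

namespace Groth.Agent.Lib.Helper4.MorSRep

open Groth.Agent.Lib.Helper4.WeilResSpec FlatMor

variable {Z X S : Scheme.{u}} (g : Z ⟶ S) (f : X ⟶ S)
  (R : WeilRes g (pullback.snd f g))

/-- the forward map `(T ⟶ W) → Mor_S(T ×_S Z, X)` on underlying morphisms -/
noncomputable def fwd (T : Over S) (φ : T.left ⟶ R.W) (hφ : φ ≫ R.pW = T.hom) :
    pullback T.hom g ⟶ X :=
  pullback.lift (pullback.fst T.hom g ≫ φ) (pullback.snd T.hom g)
    (by rw [Category.assoc, hφ, pullback.condition]) ≫ R.ev ≫ pullback.fst f g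

theorem fwd_comp_f (T : Over S) (φ : T.left ⟶ R.W) (hφ : φ ≫ R.pW = T.hom) :
    fwd g f R T φ hφ ≫ f = pullback.snd T.hom g ≫ g := by
  unfold fwd
  rw [Category.assoc, Category.assoc, pullback.condition, ← Category.assoc R.ev, R.ev_q,
    ← Category.assoc, pullback.lift_snd]

theorem fwd_lift (T : Over S) (φ : T.left ⟶ R.W) (hφ : φ ≫ R.pW = T.hom) :
    pullback.lift (fwd g f R T φ hφ) (pullback.snd T.hom g) (fwd_comp_f g f R T φ hφ) =
      pullback.lift (pullback.fst T.hom g ≫ φ) (pullback.snd T.hom g)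
        (by rw [Category.assoc, hφ, pullback.condition]) ≫ R.ev := by
  apply pullback.hom_ext
  · rw [pullback.lift_fst, Category.assoc]
    rfl
  · rw [pullback.lift_snd, Category.assoc]
    erw [R.ev_q]
    rw [pullback.lift_snd]

/-- the section `T ×_S Z ⟶ X ×_S Z` attached to an `S`-morphism `T ×_S Z ⟶ X` -/
noncomputable def sec (T : Over S) (b : pullback T.hom g ⟶ X)
    (hb : b ≫ f = pullback.snd T.hom g ≫ g) : pullback T.hom g ⟶ pullback f g :=
  pullback.lift b (pullback.snd T.hom g) hb

theorem sec_snd (T : Over S) (b : pullback T.hom g ⟶ X)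
    (hb : b ≫ f = pullback.snd T.hom g ≫ g) :
    sec g f T b hb ≫ pullback.snd f g = pullback.snd T.hom g :=
  pullback.lift_snd _ _ _

/-- the backward map -/
noncomputable def bwd (T : Over S) (b : pullback T.hom g ⟶ X)
    (hb : b ≫ f = pullback.snd T.hom g ≫ g) : T.left ⟶ R.W :=
  (R.exists_lift_gen T.hom (sec g f T b hb) (sec_snd g f T b hb)).choose

theorem bwd_pW (T : Over S) (b : pullback T.hom g ⟶ X)
    (hb : b ≫ f = pullback.snd T.hom g ≫ g) : bwd g f R T b hb ≫ R.pW = T.hom :=
  (R.exists_lift_gen T.hom (sec g f T b hb) (sec_snd g f T b hb)).choose_spec.1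

theorem bwd_spec (T : Over S) (b : pullback T.hom g ⟶ X)
    (hb : b ≫ f = pullback.snd T.hom g ≫ g) {T' : Scheme.{u}} (h : T' ⟶ T.left) (a : T' ⟶ Z)
    (hha : h ≫ T.hom = a ≫ g) (hfa : (h ≫ bwd g f R T b hb) ≫ R.pW = a ≫ g) :
    pullback.lift (h ≫ bwd g f R T b hb) a hfa ≫ R.ev =
      pullback.lift h a hha ≫ sec g f T b hb :=
  (R.exists_lift_gen T.hom (sec g f T b hb) (sec_snd g f T b hb)).choose_spec.2 h a hha hfa

theorem fwd_bwd (T : Over S) (b : pullback T.hom g ⟶ X)
    (hb : b ≫ f = pullback.snd T.hom g ≫ g) :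
    fwd g f R T (bwd g f R T b hb) (bwd_pW g f R T b hb) = b := by
  unfold fwd
  have h1 := bwd_spec g f R T b hb (pullback.fst T.hom g) (pullback.snd T.hom g)
    pullback.condition (by rw [Category.assoc, bwd_pW, pullback.condition])
  rw [← Category.assoc, h1]
  have : pullback.lift (pullback.fst T.hom g) (pullback.snd T.hom g) pullback.condition =
      𝟙 _ := by
    apply pullback.hom_ext <;> simp
  rw [this, Category.id_comp]
  exact pullback.lift_fst _ _ _

theorem bwd_fwd (T : Over S) (φ : T.left ⟶ R.W) (hφ : φ ≫ R.pW = T.hom) :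
    bwd g f R T (fwd g f R T φ hφ) (fwd_comp_f g f R T φ hφ) = φ := by
  apply R.hom_ext_gen
  · rw [bwd_pW, hφ]
  · intro T' k a h1 h2
    have hka : k ≫ T.hom = a ≫ g := by rw [← h2, Category.assoc, hφ]
    rw [bwd_spec g f R T _ _ k a hka h1]
    unfold sec
    rw [fwd_lift, ← Category.assoc]
    congr 1
    apply pullback.hom_ext
    · rw [Category.assoc, pullback.lift_fst, pullback.lift_fst, ← Category.assoc,
        pullback.lift_fst]
    · rw [Category.assoc, pullback.lift_snd, pullback.lift_snd, pullback.lift_snd]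

theorem fwd_comp {T' T : Over S} (k : T' ⟶ T) (φ : T.left ⟶ R.W) (hφ : φ ≫ R.pW = T.hom) :
    fwd g f R T' (k.left ≫ φ) (by rw [Category.assoc, hφ, Over.w k]) =
      pullback.lift (pullback.fst T'.hom g ≫ k.left) (pullback.snd T'.hom g)
        (by rw [Category.assoc, Over.w k, pullback.condition]) ≫ fwd g f R T φ hφ := by
  unfold fwd
  rw [← Category.assoc _ _ (R.ev ≫ _)]
  congr 1
  apply pullback.hom_ext
  · simp only [Category.assoc, pullback.lift_fst, pullback.lift_fst_assoc]
  · simp only [Category.assoc, pullback.lift_snd]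

/-- the Weil restriction represents `Mor_S(Z, X)` -/
noncomputable def repr : (Flatn.morS g f).RepresentableBy (Over.mk R.pW) where
  homEquiv {T} :=
    { toFun := fun φ => Over.homMk (fwd g f R T φ.left (Over.w φ))
        (by
          show fwd g f R T φ.left (Over.w φ) ≫ f = pullback.snd T.hom g ≫ g
          exact fwd_comp_f g f R T φ.left (Over.w φ))
      invFun := fun b => Over.homMk (bwd g f R T b.left (Over.w b))
        (bwd_pW g f R T b.left (Over.w b))
      left_inv := fun φ => by
        apply Over.OverMorphism.ext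
        exact bwd_fwd g f R T φ.left (Over.w φ)
      right_inv := fun b => by
        apply Over.OverMorphism.ext
        exact fwd_bwd g f R T b.left (Over.w b) }
  homEquiv_comp {T' T} k φ := by
    apply Over.OverMorphism.ext
    exact fwd_comp g f R k φ.left (Over.w φ)

/-- **`Mor_S(Z, X)` is representable by an affine scheme** when `Z`, `X`, `S` are affine and
`Γ(Z)` is finite free over `Γ(S)`. -/
theorem morS_representable_affine_of_finite_free {Z X S : Scheme.{u}} [IsAffine Z] [IsAffine X]
    [IsAffine S] (g : Z ⟶ S) (f : X ⟶ S)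
    (hfree : letI := (g.appTop).hom.toAlgebra
      Module.Finite Γ(S, ⊤) Γ(Z, ⊤) ∧ Module.Free Γ(S, ⊤) Γ(Z, ⊤)) :
    ∃ W : Over S, IsAffine W.left ∧ Nonempty ((Flatn.morS g f).RepresentableBy W) := by
  letI := (g.appTop).hom.toAlgebra
  haveI := hfree.1
  haveI := hfree.2
  let b := (Module.Free.chooseBasis Γ(S, ⊤) Γ(Z, ⊤)).reindex
    (Fintype.equivFin (Module.Free.ChooseBasisIndex Γ(S, ⊤) Γ(Z, ⊤)))
  obtain ⟨R, hR⟩ := exists_weilRes_affine g (pullback.snd f g) _ ⟨b⟩
  exact ⟨Over.mk R.pW, hR, ⟨repr g f R⟩⟩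

end Groth.Agent.Lib.Helper4.MorSRep
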