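import Mathlib
import Groth.Agent.Lib.Helper4.LocRep3

/-!
# The Weil restriction functor: sheaf property and gluing of open subfunctors (helper4)

For `p : Z ⟶ B` and `q : Y ⟶ Z` the functor `wf p q : (Over B)ᵒᵖ ⥤ Type u`,
`T ↦ Hom_Z(T ×_B Z, Y)` is `(Over.pullback p).op ⋙ yoneda.obj (Over.mk q)`.
-/

set_option backward.isDefEq.respectTransparency false
set_option autoImplicit false
set_option linter.unusedSectionVars false
set_option linter.style.haveILetI false

universe u

open CategoryTheory CategoryTheory.Limits AlgebraicGeometry Opposite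

namespace Groth.Agent.Lib.Helper4.WeilFun

variable {B Z Y : Scheme.{u}} (p : Z ⟶ B) (q : Y ⟶ Z)

/-- the Weil restriction functor -/
noncomputable abbrev wf : (Over B)ᵒᵖ ⥤ Type u := (Over.pullback p).op ⋙ yoneda.obj (Over.mk q)

theorem wf_isSheaf : Presieve.IsSheaf (Scheme.zariskiTopology.over B) (wf p q) := by
  apply Functor.op_comp_isSheaf_of_isSheaf_type (Over.pullback p)
    (Scheme.zariskiTopology.over B) (K := Scheme.zariskiTopology.over Z)
  exact GrothendieckTopology.Subcanonical.isSheaf_of_isRepresentable _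

variable {p q}

/-- constructor for sections -/
noncomputable abbrev mkσ {T : Over B} (s : pullback T.hom p ⟶ Y) (hs : s ≫ q = pullback.snd T.hom p) :
    (wf p q).obj (op T) := Over.homMk s hs

theorem σ_w {T : Over B} (σ : (wf p q).obj (op T)) : σ.left ≫ q = pullback.snd T.hom p :=
  Over.w σ

theorem σ_ext {T : Over B} {σ σ' : (wf p q).obj (op T)} (h : σ.left = σ'.left) : σ = σ' :=
  Over.OverMorphism.ext h

/-- the base change map `T' ×_B Z ⟶ T ×_B Z` -/
noncomputable abbrev bc {T T' : Over B} (k : T' ⟶ T) : pullback T'.hom p ⟶ pullback T.hom p :=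
  pullback.lift (pullback.fst T'.hom p ≫ k.left) (pullback.snd T'.hom p)
    (by rw [Category.assoc, Over.w k, pullback.condition])

theorem wf_map_left {T T' : Over B} (k : T' ⟶ T) (σ : (wf p q).obj (op T)) :
    ((wf p q).map k.op σ).left = bc (p := p) k ≫ σ.left := rfl

theorem bc_fst {T T' : Over B} (k : T' ⟶ T) :
    bc (p := p) k ≫ pullback.fst T.hom p = pullback.fst T'.hom p ≫ k.left :=
  pullback.lift_fst _ _ _

theorem bc_snd {T T' : Over B} (k : T' ⟶ T) :
    bc (p := p) k ≫ pullback.snd T.hom p = pullback.snd T'.hom p :=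
  pullback.lift_snd _ _ _

/-- the base change square is a pullback -/
theorem isPullback_bc {T T' : Over B} (k : T' ⟶ T) :
    IsPullback (bc (p := p) k) (pullback.fst T'.hom p) (pullback.fst T.hom p) k.left := by
  have hright : IsPullback (pullback.snd T.hom p) (pullback.fst T.hom p) p T.hom :=
    (IsPullback.of_hasPullback T.hom p).flip
  have hbig : IsPullback (bc (p := p) k ≫ pullback.snd T.hom p) (pullback.fst T'.hom p) p
      (k.left ≫ T.hom) := by
    rw [bc_snd, Over.w k]
    exact (IsPullback.of_hasPullback T'.hom p).flip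
  exact IsPullback.of_right hbig (bc_fst k) hright

/-- points of `T' ×_B Z` over a point of `T'` and a compatible point of `T ×_B Z` -/
theorem exists_bc_preimage {T T' : Over B} (k : T' ⟶ T) (t' : T'.left) (z : ↑(pullback T.hom p))
    (h : pullback.fst T.hom p z = k.left t') :
    ∃ z' : ↑(pullback T'.hom p), bc (p := p) k z' = z ∧ pullback.fst T'.hom p z' = t' := by
  obtain ⟨z', h1, h2⟩ := Scheme.exists_preimage_of_isPullback
    (isPullback_bc (p := p) k) z t' h
  exact ⟨z', h1, h2⟩

end Groth.Agent.Lib.Helper4.WeilFun
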