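import Mathlib
import Groth.Agent.Lib.Helper4.WeilFun1

/-!
# The Weil restriction functor: gluing charts (helper4)

A `Chart p q V U` is a representing object for the subfunctor of `wf p q` of sections over `V`
landing in `U`.  If `p` is universally closed and the charts cover, `wf p q` is representable.
-/

set_option backward.isDefEq.respectTransparency false
set_option autoImplicit false
set_option linter.unusedSectionVars false
set_option linter.style.haveILetI false

universe u

open CategoryTheory CategoryTheory.Limits AlgebraicGeometry Opposite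

namespace Groth.Agent.Lib.Helper4.WeilFun

variable {B Z Y : Scheme.{u}} (p : Z ⟶ B) (q : Y ⟶ Z)

/-- a representing object for the subfunctor of sections over `V` landing in `U` -/
structure Chart (V : B.Opens) (U : Y.Opens) where
  /-- the representing object -/
  W : Over B
  /-- the universal section -/
  ξ : (wf p q).obj (op W)
  hV : Set.range W.hom ⊆ (V : Set B)
  hU : Set.range ξ.left ⊆ (U : Set Y)
  lift : ∀ (T : Over B) (σ : (wf p q).obj (op T)), Set.range T.hom ⊆ (V : Set B) →
    Set.range σ.left ⊆ (U : Set Y) → ∃ a : T ⟶ W, (wf p q).map a.op ξ = σ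
  mono : ∀ (T : Over B) (m m' : T ⟶ W), (wf p q).map m.op ξ = (wf p q).map m'.op ξ → m = m'

variable {p q}

section locus

variable [UniversallyClosed p] (T : Over B) (σ : (wf p q).obj (op T)) (V : B.Opens) (U : Y.Opens)

/-- the bad set: points of `T` over which `σ` does not land in `U` -/
def badSet : Set T.left := pullback.fst T.hom p '' (σ.left ⁻¹' (U : Set Y)ᶜ)

theorem isClosed_badSet : IsClosed (badSet T σ U) := by
  apply (pullback.fst T.hom p).isClosedMap
  exact (U.isOpen.isClosed_compl).preimage σ.left.continuous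

/-- the open locus of `T` over `V` where `σ` lands in `U` -/
def locus : T.left.Opens := T.hom ⁻¹ᵁ V ⊓ ⟨(badSet T σ U)ᶜ, (isClosed_badSet T σ U).isOpen_compl⟩

theorem mem_locus (t : T.left) : t ∈ locus T σ V U ↔
    T.hom t ∈ V ∧ ∀ z : ↑(pullback T.hom p), pullback.fst T.hom p z = t → σ.left z ∈ U := by
  show (t ∈ T.hom ⁻¹ᵁ V ∧ t ∈ (badSet T σ U)ᶜ) ↔ _
  refine and_congr Iff.rfl ?_
  constructor
  · intro h z hz
    by_contra hc
    exact h ⟨z, hc, hz⟩
  · rintro h ⟨z, hc, hz⟩
    exact hc (h z hz)

/-- the restriction of `T` to the locus -/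
noncomputable abbrev locT : Over B := Over.mk ((locus T σ V U).ι ≫ T.hom)

/-- the inclusion of the locus -/
noncomputable abbrev locι : locT T σ V U ⟶ T := Over.homMk (locus T σ V U).ι rfl

theorem locι_mem (l : (locT T σ V U).left) : (locus T σ V U).ι l ∈ locus T σ V U := by
  have : (locus T σ V U).ι l ∈ Set.range (locus T σ V U).ι := ⟨l, rfl⟩
  rwa [Scheme.Opens.range_ι] at this

theorem range_locT_hom : Set.range (locT T σ V U).hom ⊆ (V : Set B) := by
  rintro _ ⟨l, rfl⟩
  have := ((mem_locus T σ V U _).mp (locι_mem T σ V U l)).1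
  simpa using this

theorem range_restrict : Set.range ((wf p q).map (locι T σ V U).op σ).left ⊆ (U : Set Y) := by
  rintro _ ⟨z', rfl⟩
  rw [wf_map_left]
  have h1 : pullback.fst T.hom p (bc (p := p) (locι T σ V U) z') =
      (locus T σ V U).ι (pullback.fst (locT T σ V U).hom p z') := by
    rw [← Scheme.Hom.comp_apply, bc_fst, Scheme.Hom.comp_apply]
    rfl
  have := ((mem_locus T σ V U _).mp (locι_mem T σ V U _)).2 _ h1
  simpa using this

theorem range_subset_locus (c : Chart p q V U) {T' : Over B} (k : T' ⟶ T) (m : T' ⟶ c.W)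
    (h : (wf p q).map m.op c.ξ = (wf p q).map k.op σ) :
    Set.range k.left ⊆ (locus T σ V U : Set T.left) := by
  rintro _ ⟨t', rfl⟩
  show k.left t' ∈ locus T σ V U
  rw [mem_locus]
  constructor
  · have h1 : T.hom (k.left t') = c.W.hom (m.left t') := by
      rw [← Scheme.Hom.comp_apply, ← Scheme.Hom.comp_apply, Over.w k, Over.w m]
    rw [h1]
    exact c.hV ⟨_, rfl⟩
  · intro z hz
    obtain ⟨z', rfl, -⟩ := exists_bc_preimage (p := p) k t' z hz
    have h2 : σ.left (bc (p := p) k z') = c.ξ.left (bc (p := p) m z') := by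
      have := congrArg (fun s => s.left) h
      simp only [wf_map_left] at this
      have e1 : σ.left (bc (p := p) k z') = (bc (p := p) k ≫ σ.left) z' :=
        (Scheme.Hom.comp_apply _ _ _).symm
      have e2 : c.ξ.left (bc (p := p) m z') = (bc (p := p) m ≫ c.ξ.left) z' :=
        (Scheme.Hom.comp_apply _ _ _).symm
      rw [e1, e2, this]
    rw [h2]
    exact c.hU ⟨_, rfl⟩

end locus

/-- **Gluing charts**: if `p` is universally closed and every section is locally in a chart,
then the Weil restriction functor is representable. -/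
theorem exists_repr_of_charts [UniversallyClosed p] {ι : Type u} (V : ι → B.Opens)
    (U : ι → Y.Opens) (c : ∀ i, Chart p q (V i) (U i))
    (hcov : ∀ (T : Over B) (σ : (wf p q).obj (op T)) (t : T.left), ∃ i, T.hom t ∈ V i ∧
      ∀ z : ↑(pullback T.hom p), pullback.fst T.hom p z = t → σ.left z ∈ U i) :
    ∃ W₀ : Over B, Nonempty ((wf p q).RepresentableBy W₀) := by
  apply LocRep.exists_repr (wf p q) (fun i => (c i).W) (fun i => (c i).ξ)
    (fun i => (c i).mono) ?_ ?_ (wf_isSheaf p q)
  · intro i T σ
    refine ⟨locus T σ (V i) (U i), ?_, ?_⟩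
    · exact (c i).lift (locT T σ (V i) (U i)) _ (range_locT_hom T σ (V i) (U i))
        (range_restrict T σ (V i) (U i))
    · intro T' k m h
      exact range_subset_locus T σ (V i) (U i) (c i) k m h
  · intro T σ t
    obtain ⟨i, h1, h2⟩ := hcov T σ t
    refine ⟨i, locus T σ (V i) (U i), (mem_locus T σ (V i) (U i) t).mpr ⟨h1, h2⟩, ?_⟩
    exact (c i).lift (locT T σ (V i) (U i)) _ (range_locT_hom T σ (V i) (U i))
      (range_restrict T σ (V i) (U i))

end Groth.Agent.Lib.Helper4.WeilFun
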