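import Mathlib
import Groth.Agent.Lib.Helper4.WeilFun2
import Groth.Agent.Lib.Helper4.WeilResGen

/-!
# The Weil restriction functor: charts from Weil restrictions over open pieces (helper4)

For opens `V ⊆ B`, `U ⊆ Y` with `U` over `V`, a `WeilRes` of `U ⟶ Z_V` along `Z_V ⟶ V`
(`Z_V = V ×_B Z`) gives a `Chart p q V U`.
-/

set_option backward.isDefEq.respectTransparency false
set_option autoImplicit false
set_option linter.unusedSectionVars false
set_option linter.style.haveILetI false

universe u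

open CategoryTheory CategoryTheory.Limits AlgebraicGeometry Opposite

namespace Groth.Agent.Lib.Helper4.WeilFun

open Groth.Agent.Lib.Helper4.WeilResSpec

variable {B Z Y : Scheme.{u}} {p : Z ⟶ B} {q : Y ⟶ Z}
  (V : B.Opens) (U : Y.Opens) (uV : (U : Scheme.{u}) ⟶ V) (huV : uV ≫ V.ι = U.ι ≫ q ≫ p)

/-- the restriction of `p` over `V` -/
noncomputable abbrev pV : pullback V.ι p ⟶ V := pullback.fst V.ι p

/-- the restriction of `q` to `U`, with values in `Z_V` -/
noncomputable abbrev qU : (U : Scheme.{u}) ⟶ pullback V.ι p :=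
  pullback.lift uV (U.ι ≫ q) (by rw [huV, Category.assoc])

variable (R : WeilRes (pV (p := p) V) (qU V U uV huV))

/-- the comparison isomorphism for a test object over `V` -/
noncomputable abbrev cmpIso {T₀ : Scheme.{u}} (x' : T₀ ⟶ V) :
    pullback x' (pV (p := p) V) ≅ pullback (x' ≫ V.ι) p :=
  pullbackRightPullbackFstIso V.ι p x'

/-- the universal section of the chart -/
noncomputable def chartξ : (wf p q).obj (op (Over.mk (R.pW ≫ V.ι))) :=
  mkσ (T := Over.mk (R.pW ≫ V.ι)) ((cmpIso V R.pW).inv ≫ R.ev ≫ U.ι) (by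
    have h1 : U.ι ≫ q = qU V U uV huV ≫ pullback.snd V.ι p := (pullback.lift_snd _ _ _).symm
    rw [Category.assoc, Category.assoc, h1, ← Category.assoc R.ev, R.ev_q]
    exact pullbackRightPullbackFstIso_inv_snd_snd V.ι p R.pW)

theorem chartξ_left : (chartξ V U uV huV R).left = (cmpIso V R.pW).inv ≫ R.ev ≫ U.ι := rfl

/-- lifting sections over objects of the special form `Over.mk (x' ≫ V.ι)` -/
theorem chart_lift_aux {T₀ : Scheme.{u}} (x' : T₀ ⟶ V)
    (σ : (wf p q).obj (op (Over.mk (x' ≫ V.ι)))) (hσ : Set.range σ.left ⊆ (U : Set Y)) :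
    ∃ a : Over.mk (x' ≫ V.ι) ⟶ Over.mk (R.pW ≫ V.ι),
      (wf p q).map a.op (chartξ V U uV huV R) = σ := by
  have hσ' : Set.range σ.left ⊆ Set.range U.ι := by rwa [Scheme.Opens.range_ι]
  let s' : pullback (x' ≫ V.ι) p ⟶ U := IsOpenImmersion.lift U.ι σ.left hσ'
  have hs' : s' ≫ U.ι = σ.left := IsOpenImmersion.lift_fac _ _ _
  let σ'' : pullback x' (pV (p := p) V) ⟶ U := (cmpIso V x').hom ≫ s'
  have hw : σ.left ≫ q = pullback.snd (x' ≫ V.ι) p := σ_w σ
  have hσ'' : σ'' ≫ qU V U uV huV = pullback.snd x' (pV (p := p) V) := by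
    apply pullback.hom_ext
    · rw [Category.assoc, pullback.lift_fst]
      rw [← cancel_mono V.ι]
      simp only [σ'', Category.assoc]
      rw [huV, ← Category.assoc s', hs', ← Category.assoc σ.left, hw, ← pullback.condition,
        ← Category.assoc, pullbackRightPullbackFstIso_hom_fst]
      exact pullback.condition_assoc _
    · rw [Category.assoc, pullback.lift_snd]
      simp only [σ'', Category.assoc]
      rw [← Category.assoc s', hs', hw, pullbackRightPullbackFstIso_hom_snd]
  obtain ⟨f, hf1, hf2⟩ := R.exists_lift_gen x' σ'' hσ''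
  refine ⟨Over.homMk f (by
    show f ≫ R.pW ≫ V.ι = x' ≫ V.ι
    rw [← Category.assoc, hf1]), ?_⟩
  apply σ_ext
  rw [wf_map_left, chartξ_left, ← hs']
  have hspec := hf2 (pullback.fst x' (pV (p := p) V)) (pullback.snd x' (pV (p := p) V))
    pullback.condition (by rw [Category.assoc, hf1, pullback.condition])
  have hid : pullback.lift (pullback.fst x' (pV (p := p) V)) (pullback.snd x' (pV (p := p) V))
      pullback.condition = 𝟙 _ := by
    apply pullback.hom_ext <;> simp
  rw [hid, Category.id_comp] at hspec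
  -- the key identification
  let a : Over.mk (x' ≫ V.ι) ⟶ Over.mk (R.pW ≫ V.ι) := Over.homMk f (by
        show f ≫ R.pW ≫ V.ι = x' ≫ V.ι
        rw [← Category.assoc, hf1])
  have e1 : bc (p := p) a ≫ pullback.fst (R.pW ≫ V.ι) p = pullback.fst (x' ≫ V.ι) p ≫ f :=
    bc_fst a
  have e2 : bc (p := p) a ≫ pullback.snd (R.pW ≫ V.ι) p = pullback.snd (x' ≫ V.ι) p :=
    bc_snd a
  have hkey : (cmpIso V x').hom ≫ bc (p := p) a ≫ (cmpIso V R.pW).inv =
      pullback.lift (pullback.fst x' (pV (p := p) V) ≫ f) (pullback.snd x' (pV (p := p) V))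
        (by rw [Category.assoc, hf1, pullback.condition]) := by
    apply pullback.hom_ext
    · simp only [Category.assoc, pullback.lift_fst, pullbackRightPullbackFstIso_inv_fst]
      rw [e1, pullbackRightPullbackFstIso_hom_fst_assoc]
    · apply pullback.hom_ext
      · simp only [Category.assoc, pullback.lift_snd, pullbackRightPullbackFstIso_inv_snd_fst]
        rw [reassoc_of% e1, pullbackRightPullbackFstIso_hom_fst_assoc, hf1, pullback.condition]
      · simp only [Category.assoc, pullback.lift_snd, pullbackRightPullbackFstIso_inv_snd_snd]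
        rw [e2, pullbackRightPullbackFstIso_hom_snd]
  rw [← hkey] at hspec
  have h4 : bc (p := p) a ≫ (cmpIso V R.pW).inv ≫ R.ev = s' := by
    rw [← cancel_epi (cmpIso V x').hom]
    simpa only [Category.assoc] using hspec
  rw [← Category.assoc, ← Category.assoc, Category.assoc (bc _), h4]

/-- lifting sections over `V` landing in `U` -/
theorem chart_lift (T : Over B) (σ : (wf p q).obj (op T)) (hT : Set.range T.hom ⊆ (V : Set B))
    (hσ : Set.range σ.left ⊆ (U : Set Y)) :
    ∃ a : T ⟶ Over.mk (R.pW ≫ V.ι), (wf p q).map a.op (chartξ V U uV huV R) = σ := by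
  have hT' : Set.range T.hom ⊆ Set.range V.ι := by rwa [Scheme.Opens.range_ι]
  let x' : T.left ⟶ V := IsOpenImmersion.lift V.ι T.hom hT'
  have hx' : x' ≫ V.ι = T.hom := IsOpenImmersion.lift_fac _ _ _
  let e : Over.mk (x' ≫ V.ι) ⟶ T := Over.homMk (𝟙 T.left) (by
    show 𝟙 T.left ≫ T.hom = x' ≫ V.ι
    rw [Category.id_comp, hx'])
  let e' : T ⟶ Over.mk (x' ≫ V.ι) := Over.homMk (𝟙 T.left) (by
    show 𝟙 T.left ≫ x' ≫ V.ι = T.hom
    rw [Category.id_comp, hx'])
  have hee' : e' ≫ e = 𝟙 T := by
    apply Over.OverMorphism.ext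
    show 𝟙 T.left ≫ 𝟙 T.left = 𝟙 T.left
    rw [Category.id_comp]
  let σ' := (wf p q).map e.op σ
  have hσ' : Set.range σ'.left ⊆ (U : Set Y) := by
    rintro _ ⟨z, rfl⟩
    rw [wf_map_left]
    exact hσ ⟨_, (Scheme.Hom.comp_apply _ _ _).symm⟩
  obtain ⟨a, ha⟩ := chart_lift_aux V U uV huV R x' σ' hσ'
  refine ⟨e' ≫ a, ?_⟩
  rw [← LocRep.map_map', ha, LocRep.map_map', hee']
  simp

/-- the chart is a monomorphism -/
theorem chart_mono (T : Over B) (m m' : T ⟶ Over.mk (R.pW ≫ V.ι))
    (h : (wf p q).map m.op (chartξ V U uV huV R) = (wf p q).map m'.op (chartξ V U uV huV R)) :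
    m = m' := by
  apply Over.OverMorphism.ext
  have hm : m.left ≫ R.pW ≫ V.ι = T.hom := Over.w m
  have hm' : m'.left ≫ R.pW ≫ V.ι = T.hom := Over.w m'
  have h0 : bc (p := p) m ≫ (cmpIso V R.pW).inv ≫ R.ev =
      bc (p := p) m' ≫ (cmpIso V R.pW).inv ≫ R.ev := by
    have := congrArg (fun s => s.left) h
    simp only [wf_map_left, chartξ_left] at this
    rw [← cancel_mono U.ι]
    simpa only [Category.assoc] using this
  apply R.hom_ext_gen
  · rw [← cancel_mono V.ι, Category.assoc, Category.assoc, hm, hm']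
  · intro T'' k a h1 h2
    have hθ : k ≫ T.hom = (a ≫ pullback.snd V.ι p) ≫ p := by
      rw [← hm, ← Category.assoc, ← Category.assoc, h1, Category.assoc, Category.assoc,
        pullback.condition]
    let θ : T'' ⟶ pullback T.hom p := pullback.lift k (a ≫ pullback.snd V.ι p) hθ
    have key : ∀ (n : T ⟶ Over.mk (R.pW ≫ V.ι)) (hn : (k ≫ n.left) ≫ R.pW = a ≫ pV (p := p) V),
        pullback.lift (k ≫ n.left) a hn = θ ≫ bc (p := p) n ≫ (cmpIso V R.pW).inv := by
      intro n hn
      have e1 : bc (p := p) n ≫ pullback.fst (R.pW ≫ V.ι) p = pullback.fst T.hom p ≫ n.left :=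
        bc_fst n
      have e2 : bc (p := p) n ≫ pullback.snd (R.pW ≫ V.ι) p = pullback.snd T.hom p :=
        bc_snd n
      apply pullback.hom_ext
      · simp only [Category.assoc, pullback.lift_fst, pullbackRightPullbackFstIso_inv_fst]
        rw [e1, pullback.lift_fst_assoc]
      · apply pullback.hom_ext
        · simp only [Category.assoc, pullback.lift_snd, pullbackRightPullbackFstIso_inv_snd_fst]
          rw [reassoc_of% e1, pullback.lift_fst_assoc]
          exact hn.symm
        · simp only [Category.assoc, pullback.lift_snd, pullbackRightPullbackFstIso_inv_snd_snd]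
          rw [e2, pullback.lift_snd]
    rw [key m h1, key m' h2]
    simp only [Category.assoc]
    rw [h0]

/-- **The chart attached to a Weil restriction over an open piece.** -/
noncomputable def chartOfWeilRes : Chart p q V U where
  W := Over.mk (R.pW ≫ V.ι)
  ξ := chartξ V U uV huV R
  hV := by
    rintro _ ⟨w, rfl⟩
    show (R.pW ≫ V.ι) w ∈ V
    rw [Scheme.Hom.comp_apply]
    have : V.ι (R.pW w) ∈ Set.range V.ι := ⟨_, rfl⟩
    rwa [Scheme.Opens.range_ι] at this
  hU := by
    rintro _ ⟨z, rfl⟩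
    rw [chartξ_left]
    show ((cmpIso V R.pW).inv ≫ R.ev ≫ U.ι) z ∈ U
    rw [← Category.assoc, Scheme.Hom.comp_apply]
    have : U.ι (((cmpIso V R.pW).inv ≫ R.ev) z) ∈ Set.range U.ι := ⟨_, rfl⟩
    rwa [Scheme.Opens.range_ι] at this
  lift := chart_lift V U uV huV R
  mono := chart_mono V U uV huV R

end Groth.Agent.Lib.Helper4.WeilFun
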