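import Mathlib
import Groth.Agent.Lib.Helper4.WeilFun3

/-!
# From a representation of the Weil restriction functor to a `WeilRes` structure; shrinking
affine opens around finite sets (helper4)
-/

set_option backward.isDefEq.respectTransparency false
set_option autoImplicit false
set_option linter.unusedSectionVars false
set_option linter.style.haveILetI false

universe u

open CategoryTheory CategoryTheory.Limits AlgebraicGeometry Opposite

namespace Groth.Agent.Lib.Helper4.WeilFun

open Groth.Agent.Lib.Helper4.WeilResSpec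

variable {B Z Y : Scheme.{u}} {p : Z ⟶ B} {q : Y ⟶ Z}

/-- a representation of the Weil restriction functor gives a `WeilRes` structure -/
noncomputable def weilResOfRepr {W₀ : Over B} (e : (wf p q).RepresentableBy W₀) : WeilRes p q where
  W := W₀.left
  pW := W₀.hom
  ev := (e.homEquiv (𝟙 W₀)).left
  ev_q := σ_w (e.homEquiv (𝟙 W₀))
  exists_lift := by
    intro T _ x σ hσ
    let η : (wf p q).obj (op (Over.mk x)) := mkσ (T := Over.mk x) σ hσ
    let φ : Over.mk x ⟶ W₀ := e.homEquiv.symm η
    have hφ : (wf p q).map φ.op (e.homEquiv (𝟙 W₀)) = η := by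
      have := e.homEquiv_comp φ (𝟙 W₀)
      rw [Category.comp_id] at this
      rw [← this]
      exact e.homEquiv.apply_symm_apply η
    have hφ' : bc (p := p) φ ≫ (e.homEquiv (𝟙 W₀)).left = σ := congrArg (fun s => s.left) hφ
    refine ⟨φ.left, Over.w φ, ?_⟩
    intro T' h a hha hfa
    rw [← hφ', ← Category.assoc]
    congr 1
    have e1 : bc (p := p) φ ≫ pullback.fst W₀.hom p = pullback.fst x p ≫ φ.left := bc_fst φ
    have e2 : bc (p := p) φ ≫ pullback.snd W₀.hom p = pullback.snd x p := bc_snd φ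
    apply pullback.hom_ext
    · rw [pullback.lift_fst, Category.assoc, e1, pullback.lift_fst_assoc]
    · rw [pullback.lift_snd, Category.assoc, e2, pullback.lift_snd]
  hom_ext := by
    intro T _ f f' h0 h
    let x := f ≫ W₀.hom
    let φ : Over.mk x ⟶ W₀ := Over.homMk f rfl
    let φ' : Over.mk x ⟶ W₀ := Over.homMk f' h0.symm
    have key : φ = φ' := by
      apply e.homEquiv.injective
      have h1 := e.homEquiv_comp φ (𝟙 W₀)
      have h2 := e.homEquiv_comp φ' (𝟙 W₀)
      rw [Category.comp_id] at h1 h2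
      rw [h1, h2]
      apply σ_ext
      rw [wf_map_left, wf_map_left]
      have := h (pullback.fst x p) (pullback.snd x p)
        (by rw [Category.assoc]; exact pullback.condition)
        (by rw [Category.assoc, ← h0]; exact pullback.condition)
      exact this
    exact congrArg (fun s => s.left) key

theorem weilResOfRepr_pW {W₀ : Over B} (e : (wf p q).RepresentableBy W₀) :
    (weilResOfRepr e).pW = W₀.hom := rfl

/-- **Shrinking**: a finite set of points of an affine open `U₀` lying in an open `O` is contained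
in a basic open of `U₀` lying in `O`. -/
theorem exists_basicOpen_of_finite {U₀ : Y.Opens} (hU₀ : IsAffineOpen U₀) (O : Y.Opens)
    (Sg : Set Y) (hfin : Sg.Finite) (h1 : Sg ⊆ (U₀ : Set Y)) (h2 : Sg ⊆ (O : Set Y)) :
    ∃ f : Γ(Y, U₀), Sg ⊆ (Y.basicOpen f : Set Y) ∧ Y.basicOpen f ≤ O := by
  classical
  let A := Γ(Y, U₀)
  let C : Set (PrimeSpectrum A) := hU₀.fromSpec ⁻¹' ((O : Set Y)ᶜ)
  have hC : IsClosed C := (O.isOpen.isClosed_compl).preimage hU₀.fromSpec.continuous
  let I : Ideal A := PrimeSpectrum.vanishingIdeal C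
  have hI : PrimeSpectrum.zeroLocus (I : Set A) = C := by
    rw [PrimeSpectrum.zeroLocus_vanishingIdeal_eq_closure, hC.closure_eq]
  let Ps : Set (PrimeSpectrum A) := hU₀.fromSpec ⁻¹' Sg
  have hPs : Ps.Finite := hfin.preimage (hU₀.fromSpec.isOpenEmbedding.injective.injOn)
  have hnot : ∀ P ∈ hPs.toFinset, ¬ I ≤ P.asIdeal := by
    intro P hP hle
    rw [Set.Finite.mem_toFinset] at hP
    have : P ∈ PrimeSpectrum.zeroLocus (I : Set A) := hle
    rw [hI] at this
    exact this (h2 hP)
  have havoid : ¬ ((I : Set A) ⊆ ⋃ P ∈ (↑hPs.toFinset : Set (PrimeSpectrum A)), P.asIdeal) := by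
    by_cases hne : hPs.toFinset.Nonempty
    · obtain ⟨P₀, hP₀⟩ := hne
      rw [Ideal.subset_union_prime (s := hPs.toFinset) (f := fun P => P.asIdeal) P₀ P₀
        (fun P _ _ _ => P.isPrime)]
      push Not
      exact hnot
    · rw [Finset.not_nonempty_iff_eq_empty] at hne
      rw [hne]
      simp only [Finset.coe_empty, Set.mem_empty_iff_false, Set.iUnion_of_empty,
        Set.iUnion_empty, Set.subset_empty_iff]
      intro h
      have : (0 : A) ∈ (I : Set A) := I.zero_mem
      rw [h] at this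
      exact this
  rw [Set.not_subset] at havoid
  obtain ⟨f, hfI, hf⟩ := havoid
  simp only [Set.mem_iUnion, not_exists] at hf
  refine ⟨f, ?_, ?_⟩
  · intro y hy
    let P := hU₀.primeIdealOf ⟨y, h1 hy⟩
    have hP : hU₀.fromSpec P = y := hU₀.fromSpec_primeIdealOf ⟨y, h1 hy⟩
    have hPmem : P ∈ hPs.toFinset := by
      rw [Set.Finite.mem_toFinset]
      show hU₀.fromSpec P ∈ Sg
      rw [hP]; exact hy
    have hfP : f ∉ P.asIdeal := hf P hPmem
    have : P ∈ (hU₀.fromSpec ⁻¹ᵁ Y.basicOpen f : (Spec Γ(Y, U₀)).Opens) := by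
      rw [hU₀.fromSpec_preimage_basicOpen]
      exact hfP
    have h3 : hU₀.fromSpec P ∈ Y.basicOpen f := this
    rwa [hP] at h3
  · intro y hy
    have hyU : y ∈ U₀ := Y.basicOpen_le f hy
    let P := hU₀.primeIdealOf ⟨y, hyU⟩
    have hP : hU₀.fromSpec P = y := hU₀.fromSpec_primeIdealOf ⟨y, hyU⟩
    have hPf : P ∈ (hU₀.fromSpec ⁻¹ᵁ Y.basicOpen f : (Spec Γ(Y, U₀)).Opens) := by
      show hU₀.fromSpec P ∈ Y.basicOpen f
      rw [hP]; exact hy
    rw [hU₀.fromSpec_preimage_basicOpen] at hPf
    have hfP : f ∉ P.asIdeal := hPf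
    by_contra hyO
    have hPC : P ∈ C := by
      show hU₀.fromSpec P ∈ (O : Set Y)ᶜ
      rw [hP]; exact hyO
    rw [← hI] at hPC
    exact hfP (hPC hfI)

end Groth.Agent.Lib.Helper4.WeilFun
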