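import Mathlib
import Groth.Agent.Lib.Helper4.WeilFun4
import Groth.Agent.Lib.Helper4.FreeNbhd

/-!
# Existence of Weil restrictions along finite locally free morphisms (helper4)

`exists_repr_wf`: for `p : Z ⟶ B` finite locally free and `q : Y ⟶ Z` such that the image of every
fibre of `T ×_B Z ⟶ T` under a section lies in an affine open of `Y`, the Weil restriction functor
of `q` along `p` is representable.
-/

set_option backward.isDefEq.respectTransparency false
set_option autoImplicit false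
set_option linter.unusedSectionVars false
set_option linter.style.haveILetI false

universe u

open CategoryTheory CategoryTheory.Limits AlgebraicGeometry Opposite

namespace Groth.Agent.Lib.Helper4.WeilFun

open Groth.Agent.Lib.Helper4.WeilResSpec

variable {B Z Y : Scheme.{u}} (p : Z ⟶ B) (q : Y ⟶ Z)

/-- every point of `B` has an affine open neighbourhood over which all affine opens of `Y` give
charts -/
theorem exists_chart_nbhd [IsFinite p] [Flat p] [LocallyOfFinitePresentation p] (b : B) :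
    ∃ V : B.Opens, b ∈ V ∧ IsAffineOpen V ∧ ∀ U : Y.Opens, IsAffineOpen U →
      U ≤ (q ≫ p) ⁻¹ᵁ V → ∃ c : Chart p q V U, IsAffine c.W.left := by
  obtain ⟨V₀, hV₀, hbV₀, -⟩ :=
    exists_isAffineOpen_mem_and_subset (X := B) (x := b) (U := ⊤) trivial
  haveI : IsAffine (V₀ : Scheme.{u}) := hV₀
  obtain ⟨U', j, u', hU'aff, hj, hju', hfree⟩ :=
    FreeNbhd.exists_free_nbhd (pV (p := p) V₀) ⟨b, hbV₀⟩
  haveI := hU'aff
  haveI := hj
  let jB : U' ⟶ B := j ≫ V₀.ι
  let V : B.Opens := jB.opensRange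
  have hbV : b ∈ V := by
    refine ⟨u', ?_⟩
    show (j ≫ V₀.ι) u' = b
    rw [Scheme.Hom.comp_apply, hju']
    rfl
  have hVaff : IsAffineOpen V := isAffineOpen_opensRange jB
  let eB : (V : Scheme.{u}) ≅ U' := jB.isoOpensRange.symm
  have heB : eB.hom ≫ jB = V.ι := jB.isoOpensRange_inv_comp
  refine ⟨V, hbV, hVaff, ?_⟩
  intro U hU hUV
  haveI : IsAffine (U : Scheme.{u}) := hU
  have hrange : Set.range (U.ι ≫ q ≫ p) ⊆ Set.range V.ι := by
    rw [Scheme.Opens.range_ι]
    rintro _ ⟨y, rfl⟩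
    have hy : U.ι y ∈ U := by
      have : U.ι y ∈ Set.range U.ι := ⟨y, rfl⟩
      rwa [Scheme.Opens.range_ι] at this
    have := hUV hy
    rw [Scheme.Hom.comp_apply]
    exact this
  let uV : (U : Scheme.{u}) ⟶ V := IsOpenImmersion.lift V.ι (U.ι ≫ q ≫ p) hrange
  have huV : uV ≫ V.ι = U.ι ≫ q ≫ p := IsOpenImmersion.lift_fac _ _ _
  -- the pullback square over `U'`
  let pV' : pullback V.ι p ⟶ U' := pV (p := p) V ≫ eB.hom
  have hw : (pV (p := p) V ≫ eB.hom ≫ j) ≫ V₀.ι = pullback.snd V.ι p ≫ p := by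
    rw [Category.assoc, Category.assoc]
    show pullback.fst V.ι p ≫ eB.hom ≫ jB = _
    rw [heB, pullback.condition]
  let top : pullback V.ι p ⟶ pullback V₀.ι p :=
    pullback.lift (pV (p := p) V ≫ eB.hom ≫ j) (pullback.snd V.ι p) hw
  have hsq : IsPullback top pV' (pV (p := p) V₀) j := by
    have hright : IsPullback (pullback.snd V₀.ι p) (pV (p := p) V₀) p V₀.ι :=
      (IsPullback.of_hasPullback V₀.ι p).flip
    have hA : IsPullback (pullback.snd V.ι p) (pV (p := p) V) p V.ι :=
      (IsPullback.of_hasPullback V.ι p).flip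
    have hbig : IsPullback (top ≫ pullback.snd V₀.ι p) pV' p (j ≫ V₀.ι) := by
      rw [pullback.lift_snd]
      refine hA.of_iso (Iso.refl _) (Iso.refl _) eB (Iso.refl _) ?_ ?_ ?_ ?_
      · simp
      · simp [pV']
      · simp
      · simp only [Iso.refl_hom, Category.comp_id]
        exact heB.symm
    refine IsPullback.of_right hbig ?_ hright
    rw [pullback.lift_fst]
    simp [pV']
  obtain ⟨n, hb⟩ := hfree (pullback V.ι p) top pV' hsq
  haveI : IsFinite pV' := by
    have : IsFinite (pV (p := p) V) := inferInstance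
    infer_instance
  haveI : IsAffine (pullback V.ι p) := isAffine_of_isAffineHom pV'
  obtain ⟨R', hR'⟩ := exists_weilRes_affine pV' (qU V U uV huV) n hb
  let R : WeilRes (pV (p := p) V) (qU V U uV huV) :=
    R'.ofIso eB (Iso.refl _) (Iso.refl _) (pV (p := p) V) (qU V U uV huV)
      (by simp [pV']) (by simp)
  refine ⟨chartOfWeilRes V U uV huV R, ?_⟩
  show IsAffine R'.W
  exact hR'

variable {p q}

/-- **Existence of the Weil restriction** (representability of the Weil restriction functor)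
along a finite locally free morphism, under a finite-sets-in-affines condition. -/
theorem exists_repr_wf [IsFinite p] [Flat p] [LocallyOfFinitePresentation p]
    (hAF : ∀ (T : Over B) (σ : (wf p q).obj (op T)) (t : T.left), ∃ U : Y.Opens, IsAffineOpen U ∧
      ∀ z : ↑(pullback T.hom p), pullback.fst T.hom p z = t → σ.left z ∈ U) :
    ∃ W₀ : Over B, Nonempty ((wf p q).RepresentableBy W₀) := by
  let ι : Type u := { VU : B.Opens × Y.Opens // Nonempty (Chart p q VU.1 VU.2) }
  apply exists_repr_of_charts (ι := ι) (fun i => i.1.1) (fun i => i.1.2)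
    (fun i => Classical.choice i.2)
  intro T σ t
  obtain ⟨V, hbV, hVaff, hV⟩ := exists_chart_nbhd p q (T.hom t)
  obtain ⟨U₀, hU₀, hU₀σ⟩ := hAF T σ t
  -- the finite set of image points
  let fib : Set ↑(pullback T.hom p) := pullback.fst T.hom p ⁻¹' {t}
  have hfib : fib.Finite := (pullback.fst T.hom p).finite_preimage_singleton t
  let Sg : Set Y := σ.left '' fib
  have hSg : Sg.Finite := hfib.image _
  have h1 : Sg ⊆ (U₀ : Set Y) := by
    rintro _ ⟨z, hz, rfl⟩
    exact hU₀σ z hz
  have h2 : Sg ⊆ (((q ≫ p) ⁻¹ᵁ V : Y.Opens) : Set Y) := by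
    rintro _ ⟨z, hz, rfl⟩
    show (q ≫ p) (σ.left z) ∈ V
    have e1 : (q ≫ p) (σ.left z) = (σ.left ≫ q ≫ p) z := (Scheme.Hom.comp_apply _ _ _).symm
    rw [e1, ← Category.assoc, σ_w σ, ← pullback.condition, Scheme.Hom.comp_apply]
    have hz' : pullback.fst T.hom p z = t := hz
    have e2 : T.hom (pullback.fst T.hom p z) = T.hom t := congrArg _ hz'
    exact e2 ▸ hbV
  obtain ⟨f, hf1, hf2⟩ := exists_basicOpen_of_finite hU₀ ((q ≫ p) ⁻¹ᵁ V) Sg hSg h1 h2
  obtain ⟨c, -⟩ := hV (Y.basicOpen f) (hU₀.basicOpen f) hf2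
  refine ⟨⟨(V, Y.basicOpen f), ⟨c⟩⟩, hbV, ?_⟩
  intro z hz
  exact hf1 ⟨z, hz, rfl⟩

end Groth.Agent.Lib.Helper4.WeilFun
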