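import Mathlib
import Groth.Agent.Lib.Helper4.WeilFun5

/-!
# Weil restriction of an affine morphism along a finite locally free morphism is affine (helper4)
-/

set_option backward.isDefEq.respectTransparency false
set_option autoImplicit false
set_option linter.unusedSectionVars false
set_option linter.style.haveILetI false

universe u

open CategoryTheory CategoryTheory.Limits AlgebraicGeometry Opposite

namespace Groth.Agent.Lib.Helper4.WeilFun

open Groth.Agent.Lib.Helper4.WeilResSpec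

variable {B Z Y : Scheme.{u}} {p : Z ⟶ B} {q : Y ⟶ Z}

theorem homEquiv_eq_map {W₀ : Over B} (e : (wf p q).RepresentableBy W₀) {T : Over B}
    (φ : T ⟶ W₀) : e.homEquiv φ = (wf p q).map φ.op (e.homEquiv (𝟙 W₀)) := by
  have := e.homEquiv_comp φ (𝟙 W₀)
  rwa [Category.comp_id] at this

/-- sections over `V` land in the preimage of `V` -/
theorem σ_mem_preimage {T : Over B} (σ : (wf p q).obj (op T)) (V : B.Opens)
    (hT : Set.range T.hom ⊆ (V : Set B)) (z : ↑(pullback T.hom p)) :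
    σ.left z ∈ (q ≫ p) ⁻¹ᵁ V := by
  show (q ≫ p) (σ.left z) ∈ V
  have e1 : (q ≫ p) (σ.left z) = (σ.left ≫ q ≫ p) z := (Scheme.Hom.comp_apply _ _ _).symm
  rw [e1, ← Category.assoc, σ_w σ, ← pullback.condition, Scheme.Hom.comp_apply]
  exact hT ⟨_, rfl⟩

/-- the part of the representing object over `V` is isomorphic to a chart over `V` with `U`
containing everything over `V` -/
theorem isAffineOpen_preimage_of_chart {W₀ : Over B} (e : (wf p q).RepresentableBy W₀)
    (V : B.Opens) (U : Y.Opens) (hUV : (q ≫ p) ⁻¹ᵁ V ≤ U) (c : Chart p q V U)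
    [IsAffine c.W.left] : IsAffineOpen (W₀.hom ⁻¹ᵁ V) := by
  let u := e.homEquiv (𝟙 W₀)
  let O : W₀.left.Opens := W₀.hom ⁻¹ᵁ V
  let WV : Over B := Over.mk (O.ι ≫ W₀.hom)
  let ιV : WV ⟶ W₀ := Over.homMk O.ι rfl
  let ξV := (wf p q).map ιV.op u
  have h1 : Set.range WV.hom ⊆ (V : Set B) := by
    rintro _ ⟨w, rfl⟩
    show (O.ι ≫ W₀.hom) w ∈ V
    rw [Scheme.Hom.comp_apply]
    have : O.ι w ∈ Set.range O.ι := ⟨w, rfl⟩
    rw [Scheme.Opens.range_ι] at this
    exact this
  have h2 : Set.range ξV.left ⊆ (U : Set Y) := by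
    rintro _ ⟨z, rfl⟩
    exact hUV (σ_mem_preimage ξV V h1 z)
  obtain ⟨β, hβ⟩ := c.lift WV ξV h1 h2
  let α : c.W ⟶ W₀ := e.homEquiv.symm c.ξ
  have hα : (wf p q).map α.op u = c.ξ := by
    rw [← homEquiv_eq_map]
    exact e.homEquiv.apply_symm_apply _
  have hαrange : Set.range α.left ⊆ Set.range O.ι := by
    rw [Scheme.Opens.range_ι]
    rintro _ ⟨w, rfl⟩
    show W₀.hom (α.left w) ∈ V
    rw [← Scheme.Hom.comp_apply, Over.w α]
    exact c.hV ⟨w, rfl⟩
  let α' : c.W.left ⟶ O := IsOpenImmersion.lift O.ι α.left hαrange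
  have hα' : α' ≫ O.ι = α.left := IsOpenImmersion.lift_fac _ _ _
  let α'' : c.W ⟶ WV := Over.homMk α' (by
    show α' ≫ O.ι ≫ W₀.hom = c.W.hom
    rw [← Category.assoc, hα', Over.w α])
  have hα'' : α'' ≫ ιV = α := Over.OverMorphism.ext hα'
  have h3 : β ≫ α = ιV := by
    apply e.homEquiv.injective
    rw [homEquiv_eq_map, homEquiv_eq_map e ιV, ← LocRep.map_map', hα, hβ]
  have h4 : α'' ≫ β = 𝟙 c.W := by
    apply c.mono
    rw [← LocRep.map_map', hβ]
    show (wf p q).map α''.op ((wf p q).map ιV.op u) = _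
    rw [LocRep.map_map', hα'', hα]
    simp
  have h5 : β.left ≫ α' = 𝟙 _ := by
    rw [← cancel_mono O.ι, Category.assoc, hα', Category.id_comp]
    exact congrArg (fun s => s.left) h3
  haveI : IsIso β.left := ⟨α', h5, congrArg (fun s => s.left) h4⟩
  exact IsAffine.of_isIso β.left

/-- **The Weil restriction of an affine morphism along a finite locally free morphism exists and
is affine over the base.** -/
theorem exists_repr_wf_affine [IsFinite p] [Flat p] [LocallyOfFinitePresentation p]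
    [IsAffineHom q] :
    ∃ W₀ : Over B, IsAffineHom W₀.hom ∧ Nonempty ((wf p q).RepresentableBy W₀) := by
  have hAF : ∀ (T : Over B) (σ : (wf p q).obj (op T)) (t : T.left), ∃ U : Y.Opens,
      IsAffineOpen U ∧ ∀ z : ↑(pullback T.hom p), pullback.fst T.hom p z = t → σ.left z ∈ U := by
    intro T σ t
    obtain ⟨V₁, hV₁, hbV₁, -⟩ :=
      exists_isAffineOpen_mem_and_subset (X := B) (x := T.hom t) (U := ⊤) trivial
    refine ⟨(q ≫ p) ⁻¹ᵁ V₁, hV₁.preimage (q ≫ p), ?_⟩
    intro z hz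
    show (q ≫ p) (σ.left z) ∈ V₁
    have e1 : (q ≫ p) (σ.left z) = (σ.left ≫ q ≫ p) z := (Scheme.Hom.comp_apply _ _ _).symm
    rw [e1, ← Category.assoc, σ_w σ, ← pullback.condition, Scheme.Hom.comp_apply]
    have e2 : T.hom (pullback.fst T.hom p z) = T.hom t := congrArg _ hz
    exact e2 ▸ hbV₁
  obtain ⟨W₀, ⟨e⟩⟩ := exists_repr_wf hAF
  refine ⟨W₀, ?_, ⟨e⟩⟩
  apply isAffineHom_of_forall_exists_isAffineOpen
  intro b
  obtain ⟨V, hbV, hVaff, hV⟩ := exists_chart_nbhd p q b
  obtain ⟨c, hc⟩ := hV ((q ≫ p) ⁻¹ᵁ V) (hVaff.preimage (q ≫ p)) le_rfl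
  haveI := hc
  exact ⟨V, hbV, hVaff, isAffineOpen_preimage_of_chart e V _ le_rfl c⟩

end Groth.Agent.Lib.Helper4.WeilFun
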