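import Mathlib
import Groth.Prelude.Def_Flatn
import Groth.Prelude.Def_Mor2
import Groth.Agent.Lib.Helper4.MorSRep
import Groth.Agent.Lib.Helper4.WeilFun6

/-!
# `Mor_S(Z, X)` for `Z` finite locally free over `S` (helper4)

* `morS_representable_affineHom`: `X ⟶ S` affine ⇒ representable by a scheme affine over `S`.
* `morS_representable_of_AF`: representable when finite sets of points in fibres of `X ⟶ S` lie in
  affine opens.
-/

set_option backward.isDefEq.respectTransparency false
set_option autoImplicit false
set_option linter.unusedSectionVars false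
set_option linter.style.haveILetI false

universe u

open CategoryTheory CategoryTheory.Limits AlgebraicGeometry Opposite

namespace Groth.Agent.Lib.Helper4.MorSRep

open Groth.Agent.Lib.Helper4.WeilResSpec Groth.Agent.Lib.Helper4.WeilFun FlatMor

theorem morS_representable_affineHom {Z X S : Scheme.{u}} (g : Z ⟶ S) (f : X ⟶ S)
    (hg : Mor2.IsFinLocFree g) [IsAffineHom f] :
    ∃ W : Over S, IsAffineHom W.hom ∧ Nonempty ((Flatn.morS g f).RepresentableBy W) := by
  obtain ⟨hfin, hflat, hfp⟩ := hg
  haveI := hfin
  haveI := hflat
  haveI := hfp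
  haveI : IsAffineHom (pullback.snd f g) := MorphismProperty.pullback_snd _ _ inferInstance
  obtain ⟨W₀, haff, ⟨e⟩⟩ := exists_repr_wf_affine (p := g) (q := pullback.snd f g)
  exact ⟨W₀, haff, ⟨repr g f (weilResOfRepr e)⟩⟩

end Groth.Agent.Lib.Helper4.MorSRep
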