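import Mathlib
import Groth.Prelude.Def_Flatn
import Groth.Prelude.Def_Mor2
import Groth.Prelude.Def_Flat
import Groth.Prelude.Def_WeilRes
import Groth.Agent.Lib.Helper4.MorSRep2

/-!
# More representability of `Mor_S(Z, X)` and Weil restrictions (helper4)

* `morS_representable_of_AF`: `Z ⟶ S` finite locally free, finite sets of points in fibres of
  `X ⟶ S` lie in affine opens.
* `exists_isWeilRes_of_isUnivHomeo`: Weil restriction along a finite locally free universal
  homeomorphism of an arbitrary scheme.
-/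

set_option backward.isDefEq.respectTransparency false
set_option autoImplicit false
set_option linter.unusedSectionVars false
set_option linter.style.haveILetI false

universe u

open CategoryTheory CategoryTheory.Limits AlgebraicGeometry Opposite

namespace Groth.Agent.Lib.Helper4.MorSRep

open Groth.Agent.Lib.Helper4.WeilResSpec Groth.Agent.Lib.Helper4.WeilFun FlatMor

theorem morS_representable_of_AF {Z X S : Scheme.{u}} (g : Z ⟶ S) (f : X ⟶ S)
    (hg : Mor2.IsFinLocFree g)
    (hAF : ∀ (s : S) (d : ℕ) (x : Fin d → ↥X), (∀ k, f (x k) = s) →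
      ∃ U : X.Opens, IsAffineOpen U ∧ ∀ k, x k ∈ U) :
    (Flatn.morS g f).IsRepresentable := by
  obtain ⟨hfin, hflat, hfp⟩ := hg
  haveI := hfin
  haveI := hflat
  haveI := hfp
  have hAF' : ∀ (T : Over S) (σ : (wf g (pullback.snd f g)).obj (op T)) (t : T.left),
      ∃ U : (pullback f g).Opens, IsAffineOpen U ∧
        ∀ z : ↑(pullback T.hom g), pullback.fst T.hom g z = t → σ.left z ∈ U := by
    intro T σ t
    let fib : Set ↑(pullback T.hom g) := pullback.fst T.hom g ⁻¹' {t}
    have hfib : fib.Finite := (pullback.fst T.hom g).finite_preimage_singleton t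
    haveI : Finite fib := hfib.to_subtype
    obtain ⟨d, ⟨en⟩⟩ := Finite.exists_equiv_fin fib
    let x : Fin d → X := fun k => pullback.fst f g (σ.left (en.symm k).1)
    have hx : ∀ k, f (x k) = T.hom t := by
      intro k
      have hz : pullback.fst T.hom g (en.symm k).1 = t := (en.symm k).2
      show f (pullback.fst f g (σ.left (en.symm k).1)) = T.hom t
      have e1 : f (pullback.fst f g (σ.left (en.symm k).1)) =
          (σ.left ≫ pullback.fst f g ≫ f) (en.symm k).1 := by
        simp only [Scheme.Hom.comp_apply]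
        rfl
      rw [e1, pullback.condition, ← Category.assoc, σ_w σ, ← pullback.condition,
        Scheme.Hom.comp_apply]
      exact congrArg _ hz
    obtain ⟨U, hU, hxU⟩ := hAF (T.hom t) d x hx
    haveI : IsAffineHom (pullback.fst f g) := MorphismProperty.pullback_fst _ _ inferInstance
    refine ⟨pullback.fst f g ⁻¹ᵁ U, hU.preimage _, ?_⟩
    intro z hz
    have hk := hxU (en ⟨z, hz⟩)
    simp only [x, Equiv.symm_apply_apply] at hk
    exact hk
  obtain ⟨W₀, ⟨e⟩⟩ := exists_repr_wf hAF'
  exact (repr g f (weilResOfRepr e)).isRepresentable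

theorem exists_isWeilRes_of_isUnivHomeo {S S' : Scheme.{u}} (f : S' ⟶ S) [IsFinite f] [Flat f]
    [LocallyOfFinitePresentation f] (hf : FlatMor.IsUnivHomeo f) (X' : Over S') :
    ∃ (R : Over S) (q : Red.bc f R ⟶ X'), WeilRes.IsWeilRes f X' R q := by
  have hAF' : ∀ (T : Over S) (σ : (wf f X'.hom).obj (op T)) (t : T.left),
      ∃ U : X'.left.Opens, IsAffineOpen U ∧
        ∀ z : ↑(pullback T.hom f), pullback.fst T.hom f z = t → σ.left z ∈ U := by
    intro T σ t
    have hhomeo : IsHomeomorph (pullback.fst T.hom f) :=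
      hf (pullback.snd T.hom f) T.hom (pullback.fst T.hom f) (IsPullback.of_hasPullback T.hom f)
    obtain ⟨z₀, hz₀⟩ := hhomeo.surjective t
    obtain ⟨U, hU, hzU, -⟩ :=
      exists_isAffineOpen_mem_and_subset (X := X'.left) (x := σ.left z₀) (U := ⊤) trivial
    refine ⟨U, hU, ?_⟩
    intro z hz
    have : z = z₀ := hhomeo.injective (hz.trans hz₀.symm)
    rw [this]
    exact hzU
  obtain ⟨W₀, ⟨e⟩⟩ := exists_repr_wf hAF'
  exact ⟨W₀, e.homEquiv (𝟙 W₀), WeilRes.IsWeilRes.of_representableBy e⟩

end Groth.Agent.Lib.Helper4.MorSRep
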