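import Mathlib
import Groth.Agent.Lib.Helper4.ExactH1b

/-!
# A mapping property passes between a group and its pseudo-torsors (helper4)

Abstract form: `C`, `D` cartesian monoidal, `F : C ⥤ D` a functor preserving binary products (`prodComparison` invertible),
`𝒮` a class of objects of `C` stable under `N ⊗ -`.  If `N` is a pseudo-torsor under the group object `G`, `N ⟶ 𝟙` is a
universally effective epimorphism (`ExactH1.EffEpi`) and the projections `F N ⊗ F Z ⟶ F Z` are epimorphisms, then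
`F.map : (Z ⟶ G) → (F Z ⟶ F G)` is bijective for all `Z ∈ 𝒮` iff `F.map : (Z ⟶ N) → (F Z ⟶ F N)` is.
-/

set_option autoImplicit false
set_option linter.unusedSectionVars false
universe v₁ u₁ v₂ u₂
open CategoryTheory MonoidalCategory CartesianMonoidalCategory MonObj GrpObj

namespace Groth.Agent.Lib.Helper4.NeronTorsor

open Groth.Agent.Lib.Helper4.ExactH1

variable {C : Type u₁} [Category.{v₁} C] [CartesianMonoidalCategory C]
variable {D : Type u₂} [Category.{v₂} D] [CartesianMonoidalCategory D]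
variable (F : C ⥤ D) [∀ A B : C, IsIso (CartesianMonoidalCategory.prodComparison F A B)]

theorem F_ext {A B : C} {T : D} (w w' : T ⟶ F.obj (A ⊗ B))
    (h1 : w ≫ F.map (fst A B) = w' ≫ F.map (fst A B))
    (h2 : w ≫ F.map (snd A B) = w' ≫ F.map (snd A B)) : w = w' := by
  rw [← cancel_mono (CartesianMonoidalCategory.prodComparison F A B)]
  apply CartesianMonoidalCategory.hom_ext
  · rw [Category.assoc, Category.assoc, CartesianMonoidalCategory.prodComparison_fst, h1]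
  · rw [Category.assoc, Category.assoc, CartesianMonoidalCategory.prodComparison_snd, h2]

/-- The morphism to `F (A ⊗ B)` with given components. -/
noncomputable def Flift {A B : C} {T : D} (x : T ⟶ F.obj A) (y : T ⟶ F.obj B) : T ⟶ F.obj (A ⊗ B) :=
  lift x y ≫ CategoryTheory.inv (CartesianMonoidalCategory.prodComparison F A B)

theorem Flift_fst {A B : C} {T : D} (x : T ⟶ F.obj A) (y : T ⟶ F.obj B) :
    Flift F x y ≫ F.map (fst A B) = x := by
  rw [Flift, Category.assoc, CartesianMonoidalCategory.inv_prodComparison_map_fst, lift_fst]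

theorem Flift_snd {A B : C} {T : D} (x : T ⟶ F.obj A) (y : T ⟶ F.obj B) :
    Flift F x y ≫ F.map (snd A B) = y := by
  rw [Flift, Category.assoc, CartesianMonoidalCategory.inv_prodComparison_map_snd, lift_snd]

theorem map_lift_eq {A B T : C} (x x' : T ⟶ A) (y y' : T ⟶ B) (hx : F.map x = F.map x')
    (hy : F.map y = F.map y') : F.map (lift x y) = F.map (lift x' y') := by
  apply F_ext
  · rw [← F.map_comp, ← F.map_comp, lift_fst, lift_fst, hx]
  · rw [← F.map_comp, ← F.map_comp, lift_snd, lift_snd, hy]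

theorem map_lift_eq_Flift {A B T : C} (x : T ⟶ A) (y : T ⟶ B) :
    F.map (lift x y) = Flift F (F.map x) (F.map y) := by
  apply F_ext
  · rw [← F.map_comp, lift_fst, Flift_fst]
  · rw [← F.map_comp, lift_snd, Flift_snd]

variable {G N : C} [GrpObj G] (a : G ⊗ N ⟶ N) (hone : (η[G] ▷ N) ≫ a = (λ_ N).hom)
  (hmul : (μ[G] ▷ N) ≫ a = (α_ G G N).hom ≫ (G ◁ a) ≫ a) [IsIso (lift a (snd G N))]

/-- The universal test object for independence of the `N`-coordinate. -/
theorem indep_of_universal {Z A : C} (m : N ⊗ Z ⟶ A)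
    (h : lift (fst N (N ⊗ Z)) (snd N (N ⊗ Z) ≫ snd N Z) ≫ m =
      lift (snd N (N ⊗ Z) ≫ fst N Z) (snd N (N ⊗ Z) ≫ snd N Z) ≫ m) :
    ∀ (W : C) (x₁ x₂ : W ⟶ N) (t : W ⟶ Z), lift x₁ t ≫ m = lift x₂ t ≫ m := by
  intro W x₁ x₂ t
  have e1 : lift x₁ t = lift x₁ (lift x₂ t) ≫ lift (fst N (N ⊗ Z)) (snd N (N ⊗ Z) ≫ snd N Z) := by
    apply CartesianMonoidalCategory.hom_ext <;> simp
  have e2 : lift x₂ t = lift x₁ (lift x₂ t) ≫
      lift (snd N (N ⊗ Z) ≫ fst N Z) (snd N (N ⊗ Z) ≫ snd N Z) := by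
    apply CartesianMonoidalCategory.hom_ext <;> simp
  rw [e1, Category.assoc, h, ← Category.assoc, ← e2]

include hone hmul in
theorem inj_N_of_inj_G {Z : C}
    (hG : Function.Injective (fun g : Z ⟶ G => F.map g)) :
    Function.Injective (fun p : Z ⟶ N => F.map p) := by
  intro p p' hpp
  have hpp' : F.map p = F.map p' := hpp
  have h1 : F.map (lift p p' ≫ divMap a) = F.map (1 : Z ⟶ G) := by
    rw [← divMap_self a hone p', F.map_comp, F.map_comp, map_lift_eq F p p' p' p' hpp' rfl]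
  have h2 : lift p p' ≫ divMap a = 1 := hG h1
  have h3 := act_divMap a p p'
  rw [h2, one_pt a hone] at h3
  exact h3.symm

include hmul in
theorem inj_G_of_inj_N (hE : EffEpi N) {Z : C}
    (hN : Function.Injective (fun p : N ⊗ Z ⟶ N => F.map p)) :
    Function.Injective (fun g : Z ⟶ G => F.map g) := by
  intro v v' hvv
  have hvv' : F.map v = F.map v' := hvv
  have h1 : F.map (lift (snd N Z ≫ v) (fst N Z) ≫ a) = F.map (lift (snd N Z ≫ v') (fst N Z) ≫ a) := by
    rw [F.map_comp, F.map_comp]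
    congr 1
    apply map_lift_eq F _ _ _ _ _ rfl
    rw [F.map_comp, F.map_comp, hvv']
  have h2 : lift (snd N Z ≫ v) (fst N Z) ≫ a = lift (snd N Z ≫ v') (fst N Z) ≫ a := hN h1
  obtain ⟨g₀, _, huniq⟩ := existsUnique_act a (lift (snd N Z ≫ v) (fst N Z) ≫ a) (fst N Z)
  have h3 : snd N Z ≫ v = snd N Z ≫ v' := by
    rw [huniq (snd N Z ≫ v) rfl, huniq (snd N Z ≫ v') h2.symm]
  have := hE.epi_snd Z
  exact (cancel_epi (snd N Z)).mp h3

include hone hmul in
theorem surj_N_of_bij_G (hE : EffEpi N) (hepi : ∀ Z : C, Epi (F.map (snd N Z))) {Z : C}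
    (hGs : Function.Surjective (fun g : N ⊗ Z ⟶ G => F.map g))
    (hGi : Function.Injective (fun g : N ⊗ (N ⊗ Z) ⟶ G => F.map g)) :
    Function.Surjective (fun p : Z ⟶ N => F.map p) := by
  intro u₀
  have hNi := inj_N_of_inj_G F a hone hmul hGi
  -- the division on the `F`-side
  obtain ⟨c₀, hc₀⟩ : ∃ c₀ : F.obj (N ⊗ Z) ⟶ F.obj (N ⊗ N),
      c₀ = Flift F (F.map (snd N Z) ≫ u₀) (F.map (fst N Z)) := ⟨_, rfl⟩
  obtain ⟨g, hg⟩ := hGs (c₀ ≫ F.map (divMap a))
  have hg' : F.map g = c₀ ≫ F.map (divMap a) := hg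
  obtain ⟨m, hm⟩ : ∃ m : N ⊗ Z ⟶ N, m = lift g (fst N Z) ≫ a := ⟨_, rfl⟩
  have hshear_a : CategoryTheory.inv (lift a (snd G N)) ≫ a = fst N N := by
    rw [IsIso.inv_comp_eq, lift_fst]
  have hshear_snd : CategoryTheory.inv (lift a (snd G N)) ≫ snd G N = snd N N := by
    rw [IsIso.inv_comp_eq, lift_snd]
  have h1 : F.map (lift g (fst N Z)) = c₀ ≫ F.map (CategoryTheory.inv (lift a (snd G N))) := by
    apply F_ext
    · rw [← F.map_comp, lift_fst, hg', Category.assoc, ← F.map_comp]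
      rfl
    · rw [← F.map_comp, lift_snd, Category.assoc, ← F.map_comp, hshear_snd, hc₀, Flift_snd]
  have hFm : F.map m = F.map (snd N Z) ≫ u₀ := by
    rw [hm, F.map_comp, h1, Category.assoc, ← F.map_comp, hshear_a, hc₀, Flift_fst]
  -- descend `m`
  have hind : ∀ (W : C) (x₁ x₂ : W ⟶ N) (t : W ⟶ Z), lift x₁ t ≫ m = lift x₂ t ≫ m := by
    apply indep_of_universal
    apply hNi
    show F.map (_ ≫ m) = F.map (_ ≫ m)
    rw [F.map_comp, F.map_comp, hFm, ← Category.assoc, ← Category.assoc, ← F.map_comp, ← F.map_comp,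
      lift_snd, lift_snd]
  obtain ⟨p, hp, -⟩ := hE Z N m hind
  refine ⟨p, ?_⟩
  show F.map p = u₀
  have := hepi Z
  rw [← cancel_epi (F.map (snd N Z)), ← F.map_comp, hp, hFm]

include hone hmul in
theorem surj_G_of_bij_N (hE : EffEpi N) (hepi : ∀ Z : C, Epi (F.map (snd N Z))) {Z : C}
    (hNs : Function.Surjective (fun p : N ⊗ Z ⟶ N => F.map p))
    (hNi : Function.Injective (fun p : N ⊗ (N ⊗ (N ⊗ Z)) ⟶ N => F.map p)) :
    Function.Surjective (fun g : Z ⟶ G => F.map g) := by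
  intro v₀
  have hGi := inj_G_of_inj_N F a hmul hE hNi
  obtain ⟨c₀, hc₀⟩ : ∃ c₀ : F.obj (N ⊗ Z) ⟶ F.obj (G ⊗ N),
      c₀ = Flift F (F.map (snd N Z) ≫ v₀) (F.map (fst N Z)) := ⟨_, rfl⟩
  obtain ⟨w, hw⟩ := hNs (c₀ ≫ F.map a)
  have hw' : F.map w = c₀ ≫ F.map a := hw
  obtain ⟨g, hg⟩ : ∃ g : N ⊗ Z ⟶ G, g = lift w (fst N Z) ≫ divMap a := ⟨_, rfl⟩
  have h1 : F.map (lift w (fst N Z)) = c₀ ≫ F.map (lift a (snd G N)) := by
    apply F_ext
    · rw [← F.map_comp, lift_fst, hw', Category.assoc, ← F.map_comp, lift_fst]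
    · rw [← F.map_comp, lift_snd, Category.assoc, ← F.map_comp, lift_snd, hc₀, Flift_snd]
  have hdiv : lift a (snd G N) ≫ divMap a = fst G N := by
    rw [divMap, IsIso.hom_inv_id_assoc]
  have hFg : F.map g = F.map (snd N Z) ≫ v₀ := by
    rw [hg, F.map_comp, h1, Category.assoc, ← F.map_comp, hdiv, hc₀, Flift_fst]
  have hind : ∀ (W : C) (x₁ x₂ : W ⟶ N) (t : W ⟶ Z), lift x₁ t ≫ g = lift x₂ t ≫ g := by
    apply indep_of_universal
    apply hGi
    show F.map (_ ≫ g) = F.map (_ ≫ g)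
    rw [F.map_comp, F.map_comp, hFg, ← Category.assoc, ← Category.assoc, ← F.map_comp, ← F.map_comp,
      lift_snd, lift_snd]
  obtain ⟨v, hv, -⟩ := hE Z G g hind
  refine ⟨v, ?_⟩
  show F.map v = v₀
  have := hepi Z
  rw [← cancel_epi (F.map (snd N Z)), ← F.map_comp, hv, hFg]

include hone hmul in
/-- The mapping property passes between `G` and its pseudo-torsor `N`. -/
theorem bijective_iff (𝒮 : C → Prop) (h𝒮 : ∀ Z, 𝒮 Z → 𝒮 (N ⊗ Z)) (hE : EffEpi N)
    (hepi : ∀ Z : C, Epi (F.map (snd N Z))) :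
    (∀ Z : C, 𝒮 Z → Function.Bijective (fun g : Z ⟶ G => F.map g)) ↔
      (∀ Z : C, 𝒮 Z → Function.Bijective (fun p : Z ⟶ N => F.map p)) := by
  constructor
  · intro hG Z hZ
    exact ⟨inj_N_of_inj_G F a hone hmul (hG Z hZ).1,
      surj_N_of_bij_G F a hone hmul hE hepi (hG _ (h𝒮 Z hZ)).2 (hG _ (h𝒮 _ (h𝒮 Z hZ))).1⟩
  · intro hN Z hZ
    exact ⟨inj_G_of_inj_N F a hmul hE (hN _ (h𝒮 Z hZ)).1,
      surj_G_of_bij_N F a hone hmul hE hepi (hN _ (h𝒮 Z hZ)).2
        (hN _ (h𝒮 _ (h𝒮 _ (h𝒮 Z hZ)))).1⟩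

end Groth.Agent.Lib.Helper4.NeronTorsor
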