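import Mathlib
import Groth.Agent.Lib.Helper4.NeronTorsor
import Groth.Agent.Lib.Helper4.QuotSection

/-!
# A mapping property passes to torsors over a base with the property (helper4)

Abstract form: `F : C ⥤ D` product preserving, `G'` a group object acting on `P`, `π : P ⟶ B` with the square
`(a, snd; π, π)` cartesian and preserved by `F`.

* `inj_P`: injectivity of `F.map` on `Hom(Z, B)` and `Hom(Z, G')` gives injectivity on `Hom(Z, P)`.
* `surj_P`: a morphism `u₀ : F Z ⟶ F P` whose image in `F B` is `F w` comes from `Z ⟶ P`, given surjectivity of `F.map` on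
  `Hom(E, G')` for `E = Z ×_B P`, injectivity on `Hom(E ×_Z E, P)`, descent along `E ⟶ Z` and `F (E ⟶ Z)` epi.
* `isPullback_translation_of_isKernel`: for `i = ker q`, left translation of `N` on `G` makes `q` a pseudo-torsor.
-/

set_option autoImplicit false
set_option linter.unusedSectionVars false
universe v₁ u₁ v₂ u₂
open CategoryTheory MonoidalCategory CartesianMonoidalCategory MonObj GrpObj

namespace Groth.Agent.Lib.Helper4.NeronExt

open Groth.Agent.Lib.Helper4.ExactH1 Groth.Agent.Lib.Helper4.NeronTorsor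
  Groth.Agent.Lib.Helper4.QuotSection Limits

variable {C : Type u₁} [Category.{v₁} C] [CartesianMonoidalCategory C]

section Kernel

variable {N G Q : C} [GrpObj N] [GrpObj G] [GrpObj Q]

theorem isPullback_translation_of_isKernel (i : N ⟶ G) [IsMonHom i] (q : G ⟶ Q) [IsMonHom q]
    (hker : IsPullback i (toUnit N) q η[Q]) :
    IsPullback ((i ▷ G) ≫ μ[G]) (snd N G) q q := by
  have hpt : ∀ {T : C} (n : T ⟶ N) (g : T ⟶ G), lift n g ≫ (i ▷ G) ≫ μ[G] = (n ≫ i) * g := by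
    intro T n g
    rw [Hom.mul_def, ← Category.assoc]
    congr 1
    apply CartesianMonoidalCategory.hom_ext <;> simp
  have hiq : ∀ {T : C} (n : T ⟶ N), (n ≫ i) ≫ q = 1 := by
    intro T n
    rw [Category.assoc, hker.w, ← Category.assoc, Hom.one_def]
    congr 1
    exact toUnit_unique _ _
  have hw : ((i ▷ G) ≫ μ[G]) ≫ q = snd N G ≫ q := by
    have e : (i ▷ G) ≫ μ[G] = lift (fst N G) (snd N G) ≫ (i ▷ G) ≫ μ[G] := by
      rw [lift_fst_snd, Category.id_comp]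
    rw [e, hpt, MonObj.mul_comp, hiq, _root_.one_mul]
  have huniv : ∀ s : PullbackCone q q, ∃ l : s.pt ⟶ N ⊗ G, l ≫ (i ▷ G) ≫ μ[G] = s.fst ∧
      l ≫ snd N G = s.snd ∧
      ∀ {m : s.pt ⟶ N ⊗ G}, m ≫ (i ▷ G) ≫ μ[G] = s.fst → m ≫ snd N G = s.snd → m = l := by
    intro s
    have hs : s.fst ≫ q = s.snd ≫ q := s.condition
    have h1 : (s.fst * s.snd⁻¹) ≫ q = toUnit s.pt ≫ η[Q] := by
      rw [MonObj.mul_comp, GrpObj.inv_comp, hs, mul_inv_cancel, Hom.one_def]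
    set n := hker.lift (s.fst * s.snd⁻¹) (toUnit s.pt) h1 with hn
    have hn1 : n ≫ i = s.fst * s.snd⁻¹ := hker.lift_fst _ _ _
    refine ⟨lift n s.snd, ?_, lift_snd _ _, fun {m} hm1 hm2 => ?_⟩
    · rw [hpt, hn1, inv_mul_cancel_right]
    · have em : m = lift (m ≫ fst N G) s.snd := by
        apply CartesianMonoidalCategory.hom_ext <;> simp [hm2]
      have h2 : ((m ≫ fst N G) ≫ i) * s.snd = s.fst := by rw [← hpt, ← em, hm1]
      have h3 : (m ≫ fst N G) ≫ i = n ≫ i := by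
        rw [hn1, ← h2, mul_inv_cancel_right]
      have h4 : m ≫ fst N G = n := hker.hom_ext h3 (toUnit_unique _ _)
      rw [em, h4]
  exact ⟨⟨hw⟩, ⟨PullbackCone.isLimitAux' _ (fun s =>
    ⟨(huniv s).choose, (huniv s).choose_spec⟩)⟩⟩

end Kernel

variable {D : Type u₂} [Category.{v₂} D] [CartesianMonoidalCategory D]
variable (F : C ⥤ D) [∀ A B : C, IsIso (CartesianMonoidalCategory.prodComparison F A B)]
variable {G' P B : C} [GrpObj G'] (a : G' ⊗ P ⟶ P) (hone : (η[G'] ▷ P) ≫ a = (λ_ P).hom) (π : P ⟶ B)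
  (hsq : IsPullback a (snd G' P) π π)
  (hFsq : IsPullback (F.map a) (F.map (snd G' P)) (F.map π) (F.map π))

include hone hsq hFsq in
theorem inj_P {Z : C} (hB : Function.Injective (fun w : Z ⟶ B => F.map w))
    (hG : Function.Injective (fun g : Z ⟶ G' => F.map g)) :
    Function.Injective (fun p : Z ⟶ P => F.map p) := by
  intro p₁ p₂ hpp
  have hpp' : F.map p₁ = F.map p₂ := hpp
  have hπ : p₁ ≫ π = p₂ ≫ π := hB (by
    show F.map (p₁ ≫ π) = F.map (p₂ ≫ π)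
    rw [F.map_comp, F.map_comp, hpp'])
  obtain ⟨g, hg, -⟩ := existsUnique_of_quot a π hsq p₁ p₂ hπ
  have h1 : F.map (lift g p₂) = F.map (lift (1 : Z ⟶ G') p₂) := by
    apply hFsq.hom_ext
    · rw [← F.map_comp, ← F.map_comp, hg, one_pt a hone, hpp']
    · rw [← F.map_comp, ← F.map_comp, lift_snd, lift_snd]
  have h2 : F.map g = F.map (1 : Z ⟶ G') := by
    have := congrArg (fun k => k ≫ F.map (fst G' P)) h1
    simpa [← F.map_comp] using this
  have h3 : g = 1 := hG h2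
  rw [← hg, h3, one_pt a hone]

include hFsq in
theorem surj_P {Z E K : C} (w : Z ⟶ B) (prP : E ⟶ P) (prZ : E ⟶ Z) (hE : IsPullback prP prZ π w)
    (u₀ : F.obj Z ⟶ F.obj P) (hw : F.map w = u₀ ≫ F.map π)
    (hGs : Function.Surjective (fun g : E ⟶ G' => F.map g))
    (k₁ k₂ : K ⟶ E) (hK : k₁ ≫ prZ = k₂ ≫ prZ)
    (hPiK : Function.Injective (fun p : K ⟶ P => F.map p))
    (hdesc : ∀ m : E ⟶ P, k₁ ≫ m = k₂ ≫ m → ∃ u : Z ⟶ P, prZ ≫ u = m)
    (hepi : Epi (F.map prZ)) : ∃ u : Z ⟶ P, F.map u = u₀ := by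
  have hcomm : (F.map prZ ≫ u₀) ≫ F.map π = F.map prP ≫ F.map π := by
    rw [Category.assoc, ← hw, ← F.map_comp, ← F.map_comp, hE.w]
  obtain ⟨c₀, hc₀⟩ : ∃ c₀ : F.obj E ⟶ F.obj (G' ⊗ P), c₀ = hFsq.lift (F.map prZ ≫ u₀) (F.map prP) hcomm :=
    ⟨_, rfl⟩
  have hc1 : c₀ ≫ F.map a = F.map prZ ≫ u₀ := by rw [hc₀]; exact hFsq.lift_fst _ _ _
  have hc2 : c₀ ≫ F.map (snd G' P) = F.map prP := by rw [hc₀]; exact hFsq.lift_snd _ _ _
  obtain ⟨g, hg⟩ := hGs (c₀ ≫ F.map (fst G' P))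
  have hg' : F.map g = c₀ ≫ F.map (fst G' P) := hg
  obtain ⟨m, hm⟩ : ∃ m : E ⟶ P, m = lift g prP ≫ a := ⟨_, rfl⟩
  have h1 : F.map (lift g prP) = c₀ := by
    apply F_ext
    · rw [← F.map_comp, lift_fst, hg']
    · rw [← F.map_comp, lift_snd, hc2]
  have hFm : F.map m = F.map prZ ≫ u₀ := by rw [hm, F.map_comp, h1, hc1]
  have hk : k₁ ≫ m = k₂ ≫ m := by
    apply hPiK
    show F.map (k₁ ≫ m) = F.map (k₂ ≫ m)
    rw [F.map_comp, F.map_comp, hFm, ← Category.assoc, ← Category.assoc, ← F.map_comp, ← F.map_comp, hK]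
  obtain ⟨u, hu⟩ := hdesc m hk
  refine ⟨u, ?_⟩
  rw [← cancel_epi (F.map prZ), ← F.map_comp, hu, hFm]

end Groth.Agent.Lib.Helper4.NeronExt
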