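import Mathlib
import Groth.Prelude.Def_NonAbH2
import Groth.Prelude.Def_ChGrp
import Groth.Agent.Lib.Helper4.NeronExt
import Groth.Agent.Lib.Helper4.TorsorGeomQuot
import Groth.Agent.Lib.Helper4.GrpQuotDesc
import Groth.Agent.Lib.Helper18.LfpCancel

/-!
# The Néron mapping property for an extension of smooth group schemes (helper4)
-/

set_option autoImplicit false
set_option linter.style.haveILetI false
set_option backward.isDefEq.respectTransparency false
universe u
open CategoryTheory MonoidalCategory CartesianMonoidalCategory MonObj GrpObj AlgebraicGeometry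
open CategoryTheory.Limits

namespace Groth.Agent.Lib.Helper4.NeronExtSch

/-- A flat, surjective, locally finitely presented morphism has sections fpqc-locally (over itself). -/
theorem isLocallyTrivialFor_self_fppf {X Y : Scheme.{u}} (f : X ⟶ Y) [Flat f] [Surjective f]
    [LocallyOfFinitePresentation f] :
    NonAbH1.IsLocallyTrivialFor Scheme.fpqcPrecoverage (Over.mk f : Over Y) := by
  refine ⟨Presieve.singleton f,
    Scheme.fppfPrecoverage_le_fpqcPrecoverage Y f.singleton_mem_fppfPrecoverage, ?_⟩
  rintro S' g ⟨⟩
  exact ⟨𝟙 _, Category.id_comp _⟩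

/-- The base change functor `Over S ⥤ Over η` turns a morphism into a base change of it. -/
theorem isPullback_pullback_map_left {S T₀ : Scheme.{u}} (j : T₀ ⟶ S) {A B : Over S} (g : A ⟶ B) :
    IsPullback ((Over.pullback j).map g).left (pullback.fst A.hom j) (pullback.fst B.hom j) g.left := by
  have h1 : ((Over.pullback j).map g).left ≫ pullback.fst B.hom j = pullback.fst A.hom j ≫ g.left := by
    simp
  have h2 : ((Over.pullback j).map g).left ≫ pullback.snd B.hom j = pullback.snd A.hom j := by
    simp
  have right : IsPullback (pullback.snd B.hom j) (pullback.fst B.hom j) j B.hom :=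
    (IsPullback.of_hasPullback B.hom j).flip
  have big : IsPullback (((Over.pullback j).map g).left ≫ pullback.snd B.hom j) (pullback.fst A.hom j) j
      (g.left ≫ B.hom) := by
    rw [h2, Over.w g]
    exact (IsPullback.of_hasPullback A.hom j).flip
  exact IsPullback.of_right big h1 right

theorem epi_pullback_map {S T₀ : Scheme.{u}} (j : T₀ ⟶ S) {A B : Over S} (g : A ⟶ B)
    [Flat g.left] [Surjective g.left] : Epi ((Over.pullback j).map g) := by
  have sq := (isPullback_pullback_map_left j g).flip
  haveI : Flat ((Over.pullback j).map g).left := MorphismProperty.of_isPullback (P := @Flat) sq inferInstance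
  haveI : Surjective ((Over.pullback j).map g).left :=
    MorphismProperty.of_isPullback (P := @Surjective) sq inferInstance
  haveI : Epi ((Over.pullback j).map g).left := Flat.epi_of_flat_of_surjective _
  exact Over.epi_of_epi_left _

theorem neron_of_extension {S T₀ : Scheme.{u}} (j : T₀ ⟶ S) (G' G G'' : Over S)
    [GrpObj G'] [GrpObj G] [GrpObj G'']
    [Smooth G'.hom] [Smooth G.hom] [Smooth G''.hom]
    (i : G' ⟶ G) (q : G ⟶ G'') [IsMonHom i] [IsMonHom q]
    (hker : AlgGrp.IsKernel i q) [Flat q.left] [Surjective q.left]
    (hG' : ∀ Y : Over S, Smooth Y.hom →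
        Function.Bijective (fun g : Y ⟶ G' => (Over.pullback j).map g))
    (hG'' : ∀ Y : Over S, Smooth Y.hom →
        Function.Bijective (fun g : Y ⟶ G'' => (Over.pullback j).map g)) :
    ∀ Y : Over S, Smooth Y.hom →
        Function.Bijective (fun g : Y ⟶ G => (Over.pullback j).map g) := by
  -- the translation action and the torsor structure of `q`
  let act : AlgGrp.Action G' G := (NonAbH1.trivialAction G).restrict i
  have hact : act.act = (i ▷ G) ≫ μ[G] := rfl
  have hsq : IsPullback act.act (snd G' G) q q := by
    rw [hact]
    exact NeronExt.isPullback_translation_of_isKernel i q hker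
  have hFsq := hsq.map (Over.pullback j)
  haveI : LocallyOfFinitePresentation q.left :=
    Groth.Agent.Lib.Helper18.RelSmoothFiber.locallyOfFinitePresentation_of_comp q.left G''.hom
      inferInstance (by rw [Over.w q]; infer_instance)
  have hlocq := isLocallyTrivialFor_self_fppf q.left
  haveI hqsm : Smooth q.left :=
    TorsorGeomQuot.prop_of_torsor act q @Smooth hsq hlocq (inferInstance : Smooth G'.hom)
  intro Y hY
  refine ⟨NeronExt.inj_P (Over.pullback j) act.act act.one_act q hsq hFsq (hG'' Y hY).1 (hG' Y hY).1, ?_⟩
  intro u₀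
  obtain ⟨w, hw⟩ := (hG'' Y hY).2 (u₀ ≫ (Over.pullback j).map q)
  have hw' : (Over.pullback j).map w = u₀ ≫ (Over.pullback j).map q := hw
  -- the fibre product `E = Y ×_{G''} G`
  have hE : IsPullback (pullback.fst q w) (pullback.snd q w) q w := IsPullback.of_hasPullback q w
  have sqE := hE.map (Over.forget S)
  have sqE' : IsPullback (pullback.fst q w).left (pullback.snd q w).left q.left w.left := sqE
  haveI hprZsm : Smooth (pullback.snd q w).left := MorphismProperty.of_isPullback (P := @Smooth) sqE' hqsm
  haveI : Surjective (pullback.snd q w).left :=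
    MorphismProperty.of_isPullback (P := @Surjective) sqE' inferInstance
  have hEsm : Smooth (pullback q w).hom := by
    rw [← Over.w (pullback.snd q w)]
    infer_instance
  -- the kernel pair `K = E ×_Y E`
  have hK : IsPullback (pullback.fst (pullback.snd q w) (pullback.snd q w))
      (pullback.snd (pullback.snd q w) (pullback.snd q w)) (pullback.snd q w) (pullback.snd q w) :=
    IsPullback.of_hasPullback _ _
  have sqK := hK.map (Over.forget S)
  have sqK' : IsPullback (pullback.fst (pullback.snd q w) (pullback.snd q w)).left
      (pullback.snd (pullback.snd q w) (pullback.snd q w)).left (pullback.snd q w).left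
      (pullback.snd q w).left := sqK
  haveI : Smooth (pullback.snd (pullback.snd q w) (pullback.snd q w)).left :=
    MorphismProperty.of_isPullback (P := @Smooth) sqK' hprZsm
  have hKsm : Smooth (pullback (pullback.snd q w) (pullback.snd q w)).hom := by
    rw [← Over.w (pullback.snd (pullback.snd q w) (pullback.snd q w)), ← Over.w (pullback.snd q w)]
    infer_instance
  have hPiK := NeronExt.inj_P (Over.pullback j) act.act act.one_act q hsq hFsq (hG'' _ hKsm).1 (hG' _ hKsm).1
  -- descent along `E ⟶ Y`
  have hdesc : ∀ m : pullback q w ⟶ G,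
      pullback.fst (pullback.snd q w) (pullback.snd q w) ≫ m =
        pullback.snd (pullback.snd q w) (pullback.snd q w) ≫ m →
      ∃ u : Y ⟶ G, pullback.snd q w ≫ u = m := by
    intro m hm
    have hm' : ∀ (W : Scheme.{u}) (x₁ x₂ : W ⟶ (pullback q w).left),
        x₁ ≫ (pullback.snd q w).left = x₂ ≫ (pullback.snd q w).left → x₁ ≫ m.left = x₂ ≫ m.left := by
      intro W x₁ x₂ hx
      have e1 : sqK'.lift x₁ x₂ hx ≫ (pullback.fst (pullback.snd q w) (pullback.snd q w)).left = x₁ :=
        sqK'.lift_fst _ _ _
      have e2 : sqK'.lift x₁ x₂ hx ≫ (pullback.snd (pullback.snd q w) (pullback.snd q w)).left = x₂ :=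
        sqK'.lift_snd _ _ _
      have e3 := congrArg Over.Hom.left hm
      rw [Over.comp_left, Over.comp_left] at e3
      rw [← e1, Category.assoc, e3, ← Category.assoc, e2]
    obtain ⟨z, hz, -⟩ := GrpQuotDesc.existsUnique_desc_of_isLocallyTrivialFor (pullback.snd q w).left
      (isLocallyTrivialFor_self_fppf (pullback.snd q w).left) m.left hm'
    haveI : Epi (pullback.snd q w).left := Flat.epi_of_flat_of_surjective _
    have hzG : z ≫ G.hom = Y.hom := by
      rw [← cancel_epi (pullback.snd q w).left, ← Category.assoc, hz, Over.w m, Over.w (pullback.snd q w)]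
    refine ⟨Over.homMk z hzG, ?_⟩
    ext
    exact hz
  have hepi : Epi ((Over.pullback j).map (pullback.snd q w)) := epi_pullback_map j _
  exact NeronExt.surj_P (Over.pullback j) act.act q hFsq w (pullback.fst q w) (pullback.snd q w) hE u₀ hw'
    (hG' _ hEsm).2 _ _ hK.w hPiK hdesc hepi

end Groth.Agent.Lib.Helper4.NeronExtSch
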