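import Mathlib
import Groth.Prelude.Def_NonAbH2
import Groth.Agent.Lib.Helper4.NeronTorsor
import Groth.Agent.Lib.Helper4.SheafGlue

/-!
# The Néron mapping property passes between a smooth group scheme and its smooth surjective pseudo-torsors (helper4)
-/

set_option autoImplicit false
set_option linter.style.haveILetI false
set_option backward.isDefEq.respectTransparency false
universe u
open CategoryTheory MonoidalCategory CartesianMonoidalCategory MonObj GrpObj AlgebraicGeometry
open CategoryTheory.Limits

namespace Groth.Agent.Lib.Helper4.NeronTorsorSch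

/-- A flat, locally finitely presented, surjective `S`-scheme satisfies the elementary effective-epimorphism property. -/
theorem effEpi_of_fppf {S : Scheme.{u}} (N : Over S) [Flat N.hom] [LocallyOfFinitePresentation N.hom]
    [Surjective N.hom] : ExactH1.EffEpi N := by
  apply SheafGlue.effEpi_of_isLocallyTrivialFor
  refine ⟨Presieve.singleton N.hom,
    Scheme.fppfPrecoverage_le_fpqcPrecoverage S N.hom.singleton_mem_fppfPrecoverage, ?_⟩
  rintro S' f ⟨⟩
  exact ⟨𝟙 _, Category.id_comp _⟩

theorem neron_iff {S : Scheme.{u}} (S₀ : S.Opens) (G N : Over S) [GrpObj G] [Smooth N.hom]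
    [Surjective N.hom] (a : AlgGrp.Action G N) (ha : NonAbH1.IsPseudoTorsorSch a) :
    (∀ Z : Over S, Smooth Z.hom → Function.Bijective (fun g : Z ⟶ G => (Over.pullback S₀.ι).map g)) ↔
    (∀ Z : Over S, Smooth Z.hom → Function.Bijective (fun g : Z ⟶ N => (Over.pullback S₀.ι).map g)) := by
  haveI : IsIso (lift a.act (snd G N)) := ha
  have hE : ExactH1.EffEpi N := effEpi_of_fppf N
  have hE₀ : ExactH1.EffEpi ((Over.pullback S₀.ι).obj N) := by
    haveI : Smooth ((Over.pullback S₀.ι).obj N).hom := by
      show Smooth (pullback.snd N.hom S₀.ι)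
      infer_instance
    haveI : Surjective ((Over.pullback S₀.ι).obj N).hom := by
      show Surjective (pullback.snd N.hom S₀.ι)
      infer_instance
    exact effEpi_of_fppf _
  have hepi : ∀ Z : Over S, Epi ((Over.pullback S₀.ι).map (snd N Z)) := by
    intro Z
    rw [← CartesianMonoidalCategory.prodComparison_snd]
    have := hE₀.epi_snd ((Over.pullback S₀.ι).obj Z)
    infer_instance
  have h𝒮 : ∀ Z : Over S, Smooth Z.hom → Smooth (N ⊗ Z).hom := by
    intro Z hZ
    rw [Over.tensorObj_hom]
    infer_instance
  exact NeronTorsor.bijective_iff (Over.pullback S₀.ι) a.act a.one_act a.mul_act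
    (fun Z : Over S => Smooth Z.hom) h𝒮 hE hepi

end Groth.Agent.Lib.Helper4.NeronTorsorSch
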