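import Mathlib
import Groth.Agent.Lib.Helper4.AssocBundle3
import Groth.Agent.Lib.Helper4.DescEtale
import Groth.Agent.Lib.Helper4.FlatDescends
import Groth.Agent.Lib.Helper14.TorsorSq

/-!
# Morphisms induced on principal bundle quotients of `X × U` (helper4)

For an equivariant `f : X ⟶ Y` and principal bundle quotients `qX : X ⊗ U ⟶ XG`, `qY : Y ⊗ U ⟶ YG` (diagonal actions) with
`fG : XG ⟶ YG` compatible:

* `isPullback_whiskerRight_fst`: `X ⊗ U` is the pullback of `Y ⊗ U` along `f`.
* `isPullback_quot`: the square `(f ▷ U, qX; qY, fG)` is cartesian (helper14's torsor square lemma).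
* `prop_quot`: a property stable under base change which descends along fpqc morphisms passes from `f` to `fG`;
  `isProper_quot`.
-/

set_option autoImplicit false
set_option backward.isDefEq.respectTransparency false
set_option linter.style.haveILetI false
universe u
open CategoryTheory CategoryTheory.Limits MonoidalCategory CartesianMonoidalCategory MonObj GrpObj AlgebraicGeometry

namespace Groth.Agent.Lib.Helper4.PBQuotMor

open AlgGrp.Action

theorem isPullback_whiskerRight_fst {C : Type*} [Category C] [CartesianMonoidalCategory C] (U : C) {A B : C}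
    (f : A ⟶ B) : IsPullback (f ▷ U) (fst A U) (fst B U) f := by
  refine ⟨⟨whiskerRight_fst _ _⟩, ⟨PullbackCone.IsLimit.mk _ (fun s => lift s.snd (s.fst ≫ snd B U)) ?_ ?_ ?_⟩⟩
  · intro s
    apply CartesianMonoidalCategory.hom_ext
    · rw [Category.assoc, whiskerRight_fst, lift_fst_assoc, s.condition]
    · rw [Category.assoc, whiskerRight_snd, lift_snd]
  · intro s
    exact lift_fst _ _
  · intro s m h1 h2
    apply CartesianMonoidalCategory.hom_ext
    · rw [lift_fst, h2]
    · rw [lift_snd, ← h1, Category.assoc, whiskerRight_snd]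

variable {S : Scheme.{u}} {G X Y U XG YG : Over S} [GrpObj G]
  (a : AlgGrp.Action G X) (aY : AlgGrp.Action G Y) (b : AlgGrp.Action G U)
  (f : X ⟶ Y) (hf : AlgGrp.Action.IsEquivariant a aY f)

include hf in
/-- `f ▷ U` is equivariant for the diagonal actions. -/
theorem whiskerRight_equivariant :
    (G ◁ (f ▷ U)) ≫ (aY.prod b).act = (a.prod b).act ≫ (f ▷ U) := by
  have hf' : a.act ≫ f = (G ◁ f) ≫ aY.act := hf
  apply CartesianMonoidalCategory.hom_ext
  · rw [Category.assoc, prod_act, lift_fst, Category.assoc, whiskerRight_fst, prod_act, lift_fst_assoc,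
      Category.assoc, hf', ← MonoidalCategory.whiskerLeft_comp_assoc, whiskerRight_fst,
      MonoidalCategory.whiskerLeft_comp_assoc]
  · rw [Category.assoc, prod_act, lift_snd, Category.assoc, whiskerRight_snd, prod_act, lift_snd,
      ← MonoidalCategory.whiskerLeft_comp_assoc, whiskerRight_snd]

variable (qX : X ⊗ U ⟶ XG) (hqX : GIT.IsInvariant (a.prod b) qX)
  (hcX : IsIso (GIT.PsiY (a.prod b) qX hqX))
  (qY : Y ⊗ U ⟶ YG) (hqY : GIT.IsInvariant (aY.prod b) qY)
  (hcY : IsIso (GIT.PsiY (aY.prod b) qY hqY))
  (fG : XG ⟶ YG) (hfG : qX ≫ fG = (f ▷ U) ≫ qY)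

include hf hcX hcY hfG in
/-- The square of quotients is cartesian. -/
theorem isPullback_quot [Flat qX.left] [Surjective qX.left] [QuasiCompact qX.left] :
    IsPullback (f ▷ U).left qX.left qY.left fG.left := by
  have hX1 := TorsorGeomQuot.isPullback_left _ _
    (PrincipalBundle.isPullback_of_isIso_PsiY (a.prod b) qX hqX hcX)
  have hY1 := TorsorGeomQuot.isPullback_left _ _
    (PrincipalBundle.isPullback_of_isIso_PsiY (aY.prod b) qY hqY hcY)
  have h3 : IsPullback (G ◁ (f ▷ U)).left (snd G (X ⊗ U)).left (snd G (Y ⊗ U)).left (f ▷ U).left :=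
    (AssocBundle.isPullback_whiskerLeft_snd G (f ▷ U)).map (Over.forget S)
  have h4 : (G ◁ (f ▷ U)).left ≫ (aY.prod b).act.left = (a.prod b).act.left ≫ (f ▷ U).left := by
    rw [← Over.comp_left, ← Over.comp_left, whiskerRight_equivariant a aY b f hf]
  have h5 : qX.left ≫ fG.left = (f ▷ U).left ≫ qY.left := by
    rw [← Over.comp_left, ← Over.comp_left, hfG]
  exact Groth.Agent.Lib.Helper14.TorsorSq.isPullback_of_equivariant _ _ qX.left _ _ qY.left _ _ fG.left
    hX1 hY1 h3 h4 h5

include hf hcX hcY hfG in
/-- fpqc-local properties pass from `f` to the induced morphism of quotients. -/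
theorem prop_quot [Flat qX.left] [Surjective qX.left] [QuasiCompact qX.left]
    [Flat qY.left] [Surjective qY.left] [QuasiCompact qY.left]
    (P : MorphismProperty Scheme.{u}) [P.IsStableUnderBaseChange]
    [P.DescendsAlong (@Surjective ⊓ @Flat ⊓ @QuasiCompact : MorphismProperty Scheme.{u})]
    (h : P f.left) : P fG.left := by
  have hmain := isPullback_quot a aY b f hf qX hqX hcX qY hqY hcY fG hfG
  have hbc : IsPullback (f ▷ U).left (fst X U).left (fst Y U).left f.left :=
    (isPullback_whiskerRight_fst U f).map (Over.forget S)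
  have h1 : P (f ▷ U).left := MorphismProperty.of_isPullback hbc.flip h
  exact MorphismProperty.of_isPullback_of_descendsAlong
    (Q := (@Surjective ⊓ @Flat ⊓ @QuasiCompact : MorphismProperty Scheme.{u})) hmain
    ⟨⟨inferInstance, inferInstance⟩, inferInstance⟩ h1

include hf hcX hcY hfG in
theorem isProper_quot [Flat qX.left] [Surjective qX.left] [QuasiCompact qX.left]
    [Flat qY.left] [Surjective qY.left] [QuasiCompact qY.left] (h : IsProper f.left) : IsProper fG.left := by
  haveI := DescEtale.isSeparated_descendsAlong_fpqc.{u}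
  haveI : IsSeparated fG.left :=
    prop_quot a aY b f hf qX hqX hcX qY hqY hcY fG hfG @IsSeparated inferInstance
  haveI : UniversallyClosed fG.left :=
    prop_quot a aY b f hf qX hqX hcX qY hqY hcY fG hfG @UniversallyClosed inferInstance
  haveI : LocallyOfFiniteType fG.left :=
    prop_quot a aY b f hf qX hqX hcX qY hqY hcY fG hfG @LocallyOfFiniteType inferInstance
  exact {}

end Groth.Agent.Lib.Helper4.PBQuotMor
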