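import Mathlib

/-!
# Picardification of a symmetric monoidal groupoid, part 1 (helper4)

The free construction: objects are formal expressions in the objects of `A`, a unit, tensor products and formal inverses;
morphisms are formal composites of the morphisms of `A`, structural isomorphisms, the comparison isomorphisms of the
inclusion `A ⥤ V` and the formal coevaluations `𝟙 ⟶ X ⊗ X⁻¹`, all formally invertible, modulo the relations of a
symmetric monoidal category and of a symmetric monoidal functor.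
-/

set_option autoImplicit false

universe v u

namespace Groth.Agent.Lib.helper4.Picardify

open CategoryTheory MonoidalCategory

section

variable (A : Type u)

set_option genSizeOfSpec false in
set_option genInjectivity false in
/-- objects of the Picardification -/
inductive PObj : Type u
  | of : A → PObj
  | unit : PObj
  | tensor : PObj → PObj → PObj
  | inv : PObj → PObj

end

variable {A : Type u} [Category.{v} A] [MonoidalCategory A] [SymmetricCategory A]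

/-- formal morphisms of the Picardification -/
inductive PHom : PObj A → PObj A → Type (max u v)
  | id (X) : PHom X X
  | comp {X Y Z} (f : PHom X Y) (g : PHom Y Z) : PHom X Z
  | symm {X Y} (f : PHom X Y) : PHom Y X
  | whiskerLeft (X : PObj A) {Y₁ Y₂} (f : PHom Y₁ Y₂) : PHom (X.tensor Y₁) (X.tensor Y₂)
  | whiskerRight {X₁ X₂} (f : PHom X₁ X₂) (Y : PObj A) : PHom (X₁.tensor Y) (X₂.tensor Y)
  | tensor {W X Y Z} (f : PHom W Y) (g : PHom X Z) : PHom (W.tensor X) (Y.tensor Z)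
  | assoc (X Y Z : PObj A) : PHom ((X.tensor Y).tensor Z) (X.tensor (Y.tensor Z))
  | lunit (X : PObj A) : PHom (PObj.unit.tensor X) X
  | runit (X : PObj A) : PHom (X.tensor PObj.unit) X
  | braid (X Y : PObj A) : PHom (X.tensor Y) (Y.tensor X)
  | ofHom {a b : A} (f : a ⟶ b) : PHom (PObj.of a) (PObj.of b)
  | mu (a b : A) : PHom ((PObj.of a).tensor (PObj.of b)) (PObj.of (a ⊗ b))
  | eps : PHom PObj.unit (PObj.of (𝟙_ A))
  | coev (X : PObj A) : PHom PObj.unit (X.tensor X.inv)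

local infixr:10 " ⟶ᵖ " => PHom

open PHom in
/-- the relations -/
inductive HomEquiv : ∀ {X Y : PObj A}, (X ⟶ᵖ Y) → (X ⟶ᵖ Y) → Prop
  | refl {X Y} (f : X ⟶ᵖ Y) : HomEquiv f f
  | symm' {X Y} (f g : X ⟶ᵖ Y) : HomEquiv f g → HomEquiv g f
  | trans {X Y} {f g h : X ⟶ᵖ Y} : HomEquiv f g → HomEquiv g h → HomEquiv f h
  | comp {X Y Z} {f f' : X ⟶ᵖ Y} {g g' : Y ⟶ᵖ Z} :
      HomEquiv f f' → HomEquiv g g' → HomEquiv (f.comp g) (f'.comp g')
  | symm {X Y} {f f' : X ⟶ᵖ Y} : HomEquiv f f' → HomEquiv f.symm f'.symm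
  | whiskerLeft (X) {Y Z} (f f' : Y ⟶ᵖ Z) :
      HomEquiv f f' → HomEquiv (f.whiskerLeft X) (f'.whiskerLeft X)
  | whiskerRight {Y Z} (f f' : Y ⟶ᵖ Z) (X) :
      HomEquiv f f' → HomEquiv (f.whiskerRight X) (f'.whiskerRight X)
  | tensor {W X Y Z} {f f' : W ⟶ᵖ X} {g g' : Y ⟶ᵖ Z} :
      HomEquiv f f' → HomEquiv g g' → HomEquiv (f.tensor g) (f'.tensor g')
  | tensorHom_def {X₁ Y₁ X₂ Y₂} (f : X₁ ⟶ᵖ Y₁) (g : X₂ ⟶ᵖ Y₂) :
      HomEquiv (f.tensor g) ((f.whiskerRight X₂).comp (g.whiskerLeft Y₁))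
  | comp_id {X Y} (f : X ⟶ᵖ Y) : HomEquiv (f.comp (PHom.id _)) f
  | id_comp {X Y} (f : X ⟶ᵖ Y) : HomEquiv ((PHom.id _).comp f) f
  | assoc {X Y U V : PObj A} (f : X ⟶ᵖ U) (g : U ⟶ᵖ V) (h : V ⟶ᵖ Y) :
      HomEquiv ((f.comp g).comp h) (f.comp (g.comp h))
  | comp_symm {X Y} (f : X ⟶ᵖ Y) : HomEquiv (f.comp f.symm) (PHom.id _)
  | symm_comp {X Y} (f : X ⟶ᵖ Y) : HomEquiv (f.symm.comp f) (PHom.id _)
  | id_tensorHom_id {X Y} : HomEquiv ((PHom.id X).tensor (PHom.id Y)) (PHom.id _)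
  | tensorHom_comp_tensorHom {X₁ Y₁ Z₁ X₂ Y₂ Z₂ : PObj A} (f₁ : X₁ ⟶ᵖ Y₁) (f₂ : X₂ ⟶ᵖ Y₂)
      (g₁ : Y₁ ⟶ᵖ Z₁) (g₂ : Y₂ ⟶ᵖ Z₂) :
    HomEquiv ((f₁.tensor f₂).comp (g₁.tensor g₂)) ((f₁.comp g₁).tensor (f₂.comp g₂))
  | whiskerLeft_id (X Y) : HomEquiv ((PHom.id Y).whiskerLeft X) (PHom.id (X.tensor Y))
  | id_whiskerRight (X Y) : HomEquiv ((PHom.id X).whiskerRight Y) (PHom.id (X.tensor Y))
  | associator_naturality {X₁ X₂ X₃ Y₁ Y₂ Y₃} (f₁ : X₁ ⟶ᵖ Y₁) (f₂ : X₂ ⟶ᵖ Y₂) (f₃ : X₃ ⟶ᵖ Y₃) :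
      HomEquiv (((f₁.tensor f₂).tensor f₃).comp (PHom.assoc Y₁ Y₂ Y₃))
        ((PHom.assoc X₁ X₂ X₃).comp (f₁.tensor (f₂.tensor f₃)))
  | runit_naturality {X Y} (f : X ⟶ᵖ Y) :
      HomEquiv ((f.whiskerRight PObj.unit).comp (PHom.runit Y)) ((PHom.runit X).comp f)
  | lunit_naturality {X Y} (f : X ⟶ᵖ Y) :
      HomEquiv ((f.whiskerLeft PObj.unit).comp (PHom.lunit Y)) ((PHom.lunit X).comp f)
  | pentagon {W X Y Z} :
      HomEquiv
        (((PHom.assoc W X Y).whiskerRight Z).comp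
          ((PHom.assoc W (X.tensor Y) Z).comp ((PHom.assoc X Y Z).whiskerLeft W)))
        ((PHom.assoc (W.tensor X) Y Z).comp (PHom.assoc W X (Y.tensor Z)))
  | triangle {X Y} :
      HomEquiv ((PHom.assoc X PObj.unit Y).comp ((PHom.lunit Y).whiskerLeft X))
        ((PHom.runit X).whiskerRight Y)
  | braiding_naturality_right (X) {Y Z} (f : Y ⟶ᵖ Z) :
      HomEquiv ((f.whiskerLeft X).comp (PHom.braid X Z)) ((PHom.braid X Y).comp (f.whiskerRight X))
  | braiding_naturality_left {X Y} (f : X ⟶ᵖ Y) (Z) :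
      HomEquiv ((f.whiskerRight Z).comp (PHom.braid Y Z)) ((PHom.braid X Z).comp (f.whiskerLeft Z))
  | hexagon_forward (X Y Z) :
      HomEquiv ((PHom.assoc X Y Z).comp ((PHom.braid X (Y.tensor Z)).comp (PHom.assoc Y Z X)))
        (((PHom.braid X Y).whiskerRight Z).comp ((PHom.assoc Y X Z).comp ((PHom.braid X Z).whiskerLeft Y)))
  | hexagon_reverse (X Y Z) :
      HomEquiv ((PHom.assoc X Y Z).symm.comp ((PHom.braid (X.tensor Y) Z).comp (PHom.assoc Z X Y).symm))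
        (((PHom.braid Y Z).whiskerLeft X).comp ((PHom.assoc X Z Y).symm.comp ((PHom.braid X Z).whiskerRight Y)))
  | symmetry (X Y) : HomEquiv ((PHom.braid X Y).comp (PHom.braid Y X)) (PHom.id _)
  | ofHom_id (a : A) : HomEquiv (PHom.ofHom (𝟙 a)) (PHom.id _)
  | ofHom_comp {a b c : A} (f : a ⟶ b) (g : b ⟶ c) :
      HomEquiv (PHom.ofHom (f ≫ g)) ((PHom.ofHom f).comp (PHom.ofHom g))
  | mu_natural_left {a b : A} (f : a ⟶ b) (c : A) :
      HomEquiv (((PHom.ofHom f).whiskerRight (PObj.of c)).comp (PHom.mu b c))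
        ((PHom.mu a c).comp (PHom.ofHom (f ▷ c)))
  | mu_natural_right {a b : A} (c : A) (f : a ⟶ b) :
      HomEquiv (((PHom.ofHom f).whiskerLeft (PObj.of c)).comp (PHom.mu c b))
        ((PHom.mu c a).comp (PHom.ofHom (c ◁ f)))
  | associativity (a b c : A) :
      HomEquiv (((PHom.mu a b).whiskerRight (PObj.of c)).comp
          ((PHom.mu (a ⊗ b) c).comp (PHom.ofHom (α_ a b c).hom)))
        ((PHom.assoc (PObj.of a) (PObj.of b) (PObj.of c)).comp
          (((PHom.mu b c).whiskerLeft (PObj.of a)).comp (PHom.mu a (b ⊗ c))))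
  | left_unitality (a : A) :
      HomEquiv (PHom.lunit (PObj.of a))
        ((PHom.eps.whiskerRight (PObj.of a)).comp ((PHom.mu (𝟙_ A) a).comp (PHom.ofHom (λ_ a).hom)))
  | right_unitality (a : A) :
      HomEquiv (PHom.runit (PObj.of a))
        ((PHom.eps.whiskerLeft (PObj.of a)).comp ((PHom.mu a (𝟙_ A)).comp (PHom.ofHom (ρ_ a).hom)))
  | braided (a b : A) :
      HomEquiv ((PHom.mu a b).comp (PHom.ofHom (β_ a b).hom))
        ((PHom.braid (PObj.of a) (PObj.of b)).comp (PHom.mu b a))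

instance setoidHom (X Y : PObj A) : Setoid (X ⟶ᵖ Y) :=
  ⟨HomEquiv, ⟨HomEquiv.refl, HomEquiv.symm' _ _, HomEquiv.trans⟩⟩

open HomEquiv

instance categoryPObj : Category.{max u v} (PObj A) where
  Hom X Y := Quotient (setoidHom X Y)
  id X := ⟦PHom.id X⟧
  comp := Quotient.map₂ PHom.comp (fun _ _ hf _ _ hg ↦ HomEquiv.comp hf hg)
  id_comp := by
    rintro X Y ⟨f⟩
    exact Quotient.sound (id_comp f)
  comp_id := by
    rintro X Y ⟨f⟩
    exact Quotient.sound (comp_id f)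
  assoc := by
    rintro W X Y Z ⟨f⟩ ⟨g⟩ ⟨h⟩
    exact Quotient.sound (assoc f g h)

/-- the class of a formal morphism -/
abbrev homMk {X Y : PObj A} (f : X ⟶ᵖ Y) : X ⟶ Y := ⟦f⟧

/-- the class of a formal morphism, as an isomorphism -/
def isoMk {X Y : PObj A} (f : X ⟶ᵖ Y) : X ≅ Y :=
  ⟨homMk f, homMk f.symm, Quotient.sound (comp_symm f), Quotient.sound (symm_comp f)⟩

instance : MonoidalCategory (PObj A) where
  tensorObj X Y := PObj.tensor X Y
  tensorHom := Quotient.map₂ PHom.tensor (fun _ _ hf _ _ hg ↦ HomEquiv.tensor hf hg)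
  whiskerLeft X _ _ f := Quot.map (fun f ↦ PHom.whiskerLeft X f) (fun f f' ↦ .whiskerLeft X f f') f
  whiskerRight f Y := Quot.map (fun f ↦ PHom.whiskerRight f Y) (fun f f' ↦ .whiskerRight f f' Y) f
  tensorHom_def {W X Y Z} := by
    rintro ⟨f⟩ ⟨g⟩
    exact Quotient.sound (tensorHom_def _ _)
  id_tensorHom_id _ _ := Quot.sound id_tensorHom_id
  tensorHom_comp_tensorHom {X₁ Y₁ Z₁ X₂ Y₂ Z₂} := by
    rintro ⟨f₁⟩ ⟨f₂⟩ ⟨g₁⟩ ⟨g₂⟩
    exact Quotient.sound (tensorHom_comp_tensorHom _ _ _ _)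
  whiskerLeft_id X Y := Quot.sound (HomEquiv.whiskerLeft_id X Y)
  id_whiskerRight X Y := Quot.sound (HomEquiv.id_whiskerRight X Y)
  tensorUnit := PObj.unit
  associator X Y Z := isoMk (PHom.assoc X Y Z)
  associator_naturality {X₁ X₂ X₃ Y₁ Y₂ Y₃} := by
    rintro ⟨f₁⟩ ⟨f₂⟩ ⟨f₃⟩
    exact Quotient.sound (associator_naturality _ _ _)
  leftUnitor X := isoMk (PHom.lunit X)
  leftUnitor_naturality {X Y} := by
    rintro ⟨f⟩
    exact Quotient.sound (lunit_naturality _)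
  rightUnitor X := isoMk (PHom.runit X)
  rightUnitor_naturality {X Y} := by
    rintro ⟨f⟩
    exact Quotient.sound (runit_naturality _)
  pentagon _ _ _ _ := Quotient.sound pentagon
  triangle _ _ := Quotient.sound triangle

instance : SymmetricCategory (PObj A) where
  braiding X Y := isoMk (PHom.braid X Y)
  braiding_naturality_right X {Y Z} := by
    rintro ⟨f⟩
    exact Quotient.sound (braiding_naturality_right X f)
  braiding_naturality_left {X Y} := by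
    rintro ⟨f⟩ Z
    exact Quotient.sound (braiding_naturality_left f Z)
  hexagon_forward X Y Z := Quotient.sound (hexagon_forward X Y Z)
  hexagon_reverse X Y Z := Quotient.sound (hexagon_reverse X Y Z)
  symmetry X Y := Quotient.sound (symmetry X Y)

instance : IsGroupoid (PObj A) where
  all_isIso := by
    rintro X Y ⟨f⟩
    exact (isoMk f).isIso_hom

@[simp]
theorem mk_comp {X Y Z : PObj A} (f : X ⟶ᵖ Y) (g : Y ⟶ᵖ Z) :
    ⟦f.comp g⟧ = @CategoryStruct.comp (PObj A) _ _ _ _ ⟦f⟧ ⟦g⟧ :=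
  rfl

@[simp]
theorem mk_tensor {X₁ Y₁ X₂ Y₂ : PObj A} (f : X₁ ⟶ᵖ Y₁) (g : X₂ ⟶ᵖ Y₂) :
    ⟦f.tensor g⟧ = @MonoidalCategory.tensorHom (PObj A) _ _ _ _ _ _ ⟦f⟧ ⟦g⟧ :=
  rfl

@[simp]
theorem mk_whiskerLeft (X : PObj A) {Y₁ Y₂ : PObj A} (f : Y₁ ⟶ᵖ Y₂) :
    ⟦f.whiskerLeft X⟧ = MonoidalCategory.whiskerLeft (C := PObj A) (X := X) (f := ⟦f⟧) :=
  rfl

@[simp]
theorem mk_whiskerRight {X₁ X₂ : PObj A} (f : X₁ ⟶ᵖ X₂) (Y : PObj A) :
    ⟦f.whiskerRight Y⟧ = MonoidalCategory.whiskerRight (C := PObj A) (f := ⟦f⟧) (Y := Y) :=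
  rfl

@[simp]
theorem mk_id {X : PObj A} : ⟦PHom.id X⟧ = 𝟙 X :=
  rfl

@[simp]
theorem mk_assoc {X Y Z : PObj A} : ⟦PHom.assoc X Y Z⟧ = (α_ X Y Z).hom :=
  rfl

@[simp]
theorem mk_runit {X : PObj A} : ⟦PHom.runit X⟧ = (ρ_ X).hom :=
  rfl

@[simp]
theorem mk_lunit {X : PObj A} : ⟦PHom.lunit X⟧ = (λ_ X).hom :=
  rfl

@[simp]
theorem mk_braid {X Y : PObj A} : ⟦PHom.braid X Y⟧ = (β_ X Y).hom :=
  rfl

theorem mk_symm {X Y : PObj A} (f : X ⟶ᵖ Y) : homMk f.symm = inv (homMk f) := by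
  symm
  apply IsIso.inv_eq_of_hom_inv_id
  exact Quotient.sound (comp_symm f)

@[simp]
theorem tensor_eq_tensor {X Y : PObj A} : X.tensor Y = X ⊗ Y :=
  rfl

@[simp]
theorem unit_eq_unit : PObj.unit = 𝟙_ (PObj A) :=
  rfl

variable (A) in
/-- the inclusion of `A` in its Picardification -/
def incl : A ⥤ PObj A where
  obj := PObj.of
  map f := homMk (PHom.ofHom f)
  map_id a := Quotient.sound (ofHom_id a)
  map_comp f g := Quotient.sound (ofHom_comp f g)

instance : (incl A).LaxBraided where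
  ε := homMk PHom.eps
  μ a b := homMk (PHom.mu a b)
  μ_natural_left f c := Quotient.sound (mu_natural_left f c)
  μ_natural_right c f := Quotient.sound (mu_natural_right c f)
  associativity a b c := Quotient.sound (associativity a b c)
  left_unitality a := Quotient.sound (left_unitality a)
  right_unitality a := Quotient.sound (right_unitality a)
  braided a b := Quotient.sound (braided a b)

/-- the formal coevaluation -/
def coevIso (X : PObj A) : 𝟙_ (PObj A) ≅ X ⊗ X.inv := isoMk (PHom.coev X)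

end Groth.Agent.Lib.helper4.Picardify
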