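import Mathlib
import Groth.Agent.Lib.Helper4.Picard1

/-!
# Picardification of a symmetric monoidal groupoid, part 2 (helper4)

Tensoring with an object that has a two-sided inverse is an equivalence; the Picardification is a Picard groupoid.
-/

set_option autoImplicit false

universe v u v' u'

namespace Groth.Agent.Lib.helper4.Picardify

open CategoryTheory MonoidalCategory

section General

variable {C : Type u'} [Category.{v'} C] [MonoidalCategory C]

theorem isEquivalence_tensorLeft_of_iso (X X' : C) (e : X ⊗ X' ≅ 𝟙_ C) (e' : X' ⊗ X ≅ 𝟙_ C) :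
    (tensorLeft X).IsEquivalence := by
  let η : 𝟭 C ≅ tensorLeft X ⋙ tensorLeft X' :=
    (leftUnitorNatIso C).symm ≪≫ (tensoringLeft C).mapIso e'.symm ≪≫ tensorLeftTensor X' X
  let ε : tensorLeft X' ⋙ tensorLeft X ≅ 𝟭 C :=
    (tensorLeftTensor X X').symm ≪≫ (tensoringLeft C).mapIso e ≪≫ leftUnitorNatIso C
  exact (CategoryTheory.Equivalence.mk (tensorLeft X) (tensorLeft X') η ε).isEquivalence_functor

theorem isEquivalence_tensorRight_of_iso (X X' : C) (e : X ⊗ X' ≅ 𝟙_ C) (e' : X' ⊗ X ≅ 𝟙_ C) :
    (tensorRight X).IsEquivalence := by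
  let η : 𝟭 C ≅ tensorRight X ⋙ tensorRight X' :=
    (rightUnitorNatIso C).symm ≪≫ (tensoringRight C).mapIso e.symm ≪≫ tensorRightTensor X X'
  let ε : tensorRight X' ⋙ tensorRight X ≅ 𝟭 C :=
    (tensorRightTensor X' X).symm ≪≫ (tensoringRight C).mapIso e' ≪≫ rightUnitorNatIso C
  exact (CategoryTheory.Equivalence.mk (tensorRight X) (tensorRight X') η ε).isEquivalence_functor

end General

variable {A : Type u} [Category.{v} A] [MonoidalCategory A] [SymmetricCategory A]

theorem isEquivalence_tensorLeft (X : PObj A) : (tensorLeft X).IsEquivalence :=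
  isEquivalence_tensorLeft_of_iso X X.inv (coevIso X).symm (β_ _ _ ≪≫ (coevIso X).symm)

theorem isEquivalence_tensorRight (X : PObj A) : (tensorRight X).IsEquivalence :=
  isEquivalence_tensorRight_of_iso X X.inv (coevIso X).symm (β_ _ _ ≪≫ (coevIso X).symm)

end Groth.Agent.Lib.helper4.Picardify
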