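import Mathlib
import Groth.Agent.Lib.Helper4.Picard2

/-!
# Picardification of a symmetric monoidal groupoid, part 3 (helper4)

The functor from the Picardification to a Picard groupoid `P` induced by a symmetric monoidal functor `A ⥤ P`.
-/

set_option autoImplicit false
set_option backward.isDefEq.respectTransparency false
set_option backward.isDefEq.respectTransparency.types false

universe v u v' u'

namespace Groth.Agent.Lib.helper4.Picardify

open CategoryTheory MonoidalCategory Functor.LaxMonoidal

variable {A : Type u} [Category.{v} A] [MonoidalCategory A] [SymmetricCategory A]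

section Project

variable {P : Type u'} [Category.{v'} P] [MonoidalCategory P] [SymmetricCategory P] [IsGroupoid P]
  (hP : ∀ X : P, (tensorLeft X).IsEquivalence ∧ (tensorRight X).IsEquivalence)
  (Φ : A ⥤ P) [Φ.LaxBraided]

/-- a chosen inverse of an object of a Picard groupoid -/
noncomputable def invObj (X : P) : P :=
  haveI := (hP X).1
  (tensorLeft X).objPreimage (𝟙_ P)

/-- the chosen inverse is an inverse -/
noncomputable def invIso (X : P) : X ⊗ invObj hP X ≅ 𝟙_ P :=
  haveI := (hP X).1
  (tensorLeft X).objObjPreimageIso (𝟙_ P)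

/-- the induced functor on objects -/
noncomputable def projObj : PObj A → P
  | PObj.of a => Φ.obj a
  | PObj.unit => 𝟙_ P
  | PObj.tensor X Y => projObj X ⊗ projObj Y
  | PObj.inv X => invObj hP (projObj X)

/-- the induced functor on formal morphisms -/
noncomputable def projHom : ∀ {X Y : PObj A}, PHom X Y → (projObj hP Φ X ⟶ projObj hP Φ Y)
  | _, _, PHom.id _ => 𝟙 _
  | _, _, PHom.comp f g => projHom f ≫ projHom g
  | _, _, PHom.symm f => inv (projHom f)
  | _, _, PHom.whiskerLeft X f => projObj hP Φ X ◁ projHom f
  | _, _, PHom.whiskerRight f Y => projHom f ▷ projObj hP Φ Y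
  | _, _, PHom.tensor f g => projHom f ⊗ₘ projHom g
  | _, _, PHom.assoc _ _ _ => (α_ _ _ _).hom
  | _, _, PHom.lunit _ => (λ_ _).hom
  | _, _, PHom.runit _ => (ρ_ _).hom
  | _, _, PHom.braid _ _ => (β_ _ _).hom
  | _, _, PHom.ofHom f => Φ.map f
  | _, _, PHom.mu a b => μ Φ a b
  | _, _, PHom.eps => ε Φ
  | _, _, PHom.coev X => (invIso hP (projObj hP Φ X)).inv

theorem projHom_respects {X Y : PObj A} {f g : PHom X Y} (h : HomEquiv f g) :
    projHom hP Φ f = projHom hP Φ g := by
  induction h with
  | refl => rfl
  | symm' _ _ _ hfg' => exact hfg'.symm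
  | trans _ _ hfg hgh => exact hfg.trans hgh
  | comp _ _ hf hg => dsimp only [projHom]; rw [hf, hg]
  | symm _ hf => dsimp only [projHom]; simp only [hf]
  | whiskerLeft _ _ _ _ hf => dsimp only [projHom, projObj]; rw [hf]
  | whiskerRight _ _ _ _ hf => dsimp only [projHom, projObj]; rw [hf]
  | tensor _ _ hfg hfg' => dsimp only [projHom]; rw [hfg, hfg']
  | tensorHom_def _ _ =>
      dsimp only [projHom, projObj]; rw [MonoidalCategory.tensorHom_def]
  | comp_id => dsimp only [projHom]; rw [Category.comp_id]
  | id_comp => dsimp only [projHom]; rw [Category.id_comp]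
  | assoc => dsimp only [projHom]; rw [Category.assoc]
  | comp_symm => dsimp only [projHom]; rw [IsIso.hom_inv_id]
  | symm_comp => dsimp only [projHom]; rw [IsIso.inv_hom_id]
  | id_tensorHom_id => dsimp only [projHom]; rw [MonoidalCategory.id_tensorHom_id]; rfl
  | tensorHom_comp_tensorHom =>
    dsimp only [projHom]; rw [MonoidalCategory.tensorHom_comp_tensorHom]
  | whiskerLeft_id =>
      dsimp only [projHom, projObj]
      rw [MonoidalCategory.whiskerLeft_id]
  | id_whiskerRight =>
      dsimp only [projHom, projObj]
      rw [MonoidalCategory.id_whiskerRight]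
  | associator_naturality =>
      dsimp only [projHom]; rw [MonoidalCategory.associator_naturality]
  | runit_naturality =>
      dsimp only [projHom, projObj]
      rw [MonoidalCategory.rightUnitor_naturality]
  | lunit_naturality =>
      dsimp only [projHom, projObj]
      rw [MonoidalCategory.leftUnitor_naturality]
  | pentagon =>
      dsimp only [projHom, projObj]
      rw [MonoidalCategory.pentagon]
  | triangle =>
      dsimp only [projHom, projObj]
      rw [MonoidalCategory.triangle]
  | braiding_naturality_right =>
      dsimp only [projHom, projObj]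
      rw [BraidedCategory.braiding_naturality_right]
  | braiding_naturality_left =>
      dsimp only [projHom, projObj]
      rw [BraidedCategory.braiding_naturality_left]
  | hexagon_forward =>
      dsimp only [projHom, projObj]
      rw [BraidedCategory.hexagon_forward]
  | hexagon_reverse =>
      dsimp only [projHom, projObj]
      rw [IsIso.Iso.inv_hom, IsIso.Iso.inv_hom, IsIso.Iso.inv_hom, BraidedCategory.hexagon_reverse]
  | symmetry =>
      dsimp only [projHom, projObj]
      rw [SymmetricCategory.symmetry]
  | ofHom_id => dsimp only [projHom]; rw [Φ.map_id]; rfl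
  | ofHom_comp => dsimp only [projHom]; rw [Φ.map_comp]
  | mu_natural_left => dsimp only [projHom, projObj]; rw [μ_natural_left]
  | mu_natural_right => dsimp only [projHom, projObj]; rw [μ_natural_right]
  | associativity => dsimp only [projHom, projObj]; rw [associativity]
  | left_unitality => dsimp only [projHom, projObj]; rw [left_unitality]
  | right_unitality => dsimp only [projHom, projObj]; rw [right_unitality]
  | braided => dsimp only [projHom, projObj]; rw [Functor.LaxBraided.braided]

/-- the functor from the Picardification of `A` to a Picard groupoid induced by a symmetric monoidal functor -/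
noncomputable def project : PObj A ⥤ P where
  obj := projObj hP Φ
  map := Quotient.lift (projHom hP Φ) (fun _ _ h => projHom_respects hP Φ h)
  map_id _ := rfl
  map_comp := by rintro _ _ _ ⟨_⟩ ⟨_⟩; rfl

@[simp] theorem project_obj (X : PObj A) : (project hP Φ).obj X = projObj hP Φ X := rfl

theorem project_map_mk {X Y : PObj A} (f : PHom X Y) : (project hP Φ).map (homMk f) = projHom hP Φ f := rfl

theorem project_map_whiskerRight {X Y : PObj A} (f : X ⟶ Y) (Z : PObj A) :
    (project hP Φ).map (f ▷ Z) = (project hP Φ).map f ▷ (project hP Φ).obj Z := by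
  induction f using Quotient.inductionOn
  rfl

theorem project_map_whiskerLeft (Z : PObj A) {X Y : PObj A} (f : X ⟶ Y) :
    (project hP Φ).map (Z ◁ f) = (project hP Φ).obj Z ◁ (project hP Φ).map f := by
  induction f using Quotient.inductionOn
  rfl

theorem project_map_associator (X Y Z : PObj A) :
    (project hP Φ).map (α_ X Y Z).hom = (α_ (projObj hP Φ X) (projObj hP Φ Y) (projObj hP Φ Z)).hom := rfl

theorem project_map_leftUnitor (X : PObj A) :
    (project hP Φ).map (λ_ X).hom = (λ_ (projObj hP Φ X)).hom := rfl

theorem project_map_rightUnitor (X : PObj A) :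
    (project hP Φ).map (ρ_ X).hom = (ρ_ (projObj hP Φ X)).hom := rfl

theorem project_map_braiding (X Y : PObj A) :
    (project hP Φ).map (β_ X Y).hom = (β_ (projObj hP Φ X) (projObj hP Φ Y)).hom := rfl

noncomputable instance : (project hP Φ).LaxBraided where
  ε := 𝟙 _
  μ X Y := 𝟙 _
  μ_natural_left f Z := by
    rw [project_map_whiskerRight]
    exact (Category.comp_id _).trans (Category.id_comp _).symm
  μ_natural_right Z f := by
    rw [project_map_whiskerLeft]
    exact (Category.comp_id _).trans (Category.id_comp _).symm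
  associativity X Y Z := by
    rw [project_map_associator]
    change 𝟙 (projObj hP Φ X ⊗ projObj hP Φ Y) ▷ projObj hP Φ Z ≫ 𝟙 _ ≫ _ = _ ≫ projObj hP Φ X ◁ 𝟙 (projObj hP Φ Y ⊗ projObj hP Φ Z) ≫ 𝟙 _
    simp
  left_unitality X := by
    rw [project_map_leftUnitor]
    change _ = 𝟙 (𝟙_ P) ▷ projObj hP Φ X ≫ 𝟙 _ ≫ _
    simp
  right_unitality X := by
    rw [project_map_rightUnitor]
    change _ = projObj hP Φ X ◁ 𝟙 (𝟙_ P) ≫ 𝟙 _ ≫ _
    simp
  braided X Y := by
    rw [project_map_braiding]
    change 𝟙 _ ≫ _ = _ ≫ 𝟙 _
    simp

theorem project_ε : ε (project hP Φ) = 𝟙 _ := rfl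

theorem project_μ (X Y : PObj A) : μ (project hP Φ) X Y = 𝟙 _ := rfl

/-- the induced functor extends the given one -/
noncomputable def inclProjectIso : incl A ⋙ project hP Φ ≅ Φ :=
  NatIso.ofComponents (fun a => Iso.refl _) (fun {a b} f => by
    change projHom hP Φ (PHom.ofHom f) ≫ 𝟙 _ = 𝟙 _ ≫ Φ.map f
    rw [Category.comp_id, Category.id_comp]
    rfl)

instance : NatTrans.IsMonoidal (inclProjectIso hP Φ).hom where
  unit := by
    change (𝟙 _ ≫ ε Φ) ≫ 𝟙 _ = ε Φ
    simp
  tensor a b := by
    change (𝟙 _ ≫ μ Φ a b) ≫ 𝟙 _ = (𝟙 (Φ.obj a) ⊗ₘ 𝟙 (Φ.obj b)) ≫ μ Φ a b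
    simp

end Project

end Groth.Agent.Lib.helper4.Picardify
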