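import Mathlib
import Groth.Agent.Lib.Helper4.Picard3

/-!
# Picardification of a symmetric monoidal groupoid, part 4 (helper4)

Monoidal natural transformations between symmetric monoidal functors on the Picardification are determined by, and can be
prescribed on, the image of `A`.
-/

set_option autoImplicit false
set_option backward.isDefEq.respectTransparency false
set_option backward.isDefEq.respectTransparency.types false

universe v u v' u'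

namespace Groth.Agent.Lib.helper4.Picardify

open CategoryTheory MonoidalCategory Functor.LaxMonoidal

variable {A : Type u} [Category.{v} A] [MonoidalCategory A] [SymmetricCategory A]

section Theta

variable {P : Type u'} [Category.{v'} P] [MonoidalCategory P] [SymmetricCategory P] [IsGroupoid P]
  (hP : ∀ X : P, (tensorLeft X).IsEquivalence ∧ (tensorRight X).IsEquivalence)
  (Ψ Ψ' : PObj A ⥤ P) [Ψ.LaxBraided] [Ψ'.LaxBraided]
  (τ : incl A ⋙ Ψ ⟶ incl A ⋙ Ψ')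

/-- the component of the extension at a formal inverse -/
noncomputable def thetaInv (X : PObj A) (t : Ψ.obj X ⟶ Ψ'.obj X)
    (w : Ψ.obj (𝟙_ (PObj A)) ⟶ Ψ'.obj (𝟙_ (PObj A))) : Ψ.obj X.inv ⟶ Ψ'.obj X.inv :=
  haveI := (hP (Ψ'.obj X)).1
  (tensorLeft (Ψ'.obj X)).preimage
    (inv (t ▷ Ψ.obj X.inv) ≫ μ Ψ X X.inv ≫ inv (Ψ.map (coevIso X).hom) ≫ w ≫ Ψ'.map (coevIso X).hom ≫
      inv (μ Ψ' X X.inv))

theorem whiskerLeft_thetaInv (X : PObj A) (t : Ψ.obj X ⟶ Ψ'.obj X)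
    (w : Ψ.obj (𝟙_ (PObj A)) ⟶ Ψ'.obj (𝟙_ (PObj A))) :
    Ψ'.obj X ◁ thetaInv hP Ψ Ψ' X t w =
      inv (t ▷ Ψ.obj X.inv) ≫ μ Ψ X X.inv ≫ inv (Ψ.map (coevIso X).hom) ≫ w ≫ Ψ'.map (coevIso X).hom ≫
        inv (μ Ψ' X X.inv) := by
  haveI := (hP (Ψ'.obj X)).1
  exact (tensorLeft (Ψ'.obj X)).map_preimage _

/-- the components of the extension -/
noncomputable def theta : (X : PObj A) → (Ψ.obj X ⟶ Ψ'.obj X)
  | PObj.of a => τ.app a
  | PObj.unit => inv (ε Ψ) ≫ ε Ψ'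
  | PObj.tensor X Y => inv (μ Ψ X Y) ≫ (theta X ⊗ₘ theta Y) ≫ μ Ψ' X Y
  | PObj.inv X => thetaInv hP Ψ Ψ' X (theta X) (inv (ε Ψ) ≫ ε Ψ')

theorem theta_of (a : A) : theta hP Ψ Ψ' τ (PObj.of a) = τ.app a := rfl

@[reassoc]
theorem theta_unit : ε Ψ ≫ theta hP Ψ Ψ' τ (𝟙_ (PObj A)) = ε Ψ' := by
  change ε Ψ ≫ inv (ε Ψ) ≫ ε Ψ' = _
  simp

theorem theta_unit' : theta hP Ψ Ψ' τ (𝟙_ (PObj A)) = inv (ε Ψ) ≫ ε Ψ' := rfl

@[reassoc]
theorem theta_tensor (X Y : PObj A) :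
    μ Ψ X Y ≫ theta hP Ψ Ψ' τ (X ⊗ Y) = (theta hP Ψ Ψ' τ X ⊗ₘ theta hP Ψ Ψ' τ Y) ≫ μ Ψ' X Y := by
  change μ Ψ X Y ≫ inv (μ Ψ X Y) ≫ _ ≫ _ = _
  simp

theorem theta_tensor' (X Y : PObj A) :
    theta hP Ψ Ψ' τ (X ⊗ Y) = inv (μ Ψ X Y) ≫ (theta hP Ψ Ψ' τ X ⊗ₘ theta hP Ψ Ψ' τ Y) ≫ μ Ψ' X Y := rfl

theorem theta_inv (X : PObj A) :
    theta hP Ψ Ψ' τ X.inv = thetaInv hP Ψ Ψ' X (theta hP Ψ Ψ' τ X) (theta hP Ψ Ψ' τ (𝟙_ (PObj A))) := rfl

/-- naturality of the extension at a morphism -/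
def Nat {X Y : PObj A} (f : X ⟶ Y) : Prop :=
  Ψ.map f ≫ theta hP Ψ Ψ' τ Y = theta hP Ψ Ψ' τ X ≫ Ψ'.map f

theorem nat_id (X : PObj A) : Nat hP Ψ Ψ' τ (𝟙 X) := by
  simp [Nat]

theorem nat_comp {X Y Z : PObj A} (f : X ⟶ Y) (g : Y ⟶ Z) (hf : Nat hP Ψ Ψ' τ f) (hg : Nat hP Ψ Ψ' τ g) :
    Nat hP Ψ Ψ' τ (f ≫ g) := by
  unfold Nat at *
  rw [Functor.map_comp, Category.assoc, hg, ← Category.assoc, hf, Category.assoc, Functor.map_comp]

theorem nat_inv {X Y : PObj A} (f : X ⟶ Y) (hf : Nat hP Ψ Ψ' τ f) : Nat hP Ψ Ψ' τ (inv f) := by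
  unfold Nat at *
  rw [Functor.map_inv, Functor.map_inv, IsIso.inv_comp_eq, ← Category.assoc, IsIso.eq_comp_inv, hf]

theorem nat_coev (X : PObj A) : Nat hP Ψ Ψ' τ (coevIso X).hom := by
  unfold Nat
  rw [theta_tensor', theta_inv, MonoidalCategory.tensorHom_def, whiskerLeft_thetaInv]
  simp

theorem nat_whiskerLeft (X : PObj A) {Y Z : PObj A} (f : Y ⟶ Z) (hf : Nat hP Ψ Ψ' τ f) :
    Nat hP Ψ Ψ' τ (X ◁ f) := by
  unfold Nat at *
  rw [← cancel_epi (μ Ψ X Y), ← μ_natural_right_assoc, theta_tensor, theta_tensor_assoc, ← μ_natural_right,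
    ← Category.assoc, ← Category.assoc]
  congr 1
  rw [← id_tensorHom, ← id_tensorHom, tensorHom_comp_tensorHom, tensorHom_comp_tensorHom, hf, Category.id_comp,
    Category.comp_id]

theorem nat_whiskerRight {X Y : PObj A} (f : X ⟶ Y) (Z : PObj A) (hf : Nat hP Ψ Ψ' τ f) :
    Nat hP Ψ Ψ' τ (f ▷ Z) := by
  unfold Nat at *
  rw [← cancel_epi (μ Ψ X Z), ← μ_natural_left_assoc, theta_tensor, theta_tensor_assoc, ← μ_natural_left,
    ← Category.assoc, ← Category.assoc]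
  congr 1
  rw [← tensorHom_id, ← tensorHom_id, tensorHom_comp_tensorHom, tensorHom_comp_tensorHom, hf, Category.id_comp,
    Category.comp_id]

theorem nat_braid (X Y : PObj A) : Nat hP Ψ Ψ' τ (β_ X Y).hom := by
  unfold Nat
  rw [← cancel_epi (μ Ψ X Y), Functor.LaxBraided.braided_assoc, theta_tensor, theta_tensor_assoc,
    Functor.LaxBraided.braided, BraidedCategory.braiding_naturality_assoc]

theorem nat_lunit (X : PObj A) : Nat hP Ψ Ψ' τ (λ_ X).hom := by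
  unfold Nat
  rw [← cancel_epi (μ Ψ (𝟙_ (PObj A)) X), ← cancel_epi (ε Ψ ▷ Ψ.obj X)]
  rw [← Category.assoc, ← Category.assoc, Category.assoc (ε Ψ ▷ Ψ.obj X), ← left_unitality]
  rw [theta_tensor_assoc, ← tensorHom_id, ← Category.assoc (ε Ψ ⊗ₘ 𝟙 (Ψ.obj X)), tensorHom_comp_tensorHom, theta_unit,
    Category.id_comp]
  have h : ε Ψ' ⊗ₘ theta hP Ψ Ψ' τ X = (𝟙_ P ◁ theta hP Ψ Ψ' τ X) ≫ (ε Ψ' ▷ Ψ'.obj X) := by
    rw [tensorHom_def']
  rw [h, Category.assoc, ← left_unitality, leftUnitor_naturality]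

theorem nat_runit (X : PObj A) : Nat hP Ψ Ψ' τ (ρ_ X).hom := by
  unfold Nat
  rw [← cancel_epi (μ Ψ X (𝟙_ (PObj A))), ← cancel_epi (Ψ.obj X ◁ ε Ψ)]
  rw [← Category.assoc, ← Category.assoc, Category.assoc (Ψ.obj X ◁ ε Ψ), ← right_unitality]
  rw [theta_tensor_assoc, ← id_tensorHom, ← Category.assoc (𝟙 (Ψ.obj X) ⊗ₘ ε Ψ), tensorHom_comp_tensorHom, theta_unit,
    Category.id_comp]
  have h : theta hP Ψ Ψ' τ X ⊗ₘ ε Ψ' = (theta hP Ψ Ψ' τ X ▷ 𝟙_ P) ≫ (Ψ'.obj X ◁ ε Ψ') := by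
    rw [MonoidalCategory.tensorHom_def]
  rw [h, Category.assoc, ← right_unitality, rightUnitor_naturality]

theorem nat_assoc (X Y Z : PObj A) : Nat hP Ψ Ψ' τ (α_ X Y Z).hom := by
  unfold Nat
  rw [← cancel_epi (μ Ψ (X ⊗ Y) Z), ← cancel_epi (μ Ψ X Y ▷ Ψ.obj Z)]
  rw [associativity_assoc, theta_tensor, theta_tensor_assoc]
  -- left side
  have hl : Ψ.obj X ◁ μ Ψ Y Z ≫ (theta hP Ψ Ψ' τ X ⊗ₘ theta hP Ψ Ψ' τ (Y ⊗ Z)) =
      (theta hP Ψ Ψ' τ X ⊗ₘ (theta hP Ψ Ψ' τ Y ⊗ₘ theta hP Ψ Ψ' τ Z)) ≫ Ψ'.obj X ◁ μ Ψ' Y Z := by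
    rw [← id_tensorHom, ← id_tensorHom, tensorHom_comp_tensorHom, tensorHom_comp_tensorHom, theta_tensor,
      Category.id_comp, Category.comp_id]
  have hr : μ Ψ X Y ▷ Ψ.obj Z ≫ (theta hP Ψ Ψ' τ (X ⊗ Y) ⊗ₘ theta hP Ψ Ψ' τ Z) =
      ((theta hP Ψ Ψ' τ X ⊗ₘ theta hP Ψ Ψ' τ Y) ⊗ₘ theta hP Ψ Ψ' τ Z) ≫ μ Ψ' X Y ▷ Ψ'.obj Z := by
    rw [← tensorHom_id, ← tensorHom_id, tensorHom_comp_tensorHom, tensorHom_comp_tensorHom, theta_tensor,
      Category.id_comp, Category.comp_id]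
  rw [reassoc_of% hl, reassoc_of% hr, associativity, associator_naturality_assoc]

theorem nat_ofHom {a b : A} (f : a ⟶ b) : Nat hP Ψ Ψ' τ ((incl A).map f) :=
  τ.naturality f

variable [NatTrans.IsMonoidal τ]

theorem nat_mu (a b : A) : Nat hP Ψ Ψ' τ (μ (incl A) a b) := by
  unfold Nat
  have h := NatTrans.IsMonoidal.tensor (τ := τ) a b
  simp only [Functor.LaxMonoidal.comp_μ, Category.assoc] at h
  rw [← cancel_epi (μ Ψ ((incl A).obj a) ((incl A).obj b))]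
  rw [theta_tensor_assoc]
  exact h

theorem nat_eps : Nat hP Ψ Ψ' τ (ε (incl A)) := by
  unfold Nat
  have h := NatTrans.IsMonoidal.unit (τ := τ)
  simp only [Functor.LaxMonoidal.comp_ε, Category.assoc] at h
  rw [← cancel_epi (ε Ψ), theta_unit_assoc]
  exact h

theorem nat_mk {X Y : PObj A} (f : PHom X Y) : Nat hP Ψ Ψ' τ (homMk f) := by
  induction f with
  | id X => exact nat_id hP Ψ Ψ' τ X
  | comp f g hf hg => exact nat_comp hP Ψ Ψ' τ _ _ hf hg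
  | symm f hf =>
      rw [mk_symm]
      exact nat_inv hP Ψ Ψ' τ _ hf
  | whiskerLeft X f hf => exact nat_whiskerLeft hP Ψ Ψ' τ X _ hf
  | whiskerRight f Y hf => exact nat_whiskerRight hP Ψ Ψ' τ _ Y hf
  | @tensor W X Y Z f g hf hg =>
      have : homMk (f.tensor g) = homMk f ▷ X ≫ Y ◁ homMk g :=
        Quotient.sound (HomEquiv.tensorHom_def f g)
      rw [this]
      exact nat_comp hP Ψ Ψ' τ _ _ (nat_whiskerRight hP Ψ Ψ' τ _ _ hf) (nat_whiskerLeft hP Ψ Ψ' τ _ _ hg)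
  | assoc X Y Z => exact nat_assoc hP Ψ Ψ' τ X Y Z
  | lunit X => exact nat_lunit hP Ψ Ψ' τ X
  | runit X => exact nat_runit hP Ψ Ψ' τ X
  | braid X Y => exact nat_braid hP Ψ Ψ' τ X Y
  | ofHom f => exact nat_ofHom hP Ψ Ψ' τ f
  | mu a b => exact nat_mu hP Ψ Ψ' τ a b
  | eps => exact nat_eps hP Ψ Ψ' τ
  | coev X => exact nat_coev hP Ψ Ψ' τ X

/-- the extension of `τ` -/
noncomputable def thetaNat : Ψ ⟶ Ψ' where
  app := theta hP Ψ Ψ' τ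
  naturality {X Y} f := by
    induction f using Quotient.inductionOn with | _ f
    exact nat_mk hP Ψ Ψ' τ f

instance : NatTrans.IsMonoidal (thetaNat hP Ψ Ψ' τ) where
  unit := theta_unit hP Ψ Ψ' τ
  tensor X Y := theta_tensor hP Ψ Ψ' τ X Y

theorem whiskerLeft_thetaNat : Functor.whiskerLeft (incl A) (thetaNat hP Ψ Ψ' τ) = τ := by
  ext a
  rfl

omit [NatTrans.IsMonoidal τ] in
theorem app_eq_theta (θ' : Ψ ⟶ Ψ') [NatTrans.IsMonoidal θ'] (h : Functor.whiskerLeft (incl A) θ' = τ)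
    (X : PObj A) : θ'.app X = theta hP Ψ Ψ' τ X := by
  induction X with
  | of a =>
      have := congrArg (fun t => t.app a) h
      exact this
  | unit =>
      have h1 := NatTrans.IsMonoidal.unit (τ := θ')
      change θ'.app (𝟙_ (PObj A)) = inv (ε Ψ) ≫ ε Ψ'
      rw [← h1, IsIso.inv_hom_id_assoc]
  | tensor X Y hX hY =>
      have h1 := NatTrans.IsMonoidal.tensor (τ := θ') X Y
      change θ'.app (X ⊗ Y) = inv (μ Ψ X Y) ≫ (theta hP Ψ Ψ' τ X ⊗ₘ theta hP Ψ Ψ' τ Y) ≫ μ Ψ' X Y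
      rw [← hX, ← hY, ← h1, IsIso.inv_hom_id_assoc]
  | inv X hX =>
      haveI := (hP (Ψ'.obj X)).1
      apply (tensorLeft (Ψ'.obj X)).map_injective
      change Ψ'.obj X ◁ θ'.app X.inv = Ψ'.obj X ◁ thetaInv hP Ψ Ψ' X (theta hP Ψ Ψ' τ X) (inv (ε Ψ) ≫ ε Ψ')
      rw [whiskerLeft_thetaInv]
      have h1 := NatTrans.IsMonoidal.tensor (τ := θ') X X.inv
      have h2 := θ'.naturality (coevIso X).hom
      have h3 := NatTrans.IsMonoidal.unit (τ := θ')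
      have h4 : θ'.app (𝟙_ (PObj A)) = inv (ε Ψ) ≫ ε Ψ' := by
        rw [← h3, IsIso.inv_hom_id_assoc]
      rw [MonoidalCategory.tensorHom_def, hX] at h1
      rw [IsIso.eq_inv_comp]
      have h5 : theta hP Ψ Ψ' τ X ▷ Ψ.obj X.inv ≫ Ψ'.obj X ◁ θ'.app X.inv =
          μ Ψ X X.inv ≫ θ'.app (X ⊗ X.inv) ≫ inv (μ Ψ' X X.inv) := by
        rw [← Category.assoc, h1, Category.assoc, IsIso.hom_inv_id, Category.comp_id]
      have h6 : θ'.app (X ⊗ X.inv) =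
          inv (Ψ.map (coevIso X).hom) ≫ θ'.app (𝟙_ (PObj A)) ≫ Ψ'.map (coevIso X).hom := by
        rw [← h2, IsIso.inv_hom_id_assoc]
      rw [h5, h6, h4]
      simp only [Category.assoc]

include hP in
theorem existsUnique_theta :
    ∃! θ : Ψ ⟶ Ψ', NatTrans.IsMonoidal θ ∧ Functor.whiskerLeft (incl A) θ = τ := by
  refine ⟨thetaNat hP Ψ Ψ' τ, ⟨inferInstance, whiskerLeft_thetaNat hP Ψ Ψ' τ⟩, ?_⟩
  rintro θ' ⟨h1, h2⟩
  ext X
  exact app_eq_theta hP Ψ Ψ' τ θ' h2 X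

end Theta

end Groth.Agent.Lib.helper4.Picardify
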