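import Groth.Prelude.Def_AlgSt4
import Groth.Agent.Lib.Helper4.FibPaste
set_option autoImplicit false
set_option backward.isDefEq.respectTransparency false
set_option backward.isDefEq.respectTransparency.types false
open CategoryTheory CategoryTheory.Functor CategoryTheory.Limits AlgebraicGeometry
universe w'' v'' w' v' w v u

/-! Functoriality of the points `|𝒳|` of a category over `(Sch/S)`: `Points.map` is compatible with composition,
identities and 2-isomorphisms; equivalences over the base induce bijections on points. -/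

namespace Groth.Agent.Lib.helper4.PointsBasic
open FibCat AlgSt

variable {S : Scheme.{u}}
variable {𝒳 : BasedCategory.{v, w} (Over S)} {𝒴 : BasedCategory.{v', w'} (Over S)}
  {𝒵 : BasedCategory.{v'', w''} (Over S)}

theorem map_comp (f : 𝒳 ⥤ᵇ 𝒴) (g : 𝒴 ⥤ᵇ 𝒵) (z : Points 𝒳) :
    Points.map (BasedFunctor.comp f g) z = Points.map g (Points.map f z) := by
  obtain ⟨p, rfl⟩ := Points.mk_surjective z
  rfl

theorem map_id (z : Points 𝒳) : Points.map (BasedFunctor.id 𝒳) z = z := by
  obtain ⟨p, rfl⟩ := Points.mk_surjective z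
  rfl

theorem map_congr_iso {f f' : 𝒳 ⥤ᵇ 𝒴} (α : f ≅ f') (z : Points 𝒳) :
    Points.map f z = Points.map f' z := by
  obtain ⟨p, rfl⟩ := Points.mk_surjective z
  rw [Points.map_mk, Points.map_mk]
  apply Points.sound
  exact ⟨p.map f, 𝟙 _, α.hom.toNatTrans.app p.obj, trivial⟩

theorem map_bijective_of_isEquivOver (f : 𝒳 ⥤ᵇ 𝒴) (hf : IsEquivOver f) :
    Function.Bijective (Points.map f) := by
  obtain ⟨g, ⟨e1⟩, ⟨e2⟩⟩ := hf
  have h1 : ∀ z, Points.map g (Points.map f z) = z := fun z => by
    rw [← map_comp, map_congr_iso e1, map_id]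
  have h2 : ∀ z, Points.map f (Points.map g z) = z := fun z => by
    rw [← map_comp, map_congr_iso e2, map_id]
  exact ⟨Function.LeftInverse.injective h1, Function.RightInverse.surjective h2⟩

end Groth.Agent.Lib.helper4.PointsBasic
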