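import Mathlib.RingTheory.PowerSeries.Order
import Mathlib.RingTheory.PowerSeries.Expand
import Mathlib.Tactic

/-!
# Order computations with `PowerSeries.expand` (helper library of seat helper4)
-/

set_option autoImplicit false

namespace Groth.Agent.Lib.helper4

open PowerSeries

theorem order_expand_cases {k : Type*} [Field k] (p : ℕ) (hp : p ≠ 0) (a : PowerSeries k) :
    (expand p hp a).order = ⊤ ∨ ∃ i : ℕ, (expand p hp a).order = ((p * i : ℕ) : ℕ∞) := by
  rw [order_expand]
  by_cases ha : a = 0
  · left
    rw [ha, order_zero, nsmul_eq_mul]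
    exact ENat.mul_top (Nat.cast_ne_zero.mpr hp)
  · right
    refine ⟨a.order.toNat, ?_⟩
    have : a.order = (a.order.toNat : ℕ∞) := (coe_toNat_order ha).symm
    rw [this]
    simp

/-- `u ^ 2` is not in `k⟦x³⟧ + k⟦x³⟧ u + (x ^ n)` when `ord u = m`, `3 ∤ m`, `2 m < n`. -/
theorem sq_notMem_three {k : Type*} [Field k] (u a₁ a₂ c : PowerSeries k) (m n : ℕ)
    (hu : u.order = m) (hm : ¬ 3 ∣ m) (hmn : 2 * m < n)
    (h : u * u = expand 3 (by norm_num) a₁ + expand 3 (by norm_num) a₂ * u + X ^ n * c) :
    False := by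
  set A := expand 3 (by norm_num) a₁ with hA
  set B := expand 3 (by norm_num) a₂ * u with hB
  set C := X ^ n * c with hC
  have hordC : (n : ℕ∞) ≤ C.order := by
    rw [hC, order_mul, order_X_pow]
    exact le_self_add
  have horduu : (u * u).order = ((2 * m : ℕ) : ℕ∞) := by
    rw [order_mul, hu]; push_cast; ring
  have hAB : A + B = u * u + -C := by rw [h]; ring
  have hordAB : (A + B).order = ((2 * m : ℕ) : ℕ∞) := by
    rw [hAB, order_add_of_order_ne, order_neg, horduu]
    · apply min_eq_left
      exact le_trans (by exact_mod_cast hmn.le) hordC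
    · rw [order_neg, horduu]
      intro heq
      rw [← heq] at hordC
      have : n ≤ 2 * m := by exact_mod_cast hordC
      omega
  have hBord : B.order = ⊤ ∨ ∃ j : ℕ, B.order = ((3 * j + m : ℕ) : ℕ∞) := by
    rcases order_expand_cases 3 (by norm_num) a₂ with h1 | ⟨j, hj⟩
    · left; rw [hB, order_mul, h1]; simp
    · right; exact ⟨j, by rw [hB, order_mul, hj, hu]; push_cast; ring⟩
  rcases order_expand_cases 3 (by norm_num) a₁ with hA1 | ⟨i, hi⟩ <;>
  rcases hBord with hB1 | ⟨j, hj⟩
  · have hA0 : A = 0 := order_eq_top.mp hA1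
    have hB0 : B = 0 := order_eq_top.mp hB1
    rw [hA0, hB0, add_zero, order_zero] at hordAB
    exact ENat.top_ne_natCast _ hordAB
  · have hA0 : A = 0 := order_eq_top.mp hA1
    rw [hA0, zero_add, hj] at hordAB
    have : 3 * j + m = 2 * m := by exact_mod_cast hordAB
    omega
  · have hB0 : B = 0 := order_eq_top.mp hB1
    rw [hB0, add_zero, hi] at hordAB
    have : 3 * i = 2 * m := by exact_mod_cast hordAB
    omega
  · have hne : A.order ≠ B.order := by
      rw [hi, hj]
      intro heq
      have : 3 * i = 3 * j + m := by exact_mod_cast heq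
      omega
    rw [order_add_of_order_ne _ _ hne, hi, hj] at hordAB
    rcases min_choice ((3 * i : ℕ) : ℕ∞) ((3 * j + m : ℕ) : ℕ∞) with h1 | h1
    · rw [h1] at hordAB
      have : 3 * i = 2 * m := by exact_mod_cast hordAB
      omega
    · rw [h1] at hordAB
      have : 3 * j + m = 2 * m := by exact_mod_cast hordAB
      omega

/-- `u ^ 2` is not in `k⟦x²⟧ u + (x ^ n)` when `ord u = m` is odd and `2 m < n`. -/
theorem sq_notMem_two {k : Type*} [Field k] (u a₂ c : PowerSeries k) (m n : ℕ)
    (hu : u.order = m) (hm : Odd m) (hmn : 2 * m < n)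
    (h : u * u = expand 2 (by norm_num) a₂ * u + X ^ n * c) :
    False := by
  set B := expand 2 (by norm_num) a₂ * u with hB
  set C := X ^ n * c with hC
  have hordC : (n : ℕ∞) ≤ C.order := by
    rw [hC, order_mul, order_X_pow]
    exact le_self_add
  have horduu : (u * u).order = ((2 * m : ℕ) : ℕ∞) := by
    rw [order_mul, hu]; push_cast; ring
  have hAB : B = u * u + -C := by rw [h]; ring
  have hordAB : B.order = ((2 * m : ℕ) : ℕ∞) := by
    rw [hAB, order_add_of_order_ne, order_neg, horduu]
    · apply min_eq_left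
      exact le_trans (by exact_mod_cast hmn.le) hordC
    · rw [order_neg, horduu]
      intro heq
      rw [← heq] at hordC
      have : n ≤ 2 * m := by exact_mod_cast hordC
      omega
  obtain ⟨l, hl⟩ := hm
  rcases order_expand_cases 2 (by norm_num) a₂ with h1 | ⟨j, hj⟩
  · rw [hB, order_mul, h1, top_add] at hordAB
    exact ENat.top_ne_natCast _ hordAB
  · rw [hB, order_mul, hj, hu] at hordAB
    have : 2 * j + m = 2 * m := by exact_mod_cast hordAB
    omega

end Groth.Agent.Lib.helper4
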