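import Mathlib

/-!
# Factorisation proper-then-immersion iff proper at each point of the image (helper4)
-/

set_option backward.isDefEq.respectTransparency false
set_option backward.isDefEq.respectTransparency.types false
set_option autoImplicit false
set_option linter.style.haveILetI false

open CategoryTheory AlgebraicGeometry Limits

universe u

namespace Groth.Agent.Lib.helper4.ProperImm

variable {X Y : Scheme.{u}}

/-- If `f` factors as `p ≫ V.ι`, then `f ∣_ V` is `p` up to an isomorphism of the source. -/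
theorem morphismRestrict_eq_of_fac (f : X ⟶ Y) (V : Y.Opens) (p : X ⟶ V.toScheme)
    (hp : p ≫ V.ι = f) : IsIso (f ⁻¹ᵁ V).ι ∧ f ∣_ V = (f ⁻¹ᵁ V).ι ≫ p := by
  constructor
  · rw [isIso_iff_isOpenImmersion_and_surjective]
    refine ⟨inferInstance, ⟨fun x => ?_⟩⟩
    have hx : x ∈ f ⁻¹ᵁ V := by
      show f x ∈ V
      rw [← hp, Scheme.Hom.comp_apply]
      exact (p x).2
    exact ⟨⟨x, hx⟩, rfl⟩
  · rw [← cancel_mono V.ι, morphismRestrict_ι, Category.assoc, hp]

theorem isProper_restrict_iff_of_fac (f : X ⟶ Y) (V : Y.Opens) (p : X ⟶ V.toScheme)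
    (hp : p ≫ V.ι = f) : IsProper (f ∣_ V) ↔ IsProper p := by
  obtain ⟨h1, h2⟩ := morphismRestrict_eq_of_fac f V p hp
  rw [h2]
  exact MorphismProperty.cancel_left_of_respectsIso @IsProper _ _

theorem factorisation_iff (f : X ⟶ Y) :
    (∃ (Z : Scheme.{u}) (g : X ⟶ Z) (h : Z ⟶ Y), IsProper g ∧ IsImmersion h ∧ g ≫ h = f) ↔
      ∀ x : X, ∃ U : Y.Opens, f.base x ∈ U ∧ IsProper (f ∣_ U) := by
  constructor
  · rintro ⟨Z, g, h, hg, hh, rfl⟩ x
    refine ⟨h.coborderRange, ?_, ?_⟩
    · show (g ≫ h) x ∈ h.coborderRange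
      rw [Scheme.Hom.comp_apply]
      have h2 : (h.liftCoborder ≫ h.coborderRange.ι) (g x) = h (g x) := by
        rw [h.liftCoborder_ι]
      rw [← h2, Scheme.Hom.comp_apply]
      exact (h.liftCoborder (g x)).2
    · rw [isProper_restrict_iff_of_fac (g ≫ h) h.coborderRange (g ≫ h.liftCoborder)
        (by rw [Category.assoc, h.liftCoborder_ι])]
      infer_instance
  · intro H
    choose U hU hP using H
    let V : Y.Opens := ⨆ x, U x
    have hr : Set.range f ⊆ Set.range V.ι := by
      rintro _ ⟨x, rfl⟩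
      rw [Scheme.Opens.range_ι]
      exact TopologicalSpace.Opens.mem_iSup.mpr ⟨x, hU x⟩
    let p : X ⟶ V.toScheme := IsOpenImmersion.lift V.ι f hr
    have hp : p ≫ V.ι = f := IsOpenImmersion.lift_fac _ _ _
    refine ⟨V.toScheme, p, V.ι, ?_, inferInstance, hp⟩
    rw [← isProper_restrict_iff_of_fac f V p hp]
    apply IsZariskiLocalAtTarget.of_iSup_eq_top (P := @IsProper) (fun x => V.ι ⁻¹ᵁ U x)
    · apply TopologicalSpace.Opens.ext
      ext z
      simp only [TopologicalSpace.Opens.coe_iSup, Set.mem_iUnion, TopologicalSpace.Opens.coe_top,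
        Set.mem_univ, iff_true]
      obtain ⟨x, hx⟩ := TopologicalSpace.Opens.mem_iSup.mp z.2
      exact ⟨x, hx⟩
    · intro x
      refine (MorphismProperty.arrow_mk_iso_iff @IsProper
        (morphismRestrictRestrict f V (V.ι ⁻¹ᵁ U x))).mpr ?_
      have he : V.ι ''ᵁ V.ι ⁻¹ᵁ U x = U x := by
        rw [Scheme.Hom.image_preimage_eq_opensRange_inf, Scheme.Opens.opensRange_ι]
        exact inf_eq_right.mpr (le_iSup U x)
      rw [he]
      exact hP x

end Groth.Agent.Lib.helper4.ProperImm
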