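import Groth.Agent.StkLocal
set_option autoImplicit false
set_option backward.isDefEq.respectTransparency false
set_option backward.isDefEq.respectTransparency.types false
set_option linter.unusedSectionVars false
set_option linter.style.haveILetI false
open CategoryTheory CategoryTheory.Functor CategoryTheory.Limits Opposite
universe w' w v₄ u₄ v₃ u₃ v₂ u₂ v u

/-! Dictionary between presheaves of sets and the categories over `C` attached to them (`Stk.ofPsh`):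
sections of functors into `ofPsh Q`, the map of presheaves of a functor `ofPsh P ⥤ᵇ ofPsh Q`, 2-isomorphisms. -/

namespace Groth.Agent.Lib.helper4.PshDict
open Groth.Agent.FibEquiv Stk

variable {C : Type u} [Category.{v} C] {Q : Cᵒᵖ ⥤ Type w} {P : Cᵒᵖ ⥤ Type w'}
  {𝒲 : BasedCategory.{v₂, u₂} C}

theorem map_comp_op_apply (Q : Cᵒᵖ ⥤ Type w) {X Y Z : C} (f : X ⟶ Y) (g : Y ⟶ Z) (s : Q.obj (op Z)) :
    Q.map (f ≫ g).op s = Q.map f.op (Q.map g.op s) := by
  rw [op_comp, Functor.map_comp_apply]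

theorem map_id_op_apply (Q : Cᵒᵖ ⥤ Type w) (X : C) (s : Q.obj (op X)) : Q.map (𝟙 X).op s = s := by
  simp

theorem eqToHom_op_comp_apply (Q : Cᵒᵖ ⥤ Type w) {T T' T'' : C} (h : T = T') (h' : T' = T'')
    (s : Q.obj (op T'')) :
    Q.map (eqToHom h).op (Q.map (eqToHom h').op s) = Q.map (eqToHom (h.trans h')).op s := by
  subst h h'; simp

theorem eqToHom_op_refl_apply (Q : Cᵒᵖ ⥤ Type w) {T : C} (h : T = T) (s : Q.obj (op T)) :
    Q.map (eqToHom h).op s = s := by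
  simp

theorem eqToHom_op_injective (Q : Cᵒᵖ ⥤ Type w) {T T' : C} (h : T = T') (s s' : Q.obj (op T'))
    (hs : Q.map (eqToHom h).op s = Q.map (eqToHom h).op s') : s = s' := by
  subst h; simpa using hs

theorem base_eq (A : 𝒲 ⥤ᵇ ofPsh Q) (x : 𝒲.obj) : (A.obj x).base = 𝒲.p.obj x := A.w_obj x

/-- the section over `p w` named by a functor into `ofPsh Q` -/
def secOf (A : 𝒲 ⥤ᵇ ofPsh Q) (x : 𝒲.obj) : Q.obj (op (𝒲.p.obj x)) :=
  Q.map (eqToHom (base_eq A x).symm).op (A.obj x).sec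

theorem map_hom_eq (A : 𝒲 ⥤ᵇ ofPsh Q) {x' x : 𝒲.obj} (m : x' ⟶ x) :
    (A.map m).hom = eqToHom (base_eq A x') ≫ 𝒲.p.map m ≫ eqToHom (base_eq A x).symm := by
  have := Functor.congr_hom A.w m
  simpa using this

theorem secOf_map (A : 𝒲 ⥤ᵇ ofPsh Q) {x' x : 𝒲.obj} (m : x' ⟶ x) :
    Q.map (𝒲.p.map m).op (secOf A x) = secOf A x' := by
  unfold secOf
  have h1 : Q.map (A.map m).hom.op (A.obj x).sec = (A.obj x').sec := (A.map m).map_sec
  have key : 𝒲.p.map m ≫ eqToHom (base_eq A x).symm = eqToHom (base_eq A x').symm ≫ (A.map m).hom := by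
    rw [map_hom_eq]; simp
  rw [← map_comp_op_apply, key, map_comp_op_apply, h1]

theorem sec_eq_of_secOf (A : 𝒲 ⥤ᵇ ofPsh Q) (x : 𝒲.obj) :
    (A.obj x).sec = Q.map (eqToHom (base_eq A x)).op (secOf A x) := by
  unfold secOf
  rw [eqToHom_op_comp_apply, eqToHom_op_refl_apply]

/-- two functors into `ofPsh Q` naming the same sections are 2-isomorphic -/
def isoOfSecEq (A B : 𝒲 ⥤ᵇ ofPsh Q) (h : ∀ x, secOf A x = secOf B x) : A ≅ B :=
  BasedNatIso.mkNatIso
    (NatIso.ofComponents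
      (fun x =>
        { hom := ⟨eqToHom ((base_eq A x).trans (base_eq B x).symm), by
            rw [sec_eq_of_secOf A x, sec_eq_of_secOf B x, h x, eqToHom_op_comp_apply]⟩
          inv := ⟨eqToHom ((base_eq B x).trans (base_eq A x).symm), by
            rw [sec_eq_of_secOf A x, sec_eq_of_secOf B x, h x, eqToHom_op_comp_apply]⟩
          hom_inv_id := by apply EltObj.hom_ext; simp
          inv_hom_id := by apply EltObj.hom_ext; simp })
      (fun {x y} m => by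
        apply EltObj.hom_ext
        simp [map_hom_eq]))
    (fun x => IsHomLift.of_fac' _ _ _ (base_eq A x) (base_eq B x) (by simp))

/-- 2-isomorphic functors name the same sections -/
theorem secOf_eq_of_iso {A B : 𝒲 ⥤ᵇ ofPsh Q} (α : A ≅ B) (x : 𝒲.obj) : secOf A x = secOf B x := by
  have h1 : Q.map (α.hom.toNatTrans.app x).hom.op (B.obj x).sec = (A.obj x).sec :=
    (α.hom.toNatTrans.app x).map_sec
  have h2 : (ofPsh Q).p.IsHomLift (𝟙 (𝒲.p.obj x)) (α.hom.toNatTrans.app x) := α.hom.isHomLift' x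
  have h3 : (α.hom.toNatTrans.app x).hom = eqToHom ((base_eq A x).trans (base_eq B x).symm) := by
    have := IsHomLift.fac' (ofPsh Q).p (𝟙 (𝒲.p.obj x)) (α.hom.toNatTrans.app x)
    simpa using this
  unfold secOf
  rw [← h1, h3, eqToHom_op_comp_apply]

section MapOf

variable {P Q R : Cᵒᵖ ⥤ Type w}

/-- the map of presheaves attached to a functor over `C` between the categories of two presheaves -/
def pshMapOf (Φ : ofPsh P ⥤ᵇ ofPsh Q) : P ⟶ Q where
  app T := ↾fun x => secOf Φ ⟨T.unop, x⟩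
  naturality T T' g := by
    ext x
    have := secOf_map Φ (⟨g.unop, rfl⟩ : (⟨T'.unop, P.map g x⟩ : EltObj P) ⟶ ⟨T.unop, x⟩)
    exact this.symm

theorem pshMapOf_app (Φ : ofPsh P ⥤ᵇ ofPsh Q) (e : EltObj P) :
    (pshMapOf Φ).app (op e.base) e.sec = secOf Φ e := rfl

theorem secOf_ofPshMap (a : P ⟶ Q) (e : EltObj P) : secOf (ofPshMap a) e = a.app (op e.base) e.sec := by
  unfold secOf
  exact eqToHom_op_refl_apply Q _ _

theorem pshMapOf_ofPshMap (a : P ⟶ Q) : pshMapOf (ofPshMap a) = a := by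
  ext T x
  exact secOf_ofPshMap a ⟨T.unop, x⟩

/-- every functor over `C` between categories of presheaves is 2-isomorphic to the functor of a map of presheaves -/
def isoOfPshMap (Φ : ofPsh P ⥤ᵇ ofPsh Q) : Φ ≅ ofPshMap (pshMapOf Φ) :=
  isoOfSecEq _ _ (fun e => by rw [secOf_ofPshMap]; rfl)

theorem pshMapOf_congr {Φ Ψ : ofPsh P ⥤ᵇ ofPsh Q} (α : Φ ≅ Ψ) : pshMapOf Φ = pshMapOf Ψ := by
  ext T x
  exact secOf_eq_of_iso α ⟨T.unop, x⟩

theorem pshMapOf_id : pshMapOf (BasedFunctor.id (ofPsh P)) = 𝟙 P := by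
  ext T x
  change secOf (BasedFunctor.id (ofPsh P)) ⟨T.unop, x⟩ = x
  unfold secOf
  exact eqToHom_op_refl_apply P _ _

/-- sections of a composite -/
theorem secOf_comp (A : 𝒲 ⥤ᵇ ofPsh P) (Ψ : ofPsh P ⥤ᵇ ofPsh Q) (x : 𝒲.obj) :
    secOf (BasedFunctor.comp A Ψ) x = (pshMapOf Ψ).app (op (𝒲.p.obj x)) (secOf A x) := by
  change secOf (BasedFunctor.comp A Ψ) x = secOf Ψ ⟨𝒲.p.obj x, secOf A x⟩
  let m : (⟨𝒲.p.obj x, secOf A x⟩ : EltObj P) ⟶ A.obj x := ⟨eqToHom (base_eq A x).symm, rfl⟩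
  have h := secOf_map Ψ m
  rw [← h]
  change Q.map (eqToHom _).op ((Ψ.obj (A.obj x)).sec) =
    Q.map (eqToHom (base_eq A x).symm).op (Q.map (eqToHom (base_eq Ψ (A.obj x)).symm).op (Ψ.obj (A.obj x)).sec)
  exact (eqToHom_op_comp_apply Q _ _ _).symm

theorem pshMapOf_comp (Φ : ofPsh P ⥤ᵇ ofPsh Q) (Ψ : ofPsh Q ⥤ᵇ ofPsh R) :
    pshMapOf (BasedFunctor.comp Φ Ψ) = pshMapOf Φ ≫ pshMapOf Ψ := by
  ext T x
  exact secOf_comp Φ Ψ ⟨T.unop, x⟩

/-- an equivalence over `C` between the categories of two presheaves gives an isomorphism of presheaves -/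
theorem nonempty_iso_of_isEquivOver (Φ : ofPsh P ⥤ᵇ ofPsh Q) (h : FibCat.IsEquivOver Φ) : Nonempty (P ≅ Q) := by
  obtain ⟨Ψ, ⟨η⟩, ⟨ε⟩⟩ := h
  refine ⟨⟨pshMapOf Φ, pshMapOf Ψ, ?_, ?_⟩⟩
  · rw [← pshMapOf_comp, pshMapOf_congr η, pshMapOf_id]
  · rw [← pshMapOf_comp, pshMapOf_congr ε, pshMapOf_id]

end MapOf

end Groth.Agent.Lib.helper4.PshDict
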