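import Groth.Agent.Lib.Helper4.PshYon
import Groth.Agent.Lib.Helper4.Descent
set_option autoImplicit false
set_option backward.isDefEq.respectTransparency false
set_option backward.isDefEq.respectTransparency.types false
set_option linter.unusedSectionVars false
set_option linter.style.haveILetI false
open CategoryTheory CategoryTheory.Functor CategoryTheory.Limits Opposite
universe w' w v₄ u₄ v₃ u₃ v₂ u₂ v u

/-! The 2-fibre product of the categories of presheaves is the category of the fibre product presheaf. -/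

namespace Groth.Agent.Lib.helper4.PshDict
open Groth.Agent.FibEquiv Groth.Agent.FibYoneda Groth.Agent.FibFpProj Stk FibCat
open Groth.Agent.Lib.helper4.Descent

variable {C : Type u} [Category.{v} C] {F H G X : Cᵒᵖ ⥤ Type w} {a : F ⟶ G} {b : H ⟶ G} {fst : X ⟶ F}
  {snd : X ⟶ H}

/-- the 2-isomorphism of a commutative square of presheaves -/
def sqIso (hw : fst ≫ a = snd ≫ b) :
    BasedFunctor.comp (ofPshMap fst) (ofPshMap a) ≅ BasedFunctor.comp (ofPshMap snd) (ofPshMap b) :=
  isoOfSecEq _ _ (fun e => by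
    rw [secOf_comp, secOf_comp, pshMapOf_ofPshMap, pshMapOf_ofPshMap, secOf_ofPshMap, secOf_ofPshMap]
    exact congrArg (fun t => t.app (op e.base) e.sec) hw)

/-- the comparison functor -/
def fpPshLift (hw : fst ≫ a = snd ≫ b) : ofPsh X ⥤ᵇ fp (ofPshMap a) (ofPshMap b) :=
  fpLift (ofPshMap fst) (ofPshMap snd) (sqIso hw)

theorem sq_app (sq : IsPullback fst snd a b) (T : Cᵒᵖ) :
    IsPullback (fst.app T) (snd.app T) (a.app T) (b.app T) :=
  sq.map ((evaluation _ _).obj T)

theorem sqIso_hom_hom (hw : fst ≫ a = snd ≫ b) (e : EltObj X) :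
    ((sqIso hw).hom.toNatTrans.app e).hom = 𝟙 e.base := by
  have h2 : (ofPsh G).p.IsHomLift (𝟙 ((ofPsh X).p.obj e)) ((sqIso hw).hom.toNatTrans.app e) :=
    (sqIso hw).hom.isHomLift' e
  have := IsHomLift.fac' (ofPsh G).p (𝟙 ((ofPsh X).p.obj e)) ((sqIso hw).hom.toNatTrans.app e)
  have h3 : ((sqIso hw).hom.toNatTrans.app e).hom = 𝟙 (((ofPshMap fst).comp (ofPshMap a)).obj e).base := by
    simpa using this
  exact h3

theorem fpPshLift_faithful (hw : fst ≫ a = snd ≫ b) : (fpPshLift hw).toFunctor.Faithful where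
  map_injective := fun {e e'} m₁ m₂ h => by
    apply EltObj.hom_ext
    have := congrArg (fun μ => μ.hom.fst.hom) h
    exact this

theorem fpPshLift_full (sq : IsPullback fst snd a b) : (fpPshLift sq.w).toFunctor.Full where
  map_surjective := fun {e e'} μ => by
    have h1 : F.map μ.hom.fst.hom.op (fst.app _ e'.sec) = fst.app _ e.sec := μ.hom.fst.map_sec
    have hk₂ : μ.hom.snd.hom = μ.hom.fst.hom := by
      have := congrArg EltObj.Hom.hom μ.hom.w
      change μ.hom.fst.hom ≫ ((sqIso sq.w).hom.toNatTrans.app e').hom =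
        ((sqIso sq.w).hom.toNatTrans.app e).hom ≫ μ.hom.snd.hom at this
      rw [sqIso_hom_hom, sqIso_hom_hom] at this
      exact ((Category.id_comp _).symm.trans this.symm).trans (Category.comp_id _)
    have h2 : H.map μ.hom.fst.hom.op (snd.app _ e'.sec) = snd.app _ e.sec := by
      rw [← hk₂]; exact μ.hom.snd.map_sec
    have hx : X.map μ.hom.fst.hom.op e'.sec = e.sec := by
      apply Types.ext_of_isPullback (sq_app sq (op e.base))
      · rw [← h1]; exact NatTrans.naturality_apply fst _ _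
      · rw [← h2]; exact NatTrans.naturality_apply snd _ _
    refine ⟨⟨μ.hom.fst.hom, hx⟩, ?_⟩
    apply ObjectProperty.hom_ext
    apply CategoricalPullback.hom_ext
    · apply EltObj.hom_ext; rfl
    · apply EltObj.hom_ext; exact hk₂.symm

theorem isFibGrpd_fpPsh (a : F ⟶ G) (b : H ⟶ G) : FibCat.IsFibGrpd (fp (ofPshMap a) (ofPshMap b)).p :=
  isFibGrpd_fp _ _ (isFibGrpd_ofPsh F) (isFibGrpd_ofPsh H) (isFibGrpd_ofPsh G)

theorem fpPshLift_essSurj (sq : IsPullback fst snd a b) (t : (fp (ofPshMap a) (ofPshMap b)).obj) :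
    ∃ (ξ : (ofPsh X).obj) (e : (fpPshLift sq.w).toFunctor.obj ξ ≅ t),
      (fp (ofPshMap a) (ofPshMap b)).p.IsHomLift (𝟙 ((fp (ofPshMap a) (ofPshMap b)).p.obj t)) e.hom := by
  have hiso : G.map t.obj.iso.hom.hom.op (b.app _ t.obj.snd.sec) = a.app _ t.obj.fst.sec :=
    t.obj.iso.hom.map_sec
  have hb : b.app _ (H.map t.obj.iso.hom.hom.op t.obj.snd.sec) = a.app _ t.obj.fst.sec := by
    rw [← hiso]; exact (NatTrans.naturality_apply b _ _)
  obtain ⟨x, hx1, hx2⟩ := Types.exists_of_isPullback (sq_app sq (op t.obj.fst.base)) t.obj.fst.sec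
    (H.map t.obj.iso.hom.hom.op t.obj.snd.sec) hb.symm
  let ξ : (ofPsh X).obj := ⟨t.obj.fst.base, x⟩
  let m1 : ((fpPshLift sq.w).toFunctor.obj ξ).obj.fst ⟶ t.obj.fst :=
    ⟨𝟙 t.obj.fst.base, (map_id_op_apply F _ _).trans hx1.symm⟩
  let m2 : ((fpPshLift sq.w).toFunctor.obj ξ).obj.snd ⟶ t.obj.snd :=
    ⟨t.obj.iso.hom.hom, hx2.symm⟩
  let m : (fpPshLift sq.w).toFunctor.obj ξ ⟶ t :=
    ObjectProperty.homMk
      { fst := m1
        snd := m2
        w := by
          apply EltObj.hom_ext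
          change 𝟙 _ ≫ t.obj.iso.hom.hom = ((sqIso sq.w).hom.toNatTrans.app ξ).hom ≫ t.obj.iso.hom.hom
          rw [sqIso_hom_hom]
          rfl }
  have hm : (fp (ofPshMap a) (ofPshMap b)).p.IsHomLift (𝟙 ((fp (ofPshMap a) (ofPshMap b)).p.obj t)) m :=
    IsHomLift.of_fac' _ _ _ rfl rfl (by simp; rfl)
  have : IsIso m := isIso_of_lift (isFibGrpd_fpPsh a b) (𝟙 ((fp (ofPshMap a) (ofPshMap b)).p.obj t)) m
  exact ⟨ξ, asIso m, hm⟩

theorem fpPshLift_isEquivOver (sq : IsPullback fst snd a b) : FibCat.IsEquivOver (fpPshLift sq.w) := by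
  have := fpPshLift_full sq
  have := fpPshLift_faithful sq.w
  exact isEquivOver_of _ (fpPshLift_essSurj sq)

end Groth.Agent.Lib.helper4.PshDict
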