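import Groth.Agent.Lib.Helper4.PshFp
import Groth.Agent.Lib.Helper4.AlgStRep
import Groth.Agent.Lib.Helper4.FibSwap
import Groth.Prelude.Def_AlgSpRep
set_option autoImplicit false
set_option backward.isDefEq.respectTransparency false
set_option backward.isDefEq.respectTransparency.types false
set_option linter.unusedSectionVars false
set_option linter.style.haveILetI false
open CategoryTheory CategoryTheory.Functor CategoryTheory.Limits Opposite AlgebraicGeometry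
universe u

/-! Representability by algebraic spaces: maps of presheaves versus the functors of their categories. -/

namespace Groth.Agent.Lib.helper4.PshRep
open Groth.Agent.FibEquiv Groth.Agent.FibYoneda Groth.Agent.FibFpProj Stk FibCat
open Groth.Agent.Lib.helper4.Descent Groth.Agent.Lib.helper4.PshDict Groth.Agent.Lib.helper4.FibPaste
open Groth.Agent.Lib.helper4.AlgStRep Groth.Agent.Lib.helper4.FibSwap

variable {S : Scheme.{u}}

/-- the map of sheaves of a functor into a slice is the map of presheaves of its composite with `toYon` -/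
theorem spMapOfOver_hom {F : AlgSp.Sp S} {U : Over S} (Φ : AlgSt.ofSp F ⥤ᵇ overCat U) :
    (AlgSt.spMapOfOver Φ).hom = pshMapOf (BasedFunctor.comp Φ (toYon.{u + 1} U)) := by
  ext T x
  apply ULift.ext
  change AlgSt.secHom Φ ⟨T.unop, x⟩ = (secOf (BasedFunctor.comp Φ (toYon.{u + 1} U)) ⟨T.unop, x⟩).down
  unfold secOf AlgSt.secHom
  rfl

/-- an equivalence over the base between the categories of two presheaves gives an isomorphism of presheaves -/
theorem exists_iso_of_isEquivOver {C : Type*} [Category C] {P Q : Cᵒᵖ ⥤ Type u}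
    (Φ : ofPsh P ⥤ᵇ ofPsh Q) (h : FibCat.IsEquivOver Φ) : ∃ i : P ≅ Q, i.hom = pshMapOf Φ := by
  obtain ⟨Ψ, ⟨η⟩, ⟨ε⟩⟩ := h
  refine ⟨⟨pshMapOf Φ, pshMapOf Ψ, ?_, ?_⟩, rfl⟩
  · rw [← pshMapOf_comp, pshMapOf_congr η, pshMapOf_id]
  · rw [← pshMapOf_comp, pshMapOf_congr ε, pshMapOf_id]

section Core

variable {F G : AlgSp.PSp S} (a : F ⟶ G) {U : Over S} (y : overCat U ⥤ᵇ ofPsh G)
  (ξ : (AlgSp.pyon S).obj U ⟶ G)
  {X : AlgSp.PSp S} {fst : X ⟶ F} {snd : X ⟶ (AlgSp.pyon S).obj U}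

/-- the category of the fibre product presheaf `h_U ×_G F` is the 2-fibre product `(Sch/U) ×_G F`, compatibly
with the projections to `h_U` -/
theorem exists_equiv (hy : y ≅ BasedFunctor.comp (toYon.{u + 1} U) (ofPshMap ξ))
    (sq : IsPullback fst snd a ξ) :
    ∃ Ξ : ofPsh X ⥤ᵇ fp y (ofPshMap a), IsEquivOver Ξ ∧
      Nonempty (BasedFunctor.comp (BasedFunctor.comp Ξ (fpFst y (ofPshMap a))) (toYon.{u + 1} U) ≅
        ofPshMap snd) := by
  let L : ofPsh X ⥤ᵇ fp (ofPshMap ξ) (ofPshMap a) := fpPshLift sq.flip.w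
  have hL : IsEquivOver L := fpPshLift_isEquivOver sq.flip
  let P : fp (BasedFunctor.comp (toYon.{u + 1} U) (ofPshMap ξ)) (ofPshMap a) ⥤ᵇ
      fp (ofPshMap ξ) (ofPshMap a) := fpPrecomp (toYon.{u + 1} U) (ofPshMap ξ) (ofPshMap a)
  have hP : IsEquivOver P := fpPrecomp_isEquivOver _ _ _ (toYon_isEquivOver U)
  obtain ⟨Pi, ⟨α⟩, ⟨β⟩⟩ := hP
  have hPi : IsEquivOver Pi := isEquivOver_symm α β
  let M : fp (BasedFunctor.comp (toYon.{u + 1} U) (ofPshMap ξ)) (ofPshMap a) ⥤ᵇ fp y (ofPshMap a) :=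
    fpMap (BasedFunctor.comp (toYon.{u + 1} U) (ofPshMap ξ)) y (ofPshMap a) (ofPshMap a)
      (BasedFunctor.id _) (BasedFunctor.id _) hy.symm (Iso.refl _)
  have hM : IsEquivOver M := fpMap_isEquivOver _ _ _ _ _ _ _ _ (isEquivOver_id' _) (isEquivOver_id' _)
  refine ⟨BasedFunctor.comp L (BasedFunctor.comp Pi M),
    isEquivOver_comp _ _ hL (isEquivOver_comp _ _ hPi hM), ⟨?_⟩⟩
  exact whiskerLeftIso L (whiskerRightIso β (fpFst (ofPshMap ξ) (ofPshMap a)))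

/-- from a representing algebraic space of the 2-fibre product to the fibre product presheaf; `Q` need only be
insensitive to precomposition with isomorphisms of algebraic spaces -/
theorem rep_of_fp (Q : MorphismProperty (AlgSp.Sp S))
    (hQ : ∀ {A B : AlgSp.Sp S} (j : A ≅ B) (s : B ⟶ (AlgSp.yon S).obj U), AlgSp.IsAlgSpace A → AlgSp.IsAlgSpace B →
      Q (j.hom ≫ s) → Q s)
    (hy : y ≅ BasedFunctor.comp (toYon.{u + 1} U) (ofPshMap ξ)) (sq : IsPullback fst snd a ξ)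
    (h : ∃ (F' : AlgSp.Space S) (e : AlgSt.ofSp F'.obj ⥤ᵇ fp y (ofPshMap a)),
        IsEquivOver e ∧ Q (AlgSt.spMapOfOver (BasedFunctor.comp e (fpFst y (ofPshMap a))))) :
      ∃ h : Presheaf.IsSheaf (AlgSp.J S) X, AlgSp.IsAlgSpace (⟨X, h⟩ : AlgSp.Sp S) ∧
        Q (ObjectProperty.homMk snd : (⟨X, h⟩ : AlgSp.Sp S) ⟶ (AlgSp.yon S).obj U) := by
  obtain ⟨Ξ, hΞ, ⟨θ⟩⟩ := exists_equiv a y ξ hy sq
  obtain ⟨F', e, he, hQ'⟩ := h
  obtain ⟨Ξi, ⟨α⟩, ⟨β⟩⟩ := hΞ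
  let e' : ofPsh F'.obj.obj ⥤ᵇ ofPsh X := BasedFunctor.comp e Ξi
  have he' : IsEquivOver e' := isEquivOver_comp e Ξi he (isEquivOver_symm α β)
  obtain ⟨i, hi⟩ := exists_iso_of_isEquivOver e' he'
  have hAP : AlgSp.IsAlgSpaceP X := ((AlgSp.isAlgSpaceP_obj_iff F'.obj).2 F'.property).of_iso i
  obtain ⟨h, hA⟩ := hAP
  refine ⟨h, hA, ?_⟩
  let j : F'.obj ≅ (⟨X, h⟩ : AlgSp.Sp S) :=
    (fullyFaithfulSheafToPresheaf (AlgSp.J S) _).preimageIso (X := F'.obj) (Y := (⟨X, h⟩ : AlgSp.Sp S)) i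
  have key : AlgSt.spMapOfOver (BasedFunctor.comp e (fpFst y (ofPshMap a))) =
      j.hom ≫ (ObjectProperty.homMk snd : (⟨X, h⟩ : AlgSp.Sp S) ⟶ (AlgSp.yon S).obj U) := by
    apply ObjectProperty.hom_ext
    rw [spMapOfOver_hom]
    change _ = i.hom ≫ snd
    rw [hi, ← pshMapOf_ofPshMap snd, ← pshMapOf_comp]
    apply pshMapOf_congr
    have i1 : BasedFunctor.comp e' (ofPshMap snd) ≅
        BasedFunctor.comp e' (BasedFunctor.comp (BasedFunctor.comp Ξ (fpFst y (ofPshMap a))) (toYon.{u + 1} U)) :=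
      whiskerLeftIso e' θ.symm
    have i2 : BasedFunctor.comp (BasedFunctor.comp e (BasedFunctor.comp Ξi Ξ))
          (BasedFunctor.comp (fpFst y (ofPshMap a)) (toYon.{u + 1} U)) ≅
        BasedFunctor.comp (BasedFunctor.comp e (BasedFunctor.id _))
          (BasedFunctor.comp (fpFst y (ofPshMap a)) (toYon.{u + 1} U)) :=
      whiskerRightIso (whiskerLeftIso e β) _
    exact (i1 ≪≫ i2).symm
  rw [key] at hQ'
  exact hQ j _ F'.property hA hQ'

/-- from the fibre product presheaf to a representing algebraic space of the 2-fibre product -/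
theorem fp_of_rep (Q : MorphismProperty (AlgSp.Sp S))
    (hy : y ≅ BasedFunctor.comp (toYon.{u + 1} U) (ofPshMap ξ)) (sq : IsPullback fst snd a ξ)
    (h : ∃ h : Presheaf.IsSheaf (AlgSp.J S) X, AlgSp.IsAlgSpace (⟨X, h⟩ : AlgSp.Sp S) ∧
        Q (ObjectProperty.homMk snd : (⟨X, h⟩ : AlgSp.Sp S) ⟶ (AlgSp.yon S).obj U)) :
    ∃ (F' : AlgSp.Space S) (e : AlgSt.ofSp F'.obj ⥤ᵇ fp y (ofPshMap a)),
        IsEquivOver e ∧ Q (AlgSt.spMapOfOver (BasedFunctor.comp e (fpFst y (ofPshMap a)))) := by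
  obtain ⟨Ξ, hΞ, ⟨θ⟩⟩ := exists_equiv a y ξ hy sq
  obtain ⟨h, hA, hQ⟩ := h
  refine ⟨⟨⟨X, h⟩, hA⟩, Ξ, hΞ, ?_⟩
  have key : AlgSt.spMapOfOver (F := (⟨X, h⟩ : AlgSp.Sp S)) (BasedFunctor.comp Ξ (fpFst y (ofPshMap a))) =
      (ObjectProperty.homMk snd : (⟨X, h⟩ : AlgSp.Sp S) ⟶ (AlgSp.yon S).obj U) := by
    apply ObjectProperty.hom_ext
    rw [spMapOfOver_hom]
    exact (pshMapOf_congr θ).trans (pshMapOf_ofPshMap snd)
  rw [key]
  exact hQ

theorem rep_iff (Q : MorphismProperty (AlgSp.Sp S)) [Q.RespectsIso]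
    (hy : y ≅ BasedFunctor.comp (toYon.{u + 1} U) (ofPshMap ξ)) (sq : IsPullback fst snd a ξ) :
    (∃ (F' : AlgSp.Space S) (e : AlgSt.ofSp F'.obj ⥤ᵇ fp y (ofPshMap a)),
        IsEquivOver e ∧ Q (AlgSt.spMapOfOver (BasedFunctor.comp e (fpFst y (ofPshMap a))))) ↔
      ∃ h : Presheaf.IsSheaf (AlgSp.J S) X, AlgSp.IsAlgSpace (⟨X, h⟩ : AlgSp.Sp S) ∧
        Q (ObjectProperty.homMk snd : (⟨X, h⟩ : AlgSp.Sp S) ⟶ (AlgSp.yon S).obj U) :=
  ⟨rep_of_fp a y ξ Q (fun j s _ _ h => (Q.cancel_left_of_respectsIso j.hom s).1 h) hy sq,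
    fp_of_rep a y ξ Q hy sq⟩

end Core

end Groth.Agent.Lib.helper4.PshRep
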