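import Mathlib

/-!
# The punctured affine plane is not affine
-/

set_option autoImplicit false
set_option backward.isDefEq.respectTransparency false
set_option linter.style.haveILetI false
universe u
open CategoryTheory AlgebraicGeometry TopologicalSpace Opposite

namespace Groth.Agent.Lib.Helper4.PuncturedPlane

variable (K : Type u) [Field K]

local notation "R" => MvPolynomial (Fin 2) K

theorem pow_dvd_of_eq (a b : R) (n m : ℕ)
    (h : (MvPolynomial.X 1 : R) ^ m * a = (MvPolynomial.X 0 : R) ^ n * b) :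
    (MvPolynomial.X 0 : R) ^ n ∣ a := by
  have hp : Prime (MvPolynomial.X 0 : R) := MvPolynomial.X_prime
  have hnd : ¬ (MvPolynomial.X 0 : R) ∣ (MvPolynomial.X 1 : R) ^ m := by
    intro hd
    have := hp.dvd_of_dvd_pow hd
    rw [MvPolynomial.X_dvd_X] at this
    exact absurd this (by decide)
  exact hp.pow_dvd_of_dvd_mul_left n hnd (h ▸ Dvd.intro _ rfl)

theorem not_span (x y : R) (h : x * MvPolynomial.X 0 + y * MvPolynomial.X 1 = 1) : False := by
  have := congrArg MvPolynomial.constantCoeff h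
  simp at this

end Groth.Agent.Lib.Helper4.PuncturedPlane

namespace Groth.Agent.Lib.Helper4.PuncturedPlane

variable (R : CommRingCat.{u})

theorem res_algebraMap {U V : (Spec R).Opens} (h : V ≤ U) (x : R) :
    (Spec R).presheaf.map (homOfLE h).op (algebraMap R Γ(Spec R, U) x) =
      algebraMap R Γ(Spec R, V) x := by
  simp only [IsAffineOpen.algebraMap_Spec_obj]
  rw [CommRingCat.comp_apply, CommRingCat.comp_apply, ← CommRingCat.comp_apply
    ((Spec R).presheaf.map _) ((Spec R).presheaf.map _), ← Functor.map_comp]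
  rfl

theorem algebraMap_injective_basicOpen [IsDomain R] (f : R) (hf : f ≠ 0) :
    Function.Injective (algebraMap R Γ(Spec R, PrimeSpectrum.basicOpen f)) :=
  IsLocalization.injective (M := Submonoid.powers f) _
    (powers_le_nonZeroDivisors_of_noZeroDivisors hf)

theorem not_affine_general [IsDomain R] (s t : R) (hs0 : s ≠ 0) (ht0 : t ≠ 0)
    (hdvd : ∀ (a b : R) (n m : ℕ), t ^ m * a = s ^ n * b → s ^ n ∣ a)
    (hns : ∀ x y : R, x * s + y * t = 1 → False) :
    ¬ IsAffineOpen (X := Spec R)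
      (PrimeSpectrum.basicOpen s ⊔ PrimeSpectrum.basicOpen t) := by
  intro hU
  set U : (Spec R).Opens := PrimeSpectrum.basicOpen s ⊔ PrimeSpectrum.basicOpen t with hUdef
  have hDsU : (PrimeSpectrum.basicOpen s : (Spec R).Opens) ≤ U := le_sup_left
  have hDtU : (PrimeSpectrum.basicOpen t : (Spec R).Opens) ≤ U := le_sup_right
  -- nonemptiness of `D(s)`
  haveI hne : Nonempty ↥(PrimeSpectrum.basicOpen s : (Spec R).Opens) := by
    have : (PrimeSpectrum.basicOpen s : Opens (PrimeSpectrum R)) ≠ ⊥ := by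
      rw [Ne, PrimeSpectrum.basicOpen_eq_bot_iff]
      intro hnil
      exact hs0 (hnil.eq_zero)
    obtain ⟨x, hx⟩ := (Opens.ne_bot_iff_nonempty _).mp this
    exact ⟨⟨x, hx⟩⟩
  -- injectivity of restriction `Γ(U) → Γ(D(s))`
  have hresinj : Function.Injective ((Spec R).presheaf.map (homOfLE hDsU).op) :=
    @map_injective_of_isIntegral (Spec R) _ _ _ (homOfLE hDsU) hne
  -- surjectivity of `R → Γ(U)`
  have hsurj : Function.Surjective (algebraMap R Γ(Spec R, U)) := by
    intro g
    obtain ⟨⟨a, ⟨_, n, rfl⟩⟩, ha⟩ := IsLocalization.surj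
      (S := Γ(Spec R, PrimeSpectrum.basicOpen s)) (Submonoid.powers s)
      ((Spec R).presheaf.map (homOfLE hDsU).op g : Γ(Spec R, PrimeSpectrum.basicOpen s))
    obtain ⟨⟨b, ⟨_, m, rfl⟩⟩, hb⟩ := IsLocalization.surj
      (S := Γ(Spec R, PrimeSpectrum.basicOpen t)) (Submonoid.powers t)
      ((Spec R).presheaf.map (homOfLE hDtU).op g : Γ(Spec R, PrimeSpectrum.basicOpen t))
    simp only at ha hb
    -- compare on `D(s * t)`
    have hst_s : (PrimeSpectrum.basicOpen (s * t) : (Spec R).Opens) ≤ PrimeSpectrum.basicOpen s := by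
      rw [PrimeSpectrum.basicOpen_mul]; exact inf_le_left
    have hst_t : (PrimeSpectrum.basicOpen (s * t) : (Spec R).Opens) ≤ PrimeSpectrum.basicOpen t := by
      rw [PrimeSpectrum.basicOpen_mul]; exact inf_le_right
    have e1 := congrArg ((Spec R).presheaf.map (homOfLE hst_s).op) ha
    have e2 := congrArg ((Spec R).presheaf.map (homOfLE hst_t).op) hb
    rw [map_mul, res_algebraMap, res_algebraMap] at e1 e2
    have hgg : (Spec R).presheaf.map (homOfLE hst_s).op ((Spec R).presheaf.map (homOfLE hDsU).op g) =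
        (Spec R).presheaf.map (homOfLE hst_t).op ((Spec R).presheaf.map (homOfLE hDtU).op g) := by
      rw [← CommRingCat.comp_apply, ← CommRingCat.comp_apply, ← Functor.map_comp,
        ← Functor.map_comp]
      rfl
    have hab : t ^ m * a = s ^ n * b := by
      apply algebraMap_injective_basicOpen R (s * t) (mul_ne_zero hs0 ht0)
      rw [map_mul, map_mul, ← e1, ← e2, hgg]
      ring
    obtain ⟨a', rfl⟩ := hdvd a b n m hab
    refine ⟨a', ?_⟩
    apply hresinj
    rw [res_algebraMap]
    have hunit : IsUnit (algebraMap R Γ(Spec R, PrimeSpectrum.basicOpen s) (s ^ n)) :=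
      IsLocalization.map_units _ (⟨s ^ n, n, rfl⟩ : Submonoid.powers s)
    apply hunit.mul_right_cancel
    rw [ha, map_mul, mul_comm]
  -- injectivity of `R → Γ(U)`
  have hinj : Function.Injective (algebraMap R Γ(Spec R, U)) := by
    intro x y hxy
    apply algebraMap_injective_basicOpen R s hs0
    rw [← res_algebraMap R hDsU, ← res_algebraMap R hDsU, hxy]
  -- the two sections generate the unit ideal
  have hb : ∀ f : R, (Spec R).basicOpen (algebraMap R Γ(Spec R, U) f) =
      U ⊓ PrimeSpectrum.basicOpen f := by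
    intro f
    rw [IsAffineOpen.algebraMap_Spec_obj, CommRingCat.comp_apply, Scheme.basicOpen_res,
      basicOpen_eq_of_affine]
  have hspan : Ideal.span ({algebraMap R Γ(Spec R, U) s,
      algebraMap R Γ(Spec R, U) t} : Set Γ(Spec R, U)) = ⊤ := by
    rw [← hU.self_le_iSup_basicOpen_iff]
    intro x hx
    rcases hx with hx | hx
    · refine Opens.mem_iSup.mpr ⟨⟨_, Set.mem_insert _ _⟩, ?_⟩
      rw [hb]
      exact ⟨Or.inl hx, hx⟩
    · refine Opens.mem_iSup.mpr ⟨⟨_, Set.mem_insert_of_mem _ rfl⟩, ?_⟩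
      rw [hb]
      exact ⟨Or.inr hx, hx⟩
  have h1 : (1 : Γ(Spec R, U)) ∈ Ideal.span ({algebraMap R Γ(Spec R, U) s,
      algebraMap R Γ(Spec R, U) t} : Set Γ(Spec R, U)) := by
    rw [hspan]; trivial
  rw [Ideal.mem_span_pair] at h1
  obtain ⟨x, y, hxy⟩ := h1
  obtain ⟨x', rfl⟩ := hsurj x
  obtain ⟨y', rfl⟩ := hsurj y
  rw [← map_mul, ← map_mul, ← map_add, ← map_one (algebraMap R Γ(Spec R, U))] at hxy
  exact hns x' y' (hinj hxy)

theorem main (K : Type u) [Field K] : ¬ IsAffineOpen (X := Spec (CommRingCat.of (MvPolynomial (Fin 2) K)))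
      (PrimeSpectrum.basicOpen (MvPolynomial.X 0 : MvPolynomial (Fin 2) K) ⊔
        PrimeSpectrum.basicOpen (MvPolynomial.X 1 : MvPolynomial (Fin 2) K)) := by
  haveI : IsDomain ↑(CommRingCat.of (MvPolynomial (Fin 2) K)) :=
    inferInstanceAs (IsDomain (MvPolynomial (Fin 2) K))
  exact not_affine_general (CommRingCat.of (MvPolynomial (Fin 2) K)) (MvPolynomial.X 0)
    (MvPolynomial.X 1) (MvPolynomial.X_ne_zero 0) (MvPolynomial.X_ne_zero 1)
    (fun a b n m h => pow_dvd_of_eq K a b n m h) (fun x y h => not_span K x y h)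

end Groth.Agent.Lib.Helper4.PuncturedPlane
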