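import Mathlib
import Groth.Agent.Lib.Helper4.QAffGrp5
import Groth.Agent.Lib.Helper4.GrpQuotDesc
import Groth.Agent.Lib.Helper4.PBQuotMor

/-!
# Descent of an action to a faithfully flat quotient of the group (helper4)

`q : G ⟶ Q` a flat, surjective, quasi-compact homomorphism of group schemes over `S` with kernel `N`, and an action of
`G` on `X` on which `N` acts trivially.
* `act_mul_point`: point form of the associativity of an action.
* `exists_desc_act`: the action morphism factors through `q ▷ X`.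
* `exists_action_quotient`: the induced morphism is an action of `Q` on `X`.
* `exists_cover_lift`: every `T`-point of `Q` lifts to `G` after an epimorphic base change.
* `isAffine_quotient_of_fixedPt` (**S14597**): over a field, if `N` is exactly the kernel of the action and the action
  has a fixed rational point on an integral separated locally Noetherian `X`, then `Q` is affine.
-/

set_option autoImplicit false
set_option backward.isDefEq.respectTransparency false
set_option linter.style.haveILetI false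

universe u

open CategoryTheory CategoryTheory.Limits MonoidalCategory CartesianMonoidalCategory MonObj AlgebraicGeometry

namespace Groth.Agent.Lib.helper4.QAffGrp

section General

variable {S : Scheme.{u}}

theorem act_mul_point {G X : Over S} [GrpObj G] (a : AlgGrp.Action G X) {T : Over S} (g h : T ⟶ G) (y : T ⟶ X) :
    lift (g * h) y ≫ a.act = lift g (lift h y ≫ a.act) ≫ a.act := by
  have e1 : lift (g * h) y = lift (lift g h) y ≫ (μ[G] ▷ X) := by
    apply CartesianMonoidalCategory.hom_ext <;> simp [Hom.mul_def]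
  have e2 : lift g (lift h y ≫ a.act) = lift (lift g h) y ≫ (α_ G G X).hom ≫ (G ◁ a.act) := by
    apply CartesianMonoidalCategory.hom_ext <;> simp
  rw [e1, e2, Category.assoc, a.mul_act]
  simp only [Category.assoc]

theorem act_one_point {G X : Over S} [GrpObj G] (a : AlgGrp.Action G X) {T : Over S} (y : T ⟶ X) :
    lift (1 : T ⟶ G) y ≫ a.act = y := by
  have e1 : lift (1 : T ⟶ G) y = lift (toUnit T) y ≫ (η[G] ▷ X) := by
    apply CartesianMonoidalCategory.hom_ext <;> simp [Hom.one_def]
  rw [e1, Category.assoc, a.one_act]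
  simp

variable {G N Q X : Over S} [GrpObj G] [GrpObj Q] (q : G ⟶ Q) [IsMonHom q] [Flat q.left] [Surjective q.left]
  [QuasiCompact q.left] (i : N ⟶ G) (hK : AlgGrp.IsKernel i q) (a : AlgGrp.Action G X)
  (hN : ∀ (T : Over S) (m : T ⟶ N) (y : T ⟶ X), lift (m ≫ i) y ≫ a.act = y)

omit [IsMonHom q] in
theorem flat_surj_qc_whiskerRight (X : Over S) :
    Flat (q ▷ X).left ∧ Surjective (q ▷ X).left ∧ QuasiCompact (q ▷ X).left := by
  have sq := (Groth.Agent.Lib.Helper4.PBQuotMor.isPullback_whiskerRight_fst X q).map (Over.forget S)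
  have sq' : IsPullback (fst G X).left (q ▷ X).left q.left (fst Q X).left := sq.flip
  exact ⟨MorphismProperty.of_isPullback (P := @Flat) sq' inferInstance,
    MorphismProperty.of_isPullback (P := @Surjective) sq' inferInstance,
    MorphismProperty.of_isPullback (P := @QuasiCompact) sq' inferInstance⟩

include hK hN in
theorem exists_desc_act : ∃ ā : Q ⊗ X ⟶ X, (q ▷ X) ≫ ā = a.act := by
  obtain ⟨hfl, hsu, hqc⟩ := flat_surj_qc_whiskerRight q X
  have hm : ∀ (W : Scheme.{u}) (x₁ x₂ : W ⟶ (G ⊗ X).left), x₁ ≫ (q ▷ X).left = x₂ ≫ (q ▷ X).left →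
      x₁ ≫ a.act.left = x₂ ≫ a.act.left := by
    intro W x₁ x₂ hx
    let W' : Over S := Over.mk (x₁ ≫ (G ⊗ X).hom)
    let p₁ : W' ⟶ G ⊗ X := Over.homMk x₁ rfl
    let p₂ : W' ⟶ G ⊗ X := Over.homMk x₂ (by
      show x₂ ≫ (G ⊗ X).hom = x₁ ≫ (G ⊗ X).hom
      rw [← Over.w (q ▷ X), ← Category.assoc, ← hx, Category.assoc])
    have hp : p₁ ≫ (q ▷ X) = p₂ ≫ (q ▷ X) := by
      apply Over.OverMorphism.ext
      exact hx
    have hq1 : (p₁ ≫ fst G X) ≫ q = (p₂ ≫ fst G X) ≫ q := by
      have := congrArg (· ≫ fst Q X) hp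
      simpa only [Category.assoc, whiskerRight_fst] using this
    have hy : p₁ ≫ snd G X = p₂ ≫ snd G X := by
      have := congrArg (· ≫ snd Q X) hp
      simpa only [Category.assoc, whiskerRight_snd] using this
    set g₁ := p₁ ≫ fst G X
    set g₂ := p₂ ≫ fst G X
    set y := p₂ ≫ snd G X
    have h1 : (g₁ * g₂⁻¹) ≫ q = toUnit W' ≫ η[Q] := by
      rw [MonObj.mul_comp, GrpObj.inv_comp, hq1, mul_inv_cancel, Hom.one_def]
    have h2 : hK.lift (g₁ * g₂⁻¹) (toUnit W') h1 ≫ i = g₁ * g₂⁻¹ := hK.lift_fst _ _ _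
    have e1 : p₁ = lift g₁ y := by
      apply CartesianMonoidalCategory.hom_ext
      · rw [lift_fst]
      · rw [lift_snd, hy]
    have e2 : p₂ = lift g₂ y := by
      apply CartesianMonoidalCategory.hom_ext
      · rw [lift_fst]
      · rw [lift_snd]
    have e3 : g₁ = (g₁ * g₂⁻¹) * g₂ := by group
    have h4 : p₁ ≫ a.act = p₂ ≫ a.act := by
      rw [e1, e3, act_mul_point, ← h2, hN, ← e2]
    exact congrArg Over.Hom.left h4
  obtain ⟨z, hz, -⟩ := Groth.Agent.Lib.Helper4.GrpQuotDesc.existsUnique_desc_of_isLocallyTrivialFor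
    (q ▷ X).left (Groth.Agent.Lib.Helper4.PrincipalBundleInv.isLocallyTrivialFor_self (q ▷ X).left) a.act.left hm
  haveI : Epi (q ▷ X).left := Flat.epi_of_flat_of_surjective _
  have hzX : z ≫ X.hom = (Q ⊗ X).hom := by
    rw [← cancel_epi (q ▷ X).left, ← Category.assoc, hz, Over.w a.act, Over.w (q ▷ X)]
  refine ⟨Over.homMk z hzX, ?_⟩
  ext
  exact hz

include hK hN in
theorem exists_action_quotient : ∃ ā : AlgGrp.Action Q X, (q ▷ X) ≫ ā.act = a.act := by
  obtain ⟨ā, hā⟩ := exists_desc_act q i hK a hN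
  obtain ⟨hfl, hsu, hqc⟩ := flat_surj_qc_whiskerRight q X
  refine ⟨⟨ā, ?_, ?_⟩, hā⟩
  · rw [← IsMonHom.one_hom q, comp_whiskerRight, Category.assoc, hā, a.one_act]
  · haveI : Epi (q ⊗ₘ (q ▷ X)) := Groth.Agent.Lib.Helper4.GrpQuotDesc.epi_tensorHom q (q ▷ X)
    have e : ((q ⊗ₘ q) ▷ X) = (α_ G G X).hom ≫ (q ⊗ₘ (q ▷ X)) ≫ (α_ Q Q X).inv := by
      rw [← tensorHom_id, ← tensorHom_id, ← Category.assoc, ← associator_naturality, Category.assoc,
        Iso.hom_inv_id, Category.comp_id]
    haveI : Epi ((q ⊗ₘ q) ▷ X) := by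
      rw [e]
      infer_instance
    rw [← cancel_epi ((q ⊗ₘ q) ▷ X)]
    have l1 : ((q ⊗ₘ q) ▷ X) ≫ (μ[Q] ▷ X) ≫ ā = (μ[G] ▷ X) ≫ a.act := by
      rw [← Category.assoc, ← comp_whiskerRight, ← IsMonHom.mul_hom, comp_whiskerRight, Category.assoc, hā]
    have l2 : ((q ⊗ₘ q) ▷ X) ≫ (α_ Q Q X).hom ≫ (Q ◁ ā) ≫ ā = (α_ G G X).hom ≫ (G ◁ a.act) ≫ a.act := by
      rw [e]
      simp only [Category.assoc, Iso.inv_hom_id_assoc]
      congr 1
      rw [MonoidalCategory.tensorHom_def]
      simp only [Category.assoc]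
      rw [← MonoidalCategory.whiskerLeft_comp_assoc, hā, ← whisker_exchange_assoc, hā]
    rw [l1, l2, a.mul_act]

omit [QuasiCompact q.left] in
/-- every point of the quotient lifts to the group after an epimorphic base change -/
theorem exists_cover_lift {T : Over S} (h : T ⟶ Q) :
    ∃ (T' : Over S) (c : T' ⟶ T) (g : T' ⟶ G), Epi c ∧ g ≫ q = c ≫ h := by
  have sq : IsPullback (pullback.fst h q).left (pullback.snd h q).left h.left q.left := by
    simpa using (IsPullback.of_hasPullback h q).map (Over.forget S)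
  haveI : Flat (pullback.fst h q).left := MorphismProperty.of_isPullback (P := @Flat) sq.flip inferInstance
  haveI : Surjective (pullback.fst h q).left :=
    MorphismProperty.of_isPullback (P := @Surjective) sq.flip inferInstance
  haveI : Epi (pullback.fst h q).left := Flat.epi_of_flat_of_surjective _
  exact ⟨pullback h q, pullback.fst h q, pullback.snd h q, Over.epi_of_epi_left _, pullback.condition.symm⟩

end General

section Field

variable {k : Type u} [Field k]

/-- **S14597** -/
theorem isAffine_quotient_of_fixedPt (G X : Over (Spec (CommRingCat.of k))) [GrpObj G] [LocallyOfFiniteType G.hom]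
    [QuasiCompact G.hom] [IsSeparated X.hom] [IsIntegral X.left] [IsLocallyNoetherian X.left]
    (a : AlgGrp.Action G X) (x : 𝟙_ (Over (Spec (CommRingCat.of k))) ⟶ X) (hx : a.IsFixedPt x)
    (N : Over (Spec (CommRingCat.of k))) (n : N ⟶ G)
    (hN : ∀ (T : Over (Spec (CommRingCat.of k))) (g : T ⟶ G), (∃ m : T ⟶ N, m ≫ n = g) ↔
      ∀ (T' : Over (Spec (CommRingCat.of k))) (t : T' ⟶ T) (y : T' ⟶ X), lift (t ≫ g) y ≫ a.act = y)
    (Q : Over (Spec (CommRingCat.of k))) [GrpObj Q] [LocallyOfFiniteType Q.hom] [QuasiCompact Q.hom]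
    (q : G ⟶ Q) [IsMonHom q] [Surjective q.left] [Flat q.left] (hq : AlgGrp.IsKernel n q) :
    IsAffine Q.left := by
  haveI := compactSpace_of_quasiCompact G
  haveI := quasiSeparatedSpace_of_lft Q
  haveI : QuasiCompact q.left := inferInstance
  have hN' : ∀ (T : Over (Spec (CommRingCat.of k))) (m : T ⟶ N) (y : T ⟶ X), lift (m ≫ n) y ≫ a.act = y := by
    intro T m y
    have := (hN T (m ≫ n)).1 ⟨m, rfl⟩ T (𝟙 T) y
    rwa [Category.id_comp] at this
  obtain ⟨ā, hā⟩ := exists_action_quotient q n hq a hN'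
  have key : ∀ (T : Over (Spec (CommRingCat.of k))) (g : T ⟶ G) (y : T ⟶ X),
      lift (g ≫ q) y ≫ ā.act = lift g y ≫ a.act := by
    intro T g y
    rw [← hā, ← Category.assoc]
    congr 1
    apply CartesianMonoidalCategory.hom_ext <;> simp
  apply isAffine_of_faithful_fixedPt Q X ā x
  · intro T h
    obtain ⟨T', c, g, hc, hg⟩ := exists_cover_lift q h
    rw [← cancel_epi c]
    have e1 : c ≫ lift h (toUnit T ≫ x) = lift (g ≫ q) (toUnit T' ≫ x) := by
      apply CartesianMonoidalCategory.hom_ext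
      · rw [Category.assoc, lift_fst, lift_fst, hg]
      · rw [Category.assoc, lift_snd, lift_snd, ← Category.assoc]
        congr 1
        exact toUnit_unique _ _
    rw [← Category.assoc, e1, key, hx, ← Category.assoc]
    congr 1
    exact toUnit_unique _ _
  · intro T h hh
    obtain ⟨T', c, g, hc, hg⟩ := exists_cover_lift q h
    rw [← cancel_epi c, MonObj.comp_one, ← hg]
    obtain ⟨m, hm⟩ := (hN T' g).2 (by
      intro T'' t y
      rw [← key, Category.assoc, hg, ← Category.assoc]
      exact hh T'' (t ≫ c) y)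
    rw [← hm, Category.assoc, hq.w, ← Category.assoc, Hom.one_def]
    congr 1
    exact toUnit_unique _ _

end Field

end Groth.Agent.Lib.helper4.QAffGrp
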