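import Mathlib
import Groth.Agent.Lib.Helper4.QAffGrp7

/-!
# Stabilisers of rational points under (rationally) faithful actions are affine (helper4)

* `restrictAction`: restriction of an action along a homomorphism.
* `isAffine_stabilizer` (**S11410**).
-/

set_option autoImplicit false
set_option backward.isDefEq.respectTransparency false
set_option linter.style.haveILetI false

universe u

open CategoryTheory CategoryTheory.Limits MonoidalCategory CartesianMonoidalCategory MonObj AlgebraicGeometry

namespace Groth.Agent.Lib.helper4.QAffGrp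

/-- restriction of an action along a homomorphism -/
noncomputable def restrictAction {S : Scheme.{u}} {G H X : Over S} [GrpObj G] [GrpObj H] (s : H ⟶ G) [IsMonHom s]
    (a : AlgGrp.Action G X) : AlgGrp.Action H X where
  act := (s ▷ X) ≫ a.act
  one_act := by
    rw [← Category.assoc, ← comp_whiskerRight, IsMonHom.one_hom, a.one_act]
  mul_act := by
    rw [← Category.assoc, ← comp_whiskerRight, IsMonHom.mul_hom, comp_whiskerRight, Category.assoc, a.mul_act]
    have e : ((s ⊗ₘ s) ▷ X) ≫ (α_ G G X).hom = (α_ H H X).hom ≫ (H ◁ (s ▷ X)) ≫ (s ▷ (G ⊗ X)) := by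
      rw [← tensorHom_id, associator_naturality, tensorHom_id, MonoidalCategory.tensorHom_def']
    rw [← Category.assoc, e]
    simp only [Category.assoc, MonoidalCategory.whiskerLeft_comp]
    congr 2
    rw [← Category.assoc, ← Category.assoc, whisker_exchange]

variable {k : Type u} [Field k] [IsAlgClosed k]

theorem isAffine_stabilizer (G X : Over (Spec (CommRingCat.of k))) [GrpObj G] [LocallyOfFiniteType G.hom]
    [QuasiCompact G.hom]
    [IsSeparated X.hom] [IsIntegral X.left] [IsLocallyNoetherian X.left]
    (a : AlgGrp.Action G X)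
    (hfaith : ∀ g : 𝟙_ (Over (Spec (CommRingCat.of k))) ⟶ G,
      lift (toUnit X ≫ g) (𝟙 X) ≫ a.act = 𝟙 X → g = η[G])
    (x : 𝟙_ (Over (Spec (CommRingCat.of k))) ⟶ X) (St : Over (Spec (CommRingCat.of k))) [GrpObj St]
    (s : St ⟶ G) [IsMonHom s] [IsClosedImmersion s.left]
    (hs : ∀ (T : Over (Spec (CommRingCat.of k))) (g : T ⟶ G), (∃ t : T ⟶ St, t ≫ s = g) →
      lift g (toUnit T ≫ x) ≫ a.act = toUnit T ≫ x) :
    IsAffine St.left := by
  haveI : LocallyOfFiniteType St.hom := by rw [← Over.w s]; infer_instance
  haveI : QuasiCompact St.hom := by rw [← Over.w s]; infer_instance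
  haveI := compactSpace_of_quasiCompact St
  haveI := quasiSeparatedSpace_of_lft St
  haveI : Mono s := by
    haveI : Mono s.left := inferInstance
    exact Over.mono_of_mono_left s
  let aS := restrictAction s a
  have hxS : aS.IsFixedPt x := by
    intro T g
    have e : lift g (toUnit T ≫ x) ≫ aS.act = lift (g ≫ s) (toUnit T ≫ x) ≫ a.act := by
      change lift g (toUnit T ≫ x) ≫ (s ▷ X) ≫ a.act = _
      rw [← Category.assoc]
      congr 1
      apply CartesianMonoidalCategory.hom_ext <;> simp
    rw [e]
    exact hs T (g ≫ s) ⟨g, rfl⟩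
  apply isAffine_of_rational_points St
  intro g hg
  have h1 := ker_act_trivial St X aS x hxS _ g hg
  have h2 : g ≫ s = η[G] := by
    apply hfaith
    have e : lift (toUnit X ≫ g ≫ s) (𝟙 X) = lift (toUnit X) (𝟙 X) ≫ (g ▷ X) ≫ (s ▷ X) := by
      apply CartesianMonoidalCategory.hom_ext <;> simp
    rw [e]
    simp only [Category.assoc]
    have h1' : (g ▷ X) ≫ (s ▷ X) ≫ a.act = snd _ X := h1
    rw [h1', lift_snd]
  rw [← cancel_mono s, h2, MonObj.one_comp, Hom.one_def]
  have : toUnit (𝟙_ (Over (Spec (CommRingCat.of k)))) = 𝟙 _ := toUnit_unique _ _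
  rw [this, Category.id_comp]

end Groth.Agent.Lib.helper4.QAffGrp
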