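import Mathlib
import Groth.Agent.Lib.Helper4.WeilFun4

/-!
# Finite sets of points in a fibre of a separated locally quasi-finite morphism lie in an affine
open (helper4)

Uses Zariski's main theorem (Mathlib): a quasi-compact separated quasi-finite morphism to an
affine scheme has quasi-affine source.
-/

set_option backward.isDefEq.respectTransparency false
set_option autoImplicit false
set_option linter.unusedSectionVars false
set_option linter.style.haveILetI false

universe u

open CategoryTheory CategoryTheory.Limits AlgebraicGeometry Opposite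

namespace Groth.Agent.Lib.Helper4.QFAff

open Groth.Agent.Lib.Helper4.WeilFun

/-- finite sets of points of an open subscheme of an affine scheme lie in an affine open -/
theorem exists_affine_of_openImmersion {X' N : Scheme.{u}} [IsAffine N] (j : X' ⟶ N)
    [IsOpenImmersion j] {d : ℕ} (x' : Fin d → X') :
    ∃ U : X'.Opens, IsAffineOpen U ∧ ∀ k, x' k ∈ U := by
  let Sg : Set N := Set.range (fun k => j (x' k))
  have hSg : Sg.Finite := Set.finite_range _
  obtain ⟨a, ha1, ha2⟩ := exists_basicOpen_of_finite (Y := N) (U₀ := ⊤) (isAffineOpen_top N)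
    j.opensRange Sg hSg (fun _ _ => trivial) (by
      rintro _ ⟨k, rfl⟩
      exact ⟨x' k, rfl⟩)
  have hD : IsAffineOpen (N.basicOpen a) := (isAffineOpen_top N).basicOpen a
  refine ⟨j ⁻¹ᵁ N.basicOpen a, hD.preimage_of_isOpenImmersion j ha2, ?_⟩
  intro k
  exact ha1 ⟨k, rfl⟩

theorem exists_affine_of_locallyQuasiFinite {X S : Scheme.{u}} (f : X ⟶ S) [IsSeparated f]
    [LocallyQuasiFinite f] [LocallyOfFiniteType f] (s : S) (d : ℕ) (x : Fin d → X)
    (hx : ∀ k, f (x k) = s) : ∃ U : X.Opens, IsAffineOpen U ∧ ∀ k, x k ∈ U := by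
  obtain ⟨V, hV, hsV, -⟩ :=
    exists_isAffineOpen_mem_and_subset (X := S) (x := s) (U := ⊤) trivial
  haveI : IsAffine (V : Scheme.{u}) := hV
  have hxV : ∀ k, x k ∈ f ⁻¹ᵁ V := fun k => by
    show f (x k) ∈ V
    rw [hx k]; exact hsV
  choose A hA hxA hAV using fun k => exists_isAffineOpen_mem_and_subset (hxV k)
  let X' : X.Opens := ⨆ k, A k
  have hX'V : X' ≤ f ⁻¹ᵁ V := iSup_le fun k => hAV k
  have hcompact : IsCompact (X' : Set X) := by
    have : (X' : Set X) = ⋃ k, (A k : Set X) := by
      simp [X']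
    rw [this]
    exact isCompact_iUnion fun k => (hA k).isCompact
  haveI : CompactSpace (X' : Scheme.{u}) := isCompact_iff_compactSpace.mp hcompact
  have hrange : Set.range (X'.ι ≫ f) ⊆ Set.range V.ι := by
    rw [Scheme.Opens.range_ι]
    rintro _ ⟨w, rfl⟩
    rw [Scheme.Hom.comp_apply]
    have : X'.ι w ∈ X' := by
      have : X'.ι w ∈ Set.range X'.ι := ⟨w, rfl⟩
      rwa [Scheme.Opens.range_ι] at this
    exact hX'V this
  let f' : (X' : Scheme.{u}) ⟶ V := IsOpenImmersion.lift V.ι (X'.ι ≫ f) hrange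
  have hf' : f' ≫ V.ι = X'.ι ≫ f := IsOpenImmersion.lift_fac _ _ _
  haveI : IsSeparated (f' ≫ V.ι) := by rw [hf']; infer_instance
  haveI : IsSeparated f' := IsSeparated.of_comp f' V.ι
  haveI : LocallyQuasiFinite (f' ≫ V.ι) := by rw [hf']; infer_instance
  haveI : LocallyQuasiFinite f' := LocallyQuasiFinite.of_comp f' V.ι
  haveI : LocallyOfFiniteType (f' ≫ V.ι) := by rw [hf']; infer_instance
  haveI : LocallyOfFiniteType f' := locallyOfFiniteType_of_comp f' V.ι
  haveI : QuasiCompact f' := by
    rw [HasAffineProperty.iff_of_isAffine (P := @QuasiCompact)]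
    infer_instance
  haveI : IsAffine f'.normalization := isAffine_of_isAffineHom f'.fromNormalization
  have hxX' : ∀ k, x k ∈ X' := fun k =>
    (le_iSup (fun k => A k) k) (hxA k)
  let x' : Fin d → (X' : Scheme.{u}) := fun k => ⟨x k, hxX' k⟩
  obtain ⟨U', hU', hxU'⟩ := exists_affine_of_openImmersion f'.toNormalization x'
  refine ⟨X'.ι ''ᵁ U', hU'.image_of_isOpenImmersion X'.ι, ?_⟩
  intro k
  exact ⟨x' k, hxU' k, rfl⟩

end Groth.Agent.Lib.Helper4.QFAff
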