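import Mathlib
import Groth.Prelude.Def_Grpd
import Groth.Prelude.Def_Dual3
import Groth.Agent.Lib.Helper4.QSplitSet

/-!
# Split étale neighbourhoods of groupoid schemes: the stabilizer version (helper4)
-/

set_option backward.isDefEq.respectTransparency false
set_option autoImplicit false
set_option linter.style.haveILetI false
set_option linter.unusedSectionVars false

universe u
open CategoryTheory CategoryTheory.Limits AlgebraicGeometry IsLocalRing
open Grpd

namespace Groth.Agent.Lib.Helper4.Coind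

open Groth.Agent.Lib.helper13.EL Groth.Agent.Lib.Helper4.GrpdTc
  Groth.Agent.Lib.Helper4.GrpdRestrGen Groth.Agent.Lib.Helper4.BasePt

variable {S : Scheme.{u}}

section stab

variable (G : Grpd.GroupoidScheme S)

@[reassoc]
theorem diag_fst : G.diag ≫ pullback.fst G.pU G.pU = 𝟙 G.U := pullback.lift_fst _ _ _

@[reassoc]
theorem diag_snd : G.diag ≫ pullback.snd G.pU G.pU = 𝟙 G.U := pullback.lift_snd _ _ _

theorem e_j : G.e ≫ G.j = G.diag := by
  apply pullback.hom_ext
  · rw [Category.assoc, RestrDataG.j_fst, G.e_t, diag_fst]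
  · rw [Category.assoc, RestrDataG.j_snd, G.e_s, diag_snd]

/-- the swap of `U ×_S U` -/
noncomputable def swp : pullback G.pU G.pU ⟶ pullback G.pU G.pU :=
  pullback.lift (pullback.snd _ _) (pullback.fst _ _) pullback.condition.symm

theorem i_j : G.i ≫ G.j = G.j ≫ swp G := by
  apply pullback.hom_ext
  · rw [Category.assoc, RestrDataG.j_fst, G.i_t, Category.assoc]
    unfold swp
    rw [pullback.lift_fst, RestrDataG.j_snd]
  · rw [Category.assoc, RestrDataG.j_snd, G.i_s, Category.assoc]
    unfold swp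
    rw [pullback.lift_snd, RestrDataG.j_fst]

theorem diag_swp : G.diag ≫ swp G = G.diag := by
  unfold swp
  apply pullback.hom_ext
  · rw [Category.assoc, pullback.lift_fst, diag_snd, diag_fst]
  · rw [Category.assoc, pullback.lift_snd, diag_fst, diag_snd]

/-- the image in `R` of the stabilizer points over `u` -/
def stabSet (u : G.U) : Set G.R :=
  {r | ∃ g : ↥G.stabilizer, G.stabilizerToU g = u ∧
    (pullback.fst G.j G.diag : G.stabilizer ⟶ G.R) g = r}

theorem mem_stabSet_iff (u : G.U) (r : G.R) : r ∈ stabSet G u ↔ G.j r = G.diag u := by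
  constructor
  · rintro ⟨g, hg, rfl⟩
    have h1 : (pullback.fst G.j G.diag ≫ G.j) g = (pullback.snd G.j G.diag ≫ G.diag) g := by
      rw [pullback.condition]
    rw [Scheme.Hom.comp_apply, Scheme.Hom.comp_apply] at h1
    rw [h1]
    congr 1
  · intro h
    obtain ⟨g, hg1, hg2⟩ := Scheme.Pullback.exists_preimage_pullback r u h
    exact ⟨g, hg2, hg1⟩

theorem stabSet_finite (u : G.U) (hfin : Set.Finite {g : ↥G.stabilizer | G.stabilizerToU g = u}) :
    (stabSet G u).Finite := by
  have : stabSet G u = (fun g => (pullback.fst G.j G.diag : G.stabilizer ⟶ G.R) g) ''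
      {g : ↥G.stabilizer | G.stabilizerToU g = u} := by
    ext r
    constructor
    · rintro ⟨g, hg, rfl⟩
      exact ⟨g, hg, rfl⟩
    · rintro ⟨g, hg, rfl⟩
      exact ⟨g, hg, rfl⟩
  rw [this]
  exact hfin.image _

theorem s_of_mem_stabSet (u : G.U) (r : G.R) (h : r ∈ stabSet G u) : G.s r = u := by
  rw [mem_stabSet_iff] at h
  have : (G.j ≫ pullback.snd G.pU G.pU) r = (G.diag ≫ pullback.snd G.pU G.pU) u := by
    rw [Scheme.Hom.comp_apply, Scheme.Hom.comp_apply, h]
  rw [RestrDataG.j_snd, diag_snd] at this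
  exact this

theorem t_of_mem_stabSet (u : G.U) (r : G.R) (h : r ∈ stabSet G u) : G.t r = u := by
  rw [mem_stabSet_iff] at h
  have : (G.j ≫ pullback.fst G.pU G.pU) r = (G.diag ≫ pullback.fst G.pU G.pU) u := by
    rw [Scheme.Hom.comp_apply, Scheme.Hom.comp_apply, h]
  rw [RestrDataG.j_fst, diag_fst] at this
  exact this

end stab

theorem split (S : Scheme.{u}) (G : Grpd.GroupoidScheme S) [IsAffine G.U]
    [IsSeparated G.s] [IsSeparated G.t] [Flat G.s] [Flat G.t]
    [LocallyOfFinitePresentation G.s] [LocallyOfFinitePresentation G.t]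
    (u : ↥G.U) (hfin : Set.Finite {g : ↥G.stabilizer | G.stabilizerToU g = u})
    (hqf : ∀ g : ↥G.stabilizer, G.stabilizerToU g = u →
      Dual3.QuasiFiniteAt G.s ((pullback.fst G.j G.diag : G.stabilizer ⟶ G.R) g)) :
    ∃ (G' : Grpd.GroupoidScheme S) (φ : Grpd.GroupoidScheme.Hom G' G) (u' : ↥G'.U),
      IsAffine G'.U ∧ Etale φ.fU ∧ φ.fU u' = u ∧ IsIso (φ.fU.residueFieldMap u') ∧
      IsPullback φ.fR G'.j G.j
        (pullback.map G'.pU G'.pU G.pU G.pU φ.fU φ.fU (𝟙 S)
          ((Category.comp_id _).trans φ.fU_over.symm) ((Category.comp_id _).trans φ.fU_over.symm)) ∧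
      ∃ (P : Scheme.{u}) (ιP : P ⟶ G'.R), IsOpenImmersion ιP ∧
        (∃ eP : G'.U ⟶ P, eP ≫ ιP = G'.e) ∧ (∃ iP : P ⟶ P, iP ≫ ιP = ιP ≫ G'.i) ∧
        (∃ cP : pullback (ιP ≫ G'.s) (ιP ≫ G'.t) ⟶ P,
          cP ≫ ιP = pullback.map (ιP ≫ G'.s) (ιP ≫ G'.t) G'.s G'.t ιP ιP (𝟙 G'.U)
            (Category.comp_id _) (Category.comp_id _) ≫ G'.c) ∧
        IsFinite (ιP ≫ G'.s) ∧ IsFinite (ιP ≫ G'.t) ∧
        ∀ g' : ↥G'.stabilizer, G'.stabilizerToU g' = u' →
          ∃ p : ↥P, ιP p = (pullback.fst G'.j G'.diag : G'.stabilizer ⟶ G'.R) g' := by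
  obtain ⟨G', φ, u', h1, h2, h3, h4, h5, P, ιP, h6, h7, h8, h9, h10, h11, h12⟩ :=
    exists_split_set G u (stabSet G u) (stabSet_finite G u hfin) (s_of_mem_stabSet G u)
      (t_of_mem_stabSet G u)
      (by
        rintro r ⟨g, hg, rfl⟩
        exact hqf g hg)
      (by
        rw [mem_stabSet_iff, ← Scheme.Hom.comp_apply, e_j])
      (by
        intro r hr
        rw [mem_stabSet_iff] at hr ⊢
        rw [← Scheme.Hom.comp_apply, i_j, Scheme.Hom.comp_apply, hr, ← Scheme.Hom.comp_apply,
          diag_swp])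
      (by
        intro L _ α β hαβ hα hβ
        have htα : G.t (α (closedPoint L)) = u := t_of_mem_stabSet G u _ hα
        rw [mem_stabSet_iff] at hα hβ ⊢
        have hα' : α ≫ G.j = ((α ≫ G.j) ≫ pullback.fst G.pU G.pU) ≫ G.diag :=
          factor_section (pullback.fst G.pU G.pU) G.diag (diag_fst G) u (α ≫ G.j)
            (by rw [Scheme.Hom.comp_apply]; exact hα)
        have hβ' : β ≫ G.j = ((β ≫ G.j) ≫ pullback.fst G.pU G.pU) ≫ G.diag :=
          factor_section (pullback.fst G.pU G.pU) G.diag (diag_fst G) u (β ≫ G.j)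
            (by rw [Scheme.Hom.comp_apply]; exact hβ)
        have hαst : α ≫ G.s = α ≫ G.t := by
          have := congrArg (fun f => f ≫ pullback.snd G.pU G.pU) hα'
          simp only [Category.assoc, RestrDataG.j_snd, RestrDataG.j_fst, diag_snd, Category.comp_id] at this
          exact this
        have hβst : β ≫ G.s = β ≫ G.t := by
          have := congrArg (fun f => f ≫ pullback.snd G.pU G.pU) hβ'
          simp only [Category.assoc, RestrDataG.j_snd, RestrDataG.j_fst, diag_snd, Category.comp_id] at this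
          exact this
        have hγ : tc G α β ≫ G.j = (α ≫ G.t) ≫ G.diag := by
          apply pullback.hom_ext
          · rw [Category.assoc, RestrDataG.j_fst, tc_t G α β hαβ, Category.assoc, diag_fst, Category.comp_id]
          · rw [Category.assoc, RestrDataG.j_snd, tc_s G α β hαβ, Category.assoc, diag_snd, Category.comp_id,
              hβst, ← hαβ, hαst]
        rw [← Scheme.Hom.comp_apply, hγ, Scheme.Hom.comp_apply, Scheme.Hom.comp_apply, htα])
  refine ⟨G', φ, u', h1, h2, h3, h4, h5, P, ιP, h6, h7, h8, h9, h10, h11, ?_⟩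
  intro g' hg'
  have hmem : (pullback.fst G'.j G'.diag : G'.stabilizer ⟶ G'.R) g' ∈ stabSet G' u' :=
    ⟨g', hg', rfl⟩
  apply h12 _ (s_of_mem_stabSet G' u' _ hmem) (t_of_mem_stabSet G' u' _ hmem)
  rw [mem_stabSet_iff] at hmem ⊢
  have hdiag : G'.diag ≫ pullback.map G'.pU G'.pU G.pU G.pU φ.fU φ.fU (𝟙 S)
      ((Category.comp_id _).trans φ.fU_over.symm) ((Category.comp_id _).trans φ.fU_over.symm) =
      φ.fU ≫ G.diag := by
    apply pullback.hom_ext
    · rw [Category.assoc, pullback.lift_fst, diag_fst_assoc, Category.assoc, diag_fst,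
        Category.comp_id]
    · rw [Category.assoc, pullback.lift_snd, diag_snd_assoc, Category.assoc, diag_snd,
        Category.comp_id]
  rw [← Scheme.Hom.comp_apply, h5.w, Scheme.Hom.comp_apply, hmem, ← Scheme.Hom.comp_apply, hdiag,
    Scheme.Hom.comp_apply, h3]

end Groth.Agent.Lib.Helper4.Coind
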