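import Mathlib
import Groth.Agent.Lib.Helper4.GerbCoarse
import Groth.Agent.Lib.Helper4.QuotSt2
import Groth.Agent.Lib.Helper4.QuotCmp5

/-!
# The quotient stack of a geometric-orbit categorical quotient is a coarse moduli space (helper4)
-/

set_option backward.isDefEq.respectTransparency false
set_option backward.isDefEq.respectTransparency.types false
set_option autoImplicit false
set_option linter.style.haveILetI false
set_option linter.unusedSectionVars false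
set_option linter.unusedVariables false
set_option linter.unusedSimpArgs false

universe u

open CategoryTheory CategoryTheory.Limits MonoidalCategory CartesianMonoidalCategory MonObj GrpObj AlgebraicGeometry
open AlgSt Opposite

namespace Groth.Agent.Lib.helper4.QuotCoarse

open Groth.Agent.FibEquiv Groth.Agent.Lib.helper4.FibPaste FibCat Groth.Agent.FibYoneda
open Groth.Agent.Lib.helper4.Descent Groth.Agent.Lib.helper4.PshDict Groth.Agent.Lib.helper4.GerbCoarse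
open Groth.Agent.Lib.helper4.QuotSt1 Groth.Agent.Lib.helper4.QuotSt2 Groth.Agent.Lib.helper4.QuotCmp
open Groth.Agent.Lib.helper4.SpQuot

variable {S : Scheme.{u}} {G : Over S} [GrpObj G] {X : Over S} {aX : AlgGrp.Action G X}

/-- the sieve of the maps to the base of a torsor over which it has a section -/
def secSieveQ (A : QuotObj Scheme.fppfPrecoverage G aX) : Sieve A.base where
  arrows := fun T' k => ∃ s : T' ⟶ A.P, s ≫ A.π = k
  downward_closed := by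
    rintro T' T'' k ⟨s, hs⟩ k'
    exact ⟨k' ≫ s, by rw [Category.assoc, hs]⟩

theorem secSieveQ_mem (A : QuotObj Scheme.fppfPrecoverage G aX) : secSieveQ A ∈ (AlgSp.J S) A.base := by
  refine (AlgSp.J S).superset_covering ?_ (secSieve_mem (cmpObj Scheme.fppfPrecoverage G aX A))
  rintro T' k ⟨σ, hσ⟩
  refine ⟨(AlgSp.yon S).preimage σ, ?_⟩
  apply (AlgSp.yon S).map_injective
  rw [Functor.map_comp, Functor.map_preimage]
  exact hσ

section Main

variable (Y : Over S) (f : X ⟶ Y)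
  (π : AlgSt.QuotSt Scheme.fppfPrecoverage G aX ⥤ᵇ AlgSt.ofSch Y)
  (iπ : BasedFunctor.comp (AlgSt.quotMap Scheme.fppfPrecoverage G aX) π ≅
    AlgSt.ofSpMap ((AlgSp.yon S).map f))

include iπ in
theorem secOf_key {N : AlgSp.Sp S} (χ : (AlgSp.yon S).obj Y ⟶ N) (a : (AlgSt.ofSch X).obj) :
    secOf (BasedFunctor.comp (AlgSt.quotMap Scheme.fppfPrecoverage G aX)
      (BasedFunctor.comp π (AlgSt.ofSpMap χ))) a =
    χ.hom.app (op a.base) (((AlgSp.yon S).map f).hom.app (op a.base) a.sec) := by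
  change secOf (BasedFunctor.comp (BasedFunctor.comp (AlgSt.quotMap Scheme.fppfPrecoverage G aX) π)
    (AlgSt.ofSpMap χ)) a = _
  rw [secOf_comp, pshMapOf_ofPshMap, secOf_eq_of_iso iπ, secOf_ofPshMap]
  rfl

/-- sections named by a functor out of the quotient stack, restricted along a trivialisation -/
theorem secOf_triv {N : AlgSp.Sp S} (Ψ : AlgSt.QuotSt Scheme.fppfPrecoverage G aX ⥤ᵇ AlgSt.ofSp N)
    (A : QuotObj Scheme.fppfPrecoverage G aX) {T : Over S} (s : T ⟶ A.P) :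
    N.obj.map (s ≫ A.π).op (secOf Ψ A) =
      secOf (BasedFunctor.comp (AlgSt.quotMap Scheme.fppfPrecoverage G aX) Ψ)
        (⟨T, ⟨s ≫ A.φ⟩⟩ : (AlgSt.ofSch X).obj) :=
  secOf_map Ψ (triv A s)

include iπ in
/-- the universal property of the quotient stack of a categorical quotient -/
theorem existsUnique_of_catQuot
    (hcat : ∀ (N : AlgSp.Space S) (ψ : (AlgSp.yon S).obj X ⟶ N.obj),
      (AlgSp.yon S).map aX.act ≫ ψ = (AlgSp.yon S).map (snd G X) ≫ ψ →
        ∃! χ : (AlgSp.yon S).obj Y ⟶ N.obj, (AlgSp.yon S).map f ≫ χ = ψ)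
    (N : AlgSp.Sp S) (hN : AlgSp.IsAlgSpace N)
    (φ : AlgSt.QuotSt Scheme.fppfPrecoverage G aX ⥤ᵇ AlgSt.ofSp N) :
    ∃! g : (AlgSp.yon S).obj Y ⟶ N, Nonempty (BasedFunctor.comp π (AlgSt.ofSpMap g) ≅ φ) := by
  let ψp := pshMapOf (BasedFunctor.comp (AlgSt.quotMap Scheme.fppfPrecoverage G aX) φ)
  let ψ : (AlgSp.yon S).obj X ⟶ N := ObjectProperty.homMk ψp
  have hψ : ∀ a : (AlgSt.ofSch X).obj, ψ.hom.app (op a.base) a.sec =
      secOf (BasedFunctor.comp (AlgSt.quotMap Scheme.fppfPrecoverage G aX) φ) a := fun a => rfl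
  have hinv : (AlgSp.yon S).map aX.act ≫ ψ = (AlgSp.yon S).map (snd G X) ≫ ψ := by
    apply ObjectProperty.hom_ext
    ext T w
    let a : (AlgSt.ofSch X).obj := ⟨T.unop, ⟨w.down ≫ aX.act⟩⟩
    let b : (AlgSt.ofSch X).obj := ⟨T.unop, ⟨w.down ≫ snd G X⟩⟩
    change ψ.hom.app (op a.base) a.sec = ψ.hom.app (op b.base) b.sec
    rw [hψ, hψ]
    have hg : lift (w.down ≫ fst G X) (𝟙 T.unop ≫ b.sec.down) ≫ aX.act = a.sec.down := by
      change lift (w.down ≫ fst G X) (𝟙 T.unop ≫ w.down ≫ snd G X) ≫ aX.act = w.down ≫ aX.act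
      rw [Category.id_comp, ← comp_lift, lift_fst_snd, Category.comp_id]
    have := secOf_map φ (rmulHom (K := Scheme.fppfPrecoverage) aX a b (𝟙 T.unop) (w.down ≫ fst G X) hg)
    change N.obj.map (𝟙 T.unop).op _ = _ at this
    have e1 : secOf (BasedFunctor.comp (AlgSt.quotMap Scheme.fppfPrecoverage G aX) φ) a =
        secOf φ ((AlgSt.quotMap Scheme.fppfPrecoverage G aX).obj a) := rfl
    have e2 : secOf (BasedFunctor.comp (AlgSt.quotMap Scheme.fppfPrecoverage G aX) φ) b =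
        secOf φ ((AlgSt.quotMap Scheme.fppfPrecoverage G aX).obj b) := rfl
    rw [e1, e2, ← this]
    exact map_id_op_apply N.obj _ _
  obtain ⟨χ, hχ, huniq⟩ := hcat ⟨N, hN⟩ ψ hinv
  have hsheaf : Presieve.IsSheaf (AlgSp.J S) N.obj := (isSheaf_iff_isSheaf_of_type _ _).1 N.property
  refine ⟨χ, ⟨isoOfSecEq _ _ (fun A => ?_)⟩, ?_⟩
  · apply (hsheaf (secSieveQ A) (secSieveQ_mem A)).isSeparatedFor.ext
    rintro T' k ⟨s, rfl⟩
    rw [secOf_triv, secOf_triv, secOf_key Y f π iπ χ, ← hψ, ← hχ]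
    rfl
  · rintro χ' ⟨i3⟩
    apply huniq
    apply ObjectProperty.hom_ext
    ext T w
    let a : (AlgSt.ofSch X).obj := ⟨T.unop, w⟩
    change χ'.hom.app (op a.base) (((AlgSp.yon S).map f).hom.app (op a.base) a.sec) = ψ.hom.app (op a.base) a.sec
    rw [← secOf_key Y f π iπ χ', hψ]
    exact secOf_eq_of_iso (whiskerLeftIso (AlgSt.quotMap Scheme.fppfPrecoverage G aX) i3) a

/-- over a geometric point every torsor is trivial -/
theorem exists_triv_geom {Ω : Type u} [Field Ω] [IsAlgClosed Ω] (t : Spec (CommRingCat.of Ω) ⟶ S)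
    (T : Over S) (hT : T = Over.mk t) (A : (AlgSt.QuotSt Scheme.fppfPrecoverage G aX).p.Fiber T) :
    ∃ (x : T ⟶ X) (m : (AlgSt.quotMap Scheme.fppfPrecoverage G aX).obj (⟨T, ⟨x⟩⟩ : (AlgSt.ofSch X).obj) ⟶ A.1),
      (AlgSt.QuotSt Scheme.fppfPrecoverage G aX).p.IsHomLift (𝟙 T) m := by
  obtain ⟨A0, hA⟩ := A
  subst hA
  obtain ⟨s, hs⟩ := id_mem_of_mem_J' t _ hT (secSieveQ A0) (secSieveQ_mem A0)
  refine ⟨s ≫ A0.φ, triv A0 s, ?_⟩
  apply IsHomLift.of_fac' (AlgSt.QuotSt Scheme.fppfPrecoverage G aX).p _ _ rfl rfl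
  change s ≫ A0.π = _
  rw [hs]
  simp

include iπ in
theorem fibSec_quotMap (T : Over S) (x : T ⟶ X) :
    AlgSt.fibSec π (⟨(AlgSt.quotMap Scheme.fppfPrecoverage G aX).obj (⟨T, ⟨x⟩⟩ : (AlgSt.ofSch X).obj), rfl⟩ :
      (AlgSt.QuotSt Scheme.fppfPrecoverage G aX).p.Fiber T) = ⟨x ≫ f⟩ := by
  have h1 := fibSec_eq_of_iso iπ (⟨(⟨T, ⟨x⟩⟩ : (AlgSt.ofSch X).obj), rfl⟩ : (AlgSt.ofSch X).p.Fiber T)
  rw [fibSec_comp] at h1
  refine h1.trans ?_
  unfold AlgSt.fibSec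
  exact map_id_op_apply _ _ _

include iπ in
/-- geometric orbits give bijectivity on geometric points -/
theorem geomPtBij_of_orbits [IsAffineHom G.hom]
    (horb : ∀ (Ω : Type u) [Field Ω] [IsAlgClosed Ω] (t : Spec (CommRingCat.of Ω) ⟶ S),
      (∀ y : Over.mk t ⟶ Y, ∃ x : Over.mk t ⟶ X, x ≫ f = y) ∧
      (∀ x x' : Over.mk t ⟶ X, x ≫ f = x' ≫ f → ∃ g : Over.mk t ⟶ G, lift g x' ≫ aX.act = x)) :
    AlgSt.GeomPtBij π := by
  intro Ω _ _ t
  obtain ⟨ho1, ho2⟩ := horb Ω t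
  have hfg : IsFibGrpd (AlgSt.QuotSt Scheme.fppfPrecoverage G aX).p := (isStack_quotSt (aX := aX)).1
  constructor
  · intro m
    obtain ⟨x, hx⟩ := ho1 m.down
    refine ⟨⟨(AlgSt.quotMap Scheme.fppfPrecoverage G aX).obj (⟨Over.mk t, ⟨x⟩⟩ : (AlgSt.ofSch X).obj), rfl⟩, ?_⟩
    rw [fibSec_quotMap Y f π iπ, hx]
    rfl
  · intro A A' h
    obtain ⟨x, m, hm⟩ := exists_triv_geom t _ rfl A
    obtain ⟨x', m', hm'⟩ := exists_triv_geom t _ rfl A'
    have e1 := fibSec_eq_of_hom π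
      (⟨(AlgSt.quotMap Scheme.fppfPrecoverage G aX).obj (⟨Over.mk t, ⟨x⟩⟩ : (AlgSt.ofSch X).obj), rfl⟩ :
        (AlgSt.QuotSt Scheme.fppfPrecoverage G aX).p.Fiber (Over.mk t)) A m hm
    have e2 := fibSec_eq_of_hom π
      (⟨(AlgSt.quotMap Scheme.fppfPrecoverage G aX).obj (⟨Over.mk t, ⟨x'⟩⟩ : (AlgSt.ofSch X).obj), rfl⟩ :
        (AlgSt.QuotSt Scheme.fppfPrecoverage G aX).p.Fiber (Over.mk t)) A' m' hm'
    rw [← e1, ← e2, fibSec_quotMap Y f π iπ, fibSec_quotMap Y f π iπ] at h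
    have hxx : x ≫ f = x' ≫ f := congrArg ULift.down h
    obtain ⟨g, hg⟩ := ho2 x x' hxx
    let a : (AlgSt.ofSch X).obj := ⟨Over.mk t, ⟨x⟩⟩
    let a' : (AlgSt.ofSch X).obj := ⟨Over.mk t, ⟨x'⟩⟩
    have hg' : lift g (𝟙 (Over.mk t) ≫ a'.sec.down) ≫ aX.act = a.sec.down := by
      change lift g (𝟙 (Over.mk t) ≫ x') ≫ aX.act = x
      rw [Category.id_comp, hg]
    let r := rmulHom (K := Scheme.fppfPrecoverage) aX a a' (𝟙 (Over.mk t)) g hg'
    have hr : (AlgSt.QuotSt Scheme.fppfPrecoverage G aX).p.IsHomLift (𝟙 (Over.mk t)) r := by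
      apply IsHomLift.of_fac' (AlgSt.QuotSt Scheme.fppfPrecoverage G aX).p _ _ rfl rfl
      change 𝟙 (Over.mk t) = _
      simp
    haveI := isIso_of_lift hfg (𝟙 (Over.mk t)) m
    have hinv : (AlgSt.QuotSt Scheme.fppfPrecoverage G aX).p.IsHomLift (𝟙 (Over.mk t)) (inv m) :=
      IsHomLift.lift_id_inv_isIso _ _ m
    have hc : (AlgSt.QuotSt Scheme.fppfPrecoverage G aX).p.IsHomLift
        (𝟙 (Over.mk t) ≫ 𝟙 (Over.mk t) ≫ 𝟙 (Over.mk t)) (inv m ≫ r ≫ m') := inferInstance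
    rw [Category.id_comp, Category.id_comp] at hc
    exact ⟨fibIsoOfHom hfg A A' (inv m ≫ r ≫ m') hc⟩

end Main

end Groth.Agent.Lib.helper4.QuotCoarse
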