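import Mathlib
import Groth.Agent.Lib.Helper4.QuotDiagFppf
import Groth.Agent.Lib.Helper4.AlgStLocQ
import Groth.Agent.S9944
import Groth.Agent.S10271

/-!
# An affine diagonal of a stack forces an affine diagonal of an affine chart (helper4)
-/

set_option backward.isDefEq.respectTransparency false
set_option backward.isDefEq.respectTransparency.types false
set_option autoImplicit false
set_option linter.style.haveILetI false
set_option linter.unusedSectionVars false
set_option linter.unusedVariables false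
set_option linter.unusedSimpArgs false

universe u

open CategoryTheory CategoryTheory.Limits AlgebraicGeometry
open AlgSt Opposite

namespace Groth.Agent.Lib.helper4.QuotDiagFppf

open Groth.Agent.Lib.helper5.AffDesc Groth.Agent.Lib.helper4.AlgStAffine Groth.Agent.Lib.helper4.AlgStSource
open Groth.Agent.Lib.helper4.FibRep Groth.Agent.Lib.helper4.AlgStDiagCover Groth.Agent.Lib.helper4.AlgStWNA
open Groth.Agent.Lib.helper4.AlgStDiagK Groth.Agent.Lib.helper5.LocPBC Groth.Agent.Lib.helper4.QuotEt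
open Groth.Agent.Lib.helper4.AlgStDiagCover3 Groth.Agent.Lib.helper4.AlgStLocQ
open Groth.Agent.FibEquiv FibCat Groth.Agent.Lib.helper4.FibPaste Groth.Agent.Lib.helper4.AlgStEquiv
open Groth.Agent.Lib.helper4.AlgStRep Groth.Agent.Lib.helper4.PshRep Groth.Agent.Lib.helper4.PshDict
open Groth.Agent.FibFpProj

variable {S : Scheme.{u}}

/-- a morphism of schemes over `S` inducing an affine morphism of sheaves is affine -/
theorem isAffineHom_of_isAffineMor_yon_map {U V : Over S} (g : U ⟶ V)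
    (h : AlgSp.IsAffineMor ((AlgSp.yon S).map g)) : IsAffineHom g.left := by
  apply IsZariskiLocalAtTarget.of_openCover (P := @IsAffineHom) V.left.affineCover
  intro j
  let ι := V.left.affineCover.f j
  let Vj : Over S := Over.mk (ι ≫ V.hom)
  let ιj : Vj ⟶ V := Over.homMk ι rfl
  obtain ⟨W, i, fst, sq, hW⟩ := h (Z := Vj) (inferInstance : IsAffine (V.left.affineCover.X j))
    ((AlgSp.yon S).map ιj)
  obtain ⟨f₀, rfl⟩ := (AlgSp.yon S).map_surjective fst
  have sq1 : IsPullback f₀ i g ιj := IsPullback.of_map (AlgSp.yon S) ((AlgSp.yon S).map_injective (by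
    simpa only [Functor.map_comp] using sq.w)) sq
  have sq2 : IsPullback f₀.left i.left g.left ι := sq1.map (Over.forget S)
  have hWa : IsAffine W.left := hW
  have hVa : IsAffine Vj.left := (inferInstance : IsAffine (V.left.affineCover.X j))
  have hi : IsAffineHom i.left := isAffineHom_of_isAffine (f := i.left)
  have hsnd : pullback.snd g.left ι = sq2.isoPullback.inv ≫ i.left := by simp
  change IsAffineHom (pullback.snd g.left ι)
  rw [hsnd]
  infer_instance

section General

variable {𝒳 : AlgSt.Cat S} (h𝒳 : IsFibGrpd 𝒳.p) {U : Over S} (x : overCat U ⥤ᵇ 𝒳)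
include h𝒳

/-- if the diagonal of `𝒳` is affine and `x : U ⟶ 𝒳` is affine, then the diagonal of `U ⟶ S` is affine -/
theorem isAffineHom_diagonal_of_diag (hx : AlgSt.RepByAlgSpWith AlgSp.IsAffineMor x)
    (hΔ : AlgSt.RepByAlgSpWith AlgSp.IsAffineMor (FibCat.diag (toSelf 𝒳))) :
    IsAffineHom (pullback.diagonal U.hom) := by
  have hU : IsFibGrpd (overCat U).p := Groth.Agent.FibOver.isFibGrpd_overCat U
  have hQ : IsoInv (AlgSp.IsAffineMor (S := S)) := isoInv_of_respectsIso _
  obtain ⟨F, e, he, ha⟩ := hΔ (U ⨯ U) (pairK x x)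
  -- the first projection of `F` is affine
  have hq : AlgSp.IsAffineMor (AlgSt.spMapOfOver (BasedFunctor.comp e (fpFst (pairK x x) (Δ 𝒳))) ≫
      (AlgSp.yon S).map (prod.fst : U ⨯ U ⟶ U)) := by
    rw [← spMapOfOver_comp_overMap]
    have h1 : AlgSt.RepByAlgSpWith AlgSp.IsAffineMor (fpFst x x) :=
      Groth.Agent.S12779.result hU h𝒳 hU _ x x hx
    exact spMapOfOver_of_repByAlgSpWith AlgSp.IsAffineMor hQ (fpFst x x) h1 F
      (BasedFunctor.comp e (compare x x)) (isEquivOver_comp _ _ he (compare_isEquivOver x x))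
  -- the section given by the diagonal of `x`
  obtain ⟨ci, ⟨γ⟩, ⟨δ⟩⟩ := compare_isEquivOver x x
  obtain ⟨ei, ⟨α⟩, ⟨β⟩⟩ := he
  let Sg : overCat U ⥤ᵇ AlgSt.ofSp F.obj :=
    BasedFunctor.comp (BasedFunctor.comp (FibCat.diag x) ci) ei
  let Φ : AlgSt.ofSp ((AlgSp.yon S).obj U) ⥤ᵇ AlgSt.ofSp F.obj :=
    BasedFunctor.comp (AlgSt.toOverCat U) Sg
  let σ : (AlgSp.yon S).obj U ⟶ F.obj := ObjectProperty.homMk (pshMapOf Φ)
  let a := AlgSt.spMapOfOver (BasedFunctor.comp e (fpFst (pairK x x) (Δ 𝒳)))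
  -- `σ ≫ a` is the map of sheaves of `toOverCat ≫ diag x ≫ ci ≫ fpFst`
  let M : overCat U ⥤ᵇ overCat (U ⨯ U) :=
    BasedFunctor.comp (BasedFunctor.comp (FibCat.diag x) ci) (fpFst (pairK x x) (Δ 𝒳))
  have h1 : σ ≫ a = AlgSt.spMapOfOver (BasedFunctor.comp (AlgSt.toOverCat U) M) := by
    rw [← spMapOfOver_comp_pshMapOf]
    apply spMapOfOver_congr
    have i1 : BasedFunctor.comp Φ (BasedFunctor.comp e (fpFst (pairK x x) (Δ 𝒳))) ≅
        BasedFunctor.comp (BasedFunctor.comp (AlgSt.toOverCat U) (BasedFunctor.comp (FibCat.diag x) ci))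
          (BasedFunctor.comp (BasedFunctor.comp ei e) (fpFst (pairK x x) (Δ 𝒳))) := Iso.refl _
    have i2 : BasedFunctor.comp (BasedFunctor.comp (AlgSt.toOverCat U) (BasedFunctor.comp (FibCat.diag x) ci))
          (BasedFunctor.comp (BasedFunctor.comp ei e) (fpFst (pairK x x) (Δ 𝒳))) ≅
        BasedFunctor.comp (BasedFunctor.comp (AlgSt.toOverCat U) (BasedFunctor.comp (FibCat.diag x) ci))
          (BasedFunctor.comp (BasedFunctor.id _) (fpFst (pairK x x) (Δ 𝒳))) :=
      whiskerLeftIso _ (whiskerRightIso β _)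
    exact i1 ≪≫ i2 ≪≫ Iso.refl _
  have hfst : (σ ≫ a) ≫ (AlgSp.yon S).map (prod.fst : U ⨯ U ⟶ U) = 𝟙 _ := by
    rw [h1, ← spMapOfOver_comp_overMap, ← Groth.Agent.Lib.helper4.QuotSt5.spMapOfOver_toOverCat U]
    apply spMapOfOver_congr
    have i1 : BasedFunctor.comp (BasedFunctor.comp (AlgSt.toOverCat U) M)
          (AlgSt.overMap (prod.fst : U ⨯ U ⟶ U)) ≅
        BasedFunctor.comp (BasedFunctor.comp (AlgSt.toOverCat U) (FibCat.diag x))
          (BasedFunctor.comp (BasedFunctor.comp ci (compare x x)) (fpFst x x)) := Iso.refl _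
    have i2 : BasedFunctor.comp (BasedFunctor.comp (AlgSt.toOverCat U) (FibCat.diag x))
          (BasedFunctor.comp (BasedFunctor.comp ci (compare x x)) (fpFst x x)) ≅
        BasedFunctor.comp (BasedFunctor.comp (AlgSt.toOverCat U) (FibCat.diag x))
          (BasedFunctor.comp (BasedFunctor.id _) (fpFst x x)) :=
      whiskerLeftIso _ (whiskerRightIso δ _)
    exact i1 ≪≫ i2 ≪≫ Iso.refl _
  have hsnd : (σ ≫ a) ≫ (AlgSp.yon S).map (prod.snd : U ⨯ U ⟶ U) = 𝟙 _ := by
    rw [h1, ← spMapOfOver_comp_overMap, ← Groth.Agent.Lib.helper4.QuotSt5.spMapOfOver_toOverCat U]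
    apply spMapOfOver_congr
    have i1 : BasedFunctor.comp (BasedFunctor.comp (AlgSt.toOverCat U) M)
          (AlgSt.overMap (prod.snd : U ⨯ U ⟶ U)) ≅
        BasedFunctor.comp (BasedFunctor.comp (AlgSt.toOverCat U) (FibCat.diag x))
          (BasedFunctor.comp (BasedFunctor.comp ci (compare x x)) (fpSnd x x)) := Iso.refl _
    have i2 : BasedFunctor.comp (BasedFunctor.comp (AlgSt.toOverCat U) (FibCat.diag x))
          (BasedFunctor.comp (BasedFunctor.comp ci (compare x x)) (fpSnd x x)) ≅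
        BasedFunctor.comp (BasedFunctor.comp (AlgSt.toOverCat U) (FibCat.diag x))
          (BasedFunctor.comp (BasedFunctor.id _) (fpSnd x x)) :=
      whiskerLeftIso _ (whiskerRightIso δ _)
    exact i1 ≪≫ i2 ≪≫ Iso.refl _
  -- `σ` is affine, as a section of an affine morphism
  have hσ : AlgSp.IsAffineMor σ := by
    have hsep : AlgSp.IsSeparatedMor (a ≫ (AlgSp.yon S).map (prod.fst : U ⨯ U ⟶ U)) :=
      Groth.Agent.S10271.isSeparatedMor_of_isAffineMor F.property _ hq
    have hid : AlgSp.IsAffineMor (σ ≫ a ≫ (AlgSp.yon S).map (prod.fst : U ⨯ U ⟶ U)) := by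
      rw [← Category.assoc, hfst, ← (AlgSp.yon S).map_id]
      exact isAffineMor_yon_map (𝟙 U)
    refine Groth.Agent.S9944.isAffineMor_of_diagonal σ _ hid ?_
    rw [Groth.Agent.S9944.isAffineMor_iff_affQ]
    exact Groth.Agent.S10272.affQ_of_closedImmersion ⊤ (fun _ _ => trivial) hsep
  have hσa : AlgSp.IsAffineMor (σ ≫ a) := by
    rw [isAffineMor_iff] at hσ ha ⊢
    exact AffineWith.comp hσ ha
  obtain ⟨m, hm⟩ := (AlgSp.yon S).map_surjective (σ ≫ a)
  have hm1 : m ≫ prod.fst = 𝟙 U := (AlgSp.yon S).map_injective (by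
    rw [CategoryTheory.Functor.map_comp, hm, hfst, CategoryTheory.Functor.map_id])
  have hm2 : m ≫ prod.snd = 𝟙 U := (AlgSp.yon S).map_injective (by
    rw [CategoryTheory.Functor.map_comp, hm, hsnd, CategoryTheory.Functor.map_id])
  have hm3 : m = Limits.diag U := by
    apply Limits.prod.hom_ext
    · rw [hm1]; simp
    · rw [hm2]; simp
  rw [← hm, hm3] at hσa
  have h5 : IsAffineHom (Limits.diag U).left := isAffineHom_of_isAffineMor_yon_map _ hσa
  rw [← AlgSp.diag_left_comp_prodLeftIsoPullback]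
  infer_instance

end General

section Main

open Groth.Agent.Lib.helper4.QuotSt3 Groth.Agent.Lib.helper4.QuotSt5

variable {G : Over S} [GrpObj G] {X : Over S} {aX : AlgGrp.Action G X}

/-- S16908 -/
theorem isAffineMor_diag_quotSt_iff (hGa : IsAffineHom G.hom) (hfl : Flat G.hom)
    (hfp : LocallyOfFinitePresentation G.hom) :
    AlgSt.RepByAlgSpWith AlgSp.IsAffineMor
        (FibCat.diag (FibCat.toSelf (AlgSt.QuotSt Scheme.fppfPrecoverage G aX))) ↔
      IsAffineHom (pullback.diagonal X.hom) :=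
  ⟨fun h => isAffineHom_diagonal_of_diag
      (Groth.Agent.Lib.helper4.QuotCmp.isStack_quotSt (G := G) (aX := aX)).1 _ (affine_quotMap hGa) h,
    fun h => isAffineMor_diag_quotSt hGa hfl hfp h⟩

end Main

end Groth.Agent.Lib.helper4.QuotDiagFppf
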