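import Mathlib
import Groth.Agent.Lib.Helper4.QuotSt2
import Groth.Agent.Lib.Helper4.AssocBundle

/-!
# Pullbacks of scheme torsors: `[X/G]` (scheme torsors for a precoverage `K` stable under base change) is fibred in groupoids (helper4)

* `pbObj A f`, `pbHom A f`: the pull back of an object of `AlgSt.QuotSt K G aX` along `f : V ⟶ A.base`, with its cartesian morphism.
* `isFibGrpd_quotSt`: `AlgSt.QuotSt K G aX` is fibred in groupoids for every `K` stable under base change.
-/

set_option backward.isDefEq.respectTransparency false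
set_option backward.isDefEq.respectTransparency.types false
set_option autoImplicit false
set_option linter.style.haveILetI false
set_option linter.unusedSectionVars false
set_option linter.unusedVariables false
set_option linter.unusedSimpArgs false

universe u

open CategoryTheory CategoryTheory.Limits MonoidalCategory CartesianMonoidalCategory MonObj GrpObj AlgebraicGeometry
open AlgSt

namespace Groth.Agent.Lib.Helper4.QuotFpqc

variable {S : Scheme.{u}} {K : Precoverage Scheme.{u}} {G : Over S} [GrpObj G] {X : Over S}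
  {aX : AlgGrp.Action G X}

section Pullback

variable (A : QuotObj K G aX) {V : Over S} (f : V ⟶ A.base)

/-- the pulled back torsor -/
noncomputable def pbP : Over S := Limits.pullback A.π f

noncomputable def pbTop : pbP A f ⟶ A.P := pullback.fst _ _

noncomputable def pbπ : pbP A f ⟶ V := pullback.snd _ _

theorem pb_sq : IsPullback (pbTop A f) (pbπ A f) A.π f := IsPullback.of_hasPullback _ _

theorem pbAct_aux : ((G ◁ pbTop A f) ≫ A.act.act) ≫ A.π = (snd G (pbP A f) ≫ pbπ A f) ≫ f := by
  rw [Category.assoc, A.cart.w, whiskerLeft_snd_assoc, Category.assoc, (pb_sq A f).w]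

noncomputable def pbAct : G ⊗ pbP A f ⟶ pbP A f :=
  (pb_sq A f).lift ((G ◁ pbTop A f) ≫ A.act.act) (snd G (pbP A f) ≫ pbπ A f) (pbAct_aux A f)

@[reassoc (attr := simp)]
theorem pbAct_top : pbAct A f ≫ pbTop A f = (G ◁ pbTop A f) ≫ A.act.act := (pb_sq A f).lift_fst _ _ _

@[reassoc (attr := simp)]
theorem pbAct_π : pbAct A f ≫ pbπ A f = snd G (pbP A f) ≫ pbπ A f := (pb_sq A f).lift_snd _ _ _

noncomputable def pbGAction : AlgGrp.Action G (pbP A f) where
  act := pbAct A f
  one_act := by
    apply (pb_sq A f).hom_ext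
    · rw [Category.assoc, pbAct_top, ← whisker_exchange_assoc, A.act.one_act, leftUnitor_naturality]
    · rw [Category.assoc, pbAct_π, whiskerRight_snd_assoc, leftUnitor_hom]
  mul_act := by
    apply (pb_sq A f).hom_ext
    · simp only [Category.assoc, pbAct_top]
      rw [← whisker_exchange_assoc, A.act.mul_act, ← MonoidalCategory.whiskerLeft_comp_assoc, pbAct_top,
        MonoidalCategory.whiskerLeft_comp, Category.assoc, associator_naturality_right_assoc]
    · simp only [Category.assoc, pbAct_π]
      rw [whiskerRight_snd_assoc, whiskerLeft_snd_assoc, pbAct_π, associator_hom_snd_snd_assoc]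

theorem pb_cart : IsPullback (pbAct A f) (snd G (pbP A f)) (pbπ A f) (pbπ A f) := by
  refine IsPullback.of_right ?_ (pbAct_π A f) (pb_sq A f)
  rw [pbAct_top, ← (pb_sq A f).w]
  exact (Groth.Agent.Lib.Helper4.AssocBundle.isPullback_whiskerLeft_snd G (pbTop A f)).paste_horiz A.cart

theorem pb_sq_left :
    IsPullback (pbTop A f).left (pbπ A f).left A.π.left f.left :=
  (pb_sq A f).map (Over.forget S)

variable [K.IsStableUnderBaseChange]

theorem pb_loc : NonAbH1.IsLocallyTrivialFor K (Over.mk (pbπ A f).left : Over V.left) := by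
  obtain ⟨R, hR, hsec⟩ := A.loc
  obtain ⟨𝒰, rfl⟩ := R.exists_eq_preZeroHypercover
  let Pi : 𝒰.I₀ → Scheme.{u} := fun i => Limits.pullback f.left (𝒰.f i)
  let p₁ : ∀ i, Pi i ⟶ V.left := fun i => pullback.fst _ _
  let p₂ : ∀ i, Pi i ⟶ 𝒰.X i := fun i => pullback.snd _ _
  have hcov : Presieve.ofArrows Pi p₁ ∈ K V.left :=
    Precoverage.IsStableUnderBaseChange.mem_coverings_of_isPullback 𝒰.f hR f.left p₁ p₂
      (fun i => IsPullback.of_hasPullback _ _)
  refine ⟨Presieve.ofArrows Pi p₁, hcov, ?_⟩
  rintro T' g' ⟨i⟩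
  obtain ⟨s, hs⟩ := hsec (𝒰.f i) (Presieve.ofArrows.mk i)
  have hs' : s ≫ A.π.left = 𝒰.f i := hs
  refine ⟨(pb_sq_left A f).lift (p₂ i ≫ s) (p₁ i) ?_, ?_⟩
  · rw [Category.assoc, hs']
    exact pullback.condition.symm
  · exact (pb_sq_left A f).lift_snd _ _ _

/-- the pull back of a torsor along a morphism of schemes -/
noncomputable def pbObj : QuotObj K G aX where
  base := V
  P := pbP A f
  act := pbGAction A f
  π := pbπ A f
  cart := pb_cart A f
  loc := pb_loc A f
  φ := pbTop A f ≫ A.φ
  eqv := by
    change pbAct A f ≫ pbTop A f ≫ A.φ = _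
    rw [pbAct_top_assoc, A.eqv, MonoidalCategory.whiskerLeft_comp, Category.assoc]

/-- the cartesian morphism from the pull back -/
noncomputable def pbHom : pbObj A f ⟶ A where
  base := f
  top := pbTop A f
  eqv := pbAct_top A f
  cart := pb_sq A f
  wφ := rfl

instance pbHom_lift : (QuotSt K G aX).p.IsHomLift f (pbHom A f) := by
  change (QuotSt K G aX).p.IsHomLift ((QuotSt K G aX).p.map (pbHom A f)) (pbHom A f)
  infer_instance

end Pullback

/-- `[X/G]` (scheme torsors) is fibred in groupoids -/
theorem isFibGrpd_quotSt [K.IsStableUnderBaseChange] : FibCat.IsFibGrpd (QuotSt K G aX).p where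
  exists_lift := fun {x V} f => ⟨pbObj x f, pbHom x f, pbHom_lift x f⟩
  isStronglyCartesian := fun {y x} φ => inferInstance

end Groth.Agent.Lib.Helper4.QuotFpqc
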