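import Mathlib
import Groth.Agent.Lib.Helper4.QuotFpqc1
import Groth.Agent.Lib.Helper4.FpqcCoverDescent
import Groth.Agent.Lib.Helper4.FlatDescends
import Groth.Agent.Lib.Helper4.AffineDescent
import Groth.Agent.Lib.Helper4.TorsorFpqc2
import Groth.Agent.Lib.Helper14.TorsorSq

/-!
# fpqc scheme torsors: properties of the structure map, equivariant maps are cartesian (helper4)

* `prop_pi`: a property of `G ⟶ S`, local on the target, stable under base change and descending along fpqc morphisms, holds for the
  structure map of every object of `AlgSt.QuotSt Scheme.fpqcPrecoverage G aX`.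
* `flat_π`, `surjective_π`, `isAffineHom_π`, `quasiCompact_π`.
* `cart_of_eqv`: an equivariant map of fpqc torsors over a map of bases is cartesian (`G` flat and affine over `S`).
* `mkHom`: the morphism of `[X/G]` given by an equivariant map.
-/

set_option backward.isDefEq.respectTransparency false
set_option backward.isDefEq.respectTransparency.types false
set_option autoImplicit false
set_option linter.style.haveILetI false
set_option linter.unusedSectionVars false
set_option linter.unusedVariables false
set_option linter.unusedSimpArgs false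

universe u

open CategoryTheory CategoryTheory.Limits MonoidalCategory CartesianMonoidalCategory MonObj GrpObj AlgebraicGeometry
open AlgSt MorphismProperty

namespace Groth.Agent.Lib.Helper4.QuotFpqc

variable {S : Scheme.{u}} {G : Over S} [GrpObj G] {X : Over S} {aX : AlgGrp.Action G X}

/-- the second projection of `G ×_S T` is a base change of `G ⟶ S` -/
theorem prop_snd (P : MorphismProperty Scheme.{u}) [P.IsStableUnderBaseChange] (hG : P G.hom) (T : Over S) :
    P (snd G T).left := by
  have sq : IsPullback (fst G T).left (snd G T).left (toUnit G).left (toUnit T).left :=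
    (isPullback_fst_snd G T).map (Over.forget S)
  have e : (toUnit G).left = G.hom := by simp
  rw [e] at sq
  exact P.of_isPullback sq hG

/-- a property of `G ⟶ S`, stable under base change and descending along fpqc coverings, holds for
the structure map of every fpqc torsor -/
theorem prop_pi (P : MorphismProperty Scheme.{u}) [IsZariskiLocalAtTarget P] [P.IsStableUnderBaseChange]
    [P.DescendsAlong (@Surjective ⊓ @Flat ⊓ @QuasiCompact : MorphismProperty Scheme.{u})] (hG : P G.hom)
    (A : QuotObj Scheme.fpqcPrecoverage G aX) : P A.π.left := by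
  obtain ⟨R, hR, hsec⟩ := A.loc
  apply Groth.Agent.Lib.Helper4.FpqcCoverDescent.of_fpqc_presieve P A.π.left R hR
  intro T' f hf
  obtain ⟨s, hs⟩ := hsec f hf
  have hs' : s ≫ A.π.left = f := hs
  have hw : s ≫ A.P.hom = f ≫ A.base.hom := by
    rw [← hs', Category.assoc, Over.w A.π]
  let T : Over S := Over.mk (f ≫ A.base.hom)
  let s' : T ⟶ A.P := Over.homMk s hw
  have sq := ((Groth.Agent.Lib.Helper4.AssocBundle.isPullback_whiskerLeft_snd G s').paste_horiz A.cart).map
    (Over.forget S)
  have e : (Over.forget S).map (s' ≫ A.π) = f := hs'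
  rw [e] at sq
  have hb : P ((Over.forget S).map (snd G T)) := prop_snd P hG T
  have e2 : sq.isoPullback.hom ≫ pullback.snd _ _ = (Over.forget S).map (snd G T) := sq.isoPullback_hom_snd
  have h3 : P (sq.isoPullback.hom ≫ pullback.snd ((Over.forget S).map A.π) f) := by
    rw [e2]; exact hb
  exact (P.cancel_left_of_respectsIso sq.isoPullback.hom _).mp h3

instance flat_π [Flat G.hom] (A : QuotObj Scheme.fpqcPrecoverage G aX) : Flat A.π.left :=
  prop_pi @Flat inferInstance A

instance surjective_π (A : QuotObj Scheme.fpqcPrecoverage G aX) : Surjective A.π.left :=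
  prop_pi @Surjective (Groth.Agent.Lib.Helper4.TorsorFpqc2.surjective_of_grpObj G) A

instance isAffineHom_π [IsAffineHom G.hom] (A : QuotObj Scheme.fpqcPrecoverage G aX) : IsAffineHom A.π.left :=
  prop_pi @IsAffineHom inferInstance A

instance quasiCompact_π [IsAffineHom G.hom] (A : QuotObj Scheme.fpqcPrecoverage G aX) : QuasiCompact A.π.left :=
  inferInstance

/-- an equivariant map of fpqc torsors over a map of bases is cartesian -/
theorem cart_of_eqv [Flat G.hom] [IsAffineHom G.hom] {A B : QuotObj Scheme.fpqcPrecoverage G aX}
    (g : A.base ⟶ B.base) (top : A.P ⟶ B.P)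
    (heqv : A.act.act ≫ top = (G ◁ top) ≫ B.act.act) (hπ : top ≫ B.π = A.π ≫ g) :
    IsPullback top A.π B.π g := by
  refine IsPullback.of_map (Over.forget S) hπ ?_
  exact Groth.Agent.Lib.Helper14.TorsorSq.isPullback_of_equivariant
    A.act.act.left (snd G A.P).left A.π.left B.act.act.left (snd G B.P).left B.π.left
    (G ◁ top).left top.left g.left
    (A.cart.map (Over.forget S)) (B.cart.map (Over.forget S))
    ((Groth.Agent.Lib.Helper4.AssocBundle.isPullback_whiskerLeft_snd G top).map (Over.forget S))
    (congrArg (fun m => m.left) heqv.symm) (congrArg (fun m => m.left) hπ.symm)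

/-- the morphism of `[X/G]` given by an equivariant map over a map of bases -/
noncomputable def mkHom [Flat G.hom] [IsAffineHom G.hom] {A B : QuotObj Scheme.fpqcPrecoverage G aX}
    (g : A.base ⟶ B.base) (top : A.P ⟶ B.P)
    (heqv : A.act.act ≫ top = (G ◁ top) ≫ B.act.act) (hπ : top ≫ B.π = A.π ≫ g) (hφ : top ≫ B.φ = A.φ) :
    A ⟶ B :=
  ⟨g, top, heqv, cart_of_eqv g top heqv hπ, hφ⟩

end Groth.Agent.Lib.Helper4.QuotFpqc
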