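import Mathlib
import Groth.Agent.Lib.Helper4.QuotFpqc2
import Groth.Agent.Lib.Helper4.SheafGlue
import Groth.Agent.Lib.Helper27.StkElem1
import Groth.Prelude.Def_QuotSh

/-!
# `[X/G]` for fpqc scheme torsors is an fpqc prestack (helper4)

* `IsCov`, `hom_ext_over`, `glue_over`, `isCov_of_isPullback`, `isCov_whiskerLeft`: fpqc covering families in `Over S`, gluing of morphisms.
* `exists_family`, `mem_J_of_isCov`: covering sieves of `QuotSh.J Scheme.fpqcPrecoverage S` contain `Type u`-indexed covering families.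
* `sepFor`, `glueFor`: elementwise separation and gluing of morphisms of `AlgSt.QuotSt Scheme.fpqcPrecoverage G aX`.
-/

set_option backward.isDefEq.respectTransparency false
set_option backward.isDefEq.respectTransparency.types false
set_option autoImplicit false
set_option linter.style.haveILetI false
set_option linter.unusedSectionVars false
set_option linter.unusedVariables false
set_option linter.unusedSimpArgs false

universe w u

open CategoryTheory CategoryTheory.Limits MonoidalCategory CartesianMonoidalCategory MonObj GrpObj AlgebraicGeometry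
open AlgSt

namespace Groth.Agent.Lib.Helper4.QuotFpqc

open Groth.Agent.Lib.helper27.StkElem1 Groth.Agent.Lib.Helper4.SheafGlue Groth.Agent.Lib.helper4.QuotSt2

section OverS

variable {S : Scheme.{u}}

/-- an fpqc covering family in `Over S` -/
def IsCov {B : Over S} {I : Type w} (Y : I → Over S) (p : ∀ i, Y i ⟶ B) : Prop :=
  Presieve.ofArrows (fun i => (Y i).left) (fun i => (p i).left) ∈ Scheme.fpqcPrecoverage B.left

theorem hom_ext_over {B Z : Over S} {I : Type w} {Y : I → Over S} {p : ∀ i, Y i ⟶ B} (hp : IsCov Y p)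
    (z₁ z₂ : B ⟶ Z) (h : ∀ i, p i ≫ z₁ = p i ≫ z₂) : z₁ = z₂ := by
  apply Over.OverMorphism.ext
  exact hom_ext_of_fpqc _ _ hp _ _ (fun i => congrArg (fun m => m.left) (h i))

theorem glue_over {B Z : Over S} {I : Type w} {Y : I → Over S} {p : ∀ i, Y i ⟶ B} (hp : IsCov Y p)
    (x : ∀ i, Y i ⟶ Z)
    (hx : ∀ i j (W' : Over S) (gi : W' ⟶ Y i) (gj : W' ⟶ Y j), gi ≫ p i = gj ≫ p j → gi ≫ x i = gj ≫ x j) :
    ∃ z : B ⟶ Z, ∀ i, p i ≫ z = x i := by
  obtain ⟨z₀, hz₀⟩ := exists_glue_of_fpqc (fun i => (Y i).left) (fun i => (p i).left) hp (fun i => (x i).left) (by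
    intro i j W₀ gi gj hg
    have hw : gj ≫ (Y j).hom = gi ≫ (Y i).hom := by
      rw [← Over.w (p j), ← Over.w (p i), ← Category.assoc, ← Category.assoc, hg]
    have := hx i j (Over.mk (gi ≫ (Y i).hom)) (Over.homMk gi rfl) (Over.homMk gj hw) (by
      apply Over.OverMorphism.ext; exact hg)
    exact congrArg (fun m => m.left) this)
  have hw : z₀ ≫ Z.hom = B.hom := by
    refine hom_ext_of_fpqc _ _ hp _ _ (fun i => ?_)
    rw [← Category.assoc, hz₀ i, Over.w, Over.w]
  exact ⟨Over.homMk z₀ hw, fun i => Over.OverMorphism.ext (hz₀ i)⟩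

theorem isCov_of_isPullback {B B' : Over S} {I : Type w} {Y : I → Over S} {p : ∀ i, Y i ⟶ B} (hp : IsCov Y p)
    (t : B' ⟶ B) {Y' : I → Over S} (p' : ∀ i, Y' i ⟶ B') (q : ∀ i, Y' i ⟶ Y i)
    (h : ∀ i, IsPullback (p' i) (q i) t (p i)) : IsCov Y' p' :=
  Precoverage.mem_coverings_of_isPullback (fun i => (p i).left) hp t.left (fun i => (p' i).left)
    (fun i => (q i).left) (fun i => (h i).map (Over.forget S))

theorem isCov_whiskerLeft (G : Over S) {B : Over S} {I : Type w} {Y : I → Over S} {p : ∀ i, Y i ⟶ B}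
    (hp : IsCov Y p) : IsCov (fun i => G ⊗ Y i) (fun i => G ◁ p i) :=
  isCov_of_isPullback hp (snd G B) (fun i => G ◁ p i) (fun i => snd G (Y i))
    (fun i => Groth.Agent.Lib.Helper4.AssocBundle.isPullback_whiskerLeft_snd G (p i))

/-- a covering sieve contains a `Type u`-indexed covering family -/
theorem exists_family {V : Over S} (T : Sieve V) (hT : T ∈ QuotSh.J Scheme.fpqcPrecoverage S V) :
    ∃ (I : Type u) (Y : I → Over S) (p : ∀ i, Y i ⟶ V), IsCov Y p ∧ ∀ i, T (p i) := by
  rw [GrothendieckTopology.mem_over_iff] at hT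
  obtain ⟨R, hR, hle⟩ := Precoverage.mem_toGrothendieck_iff_of_isStableUnderComposition.mp hT
  obtain ⟨E₀, rfl⟩ := R.exists_eq_preZeroHypercover
  let E : Precoverage.ZeroHypercover.{u + 1} Scheme.fpqcPrecoverage V.left := ⟨E₀, hR⟩
  haveI : Precoverage.Small.{u} Scheme.fpqcPrecoverage.{u} :=
    inferInstanceAs (Precoverage.Small.{u} (Scheme.propQCPrecoverage (@Flat : MorphismProperty Scheme.{u})))
  obtain ⟨I, f, hf⟩ := Precoverage.ZeroHypercover.Small.exists_restrictIndex_mem.{u} E
  refine ⟨I, fun i => Over.mk (E₀.f (f i) ≫ V.hom), fun i => Over.homMk (E₀.f (f i)) rfl, hf, fun i => ?_⟩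
  have := hle _ _ (Presieve.ofArrows.mk (f i))
  rw [Sieve.overEquiv_iff] at this
  exact this

/-- a sieve containing a covering family is covering -/
theorem mem_J_of_isCov {V : Over S} (T : Sieve V) {I : Type w} {Y : I → Over S} {p : ∀ i, Y i ⟶ V} (hp : IsCov Y p)
    (h : ∀ i, T (p i)) : T ∈ QuotSh.J Scheme.fpqcPrecoverage S V := by
  rw [GrothendieckTopology.mem_over_iff]
  refine (Scheme.fpqcPrecoverage.toGrothendieck).superset_covering ?_ (Precoverage.generate_mem_toGrothendieck hp)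
  intro T₀ f hf
  obtain ⟨i, a, rfl⟩ := (Sieve.mem_ofArrows_iff (fun i => (Y i).left) (fun i => (p i).left) f).mp hf
  rw [Sieve.overEquiv_iff]
  have e : (Over.homMk (a ≫ (p i).left) : Over.mk ((a ≫ (p i).left) ≫ V.hom) ⟶ V) =
      (Over.homMk a (by simp) : Over.mk ((a ≫ (p i).left) ≫ V.hom) ⟶ Y i) ≫ p i := by
    apply Over.OverMorphism.ext; rfl
  rw [e]
  exact T.downward_closed (h i) _

end OverS

variable {S : Scheme.{u}} {G : Over S} [GrpObj G] {X : Over S} {aX : AlgGrp.Action G X}

theorem exists_cart {K : Precoverage Scheme.{u}} {x' x : QuotObj K G aX} {V' : Over S} (f : V' ⟶ x.base) (χ : x' ⟶ x)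
    (hl : (QuotSt K G aX).p.IsHomLift f χ) : ∃ π' : x'.P ⟶ V', IsPullback χ.top π' x.π f := by
  have hV' : x'.base = V' := IsHomLift.domain_eq (QuotSt K G aX).p f χ
  subst hV'
  have e : f = χ.base := IsHomLift.fac (QuotSt K G aX).p f χ
  subst e
  exact ⟨x'.π, χ.cart⟩

theorem isHomLift_of_base {K : Precoverage Scheme.{u}} {A B : QuotObj K G aX} (k : A ⟶ B) (f : A.base ⟶ B.base)
    (h : k.base = f) : (QuotSt K G aX).p.IsHomLift f k := by
  subst h
  change (QuotSt K G aX).p.IsHomLift ((QuotSt K G aX).p.map k) k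
  infer_instance

theorem sepFor {V : Over S} (T : Sieve V) (hT : T ∈ QuotSh.J Scheme.fpqcPrecoverage S V) :
    SepFor (QuotSt Scheme.fpqcPrecoverage G aX) T := by
  intro W g x y a b ha hb h
  obtain ⟨I, Y, p, hp, hpT⟩ := exists_family T hT
  have hV : x.base = V := IsHomLift.domain_eq (QuotSt Scheme.fpqcPrecoverage G aX).p g a
  have hW : y.base = W := IsHomLift.codomain_eq (QuotSt Scheme.fpqcPrecoverage G aX).p g a
  subst hV hW
  have e1 : g = a.base := IsHomLift.fac (QuotSt Scheme.fpqcPrecoverage G aX).p g a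
  have e2 : g = b.base := IsHomLift.fac (QuotSt Scheme.fpqcPrecoverage G aX).p g b
  apply QuotObj.hom_ext (e1.symm.trans e2)
  choose x' χ hχ heq using fun i => h (p i) (hpT i)
  have hc : ∀ i, ∃ π' : (x' i).P ⟶ Y i, IsPullback (χ i).top π' x.π (p i) := fun i =>
    exists_cart (p i) (χ i) (hχ i)
  choose π' hπ' using hc
  have hcov : IsCov (fun i => (x' i).P) (fun i => (χ i).top) := isCov_of_isPullback hp x.π _ π' hπ'
  exact hom_ext_over hcov _ _ (fun i => congrArg (fun m => m.top) (heq i))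

end Groth.Agent.Lib.Helper4.QuotFpqc
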