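import Mathlib
import Groth.Agent.Lib.Helper4.QuotFpqc3

/-!
# `[X/G]` for fpqc scheme torsors: gluing of morphisms along covering sieves (helper4)

* `glueFor`: elementwise gluing of morphisms of `AlgSt.QuotSt Scheme.fpqcPrecoverage G aX` (`G` flat and affine over `S`).
-/

set_option backward.isDefEq.respectTransparency false
set_option backward.isDefEq.respectTransparency.types false
set_option autoImplicit false
set_option linter.style.haveILetI false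
set_option linter.unusedSectionVars false
set_option linter.unusedVariables false
set_option linter.unusedSimpArgs false

universe w u

open CategoryTheory CategoryTheory.Limits MonoidalCategory CartesianMonoidalCategory MonObj GrpObj AlgebraicGeometry
open AlgSt

namespace Groth.Agent.Lib.Helper4.QuotFpqc

open Groth.Agent.Lib.helper27.StkElem1 Groth.Agent.Lib.Helper4.SheafGlue Groth.Agent.Lib.helper4.QuotSt2

variable {S : Scheme.{u}} {G : Over S} [GrpObj G] {X : Over S} {aX : AlgGrp.Action G X}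

theorem glueFor [Flat G.hom] [IsAffineHom G.hom] {V : Over S} (T : Sieve V)
    (hT : T ∈ QuotSh.J Scheme.fpqcPrecoverage S V) : GlueFor (QuotSt Scheme.fpqcPrecoverage G aX) T := by
  intro W g x y hV hW φ hφ hc
  change x.base = V at hV
  change y.base = W at hW
  subst hV hW
  obtain ⟨I, Y, p, hp, hpT⟩ := exists_family T hT
  have φcongr : ∀ {V' : Over S} (f₁ f₂ : V' ⟶ x.base) (e : f₁ = f₂) (h₁ : T f₁) (h₂ : T f₂)
      (x' : QuotObj Scheme.fpqcPrecoverage G aX) (χ₁ χ₂ : x' ⟶ x) (eχ : χ₁ = χ₂)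
      (l₁ : (QuotSt Scheme.fpqcPrecoverage G aX).p.IsHomLift f₁ χ₁)
      (l₂ : (QuotSt Scheme.fpqcPrecoverage G aX).p.IsHomLift f₂ χ₂),
      φ f₁ h₁ x' χ₁ l₁ = φ f₂ h₂ x' χ₂ l₂ := by
    intro V' f₁ f₂ e h₁ h₂ x' χ₁ χ₂ eχ l₁ l₂
    subst e eχ
    rfl
  have hχ : ∀ i, (QuotSt Scheme.fpqcPrecoverage G aX).p.IsHomLift (p i) (pbHom x (p i)) := fun i => pbHom_lift x (p i)
  obtain ⟨φi, hφi_def⟩ : ∃ φi : ∀ i, pbObj x (p i) ⟶ y,
      ∀ i, φi i = φ (p i) (hpT i) (pbObj x (p i)) (pbHom x (p i)) (hχ i) := ⟨_, fun _ => rfl⟩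
  have hφi : ∀ i, (φi i).base = p i ≫ g := fun i => by
    have := hφ (p i) (hpT i) (pbObj x (p i)) (pbHom x (p i)) (hχ i)
    rw [← hφi_def i] at this
    exact (IsHomLift.fac (QuotSt Scheme.fpqcPrecoverage G aX).p (p i ≫ g) (φi i)).symm
  have key : ∀ i j (W' : Over S) (gi : W' ⟶ pbP x (p i)) (gj : W' ⟶ pbP x (p j)),
      gi ≫ pbTop x (p i) = gj ≫ pbTop x (p j) → gi ≫ (φi i).top = gj ≫ (φi j).top := by
    intro i j W' gi gj hg
    obtain ⟨h, hh⟩ : ∃ h : W' ⟶ x.P, h = gi ≫ pbTop x (p i) := ⟨_, rfl⟩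
    obtain ⟨w, hw⟩ : ∃ w : W' ⟶ x.base, w = h ≫ x.π := ⟨_, rfl⟩
    obtain ⟨mi, hmi0⟩ : ∃ mi : W' ⟶ Y i, mi = gi ≫ pbπ x (p i) := ⟨_, rfl⟩
    obtain ⟨mj, hmj0⟩ : ∃ mj : W' ⟶ Y j, mj = gj ≫ pbπ x (p j) := ⟨_, rfl⟩
    have hmi : mi ≫ p i = w := by
      rw [hmi0, hw, hh, Category.assoc, Category.assoc, (pb_sq x (p i)).w]
    have hmj : mj ≫ p j = w := by
      rw [hmj0, hw, hh, hg, Category.assoc, Category.assoc, (pb_sq x (p j)).w]
    have hTw : T w := by rw [← hmi]; exact T.downward_closed (hpT i) mi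
    have hκi : liftHom (pbHom x (p i)) (pbHom x w) mi hmi ≫ pbHom x (p i) = pbHom x w :=
      liftHom_comp (pbHom x (p i)) (pbHom x w) mi hmi
    have hκj : liftHom (pbHom x (p j)) (pbHom x w) mj hmj ≫ pbHom x (p j) = pbHom x w :=
      liftHom_comp (pbHom x (p j)) (pbHom x w) mj hmj
    obtain ⟨κi, hκi0⟩ : ∃ κi : pbObj x w ⟶ pbObj x (p i), κi = liftHom (pbHom x (p i)) (pbHom x w) mi hmi :=
      ⟨_, rfl⟩
    obtain ⟨κj, hκj0⟩ : ∃ κj : pbObj x w ⟶ pbObj x (p j), κj = liftHom (pbHom x (p j)) (pbHom x w) mj hmj :=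
      ⟨_, rfl⟩
    rw [← hκi0] at hκi
    rw [← hκj0] at hκj
    have hbi : κi.base = mi := by rw [hκi0]; rfl
    have hbj : κj.base = mj := by rw [hκj0]; rfl
    have e1 := hc (p i) (hpT i) (pbObj x (p i)) (pbHom x (p i)) (hχ i) mi (pbObj x w) κi
      (isHomLift_of_base κi mi hbi)
      (isHomLift_of_base (κi ≫ pbHom x (p i)) (mi ≫ p i) (by
        change κi.base ≫ p i = mi ≫ p i
        rw [hbi]))
    have e2 := hc (p j) (hpT j) (pbObj x (p j)) (pbHom x (p j)) (hχ j) mj (pbObj x w) κj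
      (isHomLift_of_base κj mj hbj)
      (isHomLift_of_base (κj ≫ pbHom x (p j)) (mj ≫ p j) (by
        change κj.base ≫ p j = mj ≫ p j
        rw [hbj]))
    rw [← hφi_def i] at e1
    rw [← hφi_def j] at e2
    have e3 : κi ≫ φi i = κj ≫ φi j := by
      rw [← e1, ← e2]
      exact φcongr _ _ (hmi.trans hmj.symm) _ _ _ _ _ (hκi.trans hκj.symm) _ _
    -- the section
    have hσw : h ≫ x.π = 𝟙 W' ≫ w := by rw [Category.id_comp, hw]
    obtain ⟨σ, hσ0⟩ : ∃ σ : W' ⟶ pbP x w, σ = (pb_sq x w).lift h (𝟙 W') hσw := ⟨_, rfl⟩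
    have hσ1 : σ ≫ pbTop x w = h := by rw [hσ0]; exact (pb_sq x w).lift_fst _ _ _
    have hσ2 : σ ≫ pbπ x w = 𝟙 W' := by rw [hσ0]; exact (pb_sq x w).lift_snd _ _ _
    have ci : σ ≫ κi.top = gi := by
      apply (pb_sq x (p i)).hom_ext
      · have : κi.top ≫ pbTop x (p i) = pbTop x w := congrArg (fun m => m.top) hκi
        rw [Category.assoc, this, hσ1, hh]
      · have : κi.top ≫ pbπ x (p i) = pbπ x w ≫ κi.base := κi.cart.w
        rw [Category.assoc, this, ← Category.assoc, hσ2, Category.id_comp, hbi, hmi0]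
    have cj : σ ≫ κj.top = gj := by
      apply (pb_sq x (p j)).hom_ext
      · have : κj.top ≫ pbTop x (p j) = pbTop x w := congrArg (fun m => m.top) hκj
        rw [Category.assoc, this, hσ1, hh, hg]
      · have : κj.top ≫ pbπ x (p j) = pbπ x w ≫ κj.base := κj.cart.w
        rw [Category.assoc, this, ← Category.assoc, hσ2, Category.id_comp, hbj, hmj0]
    have e4 : κi.top ≫ (φi i).top = κj.top ≫ (φi j).top := congrArg (fun m => m.top) e3
    rw [← ci, ← cj, Category.assoc, Category.assoc, e4]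
  have hcov : IsCov (fun i => pbP x (p i)) (fun i => pbTop x (p i)) :=
    isCov_of_isPullback hp x.π _ (fun i => pbπ x (p i)) (fun i => pb_sq x (p i))
  obtain ⟨z, hz⟩ := glue_over hcov (fun i => (φi i).top) key
  have heqv : x.act.act ≫ z = (G ◁ z) ≫ y.act.act := by
    refine hom_ext_over (isCov_whiskerLeft G hcov) _ _ (fun i => ?_)
    have e := (φi i).eqv
    change pbAct x (p i) ≫ (φi i).top = (G ◁ (φi i).top) ≫ y.act.act at e
    change (G ◁ pbTop x (p i)) ≫ x.act.act ≫ z = (G ◁ pbTop x (p i)) ≫ (G ◁ z) ≫ y.act.act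
    rw [← pbAct_top_assoc, hz i, e, ← MonoidalCategory.whiskerLeft_comp_assoc, hz i]
  have hπ : z ≫ y.π = x.π ≫ g := by
    refine hom_ext_over hcov _ _ (fun i => ?_)
    have e := (φi i).cart.w
    change (φi i).top ≫ y.π = pbπ x (p i) ≫ (φi i).base at e
    change pbTop x (p i) ≫ z ≫ y.π = pbTop x (p i) ≫ x.π ≫ g
    rw [← Category.assoc, hz i, e, hφi i, ← Category.assoc, ← (pb_sq x (p i)).w, Category.assoc]
  have hφ' : z ≫ y.φ = x.φ := by
    refine hom_ext_over hcov _ _ (fun i => ?_)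
    have e := (φi i).wφ
    change (φi i).top ≫ y.φ = pbTop x (p i) ≫ x.φ at e
    change pbTop x (p i) ≫ z ≫ y.φ = pbTop x (p i) ≫ x.φ
    rw [← Category.assoc, hz i, e]
  obtain ⟨a, ha0⟩ : ∃ a : x ⟶ y, a = mkHom g z heqv hπ hφ' := ⟨_, rfl⟩
  have hab : a.base = g := by rw [ha0]; rfl
  have hat : a.top = z := by rw [ha0]; rfl
  have hχa : ∀ i, pbHom x (p i) ≫ a = φi i := fun i => by
    apply QuotObj.hom_ext
    · change p i ≫ a.base = (φi i).base
      rw [hab, hφi i]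
    · change pbTop x (p i) ≫ a.top = (φi i).top
      rw [hat, hz i]
  refine ⟨a, isHomLift_of_base a g hab, ?_⟩
  intro V' f hf x₁ χ₁ hχ₁
  have hV' : x₁.base = V' := IsHomLift.domain_eq (QuotSt Scheme.fpqcPrecoverage G aX).p f χ₁
  subst hV'
  have ef : f = χ₁.base := IsHomLift.fac (QuotSt Scheme.fpqcPrecoverage G aX).p f χ₁
  have hT₀ : Sieve.ofArrows Y p ∈ QuotSh.J Scheme.fpqcPrecoverage S x.base :=
    mem_J_of_isCov _ hp (fun i => Sieve.ofArrows_mk Y p i)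
  have hT' := (QuotSh.J Scheme.fpqcPrecoverage S).pullback_stable f hT₀
  have hl1 : (QuotSt Scheme.fpqcPrecoverage G aX).p.IsHomLift (f ≫ g) (χ₁ ≫ a) :=
    isHomLift_of_base _ _ (by
      change χ₁.base ≫ a.base = f ≫ g
      rw [hab, ef])
  have hl2 : (QuotSt Scheme.fpqcPrecoverage G aX).p.IsHomLift (f ≫ g) (φ f hf x₁ χ₁ hχ₁) := hφ f hf x₁ χ₁ hχ₁
  refine sepFor _ hT' (f ≫ g) (χ₁ ≫ a) (φ f hf x₁ χ₁ hχ₁) hl1 hl2 ?_
  intro V'' k hk
  obtain ⟨i, m, hm⟩ := (Sieve.mem_ofArrows_iff Y p (k ≫ f)).mp hk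
  have hmb : m ≫ (pbHom x (p i)).base = (pbHom x₁ k ≫ χ₁).base := by
    change m ≫ p i = k ≫ χ₁.base
    rw [← hm, ef]
  obtain ⟨lam, hlam0⟩ : ∃ lam : pbObj x₁ k ⟶ pbObj x (p i), lam = liftHom (pbHom x (p i)) (pbHom x₁ k ≫ χ₁) m hmb :=
    ⟨_, rfl⟩
  have hlam : lam ≫ pbHom x (p i) = pbHom x₁ k ≫ χ₁ := by rw [hlam0]; exact liftHom_comp _ _ _ _
  have hlb : lam.base = m := by rw [hlam0]; rfl
  refine ⟨pbObj x₁ k, pbHom x₁ k, pbHom_lift x₁ k, ?_⟩
  have e1 := hc (p i) (hpT i) (pbObj x (p i)) (pbHom x (p i)) (hχ i) m (pbObj x₁ k) lam (isHomLift_of_base lam m hlb)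
    (isHomLift_of_base (lam ≫ pbHom x (p i)) (m ≫ p i) (by
      change lam.base ≫ p i = m ≫ p i
      rw [hlb]))
  rw [← hφi_def i] at e1
  have hl3 : (QuotSt Scheme.fpqcPrecoverage G aX).p.IsHomLift (k ≫ f) (pbHom x₁ k ≫ χ₁) :=
    isHomLift_of_base _ _ (by
      change k ≫ χ₁.base = k ≫ f
      rw [ef])
  have e2 := hc f hf x₁ χ₁ hχ₁ k (pbObj x₁ k) (pbHom x₁ k) (pbHom_lift x₁ k) hl3
  rw [← Category.assoc, ← hlam, Category.assoc, hχa i, ← e1, ← e2]
  exact φcongr _ _ hm.symm _ _ _ _ _ hlam _ _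

end Groth.Agent.Lib.Helper4.QuotFpqc
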