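import Mathlib
import Groth.Agent.Lib.Helper4.QuotFpqc4
import Groth.Agent.Lib.Helper4.ShGlue1
import Groth.Agent.Lib.Helper4.DescFamEff

/-!
# Descent data for fpqc scheme torsors on a sieve: the associated descent datum of schemes is effective (helper4)

For a sieve `R = Sieve.ofArrows Y p` on `U` generated by an fpqc covering family (index type in `Type u`) and a functor
`D : Stk.sieveCat R ⥤ᵇ AlgSt.QuotSt Scheme.fpqcPrecoverage G aX` over `(Sch/S)`:

* `dA`, `dMap`, `πs`, `πs_cart`: the torsors of the descent datum with their structure maps to the members of the sieve.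
* `ddFam D : Desc.SchDDFam (fun i => (p i).left)`: the descent datum of schemes given by the total spaces over the `Y i`.
* `ddFam_isEffective`: it is effective when `G` is flat and affine over `S`.
-/

set_option backward.isDefEq.respectTransparency false
set_option backward.isDefEq.respectTransparency.types false
set_option autoImplicit false
set_option linter.style.haveILetI false
set_option linter.unusedSectionVars false
set_option linter.unusedVariables false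
set_option linter.unusedSimpArgs false

universe u

open CategoryTheory CategoryTheory.Limits MonoidalCategory CartesianMonoidalCategory MonObj GrpObj AlgebraicGeometry
open AlgSt

namespace Groth.Agent.Lib.Helper4.QuotFpqc

open Groth.Agent.Lib.helper27.StkElem1 Groth.Agent.Lib.helper4.ShGlue Desc

variable {S : Scheme.{u}} {G : Over S} [GrpObj G] {X : Over S} {aX : AlgGrp.Action G X}

section General

variable {U : Over S} {R : Sieve U} (D : Stk.sieveCat R ⥤ᵇ QuotSt Scheme.fpqcPrecoverage G aX)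

/-- the torsors of the descent datum -/
abbrev dA (s : R.arrows.category) : QuotObj Scheme.fpqcPrecoverage G aX := D.toFunctor.obj s

theorem dA_base (s : R.arrows.category) : (dA D s).base = s.obj.left := D.w_obj s

abbrev dMap {s s' : R.arrows.category} (k : s ⟶ s') : dA D s ⟶ dA D s' := D.toFunctor.map k

theorem dMap_base {s s' : R.arrows.category} (k : s ⟶ s') :
    (dMap D k).base ≫ eqToHom (dA_base D s') = eqToHom (dA_base D s) ≫ k.hom.left := by
  have := sieve_map_isHomLift D k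
  exact (IsHomLift.commSq (QuotSt Scheme.fpqcPrecoverage G aX).p k.hom.left (D.toFunctor.map k)).w

theorem dMap_comp {s s' s'' : R.arrows.category} (k : s ⟶ s') (k' : s' ⟶ s'') :
    dMap D (k ≫ k') = dMap D k ≫ dMap D k' := D.toFunctor.map_comp k k'

/-- the structure maps to the members of the sieve -/
noncomputable def πs (s : R.arrows.category) : (dA D s).P ⟶ s.obj.left := (dA D s).π ≫ eqToHom (dA_base D s)

theorem πs_cart {s s' : R.arrows.category} (k : s ⟶ s') :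
    IsPullback (dMap D k).top (πs D s) (πs D s') k.hom.left := by
  refine (dMap D k).cart.of_iso (Iso.refl _) (Iso.refl _) (eqToIso (dA_base D s)) (eqToIso (dA_base D s')) ?_ ?_ ?_ ?_
  · simp
  · simp [πs]
  · simp [πs]
  · simpa using dMap_base D k

theorem cartL {s s' : R.arrows.category} (k : s ⟶ s') :
    IsPullback (dMap D k).top.left (πs D s).left (πs D s').left k.hom.left.left :=
  (πs_cart D k).map (Over.forget S)

theorem act_cart (s : R.arrows.category) :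
    IsPullback (dA D s).act.act (snd G (dA D s).P) (πs D s) (πs D s) := by
  refine (dA D s).cart.of_iso (Iso.refl _) (Iso.refl _) (Iso.refl _) (eqToIso (dA_base D s)) ?_ ?_ ?_ ?_
  · simp
  · simp
  · simp [πs]
  · simp [πs]

theorem πs_left (s : R.arrows.category) :
    (πs D s).left = (dA D s).π.left ≫ ((Over.forget S).map (eqToHom (dA_base D s))) := rfl

instance isAffineHom_πs [IsAffineHom G.hom] (s : R.arrows.category) : IsAffineHom (πs D s).left := by
  rw [πs_left]; infer_instance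

instance flat_πs [Flat G.hom] (s : R.arrows.category) : Flat (πs D s).left := by
  rw [πs_left]; infer_instance

instance surjective_πs (s : R.arrows.category) : Surjective (πs D s).left := by
  rw [πs_left]; infer_instance

instance quasiCompact_πs [IsAffineHom G.hom] (s : R.arrows.category) : QuasiCompact (πs D s).left :=
  inferInstance

end General

section DD

variable {U : Over S} {I : Type u} {Y : I → Over S} {p : ∀ i, Y i ⟶ U}
  (D : Stk.sieveCat (Sieve.ofArrows Y p) ⥤ᵇ QuotSt Scheme.fpqcPrecoverage G aX)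

/-- the members of the generating family, as objects of the sieve category -/
abbrev sI (i : I) : (Sieve.ofArrows Y p).arrows.category := sOf (p i) (Sieve.ofArrows_mk Y p i)

/-- the object of the sieve category given by a morphism of schemes to `U` -/
abbrev sT {T₀ : Scheme.{u}} (t₀ : T₀ ⟶ U.left)
    (ht : (Sieve.ofArrows Y p) (Over.homMk t₀ rfl : Over.mk (t₀ ≫ U.hom) ⟶ U)) :
    (Sieve.ofArrows Y p).arrows.category := sOf (Over.homMk t₀ rfl : Over.mk (t₀ ≫ U.hom) ⟶ U) ht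

theorem lp_w {T₀ : Scheme.{u}} {i : I} (x : T₀ ⟶ (Y i).left) (t₀ : T₀ ⟶ U.left) (h : x ≫ (p i).left = t₀) :
    x ≫ (Y i).hom = t₀ ≫ U.hom := by
  rw [← Over.w (p i), ← Category.assoc, h]

theorem memR {T₀ : Scheme.{u}} {i : I} (x : T₀ ⟶ (Y i).left) (t₀ : T₀ ⟶ U.left) (h : x ≫ (p i).left = t₀) :
    (Sieve.ofArrows Y p) (Over.homMk t₀ rfl : Over.mk (t₀ ≫ U.hom) ⟶ U) := by
  rw [Sieve.mem_ofArrows_iff]
  refine ⟨i, Over.homMk x (lp_w x t₀ h), ?_⟩
  apply Over.OverMorphism.ext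
  exact h.symm

/-- the morphism of the sieve category given by a local point -/
def kx {T₀ : Scheme.{u}} {i : I} (x : T₀ ⟶ (Y i).left) (t₀ : T₀ ⟶ U.left) (h : x ≫ (p i).left = t₀)
    (ht : (Sieve.ofArrows Y p) (Over.homMk t₀ rfl : Over.mk (t₀ ≫ U.hom) ⟶ U)) : sT t₀ ht ⟶ sI (Y := Y) (p := p) i :=
  mTo (sI i) (Over.homMk x (lp_w x t₀ h)) _ ht (by apply Over.OverMorphism.ext; exact h)

/-- the morphism of the sieve category given by a morphism of schemes over `U` -/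
def mg {T' T₀ : Scheme.{u}} (g' : T' ⟶ T₀) (t₀ : T₀ ⟶ U.left) (t₀' : T' ⟶ U.left) (h : g' ≫ t₀ = t₀')
    (ht : (Sieve.ofArrows Y p) (Over.homMk t₀ rfl : Over.mk (t₀ ≫ U.hom) ⟶ U))
    (ht' : (Sieve.ofArrows Y p) (Over.homMk t₀' rfl : Over.mk (t₀' ≫ U.hom) ⟶ U)) : sT t₀' ht' ⟶ sT t₀ ht :=
  mTo (sT t₀ ht) (Over.homMk g' (by
    change g' ≫ t₀ ≫ U.hom = t₀' ≫ U.hom
    rw [← Category.assoc, h])) _ ht' (by apply Over.OverMorphism.ext; exact h)

theorem mg_kx {T' T₀ : Scheme.{u}} (g' : T' ⟶ T₀) (t₀ : T₀ ⟶ U.left) (t₀' : T' ⟶ U.left) (h : g' ≫ t₀ = t₀')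
    (ht : (Sieve.ofArrows Y p) (Over.homMk t₀ rfl : Over.mk (t₀ ≫ U.hom) ⟶ U))
    (ht' : (Sieve.ofArrows Y p) (Over.homMk t₀' rfl : Over.mk (t₀' ≫ U.hom) ⟶ U))
    {i : I} (x : T₀ ⟶ (Y i).left) (hx : x ≫ (p i).left = t₀) (x' : T' ⟶ (Y i).left) (hx' : x' ≫ (p i).left = t₀')
    (e : g' ≫ x = x') : mg g' t₀ t₀' h ht ht' ≫ kx x t₀ hx ht = kx x' t₀' hx' ht' := by
  apply sieve_hom_ext
  apply Over.OverMorphism.ext
  exact e

/-- scheme-level sections of a torsor of the descent datum -/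
abbrev SecL (s : (Sieve.ofArrows Y p).arrows.category) : Type u :=
  {σ : s.obj.left.left ⟶ (dA D s).P.left // σ ≫ (πs D s).left = 𝟙 _}

/-- points of the torsor over `Y i` lying over a local point are the sections of the torsor over the source -/
noncomputable def eL {T₀ : Scheme.{u}} {i : I} (x : T₀ ⟶ (Y i).left) (t₀ : T₀ ⟶ U.left) (h : x ≫ (p i).left = t₀)
    (ht : (Sieve.ofArrows Y p) (Over.homMk t₀ rfl : Over.mk (t₀ ≫ U.hom) ⟶ U)) :
    Lifts (Over.mk (πs D (sI i)).left) x ≃ SecL D (sT t₀ ht) where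
  toFun v := ⟨(cartL D (kx x t₀ h ht)).lift v.1 (𝟙 T₀) (v.2.trans (Category.id_comp x).symm),
    (cartL D (kx x t₀ h ht)).lift_snd _ _ _⟩
  invFun σ := ⟨σ.1 ≫ (dMap D (kx x t₀ h ht)).top.left, by
    change (σ.1 ≫ (dMap D (kx x t₀ h ht)).top.left) ≫ (πs D (sI i)).left = x
    rw [Category.assoc, (cartL D (kx x t₀ h ht)).w, ← Category.assoc, σ.2, Category.id_comp]
    rfl⟩
  left_inv v := Subtype.ext ((cartL D (kx x t₀ h ht)).lift_fst _ _ _)
  right_inv σ := Subtype.ext (by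
    apply (cartL D (kx x t₀ h ht)).hom_ext
    · exact (cartL D (kx x t₀ h ht)).lift_fst _ _ _
    · rw [(cartL D (kx x t₀ h ht)).lift_snd]
      exact σ.2.symm)

theorem eL_fst {T₀ : Scheme.{u}} {i : I} (x : T₀ ⟶ (Y i).left) (t₀ : T₀ ⟶ U.left) (h : x ≫ (p i).left = t₀)
    (ht : (Sieve.ofArrows Y p) (Over.homMk t₀ rfl : Over.mk (t₀ ≫ U.hom) ⟶ U))
    (v : Lifts (Over.mk (πs D (sI i)).left) x) :
    (eL D x t₀ h ht v).1 ≫ (dMap D (kx x t₀ h ht)).top.left = v.1 :=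
  (cartL D (kx x t₀ h ht)).lift_fst _ _ _

theorem eL_symm_val {T₀ : Scheme.{u}} {i : I} (x : T₀ ⟶ (Y i).left) (t₀ : T₀ ⟶ U.left) (h : x ≫ (p i).left = t₀)
    (ht : (Sieve.ofArrows Y p) (Over.homMk t₀ rfl : Over.mk (t₀ ≫ U.hom) ⟶ U)) (σ : SecL D (sT t₀ ht)) :
    ((eL D x t₀ h ht).symm σ).1 = σ.1 ≫ (dMap D (kx x t₀ h ht)).top.left := rfl

theorem eL_nat {T' T₀ : Scheme.{u}} (g' : T' ⟶ T₀) (t₀ : T₀ ⟶ U.left) (t₀' : T' ⟶ U.left) (h : g' ≫ t₀ = t₀')
    (ht : (Sieve.ofArrows Y p) (Over.homMk t₀ rfl : Over.mk (t₀ ≫ U.hom) ⟶ U))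
    (ht' : (Sieve.ofArrows Y p) (Over.homMk t₀' rfl : Over.mk (t₀' ≫ U.hom) ⟶ U))
    {i : I} (x : T₀ ⟶ (Y i).left) (hx : x ≫ (p i).left = t₀) (x' : T' ⟶ (Y i).left) (hx' : x' ≫ (p i).left = t₀')
    (e : g' ≫ x = x') (v : Lifts (Over.mk (πs D (sI i)).left) x) (v' : Lifts (Over.mk (πs D (sI i)).left) x')
    (hv : v'.1 = g' ≫ v.1) :
    (eL D x' t₀' hx' ht' v').1 ≫ (dMap D (mg g' t₀ t₀' h ht ht')).top.left = g' ≫ (eL D x t₀ hx ht v).1 := by
  apply (cartL D (kx x t₀ hx ht)).hom_ext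
  · have e1 : (dMap D (mg g' t₀ t₀' h ht ht')).top.left ≫ (dMap D (kx x t₀ hx ht)).top.left =
        (dMap D (kx x' t₀' hx' ht')).top.left := by
      rw [← mg_kx g' t₀ t₀' h ht ht' x hx x' hx' e, dMap_comp]
      rfl
    rw [Category.assoc, e1, eL_fst, Category.assoc, eL_fst, hv]
  · have e1 : (dMap D (mg g' t₀ t₀' h ht ht')).top.left ≫ (πs D (sT t₀ ht)).left =
        (πs D (sT t₀' ht')).left ≫ g' := (cartL D (mg g' t₀ t₀' h ht ht')).w
    rw [Category.assoc, e1, ← Category.assoc, (eL D x' t₀' hx' ht' v').2, Category.id_comp, Category.assoc,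
      (eL D x t₀ hx ht v).2]
    exact (Category.comp_id g').symm

theorem eL_symm_nat {T' T₀ : Scheme.{u}} (g' : T' ⟶ T₀) (t₀ : T₀ ⟶ U.left) (t₀' : T' ⟶ U.left) (h : g' ≫ t₀ = t₀')
    (ht : (Sieve.ofArrows Y p) (Over.homMk t₀ rfl : Over.mk (t₀ ≫ U.hom) ⟶ U))
    (ht' : (Sieve.ofArrows Y p) (Over.homMk t₀' rfl : Over.mk (t₀' ≫ U.hom) ⟶ U))
    {i : I} (x : T₀ ⟶ (Y i).left) (hx : x ≫ (p i).left = t₀) (x' : T' ⟶ (Y i).left) (hx' : x' ≫ (p i).left = t₀')
    (e : g' ≫ x = x') (σ : SecL D (sT t₀ ht)) (σ' : SecL D (sT t₀' ht'))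
    (hσ : σ'.1 ≫ (dMap D (mg g' t₀ t₀' h ht ht')).top.left = g' ≫ σ.1) :
    ((eL D x' t₀' hx' ht').symm σ').1 = g' ≫ ((eL D x t₀ hx ht).symm σ).1 := by
  rw [eL_symm_val, eL_symm_val, ← mg_kx g' t₀ t₀' h ht ht' x hx x' hx' e, dMap_comp]
  change σ'.1 ≫ (dMap D (mg g' t₀ t₀' h ht ht')).top.left ≫ (dMap D (kx x t₀ hx ht)).top.left = _
  rw [← Category.assoc, hσ, Category.assoc]

/-- the gluing bijections, with an explicit common image in `U` -/
noncomputable def φ' {T₀ : Scheme.{u}} {i j : I} (t₀ : T₀ ⟶ U.left) (x₀ : T₀ ⟶ (Y i).left) (x₁ : T₀ ⟶ (Y j).left)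
    (h₀ : x₀ ≫ (p i).left = t₀) (h₁ : x₁ ≫ (p j).left = t₀) :
    Lifts (Over.mk (πs D (sI i)).left) x₀ ≃ Lifts (Over.mk (πs D (sI j)).left) x₁ :=
  (eL D x₀ t₀ h₀ (memR x₀ t₀ h₀)).trans (eL D x₁ t₀ h₁ (memR x₀ t₀ h₀)).symm

theorem φ'_congr {T₀ : Scheme.{u}} {i j : I} (t₀ t₀' : T₀ ⟶ U.left) (x₀ : T₀ ⟶ (Y i).left) (x₁ : T₀ ⟶ (Y j).left)
    (h₀ : x₀ ≫ (p i).left = t₀) (h₁ : x₁ ≫ (p j).left = t₀) (h₀' : x₀ ≫ (p i).left = t₀')
    (h₁' : x₁ ≫ (p j).left = t₀') (v : Lifts (Over.mk (πs D (sI i)).left) x₀) :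
    φ' D t₀ x₀ x₁ h₀ h₁ v = φ' D t₀' x₀ x₁ h₀' h₁' v := by
  subst h₀
  subst h₀'
  rfl

/-- the descent datum of schemes given by the total spaces of the torsors over the generating family -/
noncomputable def ddFam : SchDDFam (fun i => (p i).left) where
  obj i := Over.mk (πs D (sI i)).left
  φ T₀ i j x₀ x₁ h := φ' D (x₀ ≫ (p i).left) x₀ x₁ rfl h.symm
  φ_natural T₀ T' g' i j x₀ x₁ h y₀ y₁ hy₀ hy₁ h' v v' hv := by
    have ht₀ : g' ≫ x₀ ≫ (p i).left = y₀ ≫ (p i).left := by rw [← Category.assoc, hy₀]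
    change ((eL D y₁ (y₀ ≫ (p i).left) h'.symm (memR y₀ _ rfl)).symm (eL D y₀ (y₀ ≫ (p i).left) rfl (memR y₀ _ rfl) v')).1 =
      g' ≫ ((eL D x₁ (x₀ ≫ (p i).left) h.symm (memR x₀ _ rfl)).symm (eL D x₀ (x₀ ≫ (p i).left) rfl (memR x₀ _ rfl) v)).1
    exact eL_symm_nat D g' _ _ ht₀ _ _ x₁ h.symm y₁ h'.symm hy₁ _ _
      (eL_nat D g' _ _ ht₀ _ _ x₀ rfl y₀ rfl hy₀ v v' hv)
  φ_self T₀ i x v := by
    change (eL D x _ rfl _).symm (eL D x _ rfl _ v) = v
    exact Equiv.symm_apply_apply _ _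
  φ_comp T₀ i j k x₀ x₁ x₂ h₀₁ h₁₂ v := by
    rw [φ'_congr D (x₁ ≫ (p j).left) (x₀ ≫ (p i).left) x₁ x₂ rfl h₁₂.symm h₀₁.symm (h₀₁.trans h₁₂).symm]
    change (eL D x₂ _ _ _).symm (eL D x₁ _ _ _ ((eL D x₁ _ _ _).symm (eL D x₀ _ _ _ v))) =
      (eL D x₂ _ _ _).symm (eL D x₀ _ _ _ v)
    rw [Equiv.apply_symm_apply]

theorem ddFam_isEffective [Flat G.hom] [IsAffineHom G.hom] (hp : IsCov Y p) : (ddFam D).IsEffective :=
  Groth.Agent.Lib.Helper4.DescFamEff.isEffective_of_isAffineHom hp (ddFam D) (fun i => by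
    change IsAffineHom (πs D (sI i)).left
    infer_instance)

end DD

end Groth.Agent.Lib.Helper4.QuotFpqc
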