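import Mathlib
import Groth.Agent.Lib.Helper4.QuotFpqc5

/-!
# The glued total space of a descent datum for fpqc scheme torsors (helper4)

* `GlueCtx D`: a scheme `Q` over `U` with cartesian maps `lam s : (dA D s).P ⟶ Q` over the members of the sieve, compatible with
  the transition maps of `D`.
* `exists_glueCtx`: it exists for the sieve generated by an fpqc covering family (`G` flat and affine over `S`).
-/

set_option backward.isDefEq.respectTransparency false
set_option backward.isDefEq.respectTransparency.types false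
set_option autoImplicit false
set_option linter.style.haveILetI false
set_option linter.unusedSectionVars false
set_option linter.unusedVariables false
set_option linter.unusedSimpArgs false

universe u

open CategoryTheory CategoryTheory.Limits MonoidalCategory CartesianMonoidalCategory MonObj GrpObj AlgebraicGeometry
open AlgSt

namespace Groth.Agent.Lib.Helper4.QuotFpqc

open Groth.Agent.Lib.helper27.StkElem1 Groth.Agent.Lib.helper4.ShGlue Desc

variable {S : Scheme.{u}} {G : Over S} [GrpObj G] {X : Over S} {aX : AlgGrp.Action G X}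

/-- a scheme over `U` glued from the total spaces of a descent datum -/
structure GlueCtx {U : Over S} {R : Sieve U} (D : Stk.sieveCat R ⥤ᵇ QuotSt Scheme.fpqcPrecoverage G aX) where
  Q : Over S
  ϖQ : Q ⟶ U
  lam : ∀ s : R.arrows.category, (dA D s).P ⟶ Q
  hlam : ∀ s : R.arrows.category, IsPullback (lam s) (πs D s) ϖQ s.obj.hom
  hco : ∀ {s s' : R.arrows.category} (k : s ⟶ s'), (dMap D k).top ≫ lam s' = lam s

variable {U : Over S} {I : Type u} {Y : I → Over S} {p : ∀ i, Y i ⟶ U}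
  (D : Stk.sieveCat (Sieve.ofArrows Y p) ⥤ᵇ QuotSt Scheme.fpqcPrecoverage G aX)
  {Y₀ : Over U.left} (θ : (toDDFam (fun i => (p i).left)).obj Y₀ ≅ ddFam D)

theorem θi_θh (i : I) : (θ.inv.hom i).left ≫ (θ.hom.hom i).left = 𝟙 _ :=
  congrArg (fun a : ddFam D ⟶ ddFam D => (a.hom i).left) θ.inv_hom_id

theorem θh_θi (i : I) : (θ.hom.hom i).left ≫ (θ.inv.hom i).left = 𝟙 _ :=
  congrArg (fun a : (toDDFam (fun i => (p i).left)).obj Y₀ ⟶ (toDDFam (fun i => (p i).left)).obj Y₀ =>
    (a.hom i).left) θ.hom_inv_id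

instance isIso_θi (i : I) : IsIso (θ.inv.hom i).left := ⟨(θ.hom.hom i).left, θi_θh D θ i, θh_θi D θ i⟩

/-- the maps from the torsors over the generating family to the descended scheme -/
noncomputable def qI (i : I) : (dA D (sI i)).P.left ⟶ Y₀.left :=
  (θ.inv.hom i).left ≫ pullback.snd ((p i).left) Y₀.hom

theorem θi_fst (i : I) : (θ.inv.hom i).left ≫ pullback.fst ((p i).left) Y₀.hom = (πs D (sI i)).left :=
  Over.w (θ.inv.hom i)

theorem qI_hom (i : I) : qI D θ i ≫ Y₀.hom = (πs D (sI i)).left ≫ (p i).left := by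
  unfold qI
  rw [Category.assoc, ← pullback.condition, ← Category.assoc, θi_fst]

theorem qI_cart (i : I) : IsPullback (qI D θ i) (πs D (sI i)).left Y₀.hom (p i).left := by
  have h1 : IsPullback (θ.inv.hom i).left (πs D (sI i)).left (pullback.fst ((p i).left) Y₀.hom) (𝟙 _) :=
    IsPullback.of_horiz_isIso ⟨by rw [Category.comp_id]; exact θi_fst D θ i⟩
  have h2 := h1.paste_horiz (IsPullback.of_hasPullback ((p i).left) Y₀.hom).flip
  rw [Category.id_comp] at h2
  exact h2

theorem qI_indep (s : (Sieve.ofArrows Y p).arrows.category) {i j : I} (m : s ⟶ sI i) (m' : s ⟶ sI j) :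
    (dMap D m).top.left ≫ qI D θ i = (dMap D m').top.left ≫ qI D θ j := by
  have hm : m.hom.left.left ≫ (p i).left = s.obj.hom.left := congrArg (fun a => a.left) (Over.w m.hom)
  have hm' : m'.hom.left.left ≫ (p j).left = s.obj.hom.left := congrArg (fun a => a.left) (Over.w m'.hom)
  obtain ⟨x₀, hx₀⟩ : ∃ x₀ : (dA D s).P.left ⟶ (Y i).left, x₀ = (πs D s).left ≫ m.hom.left.left := ⟨_, rfl⟩
  obtain ⟨x₁, hx₁⟩ : ∃ x₁ : (dA D s).P.left ⟶ (Y j).left, x₁ = (πs D s).left ≫ m'.hom.left.left := ⟨_, rfl⟩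
  have h : x₀ ≫ (p i).left = x₁ ≫ (p j).left := by
    rw [hx₀, hx₁, Category.assoc, Category.assoc, hm, hm']
  have hv : (dMap D m).top.left ≫ (πs D (sI i)).left = x₀ := by rw [hx₀]; exact (cartL D m).w
  have hv' : (dMap D m').top.left ≫ (πs D (sI j)).left = x₁ := by rw [hx₁]; exact (cartL D m').w
  obtain ⟨v, hv0⟩ : ∃ v : Lifts ((ddFam D).obj i) x₀, v.1 = (dMap D m).top.left := ⟨⟨_, hv⟩, rfl⟩
  obtain ⟨v', hv0'⟩ : ∃ v' : Lifts ((ddFam D).obj j) x₁, v'.1 = (dMap D m').top.left := ⟨⟨_, hv'⟩, rfl⟩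
  -- the object of the sieve category of the total space
  have ht := memR (p := p) x₀ (x₀ ≫ (p i).left) rfl
  have hw : (πs D s).left ≫ s.obj.left.hom = (x₀ ≫ (p i).left) ≫ U.hom := by
    rw [hx₀]
    simp only [Category.assoc]
    rw [← Category.assoc m.hom.left.left, hm, Over.w s.obj.hom]
  have he : (Over.homMk (πs D s).left hw : Over.mk ((x₀ ≫ (p i).left) ≫ U.hom) ⟶ s.obj.left) ≫ s.obj.hom =
      (Over.homMk (x₀ ≫ (p i).left) rfl : Over.mk ((x₀ ≫ (p i).left) ≫ U.hom) ⟶ U) := by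
    apply Over.OverMorphism.ext
    change (πs D s).left ≫ s.obj.hom.left = x₀ ≫ (p i).left
    rw [hx₀, Category.assoc, hm]
  obtain ⟨k', hk'⟩ : ∃ k' : sT (x₀ ≫ (p i).left) ht ⟶ s, k' = mTo s (Over.homMk (πs D s).left hw : Over.mk ((x₀ ≫ (p i).left) ≫ U.hom) ⟶ s.obj.left) _ ht he :=
    ⟨_, rfl⟩
  have hk'l : k'.hom.left.left = (πs D s).left := by rw [hk']; rfl
  have hk₀ : kx x₀ (x₀ ≫ (p i).left) rfl ht = k' ≫ m := by
    apply sieve_hom_ext
    apply Over.OverMorphism.ext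
    change x₀ = k'.hom.left.left ≫ m.hom.left.left
    rw [hk'l]
    exact hx₀
  have hk₁ : kx x₁ (x₀ ≫ (p i).left) h.symm ht = k' ≫ m' := by
    apply sieve_hom_ext
    apply Over.OverMorphism.ext
    change x₁ = k'.hom.left.left ≫ m'.hom.left.left
    rw [hk'l]
    exact hx₁
  -- the diagonal section
  have hδw : 𝟙 (dA D s).P.left ≫ (πs D s).left = 𝟙 _ ≫ k'.hom.left.left := by rw [hk'l]; rfl
  obtain ⟨δ, hδ⟩ : ∃ δ : SecL D (sT (x₀ ≫ (p i).left) ht), δ.1 ≫ (dMap D k').top.left = 𝟙 _ :=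
    ⟨⟨(cartL D k').lift (𝟙 _) (𝟙 _) hδw, (cartL D k').lift_snd _ _ _⟩, (cartL D k').lift_fst _ _ _⟩
  have e0 : eL D x₀ (x₀ ≫ (p i).left) rfl ht v = δ := by
    apply (eL D x₀ (x₀ ≫ (p i).left) rfl ht).symm.injective
    rw [Equiv.symm_apply_apply]
    apply Subtype.ext
    rw [eL_symm_val, hk₀, dMap_comp]
    change v.1 = δ.1 ≫ (dMap D k').top.left ≫ (dMap D m).top.left
    rw [← Category.assoc, hδ, Category.id_comp, hv0]
  have hA : (ddFam D).φ x₀ x₁ h v = v' := by
    change (eL D x₁ (x₀ ≫ (p i).left) h.symm ht).symm (eL D x₀ (x₀ ≫ (p i).left) rfl ht v) = v'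
    rw [e0]
    apply Subtype.ext
    rw [eL_symm_val, hk₁, dMap_comp]
    change δ.1 ≫ (dMap D k').top.left ≫ (dMap D m').top.left = v'.1
    rw [← Category.assoc, hδ, Category.id_comp, hv0']
  have hB := θ.inv.comm x₀ x₁ h v (θ.inv.push v) rfl
  have hL : (((toDDFam (fun i => (p i).left)).obj Y₀).φ x₀ x₁ h (θ.inv.push v)).1 ≫
      pullback.snd ((p j).left) Y₀.hom = (θ.inv.push v).1 ≫ pullback.snd ((p i).left) Y₀.hom := by
    change (canMapFam (fun i => (p i).left) Y₀ x₀ x₁ h (θ.inv.push v)).1 ≫ _ = _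
    rw [canMapFam_val, pullback.lift_snd]
  rw [hB, hA] at hL
  unfold qI
  rw [← hv0, ← hv0', ← Category.assoc, ← Category.assoc]
  exact hL.symm

/-- the descended scheme over `S` -/
noncomputable def Qo (Y₀ : Over U.left) : Over S := Over.mk (Y₀.hom ≫ U.hom)

noncomputable def ϖo (Y₀ : Over U.left) : Qo Y₀ ⟶ U := Over.homMk Y₀.hom rfl

noncomputable def lamI (i : I) : (dA D (sI i)).P ⟶ Qo Y₀ :=
  Over.homMk (qI D θ i) (by
    change qI D θ i ≫ Y₀.hom ≫ U.hom = (dA D (sI i)).P.hom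
    rw [← Category.assoc, qI_hom, Category.assoc, Over.w (p i)]
    exact Over.w (πs D (sI i)))

theorem hlamI (i : I) : IsPullback (lamI D θ i) (πs D (sI i)) (ϖo Y₀) (p i) := by
  refine IsPullback.of_map (Over.forget S) ?_ (qI_cart D θ i)
  apply Over.OverMorphism.ext
  exact qI_hom D θ i

theorem lam_indep (s : (Sieve.ofArrows Y p).arrows.category) {i j : I} (m : s ⟶ sI i) (m' : s ⟶ sI j) :
    (dMap D m).top ≫ lamI D θ i = (dMap D m').top ≫ lamI D θ j := by
  apply Over.OverMorphism.ext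
  exact qI_indep D θ s m m'

omit D θ in
theorem exists_loc (s : (Sieve.ofArrows Y p).arrows.category) : ∃ i : I, Nonempty (s ⟶ sI (Y := Y) (p := p) i) := by
  obtain ⟨i, a, ha⟩ := (Sieve.mem_ofArrows_iff Y p s.obj.hom).mp s.property
  exact ⟨i, ⟨ObjectProperty.homMk (Over.homMk a ha.symm)⟩⟩

include θ in
theorem exists_glueCtx_of_iso : Nonempty (GlueCtx D) := by
  choose iL mL using exists_loc (Y := Y) (p := p)
  have hlam_eq : ∀ (s : (Sieve.ofArrows Y p).arrows.category) {i : I} (m : s ⟶ sI i),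
      (dMap D (mL s).some).top ≫ lamI D θ (iL s) = (dMap D m).top ≫ lamI D θ i := fun s i m =>
    lam_indep D θ s _ m
  refine ⟨⟨Qo Y₀, ϖo Y₀, fun s => (dMap D (mL s).some).top ≫ lamI D θ (iL s), fun s => ?_, fun {s s'} k => ?_⟩⟩
  · have h := (πs_cart D (mL s).some).paste_horiz (hlamI D θ (iL s))
    have e : (mL s).some.hom.left ≫ p (iL s) = s.obj.hom := Over.w (mL s).some.hom
    rw [e] at h
    exact h
  · change (dMap D k).top ≫ (dMap D (mL s').some).top ≫ lamI D θ (iL s') = _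
    rw [hlam_eq s (k ≫ (mL s').some), dMap_comp]
    rfl

theorem exists_glueCtx [Flat G.hom] [IsAffineHom G.hom] (hp : IsCov Y p) : Nonempty (GlueCtx D) := by
  obtain ⟨Y₀, ⟨θ⟩⟩ := ddFam_isEffective D hp
  exact exists_glueCtx_of_iso D θ

end Groth.Agent.Lib.Helper4.QuotFpqc
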