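import Mathlib
import Groth.Agent.Lib.Helper4.QuotFpqc6
import Groth.Agent.Lib.Helper22.ActPts

/-!
# The glued total space of a descent datum for fpqc scheme torsors is a torsor (helper4)

For `c : GlueCtx D` over the sieve generated by an fpqc covering family `p i : Y i ⟶ U`:

* `hcovQ`, `exists_common`, `exists_desc`, `exists_descA`: the maps `c.lam (sI i)` cover `c.Q`; morphisms out of `c.Q` and `A ⊗ c.Q`
  are glued from compatible families on the torsors of the descent datum.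
* `act`, `one_act`, `mul_act`, `act_ϖ`, `cart`: the action of `G` on `c.Q`, which makes it a pseudo-torsor over `U`.
-/

set_option backward.isDefEq.respectTransparency false
set_option backward.isDefEq.respectTransparency.types false
set_option autoImplicit false
set_option linter.style.haveILetI false
set_option linter.unusedSectionVars false
set_option linter.unusedVariables false
set_option linter.unusedSimpArgs false

universe u

open CategoryTheory CategoryTheory.Limits MonoidalCategory CartesianMonoidalCategory MonObj GrpObj AlgebraicGeometry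
open AlgSt

namespace Groth.Agent.Lib.Helper4.QuotFpqc

open Groth.Agent.Lib.helper27.StkElem1 Groth.Agent.Lib.helper4.ShGlue

namespace GlueCtx

variable {S : Scheme.{u}} {G : Over S} [GrpObj G] {X : Over S} {aX : AlgGrp.Action G X}
  {U : Over S} {I : Type u} {Y : I → Over S} {p : ∀ i, Y i ⟶ U}
  {D : Stk.sieveCat (Sieve.ofArrows Y p) ⥤ᵇ QuotSt Scheme.fpqcPrecoverage G aX} (c : GlueCtx D) (hp : IsCov Y p)

@[reassoc]
theorem lam_ϖ (s : (Sieve.ofArrows Y p).arrows.category) : c.lam s ≫ c.ϖQ = πs D s ≫ s.obj.hom := (c.hlam s).w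

@[reassoc]
theorem lam_ϖI (i : I) : c.lam (sI i) ≫ c.ϖQ = πs D (sI i) ≫ p i := (c.hlam (sI i)).w

include hp in
theorem hcovQ : IsCov (fun i => (dA D (sI i)).P) (fun i => c.lam (sI i)) :=
  isCov_of_isPullback hp c.ϖQ _ (fun i => πs D (sI i)) (fun i => c.hlam (sI i))

theorem exists_common {W' : Over S} {i j : I} (gi : W' ⟶ (dA D (sI i)).P) (gj : W' ⟶ (dA D (sI j)).P)
    (h : gi ≫ c.lam (sI i) = gj ≫ c.lam (sI j)) :
    ∃ (s : (Sieve.ofArrows Y p).arrows.category) (ki : s ⟶ sI i) (kj : s ⟶ sI j) (σ : W' ⟶ (dA D s).P),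
      σ ≫ (dMap D ki).top = gi ∧ σ ≫ (dMap D kj).top = gj := by
  obtain ⟨mi, hmi⟩ : ∃ mi : W' ⟶ Y i, mi = gi ≫ πs D (sI i) := ⟨_, rfl⟩
  obtain ⟨mj, hmj⟩ : ∃ mj : W' ⟶ Y j, mj = gj ≫ πs D (sI j) := ⟨_, rfl⟩
  have hw : mj ≫ p j = mi ≫ p i := by
    rw [hmi, hmj, Category.assoc, Category.assoc, ← c.lam_ϖI i, ← c.lam_ϖI j, ← Category.assoc, ← Category.assoc, h]
  have hR : (Sieve.ofArrows Y p) (mi ≫ p i) := (Sieve.ofArrows Y p).downward_closed (Sieve.ofArrows_mk Y p i) mi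
  obtain ⟨ki, hki⟩ : ∃ ki : sOf (mi ≫ p i) hR ⟶ sI i, ki.hom.left = mi := ⟨mTo (sI i) mi _ hR rfl, rfl⟩
  obtain ⟨kj, hkj⟩ : ∃ kj : sOf (mi ≫ p i) hR ⟶ sI j, kj.hom.left = mj := ⟨mTo (sI j) mj _ hR hw, rfl⟩
  have hwi : gi ≫ πs D (sI i) = 𝟙 W' ≫ ki.hom.left := by rw [hki, hmi]; exact (Category.id_comp _).symm
  have hwj : gj ≫ πs D (sI j) = 𝟙 W' ≫ kj.hom.left := by rw [hkj, hmj]; exact (Category.id_comp _).symm
  obtain ⟨σi, hσi1, hσi2⟩ : ∃ σi : W' ⟶ (dA D (sOf (mi ≫ p i) hR)).P,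
      σi ≫ (dMap D ki).top = gi ∧ σi ≫ πs D (sOf (mi ≫ p i) hR) = 𝟙 W' :=
    ⟨(πs_cart D ki).lift gi (𝟙 W') hwi, (πs_cart D ki).lift_fst _ _ _, (πs_cart D ki).lift_snd _ _ _⟩
  obtain ⟨σj, hσj1, hσj2⟩ : ∃ σj : W' ⟶ (dA D (sOf (mi ≫ p i) hR)).P,
      σj ≫ (dMap D kj).top = gj ∧ σj ≫ πs D (sOf (mi ≫ p i) hR) = 𝟙 W' :=
    ⟨(πs_cart D kj).lift gj (𝟙 W') hwj, (πs_cart D kj).lift_fst _ _ _, (πs_cart D kj).lift_snd _ _ _⟩
  have e : σi = σj := by
    apply (c.hlam (sOf (mi ≫ p i) hR)).hom_ext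
    · calc σi ≫ c.lam _ = σi ≫ (dMap D ki).top ≫ c.lam (sI i) := by rw [c.hco ki]
        _ = gi ≫ c.lam (sI i) := by rw [← Category.assoc, hσi1]
        _ = gj ≫ c.lam (sI j) := h
        _ = σj ≫ (dMap D kj).top ≫ c.lam (sI j) := by rw [← Category.assoc, hσj1]
        _ = σj ≫ c.lam _ := by rw [c.hco kj]
    · rw [hσi2, hσj2]
  exact ⟨_, ki, kj, σi, hσi1, by rw [e, hσj1]⟩

include hp in
/-- morphisms out of the glued scheme are glued from compatible families -/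
theorem exists_desc {Z : Over S} (x : ∀ s : (Sieve.ofArrows Y p).arrows.category, (dA D s).P ⟶ Z)
    (hx : ∀ {s s' : (Sieve.ofArrows Y p).arrows.category} (k : s ⟶ s'), (dMap D k).top ≫ x s' = x s) :
    ∃ z : c.Q ⟶ Z, ∀ s, c.lam s ≫ z = x s := by
  obtain ⟨z, hz⟩ := glue_over (c.hcovQ hp) (fun i => x (sI i)) (by
    intro i j W' gi gj hg
    obtain ⟨s, ki, kj, σ, h1, h2⟩ := c.exists_common gi gj hg
    rw [← h1, ← h2, Category.assoc, Category.assoc, hx ki, hx kj])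
  refine ⟨z, fun s => ?_⟩
  obtain ⟨i, ⟨m⟩⟩ := exists_loc s
  rw [← c.hco m, Category.assoc, hz i, hx m]

include hp in
/-- morphisms out of `A ⊗ Q` are glued from compatible families -/
theorem exists_descA (A : Over S) {Z : Over S}
    (x : ∀ s : (Sieve.ofArrows Y p).arrows.category, A ⊗ (dA D s).P ⟶ Z)
    (hx : ∀ {s s' : (Sieve.ofArrows Y p).arrows.category} (k : s ⟶ s'), (A ◁ (dMap D k).top) ≫ x s' = x s) :
    ∃ z : A ⊗ c.Q ⟶ Z, ∀ s, (A ◁ c.lam s) ≫ z = x s := by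
  obtain ⟨z, hz⟩ := glue_over (isCov_whiskerLeft A (c.hcovQ hp)) (fun i => x (sI i)) (by
    intro i j W' gi gj hg
    have hf : gi ≫ fst A _ = gj ≫ fst A _ := by
      have := congrArg (fun m => m ≫ fst A c.Q) hg
      simpa using this
    have hs : (gi ≫ snd A _) ≫ c.lam (sI i) = (gj ≫ snd A _) ≫ c.lam (sI j) := by
      have := congrArg (fun m => m ≫ snd A c.Q) hg
      simpa using this
    obtain ⟨s, ki, kj, σ, h1, h2⟩ := c.exists_common _ _ hs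
    have ei : gi = lift (gi ≫ fst A _) σ ≫ (A ◁ (dMap D ki).top) := by
      rw [lift_whiskerLeft, h1]
      apply CartesianMonoidalCategory.hom_ext <;> simp
    have ej : gj = lift (gi ≫ fst A _) σ ≫ (A ◁ (dMap D kj).top) := by
      rw [lift_whiskerLeft, h2, hf]
      apply CartesianMonoidalCategory.hom_ext <;> simp
    rw [ei, ej, Category.assoc, Category.assoc, hx ki, hx kj])
  refine ⟨z, fun s => ?_⟩
  obtain ⟨i, ⟨m⟩⟩ := exists_loc s
  rw [← c.hco m, MonoidalCategory.whiskerLeft_comp, Category.assoc, hz i, hx m]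

include hp in
theorem exists_act : ∃ act : G ⊗ c.Q ⟶ c.Q,
    ∀ s : (Sieve.ofArrows Y p).arrows.category, (G ◁ c.lam s) ≫ act = (dA D s).act.act ≫ c.lam s :=
  c.exists_descA hp G (fun s => (dA D s).act.act ≫ c.lam s) (fun {s s'} k => by
    rw [← Category.assoc, ← (dMap D k).eqv, Category.assoc, c.hco k])

/-- the action of `G` on the glued scheme -/
noncomputable def act : G ⊗ c.Q ⟶ c.Q := (c.exists_act hp).choose

@[reassoc]
theorem lam_act (s : (Sieve.ofArrows Y p).arrows.category) :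
    (G ◁ c.lam s) ≫ c.act hp = (dA D s).act.act ≫ c.lam s := (c.exists_act hp).choose_spec s

theorem one_act : (η[G] ▷ c.Q) ≫ c.act hp = (λ_ c.Q).hom := by
  refine hom_ext_over (isCov_whiskerLeft (𝟙_ (Over S)) (c.hcovQ hp)) _ _ (fun i => ?_)
  change (𝟙_ (Over S) ◁ c.lam (sI i)) ≫ (η[G] ▷ c.Q) ≫ c.act hp = (𝟙_ (Over S) ◁ c.lam (sI i)) ≫ (λ_ c.Q).hom
  rw [whisker_exchange_assoc, c.lam_act hp, ← Category.assoc, (dA D (sI i)).act.one_act, leftUnitor_naturality]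

theorem mul_act : (μ[G] ▷ c.Q) ≫ c.act hp = (α_ G G c.Q).hom ≫ (G ◁ c.act hp) ≫ c.act hp := by
  refine hom_ext_over (isCov_whiskerLeft (G ⊗ G) (c.hcovQ hp)) _ _ (fun i => ?_)
  have eL : ((G ⊗ G) ◁ c.lam (sI i)) ≫ (μ[G] ▷ c.Q) ≫ c.act hp =
      (α_ G G (dA D (sI i)).P).hom ≫ (G ◁ (dA D (sI i)).act.act) ≫ (dA D (sI i)).act.act ≫ c.lam (sI i) := by
    rw [whisker_exchange_assoc, c.lam_act hp, ← Category.assoc, (dA D (sI i)).act.mul_act]
    simp only [Category.assoc]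
  have eR : ((G ⊗ G) ◁ c.lam (sI i)) ≫ (α_ G G c.Q).hom ≫ (G ◁ c.act hp) ≫ c.act hp =
      (α_ G G (dA D (sI i)).P).hom ≫ (G ◁ (dA D (sI i)).act.act) ≫ (dA D (sI i)).act.act ≫ c.lam (sI i) := by
    rw [associator_naturality_right_assoc, ← MonoidalCategory.whiskerLeft_comp_assoc, c.lam_act hp,
      MonoidalCategory.whiskerLeft_comp, Category.assoc, c.lam_act hp]
  exact eL.trans eR.symm

theorem act_ϖ : c.act hp ≫ c.ϖQ = snd G c.Q ≫ c.ϖQ := by
  refine hom_ext_over (isCov_whiskerLeft G (c.hcovQ hp)) _ _ (fun i => ?_)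
  change (G ◁ c.lam (sI i)) ≫ c.act hp ≫ c.ϖQ = (G ◁ c.lam (sI i)) ≫ snd G c.Q ≫ c.ϖQ
  rw [c.lam_act_assoc hp, c.lam_ϖI, (act_cart D (sI i)).w_assoc, whiskerLeft_snd_assoc, c.lam_ϖI]

theorem lift_act_lam {T : Over S} (s : (Sieve.ofArrows Y p).arrows.category) (gm : T ⟶ G) (a : T ⟶ (dA D s).P) :
    lift gm (a ≫ c.lam s) ≫ c.act hp = (lift gm a ≫ (dA D s).act.act) ≫ c.lam s := by
  rw [← lift_whiskerLeft, Category.assoc, c.lam_act hp, Category.assoc]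

theorem uniq_loc {T : Over S} (gm gm' : T ⟶ G) (q : T ⟶ c.Q) (i : I) (m : T ⟶ Y i) (hq : q ≫ c.ϖQ = m ≫ p i)
    (h : lift gm q ≫ c.act hp = lift gm' q ≫ c.act hp) : gm = gm' := by
  obtain ⟨a, ha1, ha2⟩ : ∃ a : T ⟶ (dA D (sI i)).P, a ≫ c.lam (sI i) = q ∧ a ≫ πs D (sI i) = m :=
    ⟨(c.hlam (sI i)).lift q m hq, (c.hlam (sI i)).lift_fst _ _ _, (c.hlam (sI i)).lift_snd _ _ _⟩
  rw [← ha1, c.lift_act_lam hp, c.lift_act_lam hp] at h
  have h1 : lift gm a ≫ (dA D (sI i)).act.act = lift gm' a ≫ (dA D (sI i)).act.act := by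
    apply (c.hlam (sI i)).hom_ext h
    rw [Category.assoc, Category.assoc, (act_cart D (sI i)).w, lift_snd_assoc, lift_snd_assoc]
  have h2 : lift gm a = lift gm' a := by
    apply (act_cart D (sI i)).hom_ext h1
    rw [lift_snd, lift_snd]
  have := congrArg (fun l => l ≫ fst G _) h2
  simpa using this

theorem ex_loc {T : Over S} (s t : T ⟶ c.Q) (i : I) (m : T ⟶ Y i) (hs : s ≫ c.ϖQ = m ≫ p i)
    (ht : t ≫ c.ϖQ = m ≫ p i) : ∃ gm : T ⟶ G, lift gm t ≫ c.act hp = s := by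
  obtain ⟨a, ha1, ha2⟩ : ∃ a : T ⟶ (dA D (sI i)).P, a ≫ c.lam (sI i) = s ∧ a ≫ πs D (sI i) = m :=
    ⟨(c.hlam (sI i)).lift s m hs, (c.hlam (sI i)).lift_fst _ _ _, (c.hlam (sI i)).lift_snd _ _ _⟩
  obtain ⟨b, hb1, hb2⟩ : ∃ b : T ⟶ (dA D (sI i)).P, b ≫ c.lam (sI i) = t ∧ b ≫ πs D (sI i) = m :=
    ⟨(c.hlam (sI i)).lift t m ht, (c.hlam (sI i)).lift_fst _ _ _, (c.hlam (sI i)).lift_snd _ _ _⟩
  obtain ⟨l, hl1, hl2⟩ : ∃ l : T ⟶ G ⊗ (dA D (sI i)).P, l ≫ (dA D (sI i)).act.act = a ∧ l ≫ snd G _ = b :=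
    ⟨(act_cart D (sI i)).lift a b (by rw [ha2, hb2]), (act_cart D (sI i)).lift_fst _ _ _,
      (act_cart D (sI i)).lift_snd _ _ _⟩
  refine ⟨l ≫ fst G _, ?_⟩
  have hl : lift (l ≫ fst G _) b = l := by
    apply CartesianMonoidalCategory.hom_ext <;> simp [hl2]
  rw [← hb1, c.lift_act_lam hp, hl, hl1, ha1]

theorem uniq_pts {W T : Over S} (τ : W ⟶ T) (l l' : T ⟶ G ⊗ c.Q) (h1 : l ≫ c.act hp = l' ≫ c.act hp)
    (h2 : l ≫ snd G c.Q = l' ≫ snd G c.Q) (i : I) (m : W ⟶ Y i) (hm : τ ≫ (l ≫ snd G c.Q) ≫ c.ϖQ = m ≫ p i) :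
    τ ≫ l ≫ fst G c.Q = τ ≫ l' ≫ fst G c.Q := by
  have hpts : ∀ {W : Over S} (x : W ⟶ G ⊗ c.Q), lift (x ≫ fst G c.Q) (x ≫ snd G c.Q) = x := by
    intro W x
    apply CartesianMonoidalCategory.hom_ext <;> simp
  refine c.uniq_loc hp _ _ (τ ≫ l ≫ snd G c.Q) i m (by simpa only [Category.assoc] using hm) ?_
  have e1 : lift (τ ≫ l ≫ fst G c.Q) (τ ≫ l ≫ snd G c.Q) = τ ≫ l := by
    rw [← comp_lift, hpts]
  have e2 : lift (τ ≫ l' ≫ fst G c.Q) (τ ≫ l ≫ snd G c.Q) = τ ≫ l' := by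
    rw [h2, ← comp_lift, hpts]
  rw [e1, e2, Category.assoc, Category.assoc, h1]

theorem cart : IsPullback (c.act hp) (snd G c.Q) c.ϖQ c.ϖQ := by
  have hcovT : ∀ {T : Over S} (t : T ⟶ c.Q), IsCov (fun i => Limits.pullback (t ≫ c.ϖQ) (p i))
      (fun i => pullback.fst (t ≫ c.ϖQ) (p i)) := fun t =>
    isCov_of_isPullback hp (t ≫ c.ϖQ) _ (fun i => pullback.snd (t ≫ c.ϖQ) (p i))
      (fun i => IsPullback.of_hasPullback _ _)
  have hpts : ∀ {W : Over S} (x : W ⟶ G ⊗ c.Q), lift (x ≫ fst G c.Q) (x ≫ snd G c.Q) = x := by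
    intro W x
    apply CartesianMonoidalCategory.hom_ext <;> simp
  apply Groth.Agent.Lib.helper22.isPullback_of_points (c.act_ϖ hp)
  · intro T s t hst
    have hloc : ∀ i, ∃ gm : Limits.pullback (t ≫ c.ϖQ) (p i) ⟶ G,
        lift gm (pullback.fst (t ≫ c.ϖQ) (p i) ≫ t) ≫ c.act hp = pullback.fst (t ≫ c.ϖQ) (p i) ≫ s := fun i =>
      c.ex_loc hp _ _ i (pullback.snd (t ≫ c.ϖQ) (p i))
        (by rw [Category.assoc, hst, pullback.condition]) (by rw [Category.assoc, pullback.condition])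
    choose gmi hgmi using hloc
    obtain ⟨gm, hgm⟩ := glue_over (hcovT t) gmi (by
      intro i j W' gi gj hg
      refine c.uniq_loc hp _ _ (gi ≫ pullback.fst (t ≫ c.ϖQ) (p i) ≫ t) i
        (gi ≫ pullback.snd (t ≫ c.ϖQ) (p i)) ?_ ?_
      · simp only [Category.assoc]
        rw [pullback.condition]
      · have e1 : lift (gi ≫ gmi i) (gi ≫ pullback.fst (t ≫ c.ϖQ) (p i) ≫ t) =
            gi ≫ lift (gmi i) (pullback.fst (t ≫ c.ϖQ) (p i) ≫ t) := by rw [comp_lift]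
        have e2 : lift (gj ≫ gmi j) (gi ≫ pullback.fst (t ≫ c.ϖQ) (p i) ≫ t) =
            gj ≫ lift (gmi j) (pullback.fst (t ≫ c.ϖQ) (p j) ≫ t) := by
          rw [comp_lift, ← Category.assoc gi, hg, Category.assoc]
        rw [e1, e2, Category.assoc, Category.assoc, hgmi, hgmi, ← Category.assoc, hg, Category.assoc])
    refine ⟨lift gm t, ?_, lift_snd _ _⟩
    refine hom_ext_over (hcovT t) _ _ (fun i => ?_)
    change pullback.fst (t ≫ c.ϖQ) (p i) ≫ lift gm t ≫ c.act hp = pullback.fst (t ≫ c.ϖQ) (p i) ≫ s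
    rw [← Category.assoc, comp_lift, hgm i, hgmi i]
  · intro T l l' h1 h2
    apply CartesianMonoidalCategory.hom_ext _ _ ?_ h2
    refine hom_ext_over (hcovT (l ≫ snd G c.Q)) _ _ (fun i => ?_)
    exact c.uniq_pts hp (pullback.fst ((l ≫ snd G c.Q) ≫ c.ϖQ) (p i)) l l' h1 h2 i
      (pullback.snd ((l ≫ snd G c.Q) ≫ c.ϖQ) (p i)) pullback.condition

end GlueCtx

end Groth.Agent.Lib.Helper4.QuotFpqc
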