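import Mathlib
import Groth.Agent.Lib.Helper4.QuotFpqc7
import Groth.Agent.Lib.Helper27.StkElem2

/-!
# `[X/G]` for fpqc scheme torsors under a flat affine group scheme is an fpqc stack (helper4)

* `GlueCtx.obj`, `GlueCtx.leg`: the glued torsor with its cocone.
* `effFor`: effectivity of descent data for the sieve generated by a `Type u`-indexed fpqc covering family.
* `isStack_quotSt_fpqc`: for `G ⟶ S` flat and affine, `AlgSt.QuotSt Scheme.fpqcPrecoverage G aX` is a stack over `(Sch/S)` for the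
  fpqc topology.
-/

set_option backward.isDefEq.respectTransparency false
set_option backward.isDefEq.respectTransparency.types false
set_option autoImplicit false
set_option linter.style.haveILetI false
set_option linter.unusedSectionVars false
set_option linter.unusedVariables false
set_option linter.unusedSimpArgs false

universe u

open CategoryTheory CategoryTheory.Limits MonoidalCategory CartesianMonoidalCategory MonObj GrpObj AlgebraicGeometry
open AlgSt

namespace Groth.Agent.Lib.Helper4.QuotFpqc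

open Groth.Agent.Lib.helper27.StkElem1 Groth.Agent.Lib.helper4.ShGlue

variable {S : Scheme.{u}} {G : Over S} [GrpObj G] {X : Over S} {aX : AlgGrp.Action G X}

namespace GlueCtx

variable {U : Over S} {I : Type u} {Y : I → Over S} {p : ∀ i, Y i ⟶ U}
  {D : Stk.sieveCat (Sieve.ofArrows Y p) ⥤ᵇ QuotSt Scheme.fpqcPrecoverage G aX} (c : GlueCtx D) (hp : IsCov Y p)

include hp in
theorem loc [Flat G.hom] [IsAffineHom G.hom] :
    NonAbH1.IsLocallyTrivialFor Scheme.fpqcPrecoverage (Over.mk c.ϖQ.left : Over U.left) := by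
  have hg : ∀ i, Presieve.ofArrows (fun _ : PUnit.{1} => (dA D (sI i)).P.left) (fun _ => (πs D (sI i)).left) ∈
      Scheme.fpqcPrecoverage (Y i).left := fun i => by
    rw [Presieve.ofArrows_pUnit]
    exact Scheme.Hom.singleton_mem_fpqcPrecoverage _
  have hcomp := Precoverage.comp_mem_coverings (J := Scheme.fpqcPrecoverage) (fun i => (p i).left) hp
    (σ := fun _ => PUnit.{1}) (Y := fun i _ => (dA D (sI i)).P.left) (fun i _ => (πs D (sI i)).left) hg
  refine ⟨_, hcomp, ?_⟩
  rintro S' f ⟨q⟩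
  exact ⟨(c.lam (sI q.1)).left, congrArg (fun m => m.left) (c.lam_ϖI q.1)⟩

include hp in
theorem exists_φ : ∃ φQ : c.Q ⟶ X, ∀ s : (Sieve.ofArrows Y p).arrows.category, c.lam s ≫ φQ = (dA D s).φ :=
  c.exists_desc hp (fun s => (dA D s).φ) (fun {s s'} k => (dMap D k).wφ)

/-- the equivariant map from the glued torsor -/
noncomputable def φQ : c.Q ⟶ X := (c.exists_φ hp).choose

@[reassoc]
theorem lam_φ (s : (Sieve.ofArrows Y p).arrows.category) : c.lam s ≫ c.φQ hp = (dA D s).φ :=
  (c.exists_φ hp).choose_spec s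

theorem eqvQ : c.act hp ≫ c.φQ hp = (G ◁ c.φQ hp) ≫ aX.act := by
  refine hom_ext_over (isCov_whiskerLeft G (c.hcovQ hp)) _ _ (fun i => ?_)
  change (G ◁ c.lam (sI i)) ≫ c.act hp ≫ c.φQ hp = (G ◁ c.lam (sI i)) ≫ (G ◁ c.φQ hp) ≫ aX.act
  rw [c.lam_act_assoc hp, c.lam_φ hp, (dA D (sI i)).eqv, ← MonoidalCategory.whiskerLeft_comp_assoc, c.lam_φ hp]

variable [Flat G.hom] [IsAffineHom G.hom]

/-- the glued torsor -/
noncomputable def obj : QuotObj Scheme.fpqcPrecoverage G aX where
  base := U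
  P := c.Q
  act := ⟨c.act hp, c.one_act hp, c.mul_act hp⟩
  π := c.ϖQ
  cart := c.cart hp
  loc := c.loc hp
  φ := c.φQ hp
  eqv := c.eqvQ hp

/-- the legs of the cocone -/
noncomputable def leg (s : (Sieve.ofArrows Y p).arrows.category) : dA D s ⟶ c.obj hp :=
  mkHom (A := dA D s) (B := c.obj hp) (eqToHom (dA_base D s) ≫ s.obj.hom) (c.lam s) (c.lam_act hp s).symm (by
    change c.lam s ≫ c.ϖQ = (dA D s).π ≫ eqToHom (dA_base D s) ≫ s.obj.hom
    rw [c.lam_ϖ, πs, Category.assoc]) (c.lam_φ hp s)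

theorem leg_lift (s : (Sieve.ofArrows Y p).arrows.category) :
    (QuotSt Scheme.fpqcPrecoverage G aX).p.IsHomLift s.obj.hom (c.leg hp s) :=
  IsHomLift.of_fac' _ _ _ (dA_base D s) rfl (by
    change eqToHom (dA_base D s) ≫ s.obj.hom = eqToHom (dA_base D s) ≫ s.obj.hom ≫ eqToHom _
    simp)

theorem leg_nat {s t : (Sieve.ofArrows Y p).arrows.category} (k : s ⟶ t) :
    dMap D k ≫ c.leg hp t = c.leg hp s := by
  apply QuotObj.hom_ext
  · change (dMap D k).base ≫ eqToHom (dA_base D t) ≫ t.obj.hom = eqToHom (dA_base D s) ≫ s.obj.hom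
    rw [← Category.assoc, dMap_base, Category.assoc, Over.w k.hom]
  · exact c.hco k

end GlueCtx

theorem effFor [Flat G.hom] [IsAffineHom G.hom] {U : Over S} {I : Type u} {Y : I → Over S} {p : ∀ i, Y i ⟶ U}
    (hp : IsCov Y p) : EffFor (QuotSt Scheme.fpqcPrecoverage G aX) (Sieve.ofArrows Y p) := by
  intro D
  obtain ⟨c⟩ := exists_glueCtx D hp
  exact ⟨c.obj hp, rfl, fun s => c.leg hp s, fun s => c.leg_lift hp s, fun s t k => c.leg_nat hp k⟩

/-- for `G ⟶ S` flat and affine, the category of fpqc scheme torsors with an equivariant map to `X` is an fpqc stack -/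
theorem isStack_quotSt_fpqc [Flat G.hom] [IsAffineHom G.hom] :
    Stk.IsStack (QuotSh.J Scheme.fpqcPrecoverage S) (QuotSt Scheme.fpqcPrecoverage G aX) := by
  have hfib : FibCat.IsFibGrpd (QuotSt Scheme.fpqcPrecoverage G aX).p := isFibGrpd_quotSt
  refine ⟨hfib, fun U R hR => ?_⟩
  obtain ⟨I, Y, p, hp, hpR⟩ := exists_family R hR
  have hle : Sieve.ofArrows Y p ≤ R := by
    intro V f hf
    obtain ⟨i, a, rfl⟩ := (Sieve.mem_ofArrows_iff Y p f).mp hf
    exact R.downward_closed (hpR i) a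
  have hS₀ : Sieve.ofArrows Y p ∈ QuotSh.J Scheme.fpqcPrecoverage S U :=
    mem_J_of_isCov _ hp (fun i => Sieve.ofArrows_mk Y p i)
  have hsep : ∀ ⦃V' : Over S⦄ (f : V' ⟶ U), SepFor (QuotSt Scheme.fpqcPrecoverage G aX) ((Sieve.ofArrows Y p).pullback f) :=
    fun V' f => sepFor _ ((QuotSh.J Scheme.fpqcPrecoverage S).pullback_stable f hS₀)
  have hglue : ∀ ⦃V' : Over S⦄ (f : V' ⟶ U),
      GlueFor (QuotSt Scheme.fpqcPrecoverage G aX) ((Sieve.ofArrows Y p).pullback f) :=
    fun V' f => glueFor _ ((QuotSh.J Scheme.fpqcPrecoverage S).pullback_stable f hS₀)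
  have hS : Stk.IsStackFor (Sieve.ofArrows Y p) (QuotSt Scheme.fpqcPrecoverage G aX) :=
    isStackFor_of_elem hfib _ hsep hglue (effFor hp)
  refine Groth.Agent.Lib.helper27.StkElem2.isStackFor_of_le hle hfib hS (fun V f hf => ?_)
  have hsep' : ∀ ⦃V' : Over S⦄ (f' : V' ⟶ V),
      SepFor (QuotSt Scheme.fpqcPrecoverage G aX) (((Sieve.ofArrows Y p).pullback f).pullback f') :=
    fun V' f' => sepFor _ ((QuotSh.J Scheme.fpqcPrecoverage S).pullback_stable f'
      ((QuotSh.J Scheme.fpqcPrecoverage S).pullback_stable f hS₀))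
  have hglue' : ∀ ⦃V' : Over S⦄ (f' : V' ⟶ V),
      GlueFor (QuotSt Scheme.fpqcPrecoverage G aX) (((Sieve.ofArrows Y p).pullback f).pullback f') :=
    fun V' f' => glueFor _ ((QuotSh.J Scheme.fpqcPrecoverage S).pullback_stable f'
      ((QuotSh.J Scheme.fpqcPrecoverage S).pullback_stable f hS₀))
  exact ⟨full_of_glueFor hfib _ hsep' hglue', faithful_of_sepFor _ hsep'⟩

end Groth.Agent.Lib.Helper4.QuotFpqc
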