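import Mathlib
import Groth.Prelude.Def_QuotSh
import Groth.Agent.Lib.Helper14.RepSh7
import Groth.Agent.Lib.Helper4.QuotFpqc3

/-!
# Sections of the quotient sheaf `U/R` over a scheme (helper4)

* `sec`: the section of a sheaf `F` over `V` attached to `a : rep K V ⟶ F`; `sec_injective`, `sec_repMap_comp`.
* `hom_ext_of_isCov`: maps `rep W ⟶ F` agreeing on an fpqc covering family of `W` are equal.
* `exists_local_lifts`: a section of `F` lifts along an epimorphism `rep U ⟶ F` on an fpqc covering family.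
* `prel_iff`: two points of `U` have the same image in the fpqc quotient sheaf `U/R` of an equivalence relation
  iff they are related by a point of `R`.
-/

set_option autoImplicit false
set_option linter.style.haveILetI false
set_option linter.unusedSectionVars false
set_option linter.unusedVariables false

universe u

open CategoryTheory CategoryTheory.Limits AlgebraicGeometry Opposite

namespace Groth.Agent.Lib.Helper4.QuotSec

open Groth.Agent.Lib.Helper14.RepSh Groth.Agent.Lib.Helper4.QuotFpqc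

section general

variable (K : Precoverage Scheme.{u}) {S : Scheme.{u}}

/-- the natural transformation `h_V ⟶ F` attached to `a : rep K V ⟶ F` -/
noncomputable def pre {V : Over S} {F : QuotSh.Sh K S} (a : QuotSh.rep K V ⟶ F) :
    (yoneda.obj V ⋙ uliftFunctor.{u + 1, u}) ⟶ F.obj :=
  toSheafify (QuotSh.J K S) (yoneda.obj V ⋙ uliftFunctor.{u + 1, u}) ≫ a.hom

/-- the section of `F` over `V` attached to `a : rep K V ⟶ F` -/
noncomputable def sec {V : Over S} {F : QuotSh.Sh K S} (a : QuotSh.rep K V ⟶ F) : F.obj.obj (op V) :=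
  (pre K a).app (op V) (ULift.up (𝟙 V))

theorem yoneda_map_apply {V W : Over S} (g : W ⟶ V) :
    (yoneda.obj V ⋙ uliftFunctor.{u + 1, u}).map g.op
      (ULift.up (𝟙 V) : (yoneda.obj V ⋙ uliftFunctor.{u + 1, u}).obj (op V)) = ULift.up g := by
  apply ULift.ext
  change g ≫ 𝟙 V = g
  exact Category.comp_id _

theorem pre_app {V W : Over S} {F : QuotSh.Sh K S} (a : QuotSh.rep K V ⟶ F) (g : W ⟶ V) :
    (pre K a).app (op W) (ULift.up g) = F.obj.map g.op (sec K a) := by
  have h := NatTrans.naturality_apply (pre K a) g.op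
    (ULift.up (𝟙 V) : (yoneda.obj V ⋙ uliftFunctor.{u + 1, u}).obj (op V))
  rw [yoneda_map_apply] at h
  exact h

theorem pre_injective {V : Over S} {F : QuotSh.Sh K S} {a b : QuotSh.rep K V ⟶ F}
    (h : pre K a = pre K b) : a = b := by
  apply Sheaf.hom_ext
  exact sheafify_hom_ext _ _ _ F.property h

theorem sec_injective {V : Over S} {F : QuotSh.Sh K S} {a b : QuotSh.rep K V ⟶ F}
    (h : sec K a = sec K b) : a = b := by
  apply pre_injective
  apply NatTrans.ext
  funext W
  apply ConcreteCategory.hom_ext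
  intro x
  obtain ⟨g⟩ := x
  induction W using Opposite.rec with
  | _ W =>
    exact (pre_app K a g).trans ((congrArg _ h).trans (pre_app K b g).symm)

theorem pre_repMap_comp {V W : Over S} {F : QuotSh.Sh K S} (g : W ⟶ V) (a : QuotSh.rep K V ⟶ F) :
    pre K (QuotSh.repMap K g ≫ a) =
      Functor.whiskerRight (yoneda.map g) uliftFunctor.{u + 1, u} ≫ pre K a := by
  unfold pre
  rw [← Category.assoc, toSheafify_naturality, Category.assoc]
  rfl

theorem sec_repMap_comp {V W : Over S} {F : QuotSh.Sh K S} (g : W ⟶ V) (a : QuotSh.rep K V ⟶ F) :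
    sec K (QuotSh.repMap K g ≫ a) = F.obj.map g.op (sec K a) := by
  rw [← pre_app, sec, pre_repMap_comp]
  have e : (Functor.whiskerRight (yoneda.map g) uliftFunctor.{u + 1, u}).app (op W)
      (ULift.up (𝟙 W) : (yoneda.obj W ⋙ uliftFunctor.{u + 1, u}).obj (op W)) = ULift.up g := by
    apply ULift.ext
    change 𝟙 W ≫ g = g
    exact Category.id_comp _
  rw [NatTrans.comp_app_apply, e]

end general

section fpqc

variable {S : Scheme.{u}}

/-- maps `rep W ⟶ F` agreeing on an fpqc covering family of `W` are equal -/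
theorem hom_ext_of_isCov {W : Over S} {F : QuotSh.Sh Scheme.fpqcPrecoverage S}
    {I : Type u} {Y : I → Over S} {p : ∀ i, Y i ⟶ W} (hp : IsCov Y p)
    (a b : QuotSh.rep Scheme.fpqcPrecoverage W ⟶ F)
    (h : ∀ i, QuotSh.repMap Scheme.fpqcPrecoverage (p i) ≫ a =
      QuotSh.repMap Scheme.fpqcPrecoverage (p i) ≫ b) : a = b := by
  apply sec_injective
  have hsh : Presieve.IsSheaf (QuotSh.J Scheme.fpqcPrecoverage S) F.obj :=
    (isSheaf_iff_isSheaf_of_type _ _).mp F.property
  have hmem : Sieve.ofArrows Y p ∈ QuotSh.J Scheme.fpqcPrecoverage S W :=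
    mem_J_of_isCov _ hp (fun i => Sieve.ofArrows_mk Y p i)
  refine (hsh.isSeparated _ hmem).ext ?_
  intro V f hf
  obtain ⟨i, g, rfl⟩ := (Sieve.mem_ofArrows_iff Y p f).mp hf
  have e : ∀ c : QuotSh.rep Scheme.fpqcPrecoverage W ⟶ F, F.obj.map (g ≫ p i).op (sec _ c) =
      sec _ (QuotSh.repMap Scheme.fpqcPrecoverage g ≫ QuotSh.repMap Scheme.fpqcPrecoverage (p i) ≫ c) := by
    intro c
    rw [sec_repMap_comp, sec_repMap_comp, op_comp, Functor.map_comp, types_comp_apply]
  rw [e a, e b, h i]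

/-- a section of `F` over `T` lifts along an epimorphism `rep U ⟶ F` on a covering sieve -/
theorem liftSieve_mem (K : Precoverage Scheme.{u}) {U T : Over S} {F : QuotSh.Sh K S}
    (φ : QuotSh.rep K U ⟶ F) [Epi φ] (σ : QuotSh.rep K T ⟶ F) :
    ∃ R : Sieve T, R ∈ QuotSh.J K S T ∧ ∀ ⦃V : Over S⦄ (i : V ⟶ T), R i →
      ∃ x : V ⟶ U, QuotSh.repMap K i ≫ σ = QuotSh.repMap K x ≫ φ := by
  haveI : Sheaf.IsLocallySurjective φ := (Sheaf.isLocallySurjective_iff_epi φ).mpr inferInstance
  haveI : Presheaf.IsLocallySurjective (QuotSh.J K S) φ.hom := ‹Sheaf.IsLocallySurjective φ›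
  haveI : Presheaf.IsLocallySurjective (QuotSh.J K S) (pre K φ) := by
    unfold pre
    infer_instance
  refine ⟨Presheaf.imageSieve (pre K φ) (sec K σ),
    Presheaf.imageSieve_mem (QuotSh.J K S) (pre K φ) (U := op T) (sec K σ), ?_⟩
  rintro V i ⟨x, hx⟩
  obtain ⟨x⟩ := x
  refine ⟨x, sec_injective K ?_⟩
  rw [sec_repMap_comp, sec_repMap_comp, ← pre_app K φ x]
  exact hx.symm

/-- a section of `F` over `T` lifts along an epimorphism `rep U ⟶ F` on an fpqc covering family -/
theorem exists_local_lifts {U T : Over S} {F : QuotSh.Sh Scheme.fpqcPrecoverage S}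
    (φ : QuotSh.rep Scheme.fpqcPrecoverage U ⟶ F) [Epi φ] (σ : QuotSh.rep Scheme.fpqcPrecoverage T ⟶ F) :
    ∃ (I : Type u) (Y : I → Over S) (p : ∀ i, Y i ⟶ T) (x : ∀ i, Y i ⟶ U), IsCov Y p ∧
      ∀ i, QuotSh.repMap Scheme.fpqcPrecoverage (p i) ≫ σ =
        QuotSh.repMap Scheme.fpqcPrecoverage (x i) ≫ φ := by
  obtain ⟨R, hR, h⟩ := liftSieve_mem Scheme.fpqcPrecoverage φ σ
  obtain ⟨I, Y, p, hp, hpR⟩ := exists_family R hR
  choose x hx using fun i => h (p i) (hpR i)
  exact ⟨I, Y, p, x, hp, hx⟩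

instance epi_quotπ (K : Precoverage Scheme.{u}) {R U : Over S} (s t : R ⟶ U) : Epi (QuotSh.quotπ K s t) := by
  unfold QuotSh.quotπ
  exact coequalizer.π_epi

instance subcanonical_fpqc : (QuotSh.J Scheme.fpqcPrecoverage.{u} S).Subcanonical := inferInstance

/-- two points of `U` have the same image in the quotient sheaf iff they are related by a point of `R` -/
theorem prel_iff {R U : Over S} (s t : R ⟶ U) [IsEquivalenceRelation s t] {W : Over S} (a b : W ⟶ U) :
    QuotSh.repMap Scheme.fpqcPrecoverage a ≫ QuotSh.quotπ Scheme.fpqcPrecoverage s t =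
      QuotSh.repMap Scheme.fpqcPrecoverage b ≫ QuotSh.quotπ Scheme.fpqcPrecoverage s t ↔
      ∃ r : W ⟶ R, r ≫ s = a ∧ r ≫ t = b := by
  constructor
  · intro h
    have hk := isKernelPair_quotπ Scheme.fpqcPrecoverage s t
    obtain ⟨ρ, hρ⟩ := exists_repMap_eq Scheme.fpqcPrecoverage (hk.lift _ _ h)
    refine ⟨ρ, repMap_injective Scheme.fpqcPrecoverage ?_, repMap_injective Scheme.fpqcPrecoverage ?_⟩
    · rw [repMap_comp, hρ, hk.lift_fst]
    · rw [repMap_comp, hρ, hk.lift_snd]
  · rintro ⟨r, rfl, rfl⟩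
    rw [repMap_comp, repMap_comp, Category.assoc, Category.assoc, QuotSh.quot_condition]

end fpqc

end Groth.Agent.Lib.Helper4.QuotSec
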