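import Mathlib
import Groth.Agent.Lib.Helper4.ClosedDescent
import Groth.Agent.Lib.Helper4.DescUnivInj

/-!
# Descent of representability of a subfunctor along an fpqc covering family (helper4)

* `exists_rep_of_local`: let `Φ` be a subfunctor of `h_B` which is local for the fpqc topology, and `q α : Bα α ⟶ B` an fpqc
  covering family such that the restriction of `Φ` to each `Bα α` is represented by a `P`-morphism `Z α ⟶ Bα α`
  (`P ⊆` monomorphisms, descent data of `P`-morphisms effective, `P` fpqc-local on the target). Then `Φ` is represented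
  by a `P`-morphism `Z₀ ⟶ B`.
-/

set_option autoImplicit false
set_option linter.style.haveILetI false
set_option linter.unusedSectionVars false
set_option linter.unusedVariables false
set_option backward.isDefEq.respectTransparency false

universe u

open CategoryTheory CategoryTheory.Limits AlgebraicGeometry Opposite MorphismProperty

namespace Groth.Agent.Lib.Helper4.QuotSec

open Desc Groth.Agent.Lib.Helper4.SheafGlue

theorem exists_rep_of_local {B : Scheme.{u}} {ι : Type u} {Bα : ι → Scheme.{u}} (q : ∀ α, Bα α ⟶ B)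
    (P : MorphismProperty Scheme.{u}) [IsZariskiLocalAtTarget P]
    [P.IsStableUnderBaseChange] [P.DescendsAlong (@Surjective ⊓ @Flat ⊓ @QuasiCompact)]
    (hPmono : ∀ {X Y : Scheme.{u}} (f : X ⟶ Y), P f → Mono f)
    (hPeff : ∀ D : SchDDFam q, (∀ α, P (D.obj α).hom) → D.IsEffective)
    (hq : Presieve.ofArrows Bα q ∈ Scheme.fpqcPrecoverage B)
    (Φ : ∀ ⦃W : Scheme.{u}⦄, (W ⟶ B) → Prop)
    (hΦcomp : ∀ ⦃W W' : Scheme.{u}⦄ (g : W' ⟶ W) (y : W ⟶ B), Φ y → Φ (g ≫ y))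
    (hΦloc : ∀ ⦃W : Scheme.{u}⦄ (y : W ⟶ B) (κ : Type u) (Wk : κ → Scheme.{u}) (g : ∀ k, Wk k ⟶ W),
      Presieve.ofArrows Wk g ∈ Scheme.fpqcPrecoverage W → (∀ k, Φ (g k ≫ y)) → Φ y)
    (Z : ∀ α, Over (Bα α)) (hZ : ∀ α, P (Z α).hom)
    (hrep : ∀ α ⦃W : Scheme.{u}⦄ (x : W ⟶ Bα α), Nonempty (Lifts (Z α) x) ↔ Φ (x ≫ q α)) :
    ∃ Z₀ : Over B, P Z₀.hom ∧ ∀ ⦃W : Scheme.{u}⦄ (y : W ⟶ B), Nonempty (Lifts Z₀ y) ↔ Φ y := by
  have hm : ∀ α, Mono (Z α).hom := fun α => hPmono _ (hZ α)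
  have hcompat : ∀ ⦃T : Scheme.{u}⦄ ⦃i j : ι⦄ (x₀ : T ⟶ Bα i) (x₁ : T ⟶ Bα j), x₀ ≫ q i = x₁ ≫ q j →
      (Nonempty (Lifts (Z i) x₀) ↔ Nonempty (Lifts (Z j) x₁)) := by
    intro T i j x₀ x₁ e
    rw [hrep, hrep, e]
  let D : SchDDFam q := ClosedDescent.ddOfMono Z hm hcompat
  obtain ⟨Z₀, ⟨e⟩⟩ := hPeff D hZ
  obtain ⟨ε, hε, hiso⟩ : ∃ ε : ∀ α, pullback (q α) Z₀.hom ⟶ (Z α).left,
      (∀ α, ε α ≫ (Z α).hom = pullback.fst (q α) Z₀.hom) ∧ ∀ α, IsIso (ε α) :=
    ⟨fun α => (e.hom.hom α).left, fun α => Over.w (e.hom.hom α), fun α => DescUnivInj.isIso_hom_left e α⟩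
  clear_value D
  clear e
  have hP : P Z₀.hom := by
    refine FpqcCoverDescent.of_fpqc_presieve P Z₀.hom _ hq ?_
    rintro T _ ⟨α⟩
    have h2 : pullback.snd Z₀.hom (q α) =
        (pullbackSymmetry Z₀.hom (q α)).hom ≫ pullback.fst (q α) Z₀.hom := by simp
    rw [h2, ← hε α]
    haveI := hiso α
    exact (P.cancel_left_of_respectsIso _ _).mpr ((P.cancel_left_of_respectsIso _ _).mpr (hZ α))
  have hm₀ : Mono Z₀.hom := hPmono _ hP
  refine ⟨Z₀, hP, fun W y => ⟨?_, ?_⟩⟩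
  · rintro ⟨⟨z, hz⟩⟩
    refine hΦloc y ι (fun α => pullback (q α) y) (fun α => pullback.snd (q α) y)
      (DescFF.pullback_cover q hq y) (fun α => ?_)
    rw [← pullback.condition]
    apply (hrep α _).mp
    refine ⟨⟨pullback.lift (pullback.fst (q α) y) (pullback.snd (q α) y ≫ z)
      (by rw [Category.assoc, hz, pullback.condition]) ≫ ε α, ?_⟩⟩
    rw [Category.assoc, hε α, pullback.lift_fst]
  · intro hΦy
    have h1 : ∀ α, Nonempty (Lifts (Z α) (pullback.fst (q α) y)) := fun α => by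
      rw [hrep, pullback.condition]
      exact hΦcomp _ _ hΦy
    have v : ∀ α, Lifts (Z α) (pullback.fst (q α) y) := fun α => (h1 α).some
    haveI := hiso
    obtain ⟨w, hw⟩ : ∃ w : ∀ α, pullback (q α) y ⟶ Z₀.left,
        ∀ α, w α ≫ Z₀.hom = pullback.snd (q α) y ≫ y := by
      refine ⟨fun α => (v α).1 ≫ inv (ε α) ≫ pullback.snd (q α) Z₀.hom, fun α => ?_⟩
      have h3 : inv (ε α) ≫ pullback.fst (q α) Z₀.hom = (Z α).hom := by
        rw [← hε α, IsIso.inv_hom_id_assoc]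
      have h4 : (v α).1 ≫ (Z α).hom = pullback.fst (q α) y := (v α).2
      rw [Category.assoc, Category.assoc, ← pullback.condition, reassoc_of% h3, reassoc_of% h4,
        pullback.condition]
    obtain ⟨z, hz⟩ := exists_glue_of_fpqc _ _ (DescFF.pullback_cover q hq y) w (by
      intro i j W' gi gj hg
      rw [← cancel_mono Z₀.hom, Category.assoc, Category.assoc, hw, hw, reassoc_of% hg])
    refine ⟨⟨z, ?_⟩⟩
    refine hom_ext_of_fpqc _ _ (DescFF.pullback_cover q hq y) _ _ (fun α => ?_)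
    rw [← Category.assoc, hz, hw]

end Groth.Agent.Lib.Helper4.QuotSec
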