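import Mathlib
import Groth.Agent.Lib.Helper4.QuotSec1
import Groth.Agent.Lib.Helper4.QuotSec2
import Groth.Agent.Lib.Helper4.TorsorFpqc3
import Groth.Agent.Lib.Helper4.FlatDescends
import Groth.Agent.Lib.Helper4.DescUnivInj

/-!
# Sections of the fpqc quotient sheaf `U/R` as `R`-stable subschemes of `U ×_S T` (helper4)

For an equivalence relation `s, t : R ⇉ U` over `S` with `s` flat, surjective, quasi-compact and a section `σ` of the fpqc
quotient sheaf over `T`: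
* `Phi σ y`: the point `y = (u, τ)` of `U ×_S T` satisfies `[u] = σ(τ)`.
* `Zloc`, `iloc`: the local model `{(u, τ) : u ∼ x(τ)}` when `σ` lifts to `x : T' ⟶ U`.
-/

set_option autoImplicit false
set_option linter.style.haveILetI false
set_option linter.unusedSectionVars false
set_option linter.unusedVariables false

universe u

open CategoryTheory CategoryTheory.Limits MonoidalCategory CartesianMonoidalCategory AlgebraicGeometry Opposite
  MorphismProperty

namespace Groth.Agent.Lib.Helper4.QuotSec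

open Groth.Agent.Lib.Helper14.RepSh Groth.Agent.Lib.Helper4.QuotFpqc

theorem isPullback_of_points {C : Type*} [Category C] {P X Y Z : C} (a : P ⟶ X) (b : P ⟶ Y) (f : X ⟶ Z)
    (g : Y ⟶ Z) (w : a ≫ f = b ≫ g)
    (hex : ∀ (W : C) (x : W ⟶ X) (y : W ⟶ Y), x ≫ f = y ≫ g → ∃ l : W ⟶ P, l ≫ a = x ∧ l ≫ b = y)
    (huniq : ∀ (W : C) (l l' : W ⟶ P), l ≫ a = l' ≫ a → l ≫ b = l' ≫ b → l = l') : IsPullback a b f g :=
  ⟨⟨w⟩, ⟨PullbackCone.IsLimit.mk w (fun c => (hex c.pt c.fst c.snd c.condition).choose)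
    (fun c => (hex c.pt c.fst c.snd c.condition).choose_spec.1)
    (fun c => (hex c.pt c.fst c.snd c.condition).choose_spec.2)
    (fun c m h1 h2 => huniq _ _ _ (h1.trans (hex c.pt c.fst c.snd c.condition).choose_spec.1.symm)
      (h2.trans (hex c.pt c.fst c.snd c.condition).choose_spec.2.symm))⟩⟩

variable {S : Scheme.{u}} {R U : Over S} (s t : R ⟶ U)

local notation "K" => Scheme.fpqcPrecoverage

section Phi

variable {s t} {T : Over S} (σ : QuotSh.rep K T ⟶ QuotSh.quot K s t)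

/-- the point `y = (u, τ)` of `U ×_S T` satisfies `[u] = σ(τ)` -/
def Phi {W : Over S} (y : W ⟶ U ⊗ T) : Prop :=
  QuotSh.repMap K (y ≫ fst U T) ≫ QuotSh.quotπ K s t = QuotSh.repMap K (y ≫ snd U T) ≫ σ

theorem Phi.comp {W W' : Over S} (g : W' ⟶ W) {y : W ⟶ U ⊗ T} (h : Phi σ y) : Phi σ (g ≫ y) := by
  unfold Phi at h ⊢
  rw [Category.assoc, Category.assoc, repMap_comp, repMap_comp K g, Category.assoc, Category.assoc, h]

theorem Phi.of_isCov {W : Over S} {y : W ⟶ U ⊗ T} {I : Type u} {Y : I → Over S} {p : ∀ i, Y i ⟶ W}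
    (hp : IsCov Y p) (h : ∀ i, Phi σ (p i ≫ y)) : Phi σ y := by
  unfold Phi
  refine hom_ext_of_isCov hp _ _ (fun i => ?_)
  have := h i
  unfold Phi at this
  rw [Category.assoc, Category.assoc, repMap_comp, repMap_comp K (p i), Category.assoc, Category.assoc] at this
  exact this

end Phi

section Local

variable {T T' : Over S} (x : T' ⟶ U)

/-- the local model `{(u, τ) : u ∼ x(τ)}` -/
noncomputable def Zloc : Over S := Limits.pullback (lift t s) (U ◁ x)

noncomputable def iloc : Zloc s t x ⟶ U ⊗ T' := pullback.snd _ _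

noncomputable def rloc : Zloc s t x ⟶ R := pullback.fst _ _

theorem loc_sq : IsPullback (rloc s t x) (iloc s t x) (lift t s) (U ◁ x) := IsPullback.of_hasPullback _ _

theorem rloc_t : rloc s t x ≫ t = iloc s t x ≫ fst U T' := by
  have := congrArg (fun m => m ≫ fst U U) (loc_sq s t x).w
  simpa using this

theorem rloc_s : rloc s t x ≫ s = iloc s t x ≫ snd U T' ≫ x := by
  have := congrArg (fun m => m ≫ snd U U) (loc_sq s t x).w
  simpa using this

theorem exists_loc_iff {W : Over S} (y : W ⟶ U ⊗ T') :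
    (∃ l : W ⟶ Zloc s t x, l ≫ iloc s t x = y) ↔
      ∃ r : W ⟶ R, r ≫ s = y ≫ snd U T' ≫ x ∧ r ≫ t = y ≫ fst U T' := by
  constructor
  · rintro ⟨l, rfl⟩
    exact ⟨l ≫ rloc s t x, by rw [Category.assoc, rloc_s, Category.assoc],
      by rw [Category.assoc, rloc_t, Category.assoc]⟩
  · rintro ⟨r, h1, h2⟩
    refine ⟨(loc_sq s t x).lift r y ?_, (loc_sq s t x).lift_snd _ _ _⟩
    apply CartesianMonoidalCategory.hom_ext
    · simp [h2]
    · simp [h1]

theorem loc_sq' : IsPullback (rloc s t x) (iloc s t x ≫ snd U T') s x := by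
  refine isPullback_of_points _ _ _ _ (by rw [rloc_s, Category.assoc]) ?_ ?_
  · intro W r τ h
    refine ⟨(loc_sq s t x).lift r (lift (r ≫ t) τ) ?_, (loc_sq s t x).lift_fst _ _ _, ?_⟩
    · apply CartesianMonoidalCategory.hom_ext <;> simp [h]
    · rw [← Category.assoc, (loc_sq s t x).lift_snd]
      simp
  · intro W l l' h1 h2
    apply (loc_sq s t x).hom_ext h1
    apply CartesianMonoidalCategory.hom_ext
    · rw [Category.assoc, Category.assoc, ← rloc_t, ← Category.assoc, h1, Category.assoc]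
    · simpa using h2

theorem prop_iloc (P : MorphismProperty Scheme.{u}) [P.IsStableUnderBaseChange] (hc : P (lift t s).left) :
    P (iloc s t x).left :=
  P.of_isPullback ((loc_sq s t x).map (Over.forget S)) hc

theorem prop_iloc_snd (Q : MorphismProperty Scheme.{u}) [Q.IsStableUnderBaseChange] (hs : Q s.left) :
    Q (iloc s t x ≫ snd U T').left :=
  Q.of_isPullback ((loc_sq' s t x).map (Over.forget S)) hs

variable [IsEquivalenceRelation s t]

theorem exists_loc_iff_Phi (σ : QuotSh.rep K T ⟶ QuotSh.quot K s t) (p : T' ⟶ T)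
    (hx : QuotSh.repMap K p ≫ σ = QuotSh.repMap K x ≫ QuotSh.quotπ K s t) {W : Over S} (y : W ⟶ U ⊗ T') :
    (∃ l : W ⟶ Zloc s t x, l ≫ iloc s t x = y) ↔ Phi σ (y ≫ U ◁ p) := by
  rw [exists_loc_iff, ← prel_iff]
  unfold Phi
  have e1 : (y ≫ U ◁ p) ≫ fst U T = y ≫ fst U T' := by simp
  have e2 : (y ≫ U ◁ p) ≫ snd U T = (y ≫ snd U T') ≫ p := by simp
  have e3 : QuotSh.repMap K ((y ≫ U ◁ p) ≫ snd U T) ≫ σ =
      QuotSh.repMap K (y ≫ snd U T' ≫ x) ≫ QuotSh.quotπ K s t := by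
    rw [e2, repMap_comp, Category.assoc, hx, ← Category.assoc, ← repMap_comp, Category.assoc]
  rw [e1, e3]
  exact eq_comm

instance mono_iloc : Mono (iloc s t x) := by
  obtain ⟨e⟩ := IsEquivalenceRelation.nonempty_equivalenceRelation (p₁ := s) (p₂ := t)
  constructor
  intro W l l' h
  apply (loc_sq s t x).hom_ext _ h
  apply e.toReflexiveRelation.toJointlyMono₂.right_cancellation
  · rw [Category.assoc, Category.assoc, rloc_s, reassoc_of% h]
  · rw [Category.assoc, Category.assoc, rloc_t, reassoc_of% h]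

end Local

section Rep

variable {s t} [IsEquivalenceRelation s t] {T : Over S} (σ : QuotSh.rep K T ⟶ QuotSh.quot K s t)
  {Z : Over S} (i : Z ⟶ U ⊗ T)

/-- `(Z, i)` represents the subfunctor `Phi σ` of `U ⊗ T` -/
def IsRep : Prop := ∀ ⦃W : Over S⦄ (y : W ⟶ U ⊗ T), (∃ z : W ⟶ Z, z ≫ i = y) ↔ Phi σ y

variable {σ i}

theorem IsRep.phi (h : IsRep σ i) : Phi σ i := (h i).mp ⟨𝟙 _, Category.id_comp _⟩

theorem IsRep.stable (h : IsRep σ i) (T' : Over S) (r : T' ⟶ R ⊗ T) :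
    (∃ z : T' ⟶ Z, z ≫ i = r ≫ (s ▷ T)) ↔ (∃ z : T' ⟶ Z, z ≫ i = r ≫ (t ▷ T)) := by
  rw [h, h]
  unfold Phi
  have e1 : (r ≫ s ▷ T) ≫ fst U T = (r ≫ fst R T) ≫ s := by simp
  have e2 : (r ≫ t ▷ T) ≫ fst U T = (r ≫ fst R T) ≫ t := by simp
  have e3 : (r ≫ s ▷ T) ≫ snd U T = r ≫ snd R T := by simp
  have e4 : (r ≫ t ▷ T) ≫ snd U T = r ≫ snd R T := by simp
  rw [e1, e2, e3, e4, repMap_comp, repMap_comp K _ t, Category.assoc, Category.assoc,
    QuotSh.quot_condition]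

theorem IsRep.related (h : IsRep σ i) (T' : Over S) (z₁ z₂ : T' ⟶ Z)
    (hz : z₁ ≫ i ≫ snd U T = z₂ ≫ i ≫ snd U T) :
    ∃ r : T' ⟶ R, r ≫ s = z₁ ≫ i ≫ fst U T ∧ r ≫ t = z₂ ≫ i ≫ fst U T := by
  rw [← prel_iff]
  have h1 := (h.phi).comp σ z₁
  have h2 := (h.phi).comp σ z₂
  unfold Phi at h1 h2
  rw [Category.assoc, Category.assoc] at h1 h2
  rw [h1, h2, hz]

theorem exists_iso_of_isRep {Z' : Over S} {i' : Z' ⟶ U ⊗ T} [Mono i] [Mono i'] (h : IsRep σ i)
    (h' : IsRep σ i') : ∃ e : Z ≅ Z', e.hom ≫ i' = i := by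
  obtain ⟨a, ha⟩ := (h' i).mpr h.phi
  obtain ⟨b, hb⟩ := (h i').mpr h'.phi
  refine ⟨⟨a, b, ?_, ?_⟩, ha⟩
  · rw [← cancel_mono i, Category.assoc, hb, ha, Category.id_comp]
  · rw [← cancel_mono i', Category.assoc, ha, hb, Category.id_comp]

theorem isRep_of_props [Mono i]
    (hstab : ∀ (T' : Over S) (r : T' ⟶ R ⊗ T),
      (∃ z : T' ⟶ Z, z ≫ i = r ≫ (s ▷ T)) ↔ (∃ z : T' ⟶ Z, z ≫ i = r ≫ (t ▷ T)))
    [Flat (i ≫ snd U T).left] [Surjective (i ≫ snd U T).left] [QuasiCompact (i ≫ snd U T).left]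
    (hfin : Phi σ i) : IsRep σ i := by
  intro W y
  constructor
  · rintro ⟨z, rfl⟩
    exact hfin.comp σ z
  · intro hy
    have sq : IsPullback (pullback.fst (i ≫ snd U T) (y ≫ snd U T)) (pullback.snd (i ≫ snd U T) (y ≫ snd U T))
        (i ≫ snd U T) (y ≫ snd U T) := IsPullback.of_hasPullback _ _
    set W' := Limits.pullback (i ≫ snd U T) (y ≫ snd U T) with hW'
    set z' : W' ⟶ Z := pullback.fst (i ≫ snd U T) (y ≫ snd U T) with hz'
    set g : W' ⟶ W := pullback.snd (i ≫ snd U T) (y ≫ snd U T) with hg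
    have sqL := sq.map (Over.forget S)
    haveI : Flat g.left := MorphismProperty.of_isPullback (P := @Flat) sqL
      (inferInstanceAs (Flat (i ≫ snd U T).left))
    haveI : Surjective g.left := MorphismProperty.of_isPullback (P := @Surjective) sqL
      (inferInstanceAs (Surjective (i ≫ snd U T).left))
    haveI : QuasiCompact g.left := MorphismProperty.of_isPullback (P := @QuasiCompact) sqL
      (inferInstanceAs (QuasiCompact (i ≫ snd U T).left))
    have hcov : IsCov (fun _ : PUnit.{u + 1} => W') (fun _ => g) := DescUnivInj.singleton_mem g.left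
    have hw : z' ≫ i ≫ snd U T = g ≫ y ≫ snd U T := sq.w
    have h1 := hfin.comp σ z'
    have h2 := hy.comp σ g
    unfold Phi at h1 h2
    rw [Category.assoc, Category.assoc] at h1 h2
    rw [hw, ← h2] at h1
    obtain ⟨r, hr1, hr2⟩ := (prel_iff s t _ _).mp h1
    have e1 : lift r (g ≫ y ≫ snd U T) ≫ (s ▷ T) = z' ≫ i := by
      apply CartesianMonoidalCategory.hom_ext
      · simp [hr1]
      · simp [hw]
    have e2 : lift r (g ≫ y ≫ snd U T) ≫ (t ▷ T) = g ≫ y := by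
      apply CartesianMonoidalCategory.hom_ext
      · simp [hr2]
      · simp
    obtain ⟨z'', hz''⟩ := (hstab W' (lift r (g ≫ y ≫ snd U T))).mp ⟨z', e1.symm⟩
    rw [e2] at hz''
    obtain ⟨z, hz⟩ := glue_over hcov (fun _ => z'') (by
      intro _ _ W'' gi gj hgg
      rw [← cancel_mono i, Category.assoc, Category.assoc, hz'', reassoc_of% hgg])
    refine ⟨z, hom_ext_over hcov _ _ (fun _ => ?_)⟩
    rw [← Category.assoc, hz PUnit.unit, hz'']

end Rep

section Exist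

variable {s t} [IsEquivalenceRelation s t] {T : Over S} (σ : QuotSh.rep K T ⟶ QuotSh.quot K s t)

/-- scheme-level version of `Phi` -/
def Phi₀ ⦃W : Scheme.{u}⦄ (y : W ⟶ (U ⊗ T).left) : Prop :=
  Phi σ (Over.homMk y rfl : Over.mk (y ≫ (U ⊗ T).hom) ⟶ U ⊗ T)

theorem phi₀_iff {W : Over S} (y : W ⟶ U ⊗ T) : Phi₀ σ y.left ↔ Phi σ y := by
  let g : Over.mk (y.left ≫ (U ⊗ T).hom) ⟶ W := Over.homMk (𝟙 _) (by
    rw [Category.id_comp]
    exact (CategoryTheory.Over.w y).symm)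
  let g' : W ⟶ Over.mk (y.left ≫ (U ⊗ T).hom) := Over.homMk (𝟙 _) (by
    rw [Category.id_comp]
    exact CategoryTheory.Over.w y)
  have e1 : (Over.homMk y.left rfl : Over.mk (y.left ≫ (U ⊗ T).hom) ⟶ U ⊗ T) = g ≫ y := by
    apply Over.OverMorphism.ext
    simp [g]
  have e2 : y = g' ≫ Over.homMk y.left rfl := by
    apply Over.OverMorphism.ext
    simp [g']
  constructor
  · intro h
    rw [e2]
    exact Phi.comp σ g' h
  · intro h
    unfold Phi₀
    rw [e1]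
    exact h.comp σ g

theorem IsRep.prop_snd {Z : Over S} {i : Z ⟶ U ⊗ T} [Mono i] (h : IsRep σ i) (Q : MorphismProperty Scheme.{u})
    [IsZariskiLocalAtTarget Q] [Q.IsStableUnderBaseChange]
    [Q.DescendsAlong (@Surjective ⊓ @Flat ⊓ @QuasiCompact)] (hs : Q s.left) : Q (i ≫ snd U T).left := by
  obtain ⟨I, Yc, pc, xc, hp, hx⟩ := exists_local_lifts (QuotSh.quotπ K s t) σ
  refine FpqcCoverDescent.of_fpqc_presieve Q _ _ hp ?_
  rintro T₀ _ ⟨α⟩
  obtain ⟨ζ, hζ⟩ := (h (iloc s t (xc α) ≫ U ◁ pc α)).mpr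
    ((exists_loc_iff_Phi s t (xc α) σ (pc α) (hx α) (iloc s t (xc α))).mp ⟨𝟙 _, Category.id_comp _⟩)
  have sq : IsPullback ζ (iloc s t (xc α) ≫ snd U (Yc α)) (i ≫ snd U T) (pc α) := by
    refine isPullback_of_points _ _ _ _ ?_ ?_ ?_
    · rw [← Category.assoc, hζ]
      simp
    · intro W z τ hzτ
      have hy : lift (z ≫ i ≫ fst U T) τ ≫ U ◁ pc α = z ≫ i := by
        apply CartesianMonoidalCategory.hom_ext
        · simp
        · simp [hzτ]
      have hΦ : Phi σ (lift (z ≫ i ≫ fst U T) τ ≫ U ◁ pc α) := by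
        rw [hy]
        exact h.phi.comp σ z
      obtain ⟨l, hl⟩ := (exists_loc_iff_Phi s t (xc α) σ (pc α) (hx α) _).mpr hΦ
      refine ⟨l, ?_, ?_⟩
      · rw [← cancel_mono i, Category.assoc, hζ, ← Category.assoc, hl, hy]
      · rw [← Category.assoc, hl]
        simp
    · intro W l l' h1 h2
      rw [← cancel_mono (iloc s t (xc α))]
      apply CartesianMonoidalCategory.hom_ext
      · have e : iloc s t (xc α) ≫ fst U (Yc α) = ζ ≫ i ≫ fst U T := by
          rw [← Category.assoc ζ, hζ]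
          simp
        rw [Category.assoc, Category.assoc, e, reassoc_of% h1]
      · simpa using h2
  have sqL := sq.map (Over.forget S)
  have hQ : Q (iloc s t (xc α) ≫ snd U (Yc α)).left := prop_iloc_snd s t (xc α) Q hs
  exact FpqcCoverDescent.of_isPullback_iso Q sqL (IsPullback.of_hasPullback _ _) hQ

theorem exists_isRep (P : MorphismProperty Scheme.{u}) [IsZariskiLocalAtTarget P] [P.IsStableUnderBaseChange]
    [P.DescendsAlong (@Surjective ⊓ @Flat ⊓ @QuasiCompact)]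
    (hPmono : ∀ {X Y : Scheme.{u}} (f : X ⟶ Y), P f → Mono f)
    (hPeff : ∀ {B : Scheme.{u}} {ι : Type u} {X : ι → Scheme.{u}} (f : ∀ i, X i ⟶ B),
      Presieve.ofArrows X f ∈ Scheme.fpqcPrecoverage B → ∀ D : Desc.SchDDFam f,
        (∀ i, P (D.obj i).hom) → D.IsEffective)
    (hc : P (lift t s).left) :
    ∃ (Z : Over S) (i : Z ⟶ U ⊗ T), P i.left ∧ IsRep σ i := by
  obtain ⟨I, Yc, pc, xc, hp, hx⟩ := exists_local_lifts (QuotSh.quotπ K s t) σ
  have hq : IsCov (fun α => U ⊗ Yc α) (fun α => U ◁ pc α) := isCov_whiskerLeft U hp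
  obtain ⟨Z₀, hZ₀, hrep⟩ := exists_rep_of_local (fun α => (U ◁ pc α).left) P hPmono (hPeff _ hq) hq (Phi₀ σ)
    (by
      intro W W' g y h
      have e : (Over.homMk (g ≫ y) rfl : Over.mk ((g ≫ y) ≫ (U ⊗ T).hom) ⟶ U ⊗ T) =
          (Over.homMk g (by simp) : Over.mk ((g ≫ y) ≫ (U ⊗ T).hom) ⟶ Over.mk (y ≫ (U ⊗ T).hom)) ≫
            Over.homMk y rfl := by
        apply Over.OverMorphism.ext
        rfl
      unfold Phi₀
      rw [e]
      exact Phi.comp σ _ h)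
    (by
      intro W y κ Wk g hg h
      have hcov : IsCov (fun k => Over.mk ((g k ≫ y) ≫ (U ⊗ T).hom))
          (fun k => (Over.homMk (g k) (by simp) :
            Over.mk ((g k ≫ y) ≫ (U ⊗ T).hom) ⟶ Over.mk (y ≫ (U ⊗ T).hom))) := hg
      refine Phi.of_isCov σ hcov (fun k => ?_)
      have e : (Over.homMk (g k) (by simp) :
            Over.mk ((g k ≫ y) ≫ (U ⊗ T).hom) ⟶ Over.mk (y ≫ (U ⊗ T).hom)) ≫ Over.homMk y rfl =
          (Over.homMk (g k ≫ y) rfl : Over.mk ((g k ≫ y) ≫ (U ⊗ T).hom) ⟶ U ⊗ T) := by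
        apply Over.OverMorphism.ext
        rfl
      rw [e]
      exact h k)
    (fun α => Over.mk (iloc s t (xc α)).left) (fun α => prop_iloc s t (xc α) P hc)
    (by
      intro α W x₀
      let x' : Over.mk (x₀ ≫ (U ⊗ Yc α).hom) ⟶ U ⊗ Yc α := Over.homMk x₀ rfl
      refine Iff.trans ?_ ((exists_loc_iff_Phi s t (xc α) σ (pc α) (hx α) x').trans
        (phi₀_iff σ (x' ≫ U ◁ pc α)).symm)
      constructor
      · rintro ⟨⟨v, hv⟩⟩
        have hv' : v ≫ (iloc s t (xc α)).left = x₀ := hv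
        refine ⟨Over.homMk v ?_, ?_⟩
        · change v ≫ (Zloc s t (xc α)).hom = x₀ ≫ (U ⊗ Yc α).hom
          rw [← hv', Category.assoc, CategoryTheory.Over.w]
        · apply Over.OverMorphism.ext
          exact hv'
      · rintro ⟨l, hl⟩
        exact ⟨⟨l.left, congrArg (fun m => m.left) hl⟩⟩)
  refine ⟨Over.mk (Z₀.hom ≫ (U ⊗ T).hom), Over.homMk Z₀.hom rfl, hZ₀, ?_⟩
  intro W y
  rw [← phi₀_iff, ← hrep]
  constructor
  · rintro ⟨z, rfl⟩
    exact ⟨⟨z.left, rfl⟩⟩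
  · rintro ⟨⟨v, hv⟩⟩
    refine ⟨Over.homMk v ?_, ?_⟩
    · change v ≫ Z₀.hom ≫ (U ⊗ T).hom = W.hom
      rw [reassoc_of% hv, CategoryTheory.Over.w]
    · apply Over.OverMorphism.ext
      exact hv

end Exist

section Main

variable [IsEquivalenceRelation s t]

theorem main (P : MorphismProperty Scheme.{u}) [IsZariskiLocalAtTarget P] [P.IsStableUnderBaseChange]
    [P.DescendsAlong (@Surjective ⊓ @Flat ⊓ @QuasiCompact)]
    (hPmono : ∀ {X Y : Scheme.{u}} (f : X ⟶ Y), P f → Mono f)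
    (hPeff : ∀ {B : Scheme.{u}} {ι : Type u} {X : ι → Scheme.{u}} (f : ∀ i, X i ⟶ B),
      Presieve.ofArrows X f ∈ Scheme.fpqcPrecoverage B → ∀ D : Desc.SchDDFam f,
        (∀ i, P (D.obj i).hom) → D.IsEffective)
    [Flat s.left] [Surjective s.left] [QuasiCompact s.left]
    (hc : P (lift t s).left)
    (T : Over S) (σ : QuotSh.rep K T ⟶ QuotSh.quot K s t) :
    (∃ (Z : Over S) (i : Z ⟶ U ⊗ T), P i.left ∧
      (∀ (T' : Over S) (r : T' ⟶ R ⊗ T),
        (∃ z : T' ⟶ Z, z ≫ i = r ≫ (s ▷ T)) ↔ (∃ z : T' ⟶ Z, z ≫ i = r ≫ (t ▷ T))) ∧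
      Flat (i ≫ snd U T).left ∧ Surjective (i ≫ snd U T).left ∧
      QuasiCompact (i ≫ snd U T).left ∧
      (∀ (T' : Over S) (z₁ z₂ : T' ⟶ Z), z₁ ≫ i ≫ snd U T = z₂ ≫ i ≫ snd U T →
        ∃ r : T' ⟶ R, r ≫ s = z₁ ≫ i ≫ fst U T ∧ r ≫ t = z₂ ≫ i ≫ fst U T) ∧
      QuotSh.repMap K (i ≫ fst U T) ≫ QuotSh.quotπ K s t =
        QuotSh.repMap K (i ≫ snd U T) ≫ σ) ∧
    (∀ (Z Z' : Over S) (i : Z ⟶ U ⊗ T) (i' : Z' ⟶ U ⊗ T),
      P i.left → P i'.left →
      (∀ (T' : Over S) (r : T' ⟶ R ⊗ T),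
        (∃ z : T' ⟶ Z, z ≫ i = r ≫ (s ▷ T)) ↔ (∃ z : T' ⟶ Z, z ≫ i = r ≫ (t ▷ T))) →
      (∀ (T' : Over S) (r : T' ⟶ R ⊗ T),
        (∃ z : T' ⟶ Z', z ≫ i' = r ≫ (s ▷ T)) ↔ (∃ z : T' ⟶ Z', z ≫ i' = r ≫ (t ▷ T))) →
      Flat (i ≫ snd U T).left → Surjective (i ≫ snd U T).left →
      QuasiCompact (i ≫ snd U T).left →
      Flat (i' ≫ snd U T).left → Surjective (i' ≫ snd U T).left →
      QuasiCompact (i' ≫ snd U T).left →
      (∀ (T' : Over S) (z₁ z₂ : T' ⟶ Z), z₁ ≫ i ≫ snd U T = z₂ ≫ i ≫ snd U T →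
        ∃ r : T' ⟶ R, r ≫ s = z₁ ≫ i ≫ fst U T ∧ r ≫ t = z₂ ≫ i ≫ fst U T) →
      (∀ (T' : Over S) (z₁ z₂ : T' ⟶ Z'), z₁ ≫ i' ≫ snd U T = z₂ ≫ i' ≫ snd U T →
        ∃ r : T' ⟶ R, r ≫ s = z₁ ≫ i' ≫ fst U T ∧ r ≫ t = z₂ ≫ i' ≫ fst U T) →
      QuotSh.repMap K (i ≫ fst U T) ≫ QuotSh.quotπ K s t =
        QuotSh.repMap K (i ≫ snd U T) ≫ σ →
      QuotSh.repMap K (i' ≫ fst U T) ≫ QuotSh.quotπ K s t =
        QuotSh.repMap K (i' ≫ snd U T) ≫ σ →
      ∃ e : Z ≅ Z', e.hom ≫ i' = i) := by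
  constructor
  · obtain ⟨Z, i, hPi, hrep⟩ := exists_isRep σ P hPmono hPeff hc
    haveI : Mono i.left := hPmono _ hPi
    haveI : Mono i := CategoryTheory.Over.mono_of_mono_left i
    exact ⟨Z, i, hPi, hrep.stable, hrep.prop_snd σ @Flat inferInstance,
      hrep.prop_snd σ @Surjective inferInstance, hrep.prop_snd σ @QuasiCompact inferInstance,
      hrep.related, hrep.phi⟩
  · intro Z Z' i i' hPi hPi' hst hst' hf hs hq hf' hs' hq' _ _ hfin hfin'
    haveI : Mono i.left := hPmono _ hPi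
    haveI : Mono i := CategoryTheory.Over.mono_of_mono_left i
    haveI : Mono i'.left := hPmono _ hPi'
    haveI : Mono i' := CategoryTheory.Over.mono_of_mono_left i'
    exact exists_iso_of_isRep (isRep_of_props hst hfin) (isRep_of_props hst' hfin')

end Main

end Groth.Agent.Lib.Helper4.QuotSec
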