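import Mathlib
import Groth.Agent.Lib.Helper4.QuotSec3
import Groth.Prelude.Def_BigSite

/-!
# The fppf quotient sheaf of an equivalence relation with closed/open graph is an fpqc sheaf (helper4)

* `ofSec`, `sec_ofSec`, `sec_comp`: `sec` is a bijection `(rep K V ⟶ F) ≃ F(V)`, natural in `F`.
* `cmp`: the comparison from the fppf quotient sheaf to the fpqc quotient sheaf; `cmp_bijective`.
* `isSheaf_fpqc_quot_fppf`.
-/

set_option autoImplicit false
set_option linter.style.haveILetI false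
set_option linter.unusedSectionVars false
set_option linter.unusedVariables false

universe u

open CategoryTheory CategoryTheory.Limits MonoidalCategory CartesianMonoidalCategory AlgebraicGeometry Opposite
  MorphismProperty

namespace Groth.Agent.Lib.Helper4.QuotSec

open Groth.Agent.Lib.Helper14.RepSh Groth.Agent.Lib.Helper4.QuotFpqc

section general

variable (K : Precoverage Scheme.{u}) {S : Scheme.{u}}

/-- the natural transformation `h_V ⟶ F` attached to a section of `F` over `V` -/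
def yonedaOfSec {V : Over S} (F : (Over S)ᵒᵖ ⥤ Type (u + 1)) (a : F.obj (op V)) :
    (yoneda.obj V ⋙ uliftFunctor.{u + 1, u}) ⟶ F where
  app W := ↾(fun g => F.map g.down.op a)
  naturality W W' f := by
    apply ConcreteCategory.hom_ext
    intro g
    obtain ⟨g⟩ := g
    change F.map (f.unop ≫ g).op a = F.map f (F.map g.op a)
    rw [op_comp, Functor.map_comp]
    rfl

/-- the morphism `rep K V ⟶ F` attached to a section of `F` over `V` -/
noncomputable def ofSec {V : Over S} {F : QuotSh.Sh K S} (a : F.obj.obj (op V)) : QuotSh.rep K V ⟶ F :=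
  ObjectProperty.homMk (sheafifyLift (QuotSh.J K S) (yonedaOfSec F.obj a) F.property)

theorem sec_ofSec {V : Over S} {F : QuotSh.Sh K S} (a : F.obj.obj (op V)) : sec K (ofSec K a) = a := by
  have e : pre K (ofSec K a) = yonedaOfSec F.obj a := toSheafify_sheafifyLift _ _ _
  unfold sec
  rw [e]
  change F.obj.map (𝟙 V).op a = a
  rw [op_id, Functor.map_id_apply]

theorem sec_comp {V : Over S} {F G : QuotSh.Sh K S} (a : QuotSh.rep K V ⟶ F) (c : F ⟶ G) :
    sec K (a ≫ c) = c.hom.app (op V) (sec K a) := by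
  have e : pre K (a ≫ c) = pre K a ≫ c.hom := by
    unfold pre
    rw [Category.assoc]
    rfl
  unfold sec
  rw [e]
  rfl

/-- a sieve containing a `K`-covering family is covering -/
theorem mem_J_of_mem {V : Over S} (T : Sieve V) {I : Type*} {Y : I → Over S} {p : ∀ i, Y i ⟶ V}
    (hp : Presieve.ofArrows (fun i => (Y i).left) (fun i => (p i).left) ∈ K V.left)
    (h : ∀ i, T (p i)) : T ∈ QuotSh.J K S V := by
  rw [GrothendieckTopology.mem_over_iff]
  refine (K.toGrothendieck).superset_covering ?_ (Precoverage.generate_mem_toGrothendieck hp)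
  intro T₀ f hf
  obtain ⟨i, a, rfl⟩ := (Sieve.mem_ofArrows_iff (fun i => (Y i).left) (fun i => (p i).left) f).mp hf
  rw [Sieve.overEquiv_iff]
  have e : (Over.homMk (a ≫ (p i).left) : Over.mk ((a ≫ (p i).left) ≫ V.hom) ⟶ V) =
      (Over.homMk a (by simp) : Over.mk ((a ≫ (p i).left) ≫ V.hom) ⟶ Y i) ≫ p i := by
    apply Over.OverMorphism.ext; rfl
  rw [e]
  exact T.downward_closed (h i) _

/-- a section of `F` lifts along an epimorphism `rep U ⟶ F` on a covering sieve (elementwise form) -/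
theorem liftSieve_mem' {U T : Over S} {F : QuotSh.Sh K S} (φ : QuotSh.rep K U ⟶ F) [Epi φ]
    (a : F.obj.obj (op T)) :
    ∃ R : Sieve T, R ∈ QuotSh.J K S T ∧ ∀ ⦃V : Over S⦄ (i : V ⟶ T), R i →
      ∃ x : V ⟶ U, F.obj.map i.op a = sec K (QuotSh.repMap K x ≫ φ) := by
  obtain ⟨R, hR, h⟩ := liftSieve_mem K φ (ofSec K a)
  refine ⟨R, hR, fun V i hi => ?_⟩
  obtain ⟨x, hx⟩ := h i hi
  refine ⟨x, ?_⟩
  rw [← hx, sec_repMap_comp, sec_ofSec]

end general

section Cmp

variable {S : Scheme.{u}} {R U : Over S} (s t : R ⟶ U)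

local notation "Kp" => Scheme.fppfPrecoverage
local notation "Kq" => Scheme.fpqcPrecoverage

theorem J_le : QuotSh.J Kp S ≤ QuotSh.J Kq S :=
  BigSite.J_mono Scheme.fppfPrecoverage_le_fpqcPrecoverage S

/-- the fpqc quotient sheaf viewed as an fppf sheaf -/
noncomputable def Qq' : QuotSh.Sh Kp S :=
  ⟨(QuotSh.quot Kq s t).obj, (isSheaf_iff_isSheaf_of_type _ _).mpr
    (Presieve.isSheaf_of_le _ J_le ((isSheaf_iff_isSheaf_of_type _ _).mp (QuotSh.quot Kq s t).property))⟩

noncomputable def π' : QuotSh.rep Kp U ⟶ Qq' s t := ofSec Kp (sec Kq (QuotSh.quotπ Kq s t))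

theorem π'_condition : QuotSh.repMap Kp s ≫ π' s t = QuotSh.repMap Kp t ≫ π' s t := by
  apply sec_injective
  rw [sec_repMap_comp, sec_repMap_comp]
  unfold π'
  rw [sec_ofSec]
  change (QuotSh.quot Kq s t).obj.map s.op _ = (QuotSh.quot Kq s t).obj.map t.op _
  rw [← sec_repMap_comp, ← sec_repMap_comp, QuotSh.quot_condition]

/-- the comparison from the fppf quotient sheaf to the fpqc quotient sheaf -/
noncomputable def cmp : QuotSh.quot Kp s t ⟶ Qq' s t := coequalizer.desc (π' s t) (π'_condition s t)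

theorem quotπ_cmp : QuotSh.quotπ Kp s t ≫ cmp s t = π' s t := coequalizer.π_desc _ _

theorem cmp_cl {V : Over S} (x : V ⟶ U) :
    (cmp s t).hom.app (op V) (sec Kp (QuotSh.repMap Kp x ≫ QuotSh.quotπ Kp s t)) =
      sec Kq (QuotSh.repMap Kq x ≫ QuotSh.quotπ Kq s t) := by
  rw [← sec_comp, Category.assoc, quotπ_cmp, sec_repMap_comp]
  unfold π'
  rw [sec_ofSec, sec_repMap_comp]
  rfl

theorem cmp_injective [IsEquivalenceRelation s t] (T : Over S) :
    Function.Injective ((cmp s t).hom.app (op T)) := by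
  intro a b hab
  obtain ⟨Ra, hRa, ha⟩ := liftSieve_mem' Kp (QuotSh.quotπ Kp s t) a
  obtain ⟨Rb, hRb, hb⟩ := liftSieve_mem' Kp (QuotSh.quotπ Kp s t) b
  have hsh : Presieve.IsSheaf (QuotSh.J Kp S) (QuotSh.quot Kp s t).obj :=
    (isSheaf_iff_isSheaf_of_type _ _).mp (QuotSh.quot Kp s t).property
  refine (hsh.isSeparated _ ((QuotSh.J Kp S).intersection_covering hRa hRb)).ext ?_
  intro V f hf
  obtain ⟨xa, hxa⟩ := ha f hf.1
  obtain ⟨xb, hxb⟩ := hb f hf.2
  rw [hxa, hxb]
  have h1 : sec Kq (QuotSh.repMap Kq xa ≫ QuotSh.quotπ Kq s t) =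
      sec Kq (QuotSh.repMap Kq xb ≫ QuotSh.quotπ Kq s t) := by
    rw [← cmp_cl, ← cmp_cl, ← hxa, ← hxb]
    have n := fun z => NatTrans.naturality_apply (cmp s t).hom f.op z
    rw [n a, n b, hab]
  obtain ⟨r, rfl, rfl⟩ := (prel_iff s t xa xb).mp (sec_injective Kq h1)
  rw [repMap_comp, repMap_comp, Category.assoc, Category.assoc, QuotSh.quot_condition]

theorem cmp_surjective (P : MorphismProperty Scheme.{u}) [IsZariskiLocalAtTarget P] [P.IsStableUnderBaseChange]
    [P.DescendsAlong (@Surjective ⊓ @Flat ⊓ @QuasiCompact)]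
    (hPmono : ∀ {X Y : Scheme.{u}} (f : X ⟶ Y), P f → Mono f)
    (hPeff : ∀ {B : Scheme.{u}} {ι : Type u} {X : ι → Scheme.{u}} (f : ∀ i, X i ⟶ B),
      Presieve.ofArrows X f ∈ Scheme.fpqcPrecoverage B → ∀ D : Desc.SchDDFam f,
        (∀ i, P (D.obj i).hom) → D.IsEffective)
    [IsEquivalenceRelation s t] [Flat s.left] [Surjective s.left] [LocallyOfFinitePresentation s.left]
    (hc : P (lift t s).left) (T : Over S) :
    Function.Surjective ((cmp s t).hom.app (op T)) := by
  intro b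
  obtain ⟨σ, hσ⟩ : ∃ σ : QuotSh.rep Kq T ⟶ QuotSh.quot Kq s t, sec Kq σ = b := ⟨ofSec Kq b, sec_ofSec Kq b⟩
  obtain ⟨Z, i, hPi, hrep⟩ := exists_isRep σ P hPmono hPeff hc
  haveI : Mono i.left := hPmono _ hPi
  haveI : Mono i := CategoryTheory.Over.mono_of_mono_left i
  haveI hfl : Flat (i ≫ snd U T).left := hrep.prop_snd σ @Flat inferInstance
  haveI hsu : Surjective (i ≫ snd U T).left := hrep.prop_snd σ @Surjective inferInstance
  haveI hlfp : LocallyOfFinitePresentation (i ≫ snd U T).left :=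
    hrep.prop_snd σ @LocallyOfFinitePresentation inferInstance
  have hcov : Presieve.ofArrows (fun _ : PUnit.{u + 1} => Z.left) (fun _ => (i ≫ snd U T).left) ∈ Kp T.left := by
    rw [Presieve.ofArrows_pUnit]
    exact Scheme.Hom.singleton_mem_fppfPrecoverage (i ≫ snd U T).left
  have hmem : Sieve.ofArrows (fun _ : PUnit.{u + 1} => Z) (fun _ => i ≫ snd U T) ∈ QuotSh.J Kp S T :=
    mem_J_of_mem Kp _ hcov (fun k => Sieve.ofArrows_mk _ _ k)
  have hshp : Presieve.IsSheaf (QuotSh.J Kp S) (QuotSh.quot Kp s t).obj :=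
    (isSheaf_iff_isSheaf_of_type _ _).mp (QuotSh.quot Kp s t).property
  have hshq : Presieve.IsSheaf (QuotSh.J Kp S) (QuotSh.quot Kq s t).obj :=
    (isSheaf_iff_isSheaf_of_type _ _).mp (Qq' s t).property
  have hsf := (Presieve.isSheafFor_arrows_iff (P := (QuotSh.quot Kp s t).obj) (X := fun _ : PUnit.{u + 1} => Z)
    (π := fun _ => i ≫ snd U T)).mp ((Presieve.isSheafFor_iff_generate _).mpr (hshp _ hmem))
  obtain ⟨a, ha, -⟩ := hsf (fun _ => sec Kp (QuotSh.repMap Kp (i ≫ fst U T) ≫ QuotSh.quotπ Kp s t)) (by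
    intro _ _ W gi gj hgg
    obtain ⟨r, hr1, hr2⟩ := hrep.related W gi gj (by simpa using hgg)
    change (QuotSh.quot Kp s t).obj.map gi.op _ = (QuotSh.quot Kp s t).obj.map gj.op _
    rw [← sec_repMap_comp, ← sec_repMap_comp, ← Category.assoc, ← Category.assoc, ← repMap_comp, ← repMap_comp,
      ← hr1, ← hr2, repMap_comp, repMap_comp, Category.assoc, Category.assoc, QuotSh.quot_condition])
  refine ⟨a, ?_⟩
  refine (hshq.isSeparated _ hmem).ext ?_
  intro V f hf
  obtain ⟨k, h, rfl⟩ := (Sieve.mem_ofArrows_iff _ _ f).mp hf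
  rw [op_comp, Functor.map_comp, types_comp_apply, types_comp_apply]
  congr 1
  have n := NatTrans.naturality_apply (cmp s t).hom (i ≫ snd U T).op a
  have e1 : (QuotSh.quot Kq s t).obj.map (i ≫ snd U T).op ((cmp s t).hom.app (op T) a) =
      (cmp s t).hom.app (op Z) ((QuotSh.quot Kp s t).obj.map (i ≫ snd U T).op a) := n.symm
  rw [e1, ha PUnit.unit, cmp_cl, ← hσ, ← sec_repMap_comp]
  exact congrArg _ hrep.phi

theorem isSheaf_fpqc_quot_fppf (P : MorphismProperty Scheme.{u}) [IsZariskiLocalAtTarget P]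
    [P.IsStableUnderBaseChange] [P.DescendsAlong (@Surjective ⊓ @Flat ⊓ @QuasiCompact)]
    (hPmono : ∀ {X Y : Scheme.{u}} (f : X ⟶ Y), P f → Mono f)
    (hPeff : ∀ {B : Scheme.{u}} {ι : Type u} {X : ι → Scheme.{u}} (f : ∀ i, X i ⟶ B),
      Presieve.ofArrows X f ∈ Scheme.fpqcPrecoverage B → ∀ D : Desc.SchDDFam f,
        (∀ i, P (D.obj i).hom) → D.IsEffective)
    [IsEquivalenceRelation s t] [Flat s.left] [Surjective s.left] [LocallyOfFinitePresentation s.left]
    (hc : P (lift t s).left) :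
    Presheaf.IsSheaf (QuotSh.J Kq S) (QuotSh.quot Kp s t).obj := by
  have hiso : IsIso (cmp s t).hom := by
    rw [NatTrans.isIso_iff_isIso_app]
    intro W
    induction W using Opposite.rec with
    | _ T =>
      rw [isIso_iff_bijective]
      exact ⟨cmp_injective s t T, cmp_surjective s t P hPmono hPeff hc T⟩
  exact (Presheaf.isSheaf_of_iso_iff (asIso (cmp s t).hom)).mpr (QuotSh.quot Kq s t).property

end Cmp

end Groth.Agent.Lib.Helper4.QuotSec
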