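import Mathlib
import Groth.Agent.Lib.Helper4.QuotSt5
import Groth.Agent.Lib.Helper4.PshDict2
import Groth.Agent.S10510
set_option autoImplicit false
set_option backward.isDefEq.respectTransparency false
set_option backward.isDefEq.respectTransparency.types false
set_option linter.unusedSimpArgs false
set_option linter.unusedSectionVars false
set_option linter.unusedVariables false
universe u
open CategoryTheory CategoryTheory.Limits AlgebraicGeometry MonoidalCategory CartesianMonoidalCategory MonObj GrpObj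
open AlgSt Opposite

namespace Groth.Agent.Lib.helper4.QuotSt6
open Groth.Agent.S12838 Groth.Agent.Lib.helper4.QuotSt1 Groth.Agent.Lib.helper4.QuotSt2
  Groth.Agent.Lib.helper4.QuotSt3 Groth.Agent.Lib.helper4.QuotSt4 FibCat
  Groth.Agent.Lib.helper4.FppfFamDescent Groth.Agent.Lib.helper4.PshDict Groth.Agent.Lib.helper4.PshDict2

variable {S : Scheme.{u}} {G : Over S} [GrpObj G] {X : Over S} {aX : AlgGrp.Action G X}

/-- the structure map of an fppf torsor under a flat, locally finitely presented group generates a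
covering sieve -/
theorem torsor_cover (hG1 : Flat G.hom) (hG2 : LocallyOfFinitePresentation G.hom)
    (A : QuotObj Scheme.fppfPrecoverage G aX) :
    Sieve.ofArrows (fun _ : PUnit.{u + 1} => A.P) (fun _ => A.π) ∈ AlgSp.J S A.base := by
  have := flat_descendsAlong_fppf.{u}
  have h1 : Flat A.π.left := prop_pi (@Flat : MorphismProperty Scheme.{u}) hG1 A
  have h2 : LocallyOfFinitePresentation A.π.left :=
    prop_pi (@LocallyOfFinitePresentation : MorphismProperty Scheme.{u}) hG2 A
  have h3 : Surjective A.π.left :=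
    prop_pi (@Surjective : MorphismProperty Scheme.{u}) Groth.Agent.Lib.helper4.QuotSt5.surjective_hom A
  exact Groth.Agent.S10510.cover_mem_family _ _ (fun _ => h1) (fun _ => h2)
    (fun x => ⟨PUnit.unit, h3.surj x⟩)

/-- descent of an invariant section of a sheaf along a torsor -/
theorem existsUnique_descend (hG1 : Flat G.hom) (hG2 : LocallyOfFinitePresentation G.hom)
    (M : AlgSp.Sp S) (A : QuotObj Scheme.fppfPrecoverage G aX) (x : M.obj.obj (op A.P))
    (hx : M.obj.map A.act.act.op x = M.obj.map (snd G A.P).op x) :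
    ∃! m : M.obj.obj (op A.base), M.obj.map A.π.op m = x := by
  have hM : Presieve.IsSheaf (AlgSp.J S) M.obj := (isSheaf_iff_isSheaf_of_type _ _).1 M.property
  have h1 := hM _ (torsor_cover hG1 hG2 A)
  have h2 : Presieve.IsSheafFor M.obj (Presieve.ofArrows (fun _ : PUnit.{u + 1} => A.P) (fun _ => A.π)) :=
    (Presieve.isSheafFor_iff_generate _).2 h1
  rw [Presieve.isSheafFor_arrows_iff] at h2
  obtain ⟨m, hm, hu⟩ := h2 (fun _ => x) (by
    intro i j Z gi gj hg
    obtain ⟨c, hc1, hc2⟩ : ∃ c : Z ⟶ G ⊗ A.P, c ≫ A.act.act = gi ∧ c ≫ snd G A.P = gj :=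
      ⟨A.cart.lift gi gj hg, A.cart.lift_fst _ _ _, A.cart.lift_snd _ _ _⟩
    change M.obj.map gi.op x = M.obj.map gj.op x
    rw [← hc1, ← hc2, map_comp_op_apply, map_comp_op_apply, hx])
  refine ⟨m, hm PUnit.unit, fun m' hm' => hu m' (fun _ => hm')⟩

section UP

variable (M : AlgSp.Sp S) (f : (AlgSp.yon S).obj X ⟶ M)

/-- the value of `f` at a point of `X` -/
def fx {T : Over S} (x : T ⟶ X) : M.obj.obj (op T) := f.hom.app (op T) ⟨x⟩

theorem fx_comp {T' T : Over S} (h : T' ⟶ T) (x : T ⟶ X) :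
    M.obj.map h.op (fx M f x) = fx M f (h ≫ x) := by
  unfold fx
  rw [← NatTrans.naturality_apply]
  rfl

variable {M f} in
theorem fx_inv (hf : (AlgSp.yon S).map aX.act ≫ f = (AlgSp.yon S).map (snd G X) ≫ f) {W : Over S}
    (c : W ⟶ G ⊗ X) : fx M f (c ≫ aX.act) = fx M f (c ≫ snd G X) :=
  congrArg (fun k => k.hom.app (op W) ⟨c⟩) hf

variable {M f} in
theorem fx_phi_inv (hf : (AlgSp.yon S).map aX.act ≫ f = (AlgSp.yon S).map (snd G X) ≫ f)
    (A : QuotObj Scheme.fppfPrecoverage G aX) :
    M.obj.map A.act.act.op (fx M f A.φ) = M.obj.map (snd G A.P).op (fx M f A.φ) := by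
  rw [fx_comp, fx_comp, A.eqv, fx_inv hf, whiskerLeft_snd]

variable (hG1 : Flat G.hom) (hG2 : LocallyOfFinitePresentation G.hom)
  (hf : (AlgSp.yon S).map aX.act ≫ f = (AlgSp.yon S).map (snd G X) ≫ f)

/-- the descended section over the base of a torsor -/
noncomputable def mA (A : QuotObj Scheme.fppfPrecoverage G aX) : M.obj.obj (op A.base) :=
  (existsUnique_descend hG1 hG2 M A (fx M f A.φ) (fx_phi_inv hf A)).choose

theorem mA_spec (A : QuotObj Scheme.fppfPrecoverage G aX) :
    M.obj.map A.π.op (mA M f hG1 hG2 hf A) = fx M f A.φ :=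
  (existsUnique_descend hG1 hG2 M A (fx M f A.φ) (fx_phi_inv hf A)).choose_spec.1

theorem mA_uniq (A : QuotObj Scheme.fppfPrecoverage G aX) (m : M.obj.obj (op A.base))
    (hm : M.obj.map A.π.op m = fx M f A.φ) : m = mA M f hG1 hG2 hf A :=
  (existsUnique_descend hG1 hG2 M A (fx M f A.φ) (fx_phi_inv hf A)).choose_spec.2 m hm

theorem mA_map {A' A : QuotObj Scheme.fppfPrecoverage G aX} (h : A' ⟶ A) :
    M.obj.map h.base.op (mA M f hG1 hG2 hf A) = mA M f hG1 hG2 hf A' := by
  apply mA_uniq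
  rw [← map_comp_op_apply, ← h.cart.w, map_comp_op_apply, mA_spec, fx_comp, h.wφ]

/-- the induced functor `[X/G] ⟶ M` -/
noncomputable def descFunctor : QuotSt Scheme.fppfPrecoverage G aX ⥤ᵇ ofSp M where
  toFunctor :=
    { obj := fun A => ⟨A.base, mA M f hG1 hG2 hf A⟩
      map := fun {A' A} h => ⟨h.base, mA_map M f hG1 hG2 hf h⟩
      map_id := fun A => Stk.EltObj.hom_ext rfl
      map_comp := fun h h' => Stk.EltObj.hom_ext rfl }
  w := rfl

theorem secOf_descFunctor (A : QuotObj Scheme.fppfPrecoverage G aX) :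
    secOf (descFunctor M f hG1 hG2 hf) A = mA M f hG1 hG2 hf A := by
  unfold secOf
  exact eqToHom_op_refl_apply _ _ _

theorem mA_quotMap (a : (ofSch X).obj) :
    mA M f hG1 hG2 hf ((quotMap Scheme.fppfPrecoverage G aX).obj a) = fx M f a.sec.down := by
  symm
  refine mA_uniq M f hG1 hG2 hf ((quotMap Scheme.fppfPrecoverage G aX).obj a) _ ?_
  change M.obj.map (snd G a.base).op (fx M f a.sec.down) = fx M f ((G ◁ a.sec.down) ≫ aX.act)
  rw [fx_comp, fx_inv hf, whiskerLeft_snd]

theorem descFunctor_comp :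
    BasedFunctor.comp (quotMap Scheme.fppfPrecoverage G aX) (descFunctor M f hG1 hG2 hf) = ofSpMap f := by
  apply eq_of_secOf_eq
  intro a
  have h1 : secOf (BasedFunctor.comp (quotMap Scheme.fppfPrecoverage G aX) (descFunctor M f hG1 hG2 hf)) a =
      mA M f hG1 hG2 hf ((quotMap Scheme.fppfPrecoverage G aX).obj a) := by
    unfold secOf
    exact eqToHom_op_refl_apply _ _ _
  have h2 : secOf (ofSpMap f) a = fx M f a.sec.down := by
    unfold secOf
    exact eqToHom_op_refl_apply _ _ _
  rw [h1, h2, mA_quotMap]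

theorem descFunctor_uniq (φ' : QuotSt Scheme.fppfPrecoverage G aX ⥤ᵇ ofSp M)
    (h : BasedFunctor.comp (quotMap Scheme.fppfPrecoverage G aX) φ' = ofSpMap f) :
    φ' = descFunctor M f hG1 hG2 hf := by
  apply eq_of_secOf_eq
  intro A
  rw [secOf_descFunctor]
  refine mA_uniq M f hG1 hG2 hf A _ ?_
  let a : (ofSch X).obj := ⟨A.P, ⟨𝟙 A.P ≫ A.φ⟩⟩
  let k : (quotMap Scheme.fppfPrecoverage G aX).obj a ⟶ A := triv A (𝟙 A.P)
  have h1 := secOf_map φ' k
  have h2 : (QuotSt Scheme.fppfPrecoverage G aX).p.map k = 𝟙 A.P ≫ A.π := rfl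
  rw [h2, Category.id_comp] at h1
  have h3 : secOf φ' ((quotMap Scheme.fppfPrecoverage G aX).obj a) =
      secOf (BasedFunctor.comp (quotMap Scheme.fppfPrecoverage G aX) φ') a := by
    unfold secOf
    rfl
  have h4 : secOf (ofSpMap f) a = fx M f a.sec.down := by
    unfold secOf
    exact eqToHom_op_refl_apply _ _ _
  have h5 : fx M f a.sec.down = fx M f A.φ := by
    change fx M f (𝟙 A.P ≫ A.φ) = _
    rw [Category.id_comp]
  rw [h] at h3
  exact h1.trans (h3.trans (h4.trans h5))

end UP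

end Groth.Agent.Lib.helper4.QuotSt6
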