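import Mathlib
import Groth.Agent.Lib.Helper4.QuotSt6
set_option autoImplicit false
set_option backward.isDefEq.respectTransparency false
set_option backward.isDefEq.respectTransparency.types false
set_option linter.unusedSimpArgs false
set_option linter.unusedSectionVars false
set_option linter.unusedVariables false
universe u
open CategoryTheory CategoryTheory.Limits AlgebraicGeometry MonoidalCategory CartesianMonoidalCategory MonObj GrpObj
open AlgSt Opposite

/-! Functors from `[X/G]` to a sheaf are the same thing as invariant maps from `X`. -/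

namespace Groth.Agent.Lib.helper4.QuotSt7
open Groth.Agent.S12838 Groth.Agent.Lib.helper4.QuotSt1 Groth.Agent.Lib.helper4.QuotSt2
  Groth.Agent.Lib.helper4.QuotSt6 FibCat
  Groth.Agent.Lib.helper4.PshDict Groth.Agent.Lib.helper4.PshDict2

variable {S : Scheme.{u}} {G : Over S} [GrpObj G] {X : Over S} {aX : AlgGrp.Action G X}

/-- 2-isomorphic functors into the category of a sheaf are equal -/
theorem eq_of_iso {𝒲 : AlgSt.Cat S} {N : AlgSp.Sp S} {Φ Ψ : 𝒲 ⥤ᵇ ofSp N} (h : Nonempty (Φ ≅ Ψ)) : Φ = Ψ := by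
  obtain ⟨α⟩ := h
  exact eq_of_secOf_eq _ _ (fun x => secOf_eq_of_iso α x)

theorem ofSpMap_injective {M N : AlgSp.Sp S} {g g' : M ⟶ N} (h : ofSpMap g = ofSpMap g') : g = g' := by
  apply ObjectProperty.hom_ext
  have h1 := congrArg pshMapOf h
  rw [pshMapOf_ofPshMap, pshMapOf_ofPshMap] at h1
  exact h1

variable (N : AlgSp.Sp S) (Φ : QuotSt Scheme.fppfPrecoverage G aX ⥤ᵇ ofSp N)

/-- the invariant map attached to a functor out of `[X/G]` -/
noncomputable def invMap : (AlgSp.yon S).obj X ⟶ N :=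
  ObjectProperty.homMk (pshMapOf (BasedFunctor.comp (quotMap Scheme.fppfPrecoverage G aX) Φ))

theorem ofSpMap_invMap : ofSpMap (invMap N Φ) = BasedFunctor.comp (quotMap Scheme.fppfPrecoverage G aX) Φ :=
  (eq_of_iso ⟨isoOfPshMap (BasedFunctor.comp (quotMap Scheme.fppfPrecoverage G aX) Φ)⟩).symm

theorem invMap_app {T : Over S} (x : T ⟶ X) :
    (invMap N Φ).hom.app (op T) ⟨x⟩ = secOf Φ ((quotMap Scheme.fppfPrecoverage G aX).obj ⟨T, ⟨x⟩⟩) := by
  change secOf (BasedFunctor.comp (quotMap Scheme.fppfPrecoverage G aX) Φ) (⟨T, ⟨x⟩⟩ : (ofSch X).obj) = _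
  rfl

theorem invMap_invariant :
    (AlgSp.yon S).map aX.act ≫ invMap N Φ = (AlgSp.yon S).map (snd G X) ≫ invMap N Φ := by
  apply ObjectProperty.hom_ext
  ext T ⟨w⟩
  change (invMap N Φ).hom.app T ⟨w ≫ aX.act⟩ = (invMap N Φ).hom.app T ⟨w ≫ snd G X⟩
  obtain ⟨T⟩ := T
  rw [invMap_app, invMap_app]
  let a : (ofSch X).obj := ⟨T, ⟨w ≫ aX.act⟩⟩
  let b : (ofSch X).obj := ⟨T, ⟨w ≫ snd G X⟩⟩
  let k : (quotMap Scheme.fppfPrecoverage G aX).obj a ⟶ (quotMap Scheme.fppfPrecoverage G aX).obj b :=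
    rmulHom aX a b (𝟙 T) (w ≫ fst G X) (by
      change lift (w ≫ fst G X) (𝟙 T ≫ w ≫ snd G X) ≫ aX.act = w ≫ aX.act
      rw [Category.id_comp, ← comp_lift, lift_fst_snd, Category.comp_id])
  have h1 := secOf_map Φ k
  have h2 : (QuotSt Scheme.fppfPrecoverage G aX).p.map k = 𝟙 T := rfl
  rw [h2] at h1
  exact ((map_id_op_apply N.obj T _).symm.trans h1).symm

variable {N} in
theorem eq_of_invMap_eq (hG1 : Flat G.hom) (hG2 : LocallyOfFinitePresentation G.hom)
    {Φ Ψ : QuotSt Scheme.fppfPrecoverage G aX ⥤ᵇ ofSp N} (h : invMap N Φ = invMap N Ψ) : Φ = Ψ := by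
  have h1 := descFunctor_uniq N (invMap N Φ) hG1 hG2 (invMap_invariant N Φ) Φ (ofSpMap_invMap N Φ).symm
  have h2 := descFunctor_uniq N (invMap N Φ) hG1 hG2 (invMap_invariant N Φ) Ψ (by
    rw [h]; exact (ofSpMap_invMap N Ψ).symm)
  rw [h1, h2]

theorem invMap_descFunctor (hG1 : Flat G.hom) (hG2 : LocallyOfFinitePresentation G.hom)
    (ψ : (AlgSp.yon S).obj X ⟶ N)
    (hψ : (AlgSp.yon S).map aX.act ≫ ψ = (AlgSp.yon S).map (snd G X) ≫ ψ) :
    invMap N (descFunctor N ψ hG1 hG2 hψ) = ψ := by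
  apply ofSpMap_injective
  rw [ofSpMap_invMap, descFunctor_comp]

theorem invMap_comp {M : AlgSp.Sp S} (Φ : QuotSt Scheme.fppfPrecoverage G aX ⥤ᵇ ofSp M) (g : M ⟶ N) :
    invMap N (BasedFunctor.comp Φ (ofSpMap g)) = invMap M Φ ≫ g := by
  apply ofSpMap_injective
  rw [ofSpMap_invMap]
  have : ofSpMap (invMap M Φ ≫ g) = BasedFunctor.comp (ofSpMap (invMap M Φ)) (ofSpMap g) := by
    apply eq_of_secOf_eq
    intro x
    rfl
  rw [this, ofSpMap_invMap]
  rfl

end Groth.Agent.Lib.helper4.QuotSt7
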