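import Mathlib

/-!
# A finite module over a reduced ring with constant fibre dimension is locally free (helper4)

`exists_free_away`: `R` reduced, `M` a finite `R`-module with `dim_{κ(q)} κ(q) ⊗ M = n` for every prime `q`; then for
every prime `p` there is `a ∉ p` with `M_a` free over `R_a`.  Consequences: `flat_of_reduced_of_finrank_fiber`,
`finitePresentation_of_reduced_of_finrank_fiber`.
-/

set_option autoImplicit false
set_option linter.style.haveILetI false

universe u

open TensorProduct

namespace Groth.Agent.Lib.helper4.ReducedRankFree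

variable {R : Type u} [CommRing R] {M : Type u} [AddCommGroup M] [Module R M]

section Step

variable {ι : Type} [Fintype ι] (m : ι → M)

/-- if `a` kills the cokernel of `φ` then `κ(q) ⊗ φ` is surjective for `a ∉ q` -/
theorem baseChange_surjective_of_smul_mem (φ : (ι → R) →ₗ[R] M) (a : R)
    (ha : ∀ x : M, a • x ∈ LinearMap.range φ) (q : PrimeSpectrum R) (haq : a ∉ q.asIdeal) :
    Function.Surjective (φ.baseChange q.asIdeal.ResidueField) := by
  intro y
  have hane : algebraMap R q.asIdeal.ResidueField a ≠ 0 := by
    rw [Ne, Ideal.algebraMap_residueField_eq_zero]; exact haq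
  induction y using TensorProduct.induction_on with
  | zero => exact ⟨0, map_zero _⟩
  | tmul c x =>
    obtain ⟨v, hv⟩ := ha x
    refine ⟨(c * (algebraMap R q.asIdeal.ResidueField a)⁻¹) ⊗ₜ[R] v, ?_⟩
    rw [LinearMap.baseChange_tmul, hv, ← TensorProduct.smul_tmul, Algebra.smul_def]
    congr 1
    field_simp
  | add y y' hy hy' =>
    obtain ⟨z, hz⟩ := hy
    obtain ⟨z', hz'⟩ := hy'
    exact ⟨z + z', by rw [map_add, hz, hz']⟩

omit [Fintype ι] in
theorem coord_mem_of_baseChange_injective (φ : (ι → R) →ₗ[R] M) (q : PrimeSpectrum R)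
    (hinj : Function.Injective (φ.baseChange q.asIdeal.ResidueField)) (v : ι → R) (hv : φ v = 0) (i : ι) :
    v i ∈ q.asIdeal := by
  have h1 : (1 : q.asIdeal.ResidueField) ⊗ₜ[R] v = 0 := by
    apply hinj
    rw [LinearMap.baseChange_tmul, hv, tmul_zero, map_zero]
  have h2 := congrArg ((LinearMap.proj i : (ι → R) →ₗ[R] R).baseChange q.asIdeal.ResidueField) h1
  rw [LinearMap.baseChange_tmul, map_zero, LinearMap.proj_apply] at h2
  have h3 := congrArg (TensorProduct.rid R q.asIdeal.ResidueField) h2
  rw [TensorProduct.rid_tmul, map_zero] at h3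
  rw [← Ideal.algebraMap_residueField_eq_zero, Algebra.algebraMap_eq_smul_one]
  exact h3

theorem baseChange_injective [Nontrivial R] [Module.Finite R M] (φ : (ι → R) →ₗ[R] M) (q : PrimeSpectrum R)
    (hsurj : Function.Surjective (φ.baseChange q.asIdeal.ResidueField))
    (hdim : Module.finrank q.asIdeal.ResidueField (q.asIdeal.ResidueField ⊗[R] M) = Fintype.card ι) :
    Function.Injective (φ.baseChange q.asIdeal.ResidueField) := by
  have hfr : Module.finrank q.asIdeal.ResidueField (q.asIdeal.ResidueField ⊗[R] (ι → R)) = Fintype.card ι := by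
    rw [Module.finrank_baseChange, Module.finrank_fintype_fun_eq_card]
  exact (LinearMap.injective_iff_surjective_of_finrank_eq_finrank (hfr.trans hdim.symm)).mpr hsurj

theorem exists_kill_coker [Module.Finite R M] (p : PrimeSpectrum R)
    (hspan : Submodule.span p.asIdeal.ResidueField
      (Set.range fun i => (1 : p.asIdeal.ResidueField) ⊗ₜ[R] m i) = ⊤) :
    ∃ a ∉ p.asIdeal, ∀ x : M, a • x ∈ LinearMap.range (Fintype.linearCombination R m) := by
  set φ := Fintype.linearCombination R m with hφ
  have hsub : Subsingleton (p.asIdeal.ResidueField ⊗[R] (M ⧸ LinearMap.range φ)) := by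
    have h0 : (LinearMap.range φ).mkQ.baseChange p.asIdeal.ResidueField = 0 := by
      apply LinearMap.ext_on hspan
      rintro _ ⟨i, rfl⟩
      classical
      rw [LinearMap.baseChange_tmul, LinearMap.zero_apply]
      have : (LinearMap.range φ).mkQ (m i) = 0 := by
        rw [Submodule.mkQ_apply, Submodule.Quotient.mk_eq_zero]
        refine ⟨Pi.single i 1, ?_⟩
        rw [hφ, Fintype.linearCombination_apply_single, one_smul]
      rw [this, tmul_zero]
    have hs : Function.Surjective ((LinearMap.range φ).mkQ.baseChange p.asIdeal.ResidueField) :=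
      LinearMap.lTensor_surjective _ (Submodule.mkQ_surjective _)
    exact ⟨fun x y => by
      obtain ⟨x', rfl⟩ := hs x
      obtain ⟨y', rfl⟩ := hs y
      rw [h0]; rfl⟩
  have hnot : p ∉ Module.support R (M ⧸ LinearMap.range φ) := by
    rw [Module.mem_support_iff_nontrivial_residueField_tensorProduct]
    exact not_nontrivial_iff_subsingleton.mpr hsub
  rw [Module.support_eq_zeroLocus, PrimeSpectrum.mem_zeroLocus, Set.not_subset] at hnot
  obtain ⟨a, haC, hap⟩ := hnot
  refine ⟨a, hap, fun x => ?_⟩
  have h1 := Module.mem_annihilator.mp haC ((LinearMap.range φ).mkQ x)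
  rw [← map_smul, Submodule.mkQ_apply, Submodule.Quotient.mk_eq_zero] at h1
  exact h1

omit [Fintype ι] in
theorem free_away_of_kill [Finite ι] (a : R) (φ : (ι → R) →ₗ[R] M) (hker : ∀ v, φ v = 0 → a • v = 0)
    (hcoker : ∀ x : M, a • x ∈ LinearMap.range φ) :
    Module.Free (Localization.Away a) (LocalizedModule.Away a M) := by
  have hex1 := LocalizedModule.map_exact (Submonoid.powers a) (LinearMap.ker φ).subtype φ
    (LinearMap.exact_subtype_ker_map φ)
  have hex2 := LocalizedModule.map_exact (Submonoid.powers a) φ (LinearMap.range φ).mkQ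
    (LinearMap.exact_map_mkQ_range φ)
  set ψ := IsLocalizedModule.map (Submonoid.powers a)
    (LocalizedModule.mkLinearMap (Submonoid.powers a) (ι → R))
    (LocalizedModule.mkLinearMap (Submonoid.powers a) M) φ with hψ
  have hinj : Function.Injective ψ := by
    haveI : Subsingleton (LocalizedModule (Submonoid.powers a) (LinearMap.ker φ)) := by
      rw [LocalizedModule.subsingleton_iff]
      intro v
      exact ⟨a, Submonoid.mem_powers a, Subtype.ext (hker v.1 v.2)⟩
    rw [← LinearMap.ker_eq_bot, eq_bot_iff]
    intro x hx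
    obtain ⟨z, hz⟩ := (hex1 x).mp hx
    rw [← hz, Subsingleton.elim z 0, map_zero]
    exact zero_mem _
  have hsurj : Function.Surjective ψ := by
    haveI : Subsingleton (LocalizedModule (Submonoid.powers a) (M ⧸ LinearMap.range φ)) := by
      rw [LocalizedModule.subsingleton_iff]
      intro c
      obtain ⟨x, rfl⟩ := Submodule.mkQ_surjective _ c
      refine ⟨a, Submonoid.mem_powers a, ?_⟩
      rw [← map_smul, Submodule.mkQ_apply, Submodule.Quotient.mk_eq_zero]
      exact hcoker x
    intro y
    exact (hex2 y).mp (Subsingleton.elim _ _)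
  haveI : Module.Free (Localization (Submonoid.powers a)) (LocalizedModule (Submonoid.powers a) (ι → R)) :=
    Module.free_of_isLocalizedModule (Submonoid.powers a)
      (LocalizedModule.mkLinearMap (Submonoid.powers a) (ι → R))
  exact Module.Free.of_equiv ((LinearEquiv.ofBijective ψ ⟨hinj, hsurj⟩).extendScalarsOfIsLocalization
    (Submonoid.powers a) (Localization (Submonoid.powers a)))

end Step

theorem exists_span [Module.Finite R M] (p : PrimeSpectrum R) :
    ∃ (d : ℕ) (m : Fin d → M),
      d = Module.finrank p.asIdeal.ResidueField (p.asIdeal.ResidueField ⊗[R] M) ∧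
      Submodule.span p.asIdeal.ResidueField
        (Set.range fun i => (1 : p.asIdeal.ResidueField) ⊗ₜ[R] m i) = ⊤ := by
  set s : Set (p.asIdeal.ResidueField ⊗[R] M) :=
    Set.range (fun x : M => (1 : p.asIdeal.ResidueField) ⊗ₜ[R] x) with hs_def
  have hs : Submodule.span p.asIdeal.ResidueField s = ⊤ := by
    rw [eq_top_iff]
    rintro y -
    induction y using TensorProduct.induction_on with
    | zero => exact zero_mem _
    | tmul c x =>
      have : c ⊗ₜ[R] x = c • ((1 : p.asIdeal.ResidueField) ⊗ₜ[R] x) := by
        rw [TensorProduct.smul_tmul', smul_eq_mul, mul_one]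
      rw [this]
      exact Submodule.smul_mem _ _ (Submodule.subset_span ⟨x, rfl⟩)
    | add y y' hy hy' => exact add_mem hy hy'
  haveI : Module.Finite p.asIdeal.ResidueField (Submodule.span p.asIdeal.ResidueField s) := by
    rw [hs]; infer_instance
  obtain ⟨f, hfs, hf, -⟩ := Submodule.exists_fun_fin_finrank_span_eq p.asIdeal.ResidueField s
  choose m hm using hfs
  refine ⟨_, m, ?_, ?_⟩
  · rw [hs, finrank_top]
  · have : (fun i => (1 : p.asIdeal.ResidueField) ⊗ₜ[R] m i) = f := funext hm
    rw [this, hf, hs]

theorem exists_free_away [IsReduced R] [Module.Finite R M] (n : ℕ)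
    (h : ∀ q : PrimeSpectrum R,
      Module.finrank q.asIdeal.ResidueField (q.asIdeal.ResidueField ⊗[R] M) = n)
    (p : PrimeSpectrum R) :
    ∃ a ∉ p.asIdeal, Module.Free (Localization.Away a) (LocalizedModule.Away a M) := by
  haveI : Nontrivial R := p.nontrivial
  obtain ⟨d, m, hd, hspan⟩ := exists_span (M := M) p
  have hdn : d = n := hd.trans (h p)
  obtain ⟨a, hap, hcoker⟩ := exists_kill_coker m p hspan
  refine ⟨a, hap, free_away_of_kill a (Fintype.linearCombination R m) ?_ hcoker⟩
  intro v hv
  funext i
  show a * v i = 0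
  apply IsNilpotent.eq_zero
  rw [nilpotent_iff_mem_prime]
  intro J hJ
  by_cases haJ : a ∈ J
  · exact J.mul_mem_right _ haJ
  · have hsurj := baseChange_surjective_of_smul_mem (Fintype.linearCombination R m) a hcoker ⟨J, hJ⟩ haJ
    have hinj := baseChange_injective (Fintype.linearCombination R m) ⟨J, hJ⟩ hsurj
      (by rw [h, Fintype.card_fin, hdn])
    exact J.mul_mem_left _ (coord_mem_of_baseChange_injective _ ⟨J, hJ⟩ hinj v hv i)

section Global

variable [IsReduced R] [Module.Finite R M] (n : ℕ)
  (h : ∀ q : PrimeSpectrum R,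
    Module.finrank q.asIdeal.ResidueField (q.asIdeal.ResidueField ⊗[R] M) = n)

include h in
theorem span_free_eq_top :
    Ideal.span {a : R | Module.Free (Localization.Away a) (LocalizedModule.Away a M)} = ⊤ := by
  by_contra hne
  obtain ⟨𝔪, h𝔪, hle⟩ := Ideal.exists_le_maximal _ hne
  obtain ⟨a, ha, hfree⟩ := exists_free_away n h ⟨𝔪, h𝔪.isPrime⟩
  exact ha (hle (Ideal.subset_span hfree))

include h in
theorem flat_of_reduced_of_finrank_fiber : Module.Flat R M := by
  refine Module.flat_of_localized_span R M _ (span_free_eq_top n h) ?_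
  rintro ⟨a, ha⟩
  haveI : Module.Free (Localization.Away a) (LocalizedModule.Away a M) := ha
  haveI : Module.Flat (Localization.Away a) (LocalizedModule.Away a M) := inferInstance
  exact Module.Flat.trans R (Localization.Away a) (LocalizedModule.Away a M)

include h in
theorem finitePresentation_of_reduced_of_finrank_fiber : Module.FinitePresentation R M := by
  refine Module.FinitePresentation.of_localizationSpan _ (span_free_eq_top n h) ?_
  rintro ⟨a, ha⟩
  haveI : Module.Free (Localization.Away a) (LocalizedModule.Away a M) := ha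
  haveI : Module.Finite (Localization.Away a) (LocalizedModule.Away a M) := inferInstance
  exact Module.finitePresentation_of_projective _ _

end Global

end Groth.Agent.Lib.helper4.ReducedRankFree
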