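import Mathlib
import Groth.Agent.Lib.Helper4.ReducedRankFree

/-!
# A finite morphism to a reduced scheme with constant fibre degree is flat and finitely presented (helper4)

`flat_lfp_of_reduced`: `f : Y ⟶ X` finite, `X` reduced, and every fibre of `f` over a field-valued point has
`Scheme.Hom.finrank` equal to `n`; then `f` is flat and locally of finite presentation.
-/

set_option autoImplicit false
set_option backward.isDefEq.respectTransparency false
set_option linter.style.haveILetI false

universe u

open CategoryTheory CategoryTheory.Limits AlgebraicGeometry TensorProduct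

namespace Groth.Agent.Lib.helper4.ReducedRankFlat

/-- the degree of the fibre `Spec (K ⊗ B) ⟶ Spec K` is the dimension -/
theorem finrank_fst_eq {R B : CommRingCat.{u}} (ψ : R ⟶ B) (hfin : ψ.hom.Finite) (q : PrimeSpectrum R)
    (y : Spec (CommRingCat.of q.asIdeal.ResidueField)) :
    letI := ψ.hom.toAlgebra
    (pullback.fst (Spec.map (CommRingCat.ofHom (algebraMap R q.asIdeal.ResidueField))) (Spec.map ψ)).finrank y =
      Module.finrank q.asIdeal.ResidueField (q.asIdeal.ResidueField ⊗[R] B) := by
  letI := ψ.hom.toAlgebra
  haveI : Module.Finite R B := hfin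
  have hψ : ψ = CommRingCat.ofHom (algebraMap R B) := rfl
  have h1 := pullbackSpecIso_hom_fst' R q.asIdeal.ResidueField B
  haveI : IsFinite (Spec.map (CommRingCat.ofHom
      (algebraMap q.asIdeal.ResidueField (q.asIdeal.ResidueField ⊗[R] B)))) := by
    rw [IsFinite.SpecMap_iff]
    show (algebraMap _ _).Finite
    rw [RingHom.finite_algebraMap]
    infer_instance
  haveI : Flat (Spec.map (CommRingCat.ofHom
      (algebraMap q.asIdeal.ResidueField (q.asIdeal.ResidueField ⊗[R] B)))) := by
    rw [Flat.SpecMap_iff]
    show (algebraMap _ _).Flat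
    rw [RingHom.flat_algebraMap_iff]
    infer_instance
  rw [hψ, ← h1, Scheme.Hom.finrank_comp_left_of_isIso, Scheme.Hom.finrank_SpecMap_algebraMap,
    Module.rankAtStalk_eq_finrank_of_free]
  rfl

theorem flat_lfp_SpecMap {R B : CommRingCat.{u}} (ψ : R ⟶ B) (hfin : ψ.hom.Finite) [IsReduced R] (n : ℕ)
    (H : ∀ (q : PrimeSpectrum R) (y : Spec (CommRingCat.of q.asIdeal.ResidueField)),
      (pullback.fst (Spec.map (CommRingCat.ofHom (algebraMap R q.asIdeal.ResidueField))) (Spec.map ψ)).finrank y
        = n) :
    Flat (Spec.map ψ) ∧ LocallyOfFinitePresentation (Spec.map ψ) := by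
  letI := ψ.hom.toAlgebra
  haveI : Module.Finite R B := hfin
  have h : ∀ q : PrimeSpectrum R,
      Module.finrank q.asIdeal.ResidueField (q.asIdeal.ResidueField ⊗[R] B) = n := by
    intro q
    obtain ⟨y⟩ : Nonempty (Spec (CommRingCat.of q.asIdeal.ResidueField)) := inferInstance
    rw [← finrank_fst_eq ψ hfin q y]
    exact H q y
  have hflat : Module.Flat R B := ReducedRankFree.flat_of_reduced_of_finrank_fiber n h
  have hfp : Module.FinitePresentation R B := ReducedRankFree.finitePresentation_of_reduced_of_finrank_fiber n h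
  constructor
  · rw [Flat.SpecMap_iff]
    exact hflat
  · rw [LocallyOfFinitePresentation.SpecMap_iff]
    show Algebra.FinitePresentation R B
    infer_instance

variable {X Y : Scheme.{u}} (f : Y ⟶ X) [IsFinite f] [IsReduced X] (n : ℕ)
  (H : ∀ (K : Type u) [Field K] (ξ : Spec (CommRingCat.of K) ⟶ X) (F : Scheme.{u}) (a : F ⟶ Y)
    (b : F ⟶ Spec (CommRingCat.of K)), IsPullback a b f ξ → ∀ y, b.finrank y = n)

include H in
theorem flat_lfp_of_openImmersion_Spec {R : CommRingCat.{u}} (j : Spec R ⟶ X) [IsOpenImmersion j] :
    Flat (pullback.snd f j) ∧ LocallyOfFinitePresentation (pullback.snd f j) := by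
  haveI : IsAffine (pullback f j) := isAffine_of_isAffineHom (pullback.snd f j)
  set g := pullback.snd f j with hg_def
  set ψ : R ⟶ Γ(pullback f j, ⊤) := (Scheme.ΓSpecIso R).inv ≫ g.appTop with hψ
  have hg : g = (pullback f j).isoSpec.hom ≫ Spec.map ψ := by
    have h1 := Scheme.isoSpec_hom_naturality g
    rw [Scheme.isoSpec_Spec_hom] at h1
    rw [hψ, Spec.map_comp, ← Category.assoc, h1, Category.assoc, ← Spec.map_comp, Iso.inv_hom_id,
      Spec.map_id, Category.comp_id]
  haveI : IsFinite (Spec.map ψ) := by
    have : IsFinite g := inferInstance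
    rwa [hg, MorphismProperty.cancel_left_of_respectsIso @IsFinite] at this
  have hfin : ψ.hom.Finite := (IsFinite.SpecMap_iff ψ).mp inferInstance
  haveI : IsReduced (Spec R) := isReduced_of_isOpenImmersion j
  haveI : _root_.IsReduced R := (affine_isReduced_iff R).mp inferInstance
  have hB : IsPullback ((pullback f j).isoSpec.inv ≫ pullback.fst f j) (Spec.map ψ) f j := by
    have hl : IsPullback (pullback f j).isoSpec.inv (Spec.map ψ) g (𝟙 (Spec R)) :=
      IsPullback.of_horiz_isIso ⟨by rw [hg, Iso.inv_hom_id_assoc, Category.comp_id]⟩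
    have := hl.paste_horiz (IsPullback.of_hasPullback f j)
    rwa [Category.id_comp] at this
  have key := flat_lfp_SpecMap ψ hfin n (fun q y => by
    have hA := (IsPullback.of_hasPullback
      (Spec.map (CommRingCat.ofHom (algebraMap R q.asIdeal.ResidueField))) (Spec.map ψ)).flip
    exact H q.asIdeal.ResidueField _ _ _ _ (hA.paste_horiz hB) y)
  rw [hg, MorphismProperty.cancel_left_of_respectsIso @Flat,
    MorphismProperty.cancel_left_of_respectsIso @LocallyOfFinitePresentation]
  exact key

include H in
theorem flat_lfp_of_reduced : Flat f ∧ LocallyOfFinitePresentation f := by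
  have key := fun i => flat_lfp_of_openImmersion_Spec f n H (X.affineOpenCover.openCover.f i)
  exact ⟨IsZariskiLocalAtTarget.of_openCover (P := @Flat) X.affineOpenCover.openCover (fun i => (key i).1),
    IsZariskiLocalAtTarget.of_openCover (P := @LocallyOfFinitePresentation) X.affineOpenCover.openCover
      (fun i => (key i).2)⟩

end Groth.Agent.Lib.helper4.ReducedRankFlat
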