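import Mathlib

/-!
# Immersions of schemes: valuative lifting and generic lifting (helper4)

* `exists_lift_of_isReduced`: a morphism from a reduced scheme landing set-theoretically in a
  closed subscheme factors through it.
* `hasLift_of_isImmersion`: valuative lifting for immersions, given a lift of the closed point.
* `exists_open_lift_of_isImmersion`: generic lifting for immersions.
-/

set_option backward.isDefEq.respectTransparency false
set_option backward.isDefEq.respectTransparency.types false

universe u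

open CategoryTheory CategoryTheory.Limits AlgebraicGeometry

namespace Groth.Agent.Lib.Helper4.SchImmVal

/-- A morphism from a reduced scheme whose set-theoretic image lies in a closed subscheme
factors through the closed subscheme. -/
lemma exists_lift_of_isReduced {U Y V : Scheme.{u}} [IsReduced U] (i : Y ⟶ V)
    [IsClosedImmersion i] (g : U ⟶ V) (h : Set.range g ⊆ Set.range i) :
    ∃ l : U ⟶ Y, l ≫ i = g := by
  have hs : Surjective (pullback.snd i g) := by
    rw [surjective_iff, ← Set.range_eq_univ, Scheme.Pullback.range_snd]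
    rw [Set.eq_univ_iff_forall]
    intro u
    exact h ⟨u, rfl⟩
  have : IsIso (pullback.snd i g) := isIso_of_isClosedImmersion_of_surjective _
  refine ⟨inv (pullback.snd i g) ≫ pullback.fst i g, ?_⟩
  rw [Category.assoc, pullback.condition, IsIso.inv_hom_id_assoc]

/-- The image of the point of `Spec κ(R)` in `Spec R` is the closed point. -/
lemma specMap_residue_apply (R : Type u) [CommRing R] [IsLocalRing R]
    (x : Spec (CommRingCat.of (IsLocalRing.ResidueField R))) :
    Spec.map (CommRingCat.ofHom (IsLocalRing.residue R)) x = IsLocalRing.closedPoint R :=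
  IsLocalRing.PrimeSpectrum.comap_residue R x

/-- Valuative lifting for an immersion, provided the closed point lifts. -/
theorem hasLift_of_isImmersion {X Y : Scheme.{u}} (f : Y ⟶ X) [IsImmersion f]
    (S : ValuativeCommSq f)
    (h₀ : ∃ l₀ : Spec (CommRingCat.of (IsLocalRing.ResidueField S.R)) ⟶ Y,
      l₀ ≫ f = Spec.map (CommRingCat.ofHom (IsLocalRing.residue S.R)) ≫ S.i₂) :
    S.commSq.HasLift := by
  obtain ⟨l₀, hl₀⟩ := h₀
  -- the closed point maps into the range of `f`
  have hc : S.i₂ (IsLocalRing.closedPoint S.R) ∈ Set.range f := by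
    let pt : Spec (CommRingCat.of (IsLocalRing.ResidueField S.R)) :=
      IsLocalRing.closedPoint (IsLocalRing.ResidueField S.R)
    refine ⟨l₀ pt, ?_⟩
    rw [← Scheme.Hom.comp_apply, hl₀, Scheme.Hom.comp_apply, specMap_residue_apply]
  -- hence all of `Spec R` maps into the coborder
  have hV : Set.range S.i₂ ⊆ Set.range f.coborderRange.ι := by
    rintro _ ⟨p, rfl⟩
    rw [Scheme.Opens.range_ι]
    have hsp : p ⤳ IsLocalRing.closedPoint S.R := IsLocalRing.specializes_closedPoint p
    have hsp' : S.i₂ p ⤳ S.i₂ (IsLocalRing.closedPoint S.R) := hsp.map S.i₂.continuous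
    exact hsp'.mem_open f.coborderRange.2 (subset_coborder hc)
  let i₂' : Spec (CommRingCat.of S.R) ⟶ f.coborderRange :=
    IsOpenImmersion.lift f.coborderRange.ι S.i₂ hV
  have hi₂' : i₂' ≫ f.coborderRange.ι = S.i₂ := IsOpenImmersion.lift_fac _ _ _
  have hsq : CommSq S.i₁ (Spec.map (CommRingCat.ofHom (algebraMap S.R S.K)))
      f.liftCoborder i₂' := by
    constructor
    rw [← cancel_mono f.coborderRange.ι, Category.assoc, Category.assoc, hi₂',
      Scheme.Hom.liftCoborder_ι]
    exact S.commSq.w
  let S' : ValuativeCommSq f.liftCoborder := ⟨S.R, S.K, S.i₁, i₂', hsq⟩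
  have hex : ValuativeCriterion.Existence f.liftCoborder := by
    have h1 : UniversallyClosed f.liftCoborder := inferInstance
    rw [UniversallyClosed.eq_valuativeCriterion] at h1
    exact h1.1
  obtain ⟨l, hl₁, hl₂⟩ := (hex S').exists_lift
  refine ⟨⟨⟨l, hl₁, ?_⟩⟩⟩
  have h3 : l ≫ f = l ≫ f.liftCoborder ≫ f.coborderRange.ι := by rw [f.liftCoborder_ι]
  rw [h3, ← Category.assoc, hl₂]
  exact hi₂'

/-- Generic lifting for an immersion. -/
theorem exists_open_lift_of_isImmersion {X Y : Scheme.{u}} (f : Y ⟶ X) [IsImmersion f]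
    (A : Type u) [CommRing A] [IsDomain A] (s : Spec (CommRingCat.of A) ⟶ X)
    (D : Set ↥(Spec (CommRingCat.of A))) (hD : Dense D)
    (hl : ∀ p ∈ D, ∃ l : Spec ((Spec (CommRingCat.of A)).residueField p) ⟶ Y,
      l ≫ f = (Spec (CommRingCat.of A)).fromSpecResidueField p ≫ s) :
    ∃ U : (Spec (CommRingCat.of A)).Opens, (U : Set ↥(Spec (CommRingCat.of A))).Nonempty ∧
      ∃ l : (U : Scheme.{u}) ⟶ Y, l ≫ f = U.ι ≫ s := by
  have hDr : ∀ p ∈ D, s p ∈ Set.range f := by
    intro p hp
    obtain ⟨l, hl⟩ := hl p hp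
    refine ⟨l (IsLocalRing.closedPoint _), ?_⟩
    rw [← Scheme.Hom.comp_apply, hl, Scheme.Hom.comp_apply, Scheme.fromSpecResidueField_apply]
  let V := f.coborderRange
  let U : (Spec (CommRingCat.of A)).Opens := s ⁻¹ᵁ V
  have hne : (U : Set ↥(Spec (CommRingCat.of A))).Nonempty := by
    obtain ⟨p, hp⟩ := hD.nonempty
    exact ⟨p, subset_coborder (hDr p hp)⟩
  refine ⟨U, hne, ?_⟩
  let g : (U : Scheme.{u}) ⟶ V := s ∣_ V
  have hg : g ≫ V.ι = U.ι ≫ s := morphismRestrict_ι s V
  have hrange : Set.range g ⊆ Set.range f.liftCoborder := by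
    let C : Set ↥(U : Scheme.{u}) := g ⁻¹' Set.range f.liftCoborder
    have hC : IsClosed C :=
      f.liftCoborder.isClosedEmbedding.isClosed_range.preimage g.continuous
    have hdense : Dense (U.ι ⁻¹' D) := hD.preimage U.ι.isOpenEmbedding.isOpenMap
    have hsub : U.ι ⁻¹' D ⊆ C := by
      intro u hu
      obtain ⟨y, hy⟩ := hDr _ hu
      refine ⟨y, ?_⟩
      apply V.ι.isEmbedding.injective
      rw [← Scheme.Hom.comp_apply, ← Scheme.Hom.comp_apply, Scheme.Hom.liftCoborder_ι, hg, hy]
      rfl
    have hCu : C = Set.univ := by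
      rw [← Set.univ_subset_iff, ← hdense.closure_eq]
      exact hC.closure_subset_iff.mpr hsub
    rintro _ ⟨u, rfl⟩
    have : u ∈ C := by rw [hCu]; trivial
    exact this
  obtain ⟨l, hl⟩ := exists_lift_of_isReduced f.liftCoborder g hrange
  refine ⟨l, ?_⟩
  have h3 : l ≫ f = l ≫ f.liftCoborder ≫ f.coborderRange.ι := by rw [f.liftCoborder_ι]
  rw [h3, ← Category.assoc, hl, hg]

end Groth.Agent.Lib.Helper4.SchImmVal
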