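import Mathlib

/-!
# Reflecting specializations: base changes locally of finite type suffice (helper4)

If the projections `Y ×_X X' ⟶ X'` reflect specializations for all `X' ⟶ X` locally of finite
type, they do so for all `X' ⟶ X`.  The proof writes an affine chart of `X'` as the limit of its
finitely generated subalgebras and uses that basic opens descend to a finite level.
-/

set_option backward.isDefEq.respectTransparency false
set_option backward.isDefEq.respectTransparency.types false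

universe u

open CategoryTheory CategoryTheory.Limits AlgebraicGeometry TensorProduct

namespace Groth.Agent.Lib.Helper4.SchReflLim

/-- Every point of a scheme lies in an affine chart. -/
lemma exists_affine_chart (Z : Scheme.{u}) (z : Z) :
    ∃ (R : CommRingCat.{u}) (j : Spec R ⟶ Z), IsOpenImmersion j ∧ z ∈ Set.range j :=
  ⟨Z.affineOpenCover.X (Z.affineOpenCover.idx z), Z.affineOpenCover.f _, inferInstance,
    Z.affineOpenCover.covers z⟩

section Algebra

variable (A B C : Type u) [CommRing A] [CommRing B] [CommRing C] [Algebra A B] [Algebra A C]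

/-- The map `C ⊗ B₀ → C ⊗ B` for a subalgebra `B₀`. -/
noncomputable abbrev tmap (B₀ : Subalgebra A B) : C ⊗[A] B₀ →ₐ[A] C ⊗[A] B :=
  Algebra.TensorProduct.map (AlgHom.id A C) B₀.val

/-- Every element of `C ⊗ B` comes from `C ⊗ B₀` for a finitely generated subalgebra `B₀`. -/
lemma exists_fg_subalgebra_tmul (h : C ⊗[A] B) :
    ∃ B₀ : Subalgebra A B, B₀.FG ∧ ∃ h₀ : C ⊗[A] B₀, tmap A B C B₀ h₀ = h := by
  induction h using TensorProduct.induction_on with
  | zero => exact ⟨⊥, Subalgebra.fg_bot, 0, map_zero _⟩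
  | tmul c b =>
    refine ⟨Algebra.adjoin A {b}, Subalgebra.fg_adjoin_finset {b} |> fun h => by simpa using h,
      c ⊗ₜ ⟨b, Algebra.subset_adjoin (Set.mem_singleton b)⟩, ?_⟩
    simp [tmap]
  | add x y hx hy =>
    obtain ⟨B₁, hB₁, x₀, hx₀⟩ := hx
    obtain ⟨B₂, hB₂, y₀, hy₀⟩ := hy
    refine ⟨B₁ ⊔ B₂, hB₁.sup hB₂,
      Algebra.TensorProduct.map (AlgHom.id A C) (Subalgebra.inclusion le_sup_left) x₀ +
      Algebra.TensorProduct.map (AlgHom.id A C) (Subalgebra.inclusion le_sup_right) y₀, ?_⟩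
    rw [map_add, ← hx₀, ← hy₀]
    congr 1
    · rw [← AlgHom.comp_apply, ← Algebra.TensorProduct.map_comp]
      rfl
    · rw [← AlgHom.comp_apply, ← Algebra.TensorProduct.map_comp]
      rfl

/-- Core lemma: opens of `Spec (C ⊗ B)` descend to a finite level around a point. -/
lemma exists_fg_open (W : Set (PrimeSpectrum (C ⊗[A] B))) (hW : IsOpen W)
    (q : PrimeSpectrum (C ⊗[A] B)) (hq : q ∈ W) :
    ∃ B₀ : Subalgebra A B, B₀.FG ∧ ∃ W₀ : Set (PrimeSpectrum (C ⊗[A] B₀)), IsOpen W₀ ∧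
      PrimeSpectrum.comap (tmap A B C B₀).toRingHom q ∈ W₀ ∧
      PrimeSpectrum.comap (tmap A B C B₀).toRingHom ⁻¹' W₀ ⊆ W := by
  obtain ⟨_, ⟨h, rfl⟩, hqh, hhW⟩ :=
    PrimeSpectrum.isTopologicalBasis_basic_opens.exists_subset_of_mem_open hq hW
  obtain ⟨B₀, hB₀, h₀, hh₀⟩ := exists_fg_subalgebra_tmul A B C h
  refine ⟨B₀, hB₀, PrimeSpectrum.basicOpen h₀, (PrimeSpectrum.basicOpen h₀).2, ?_, ?_⟩
  · change (tmap A B C B₀) h₀ ∉ q.asIdeal
    rw [hh₀]
    exact hqh
  · intro p hp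
    apply hhW
    have : (tmap A B C B₀) h₀ ∉ p.asIdeal := hp
    rw [hh₀] at this
    exact this

end Algebra


/-- A pullback square stays a pullback square after composing with a monomorphism. -/
lemma isPullback_comp_mono {𝒞 : Type*} [Category 𝒞] {P X' Y' S S' : 𝒞} {a : P ⟶ X'} {b : P ⟶ Y'}
    {c : X' ⟶ S} {d : Y' ⟶ S} (h : IsPullback a b c d) (i : S ⟶ S') [Mono i] :
    IsPullback a b (c ≫ i) (d ≫ i) :=
  ⟨⟨by rw [← Category.assoc, h.w, Category.assoc]⟩,
    ⟨PullbackCone.isLimitOfCompMono c d i _ h.isLimit⟩⟩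

section Chart

variable {X Y : Scheme.{u}} (f : Y ⟶ X) {A C : Type u} [CommRing A] [CommRing C] [Algebra A C]
  (jU : Spec (CommRingCat.of A) ⟶ X) [IsOpenImmersion jU]
  (jV : Spec (CommRingCat.of C) ⟶ Y) [IsOpenImmersion jV]
  (hV : jV ≫ f = Spec.map (CommRingCat.ofHom (algebraMap A C)) ≫ jU)

/-- The structure map of `Spec B'` for an `A`-algebra `B'`. -/
noncomputable abbrev gB (B' : Type u) [CommRing B'] [Algebra A B'] :
    Spec (CommRingCat.of B') ⟶ X :=
  Spec.map (CommRingCat.ofHom (algebraMap A B')) ≫ jU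

/-- `Spec` of the left inclusion `C → C ⊗ B'`. -/
noncomputable abbrev sL (A C : Type u) [CommRing A] [CommRing C] [Algebra A C]
    (B' : Type u) [CommRing B'] [Algebra A B'] :
    Spec (CommRingCat.of (C ⊗[A] B')) ⟶ Spec (CommRingCat.of C) :=
  Spec.map (CommRingCat.ofHom (S := C ⊗[A] B') Algebra.TensorProduct.includeLeftRingHom)

/-- `Spec` of the right inclusion `B' → C ⊗ B'`. -/
noncomputable abbrev sR (A C : Type u) [CommRing A] [CommRing C] [Algebra A C]
    (B' : Type u) [CommRing B'] [Algebra A B'] :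
    Spec (CommRingCat.of (C ⊗[A] B')) ⟶ Spec (CommRingCat.of B') :=
  Spec.map (CommRingCat.ofHom (S := C ⊗[A] B') Algebra.TensorProduct.includeRight.toRingHom)

lemma isPullback_sL_sR (B' : Type u) [CommRing B'] [Algebra A B'] :
    IsPullback (sL A C B') (sR A C B') (Spec.map (CommRingCat.ofHom (algebraMap A C)))
      (Spec.map (CommRingCat.ofHom (algebraMap A B'))) :=
  isPullback_SpecMap_of_isPushout _ _ _ _ (CommRingCat.isPushout_tensorProduct A C B')

include hV in
lemma tau_w (B' : Type u) [CommRing B'] [Algebra A B'] :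
    (sL A C B' ≫ jV) ≫ f = sR A C B' ≫ gB jU B' := by
  rw [Category.assoc, hV, ← Category.assoc, (isPullback_sL_sR (A := A) (C := C) B').w,
    Category.assoc]

/-- The chart `Spec (C ⊗ B') ⟶ Y ×_X Spec B'`. -/
noncomputable def tau (B' : Type u) [CommRing B'] [Algebra A B'] :
    Spec (CommRingCat.of (C ⊗[A] B')) ⟶ pullback f (gB jU B') :=
  pullback.lift (sL A C B' ≫ jV) (sR A C B') (tau_w f jU jV hV B')

lemma tau_fst (B' : Type u) [CommRing B'] [Algebra A B'] :
    tau f jU jV hV B' ≫ pullback.fst f (gB jU B') = sL A C B' ≫ jV :=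
  pullback.lift_fst _ _ _

lemma tau_snd (B' : Type u) [CommRing B'] [Algebra A B'] :
    tau f jU jV hV B' ≫ pullback.snd f (gB jU B') = sR A C B' :=
  pullback.lift_snd _ _ _

lemma isPullback_tau (B' : Type u) [CommRing B'] [Algebra A B'] :
    IsPullback (tau f jU jV hV B') (sL A C B') (pullback.fst f (gB jU B')) jV := by
  have t : IsPullback (pullback.snd f (gB jU B')) (pullback.fst f (gB jU B')) (gB jU B') f :=
    (IsPullback.of_hasPullback f (gB jU B')).flip
  have s0 := (isPullback_comp_mono (isPullback_sL_sR (A := A) (C := C) B') jU).flip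
  have s : IsPullback (tau f jU jV hV B' ≫ pullback.snd f (gB jU B')) (sL A C B')
      (gB jU B') (jV ≫ f) := by
    rw [tau_snd, hV]
    exact s0
  exact IsPullback.of_right s (tau_fst f jU jV hV B') t

instance (B' : Type u) [CommRing B'] [Algebra A B'] : IsOpenImmersion (tau f jU jV hV B') :=
  MorphismProperty.of_isPullback (P := @IsOpenImmersion) (isPullback_tau f jU jV hV B').flip
    inferInstance

end Chart


/-- The hypothesis: base changes along `g` reflect specializations. -/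
def Reflects {X Y : Scheme.{u}} (f : Y ⟶ X) {X' : Scheme.{u}} (g : X' ⟶ X) : Prop :=
  ∀ (y₀ y₁ : ↥(pullback f g)),
    (pullback.snd f g) y₁ ⤳ (pullback.snd f g) y₀ → y₁ ⤳ y₀

section Main

variable {X Y X' : Scheme.{u}} (f : Y ⟶ X) (g : X' ⟶ X)
  (h : ∀ (X'' : Scheme.{u}) (g'' : X'' ⟶ X) [LocallyOfFiniteType g''], Reflects f g'')
  {A B C : Type u} [CommRing A] [CommRing B] [CommRing C] [Algebra A B] [Algebra A C]
  (jU : Spec (CommRingCat.of A) ⟶ X) [IsOpenImmersion jU]
  (jV : Spec (CommRingCat.of C) ⟶ Y) [IsOpenImmersion jV]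
  (jT : Spec (CommRingCat.of B) ⟶ X') [IsOpenImmersion jT]
  (hV : jV ≫ f = Spec.map (CommRingCat.ofHom (algebraMap A C)) ≫ jU)
  (hT : jT ≫ g = Spec.map (CommRingCat.ofHom (algebraMap A B)) ≫ jU)

include h hV hT in
theorem reflects_aux (y₀ y₁ : ↥(pullback f g))
    (hs : (pullback.snd f g) y₁ ⤳ (pullback.snd f g) y₀)
    (c : Spec (CommRingCat.of C)) (hc : jV c = pullback.fst f g y₀)
    (b : Spec (CommRingCat.of B)) (hb : jT b = pullback.snd f g y₀) : y₁ ⤳ y₀ := by
  rw [specializes_iff_forall_open]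
  intro W hW hy₀W
  let gT : Spec (CommRingCat.of B) ⟶ X := gB jU B
  let κ : pullback f gT ⟶ pullback f g :=
    pullback.map f gT f g (𝟙 Y) jT (𝟙 X) (by simp) (by simp [gT, hT])
  have hκfst : κ ≫ pullback.fst f g = pullback.fst f gT := by simp [κ]
  have hκsnd : κ ≫ pullback.snd f g = pullback.snd f gT ≫ jT := by simp [κ]
  have hκr : Set.range κ =
      pullback.fst f g ⁻¹' Set.range (𝟙 Y : Y ⟶ Y) ∩ pullback.snd f g ⁻¹' Set.range jT :=
    Scheme.Pullback.range_map ..
  obtain ⟨y₀', hy₀'⟩ : y₀ ∈ Set.range κ := by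
    rw [hκr]
    exact ⟨⟨_, rfl⟩, ⟨b, hb⟩⟩
  have h1T : pullback.snd f g y₁ ∈ Set.range jT :=
    hs.mem_open jT.isOpenEmbedding.isOpen_range ⟨b, hb⟩
  obtain ⟨y₁', hy₁'⟩ : y₁ ∈ Set.range κ := by
    rw [hκr]
    exact ⟨⟨_, rfl⟩, h1T⟩
  let τB := tau f jU jV hV B
  have hfst₀ : pullback.fst f gT y₀' = jV c := by
    rw [hc, ← hy₀', ← Scheme.Hom.comp_apply, hκfst]
  obtain ⟨q, hq, -⟩ := Scheme.exists_preimage_of_isPullback
    (isPullback_tau f jU jV hV B) y₀' c hfst₀
  let ι := τB ≫ κ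
  have hW' : IsOpen (ι ⁻¹' W) := hW.preimage ι.continuous
  have hqW : q ∈ ι ⁻¹' W := by
    change ι q ∈ W
    rw [Scheme.Hom.comp_apply]
    change κ (tau f jU jV hV B q) ∈ W
    rw [hq, hy₀']
    exact hy₀W
  obtain ⟨B₀, hB₀, W₀, hW₀, hqW₀, hsub⟩ := exists_fg_open A B C (ι ⁻¹' W) hW' q hqW
  have hft : Algebra.FiniteType A B₀ := (Subalgebra.fg_iff_finiteType B₀).mp hB₀
  let g'' : Spec (CommRingCat.of B₀) ⟶ X := gB jU B₀
  have hlft : LocallyOfFiniteType g'' := by
    have : LocallyOfFiniteType (Spec.map (CommRingCat.ofHom (algebraMap A B₀))) := by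
      rw [HasRingHomProperty.Spec_iff (P := @LocallyOfFiniteType)]
      exact RingHom.finiteType_algebraMap.mpr hft
    infer_instance
  let r : Spec (CommRingCat.of B) ⟶ Spec (CommRingCat.of B₀) :=
    Spec.map (CommRingCat.ofHom B₀.val.toRingHom)
  have hr : r ≫ g'' = gT := by
    simp only [g'', gT, gB, r]
    rw [← Category.assoc, ← Spec.map_comp]
    rfl
  let ρ : pullback f gT ⟶ pullback f g'' :=
    pullback.map f gT f g'' (𝟙 Y) r (𝟙 X) (by simp) (by simp [hr])
  have hρfst : ρ ≫ pullback.fst f g'' = pullback.fst f gT := by simp [ρ]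
  have hρsnd : ρ ≫ pullback.snd f g'' = pullback.snd f gT ≫ r := by simp [ρ]
  let θ : Spec (CommRingCat.of (C ⊗[A] B)) ⟶ Spec (CommRingCat.of (C ⊗[A] B₀)) :=
    Spec.map (CommRingCat.ofHom (tmap A B C B₀).toRingHom)
  let τ₀ := tau f jU jV hV B₀
  have hθL : θ ≫ sL A C B₀ = sL A C B := by
    simp only [θ, sL]
    rw [← Spec.map_comp]
    congr 1
  have hθR : θ ≫ sR A C B₀ = sR A C B ≫ r := by
    simp only [θ, sR, r]
    rw [← Spec.map_comp, ← Spec.map_comp]
    congr 1
  have hcomm : τB ≫ ρ = θ ≫ τ₀ := by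
    apply pullback.hom_ext
    · rw [Category.assoc, hρfst, Category.assoc, tau_fst, tau_fst, ← Category.assoc, hθL]
    · rw [Category.assoc, hρsnd, Category.assoc, tau_snd, ← Category.assoc, tau_snd, hθR]
  -- specialization at the finite level
  have hspec : ρ y₁' ⤳ ρ y₀' := by
    apply h _ g''
    rw [← Scheme.Hom.comp_apply, ← Scheme.Hom.comp_apply, hρsnd, Scheme.Hom.comp_apply,
      Scheme.Hom.comp_apply]
    apply Specializes.map _ r.continuous
    rw [← jT.isOpenEmbedding.isInducing.specializes_iff]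
    have e0 : jT (pullback.snd f gT y₀') = pullback.snd f g y₀ := by
      rw [← Scheme.Hom.comp_apply, ← hκsnd, Scheme.Hom.comp_apply, hy₀']
    have e1 : jT (pullback.snd f gT y₁') = pullback.snd f g y₁ := by
      rw [← Scheme.Hom.comp_apply, ← hκsnd, Scheme.Hom.comp_apply, hy₁']
    rw [e0, e1]
    exact hs
  have hW''open : IsOpen (τ₀ '' W₀) := τ₀.isOpenEmbedding.isOpenMap _ hW₀
  have hτq : ρ y₀' = τ₀ (θ q) := by
    rw [← Scheme.Hom.comp_apply, ← hcomm, Scheme.Hom.comp_apply]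
    change _ = ρ (tau f jU jV hV B q)
    rw [hq]
  have h0 : ρ y₀' ∈ τ₀ '' W₀ := ⟨θ q, hqW₀, hτq.symm⟩
  have h1 : ρ y₁' ∈ τ₀ '' W₀ := hspec.mem_open hW''open h0
  obtain ⟨w, hwW₀, hw⟩ := h1
  have hfst₁ : pullback.fst f gT y₁' = jV (sL A C B₀ w) := by
    have e1 : pullback.fst f g'' (ρ y₁') = pullback.fst f gT y₁' := by
      rw [← Scheme.Hom.comp_apply, hρfst]
    rw [← e1, ← hw, ← Scheme.Hom.comp_apply, ← Scheme.Hom.comp_apply]
    change (tau f jU jV hV B₀ ≫ pullback.fst f (gB jU B₀)) w = _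
    rw [tau_fst]
  obtain ⟨q₁, hq₁, -⟩ := Scheme.exists_preimage_of_isPullback
    (isPullback_tau f jU jV hV B) y₁' _ hfst₁
  have hθq₁ : θ q₁ = w := by
    apply τ₀.isOpenEmbedding.injective
    rw [← Scheme.Hom.comp_apply, ← hcomm, Scheme.Hom.comp_apply]
    change ρ (tau f jU jV hV B q₁) = _
    rw [hq₁, hw]
  have hq₁W : q₁ ∈ ι ⁻¹' W := by
    apply hsub
    change θ q₁ ∈ W₀
    rw [hθq₁]
    exact hwW₀
  have hιq₁ : ι q₁ = y₁ := by
    rw [Scheme.Hom.comp_apply]
    change κ (tau f jU jV hV B q₁) = _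
    rw [hq₁, hy₁']
  rw [← hιq₁]
  exact hq₁W

end Main


/-- A chart of `Y` around `y` mapping into the chart `jU` of `X`. -/
lemma exists_chart_over {X Y : Scheme.{u}} (f : Y ⟶ X) {RA : CommRingCat.{u}} (jU : Spec RA ⟶ X)
    [IsOpenImmersion jU] (y : Y) (a : Spec RA) (hy : f y = jU a) :
    ∃ (RC : CommRingCat.{u}) (jV : Spec RC ⟶ Y) (φ : RA ⟶ RC), IsOpenImmersion jV ∧
      jV ≫ f = Spec.map φ ≫ jU ∧ y ∈ Set.range jV := by
  obtain ⟨z, hz₁, -⟩ := Scheme.Pullback.exists_preimage_pullback (f := f) (g := jU) y a hy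
  obtain ⟨RC, j, hj, c, hc⟩ := exists_affine_chart (pullback f jU) z
  refine ⟨RC, j ≫ pullback.fst f jU, Spec.preimage (j ≫ pullback.snd f jU), inferInstance, ?_,
    ⟨c, ?_⟩⟩
  · rw [Spec.map_preimage, Category.assoc, Category.assoc, pullback.condition]
  · rw [Scheme.Hom.comp_apply, hc, hz₁]

/-- If the projections `Y ×_X X' ⟶ X'` reflect specializations for all `X' ⟶ X` locally of
finite type, then they do so for all `X' ⟶ X`. -/
theorem reflects_of_lft {X Y : Scheme.{u}} (f : Y ⟶ X)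
    (h : ∀ (X' : Scheme.{u}) (g : X' ⟶ X) [LocallyOfFiniteType g] (y₀ y₁ : ↥(pullback f g)),
      (pullback.snd f g).base y₁ ⤳ (pullback.snd f g).base y₀ → y₁ ⤳ y₀)
    (X' : Scheme.{u}) (g : X' ⟶ X) (y₀ y₁ : ↥(pullback f g))
    (hs : (pullback.snd f g).base y₁ ⤳ (pullback.snd f g).base y₀) : y₁ ⤳ y₀ := by
  obtain ⟨RA, jU, hjU, a, ha⟩ := exists_affine_chart X (g (pullback.snd f g y₀))
  obtain ⟨RB, jT, φB, hjT, hT, b, hb⟩ := exists_chart_over g jU (pullback.snd f g y₀) a ha.symm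
  have hfy : f (pullback.fst f g y₀) = jU a := by
    rw [← Scheme.Hom.comp_apply, pullback.condition, Scheme.Hom.comp_apply, ha]
  obtain ⟨RC, jV, φC, hjV, hV, c, hc⟩ := exists_chart_over f jU (pullback.fst f g y₀) a hfy
  algebraize [φB.hom, φC.hom]
  exact reflects_aux (A := RA) (B := RB) (C := RC) f g (fun X'' g'' _ y₀ y₁ hs => h X'' g'' y₀ y₁ hs)
    jU jV jT hV hT y₀ y₁ hs c hc b hb

end Groth.Agent.Lib.Helper4.SchReflLim
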