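import Mathlib
import Groth.Agent.S4450
import Groth.Agent.Lib.Helper4.SchMonoVal
import Groth.Agent.Lib.Helper4.SchReflLim

/-!
# Monomorphisms into locally Noetherian schemes: lifting for discrete valuation rings implies
reflecting specializations universally (helper4)
-/

set_option backward.isDefEq.respectTransparency false
set_option backward.isDefEq.respectTransparency.types false

universe u

open CategoryTheory CategoryTheory.Limits AlgebraicGeometry IsLocalRing

namespace Groth.Agent.Lib.Helper4.SchNoethRefl

open Groth.Agent.Lib.Helper4.SchMonoVal Groth.Agent.Lib.Helper4.SchReflLim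

/-- Lifting for discrete valuation rings implies reflecting specializations after a base change
to a locally Noetherian scheme. -/
theorem reflects_of_dvr_noeth {X Y : Scheme.{u}} (f : Y ⟶ X) [Mono f]
    (hb : ∀ S : ValuativeCommSq f, IsDiscreteValuationRing S.R →
        (∃ l₀ : Spec (CommRingCat.of (IsLocalRing.ResidueField S.R)) ⟶ Y,
            l₀ ≫ f = Spec.map (CommRingCat.ofHom (IsLocalRing.residue S.R)) ≫ S.i₂) →
          S.commSq.HasLift)
    (X' : Scheme.{u}) [IsLocallyNoetherian X'] (g : X' ⟶ X) (y₀ y₁ : ↥(pullback f g))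
    (hs : (pullback.snd f g) y₁ ⤳ (pullback.snd f g) y₀) : y₁ ⤳ y₀ := by
  by_cases heq : (pullback.snd f g) y₀ = (pullback.snd f g) y₁
  · have : y₀ = y₁ := (pullback.snd f g).injective heq
    rw [this]
  · obtain ⟨A, h, hA, hcl, hgen⟩ := Groth.Agent.S4450.result (𝟙 X') ((pullback.snd f g) y₁)
      ((pullback.snd f g) y₀) (by simpa using hs) (by simpa using heq)
    obtain ⟨i₁, hi₁⟩ := exists_lift_field_of_mono (pullback.snd f g)
      (X'.residueField ((pullback.snd f g) y₁)) (X'.fromSpecResidueField _) y₁
      (Scheme.fromSpecResidueField_apply _ _)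
    have hi₁pt : i₁ (closedPoint _) = y₁ :=
      lift_apply_of_mono (pullback.snd f g) _ i₁ hi₁ _ y₁ (Scheme.fromSpecResidueField_apply _ _)
    have hsq : i₁ ≫ pullback.snd f g =
        Spec.map (CommRingCat.ofHom (algebraMap A (X'.residueField ((pullback.snd f g) y₁)))) ≫
          h := by
      rw [hi₁]
      have h2 : X'.fromSpecResidueField ((pullback.snd f g) y₁) =
          Spec.map (CommRingCat.ofHom A.subtype) ≫ h := by simpa using hgen.symm
      exact h2
    let S : ValuativeCommSq f :=
      { R := A, K := X'.residueField ((pullback.snd f g) y₁),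
        i₁ := i₁ ≫ pullback.fst f g, i₂ := h ≫ g,
        commSq := ⟨by rw [Category.assoc, pullback.condition, ← Category.assoc, hsq,
          Category.assoc]⟩ }
    exact specializes_of_hasLift f g y₀ y₁ S h rfl i₁ rfl hsq hi₁pt hcl (hb S hA)

/-- Let `X` be locally Noetherian and `f : Y ⟶ X` a monomorphism with lifting for discrete
valuation rings (given a lift of the closed point).  Then every base change of `f` reflects
specializations. -/
theorem reflects_of_dvr {X Y : Scheme.{u}} [IsLocallyNoetherian X] (f : Y ⟶ X) [Mono f]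
    (hb : ∀ S : ValuativeCommSq f, IsDiscreteValuationRing S.R →
        (∃ l₀ : Spec (CommRingCat.of (IsLocalRing.ResidueField S.R)) ⟶ Y,
            l₀ ≫ f = Spec.map (CommRingCat.ofHom (IsLocalRing.residue S.R)) ≫ S.i₂) →
          S.commSq.HasLift) :
    ∀ (X' : Scheme.{u}) (g : X' ⟶ X) (y₀ y₁ : ↥(pullback f g)),
        (pullback.snd f g).base y₁ ⤳ (pullback.snd f g).base y₀ → y₁ ⤳ y₀ := by
  apply reflects_of_lft f
  intro X' g _ y₀ y₁ hs
  have : IsLocallyNoetherian X' := LocallyOfFiniteType.isLocallyNoetherian g
  exact reflects_of_dvr_noeth f hb X' g y₀ y₁ hs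

end Groth.Agent.Lib.Helper4.SchNoethRefl
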