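import Groth.Agent.Lib.Helper14.QuotRel2

/-!
# Descent of cartesian squares along epimorphisms of sheaves of sets (helper4)

In the category of sheaves of sets on a site:

* `isIso_of_isPullback_of_epi`: if the base change of `g : C ⟶ P` along an epimorphism `q : P' ⟶ P` is an
  isomorphism then `g` is an isomorphism.
* `isPullback_of_left_of_outer_of_epi`: the converse of the pasting lemma along an epimorphism: if the left
  square and the outer rectangle are cartesian and the bottom left map is an epimorphism then the right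
  square is cartesian.
-/

set_option autoImplicit false

universe w v₁ u₁

open CategoryTheory CategoryTheory.Limits Opposite

namespace Groth.Agent.Lib.helper4.SheafPBDescent

variable {C : Type u₁} [Category.{v₁} C] {J : GrothendieckTopology C} [HasSheafify J (Type w)]

omit [HasSheafify J (Type w)] in
/-- Sections of a cartesian square of sheaves of sets: existence of the pair. -/
theorem exists_of_isPullback {X' Y' X Y : Sheaf J (Type w)} {f' : X' ⟶ Y'}
    {i₁ : X' ⟶ X} {i₂ : Y' ⟶ Y} {f : X ⟶ Y} (h : IsPullback f' i₁ i₂ f) (V : C)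
    (y' : Y'.obj.obj (op V)) (x : X.obj.obj (op V))
    (e : i₂.hom.app (op V) y' = f.hom.app (op V) x) :
    ∃ z : X'.obj.obj (op V), f'.hom.app (op V) z = y' ∧ i₁.hom.app (op V) z = x := by
  have hV := h.map (sheafToPresheaf J (Type w) ⋙ (evaluation Cᵒᵖ (Type w)).obj (op V))
  obtain ⟨z, hz1, hz2⟩ := Types.exists_of_isPullback hV y' x e
  exact ⟨z, hz1, hz2⟩

/-- If the base change of `g` along an epimorphism `q` of sheaves of sets is an isomorphism, then `g` is an
isomorphism. -/
theorem isIso_of_isPullback_of_epi {A Cc P' P : Sheaf J (Type w)} {ac : A ⟶ Cc} {ψ : A ⟶ P'}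
    {g : Cc ⟶ P} {q : P' ⟶ P} (h : IsPullback ac ψ g q) [Epi q] [IsIso ψ] : IsIso g := by
  have hq : Sheaf.IsLocallySurjective q := (Sheaf.isLocallySurjective_iff_epi q).2 inferInstance
  -- `g` is an epimorphism
  have hepi : Epi g := by
    have : Epi (ψ ≫ q) := epi_comp _ _
    have : Epi (ac ≫ g) := by rw [h.w]; infer_instance
    exact epi_of_epi ac g
  -- `g` is a monomorphism
  have hmono : Mono g := by
    suffices hinj : ∀ U : Cᵒᵖ, Function.Injective (g.hom.app U) by
      have h1 : Mono g.hom := by
        have : ∀ U : Cᵒᵖ, Mono (g.hom.app U) := fun U => (mono_iff_injective _).2 (hinj U)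
        exact NatTrans.mono_of_mono_app _
      exact Sheaf.Hom.mono_of_presheaf_mono J (Type w) g
    intro U c₁ c₂ hc
    obtain ⟨U⟩ := U
    refine (((isSheaf_iff_isSheaf_of_type J Cc.obj).1 Cc.2).isSeparated
      _ (Presheaf.imageSieve_mem J q.hom (g.hom.app (op U) c₁))).ext ?_
    rintro V f ⟨s', hs'⟩
    have e1 : q.hom.app (op V) s' = g.hom.app (op V) (Cc.obj.map f.op c₁) := by
      rw [hs']; exact (NatTrans.naturality_apply g.hom f.op c₁).symm
    have e2 : q.hom.app (op V) s' = g.hom.app (op V) (Cc.obj.map f.op c₂) := by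
      rw [hs', hc]; exact (NatTrans.naturality_apply g.hom f.op c₂).symm
    obtain ⟨a₁, ha₁, hb₁⟩ := exists_of_isPullback h.flip V s' _ e1
    obtain ⟨a₂, ha₂, hb₂⟩ := exists_of_isPullback h.flip V s' _ e2
    have hψ : Function.Injective (ψ.hom.app (op V)) := by
      have : IsIso ψ.hom := (inferInstance : IsIso ((sheafToPresheaf J (Type w)).map ψ))
      have : IsIso (ψ.hom.app (op V)) := inferInstance
      exact ((isIso_iff_bijective _).1 this).1
    have : a₁ = a₂ := hψ (ha₁.trans ha₂.symm)
    rw [← hb₁, ← hb₂, this]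
  exact isIso_of_mono_of_epi g

/-- Converse of the pasting lemma for cartesian squares of sheaves of sets along an epimorphism. -/
theorem isPullback_of_left_of_outer_of_epi {A B Cc D E F : Sheaf J (Type w)}
    {ac : A ⟶ Cc} {ab : A ⟶ B} {cd : Cc ⟶ D} {bd : B ⟶ D} {ce : Cc ⟶ E} {df : D ⟶ F} {ef : E ⟶ F}
    (hl : IsPullback ac ab cd bd) (hcomm : cd ≫ df = ce ≫ ef)
    (hout : IsPullback (ac ≫ ce) ab ef (bd ≫ df)) [Epi bd] :
    IsPullback ce cd ef df := by
  have hP := IsPullback.of_hasPullback ef df
  set p1 := pullback.fst ef df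
  set p2 := pullback.snd ef df
  let g : Cc ⟶ pullback ef df := pullback.lift ce cd hcomm.symm
  have hg1 : g ≫ p1 = ce := pullback.lift_fst _ _ _
  have hg2 : g ≫ p2 = cd := pullback.lift_snd _ _ _
  have hP' := IsPullback.of_hasPullback p2 bd
  set q1 := pullback.fst p2 bd
  set q2 := pullback.snd p2 bd
  -- the pasted square
  have hpaste : IsPullback (q1 ≫ p1) q2 ef (bd ≫ df) := hP'.paste_horiz hP
  let ψ : A ⟶ pullback p2 bd := pullback.lift (ac ≫ g) ab (by rw [Category.assoc, hg2, hl.w])
  have hψ1 : ψ ≫ q1 = ac ≫ g := pullback.lift_fst _ _ _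
  have hψ2 : ψ ≫ q2 = ab := pullback.lift_snd _ _ _
  -- `ψ` is the comparison isomorphism of two pullbacks of the same cospan
  have hψiso : IsIso ψ := by
    have e : ψ = (hout.isoIsPullback _ _ hpaste).hom := by
      apply hpaste.hom_ext
      · rw [IsPullback.isoIsPullback_hom_fst, ← Category.assoc, hψ1, Category.assoc, hg1]
      · rw [IsPullback.isoIsPullback_hom_snd, hψ2]
    rw [e]; infer_instance
  -- the square `A, C, P', P` is cartesian
  have htop : IsPullback ac ψ g q1 := by
    refine IsPullback.of_bot ?_ hψ1.symm hP'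
    rw [hψ2, hg2]
    exact hl
  have hq1 : Epi q1 := by
    have : Sheaf.IsLocallySurjective bd := (Sheaf.isLocallySurjective_iff_epi bd).2 inferInstance
    have : Sheaf.IsLocallySurjective q1 :=
      Groth.Agent.Lib.Helper14.QuotRel.isLocallySurjective_of_isPullback hP'
    exact (Sheaf.isLocallySurjective_iff_epi q1).1 inferInstance
  have hgiso : IsIso g := isIso_of_isPullback_of_epi htop
  exact IsPullback.of_iso_pullback ⟨hcomm.symm⟩ (asIso g) hg1 hg2

end Groth.Agent.Lib.helper4.SheafPBDescent
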