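import Mathlib
import Groth.Agent.Lib.Helper4.FibIsoModel
import Groth.Agent.Lib.Helper4.AlgStDescentFamU
import Groth.Agent.Lib.Helper4.SpQuot11
import Groth.Agent.Lib.Helper4.AlgStSelf
import Groth.Agent.Lib.Helper4.AlgStGlue2
import Groth.Agent.StkFp

/-!
# The base change of the diagonal of a stack over `(Sch/S)` is the category of a sheaf (helper4)
-/

set_option backward.isDefEq.respectTransparency false
set_option backward.isDefEq.respectTransparency.types false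
set_option autoImplicit false
set_option linter.style.haveILetI false
set_option linter.unusedSectionVars false
set_option linter.unusedVariables false
set_option linter.unusedSimpArgs false

universe w v u

open CategoryTheory CategoryTheory.Limits AlgebraicGeometry
open AlgSt Opposite FibCat

namespace Groth.Agent.Lib.helper4.SpBGDiag

open Groth.Agent.FibEquiv Groth.Agent.Lib.helper4.FibPaste Groth.Agent.Lib.helper4.DiagBC
open Groth.Agent.Lib.helper4.FibEqDiag Groth.Agent.Lib.helper4.FibIsoModel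
open Groth.Agent.Lib.helper4.PshOfSetoid

variable {S : Scheme.{u}}

section General

variable {C : Type u} [Category.{v} C]
universe v₂ u₂ v₃ u₃ v₄ u₄

instance diag_faithful {𝒳 : BasedCategory.{v₂, u₂} C} : (FibCat.diag (toSelf 𝒳)).toFunctor.Faithful where
  map_injective {a b} m m' h := congrArg (fun k => k.hom.fst) h

theorem fpFst_faithful {𝒜 : BasedCategory.{v₃, u₃} C} {ℬ : BasedCategory.{v₂, u₂} C}
    {𝒞 : BasedCategory.{v₄, u₄} C} (F : 𝒜 ⥤ᵇ 𝒞) (G : ℬ ⥤ᵇ 𝒞)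
    [G.toFunctor.Faithful] : (fpFst F G).toFunctor.Faithful where
  map_injective {t t'} μ μ' h := by
    have h' : μ.hom.fst = μ'.hom.fst := h
    apply fp_hom_ext
    · exact h'
    · apply G.toFunctor.map_injective
      have w1 : G.toFunctor.map μ.hom.snd = t.obj.iso.inv ≫ F.toFunctor.map μ.hom.fst ≫ t'.obj.iso.hom := by
        rw [Iso.eq_inv_comp]; exact μ.hom.w.symm
      have w2 : G.toFunctor.map μ'.hom.snd = t.obj.iso.inv ≫ F.toFunctor.map μ'.hom.fst ≫ t'.obj.iso.hom := by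
        rw [Iso.eq_inv_comp]; exact μ'.hom.w.symm
      rw [w1, w2, h']

end General

/-- **T2**: the base change of the diagonal of a stack along a pair of objects over a scheme is the category of a
sheaf -/
theorem exists_sheaf_chart {𝒳 : BasedCategory.{u + 1, w} (Over S)} (h𝒳 : Stk.IsStack (AlgSp.J S) 𝒳) {U : Over S}
    (y : overCat U ⥤ᵇ fp (toSelf 𝒳) (toSelf 𝒳)) :
    ∃ (I : AlgSp.Sp S) (E : ofSp I ⥤ᵇ fp y (FibCat.diag (toSelf 𝒳))), IsEquivOver E := by
  have hself : Stk.IsStack (AlgSp.J S) (selfOver (Over S)) :=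
    Groth.Agent.Lib.helper4.AlgStSelf.isAlgStack_selfOver.isStack
  have hover : Stk.IsStack (AlgSp.J S) (overCat U) :=
    (Groth.Agent.Lib.helper4.AlgStSelf.isAlgStack_overCat U).isStack
  have h𝒮 : Stk.IsStack (AlgSp.J S) (fp (toSelf 𝒳) (toSelf 𝒳)) :=
    Groth.Agent.StkFp.isStack_fp _ _ (AlgSp.J S) h𝒳 h𝒳 (Groth.Agent.StkFp.isPrestack_of_isStack _ hself)
  have h𝒲 : Stk.IsStack (AlgSp.J S) (fp y (FibCat.diag (toSelf 𝒳))) :=
    Groth.Agent.StkFp.isStack_fp _ _ (AlgSp.J S) hover h𝒳 (Groth.Agent.StkFp.isPrestack_of_isStack _ h𝒮)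
  haveI := fpFst_faithful y (FibCat.diag (toSelf 𝒳))
  have hthin := Groth.Agent.StkLib.thin_source (fpFst y (FibCat.diag (toSelf 𝒳)))
    (Groth.Agent.Lib.helper4.AlgStSetoid.thin_overCat U)
  have hset𝒲 : IsFibSetoid (fp y (FibCat.diag (toSelf 𝒳))).p := ⟨h𝒲.1, hthin⟩
  obtain ⟨𝒥, Φ, hΦ⟩ := exists_model y
  have hset𝒥 : IsFibSetoid 𝒥.p := Groth.Agent.StkLib.isFibSetoid_of_isEquivOver Φ hΦ hset𝒲
  have hst𝒥 : Stk.IsStack (AlgSp.J S) 𝒥 :=
    (Groth.Agent.StkLib.isStack_iff_of_isEquivOver' (AlgSp.J S) Φ hΦ).2 h𝒲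
  have hsh : Presieve.IsSheaf (AlgSp.J S) (clsPsh hset𝒥.1) :=
    Groth.Agent.Lib.Helper4.AlgStGlue.isSheaf_clsPsh _ hset𝒥 hst𝒥
  let I : AlgSp.Sp S := ⟨clsPsh hset𝒥.1, (isSheaf_iff_isSheaf_of_type _ _).2 hsh⟩
  obtain ⟨Ei, ⟨γ⟩, ⟨δ⟩⟩ := toCls_isEquivOver hset𝒥
  have hEi : IsEquivOver Ei := isEquivOver_symm γ δ
  exact ⟨I, BasedFunctor.comp Ei Φ, isEquivOver_comp _ _ hEi hΦ⟩

end Groth.Agent.Lib.helper4.SpBGDiag
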