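import Mathlib
import Groth.Agent.Lib.Helper4.SpQuot6
import Groth.Agent.Lib.Helper4.AlgStLocQ2

/-!
# Consequences: S13593, S13595 and the second half of S18328 (helper4)
-/

set_option backward.isDefEq.respectTransparency false
set_option backward.isDefEq.respectTransparency.types false
set_option autoImplicit false
set_option linter.style.haveILetI false
set_option linter.unusedSectionVars false
set_option linter.unusedVariables false
set_option linter.unusedSimpArgs false

universe w v u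

open CategoryTheory CategoryTheory.Limits MonoidalCategory CartesianMonoidalCategory MonObj GrpObj AlgebraicGeometry
open AlgSt Opposite FibCat

namespace Groth.Agent.Lib.helper4.SpQuot

variable {S : Scheme.{u}}

/-- the inclusion of a full subcategory on a property that always holds is an equivalence over the base -/
theorem isEquivOver_subIncl_of_forall (𝒳 : BasedCategory.{v, w} (Over S)) (Q : 𝒳.obj → Prop)
    (h : ∀ x, Q x) : FibCat.IsEquivOver (AlgSt.subIncl 𝒳 Q) := by
  haveI : (AlgSt.subIncl 𝒳 Q).toFunctor.Full := by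
    change (ObjectProperty.ι Q).Full
    infer_instance
  haveI : (AlgSt.subIncl 𝒳 Q).toFunctor.Faithful := by
    change (ObjectProperty.ι Q).Faithful
    infer_instance
  refine Groth.Agent.FibEquiv.isEquivOver_of _ (fun x0 => ⟨⟨x0, h x0⟩, Iso.refl _, ?_⟩)
  exact IsHomLift.id rfl

variable {B : AlgSp.Sp S} {G : Over B} [GrpObj G] {X : Over B} {aX : AlgSp.GAction G X}

/-- S13593 -/
theorem isEquivOver_subIncl_spBG (hB : AlgSp.IsAlgSpace B) (hG : AlgSp.IsAlgSpace G.left) :
    FibCat.IsEquivOver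
      (AlgSt.subIncl (AlgSt.SpBG Scheme.fppfPrecoverage G) (fun A => AlgSp.IsAlgSpace A.P.left)) :=
  isEquivOver_subIncl_of_forall _ _ (fun A => isAlgSpace_torsor hB hG A)

/-- the canonical map has every property of `G ⟶ B` that is stable under base change and fppf local on the base -/
theorem repByAlgSpWith_spQuotMap_of_local (hB : AlgSp.IsAlgSpace B) (hG : AlgSp.IsAlgSpace G.left)
    (P : MorphismProperty (AlgSp.Sp S))
    (hPb : ∀ ⦃X₁ Y₁ X₂ Y₂ : AlgSp.Sp S⦄, AlgSp.IsAlgSpace X₁ → AlgSp.IsAlgSpace Y₁ → AlgSp.IsAlgSpace X₂ →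
      AlgSp.IsAlgSpace Y₂ → ∀ (a : X₁ ⟶ Y₁) (b : Y₂ ⟶ Y₁) (a' : X₂ ⟶ Y₂) (b' : X₂ ⟶ X₁),
      IsPullback b' a' a b → P a → P a')
    (hP : AlgSp.IsLocalOnBase AlgSp.IsFppfCover P) (hPG : P G.hom) :
    AlgSt.RepByAlgSpWith P (spQuotMap Scheme.fppfPrecoverage G aX) := by
  refine repByAlgSpWith_spQuotMap hB hG P (fun {U} y => ?_)
  have h1 : P (A₀ y).π.left := prop_π hB hG P hPb hP hPG (A₀ y)
  have hiso : IsIso ((AlgSp.yon S).map (eqToHom (hU y))) := inferInstance
  have hA : AlgSp.IsAlgSpace (A₀ y).P.left := isAlgSpace_torsor hB hG (A₀ y)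
  refine hPb hA (AlgSp.IsAlgSpace.yon_obj _) hA (AlgSp.IsAlgSpace.yon_obj U) (A₀ y).π.left
    (inv ((AlgSp.yon S).map (eqToHom (hU y)))) (πU y) (𝟙 _) ?_ h1
  refine IsPullback.of_horiz_isIso ⟨?_⟩
  unfold πU
  simp

/-- S13595 -/
theorem smooth_surjective_spQuotMap (hB : AlgSp.IsAlgSpace B) (hG : AlgSp.IsAlgSpace G.left)
    (hs : AlgSp.LocP @Smooth G.hom) :
    AlgSt.RepByAlgSpWith (AlgSp.LocP @Smooth) (AlgSt.spQuotMap Scheme.fppfPrecoverage G aX) ∧
      AlgSt.RepByAlgSpWith AlgSp.IsSurjectiveMor (AlgSt.spQuotMap Scheme.fppfPrecoverage G aX) := by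
  constructor
  · exact repByAlgSpWith_spQuotMap_of_local hB hG _
      (fun X₁ Y₁ X₂ Y₂ h1 h2 _ h4 a b a' b' sq ha =>
        Groth.Agent.Lib.helper5.LocPBC.locP_of_isPullback Groth.Agent.Lib.helper5.LocPBC.locPData_smooth h1 h2 h4
          sq ha)
      Groth.Agent.Lib.helper4.AlgStLocQ.isLocalOnBase_smooth' hs
  · refine repByAlgSpWith_spQuotMap_of_local hB hG _
      (fun X₁ Y₁ X₂ Y₂ _ _ _ _ a b a' b' sq ha z => by
        obtain ⟨x, hx⟩ := ha (AlgSp.Points.map b z)
        obtain ⟨w, -, hw⟩ := Groth.Agent.Lib.helper10.exists_point_of_isPullback sq x z hx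
        exact ⟨w, hw⟩)
      Groth.Agent.Lib.helper4.AlgStSource.isLocalOnBase_isSurjectiveMor ?_
    -- `G ⟶ B` is surjective, having the unit section
    intro z
    have h : (η[G]).left ≫ G.hom = 𝟙 B := by
      have := Over.w (η[G])
      simpa using this
    refine ⟨AlgSp.Points.map (η[G]).left z, ?_⟩
    rw [← AlgSp.Points.map_comp, h]
    exact AlgSp.Points.map_id z

end Groth.Agent.Lib.helper4.SpQuot
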