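import Groth.Agent.StkFp
import Groth.Agent.Lib.Helper4.Descent
set_option autoImplicit false
set_option backward.isDefEq.respectTransparency false
set_option backward.isDefEq.respectTransparency.types false
set_option linter.unusedSectionVars false
set_option linter.style.haveILetI false
open CategoryTheory CategoryTheory.Functor CategoryTheory.Limits
universe v₆ u₆ v₅ u₅ v₄ u₄ v₃ u₃ v₂ u₂ v u

/-! A category `𝒳` fibred in groupoids with a functor `π : 𝒳 ⟶ 𝒴` to a stack all of whose "fibres"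
`(C/U) ×_𝒴 𝒳` are stacks is itself a stack (`isStack_of_fibres`); sieve-by-sieve and
full / faithful / essentially surjective versions (`restr_*_of_fibres`). -/

namespace Groth.Agent.Lib.helper4.StkFibres
open Groth.Agent.StkFp Groth.Agent.StkLib Groth.Agent.Lib.helper4

variable {C : Type u} [Category.{v} C] {𝒳 : BasedCategory.{v₂, u₂} C} {𝒴 : BasedCategory.{v₃, u₃} C}

/-- a 2-morphism between functors into a category fibred in groupoids is invertible -/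
noncomputable def isoOfTrans (h𝒴 : FibCat.IsFibGrpd 𝒴.p) {𝒜 : BasedCategory.{v₅, u₅} C} {F G : 𝒜 ⥤ᵇ 𝒴}
    (α : F ⟶ G) : F ≅ G :=
  BasedNatIso.mkNatIso
    (NatIso.ofComponents (fun a =>
        haveI : 𝒴.p.IsHomLift (𝟙 (𝒜.p.obj a)) (α.toNatTrans.app a) := α.isHomLift' a
        haveI : IsIso (α.toNatTrans.app a) := Descent.isIso_of_lift h𝒴 (𝟙 (𝒜.p.obj a)) _
        asIso (α.toNatTrans.app a)) (fun f => α.toNatTrans.naturality f))
    (fun a => α.isHomLift' a)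

theorem isoOfTrans_hom_app (h𝒴 : FibCat.IsFibGrpd 𝒴.p) {𝒜 : BasedCategory.{v₅, u₅} C} {F G : 𝒜 ⥤ᵇ 𝒴}
    (α : F ⟶ G) (a : 𝒜.obj) : (isoOfTrans h𝒴 α).hom.toNatTrans.app a = α.toNatTrans.app a := rfl

theorem isoOfTrans_inv_hom_app (h𝒴 : FibCat.IsFibGrpd 𝒴.p) {𝒜 : BasedCategory.{v₅, u₅} C} {F G : 𝒜 ⥤ᵇ 𝒴}
    (α : F ⟶ G) (a : 𝒜.obj) :
    (isoOfTrans h𝒴 α).inv.toNatTrans.app a ≫ α.toNatTrans.app a = 𝟙 _ :=
  congrArg (fun k => k.toNatTrans.app a) (isoOfTrans h𝒴 α).inv_hom_id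

variable (π : 𝒳 ⥤ᵇ 𝒴) {𝒜 : BasedCategory.{v₅, u₅} C} {ℬ : BasedCategory.{v₆, u₆} C} (ι : 𝒜 ⥤ᵇ ℬ)

theorem restr_essSurj_of_fibres (h𝒴 : (Stk.restr ι 𝒴).EssSurj)
    (hfib : ∀ y : ℬ ⥤ᵇ 𝒴, (Stk.restr ι (FibCat.fp y π)).EssSurj) : (Stk.restr ι 𝒳).EssSurj := by
  refine ⟨fun G => ?_⟩
  let y : ℬ ⥤ᵇ 𝒴 := (Stk.restr ι 𝒴).objPreimage (BasedFunctor.comp G π)
  let iy : BasedFunctor.comp ι y ≅ BasedFunctor.comp G π := (Stk.restr ι 𝒴).objObjPreimageIso _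
  let G' : 𝒜 ⥤ᵇ FibCat.fp y π := FibCat.fpLift ι G iy
  haveI := hfib y
  let K : ℬ ⥤ᵇ FibCat.fp y π := (Stk.restr ι (FibCat.fp y π)).objPreimage G'
  let k : BasedFunctor.comp ι K ≅ G' := (Stk.restr ι (FibCat.fp y π)).objObjPreimageIso _
  exact ⟨BasedFunctor.comp K (FibCat.fpSnd y π), ⟨whiskerRightIsoB k (FibCat.fpSnd y π)⟩⟩

theorem restr_faithful_of_fibres (h𝒴g : FibCat.IsFibGrpd 𝒴.p) (h𝒴 : (Stk.restr ι 𝒴).Faithful)
    (hfib : ∀ y : ℬ ⥤ᵇ 𝒴, (Stk.restr ι (FibCat.fp y π)).Faithful) : (Stk.restr ι 𝒳).Faithful := by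
  refine ⟨fun {H₁ H₂} θ θ' h => ?_⟩
  let y : ℬ ⥤ᵇ 𝒴 := BasedFunctor.comp H₂ π
  let σ : BasedFunctor.comp H₁ π ⟶ y := BasedCategory.whiskerRight θ π
  let σ' : BasedFunctor.comp H₁ π ⟶ y := BasedCategory.whiskerRight θ' π
  have hσ : σ = σ' := by
    apply (Stk.restr ι 𝒴).map_injective
    refine BasedNatTrans.homCategory.ext _ _ (NatTrans.ext (funext fun a => ?_))
    exact congrArg (fun k => π.toFunctor.map (k.toNatTrans.app a)) h
  let τ : BasedFunctor.comp H₁ π ≅ y := isoOfTrans h𝒴g σ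
  let K₂ : ℬ ⥤ᵇ FibCat.fp y π := FibCat.fpLift (BasedFunctor.id ℬ) H₂ (Iso.refl y)
  let K₁ : ℬ ⥤ᵇ FibCat.fp y π := FibCat.fpLift (BasedFunctor.id ℬ) H₁ τ.symm
  have c1 : ∀ b : ℬ.obj, y.toFunctor.map (𝟙 b) ≫ 𝟙 (y.toFunctor.obj b) =
      τ.inv.toNatTrans.app b ≫ π.toFunctor.map (θ.toNatTrans.app b) := fun b => by
    rw [CategoryTheory.Functor.map_id, Category.comp_id]
    exact (isoOfTrans_inv_hom_app h𝒴g σ b).symm
  have c2 : ∀ b : ℬ.obj, y.toFunctor.map (𝟙 b) ≫ 𝟙 (y.toFunctor.obj b) =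
      τ.inv.toNatTrans.app b ≫ π.toFunctor.map (θ'.toNatTrans.app b) := fun b => by
    rw [CategoryTheory.Functor.map_id, Category.comp_id]
    have e : σ.toNatTrans.app b = σ'.toNatTrans.app b := congrArg (fun k => k.toNatTrans.app b) hσ
    exact (isoOfTrans_inv_hom_app h𝒴g σ b).symm.trans (congrArg (fun k => τ.inv.toNatTrans.app b ≫ k) e)
  let Θ : K₁ ⟶ K₂ := mkTrans y π (𝟙 (BasedFunctor.id ℬ)) θ c1
  let Θ' : K₁ ⟶ K₂ := mkTrans y π (𝟙 (BasedFunctor.id ℬ)) θ' c2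
  haveI := hfib y
  have hΘ : Θ = Θ' := by
    apply (Stk.restr ι (FibCat.fp y π)).map_injective
    refine BasedNatTrans.homCategory.ext _ _ (NatTrans.ext (funext fun a => ?_))
    apply ObjectProperty.hom_ext
    apply CategoricalPullback.hom_ext
    · rfl
    · exact congrArg (fun k => k.toNatTrans.app a) h
  refine BasedNatTrans.homCategory.ext _ _ (NatTrans.ext (funext fun b => ?_))
  exact congrArg (fun k => (k.toNatTrans.app b).hom.snd) hΘ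

theorem restr_full_of_fibres (h𝒴g : FibCat.IsFibGrpd 𝒴.p) (h𝒴 : (Stk.restr ι 𝒴).Full)
    (hfib : ∀ y : ℬ ⥤ᵇ 𝒴, (Stk.restr ι (FibCat.fp y π)).Full) : (Stk.restr ι 𝒳).Full := by
  refine ⟨fun {H₁ H₂} δ => ?_⟩
  let y : ℬ ⥤ᵇ 𝒴 := BasedFunctor.comp H₂ π
  let δπ : (Stk.restr ι 𝒴).obj (BasedFunctor.comp H₁ π) ⟶ (Stk.restr ι 𝒴).obj y :=
    BasedCategory.whiskerRight δ π
  obtain ⟨σ, hσ⟩ := (Stk.restr ι 𝒴).map_surjective δπ
  have hσa : ∀ a : 𝒜.obj, σ.toNatTrans.app (ι.toFunctor.obj a) = π.toFunctor.map (δ.toNatTrans.app a) :=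
    fun a => congrArg (fun k => k.toNatTrans.app a) hσ
  let τ : BasedFunctor.comp H₁ π ≅ y := isoOfTrans h𝒴g σ
  let K₂ : ℬ ⥤ᵇ FibCat.fp y π := FibCat.fpLift (BasedFunctor.id ℬ) H₂ (Iso.refl y)
  let K₁ : ℬ ⥤ᵇ FibCat.fp y π := FibCat.fpLift (BasedFunctor.id ℬ) H₁ τ.symm
  have c1 : ∀ a : 𝒜.obj, y.toFunctor.map (𝟙 (ι.toFunctor.obj a)) ≫ 𝟙 (y.toFunctor.obj (ι.toFunctor.obj a)) =
      τ.inv.toNatTrans.app (ι.toFunctor.obj a) ≫ π.toFunctor.map (δ.toNatTrans.app a) := fun a => by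
    rw [CategoryTheory.Functor.map_id, Category.comp_id, ← hσa a]
    exact (isoOfTrans_inv_hom_app h𝒴g σ _).symm
  let Δ : (Stk.restr ι (FibCat.fp y π)).obj K₁ ⟶ (Stk.restr ι (FibCat.fp y π)).obj K₂ :=
    mkTrans y π (𝟙 ι) δ c1
  haveI := hfib y
  obtain ⟨Θ, hΘ⟩ := (Stk.restr ι (FibCat.fp y π)).map_surjective Δ
  refine ⟨BasedCategory.whiskerRight Θ (FibCat.fpSnd y π), ?_⟩
  refine BasedNatTrans.homCategory.ext _ _ (NatTrans.ext (funext fun a => ?_))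
  exact congrArg (fun k => (k.toNatTrans.app a).hom.snd) hΘ

theorem restr_isEquivalence_of_fibres (h𝒴g : FibCat.IsFibGrpd 𝒴.p) (h𝒴 : (Stk.restr ι 𝒴).IsEquivalence)
    (hfib : ∀ y : ℬ ⥤ᵇ 𝒴, (Stk.restr ι (FibCat.fp y π)).IsEquivalence) : (Stk.restr ι 𝒳).IsEquivalence :=
  { faithful := restr_faithful_of_fibres π ι h𝒴g inferInstance (fun y => (hfib y).faithful)
    full := restr_full_of_fibres π ι h𝒴g inferInstance (fun y => (hfib y).full)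
    essSurj := restr_essSurj_of_fibres π ι inferInstance (fun y => (hfib y).essSurj) }

/-- stack condition for one sieve from the base and the fibres -/
theorem isStackFor_of_fibres (h𝒴g : FibCat.IsFibGrpd 𝒴.p) {U : C} (R : Sieve U) (hY : Stk.IsStackFor R 𝒴)
    (hfib : ∀ y : FibCat.overCat U ⥤ᵇ 𝒴, Stk.IsStackFor R (FibCat.fp y π)) : Stk.IsStackFor R 𝒳 :=
  restr_isEquivalence_of_fibres π (Stk.sieveIncl R) h𝒴g hY hfib

/-- a category fibred in groupoids over a stack, all of whose fibres over slices are stacks, is a stack -/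
theorem isStack_of_fibres (J : GrothendieckTopology C) (h𝒳 : FibCat.IsFibGrpd 𝒳.p) (h𝒴 : Stk.IsStack J 𝒴)
    (hfib : ∀ (U : C) (y : FibCat.overCat U ⥤ᵇ 𝒴), Stk.IsStack J (FibCat.fp y π)) : Stk.IsStack J 𝒳 :=
  ⟨h𝒳, fun U R hR => isStackFor_of_fibres π h𝒴.1 R (h𝒴.2 R hR) (fun y => (hfib U y).2 R hR)⟩

end Groth.Agent.Lib.helper4.StkFibres
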