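import Mathlib
import Groth.Agent.Lib.Helper4.SpBGDiag1
import Groth.Agent.Lib.Helper4.SpQuot7
import Groth.Agent.Lib.Helper4.StkFibres

/-!
# Local charts of the base change of the diagonal of `[X/G]` when `X` has at most one section over every scheme (helper4)
-/

set_option backward.isDefEq.respectTransparency false
set_option backward.isDefEq.respectTransparency.types false
set_option autoImplicit false
set_option linter.style.haveILetI false
set_option linter.unusedSectionVars false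
set_option linter.unusedVariables false
set_option linter.unusedSimpArgs false

universe w v u

open CategoryTheory CategoryTheory.Limits MonoidalCategory CartesianMonoidalCategory MonObj GrpObj AlgebraicGeometry
open AlgSt Opposite FibCat

namespace Groth.Agent.Lib.helper4.SpBGDiag

open Groth.Agent.FibEquiv Groth.Agent.Lib.helper4.FibPaste Groth.Agent.Lib.helper4.DiagBC
open Groth.Agent.Lib.helper4.FibEqDiag Groth.Agent.Lib.helper4.FibIsoModel
open Groth.Agent.Lib.helper4.SpQuot Groth.Agent.FibYoneda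

variable {S : Scheme.{u}}

/-- the category of a sheaf with at most one section over every scheme has exactly one morphism over every morphism of
the base -/
theorem hT_of_subsingleton (F : AlgSp.Sp S) (hF : ∀ T : Over S, Subsingleton (F.obj.obj (op T)))
    (w w' : (ofSp F).obj) (k : (ofSp F).p.obj w ⟶ (ofSp F).p.obj w') :
    ∃! m : w ⟶ w', (ofSp F).p.map m = k := by
  refine ⟨⟨k, (hF _).elim _ _⟩, rfl, fun m hm => ?_⟩
  apply Stk.EltObj.hom_ext
  exact hm

variable {B : AlgSp.Sp S} {G : Over B} [GrpObj G] {X : Over B} {aX : AlgSp.GAction G X}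


section Chart

variable {V : Over S} (y' : overCat V ⥤ᵇ fp (toSelf (SpQuotSt Scheme.fppfPrecoverage G aX)) (toSelf (SpQuotSt Scheme.fppfPrecoverage G aX)))
  (c : overCat V ⥤ᵇ ofSp X.left)
  (τ : BasedFunctor.comp y' (fpSnd (toSelf (SpQuotSt Scheme.fppfPrecoverage G aX)) (toSelf (SpQuotSt Scheme.fppfPrecoverage G aX))) ≅ BasedFunctor.comp c (spQuotMap Scheme.fppfPrecoverage G aX))
  (hT : ∀ (w w' : (ofSp X.left).obj) (k : (ofSp X.left).p.obj w ⟶ (ofSp X.left).p.obj w'),
    ∃! m : w ⟶ w', (ofSp X.left).p.map m = k)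

/-- the chart of the base change of the diagonal attached to a trivialisation of the second torsor -/
noncomputable def chart : ofSp (A₀ (x₁ y')).P.left ⥤ᵇ fp y' (FibCat.diag (toSelf (SpQuotSt Scheme.fppfPrecoverage G aX))) :=
  BasedFunctor.comp (FibCat.fpLift (πF (x₁ y')) (φF (x₁ y')) (αNat (x₁ y'))) (Lam y' (spQuotMap Scheme.fppfPrecoverage G aX) c τ hT)

theorem chart_isEquivOver : IsEquivOver (chart y' c τ hT) :=
  isEquivOver_comp _ _ (isEquivOver_fpLift (x₁ y')) (Lam_isEquivOver y' (spQuotMap Scheme.fppfPrecoverage G aX) c τ hT)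

theorem chart_fst : BasedFunctor.comp (chart y' c τ hT) (fpFst y' (FibCat.diag (toSelf (SpQuotSt Scheme.fppfPrecoverage G aX)))) = πF (x₁ y') := rfl

end Chart

section Triv

variable (hT : ∀ (w w' : (ofSp X.left).obj) (k : (ofSp X.left).p.obj w ⟶ (ofSp X.left).p.obj w'),
    ∃! m : w ⟶ w', (ofSp X.left).p.map m = k)
  {U : Over S} (y : overCat U ⥤ᵇ fp (toSelf (SpQuotSt Scheme.fppfPrecoverage G aX))
    (toSelf (SpQuotSt Scheme.fppfPrecoverage G aX)))
  (w : (ofSp (A₀ (x₂ y)).P.left).obj)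

include hT in
/-- over a point of the second torsor, the second torsor is trivial -/
theorem exists_triv : ∃ (c : overCat w.base ⥤ᵇ ofSp X.left),
    Nonempty (BasedFunctor.comp (BasedFunctor.comp (overMap (SpQuot.τ (x₂ y) w)) y)
        (fpSnd (toSelf (SpQuotSt Scheme.fppfPrecoverage G aX)) (toSelf (SpQuotSt Scheme.fppfPrecoverage G aX))) ≅
      BasedFunctor.comp c (spQuotMap Scheme.fppfPrecoverage G aX)) := by
  let h : w.base ⟶ U := SpQuot.τ (x₂ y) w
  let y' := BasedFunctor.comp (overMap h) y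
  let a₀ : (ofSp X.left).obj := (φF (x₂ y)).obj w
  let c : overCat w.base ⥤ᵇ ofSp X.left := BasedFunctor.comp (ofOverCat w.base) (ofSpMap (secYon a₀))
  have h𝒳 : IsFibGrpd (SpQuotSt Scheme.fppfPrecoverage G aX).p := isFibGrpd_spQuotSt
  have hH : PreservesStronglyCartesian (BasedFunctor.comp c (spQuotMap Scheme.fppfPrecoverage G aX)) := by
    intro R S' f a b φ hφ
    have h0 := hφ.toIsHomLift
    have h1 := BasedFunctor.preserves_isHomLift (BasedFunctor.comp c (spQuotMap Scheme.fppfPrecoverage G aX)) f φ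
    exact Groth.Agent.FibFpProj.isStronglyCartesian_of_isFibGrpd _ h𝒳 f
      ((BasedFunctor.comp c (spQuotMap Scheme.fppfPrecoverage G aX)).toFunctor.map φ)
  let k₀ : (overMap h).toFunctor.obj (Over.mk (𝟙 w.base)) ⟶ Over.mk h := Over.homMk (𝟙 w.base) (by simp [overMap])
  let μ₁ := (x₂ y).toFunctor.map k₀
  have l1 : (SpQuotSt Scheme.fppfPrecoverage G aX).p.IsHomLift (𝟙 w.base) μ₁ := map_hom_isHomLift (x₂ y) k₀
  let μ₂ := (αIso (x₂ y) w).hom
  have l2 : (SpQuotSt Scheme.fppfPrecoverage G aX).p.IsHomLift (𝟙 w.base) μ₂ := αIso_lift (x₂ y) w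
  let d : a₀ ≅ c.toFunctor.obj (Over.mk (𝟙 w.base)) := uIso hT _ _ rfl
  let μ₃ := (spQuotMap Scheme.fppfPrecoverage G aX).toFunctor.map d.hom
  have l3 : (SpQuotSt Scheme.fppfPrecoverage G aX).p.IsHomLift (𝟙 w.base) μ₃ := by
    have : (ofSp X.left).p.IsHomLift (𝟙 w.base) d.hom := uIso_isHomLift hT _ _ _
    exact BasedFunctor.preserves_isHomLift (spQuotMap Scheme.fppfPrecoverage G aX) (𝟙 w.base) d.hom
  have l4 : (SpQuotSt Scheme.fppfPrecoverage G aX).p.IsHomLift (𝟙 w.base) (μ₁ ≫ μ₂ ≫ μ₃) := inferInstance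
  obtain ⟨α, -⟩ := exists_of_app_id (G := x₂ y') (H := BasedFunctor.comp c (spQuotMap Scheme.fppfPrecoverage G aX))
    hH (μ₁ ≫ μ₂ ≫ μ₃)
  exact ⟨c, ⟨Groth.Agent.Lib.helper4.StkFibres.isoOfTrans h𝒳 α⟩⟩

end Triv

end Groth.Agent.Lib.helper4.SpBGDiag
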