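import Mathlib
import Groth.Agent.Lib.Helper4.SpBGDiag2

/-!
# The diagonal of `[X/G]` (`X` with at most one section over every scheme, e.g. `BG`) is representable by algebraic spaces with
every property of `G ⟶ B` stable under base change and fppf local on the base (helper4)
-/

set_option backward.isDefEq.respectTransparency false
set_option backward.isDefEq.respectTransparency.types false
set_option autoImplicit false
set_option linter.style.haveILetI false
set_option linter.unusedSectionVars false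
set_option linter.unusedVariables false
set_option linter.unusedSimpArgs false

universe w v u

open CategoryTheory CategoryTheory.Limits MonoidalCategory CartesianMonoidalCategory MonObj GrpObj AlgebraicGeometry
open AlgSt Opposite FibCat

namespace Groth.Agent.Lib.helper4.SpBGDiag

open Groth.Agent.FibEquiv Groth.Agent.Lib.helper4.FibPaste Groth.Agent.Lib.helper4.DiagBC
open Groth.Agent.Lib.helper4.FibEqDiag Groth.Agent.Lib.helper4.FibIsoModel
open Groth.Agent.Lib.helper4.SpQuot Groth.Agent.FibYoneda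

variable {S : Scheme.{u}} {B : AlgSp.Sp S} {G : Over B} [GrpObj G] {X : Over B} {aX : AlgSp.GAction G X}

/-- the structure map `P ⟶ h_U` of the torsor classified by `y` has every property of `G ⟶ B` stable under base change and
fppf local on the base -/
theorem prop_πU (hB : AlgSp.IsAlgSpace B) (hG : AlgSp.IsAlgSpace G.left)
    (P : MorphismProperty (AlgSp.Sp S))
    (hPb : ∀ ⦃X₁ Y₁ X₂ Y₂ : AlgSp.Sp S⦄, AlgSp.IsAlgSpace X₁ → AlgSp.IsAlgSpace Y₁ → AlgSp.IsAlgSpace X₂ →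
      AlgSp.IsAlgSpace Y₂ → ∀ (a : X₁ ⟶ Y₁) (b : Y₂ ⟶ Y₁) (a' : X₂ ⟶ Y₂) (b' : X₂ ⟶ X₁),
      IsPullback b' a' a b → P a → P a')
    (hP : AlgSp.IsLocalOnBase AlgSp.IsFppfCover P) (hPG : P G.hom) {U : Over S}
    (y : FibCat.overCat U ⥤ᵇ SpQuotSt Scheme.fppfPrecoverage G aX) : P (πU y) := by
  have h1 : P (A₀ y).π.left := prop_π hB hG P hPb hP hPG (A₀ y)
  have hiso : IsIso ((AlgSp.yon S).map (eqToHom (hU y))) := inferInstance
  have hA : AlgSp.IsAlgSpace (A₀ y).P.left := isAlgSpace_torsor hB hG (A₀ y)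
  refine hPb hA (AlgSp.IsAlgSpace.yon_obj _) hA (AlgSp.IsAlgSpace.yon_obj U) (A₀ y).π.left
    (inv ((AlgSp.yon S).map (eqToHom (hU y)))) (πU y) (𝟙 _) ?_ h1
  refine IsPullback.of_horiz_isIso ⟨?_⟩
  unfold πU
  simp

theorem τ_ofSec {U : Over S} (y : FibCat.overCat U ⥤ᵇ SpQuotSt Scheme.fppfPrecoverage G aX) {W : Over S}
    (g : W ⟶ U) (σ : (AlgSp.yon S).obj W ⟶ (A₀ y).P.left)
    (hσ : σ ≫ (A₀ y).π.left ≫ (AlgSp.yon S).map (eqToHom (hU y)) = (AlgSp.yon S).map g) :
    SpQuot.τ y (ofSec σ) = g := by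
  apply (AlgSp.yon S).map_injective
  rw [yon_map_τ, secY_ofSec]
  exact hσ

/-- the diagonal of `[X/G]` -/
theorem repByAlgSpWith_diag (hB : AlgSp.IsAlgSpace B) (hG : AlgSp.IsAlgSpace G.left)
    (hsub : ∀ T : Over S, Subsingleton (X.left.obj.obj (op T)))
    (P : MorphismProperty (AlgSp.Sp S))
    (hPb : ∀ ⦃X₁ Y₁ X₂ Y₂ : AlgSp.Sp S⦄, AlgSp.IsAlgSpace X₁ → AlgSp.IsAlgSpace Y₁ → AlgSp.IsAlgSpace X₂ →
      AlgSp.IsAlgSpace Y₂ → ∀ (a : X₁ ⟶ Y₁) (b : Y₂ ⟶ Y₁) (a' : X₂ ⟶ Y₂) (b' : X₂ ⟶ X₁),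
      IsPullback b' a' a b → P a → P a')
    (hP : AlgSp.IsLocalOnBase AlgSp.IsFppfCover P) (hPG : P G.hom) :
    AlgSt.RepByAlgSpWith P (FibCat.diag (FibCat.toSelf (SpQuotSt Scheme.fppfPrecoverage G aX))) := by
  intro U y
  have hT := hT_of_subsingleton X.left hsub
  obtain ⟨I, E, hE⟩ := exists_sheaf_chart (isStack_spQuotSt G aX) y
  have hcov := fun v : U.left => exists_cover_of_eq (A₀ (x₂ y)) (hU (x₂ y)) v
  choose W g wpt hfl hfp hpt σ hσ using hcov
  let pt : ∀ v : U.left, (ofSp (A₀ (x₂ y)).P.left).obj := fun v => ofSec (σ v)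
  have hτ : ∀ v, SpQuot.τ (x₂ y) (pt v) = g v := fun v => τ_ofSec (x₂ y) (g v) (σ v) (hσ v)
  let V : U.left → Over S := fun v => (pt v).base
  let h : ∀ v, V v ⟶ U := fun v => SpQuot.τ (x₂ y) (pt v)
  have htriv := fun v => exists_triv hT y (pt v)
  choose c τv using htriv
  let y' : ∀ v, overCat (V v) ⥤ᵇ fp (toSelf (SpQuotSt Scheme.fppfPrecoverage G aX))
      (toSelf (SpQuotSt Scheme.fppfPrecoverage G aX)) := fun v => BasedFunctor.comp (overMap (h v)) y
  let eT : ∀ v, ofSp (A₀ (x₁ (y' v))).P.left ⥤ᵇ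
      fp (y' v) (FibCat.diag (toSelf (SpQuotSt Scheme.fppfPrecoverage G aX))) :=
    fun v => chart (y' v) (c v) (τv v).some hT
  have heT : ∀ v, IsEquivOver (eT v) := fun v => chart_isEquivOver (y' v) (c v) (τv v).some hT
  have hTalg : ∀ v, AlgSp.IsAlgSpace (A₀ (x₁ (y' v))).P.left := fun v => isAlgSpace_torsor hB hG _
  have hmap : ∀ v, spMapOfOver (BasedFunctor.comp (eT v)
      (fpFst (y' v) (FibCat.diag (toSelf (SpQuotSt Scheme.fppfPrecoverage G aX))))) = πU (x₁ (y' v)) := fun v => by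
    rw [show BasedFunctor.comp (eT v) (fpFst (y' v) (FibCat.diag (toSelf (SpQuotSt Scheme.fppfPrecoverage G aX)))) =
      πF (x₁ (y' v)) from chart_fst (y' v) (c v) (τv v).some hT]
    exact spMapOfOver_πF (x₁ (y' v))
  have hPT : ∀ v, P (spMapOfOver (BasedFunctor.comp (eT v)
      (fpFst (y' v) (FibCat.diag (toSelf (SpQuotSt Scheme.fppfPrecoverage G aX)))))) := fun v => by
    rw [hmap v]
    exact prop_πU hB hG P hPb hP hPG (x₁ (y' v))
  have hsq := fun v => Groth.Agent.Lib.helper4.AlgStDescentFamU.isPullback_overMap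
    (FibCat.diag (toSelf (SpQuotSt Scheme.fppfPrecoverage G aX))) (h v) y E hE (eT v) (heT v)
  choose q hq using hsq
  have h1 : ∀ v, Flat (h v).left := fun v => by
    change Flat (SpQuot.τ (x₂ y) (pt v)).left
    rw [hτ v]; exact hfl v
  have h2 : ∀ v, LocallyOfFinitePresentation (h v).left := fun v => by
    change LocallyOfFinitePresentation (SpQuot.τ (x₂ y) (pt v)).left
    rw [hτ v]; exact hfp v
  have h3 : ∀ x : U.left, ∃ (v : U.left) (z : (V v).left), (h v).left z = x := fun x => by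
    refine ⟨x, wpt x, ?_⟩
    change (SpQuot.τ (x₂ y) (pt x)).left (wpt x) = x
    rw [hτ x]; exact hpt x
  have hI : AlgSp.IsAlgSpace I :=
    Groth.Agent.Lib.helper4.SpTorsor.isAlgSpace_of_fppf_cover_target
      (spMapOfOver (BasedFunctor.comp E (fpFst y (FibCat.diag (toSelf (SpQuotSt Scheme.fppfPrecoverage G aX))))))
      V h h1 h2 (fun x => by obtain ⟨v, z, hz⟩ := h3 x; exact ⟨v, z, hz⟩)
      (fun v => (A₀ (x₁ (y' v))).P.left) q _ hq hTalg
  refine ⟨⟨I, hI⟩, E, hE, ?_⟩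
  have hcovU := Groth.Agent.Lib.helper4.AlgStDescentFam.isFppfCover_of_family V h h1 h2 h3
  exact (hP (fun v => (AlgSp.yon S).obj (V v)) (fun v => (AlgSp.yon S).map (h v))
    (AlgSp.IsAlgSpace.yon_obj U) (fun v => AlgSp.IsAlgSpace.yon_obj (V v)) hcovU
    (spMapOfOver (BasedFunctor.comp E (fpFst y (FibCat.diag (toSelf (SpQuotSt Scheme.fppfPrecoverage G aX))))))
    hI (fun v => (A₀ (x₁ (y' v))).P.left) _ q hTalg hq).2 hPT

end Groth.Agent.Lib.helper4.SpBGDiag
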