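import Mathlib
import Groth.Agent.Lib.Helper4.SubtrNoeth

set_option backward.isDefEq.respectTransparency false
set_option backward.isDefEq.respectTransparency.types false
set_option autoImplicit false
set_option linter.style.haveILetI false
universe u

open CategoryTheory CategoryTheory.Limits AlgebraicGeometry

namespace Groth.Agent.Lib.helper4.SubtrAffSp

/-- A finite type algebra is a quotient of a polynomial ring in `n + 1` variables (indexed in the
universe of the ring). -/
theorem exists_surjective_mvPolynomial {R B : Type u} [CommRing R] [CommRing B] [Algebra R B]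
    [Algebra.FiniteType R B] :
    ∃ (n : ℕ) (σ : MvPolynomial (ULift.{u} (Fin (n + 1))) R →ₐ[R] B), Function.Surjective σ := by
  obtain ⟨n, f, hf⟩ := Algebra.FiniteType.iff_quotient_mvPolynomial''.mp
    (inferInstance : Algebra.FiniteType R B)
  let g : ULift.{u} (Fin (n + 1)) → MvPolynomial (Fin n) R := fun i =>
    Fin.lastCases (motive := fun _ => MvPolynomial (Fin n) R) 0 (fun j => MvPolynomial.X j) i.down
  refine ⟨n, f.comp (MvPolynomial.aeval g), ?_⟩
  intro b
  obtain ⟨p, rfl⟩ := hf b
  refine ⟨MvPolynomial.rename (fun j : Fin n => ULift.up (Fin.castSucc j)) p, ?_⟩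
  rw [AlgHom.comp_apply, MvPolynomial.aeval_rename]
  have : (g ∘ fun j : Fin n => ULift.up (Fin.castSucc j)) = MvPolynomial.X := by
    funext j
    simp [g]
  rw [this, MvPolynomial.aeval_X_left]
  rfl

/-- The spectrum of a quotient of a polynomial ring over `Γ(Y, W)` immerses into affine space
over `Y`. -/
theorem exists_immersion_affineSpace {Y : Scheme.{u}} {W : Y.Opens} (hW : IsAffineOpen W)
    (n : Type u) {B : Type u} [CommRing B] [Algebra Γ(Y, W) B]
    (σ : MvPolynomial n Γ(Y, W) →ₐ[Γ(Y, W)] B) (hσ : Function.Surjective σ) :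
    ∃ j : Spec (CommRingCat.of B) ⟶ AffineSpace n Y, IsPreimmersion j ∧
      j ≫ (AffineSpace n Y ↘ Y) =
        Spec.map (CommRingCat.ofHom (algebraMap Γ(Y, W) B)) ≫ hW.fromSpec := by
  haveI : IsOpenImmersion (AffineSpace.map n hW.fromSpec) :=
    MorphismProperty.of_isPullback (P := @IsOpenImmersion)
      (AffineSpace.isPullback_map (n := n) hW.fromSpec).flip inferInstance
  haveI : IsClosedImmersion (Spec.map (CommRingCat.ofHom σ.toRingHom)) :=
    IsClosedImmersion.spec_of_surjective _ hσ
  refine ⟨Spec.map (CommRingCat.ofHom σ.toRingHom) ≫ (AffineSpace.SpecIso n Γ(Y, W)).inv ≫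
    AffineSpace.map n hW.fromSpec, inferInstance, ?_⟩
  rw [Category.assoc, Category.assoc, AffineSpace.map_over, AffineSpace.SpecIso_inv_over_assoc,
    ← Spec.map_comp_assoc]
  congr 2
  ext x
  exact σ.commutes x

open Groth.Agent.Lib.helper4.SubtrBasic Groth.Agent.Lib.helper4.SubtrFG
  Groth.Agent.Lib.helper4.SubtrNoeth in
theorem univSSubtrusive_iff_forall_affineSpace {X Y : Scheme.{u}} (f : X ⟶ Y) [QuasiCompact f] :
    Subtr.UnivSSubtrusive f ↔
      ∀ n : ℕ, 0 < n →
        Subtr.IsSSubtrusive (pullback.snd f (AffineSpace (ULift.{u} (Fin n)) Y ↘ Y)) := by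
  constructor
  · intro h n _
    exact (univSSubtrusive_iff f).mp h _
  · intro H
    rw [Groth.Agent.S14768.result]
    intro V _ _ _ g
    obtain ⟨W, hW, ρ, rfl⟩ := exists_factor_of_isLocalRing V g
    letI : Algebra Γ(Y, W) V := ρ.hom.toAlgebra
    have hρ : ρ = CommRingCat.ofHom (algebraMap Γ(Y, W) V) := rfl
    rw [hρ]
    apply isSSubtrusive_of_forall_adjoin Γ(Y, W) V f hW.fromSpec
    intro s
    haveI : Algebra.FiniteType Γ(Y, W) ↥(adj Γ(Y, W) V s) :=
      (Subalgebra.fg_iff_finiteType _).mp (Subalgebra.fg_adjoin_finset s)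
    obtain ⟨n, σ, hσ⟩ := exists_surjective_mvPolynomial (R := Γ(Y, W)) (B := ↥(adj Γ(Y, W) V s))
    obtain ⟨j, hj, hjo⟩ := exists_immersion_affineSpace hW (ULift.{u} (Fin (n + 1))) σ hσ
    rw [← hjo]
    exact pullback_snd_of_isPreimmersion f _ j (H (n + 1) (Nat.succ_pos n))

end Groth.Agent.Lib.helper4.SubtrAffSp
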