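import Mathlib
import Groth.Agent.Lib.Helper4.SubtrNoeth

set_option backward.isDefEq.respectTransparency false
set_option backward.isDefEq.respectTransparency.types false
set_option autoImplicit false
set_option linter.style.haveILetI false
universe u

open CategoryTheory CategoryTheory.Limits AlgebraicGeometry

namespace Groth.Agent.Lib.helper4.SubtrChain

section Composite

variable {A : Type u} [CommRing A] [IsDomain A] [ValuationRing A]

/-- The composite of a valuation ring `A` with a valuation ring `C` of its residue field. -/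
def compSubring (C : ValuationSubring (IsLocalRing.ResidueField A)) : Subring A :=
  C.toSubring.comap (IsLocalRing.residue A)

theorem mem_compSubring (C : ValuationSubring (IsLocalRing.ResidueField A)) (a : A) :
    a ∈ compSubring C ↔ IsLocalRing.residue A a ∈ C := Iff.rfl

instance (C : ValuationSubring (IsLocalRing.ResidueField A)) : ValuationRing ↥(compSubring C) := by
  refine { cond' := ?_ }
  intro a b
  obtain ⟨c, hc | hc⟩ := ValuationRing.cond a.1 b.1
  · by_cases hcC : IsLocalRing.residue A c ∈ C
    · exact ⟨⟨c, hcC⟩, Or.inl (Subtype.ext hc)⟩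
    · have hinv : (IsLocalRing.residue A c)⁻¹ ∈ C := (C.mem_or_inv_mem _).resolve_left hcC
      have hne : IsLocalRing.residue A c ≠ 0 := fun h0 => hcC (by rw [h0]; exact C.zero_mem)
      have hu : IsUnit c := by
        by_contra hnu
        exact hne ((IsLocalRing.residue_eq_zero_iff c).mpr
          ((IsLocalRing.mem_maximalIdeal c).mpr hnu))
      obtain ⟨u, rfl⟩ := hu
      have hres : IsLocalRing.residue A (↑u⁻¹ : A) = (IsLocalRing.residue A (↑u : A))⁻¹ := by
        rw [eq_comm, inv_eq_iff_eq_inv, ← map_units_inv]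
        simp
      refine ⟨⟨(↑u⁻¹ : A), by rw [mem_compSubring, hres]; exact hinv⟩, Or.inr (Subtype.ext ?_)⟩
      show b.1 * ↑u⁻¹ = a.1
      rw [← hc, mul_assoc, Units.mul_inv, mul_one]
  · by_cases hcC : IsLocalRing.residue A c ∈ C
    · exact ⟨⟨c, hcC⟩, Or.inr (Subtype.ext hc)⟩
    · have hinv : (IsLocalRing.residue A c)⁻¹ ∈ C := (C.mem_or_inv_mem _).resolve_left hcC
      have hne : IsLocalRing.residue A c ≠ 0 := fun h0 => hcC (by rw [h0]; exact C.zero_mem)
      have hu : IsUnit c := by
        by_contra hnu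
        exact hne ((IsLocalRing.residue_eq_zero_iff c).mpr
          ((IsLocalRing.mem_maximalIdeal c).mpr hnu))
      obtain ⟨u, rfl⟩ := hu
      have hres : IsLocalRing.residue A (↑u⁻¹ : A) = (IsLocalRing.residue A (↑u : A))⁻¹ := by
        rw [eq_comm, inv_eq_iff_eq_inv, ← map_units_inv]
        simp
      refine ⟨⟨(↑u⁻¹ : A), by rw [mem_compSubring, hres]; exact hinv⟩, Or.inl (Subtype.ext ?_)⟩
      show a.1 * ↑u⁻¹ = b.1
      rw [← hc, mul_assoc, Units.mul_inv, mul_one]

end Composite

/-- **Extending a valuation ring along a specialization.** -/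
theorem exists_valuationRing_extend {Y : Scheme.{u}} (A : Type u) [CommRing A] [IsDomain A]
    [ValuationRing A] (g : Spec (CommRingCat.of A) ⟶ Y) (y : Y)
    (h : g (IsLocalRing.closedPoint A) ⤳ y) :
    ∃ (A' : Type u) (_ : CommRing A') (_ : IsDomain A') (_ : ValuationRing A') (ι : A' →+* A)
      (g' : Spec (CommRingCat.of A') ⟶ Y),
      Spec.map (CommRingCat.ofHom ι) ≫ g' = g ∧ g' (IsLocalRing.closedPoint A') = y := by
  set y' := g (IsLocalRing.closedPoint A) with hy'
  let φ : Y.presheaf.stalk y' ⟶ CommRingCat.of A := Scheme.stalkClosedPointTo g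
  have hφ : Spec.map φ ≫ Y.fromSpecStalk y' = g := Scheme.Spec_stalkClosedPointTo_fromSpecStalk g
  let ψ : Y.presheaf.stalk y ⟶ CommRingCat.of A := Y.presheaf.stalkSpecializes h ≫ φ
  have hψ : Spec.map ψ ≫ Y.fromSpecStalk y = g := by
    rw [Spec.map_comp, Category.assoc, Scheme.SpecMap_stalkSpecializes_fromSpecStalk h, hφ]
  let ψbar : Y.presheaf.stalk y →+* IsLocalRing.ResidueField A :=
    (IsLocalRing.residue A).comp ψ.hom
  obtain ⟨C, hC, hloc⟩ := IsLocalRing.exists_factor_valuationRing ψbar
  let ψ' : Y.presheaf.stalk y →+* ↥(compSubring C) :=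
    ψ.hom.codRestrict (compSubring C) (fun r => hC r)
  let ρ : ↥(compSubring C) →+* ↥C.toSubring :=
    ((IsLocalRing.residue A).comp (compSubring C).subtype).codRestrict C.toSubring (fun a => a.2)
  haveI : IsLocalHom ψ' := by
    constructor
    intro r hr
    have h1 : IsUnit (ρ (ψ' r)) := hr.map ρ
    exact hloc.map_nonunit r h1
  refine ⟨↥(compSubring C), inferInstance, inferInstance, inferInstance, (compSubring C).subtype,
    Spec.map (CommRingCat.ofHom ψ') ≫ Y.fromSpecStalk y, ?_, ?_⟩
  · rw [← Category.assoc, ← Spec.map_comp, ← hψ]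
    rfl
  · rw [Scheme.Hom.comp_apply]
    have h1 : Spec.map (CommRingCat.ofHom ψ') (IsLocalRing.closedPoint ↥(compSubring C)) =
        IsLocalRing.closedPoint (Y.presheaf.stalk y) := IsLocalRing.comap_closedPoint ψ'
    rw [h1]
    exact Scheme.fromSpecStalk_closedPoint

/-- **A valuation ring through a finite chain of specializations.** -/
theorem exists_valuationRing_chain {Y : Scheme.{u}} (n : ℕ) (y : Fin (n + 1) → Y)
    (hy : ∀ i j : Fin (n + 1), i ≤ j → y i ⤳ y j) :
    ∃ (A : Type u) (_ : CommRing A) (_ : IsDomain A) (_ : ValuationRing A)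
      (g : Spec (CommRingCat.of A) ⟶ Y) (q : Fin (n + 1) → Spec (CommRingCat.of A)),
      (∀ i j, i ≤ j → q i ⤳ q j) ∧ (∀ i, g (q i) = y i) ∧
        q (Fin.last n) = IsLocalRing.closedPoint A := by
  induction n with
  | zero =>
    refine ⟨Y.residueField (y 0), inferInstance, inferInstance, inferInstance,
      Y.fromSpecResidueField (y 0), fun _ => IsLocalRing.closedPoint _, ?_, ?_, rfl⟩
    · intro i j _
      exact specializes_rfl
    · intro i
      have hi : i = 0 := Fin.fin_one_eq_zero i
      rw [hi]
      exact Scheme.fromSpecResidueField_apply _ _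
  | succ n ih =>
    obtain ⟨A, _, _, _, g, q, hq1, hq2, hq3⟩ := ih (fun i => y i.castSucc)
      (fun i j hij => hy _ _ (Fin.castSucc_le_castSucc_iff.mpr hij))
    have h : g (IsLocalRing.closedPoint A) ⤳ y (Fin.last (n + 1)) := by
      rw [← hq3, hq2]
      exact hy _ _ (Fin.le_last _)
    obtain ⟨A', i1, i2, i3, ι, g', hcomp, hcl⟩ := exists_valuationRing_extend A g _ h
    let q' : Fin (n + 1 + 1) → Spec (CommRingCat.of A') :=
      Fin.lastCases (motive := fun _ => Spec (CommRingCat.of A'))
        (IsLocalRing.closedPoint A' : PrimeSpectrum A')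
        (fun i => Spec.map (CommRingCat.ofHom ι) (q i))
    have hq'l : q' (Fin.last (n + 1)) = IsLocalRing.closedPoint A' := Fin.lastCases_last
    have hq'c : ∀ i : Fin (n + 1), q' i.castSucc = Spec.map (CommRingCat.ofHom ι) (q i) :=
      fun i => Fin.lastCases_castSucc i
    refine ⟨A', i1, i2, i3, g', q', ?_, ?_, hq'l⟩
    · intro i j hij
      induction j using Fin.lastCases with
      | last =>
        rw [hq'l]
        exact IsLocalRing.specializes_closedPoint _
      | cast j' =>
        induction i using Fin.lastCases with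
        | last =>
          exfalso
          exact absurd (lt_of_le_of_lt hij (Fin.castSucc_lt_last j')) (lt_irrefl _)
        | cast i' =>
          rw [hq'c, hq'c]
          exact (hq1 i' j' (Fin.castSucc_le_castSucc_iff.mp hij)).map
            (Spec.map (CommRingCat.ofHom ι)).continuous
    · intro i
      induction i using Fin.lastCases with
      | last => rw [hq'l]; exact hcl
      | cast i' =>
        rw [hq'c, ← Scheme.Hom.comp_apply, hcomp]
        exact hq2 i'

/-- For a surjective morphism from the spectrum of a valuation ring to an affine scheme, chains of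
specializations lift to chains. -/
theorem exists_chain_lift_of_surjective (W A : Type u) [CommRing W] [IsDomain W] [ValuationRing W]
    [CommRing A] (b : Spec (CommRingCat.of W) ⟶ Spec (CommRingCat.of A))
    (hb : Function.Surjective b) (n : ℕ) (q : Fin (n + 1) → Spec (CommRingCat.of A))
    (hq : ∀ i j, i ≤ j → q i ⤳ q j) :
    ∃ w : Fin (n + 1) → Spec (CommRingCat.of W), (∀ i j, i ≤ j → w i ⤳ w j) ∧
      ∀ i, b (w i) = q i := by
  obtain ⟨β, rfl⟩ := Spec.map_surjective b
  let S : PrimeSpectrum A → Set (Ideal W) := fun p =>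
    {P | P.IsPrime ∧ P.comap β.hom = p.asIdeal}
  have hSne : ∀ p, (S p).Nonempty := by
    intro p
    obtain ⟨P, hP⟩ := hb p
    exact ⟨P.asIdeal, P.isPrime, congrArg PrimeSpectrum.asIdeal hP⟩
  have hSchain : ∀ p, IsChain (· ≤ ·) (S p) := by
    intro p P _ Q _ _
    exact (ValuationRing.le_total_ideal (A := W)).total P Q
  have hprime : ∀ p, (sInf (S p)).IsPrime := fun p =>
    Ideal.sInf_isPrime_of_isChain (hSne p) (hSchain p) (fun P hP => hP.1)
  have hcomap : ∀ p : PrimeSpectrum A, (sInf (S p)).comap β.hom = p.asIdeal := by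
    intro p
    apply le_antisymm
    · obtain ⟨P, hP⟩ := hSne p
      rw [← hP.2]
      exact Ideal.comap_mono (sInf_le hP)
    · intro a ha
      rw [Ideal.mem_comap, Ideal.mem_sInf]
      intro P hP
      have : a ∈ P.comap β.hom := by rw [hP.2]; exact ha
      exact this
  refine ⟨fun i => ⟨sInf (S (q i)), hprime (q i)⟩, ?_, ?_⟩
  · intro i j hij
    rw [← PrimeSpectrum.le_iff_specializes]
    show sInf (S (q i)) ≤ sInf (S (q j))
    rcases (ValuationRing.le_total_ideal (A := W)).total (sInf (S (q i))) (sInf (S (q j))) with h | h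
    · exact h
    · -- then `q j ≤ q i`, so `q i = q j`
      have h1 : (q j).asIdeal ≤ (q i).asIdeal := by
        rw [← hcomap (q j), ← hcomap (q i)]
        exact Ideal.comap_mono h
      have h2 : (q i).asIdeal ≤ (q j).asIdeal :=
        (PrimeSpectrum.le_iff_specializes (q i) (q j)).mpr (hq i j hij)
      have h3 : q i = q j := PrimeSpectrum.ext (le_antisymm h2 h1)
      rw [h3]
  · intro i
    apply PrimeSpectrum.ext
    exact hcomap (q i)

/-- **Finite chains lift along universally S-subtrusive morphisms.** -/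
theorem exists_finite_chain_lift {X Y : Scheme.{u}} (f : X ⟶ Y)
    (hf : Subtr.UnivSSubtrusive f) (n : ℕ) (y : Fin (n + 1) → Y)
    (hy : ∀ i j : Fin (n + 1), i ≤ j → y i ⤳ y j) :
    ∃ x : Fin (n + 1) → X, (∀ i j : Fin (n + 1), i ≤ j → x i ⤳ x j) ∧ ∀ i, f (x i) = y i := by
  obtain ⟨A, _, _, _, g, q, hq1, hq2, -⟩ := exists_valuationRing_chain n y hy
  have h1 : Subtr.UnivSSubtrusive (pullback.snd f g) := by
    unfold Subtr.UnivSSubtrusive
    exact MorphismProperty.pullback_snd _ _ hf
  have h2 := (Groth.Agent.Lib.helper4.SubtrVal.tfae_over_valuationRing A (pullback.snd f g)).out 0 4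
  obtain ⟨W, _, _, _, h, hsurj⟩ := h2.mp h1
  obtain ⟨w, hw1, hw2⟩ := exists_chain_lift_of_surjective W A (h ≫ pullback.snd f g)
    hsurj.surj n q hq1
  refine ⟨fun i => pullback.fst f g (h (w i)), ?_, ?_⟩
  · intro i j hij
    exact ((hw1 i j hij).map h.continuous).map (pullback.fst f g).continuous
  · intro i
    rw [← Scheme.Hom.comp_apply, pullback.condition, Scheme.Hom.comp_apply, ← hq2 i, ← hw2 i,
      Scheme.Hom.comp_apply]

end Groth.Agent.Lib.helper4.SubtrChain
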