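import Mathlib
import Groth.Agent.S7476
import Groth.Agent.S7477
import Groth.Agent.S8980
import Groth.Agent.Lib.Helper4.SubtrNoeth

set_option backward.isDefEq.respectTransparency false
set_option backward.isDefEq.respectTransparency.types false
set_option autoImplicit false
set_option linter.style.haveILetI false
universe u

open CategoryTheory CategoryTheory.Limits AlgebraicGeometry

namespace Groth.Agent.Lib.helper4.SubtrHCover

theorem quasiCompact_sigmaDesc {X : Scheme.{u}} {ι : Type u} [Finite ι] (Y : ι → Scheme.{u})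
    (f : ∀ i, Y i ⟶ X) [∀ i, QuasiCompact (f i)] : QuasiCompact (Sigma.desc f) := by
  constructor
  intro U hU hUc
  have hcov : (Sigma.desc f) ⁻¹' U = ⋃ i, (Sigma.ι Y i) '' ((f i) ⁻¹' U) := by
    ext z
    simp only [Set.mem_preimage, Set.mem_iUnion, Set.mem_image]
    constructor
    · intro hz
      obtain ⟨⟨i, y⟩, rfl⟩ := (sigmaMk Y).surjective z
      rw [sigmaMk_mk] at hz ⊢
      refine ⟨i, y, ?_, rfl⟩
      rwa [← Scheme.Hom.comp_apply, Sigma.ι_desc] at hz
    · rintro ⟨i, y, hy, rfl⟩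
      rw [← Scheme.Hom.comp_apply, Sigma.ι_desc]; exact hy
  rw [hcov]
  exact isCompact_iUnion fun i =>
    (QuasiCompact.isCompact_preimage (f := f i) U hU hUc).image (Sigma.ι Y i).continuous

theorem univSubmersive_sigmaDesc_iff_isHCover {X : Scheme.{u}} [IsNoetherian X]
    (E : PreZeroHypercover.{u} X) [Finite E.I₀] [∀ i, LocallyOfFiniteType (E.f i)]
    [∀ i, QuasiCompact (E.f i)] :
    SGA1.UnivSubmersive (Sigma.desc E.f) ↔ HTop.IsHCover E := by
  constructor
  · intro hF
    have hlfp : ∀ i, LocallyOfFinitePresentation (E.f i) := fun i =>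
      LocallyOfFinitePresentation.iff_locallyOfFiniteType.mpr inferInstance
    haveI : QuasiCompact (Sigma.desc E.f) := quasiCompact_sigmaDesc E.X E.f
    have hS : Subtr.UnivSSubtrusive (Sigma.desc E.f) :=
      Groth.Agent.Lib.helper4.SubtrNoeth.univSSubtrusive_of_univSubmersive _ hF
    rw [Groth.Agent.S8980.result E hlfp]
    obtain ⟨h1, h2⟩ := Groth.Agent.S7476.result.{u, 0, 0, 0} (Sigma.desc E.f)
    refine ⟨fun _ => IsZariskiLocalAtSource.sigmaDesc hlfp, ?_⟩
    rw [h1, h2]
    intro Z g z' z hz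
    obtain ⟨x, x', hsp, hx, hx'⟩ :=
      (Groth.Agent.Lib.helper4.SubtrBasic.univSSubtrusive_iff _).mp hS g hz
    let σ : pullback (Sigma.desc E.f) g ⟶ pullback g (Sigma.desc E.f) :=
      (pullbackSymmetry (Sigma.desc E.f) g).hom
    have hσ : σ ≫ pullback.fst g (Sigma.desc E.f) = pullback.snd (Sigma.desc E.f) g :=
      pullbackSymmetry_hom_comp_fst _ _
    refine ⟨σ x', σ x, hsp.map σ.continuous, ?_, ?_⟩
    · rw [← Scheme.Hom.comp_apply, hσ]; exact hx'
    · rw [← Scheme.Hom.comp_apply, hσ]; exact hx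
  · intro hE
    exact Groth.Agent.S7477.result E hE.2

end Groth.Agent.Lib.helper4.SubtrHCover
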