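import Mathlib
import Groth.Agent.Lib.Helper9.ProConsMore
import Groth.Agent.S3398
import Groth.Agent.S15542
import Groth.Agent.Lib.Helper4.SubtrChain

set_option backward.isDefEq.respectTransparency false
set_option backward.isDefEq.respectTransparency.types false
set_option autoImplicit false
set_option linter.style.haveILetI false
universe u

open CategoryTheory CategoryTheory.Limits AlgebraicGeometry Topology

namespace Groth.Agent.Lib.helper4.SubtrLC

open Groth.Agent.Lib.helper9

section Top

variable {X : Type u} [TopologicalSpace X] [QuasiSober X] [T0Space X] [LocallySpectral X]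

/-- A locally closed retrocompact subset is pro-constructible. -/
theorem isProConstructible_of_isLocallyClosed_of_isRetrocompact {T : Set X}
    (h1 : IsLocallyClosed T) (h2 : IsRetrocompact T) : ProCons.IsProConstructible T := by
  refine isProConstructible_of_consClosedOn fun x => ?_
  obtain ⟨V, hV, hxV, -⟩ := LocallySpectral.basis x Set.univ isOpen_univ (Set.mem_univ x)
  refine ⟨V, hV, hxV, ?_⟩
  haveI := hV.spectralSpace
  obtain ⟨O, Zc, hO, hZc, rfl⟩ := h1
  have hcomp : IsCompact (Subtype.val ⁻¹' (O ∩ Zc) : Set ↥V) := by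
    rw [Topology.IsEmbedding.subtypeVal.isCompact_iff, Subtype.image_preimage_coe, Set.inter_comm]
    exact h2 hV.2.1 hV.1
  have hbasis := PrespectralSpace.isTopologicalBasis (X := ↥V)
  have hpt : ∀ t ∈ (Subtype.val ⁻¹' (O ∩ Zc) : Set ↥V), ∃ K : Set ↥V,
      IsOpen K ∧ IsCompact K ∧ t ∈ K ∧ K ⊆ Subtype.val ⁻¹' O := by
    intro t ht
    obtain ⟨K, ⟨hKo, hKc⟩, htK, hKO⟩ := hbasis.exists_subset_of_mem_open
      (show t ∈ (Subtype.val ⁻¹' O : Set ↥V) from ht.1) (hO.preimage continuous_subtype_val)
    exact ⟨K, hKo, hKc, htK, hKO⟩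
  choose! K hKo hKc htK hKO using hpt
  obtain ⟨s, hs, hcov⟩ := hcomp.elim_nhds_subcover K
    (fun t ht => (hKo t ht).mem_nhds (htK t ht))
  have heq : (Subtype.val ⁻¹' (O ∩ Zc) : Set ↥V) =
      (⋃ t ∈ s, K t) ∩ Subtype.val ⁻¹' Zc := by
    apply subset_antisymm
    · intro t ht
      exact ⟨hcov ht, ht.2⟩
    · rintro t ⟨ht1, ht2⟩
      obtain ⟨i, hi, hti⟩ := Set.mem_iUnion₂.mp ht1
      exact ⟨hKO i (hs i hi) hti, ht2⟩
  unfold ConsClosedOn
  rw [heq]
  have hKopen : IsOpen (⋃ t ∈ s, K t) := isOpen_biUnion fun t ht => hKo t (hs t ht)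
  have hKcomp : IsCompact (⋃ t ∈ s, K t) := s.isCompact_biUnion fun t ht => hKc t (hs t ht)
  exact @IsClosed.inter ↥V _ _ (constructibleTopology ↥V)
    (isClopen_constructibleTopology hKopen hKcomp).1
    (isClosed_constructibleTopology_of_isClosed (hZc.preimage continuous_subtype_val))

/-- Pro-constructible subsets are retrocompact. -/
theorem isRetrocompact_of_isProConstructible {T : Set X} (hT : ProCons.IsProConstructible T) :
    IsRetrocompact T := by
  intro U hUc hUo
  have hpt : ∀ x ∈ U, ∃ V : Set X, IsSpectralOpen V ∧ x ∈ V ∧ V ⊆ U := fun x hx =>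
    LocallySpectral.basis x U hUo hx
  choose! V hV hxV hVU using hpt
  obtain ⟨s, hs, hcov⟩ := hUc.elim_nhds_subcover V
    (fun x hx => (hV x hx).1.mem_nhds (hxV x hx))
  have heq : T ∩ U = ⋃ x ∈ s, (V x ∩ T) := by
    apply subset_antisymm
    · rintro t ⟨htT, htU⟩
      obtain ⟨i, hi, hti⟩ := Set.mem_iUnion₂.mp (hcov htU)
      exact Set.mem_iUnion₂.mpr ⟨i, hi, hti, htT⟩
    · intro t ht
      obtain ⟨i, hi, hti, htT⟩ := Set.mem_iUnion₂.mp ht
      exact ⟨htT, hVU i (hs i hi) hti⟩
  rw [heq]
  refine s.isCompact_biUnion fun x hx => ?_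
  have hVx := hV x (hs x hx)
  haveI := hVx.spectralSpace
  have h1 : ConsClosedOn T (V x) := consClosedOn_of_isProConstructible hT hVx
  have hcs : @CompactSpace ↥(V x) (constructibleTopology ↥(V x)) :=
    compactSpace_constructibleTopology
  have h2 : @IsCompact ↥(V x) (constructibleTopology ↥(V x)) (Subtype.val ⁻¹' T) :=
    @IsClosed.isCompact ↥(V x) (constructibleTopology ↥(V x)) _ hcs h1
  have h3 : IsCompact (Subtype.val ⁻¹' T : Set ↥(V x)) := by
    have hcont : @Continuous ↥(V x) ↥(V x) (constructibleTopology ↥(V x)) _ id :=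
      continuous_id_of_le constructibleTopology_le
    have := @IsCompact.image ↥(V x) ↥(V x) (constructibleTopology ↥(V x)) _ _ _ h2 hcont
    simpa using this
  have h4 := h3.image continuous_subtype_val
  rwa [Subtype.image_preimage_coe] at h4

end Top

open Groth.Agent.Lib.helper4.SubtrChain in
/-- **Descent of locally closed retrocompact subsets** along quasi-compact universally
S-subtrusive morphisms. -/
theorem isLocallyClosed_and_isRetrocompact_iff_preimage {S' S : Scheme.{u}} (f : S' ⟶ S)
    [QuasiCompact f] (hf : Subtr.UnivSSubtrusive f) (E : Set S) :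
    (IsLocallyClosed E ∧ IsRetrocompact E) ↔
      (IsLocallyClosed (f ⁻¹' E) ∧ IsRetrocompact (f ⁻¹' E)) := by
  have hS1 : Subtr.IsSSubtrusive f :=
    hf (𝟙 _) (𝟙 _) _ (IsPullback.of_vert_isIso ⟨by simp⟩)
  have hsurj : Function.Surjective f := by
    intro y
    obtain ⟨x, -, -, hx, -⟩ := hS1 (specializes_rfl : y ⤳ y)
    exact ⟨x, hx⟩
  constructor
  · rintro ⟨h1, h2⟩
    refine ⟨h1.preimage f.continuous, ?_⟩
    have hE : ProCons.IsProConstructible E :=
      isProConstructible_of_isLocallyClosed_of_isRetrocompact h1 h2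
    exact isRetrocompact_of_isProConstructible (Groth.Agent.S15542.result f E hE)
  · rintro ⟨h1, h2⟩
    set T := f ⁻¹' E with hT
    have hTpro : ProCons.IsProConstructible T :=
      isProConstructible_of_isLocallyClosed_of_isRetrocompact h1 h2
    have hET : E = f '' T := (Set.image_preimage_eq E hsurj).symm
    have hEpro : ProCons.IsProConstructible E := by
      rw [hET]; exact Groth.Agent.S3398.result f T hTpro
    refine ⟨?_, ?_⟩
    · -- locally closed
      set D' := closure T \ T with hD'
      have hD'closed : IsClosed D' := by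
        have h := h1.isOpen_coborder
        unfold coborder at h
        simpa using h.isClosed_compl
      have hCeq : closure E \ E = f '' D' := by
        apply subset_antisymm
        · rintro c ⟨hcZ, hcE⟩
          obtain ⟨e, heE, hec⟩ := (mem_closure_iff_of_isProConstructible hEpro c).mp hcZ
          obtain ⟨xc, xe, hsp, hxc, hxe⟩ := hS1 hec
          refine ⟨xc, ⟨?_, ?_⟩, hxc⟩
          · exact hsp.mem_closed isClosed_closure
              (subset_closure (show f xe ∈ E by rw [hxe]; exact heE))
          · intro hxcT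
            exact hcE (by rw [← hxc]; exact hxcT)
        · rintro _ ⟨x, ⟨hxZ, hxT⟩, rfl⟩
          refine ⟨?_, hxT⟩
          exact closure_mono (Set.image_preimage_subset f E)
            (image_closure_subset_closure_image f.continuous ⟨x, hxZ, rfl⟩)
      have hCpro : ProCons.IsProConstructible (closure E \ E) := by
        rw [hCeq]
        exact Groth.Agent.S3398.result f D' (isProConstructible_of_isClosed hD'closed)
      have hCclosed : IsClosed (closure E \ E) := by
        rw [← closure_eq_iff_isClosed]
        apply subset_antisymm _ subset_closure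
        intro y hy
        obtain ⟨c, ⟨hcZ, hcE⟩, hcy⟩ := (mem_closure_iff_of_isProConstructible hCpro y).mp hy
        obtain ⟨e, heE, hec⟩ := (mem_closure_iff_of_isProConstructible hEpro c).mp hcZ
        -- lift the chain `e ⤳ c ⤳ y`
        obtain ⟨x, hx1, hx2⟩ := exists_finite_chain_lift f hf 2 ![e, c, y] (by
          intro i j hij
          fin_cases i <;> fin_cases j <;>
            first
            | exact specializes_rfl
            | exact hec
            | exact hcy
            | exact hec.trans hcy
            | (exfalso; revert hij; decide))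
        have hxe : f (x 0) = e := hx2 0
        have hxc : f (x 1) = c := hx2 1
        have hxy : f (x 2) = y := hx2 2
        have hx0T : x 0 ∈ T := by show f (x 0) ∈ E; rw [hxe]; exact heE
        have hx1D : x 1 ∈ D' := by
          refine ⟨(hx1 0 1 (by decide)).mem_closed isClosed_closure (subset_closure hx0T), ?_⟩
          intro h
          exact hcE (by rw [← hxc]; exact h)
        have hx2D : x 2 ∈ D' := (hx1 1 2 (by decide)).mem_closed hD'closed hx1D
        refine ⟨?_, ?_⟩
        · exact hcy.mem_closed isClosed_closure hcZ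
        · intro hyE
          exact hx2D.2 (by show f (x 2) ∈ E; rw [hxy]; exact hyE)
      have hEeq : E = closure E ∩ (closure E \ E)ᶜ := by
        ext z
        constructor
        · intro hz
          exact ⟨subset_closure hz, fun h => h.2 hz⟩
        · rintro ⟨hz1, hz2⟩
          by_contra hzE
          exact hz2 ⟨hz1, hzE⟩
      rw [hEeq]
      exact (isClosed_closure.isLocallyClosed).inter hCclosed.isOpen_compl.isLocallyClosed
    · -- retrocompact
      intro U hUc hUo
      have hpre : IsCompact (f ⁻¹' U) := QuasiCompact.isCompact_preimage (f := f) U hUo hUc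
      have h3 : IsCompact (T ∩ f ⁻¹' U) := h2 hpre (hUo.preimage f.continuous)
      have h4 := h3.image f.continuous
      have : f '' (T ∩ f ⁻¹' U) = E ∩ U := by
        rw [hT, ← Set.preimage_inter, Set.image_preimage_eq _ hsurj]
      rwa [this] at h4

end Groth.Agent.Lib.helper4.SubtrLC
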