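import Mathlib
import Groth.Prelude.Def_ProCons
import Groth.Agent.Lib.Helper4.SubtrLim
import Groth.Agent.Lib.Helper9.ProConsMore

set_option backward.isDefEq.respectTransparency false
set_option backward.isDefEq.respectTransparency.types false
set_option autoImplicit false
set_option linter.style.haveILetI false
universe u

open CategoryTheory CategoryTheory.Limits AlgebraicGeometry

namespace Groth.Agent.Lib.helper4.SubtrLim

theorem isSSubtrusive_iff_proConstructible {X Y : Scheme.{u}} (f : X ⟶ Y) :
    Subtr.IsSSubtrusive f ↔
      ∀ Z : Set Y, ProCons.IsProConstructible Z → f '' closure (f ⁻¹' Z) = closure Z := by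
  constructor
  · intro h Z hZ
    apply subset_antisymm
    · exact (image_closure_subset_closure_image f.continuous).trans
        (closure_mono (Set.image_preimage_subset _ _))
    · intro y hy
      obtain ⟨y', hy'Z, hsp⟩ :=
        (Groth.Agent.Lib.helper9.mem_closure_iff_of_isProConstructible hZ y).mp hy
      obtain ⟨x, x', hxsp, h1, h2⟩ := h hsp
      refine ⟨x, ?_, h1⟩
      exact hxsp.mem_closed isClosed_closure
        (subset_closure (show f x' ∈ Z by rw [h2]; exact hy'Z))
  · intro h
    rw [isSSubtrusive_iff_closure]
    intro y y' hyy'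
    have h1 := h {y'} (Groth.Agent.Lib.helper9.isProConstructible_singleton y')
    have h2 : y ∈ closure ({y'} : Set Y) := specializes_iff_mem_closure.mp hyy'
    rw [← h1] at h2
    obtain ⟨x, hx, rfl⟩ := h2
    exact ⟨x, rfl, hx⟩

end Groth.Agent.Lib.helper4.SubtrLim
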