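import Mathlib
import Groth.Prelude.Def_ActBC
import Groth.Prelude.Def_NonAbH2

/-!
# Fibre products of pseudo-torsors (helper4)

Formal part: for group schemes `G₁ ⟶ G ⟵ G₂` over `S` with fibre product `P`, actions `a, a₁, a₂` on `T, T₁, T₂` and
equivariant morphisms `f₁ : T₁ ⟶ T`, `f₂ : T₂ ⟶ T`:
* `dv a : T ⊗ T ⟶ G`, the division map of a pseudo-torsor, with `lift_act_dv`, `dv_act`, `eq_of_act_eq`, `dv_self`,
  `eq_of_dv_eq_one`;
* `fibAct`: the action of `P` on `pullback f₁ f₂`, the projections are equivariant (`isEquivariant_fst/snd`);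
* `isPseudoTorsorSch_fibAct`: it is a pseudo-torsor if `a, a₁, a₂` are.
-/

set_option autoImplicit false
set_option backward.isDefEq.respectTransparency false
set_option linter.style.haveILetI false

universe u

open CategoryTheory CategoryTheory.Limits MonoidalCategory CartesianMonoidalCategory MonObj AlgebraicGeometry

namespace Groth.Agent.Lib.helper4.TorsFibProd

variable {S : Scheme.{u}}

section Div

variable {G T : Over S} [GrpObj G] (a : AlgGrp.Action G T) [IsIso (lift a.act (snd G T))]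

/-- the division map `(s, t) ↦ g` with `g • t = s` of a pseudo-torsor -/
noncomputable def dv : T ⊗ T ⟶ G := inv (lift a.act (snd G T)) ≫ fst G T

theorem lift_act_dv {Z : Over S} (g : Z ⟶ G) (t : Z ⟶ T) : lift (lift g t ≫ a.act) t ≫ dv a = g := by
  have h : lift (lift g t ≫ a.act) t = lift g t ≫ lift a.act (snd G T) := by rw [comp_lift, lift_snd]
  rw [h, dv, Category.assoc, IsIso.hom_inv_id_assoc, lift_fst]

theorem dv_act {Z : Over S} (s t : Z ⟶ T) : lift (lift s t ≫ dv a) t ≫ a.act = s := by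
  have hsnd : inv (lift a.act (snd G T)) ≫ snd G T = snd T T := by rw [IsIso.inv_comp_eq, lift_snd]
  have hr : lift s t ≫ inv (lift a.act (snd G T)) = lift (lift s t ≫ dv a) t := by
    apply CartesianMonoidalCategory.hom_ext
    · rw [lift_fst, dv, Category.assoc]
    · rw [lift_snd, Category.assoc, hsnd, lift_snd]
  have h3 : (lift s t ≫ inv (lift a.act (snd G T))) ≫ lift a.act (snd G T) = lift s t := by
    rw [Category.assoc, IsIso.inv_hom_id, Category.comp_id]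
  rw [hr] at h3
  have h4 := congrArg (fun m => m ≫ fst T T) h3
  simpa only [Category.assoc, lift_fst] using h4

theorem eq_of_act_eq {Z : Over S} (g g' : Z ⟶ G) (t : Z ⟶ T)
    (h : lift g t ≫ a.act = lift g' t ≫ a.act) : g = g' := by
  rw [← lift_act_dv a g t, h, lift_act_dv]

theorem dv_self {Z : Over S} (t : Z ⟶ T) : lift t t ≫ dv a = 1 := by
  have h := lift_act_dv a (1 : Z ⟶ G) t
  rwa [AlgGrp.Action.lift_one_act] at h

theorem eq_of_dv_eq_one {Z : Over S} (s t : Z ⟶ T) (h : lift s t ≫ dv a = 1) : s = t := by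
  have h1 := dv_act a s t
  rw [h, AlgGrp.Action.lift_one_act] at h1
  exact h1.symm

end Div

section Fib

variable {G G₁ G₂ P T T₁ T₂ : Over S} [GrpObj G] [GrpObj G₁] [GrpObj G₂] [GrpObj P]
  (φ₁ : G₁ ⟶ G) (φ₂ : G₂ ⟶ G) (π₁ : P ⟶ G₁) (π₂ : P ⟶ G₂) [IsMonHom φ₁] [IsMonHom φ₂] [IsMonHom π₁] [IsMonHom π₂]
  (hP : IsPullback π₁ π₂ φ₁ φ₂)
  (a : AlgGrp.Action G T) (a₁ : AlgGrp.Action G₁ T₁) (a₂ : AlgGrp.Action G₂ T₂)
  (f₁ : T₁ ⟶ T) (f₂ : T₂ ⟶ T)
  (hf₁ : AlgGrp.Action.IsEquivariant a₁ (a.restrict φ₁) f₁)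
  (hf₂ : AlgGrp.Action.IsEquivariant a₂ (a.restrict φ₂) f₂)

omit [GrpObj G₂] [GrpObj P] [IsMonHom φ₂] in
include hf₁ in
/-- points form of equivariance -/
theorem equivariant_pts {Z : Over S} (g : Z ⟶ G₁) (t : Z ⟶ T₁) :
    (lift g t ≫ a₁.act) ≫ f₁ = lift (g ≫ φ₁) (t ≫ f₁) ≫ a.act := by
  have h : a₁.act ≫ f₁ = (G₁ ◁ f₁) ≫ (a.restrict φ₁).act := hf₁
  rw [Category.assoc, h, lift_whiskerLeft_assoc, AlgGrp.Action.lift_restrict_act]

include hP hf₁ hf₂ in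
theorem fibAct_compat :
    ((π₁ ⊗ₘ pullback.fst f₁ f₂) ≫ a₁.act) ≫ f₁ = ((π₂ ⊗ₘ pullback.snd f₁ f₂) ≫ a₂.act) ≫ f₂ := by
  apply AlgGrp.Action.hom_ext_lift₂
  intro Z p q
  rw [← Category.assoc, ← Category.assoc, ← Category.assoc, ← Category.assoc, lift_map, lift_map,
    equivariant_pts φ₁ a a₁ f₁ hf₁, equivariant_pts φ₂ a a₂ f₂ hf₂, Category.assoc, Category.assoc,
    Category.assoc, Category.assoc, hP.w, pullback.condition]

/-- the action morphism on the fibre product -/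
noncomputable def fibActMor : P ⊗ pullback f₁ f₂ ⟶ pullback f₁ f₂ :=
  pullback.lift ((π₁ ⊗ₘ pullback.fst f₁ f₂) ≫ a₁.act) ((π₂ ⊗ₘ pullback.snd f₁ f₂) ≫ a₂.act)
    (fibAct_compat φ₁ φ₂ π₁ π₂ hP a a₁ a₂ f₁ f₂ hf₁ hf₂)

theorem fibActMor_fst_pts {Z : Over S} (p : Z ⟶ P) (q : Z ⟶ pullback f₁ f₂) :
    (lift p q ≫ fibActMor φ₁ φ₂ π₁ π₂ hP a a₁ a₂ f₁ f₂ hf₁ hf₂) ≫ pullback.fst f₁ f₂ =
      lift (p ≫ π₁) (q ≫ pullback.fst f₁ f₂) ≫ a₁.act := by
  rw [Category.assoc, fibActMor, pullback.lift_fst, ← Category.assoc, lift_map]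

theorem fibActMor_snd_pts {Z : Over S} (p : Z ⟶ P) (q : Z ⟶ pullback f₁ f₂) :
    (lift p q ≫ fibActMor φ₁ φ₂ π₁ π₂ hP a a₁ a₂ f₁ f₂ hf₁ hf₂) ≫ pullback.snd f₁ f₂ =
      lift (p ≫ π₂) (q ≫ pullback.snd f₁ f₂) ≫ a₂.act := by
  rw [Category.assoc, fibActMor, pullback.lift_snd, ← Category.assoc, lift_map]

/-- the action of the fibre product group on the fibre product -/
noncomputable def fibAct : AlgGrp.Action P (pullback f₁ f₂) where
  act := fibActMor φ₁ φ₂ π₁ π₂ hP a a₁ a₂ f₁ f₂ hf₁ hf₂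
  one_act := by
    apply pullback.hom_ext
    · have h1 : (η[P] ▷ pullback f₁ f₂) = lift (fst _ _ ≫ η[P]) (snd _ _) := by
        rw [← tensorHom_id, ← lift_fst_comp_snd_comp, Category.comp_id]
      rw [h1, fibActMor_fst_pts, Category.assoc, IsMonHom.one_hom]
      have h2 : fst (𝟙_ (Over S)) (pullback f₁ f₂) ≫ η[G₁] = 1 := by
        rw [Hom.one_def]; congr 1
      rw [h2, AlgGrp.Action.lift_one_act, leftUnitor_hom]
    · have h1 : (η[P] ▷ pullback f₁ f₂) = lift (fst _ _ ≫ η[P]) (snd _ _) := by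
        rw [← tensorHom_id, ← lift_fst_comp_snd_comp, Category.comp_id]
      rw [h1, fibActMor_snd_pts, Category.assoc, IsMonHom.one_hom]
      have h2 : fst (𝟙_ (Over S)) (pullback f₁ f₂) ≫ η[G₂] = 1 := by
        rw [Hom.one_def]; congr 1
      rw [h2, AlgGrp.Action.lift_one_act, leftUnitor_hom]
  mul_act := by
    apply AlgGrp.Action.hom_ext_lift₃
    intro Z p p' q
    apply pullback.hom_ext
    · rw [lift_whiskerRight_assoc, ← Hom.mul_def, fibActMor_fst_pts, MonObj.mul_comp,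
        AlgGrp.Action.lift_mul_act, lift_lift_associator_hom_assoc, lift_whiskerLeft_assoc,
        fibActMor_fst_pts, fibActMor_fst_pts]
    · rw [lift_whiskerRight_assoc, ← Hom.mul_def, fibActMor_snd_pts, MonObj.mul_comp,
        AlgGrp.Action.lift_mul_act, lift_lift_associator_hom_assoc, lift_whiskerLeft_assoc,
        fibActMor_snd_pts, fibActMor_snd_pts]

theorem isEquivariant_fst :
    AlgGrp.Action.IsEquivariant (fibAct φ₁ φ₂ π₁ π₂ hP a a₁ a₂ f₁ f₂ hf₁ hf₂) (a₁.restrict π₁)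
      (pullback.fst f₁ f₂) := by
  show fibActMor φ₁ φ₂ π₁ π₂ hP a a₁ a₂ f₁ f₂ hf₁ hf₂ ≫ pullback.fst f₁ f₂ =
    (P ◁ pullback.fst f₁ f₂) ≫ (π₁ ▷ T₁) ≫ a₁.act
  rw [fibActMor, pullback.lift_fst, tensorHom_def', Category.assoc]

theorem isEquivariant_snd :
    AlgGrp.Action.IsEquivariant (fibAct φ₁ φ₂ π₁ π₂ hP a a₁ a₂ f₁ f₂ hf₁ hf₂) (a₂.restrict π₂)
      (pullback.snd f₁ f₂) := by
  show fibActMor φ₁ φ₂ π₁ π₂ hP a a₁ a₂ f₁ f₂ hf₁ hf₂ ≫ pullback.snd f₁ f₂ =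
    (P ◁ pullback.snd f₁ f₂) ≫ (π₂ ▷ T₂) ≫ a₂.act
  rw [fibActMor, pullback.lift_snd, tensorHom_def', Category.assoc]

section Pseudo

variable [IsIso (lift a.act (snd G T))] [IsIso (lift a₁.act (snd G₁ T₁))] [IsIso (lift a₂.act (snd G₂ T₂))]

theorem isPseudoTorsorSch_fibAct :
    NonAbH1.IsPseudoTorsorSch (fibAct φ₁ φ₂ π₁ π₂ hP a a₁ a₂ f₁ f₂ hf₁ hf₂) := by
  unfold NonAbH1.IsPseudoTorsorSch
  apply isIso_of_yoneda_map_bijective
  intro Z
  have hpt : ∀ x : Z ⟶ P ⊗ pullback f₁ f₂, x = lift (x ≫ fst _ _) (x ≫ snd _ _) := fun x => by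
    rw [← comp_lift, lift_fst_snd, Category.comp_id]
  have hact : ∀ (p : Z ⟶ P) (q : Z ⟶ pullback f₁ f₂),
      lift p q ≫ lift (fibAct φ₁ φ₂ π₁ π₂ hP a a₁ a₂ f₁ f₂ hf₁ hf₂).act (snd P (pullback f₁ f₂)) =
        lift (lift p q ≫ fibActMor φ₁ φ₂ π₁ π₂ hP a a₁ a₂ f₁ f₂ hf₁ hf₂) q := fun p q => by
    rw [comp_lift, lift_snd]; rfl
  constructor
  · intro x y hxy
    dsimp only at hxy
    rw [hpt x, hpt y] at hxy ⊢
    rw [hact, hact] at hxy
    have hq : x ≫ snd _ _ = y ≫ snd _ _ := by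
      have := congrArg (fun m => m ≫ snd _ _) hxy
      simpa only [lift_snd] using this
    have hm := congrArg (fun m => m ≫ fst _ _) hxy
    simp only [lift_fst] at hm
    have h1 := congrArg (fun m => m ≫ pullback.fst f₁ f₂) hm
    have h2 := congrArg (fun m => m ≫ pullback.snd f₁ f₂) hm
    simp only [fibActMor_fst_pts, fibActMor_snd_pts] at h1 h2
    rw [← hq] at h1 h2
    have e1 := eq_of_act_eq a₁ _ _ _ h1
    have e2 := eq_of_act_eq a₂ _ _ _ h2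
    have hp : x ≫ fst _ _ = y ≫ fst _ _ := hP.hom_ext e1 e2
    rw [hp, hq]
  · intro y
    -- y : Z ⟶ Q ⊗ Q
    set q := y ≫ fst (pullback f₁ f₂) (pullback f₁ f₂) with hq
    set q' := y ≫ snd (pullback f₁ f₂) (pullback f₁ f₂) with hq'
    have hy : y = lift q q' := by rw [hq, hq', ← comp_lift, lift_fst_snd, Category.comp_id]
    set g₁ : Z ⟶ G₁ := lift (q ≫ pullback.fst f₁ f₂) (q' ≫ pullback.fst f₁ f₂) ≫ dv a₁ with hg₁
    set g₂ : Z ⟶ G₂ := lift (q ≫ pullback.snd f₁ f₂) (q' ≫ pullback.snd f₁ f₂) ≫ dv a₂ with hg₂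
    have hcomp : g₁ ≫ φ₁ = g₂ ≫ φ₂ := by
      apply eq_of_act_eq a _ _ (q' ≫ pullback.fst f₁ f₂ ≫ f₁)
      have e1 := equivariant_pts φ₁ a a₁ f₁ hf₁ g₁ (q' ≫ pullback.fst f₁ f₂)
      have e2 := equivariant_pts φ₂ a a₂ f₂ hf₂ g₂ (q' ≫ pullback.snd f₁ f₂)
      rw [hg₁, dv_act] at e1
      rw [hg₂, dv_act] at e2
      rw [← hg₁] at e1
      rw [← hg₂] at e2
      simp only [Category.assoc] at e1 e2
      rw [← e1]
      conv_rhs => rw [pullback.condition, ← e2]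
      rw [pullback.condition]
    refine ⟨lift (hP.lift g₁ g₂ hcomp) q', ?_⟩
    dsimp only
    rw [hact, hy]
    congr 1
    apply pullback.hom_ext
    · rw [fibActMor_fst_pts, hP.lift_fst, hg₁, dv_act]
    · rw [fibActMor_snd_pts, hP.lift_snd, hg₂, dv_act]

end Pseudo

end Fib

end Groth.Agent.Lib.helper4.TorsFibProd
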