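import Mathlib
import Groth.Agent.Lib.Helper4.TorsFibProd1
import Groth.Agent.Lib.Helper4.TorsorFpqc3
import Groth.Agent.Lib.Helper4.QuotSectionSch

/-!
# Fibre products of pointed finite torsors over a connected base surject onto the base (helper4)

* `torsor_props`: an fppf torsor under the base change of a finite group scheme over a field is finite, flat, locally of
  finite presentation and surjective over the base;
* `discreteTopology_of_isFinite_field`: a finite scheme over a field is discrete;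
* `homEquiv_one`, `pt_eq_one_iff`: points of `Red.bc p G` equal to `1`;
* `factor_unit`: a morphism from a reduced scheme to `G` with image in the unit point factors through the unit;
* `range_pullback_hom_isClopen`, `surjective_pullback`: Nori's argument, topological part.
-/

set_option autoImplicit false
set_option backward.isDefEq.respectTransparency false
set_option linter.style.haveILetI false
set_option synthInstance.maxHeartbeats 400000

universe u

open CategoryTheory CategoryTheory.Limits MonoidalCategory CartesianMonoidalCategory MonObj AlgebraicGeometry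

namespace Groth.Agent.Lib.helper4.TorsFibProd

variable {k : Type u} [Field k]

theorem discreteTopology_of_isFinite_field {Y : Scheme.{u}} (f : Y ⟶ Spec (CommRingCat.of k)) [IsFinite f] :
    DiscreteTopology Y := by
  haveI : IsAffine Y := isAffine_of_isAffineHom f
  have hfin := f.finite_appTop
  have hφ : ((Scheme.ΓSpecIso (CommRingCat.of k)).inv ≫ f.appTop).hom.Finite := by
    rw [CommRingCat.hom_comp]
    exact RingHom.Finite.comp hfin (RingHom.Finite.of_surjective _
      (ConcreteCategory.bijective_of_isIso (Scheme.ΓSpecIso (CommRingCat.of k)).inv).2)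
  letI := ((Scheme.ΓSpecIso (CommRingCat.of k)).inv ≫ f.appTop).hom.toAlgebra
  haveI : Module.Finite k Γ(Y, ⊤) := hφ
  haveI : IsArtinianRing Γ(Y, ⊤) := IsArtinianRing.of_finite k _
  haveI : DiscreteTopology (Spec Γ(Y, ⊤)) := inferInstanceAs (DiscreteTopology (PrimeSpectrum _))
  exact Y.isoSpec.hom.homeomorph.symm.discreteTopology

variable {X : Scheme.{u}} (p : X ⟶ Spec (CommRingCat.of k))
  (G : Over (Spec (CommRingCat.of k))) [GrpObj G]

theorem torsor_props [IsFinite G.hom] {T : Over X}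
    (a : AlgGrp.Action (Red.bc p G) T) (hT : NonAbH1.IsTorsorFor Scheme.fppfPrecoverage a) :
    IsFinite T.hom ∧ Flat T.hom ∧ LocallyOfFinitePresentation T.hom ∧ Surjective T.hom := by
  have hT' : NonAbH1.IsTorsorFor Scheme.fpqcPrecoverage a :=
    ⟨hT.1, Groth.Agent.Lib.Helper4.QuotSectionSch.isLocallyTrivialFor_mono
      Scheme.fppfPrecoverage_le_fpqcPrecoverage _ hT.2⟩
  haveI : LocallyOfFinitePresentation G.hom :=
    LocallyOfFinitePresentation.iff_locallyOfFiniteType.mpr inferInstance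
  have hG1 : IsFinite (Red.bc p G).hom := by
    show IsFinite (pullback.snd G.hom p); infer_instance
  have hG2 : Flat (Red.bc p G).hom := by
    show Flat (pullback.snd G.hom p); infer_instance
  have hG3 : LocallyOfFinitePresentation (Red.bc p G).hom := by
    show LocallyOfFinitePresentation (pullback.snd G.hom p); infer_instance
  exact ⟨Groth.Agent.Lib.Helper4.TorsorFpqc2.prop_of_isTorsorFor_fpqc @IsFinite _ _ a hT' hG1,
    Groth.Agent.Lib.Helper4.TorsorFpqc2.prop_of_isTorsorFor_fpqc @Flat _ _ a hT' hG2,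
    Groth.Agent.Lib.Helper4.TorsorFpqc2.prop_of_isTorsorFor_fpqc @LocallyOfFinitePresentation _ _ a hT' hG3,
    Groth.Agent.Lib.Helper4.TorsorFpqc2.prop_of_isTorsorFor_fpqc @Surjective _ _ a hT'
      (Groth.Agent.Lib.Helper4.TorsorFpqc2.surjective_of_grpObj _)⟩

omit [GrpObj G] in
theorem he_left (Z : Over X) (u : (Over.map p).obj Z ⟶ G) :
    ((Over.mapPullbackAdj p).homEquiv Z G u).left ≫ pullback.fst G.hom p = u.left := by
  simp [Over.mapPullbackAdj]

omit [GrpObj G] in
theorem he_symm_left (Z : Over X) (v : Z ⟶ Red.bc p G) :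
    (((Over.mapPullbackAdj p).homEquiv Z G).symm v).left = v.left ≫ pullback.fst G.hom p := by
  simp [Over.mapPullbackAdj]

theorem homEquiv_one (Z : Over X) :
    (Over.mapPullbackAdj p).homEquiv Z G (1 : (Over.map p).obj Z ⟶ G) = (1 : Z ⟶ Red.bc p G) := by
  have h := AlgGrp.Action.homEquiv_mul p (G := G) (T' := Z) 1 1
  rw [_root_.mul_one] at h
  exact mul_left_cancel (h.symm.trans (_root_.mul_one _).symm)

theorem one_left (Y : Over (Spec (CommRingCat.of k))) : (1 : Y ⟶ G).left = Y.hom ≫ η[G].left := by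
  rw [Hom.one_def, Over.comp_left]
  rfl

theorem pt_eq_one_iff {Z : Over X} (ζ : Z ⟶ Red.bc p G) :
    ζ = 1 ↔ ζ.left ≫ pullback.fst G.hom p = (Z.hom ≫ p) ≫ η[G].left := by
  constructor
  · rintro rfl
    rw [← homEquiv_one p G Z, he_left, one_left]
    rfl
  · intro h
    apply ((Over.mapPullbackAdj p).homEquiv Z G).symm.injective
    rw [← homEquiv_one p G Z, Equiv.symm_apply_apply]
    apply Over.OverMorphism.ext
    rw [he_symm_left, h, one_left]
    rfl

/-- a morphism from a reduced scheme to a group scheme over a field with image in the unit point is constant -/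
theorem factor_unit {Y : Scheme.{u}} [IsReduced Y] (gm : Y ⟶ G.left)
    (h : ∀ y, gm y ∈ Set.range η[G].left) : gm = (gm ≫ G.hom) ≫ η[G].left := by
  haveI : Surjective (pullback.fst gm η[G].left) := ⟨by
    rw [← Set.range_eq_univ, Scheme.Pullback.range_fst]
    ext y
    simp only [Set.mem_preimage, Set.mem_univ, iff_true]
    exact h y⟩
  haveI : IsIso (pullback.fst gm η[G].left) := isIso_of_isClosedImmersion_of_surjective _
  have e : gm = inv (pullback.fst gm η[G].left) ≫ pullback.snd _ _ ≫ η[G].left := by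
    rw [IsIso.eq_inv_comp, pullback.condition]
  have hη : η[G].left ≫ G.hom = 𝟙 _ := Over.w η[G]
  have e2 : gm ≫ G.hom = inv (pullback.fst gm η[G].left) ≫ pullback.snd _ _ := by
    conv_lhs => rw [e]
    simp only [Category.assoc, hη, Category.comp_id]
  rw [e2, Category.assoc]
  exact e

section Main

variable {G} {G₁ G₂ : Over (Spec (CommRingCat.of k))} [GrpObj G₁] [GrpObj G₂]
  [IsFinite G.hom] [IsFinite G₁.hom] [IsFinite G₂.hom]
  (φ₁ : G₁ ⟶ G) (φ₂ : G₂ ⟶ G) [IsMonHom φ₁] [IsMonHom φ₂]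
  {T T₁ T₂ : Over X}
  (a : AlgGrp.Action (Red.bc p G) T) (a₁ : AlgGrp.Action (Red.bc p G₁) T₁) (a₂ : AlgGrp.Action (Red.bc p G₂) T₂)
  (hT : NonAbH1.IsTorsorFor Scheme.fppfPrecoverage a)
  (hT₁ : NonAbH1.IsTorsorFor Scheme.fppfPrecoverage a₁)
  (hT₂ : NonAbH1.IsTorsorFor Scheme.fppfPrecoverage a₂)
  (f₁ : T₁ ⟶ T) (f₂ : T₂ ⟶ T)

include hT hT₁ hT₂ in
omit [IsFinite G₁.hom] [IsFinite G₂.hom] [IsMonHom φ₁] [IsMonHom φ₂] in
/-- the image of `T₁ ×_T T₂ ⟶ X` is open and closed -/
theorem isClopen_range_pullback_hom [IsFinite G₁.hom] [IsFinite G₂.hom] :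
    IsClopen (Set.range (pullback f₁ f₂).hom) := by
  haveI : IsIso (lift a.act (snd _ T)) := hT.1
  obtain ⟨hfin₁, hfl₁, hfp₁, -⟩ := torsor_props p G₁ a₁ hT₁
  obtain ⟨hfin₂, hfl₂, hfp₂, -⟩ := torsor_props p G₂ a₂ hT₂
  have hWhom : (T₁ ⊗ T₂).hom = pullback.fst T₁.hom T₂.hom ≫ T₁.hom := Over.tensorObj_hom _ _
  haveI : IsFinite (T₁ ⊗ T₂).hom := by rw [hWhom]; infer_instance
  haveI : Flat (T₁ ⊗ T₂).hom := by rw [hWhom]; infer_instance
  haveI : LocallyOfFinitePresentation (T₁ ⊗ T₂).hom := by rw [hWhom]; infer_instance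
  set j : pullback f₁ f₂ ⟶ T₁ ⊗ T₂ := lift (pullback.fst f₁ f₂) (pullback.snd f₁ f₂) with hj
  set δ : T₁ ⊗ T₂ ⟶ Red.bc p G := (f₁ ⊗ₘ f₂) ≫ dv a with hδ
  set δ' : (T₁ ⊗ T₂).left ⟶ G.left := δ.left ≫ pullback.fst G.hom p with hδ'
  have hjδ : j ≫ δ = 1 := by
    rw [hj, hδ, ← Category.assoc, lift_map, ← pullback.condition]
    exact dv_self a _
  have hjE : Set.range j.left = δ' ⁻¹' (Set.range η[G].left) := by
    apply Set.Subset.antisymm
    · rintro _ ⟨q, rfl⟩
      have h1 := (pt_eq_one_iff p G (j ≫ δ)).mp hjδ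
      rw [Over.comp_left, Category.assoc] at h1
      have h2 := congrArg (fun m : (pullback f₁ f₂).left ⟶ G.left => m q) h1
      simp only [Scheme.Hom.comp_apply] at h2
      exact ⟨_, h2.symm⟩
    · intro w hw
      let iw := (T₁ ⊗ T₂).left.fromSpecResidueField w
      let Z : Over X := Over.mk (iw ≫ (T₁ ⊗ T₂).hom)
      let z : Z ⟶ T₁ ⊗ T₂ := Over.homMk iw rfl
      have hiw : ∀ y, iw y = w := fun y => by
        have : iw y ∈ Set.range iw := ⟨y, rfl⟩
        rw [Scheme.range_fromSpecResidueField] at this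
        exact this
      have hζ : z ≫ δ = 1 := by
        rw [pt_eq_one_iff]
        have hgm : (z ≫ δ).left ≫ pullback.fst G.hom p = iw ≫ δ' := by
          rw [Over.comp_left, Category.assoc]; rfl
        rw [hgm]
        have h3 := factor_unit G (iw ≫ δ') (fun y => by
          rw [Scheme.Hom.comp_apply, hiw y]; exact hw)
        have h4 : (iw ≫ δ') ≫ G.hom = Z.hom ≫ p := by
          rw [hδ', Category.assoc, Category.assoc, pullback.condition]
          have := Over.w δ
          rw [← Category.assoc δ.left, show δ.left ≫ pullback.snd G.hom p = (T₁ ⊗ T₂).hom from Over.w δ]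
          rfl
        rw [h4] at h3
        exact h3
      have hz : z = lift (z ≫ fst _ _) (z ≫ snd _ _) := by
        rw [← comp_lift, lift_fst_snd, Category.comp_id]
      have hcond : (z ≫ fst _ _) ≫ f₁ = (z ≫ snd _ _) ≫ f₂ := by
        apply eq_of_dv_eq_one a
        rw [← lift_map, ← hz, Category.assoc]
        exact hζ
      let q : Z ⟶ pullback f₁ f₂ := pullback.lift _ _ hcond
      have hqj : q ≫ j = z := by
        rw [hj, comp_lift, pullback.lift_fst, pullback.lift_snd, ← hz]
      obtain ⟨y₀⟩ : Nonempty (Spec ((T₁ ⊗ T₂).left.residueField w)) := inferInstance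
      refine ⟨q.left y₀, ?_⟩
      rw [← Scheme.Hom.comp_apply, ← Over.comp_left, hqj]
      exact hiw y₀
  have hEclopen : IsClopen (δ' ⁻¹' (Set.range η[G].left)) := by
    haveI := discreteTopology_of_isFinite_field G.hom
    exact ⟨(isClosed_discrete _).preimage δ'.continuous, (isOpen_discrete _).preimage δ'.continuous⟩
  have hrange : Set.range (pullback f₁ f₂).hom = (T₁ ⊗ T₂).hom '' (δ' ⁻¹' (Set.range η[G].left)) := by
    rw [← hjE, ← Set.range_comp]
    congr 1
    ext y
    rw [Function.comp_apply, ← Scheme.Hom.comp_apply, Over.w j]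
  rw [hrange]
  exact ⟨(T₁ ⊗ T₂).hom.isClosedMap _ hEclopen.1, (T₁ ⊗ T₂).hom.isOpenMap _ hEclopen.2⟩

include hT hT₁ hT₂ in
omit [IsMonHom φ₁] [IsMonHom φ₂] in
/-- Nori: the fibre product of pointed finite torsors over a connected base surjects onto the base -/
theorem surjective_pullback [ConnectedSpace X]
    (x : Spec (CommRingCat.of k) ⟶ X)
    (t₁ : Spec (CommRingCat.of k) ⟶ T₁.left) (t₂ : Spec (CommRingCat.of k) ⟶ T₂.left)
    (ht₁ : t₁ ≫ T₁.hom = x) (ht₂ : t₂ ≫ T₂.hom = x)
    (hft : t₁ ≫ f₁.left = t₂ ≫ f₂.left) :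
    Surjective (pullback f₁ f₂).hom := by
  have hclopen := isClopen_range_pullback_hom p a a₁ a₂ hT hT₁ hT₂ f₁ f₂
  have hne : (Set.range (pullback f₁ f₂).hom).Nonempty := by
    let Z₀ : Over X := Over.mk x
    let τ₁ : Z₀ ⟶ T₁ := Over.homMk t₁ ht₁
    let τ₂ : Z₀ ⟶ T₂ := Over.homMk t₂ ht₂
    have hτ : τ₁ ≫ f₁ = τ₂ ≫ f₂ := by
      apply Over.OverMorphism.ext
      exact hft
    let q₀ : Z₀ ⟶ pullback f₁ f₂ := pullback.lift τ₁ τ₂ hτ
    obtain ⟨y₀⟩ : Nonempty (Spec (CommRingCat.of k)) := inferInstance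
    exact ⟨_, q₀.left y₀, rfl⟩
  have huniv := hclopen.eq_univ hne
  exact ⟨Set.range_eq_univ.mp huniv⟩

end Main

end Groth.Agent.Lib.helper4.TorsFibProd
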