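import Mathlib
import Groth.Agent.Lib.Helper4.TorsFibProd2
import Groth.Agent.Lib.Helper4.ReducedRankFlat

/-!
# Nori's lemma: the fibre product of pointed finite torsors over a connected reduced base is a torsor (helper4)

* `finrank_eq_of_pseudoTorsor`: a nonempty finite pseudo-torsor over a field under a finite group scheme has the
  degree of the group;
* `finrank_fibre`: fibres of a finite pseudo-torsor over `X` under `Red.bc p P` over field-valued points of `X`
  (when nonempty) have the degree of `P`;
* `flat_lfp_of_pseudoTorsor`: over a reduced base a finite surjective pseudo-torsor under a finite group is flat and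
  locally of finite presentation, hence an fppf torsor (`isTorsorFor_of_pseudoTorsor`).
-/

set_option autoImplicit false
set_option backward.isDefEq.respectTransparency false
set_option linter.style.haveILetI false
set_option synthInstance.maxHeartbeats 400000

universe u

open CategoryTheory CategoryTheory.Limits MonoidalCategory CartesianMonoidalCategory MonObj AlgebraicGeometry

namespace Groth.Agent.Lib.helper4.TorsFibProd

section Field

variable {K : Type u} [Field K] {P' Q' : Over (Spec (CommRingCat.of K))} [GrpObj P']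
  [IsFinite P'.hom] [IsFinite Q'.hom] (c : AlgGrp.Action P' Q') (hc : NonAbH1.IsPseudoTorsorSch c)

include hc in
theorem finrank_eq_of_pseudoTorsor (z : Q'.left) :
    Q'.hom.finrank (Q'.hom z) = P'.hom.finrank (Q'.hom z) := by
  haveI : IsIso (lift c.act (snd P' Q')) := hc
  haveI : IsIso (lift c.act (snd P' Q')).left :=
    inferInstanceAs (IsIso ((Over.forget _).map (lift c.act (snd P' Q'))))
  have h1 : (lift c.act (snd P' Q')).left ≫ pullback.snd Q'.hom Q'.hom = pullback.snd P'.hom Q'.hom := by
    have := congrArg Over.Hom.left (lift_snd c.act (snd P' Q'))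
    simpa using this
  have h2 : (pullback.snd P'.hom Q'.hom).finrank z = P'.hom.finrank (Q'.hom z) :=
    Scheme.Hom.finrank_pullback_snd _ _ _
  have h3 : (pullback.snd Q'.hom Q'.hom).finrank z = Q'.hom.finrank (Q'.hom z) :=
    Scheme.Hom.finrank_pullback_snd _ _ _
  rw [← h3, ← h2, ← h1, Scheme.Hom.finrank_comp_left_of_isIso]

end Field

theorem finite_of_isPullback {S : Scheme.{u}} {A B C D : Over S} (f : A ⟶ C) (g : B ⟶ C) (fst : D ⟶ A)
    (snd : D ⟶ B) (h : IsPullback fst snd f g) [IsFinite A.hom] [IsFinite B.hom] [IsSeparated C.hom] :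
    IsFinite D.hom := by
  haveI : IsFinite (g.left ≫ C.hom) := by rw [Over.w g]; infer_instance
  haveI : IsFinite g.left := IsFinite.of_comp g.left C.hom
  have hl : IsPullback fst.left snd.left f.left g.left := by
    simpa using h.map (Over.forget S)
  haveI : IsFinite fst.left := MorphismProperty.of_isPullback (P := @IsFinite) hl.flip inferInstance
  rw [← Over.w fst]
  infer_instance

section Main

variable {k : Type u} [Field k] {X : Scheme.{u}} (p : X ⟶ Spec (CommRingCat.of k))
  {P : Over (Spec (CommRingCat.of k))} [GrpObj P] [IsFinite P.hom] {Q : Over X} [IsFinite Q.hom]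
  [Surjective Q.hom] (c : AlgGrp.Action (Red.bc p P) Q) (hc : NonAbH1.IsPseudoTorsorSch c)

include hc in
theorem finrank_fibre {K : Type u} [Field K] (ξ : Spec (CommRingCat.of K) ⟶ X) (F : Scheme.{u})
    (a : F ⟶ Q.left) (b : F ⟶ Spec (CommRingCat.of K)) (h : IsPullback a b Q.hom ξ)
    (y : Spec (CommRingCat.of K)) (y' : Spec (CommRingCat.of k)) :
    b.finrank y = P.hom.finrank y' := by
  have hc' := NonAbH1.isPseudoTorsorSch_bc ξ hc
  haveI : IsFinite (Red.bc ξ Q).hom := by
    show IsFinite (pullback.snd Q.hom ξ); infer_instance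
  haveI : IsFinite (Red.bc p P).hom := by
    show IsFinite (pullback.snd P.hom p); infer_instance
  haveI : Flat (Red.bc p P).hom := by
    show Flat (pullback.snd P.hom p); infer_instance
  haveI : IsFinite (Red.bc ξ (Red.bc p P)).hom := by
    show IsFinite (pullback.snd (Red.bc p P).hom ξ); infer_instance
  have hb : b = h.isoPullback.hom ≫ pullback.snd Q.hom ξ := h.isoPullback_hom_snd.symm
  obtain ⟨q, hq⟩ := (inferInstance : Surjective Q.hom).surj (ξ y)
  obtain ⟨z, -, hz⟩ := Scheme.Pullback.exists_preimage_pullback (f := Q.hom) (g := ξ) q y hq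
  have h1 := finrank_eq_of_pseudoTorsor (c.bc ξ) hc' z
  have hz' : (Red.bc ξ Q).hom z = y := hz
  rw [hz'] at h1
  have h2 : (Red.bc ξ (Red.bc p P)).hom.finrank y = (Red.bc p P).hom.finrank (ξ y) :=
    Scheme.Hom.finrank_pullback_snd (Red.bc p P).hom ξ y
  have h3 : (Red.bc p P).hom.finrank (ξ y) = P.hom.finrank (p (ξ y)) :=
    Scheme.Hom.finrank_pullback_snd P.hom p (ξ y)
  have h4 : p (ξ y) = y' := Subsingleton.elim (α := PrimeSpectrum k) _ _
  rw [hb, Scheme.Hom.finrank_comp_left_of_isIso]
  exact h1.trans (h2.trans (h3.trans (by rw [h4])))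

include hc in
theorem flat_lfp_of_pseudoTorsor [IsReduced X] : Flat Q.hom ∧ LocallyOfFinitePresentation Q.hom := by
  obtain ⟨y'⟩ : Nonempty (Spec (CommRingCat.of k)) := inferInstance
  exact ReducedRankFlat.flat_lfp_of_reduced Q.hom (P.hom.finrank y')
    (fun K _ ξ F a b h y => finrank_fibre p c hc ξ F a b h y y')

include hc in
theorem isTorsorFor_of_pseudoTorsor [IsReduced X] : NonAbH1.IsTorsorFor Scheme.fppfPrecoverage c := by
  obtain ⟨hfl, hfp⟩ := flat_lfp_of_pseudoTorsor p c hc
  refine ⟨hc, Presieve.singleton Q.hom, Scheme.Hom.singleton_mem_fppfPrecoverage Q.hom, ?_⟩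
  rintro S' f ⟨⟩
  exact ⟨𝟙 _, Category.id_comp _⟩

end Main

end Groth.Agent.Lib.helper4.TorsFibProd
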