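import Mathlib
import Groth.Prelude.Def_NonAbH2
import Groth.Prelude.Def_ActBC

/-!
# fpqc torsors and faithfully flat base change (helper4)

* `isIso_of_isIso_pullback_map`: a morphism of `S`-schemes which becomes an isomorphism after an fpqc base change is an
  isomorphism.
* `isPseudoTorsorSch_of_bc`: pseudo-torsors descend along fpqc base change.
* `isLocallyTrivialFor_of_bc`: fpqc-local triviality descends along an fpqc morphism.
* `isTorsorFor_fpqc_iff_bc`: `X` is an fpqc torsor iff its fpqc base change is.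
-/

set_option autoImplicit false
set_option linter.style.haveILetI false
set_option backward.isDefEq.respectTransparency false
universe u
open CategoryTheory MonoidalCategory CartesianMonoidalCategory MonObj GrpObj AlgebraicGeometry
open CategoryTheory.Limits

namespace Groth.Agent.Lib.Helper4.TorsorFpqc5

variable {S S' : Scheme.{u}} (f : S' ⟶ S)

theorem isIso_of_isIso_pullback_map [Flat f] [Surjective f] [QuasiCompact f] {A B : Over S} (h : A ⟶ B)
    [IsIso ((Over.pullback f).map h)] : IsIso h := by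
  have hisoL : IsIso ((Over.pullback f).map h).left :=
    inferInstanceAs (IsIso ((Over.forget _).map ((Over.pullback f).map h)))
  have hpb : IsPullback ((Over.pullback f).map h).left (pullback.fst A.hom f) (pullback.fst B.hom f) h.left := by
    refine IsPullback.of_right (h₁₂ := pullback.snd B.hom f) (h₂₂ := B.hom) (v₁₃ := f) ?_ ?_
      (IsPullback.of_hasPullback B.hom f).flip
    · have e1 : ((Over.pullback f).map h).left ≫ pullback.snd B.hom f = pullback.snd A.hom f := by
        simp
      have e2 : h.left ≫ B.hom = A.hom := Over.w h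
      rw [e1, e2]
      exact (IsPullback.of_hasPullback A.hom f).flip
    · simp
  have hQ : (@Surjective ⊓ @Flat ⊓ @QuasiCompact : MorphismProperty Scheme.{u}) (pullback.fst B.hom f) :=
    ⟨⟨inferInstance, inferInstance⟩, inferInstance⟩
  have : IsIso h.left :=
    MorphismProperty.of_isPullback_of_descendsAlong (P := MorphismProperty.isomorphisms Scheme.{u})
      (Q := @Surjective ⊓ @Flat ⊓ @QuasiCompact) hpb hQ hisoL
  haveI : IsIso ((Over.forget S).map h) := this
  exact isIso_of_reflects_iso h (Over.forget S)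

theorem isPseudoTorsorSch_of_bc [Flat f] [Surjective f] [QuasiCompact f] {G X : Over S} [GrpObj G]
    (a : AlgGrp.Action G X) (h : NonAbH1.IsPseudoTorsorSch (a.bc f)) : NonAbH1.IsPseudoTorsorSch a := by
  have key : lift (a.bc f).act (snd _ _) ≫ Functor.LaxMonoidal.μ (Over.pullback f) X X =
      Functor.LaxMonoidal.μ (Over.pullback f) G X ≫ (Over.pullback f).map (lift a.act (snd G X)) := by
    rw [← Functor.Monoidal.lift_μ, comp_lift_assoc, Functor.Monoidal.μ_snd, AlgGrp.Action.bc_act]
  haveI : IsIso (lift (a.bc f).act (snd _ _)) := h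
  haveI : IsIso (Functor.LaxMonoidal.μ (Over.pullback f) G X ≫
      (Over.pullback f).map (lift a.act (snd G X))) := by
    rw [← key]; infer_instance
  haveI : IsIso ((Over.pullback f).map (lift a.act (snd G X))) :=
    IsIso.of_isIso_comp_left (Functor.LaxMonoidal.μ (Over.pullback f) G X) _
  exact isIso_of_isIso_pullback_map f (lift a.act (snd G X))

theorem isLocallyTrivialFor_of_bc [Flat f] [Surjective f] [QuasiCompact f] (X : Over S)
    (h : NonAbH1.IsLocallyTrivialFor Scheme.fpqcPrecoverage (Red.bc f X)) :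
    NonAbH1.IsLocallyTrivialFor Scheme.fpqcPrecoverage X := by
  obtain ⟨R, hR, hsec⟩ := h
  obtain ⟨𝒰, rfl⟩ := R.exists_eq_preZeroHypercover
  have hf : Presieve.ofArrows (fun _ : PUnit.{u + 2} => S') (fun _ => f) ∈ Scheme.fpqcPrecoverage S := by
    rw [Presieve.ofArrows_pUnit]
    exact Scheme.Hom.singleton_mem_fpqcPrecoverage f
  have hmem := Precoverage.comp_mem_coverings (J := Scheme.fpqcPrecoverage)
    (fun _ : PUnit.{u + 2} => f) hf (σ := fun _ => 𝒰.I₀) (Y := fun _ i => 𝒰.X i)
    (fun _ i => 𝒰.f i) (fun _ => hR)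
  refine ⟨_, hmem, ?_⟩
  rintro T g ⟨⟨_, i⟩⟩
  obtain ⟨s, hs⟩ := hsec (𝒰.f i) (Presieve.ofArrows.mk i)
  have hs' : s ≫ pullback.snd X.hom f = 𝒰.f i := hs
  refine ⟨s ≫ pullback.fst X.hom f, ?_⟩
  rw [Category.assoc, pullback.condition, ← Category.assoc, hs']

theorem isTorsorFor_fpqc_iff_bc [Flat f] [Surjective f] [QuasiCompact f] {G X : Over S} [GrpObj G]
    (a : AlgGrp.Action G X) :
    NonAbH1.IsTorsorFor Scheme.fpqcPrecoverage a ↔ NonAbH1.IsTorsorFor Scheme.fpqcPrecoverage (a.bc f) :=
  ⟨fun h => NonAbH1.isTorsorFor_bc f Scheme.fpqcPrecoverage h,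
   fun h => ⟨isPseudoTorsorSch_of_bc f a h.1, isLocallyTrivialFor_of_bc f X h.2⟩⟩

/-- S14547. -/
theorem isTorsorFor_fpqc_iff_of_eq [Flat f] [Surjective f] [QuasiCompact f] {J P : Over S} [GrpObj J]
    (a : AlgGrp.Action J P) (a' : AlgGrp.Action (Red.bc f J) (Red.bc f P))
    (ha' : Functor.LaxMonoidal.μ (Over.pullback f) J P ≫ (Over.pullback f).map a.act = a'.act) :
    NonAbH1.IsTorsorFor Scheme.fpqcPrecoverage a ↔ NonAbH1.IsTorsorFor Scheme.fpqcPrecoverage a' := by
  have : a' = a.bc f := AlgGrp.Action.ext' ha'.symm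
  rw [this]
  exact isTorsorFor_fpqc_iff_bc f a

end Groth.Agent.Lib.Helper4.TorsorFpqc5
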