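import Mathlib
import Groth.Prelude.Def_DescFam
import Groth.Agent.Lib.Helper4.DescFamEff
import Groth.Agent.Lib.Helper4.FamGlue

/-!
# Twisted forms of an affine `X`-scheme along an fpqc covering family (helper4)

Fix an fpqc covering family `f i : U i ⟶ X` (index type in `Type u`) and an `X`-scheme `F`, affine over `X`.

* `Cocycle f F`: a 1-cocycle on local points with values in the automorphisms of the functor of points of `F`: for every
  `X`-scheme `T` with two local points `x₀ : T.left ⟶ U i`, `x₁ : T.left ⟶ U j` a map `(T ⟶ F) → (T ⟶ F)`, natural in `T`, the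
  identity for `x₀ = x₁` and transitive.
* `dd c : Desc.SchDDFam f`: the descent datum `(F ×_X U i)_i` glued by the cocycle; `dd_isEffective`.
* `exists_twistedForm`: the twisted form `Y` with its charts `κ T i x h : (T ⟶ Y) ≃ (T ⟶ F)` for every local point, natural in
  `T`, and changing by the cocycle when the local point changes.
-/

set_option autoImplicit false
set_option backward.isDefEq.respectTransparency false
universe u
open CategoryTheory CategoryTheory.Limits AlgebraicGeometry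

namespace Groth.Agent.Lib.Helper4.TwistedForm

open Desc Groth.Agent.Lib.Helper4.FamGlue

variable {X : Scheme.{u}} {I : Type u} {U : I → Scheme.{u}} (f : ∀ i, U i ⟶ X)

/-- A 1-cocycle on local points of the family `f` with values in the automorphisms of the functor of points of `F`. -/
structure Cocycle (F : Over X) where
  /-- the transition map from the chart at `x₀` to the chart at `x₁` -/
  ρ : ∀ (T : Over X) (i j : I) (x₀ : T.left ⟶ U i) (x₁ : T.left ⟶ U j), x₀ ≫ f i = T.hom → x₁ ≫ f j = T.hom →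
    (T ⟶ F) → (T ⟶ F)
  nat : ∀ (T T' : Over X) (g : T' ⟶ T) (i j : I) (x₀ : T.left ⟶ U i) (x₁ : T.left ⟶ U j) (h₀ : x₀ ≫ f i = T.hom)
    (h₁ : x₁ ≫ f j = T.hom) (v : T ⟶ F),
    g ≫ ρ T i j x₀ x₁ h₀ h₁ v = ρ T' i j (g.left ≫ x₀) (g.left ≫ x₁) (lp_comp f g h₀) (lp_comp f g h₁) (g ≫ v)
  self : ∀ (T : Over X) (i : I) (x : T.left ⟶ U i) (h : x ≫ f i = T.hom) (v : T ⟶ F), ρ T i i x x h h v = v
  comp : ∀ (T : Over X) (i j k : I) (x₀ : T.left ⟶ U i) (x₁ : T.left ⟶ U j) (x₂ : T.left ⟶ U k)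
    (h₀ : x₀ ≫ f i = T.hom) (h₁ : x₁ ≫ f j = T.hom) (h₂ : x₂ ≫ f k = T.hom) (v : T ⟶ F),
    ρ T j k x₁ x₂ h₁ h₂ (ρ T i j x₀ x₁ h₀ h₁ v) = ρ T i k x₀ x₂ h₀ h₂ v

variable {f} {F : Over X} (c : Cocycle f F)

section sch

variable {T : Scheme.{u}}

/-- Scheme-level form of the cocycle, with an explicit structure morphism. -/
def rS (t : T ⟶ X) {i j : I} (x₀ : T ⟶ U i) (x₁ : T ⟶ U j) (h₀ : x₀ ≫ f i = t)
    (h₁ : x₁ ≫ f j = t) (w : T ⟶ F.left) (hw : w ≫ F.hom = t) : T ⟶ F.left :=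
  (c.ρ (Over.mk t) i j x₀ x₁ h₀ h₁ (Over.homMk w hw)).left

theorem rS_hom (t : T ⟶ X) {i j : I} (x₀ : T ⟶ U i) (x₁ : T ⟶ U j) (h₀ : x₀ ≫ f i = t)
    (h₁ : x₁ ≫ f j = t) (w : T ⟶ F.left) (hw : w ≫ F.hom = t) : rS c t x₀ x₁ h₀ h₁ w hw ≫ F.hom = t :=
  Over.w (c.ρ (Over.mk t) i j x₀ x₁ h₀ h₁ (Over.homMk w hw))

theorem rS_congr {t t' : T ⟶ X} {i j : I} {x₀ x₀' : T ⟶ U i} {x₁ x₁' : T ⟶ U j} (h₀ : x₀ ≫ f i = t)
    (h₁ : x₁ ≫ f j = t) {w w' : T ⟶ F.left} (hw : w ≫ F.hom = t) (et : t = t') (e₀ : x₀ = x₀') (e₁ : x₁ = x₁')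
    (ew : w = w') :
    rS c t x₀ x₁ h₀ h₁ w hw =
      rS c t' x₀' x₁' (by rw [← et, ← e₀]; exact h₀) (by rw [← et, ← e₁]; exact h₁) w'
        (by rw [← et, ← ew]; exact hw) := by
  subst et e₀ e₁ ew; rfl

theorem comp_rS {T' : Scheme.{u}} (g : T' ⟶ T) (t : T ⟶ X) {i j : I} (x₀ : T ⟶ U i) (x₁ : T ⟶ U j)
    (h₀ : x₀ ≫ f i = t) (h₁ : x₁ ≫ f j = t) (w : T ⟶ F.left) (hw : w ≫ F.hom = t) :
    g ≫ rS c t x₀ x₁ h₀ h₁ w hw =
      rS c (g ≫ t) (g ≫ x₀) (g ≫ x₁) (by rw [Category.assoc, h₀]) (by rw [Category.assoc, h₁]) (g ≫ w)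
        (by rw [Category.assoc, hw]) := by
  have e := c.nat (Over.mk t) (Over.mk (g ≫ t)) (Over.homMk g rfl) i j x₀ x₁ h₀ h₁ (Over.homMk w hw)
  have e' := congrArg (fun a => a.left) e
  refine e'.trans ?_
  have ez : (Over.homMk g rfl : Over.mk (g ≫ t) ⟶ Over.mk t) ≫ Over.homMk w hw =
      Over.homMk (g ≫ w) (by rw [Category.assoc, hw]; rfl) := Over.OverMorphism.ext rfl
  unfold rS
  rw [ez]
  rfl

theorem rS_self (t : T ⟶ X) {i : I} (x : T ⟶ U i) (h : x ≫ f i = t) (w : T ⟶ F.left) (hw : w ≫ F.hom = t) :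
    rS c t x x h h w hw = w :=
  congrArg (fun a => a.left) (c.self (Over.mk t) i x h (Over.homMk w hw))

theorem rS_rS (t : T ⟶ X) {i j k : I} (x₀ : T ⟶ U i) (x₁ : T ⟶ U j) (x₂ : T ⟶ U k) (h₀ : x₀ ≫ f i = t)
    (h₁ : x₁ ≫ f j = t) (h₂ : x₂ ≫ f k = t) (w : T ⟶ F.left) (hw : w ≫ F.hom = t)
    (hw' : rS c t x₀ x₁ h₀ h₁ w hw ≫ F.hom = t) :
    rS c t x₁ x₂ h₁ h₂ (rS c t x₀ x₁ h₀ h₁ w hw) hw' = rS c t x₀ x₂ h₀ h₂ w hw := by
  have e := c.comp (Over.mk t) i j k x₀ x₁ x₂ h₀ h₁ h₂ (Over.homMk w hw)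
  have e' := congrArg (fun a => a.left) e
  refine Eq.trans ?_ e'
  have ez : (Over.homMk (rS c t x₀ x₁ h₀ h₁ w hw) hw' : Over.mk t ⟶ F) =
      c.ρ (Over.mk t) i j x₀ x₁ h₀ h₁ (Over.homMk w hw) := Over.OverMorphism.ext rfl
  unfold rS at ez ⊢
  rw [ez]

end sch

section transport

variable {T : Scheme.{u}}

theorem fst_hom {i : I} {x : T ⟶ U i} {v : T ⟶ pullback F.hom (f i)} (hv : v ≫ pullback.snd F.hom (f i) = x) :
    (v ≫ pullback.fst F.hom (f i)) ≫ F.hom = x ≫ f i := by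
  rw [Category.assoc, pullback.condition, ← Category.assoc, hv]

/-- Transport of a point of `F ×_X U i` over `x₀` to a point of `F ×_X U j` over `x₁`. -/
noncomputable def tr {i j : I} (x₀ : T ⟶ U i) (x₁ : T ⟶ U j) (h : x₀ ≫ f i = x₁ ≫ f j)
    (v : T ⟶ pullback F.hom (f i)) (hv : v ≫ pullback.snd F.hom (f i) = x₀) : T ⟶ pullback F.hom (f j) :=
  pullback.lift (rS c (x₀ ≫ f i) x₀ x₁ rfl h.symm (v ≫ pullback.fst F.hom (f i)) (fst_hom hv)) x₁
    ((rS_hom c _ _ _ _ _ _ _).trans h)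

theorem tr_fst {i j : I} (x₀ : T ⟶ U i) (x₁ : T ⟶ U j) (h : x₀ ≫ f i = x₁ ≫ f j)
    (v : T ⟶ pullback F.hom (f i)) (hv : v ≫ pullback.snd F.hom (f i) = x₀) :
    tr c x₀ x₁ h v hv ≫ pullback.fst F.hom (f j) =
      rS c (x₀ ≫ f i) x₀ x₁ rfl h.symm (v ≫ pullback.fst F.hom (f i)) (fst_hom hv) :=
  pullback.lift_fst _ _ _

theorem tr_snd {i j : I} (x₀ : T ⟶ U i) (x₁ : T ⟶ U j) (h : x₀ ≫ f i = x₁ ≫ f j)
    (v : T ⟶ pullback F.hom (f i)) (hv : v ≫ pullback.snd F.hom (f i) = x₀) :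
    tr c x₀ x₁ h v hv ≫ pullback.snd F.hom (f j) = x₁ :=
  pullback.lift_snd _ _ _

theorem tr_congr {i j : I} {x₀ x₀' : T ⟶ U i} {x₁ x₁' : T ⟶ U j} (h : x₀ ≫ f i = x₁ ≫ f j)
    {v v' : T ⟶ pullback F.hom (f i)} (hv : v ≫ pullback.snd F.hom (f i) = x₀) (e₀ : x₀ = x₀') (e₁ : x₁ = x₁')
    (ev : v = v') :
    tr c x₀ x₁ h v hv = tr c x₀' x₁' (by rw [← e₀, ← e₁]; exact h) v' (by rw [← e₀, ← ev]; exact hv) := by
  subst e₀ e₁ ev; rfl

theorem comp_tr {T' : Scheme.{u}} (g : T' ⟶ T) {i j : I} (x₀ : T ⟶ U i) (x₁ : T ⟶ U j) (h : x₀ ≫ f i = x₁ ≫ f j)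
    (v : T ⟶ pullback F.hom (f i)) (hv : v ≫ pullback.snd F.hom (f i) = x₀) :
    g ≫ tr c x₀ x₁ h v hv =
      tr c (g ≫ x₀) (g ≫ x₁) (by rw [Category.assoc, h, Category.assoc]) (g ≫ v) (by rw [Category.assoc, hv]) := by
  apply pullback.hom_ext
  · refine (Category.assoc _ _ _).trans ?_
    refine Eq.trans ?_ (tr_fst c _ _ _ _ _).symm
    rw [tr_fst, comp_rS]
    exact rS_congr c _ _ _ (Category.assoc _ _ _).symm rfl rfl (Category.assoc _ _ _).symm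
  · rw [Category.assoc, tr_snd, tr_snd]

theorem tr_self {i : I} (x : T ⟶ U i) (v : T ⟶ pullback F.hom (f i)) (hv : v ≫ pullback.snd F.hom (f i) = x) :
    tr c x x rfl v hv = v := by
  apply pullback.hom_ext
  · rw [tr_fst, rS_self]
  · rw [tr_snd, hv]

theorem tr_tr {i j k : I} (x₀ : T ⟶ U i) (x₁ : T ⟶ U j) (x₂ : T ⟶ U k) (h₀₁ : x₀ ≫ f i = x₁ ≫ f j)
    (h₁₂ : x₁ ≫ f j = x₂ ≫ f k) (v : T ⟶ pullback F.hom (f i)) (hv : v ≫ pullback.snd F.hom (f i) = x₀) :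
    tr c x₁ x₂ h₁₂ (tr c x₀ x₁ h₀₁ v hv) (tr_snd c x₀ x₁ h₀₁ v hv) = tr c x₀ x₂ (h₀₁.trans h₁₂) v hv := by
  apply pullback.hom_ext
  · refine (tr_fst c x₁ x₂ h₁₂ _ _).trans ?_
    refine Eq.trans ?_ (tr_fst c x₀ x₂ (h₀₁.trans h₁₂) v hv).symm
    refine (rS_congr c _ _ _ h₀₁.symm rfl rfl (tr_fst c x₀ x₁ h₀₁ v hv)).trans ?_
    exact rS_rS c _ _ _ _ _ _ _ _ _ _
  · rw [tr_snd, tr_snd]

end transport

/-- The descent datum `(F ×_X U i)_i` glued by the cocycle `c`. -/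
noncomputable def dd : SchDDFam f where
  obj i := Over.mk (pullback.snd F.hom (f i))
  φ _ _ _ x₀ x₁ h :=
    { toFun := fun v => ⟨tr c x₀ x₁ h v.1 v.2, tr_snd c x₀ x₁ h v.1 v.2⟩
      invFun := fun v => ⟨tr c x₁ x₀ h.symm v.1 v.2, tr_snd c x₁ x₀ h.symm v.1 v.2⟩
      left_inv := fun v => Subtype.ext ((tr_tr c x₀ x₁ x₀ h h.symm v.1 v.2).trans (tr_self c x₀ v.1 v.2))
      right_inv := fun v => Subtype.ext ((tr_tr c x₁ x₀ x₁ h.symm h v.1 v.2).trans (tr_self c x₁ v.1 v.2)) }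
  φ_natural _ _ g _ _ x₀ x₁ h y₀ y₁ hy₀ hy₁ h' v v' hv' := by
    subst hy₀ hy₁
    exact (tr_congr c h' v'.2 rfl rfl hv').trans (comp_tr c g x₀ x₁ h v.1 v.2).symm
  φ_self _ _ x v := Subtype.ext (tr_self c x v.1 v.2)
  φ_comp _ _ _ _ x₀ x₁ x₂ h₀₁ h₁₂ v := Subtype.ext (tr_tr c x₀ x₁ x₂ h₀₁ h₁₂ v.1 v.2)

theorem dd_isEffective (hf : Presieve.ofArrows U f ∈ Scheme.fpqcPrecoverage X) [IsAffineHom F.hom] :
    (dd c).IsEffective :=
  DescFamEff.isEffective_of_isAffineHom hf (dd c) (fun i => by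
    have hF : IsAffineHom F.hom := inferInstance
    change IsAffineHom (pullback.snd F.hom (f i))
    exact MorphismProperty.pullback_snd _ _ hF)

section chart

variable {Y : Over X} (θ : (toDDFam f).obj Y ≅ dd c)

theorem θh_snd (i : I) : (θ.hom.hom i).left ≫ pullback.snd F.hom (f i) = pullback.fst (f i) Y.hom :=
  Over.w (θ.hom.hom i)

theorem θi_fst (i : I) : (θ.inv.hom i).left ≫ pullback.fst (f i) Y.hom = pullback.snd F.hom (f i) :=
  Over.w (θ.inv.hom i)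

theorem θh_θi (i : I) : (θ.hom.hom i).left ≫ (θ.inv.hom i).left = 𝟙 _ := by
  have h := congrArg (fun a : (toDDFam f).obj Y ⟶ (toDDFam f).obj Y => (a.hom i).left) θ.hom_inv_id
  exact h

theorem θi_θh (i : I) : (θ.inv.hom i).left ≫ (θ.hom.hom i).left = 𝟙 _ := by
  have h := congrArg (fun a : dd c ⟶ dd c => (a.hom i).left) θ.inv_hom_id
  exact h

/-- The chart of `Y` at a local point. -/
noncomputable def chF (T : Over X) (i : I) (x : T.left ⟶ U i) (h : x ≫ f i = T.hom) (y : T ⟶ Y) : T ⟶ F :=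
  Over.homMk (pullback.lift x y.left (h.trans (Over.w y).symm) ≫ (θ.hom.hom i).left ≫ pullback.fst F.hom (f i)) (by
    rw [Category.assoc, Category.assoc, pullback.condition, ← Category.assoc (θ.hom.hom i).left, θh_snd,
      pullback.lift_fst_assoc, h])

/-- The inverse chart. -/
noncomputable def chI (T : Over X) (i : I) (x : T.left ⟶ U i) (h : x ≫ f i = T.hom) (w : T ⟶ F) : T ⟶ Y :=
  Over.homMk (pullback.lift w.left x ((Over.w w).trans h.symm) ≫ (θ.inv.hom i).left ≫ pullback.snd (f i) Y.hom) (by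
    rw [Category.assoc, Category.assoc, ← pullback.condition, ← Category.assoc (θ.inv.hom i).left, θi_fst,
      pullback.lift_snd_assoc, h])

theorem chF_left (T : Over X) (i : I) (x : T.left ⟶ U i) (h : x ≫ f i = T.hom) (y : T ⟶ Y) :
    (chF c θ T i x h y).left =
      pullback.lift x y.left (h.trans (Over.w y).symm) ≫ (θ.hom.hom i).left ≫ pullback.fst F.hom (f i) := rfl

theorem chI_left (T : Over X) (i : I) (x : T.left ⟶ U i) (h : x ≫ f i = T.hom) (w : T ⟶ F) :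
    (chI c θ T i x h w).left =
      pullback.lift w.left x ((Over.w w).trans h.symm) ≫ (θ.inv.hom i).left ≫ pullback.snd (f i) Y.hom := rfl

theorem lift_chF (T : Over X) (i : I) (x : T.left ⟶ U i) (h : x ≫ f i = T.hom) (y : T ⟶ Y) :
    pullback.lift (chF c θ T i x h y).left x ((Over.w _).trans h.symm) =
      pullback.lift x y.left (h.trans (Over.w y).symm) ≫ (θ.hom.hom i).left := by
  apply pullback.hom_ext
  · rw [pullback.lift_fst, chF_left, Category.assoc]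
  · rw [pullback.lift_snd, Category.assoc, θh_snd, pullback.lift_fst]

theorem lift_chI (T : Over X) (i : I) (x : T.left ⟶ U i) (h : x ≫ f i = T.hom) (w : T ⟶ F) :
    pullback.lift x (chI c θ T i x h w).left (h.trans (Over.w _).symm) =
      pullback.lift w.left x ((Over.w w).trans h.symm) ≫ (θ.inv.hom i).left := by
  apply pullback.hom_ext
  · rw [pullback.lift_fst, Category.assoc, θi_fst, pullback.lift_snd]
  · rw [pullback.lift_snd, chI_left, Category.assoc]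

theorem chI_chF (T : Over X) (i : I) (x : T.left ⟶ U i) (h : x ≫ f i = T.hom) (y : T ⟶ Y) :
    chI c θ T i x h (chF c θ T i x h y) = y := by
  apply Over.OverMorphism.ext
  rw [chI_left, lift_chF, Category.assoc, ← Category.assoc (θ.hom.hom i).left, θh_θi, Category.id_comp,
    pullback.lift_snd]

theorem chF_chI (T : Over X) (i : I) (x : T.left ⟶ U i) (h : x ≫ f i = T.hom) (w : T ⟶ F) :
    chF c θ T i x h (chI c θ T i x h w) = w := by
  apply Over.OverMorphism.ext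
  rw [chF_left, lift_chI, Category.assoc, ← Category.assoc (θ.inv.hom i).left, θi_θh, Category.id_comp,
    pullback.lift_fst]

theorem comp_chF {T T' : Over X} (g : T' ⟶ T) (i : I) (x : T.left ⟶ U i) (h : x ≫ f i = T.hom) (y : T ⟶ Y) :
    g ≫ chF c θ T i x h y = chF c θ T' i (g.left ≫ x) (lp_comp f g h) (g ≫ y) := by
  apply Over.OverMorphism.ext
  rw [Over.comp_left, chF_left, chF_left, ← Category.assoc]
  congr 1
  apply pullback.hom_ext
  · rw [Category.assoc, pullback.lift_fst, pullback.lift_fst]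
  · rw [Category.assoc, pullback.lift_snd, pullback.lift_snd, Over.comp_left]

theorem chF_change (T : Over X) (i j : I) (x₀ : T.left ⟶ U i) (x₁ : T.left ⟶ U j) (h₀ : x₀ ≫ f i = T.hom)
    (h₁ : x₁ ≫ f j = T.hom) (y : T ⟶ Y) :
    chF c θ T j x₁ h₁ y = c.ρ T i j x₀ x₁ h₀ h₁ (chF c θ T i x₀ h₀ y) := by
  have hh : x₀ ≫ f i = x₁ ≫ f j := h₀.trans h₁.symm
  have hy : y.left ≫ Y.hom = T.hom := Over.w y
  have hw : (pullback.lift x₀ y.left (h₀.trans hy.symm) ≫ (θ.hom.hom i).left) ≫ pullback.snd F.hom (f i) = x₀ := by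
    rw [Category.assoc, θh_snd, pullback.lift_fst]
  have key := θ.hom.comm x₀ x₁ hh ⟨pullback.lift x₀ y.left (h₀.trans hy.symm), pullback.lift_fst _ _ _⟩
    ⟨pullback.lift x₀ y.left (h₀.trans hy.symm) ≫ (θ.hom.hom i).left, hw⟩ rfl
  have key2 : tr c x₀ x₁ hh (pullback.lift x₀ y.left (h₀.trans hy.symm) ≫ (θ.hom.hom i).left) hw =
      pullback.lift x₁ y.left (h₁.trans hy.symm) ≫ (θ.hom.hom j).left := by
    refine key.trans ?_
    congr 1
    apply pullback.hom_ext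
    · simp [toDDFam, canonicalDDFam]
    · simp [toDDFam, canonicalDDFam]
  apply Over.OverMorphism.ext
  have e1 : (chF c θ T j x₁ h₁ y).left =
      tr c x₀ x₁ hh (pullback.lift x₀ y.left (h₀.trans hy.symm) ≫ (θ.hom.hom i).left) hw ≫
        pullback.fst F.hom (f j) := by
    rw [key2, chF_left, Category.assoc]
  refine e1.trans ((tr_fst c _ _ _ _ _).trans ?_)
  refine (rS_congr c _ _ _ h₀ rfl rfl (Category.assoc _ _ _)).trans ?_
  rfl

end chart

/-- **Twisted forms.** The twisted form of `F` defined by a cocycle, with its charts. -/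
theorem exists_twistedForm (hf : Presieve.ofArrows U f ∈ Scheme.fpqcPrecoverage X) [IsAffineHom F.hom] :
    ∃ (Y : Over X) (κ : ∀ (T : Over X) (i : I) (x : T.left ⟶ U i), x ≫ f i = T.hom → ((T ⟶ Y) ≃ (T ⟶ F))),
      (∀ (T T' : Over X) (g : T' ⟶ T) (i : I) (x : T.left ⟶ U i) (h : x ≫ f i = T.hom) (y : T ⟶ Y),
        g ≫ κ T i x h y = κ T' i (g.left ≫ x) (lp_comp f g h) (g ≫ y)) ∧
      (∀ (T : Over X) (i j : I) (x₀ : T.left ⟶ U i) (x₁ : T.left ⟶ U j) (h₀ : x₀ ≫ f i = T.hom)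
        (h₁ : x₁ ≫ f j = T.hom) (y : T ⟶ Y), κ T j x₁ h₁ y = c.ρ T i j x₀ x₁ h₀ h₁ (κ T i x₀ h₀ y)) := by
  obtain ⟨Y, ⟨θ⟩⟩ := dd_isEffective c hf
  refine ⟨Y, fun T i x h =>
    { toFun := chF c θ T i x h
      invFun := chI c θ T i x h
      left_inv := chI_chF c θ T i x h
      right_inv := chF_chI c θ T i x h }, ?_, ?_⟩
  · intro T T' g i x h y
    exact comp_chF c θ g i x h y
  · intro T i j x₀ x₁ h₀ h₁ y
    exact chF_change c θ T i j x₀ x₁ h₀ h₁ y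

end Groth.Agent.Lib.Helper4.TwistedForm
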