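import Mathlib
import Groth.Prelude.Def_NonAbH2
import Groth.Agent.Lib.Helper4.TwistedForm
import Groth.Agent.Lib.Helper4.ExactH1b

/-!
# Push-forward of an fpqc torsor along a homomorphism to a group scheme affine over the base (helper4)

`exists_pushforward`: for a homomorphism `u : J ⟶ J'` of group schemes over `X` with `J'` affine over `X`, and a `J`-pseudo-torsor
`P` with sections `s i` over the members of an fpqc covering family `f i : U i ⟶ X` (index type in `Type u`), there is a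
`J'`-torsor `Y` for the fpqc topology with a `u`-equivariant morphism `P ⟶ Y`.  `Y` is the twisted form of `J'` by the cocycle
`u(δ(s_i, s_j))` acting by right translations.
-/

set_option autoImplicit false
universe u
open CategoryTheory CategoryTheory.Limits MonoidalCategory CartesianMonoidalCategory MonObj GrpObj AlgebraicGeometry

namespace Groth.Agent.Lib.Helper4.TorsorPush

open Groth.Agent.Lib.Helper4.FamGlue Groth.Agent.Lib.Helper4.TwistedForm Groth.Agent.Lib.Helper4.ExactH1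

variable {X : Scheme.{u}} {J J' P : Over X} [GrpObj J] [GrpObj J'] (u : J ⟶ J') [IsMonHom u] (a : AlgGrp.Action J P)
  [IsIso (lift a.act (snd J P))] {I : Type u} {U : I → Scheme.{u}} (f : ∀ i, U i ⟶ X) (s : ∀ i, U i ⟶ P.left)
  (hs : ∀ i, s i ≫ P.hom = f i)

/-- The point of `P` given by the chosen section at a local point. -/
def sg (T : Over X) (i : I) (x : T.left ⟶ U i) (h : x ≫ f i = T.hom) : T ⟶ P :=
  Over.homMk (x ≫ s i) (by rw [Category.assoc, hs, h])

theorem comp_sg {T T' : Over X} (g : T' ⟶ T) (i : I) (x : T.left ⟶ U i) (h : x ≫ f i = T.hom) :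
    g ≫ sg f s hs T i x h = sg f s hs T' i (g.left ≫ x) (lp_comp f g h) := by
  apply Over.OverMorphism.ext
  simp [sg]

section dl

variable {T : Over X}

/-- The difference `δ(p, q)` of two points of the pseudo-torsor `P`: `δ(p, q) • q = p`. -/
noncomputable def dl (p q : T ⟶ P) : T ⟶ J := lift p q ≫ divMap a.act

theorem comp_dl {T' : Over X} (g : T' ⟶ T) (p q : T ⟶ P) : g ≫ dl a p q = dl a (g ≫ p) (g ≫ q) := by
  rw [dl, dl, ← Category.assoc, comp_lift]

theorem dl_act (p q : T ⟶ P) : lift (dl a p q) q ≫ a.act = p := act_divMap a.act p q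

theorem dl_self (p : T ⟶ P) : dl a p p = 1 := divMap_self a.act a.one_act p

theorem dl_act_left (j : T ⟶ J) (p q : T ⟶ P) : dl a (lift j p ≫ a.act) q = j * dl a p q :=
  divMap_act_left a.act a.mul_act p q j

theorem dl_mul (p q r : T ⟶ P) : dl a p q * dl a q r = dl a p r := by
  have h := dl_act_left a (dl a p q) q r
  rw [dl_act] at h
  exact h.symm

end dl

/-- The transition element between two local points. -/
noncomputable def cc (T : Over X) (i j : I) (x₀ : T.left ⟶ U i) (x₁ : T.left ⟶ U j) (h₀ : x₀ ≫ f i = T.hom)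
    (h₁ : x₁ ≫ f j = T.hom) : T ⟶ J' :=
  dl a (sg f s hs T i x₀ h₀) (sg f s hs T j x₁ h₁) ≫ u

theorem comp_cc {T T' : Over X} (g : T' ⟶ T) (i j : I) (x₀ : T.left ⟶ U i) (x₁ : T.left ⟶ U j)
    (h₀ : x₀ ≫ f i = T.hom) (h₁ : x₁ ≫ f j = T.hom) :
    g ≫ cc u a f s hs T i j x₀ x₁ h₀ h₁ =
      cc u a f s hs T' i j (g.left ≫ x₀) (g.left ≫ x₁) (lp_comp f g h₀) (lp_comp f g h₁) := by
  rw [cc, cc, ← Category.assoc, comp_dl, comp_sg, comp_sg]

theorem cc_self (T : Over X) (i : I) (x : T.left ⟶ U i) (h : x ≫ f i = T.hom) :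
    cc u a f s hs T i i x x h h = 1 := by
  rw [cc, dl_self, MonObj.one_comp]

theorem cc_mul (T : Over X) (i j k : I) (x₀ : T.left ⟶ U i) (x₁ : T.left ⟶ U j) (x₂ : T.left ⟶ U k)
    (h₀ : x₀ ≫ f i = T.hom) (h₁ : x₁ ≫ f j = T.hom) (h₂ : x₂ ≫ f k = T.hom) :
    cc u a f s hs T i j x₀ x₁ h₀ h₁ * cc u a f s hs T j k x₁ x₂ h₁ h₂ = cc u a f s hs T i k x₀ x₂ h₀ h₂ := by
  rw [cc, cc, cc, ← MonObj.mul_comp, dl_mul]

/-- The cocycle of right translations by the transition elements. -/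
noncomputable def cocycle : Cocycle f J' where
  ρ T i j x₀ x₁ h₀ h₁ v := v * cc u a f s hs T i j x₀ x₁ h₀ h₁
  nat T T' g i j x₀ x₁ h₀ h₁ v := by rw [MonObj.comp_mul, comp_cc]
  self T i x h v := by rw [cc_self, _root_.mul_one]
  comp T i j k x₀ x₁ x₂ h₀ h₁ h₂ v := by rw [_root_.mul_assoc, cc_mul]

theorem pts₂ {C : Type*} [Category C] [CartesianMonoidalCategory C] {T A B : C} (z : T ⟶ A ⊗ B) :
    z = lift (z ≫ fst A B) (z ≫ snd A B) := by
  apply CartesianMonoidalCategory.hom_ext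
  · rw [lift_fst]
  · rw [lift_snd]

include s hs in
/-- **Push-forward of torsors.** -/
theorem exists_pushforward [IsAffineHom J'.hom] (hf : Presieve.ofArrows U f ∈ Scheme.fpqcPrecoverage X) :
    ∃ (Y : Over X) (a' : AlgGrp.Action J' Y), NonAbH1.IsTorsorFor Scheme.fpqcPrecoverage a' ∧
      NonAbH1.IsPushforwardAlongSch u a a' := by
  obtain ⟨Y, κ, κnat, κch⟩ := exists_twistedForm (cocycle u a f s hs) hf
  have κch' : ∀ (T : Over X) (i j : I) (x₀ : T.left ⟶ U i) (x₁ : T.left ⟶ U j) (h₀ : x₀ ≫ f i = T.hom)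
      (h₁ : x₁ ≫ f j = T.hom) (y : T ⟶ Y),
      κ T j x₁ h₁ y = κ T i x₀ h₀ y * cc u a f s hs T i j x₀ x₁ h₀ h₁ := κch
  have κsn : ∀ (T T' : Over X) (g : T' ⟶ T) (i : I) (x : T.left ⟶ U i) (h : x ≫ f i = T.hom) (w : T ⟶ J'),
      g ≫ (κ T i x h).symm w = (κ T' i (g.left ≫ x) (lp_comp f g h)).symm (g ≫ w) := by
    intro T T' g i x h w
    apply (κ T' i (g.left ≫ x) (lp_comp f g h)).injective
    rw [← κnat T T' g i x h, Equiv.apply_symm_apply, Equiv.apply_symm_apply]
  -- the action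
  obtain ⟨act', hact⟩ := exists_glue f (Z := J' ⊗ Y) (W := Y)
    (fun T i x h z => (κ T i x h).symm ((z ≫ fst J' Y) * κ T i x h (z ≫ snd J' Y))) hf
    (by
      intro T T' g i x h z
      rw [κsn, MonObj.comp_mul, κnat]
      simp only [Category.assoc])
    (by
      intro T i j x₀ x₁ h₀ h₁ z
      apply (κ T j x₁ h₁).injective
      rw [Equiv.apply_symm_apply, κch' T i j x₀ x₁ h₀ h₁, Equiv.apply_symm_apply,
        κch' T i j x₀ x₁ h₀ h₁ (z ≫ snd J' Y), _root_.mul_assoc])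
  have hA : ∀ (T : Over X) (i : I) (x : T.left ⟶ U i) (h : x ≫ f i = T.hom) (g : T ⟶ J') (y : T ⟶ Y),
      κ T i x h (lift g y ≫ act') = g * κ T i x h y := by
    intro T i x h g y
    rw [hact T i x h, Equiv.apply_symm_apply, lift_fst, lift_snd]
  have hone : (η[J'] ▷ Y) ≫ act' = (λ_ Y).hom := by
    apply hom_ext_localPts f hf
    intro T i x h z
    apply (κ T i x h).injective
    have hz : z ≫ (η[J'] ▷ Y) = lift (1 : T ⟶ J') (z ≫ snd _ _) := by
      apply CartesianMonoidalCategory.hom_ext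
      · rw [Category.assoc, whiskerRight_fst, lift_fst, Hom.one_def, ← Category.assoc]
        congr 1
        exact toUnit_unique _ _
      · rw [Category.assoc, whiskerRight_snd, lift_snd]
    rw [← Category.assoc, hz, hA, _root_.one_mul, leftUnitor_hom]
  have hmul : (μ[J'] ▷ Y) ≫ act' = (α_ J' J' Y).hom ≫ (J' ◁ act') ≫ act' := by
    apply hom_ext_localPts f hf
    intro T i x h z
    apply (κ T i x h).injective
    obtain ⟨g, g', y, rfl⟩ : ∃ (g g' : T ⟶ J') (y : T ⟶ Y), z = lift (lift g g') y :=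
      ⟨(z ≫ fst _ _) ≫ fst _ _, (z ≫ fst _ _) ≫ snd _ _, z ≫ snd _ _, by
        rw [← pts₂ (z ≫ fst _ _), ← pts₂ z]⟩
    rw [lift_whiskerRight_assoc, ← Hom.mul_def, hA, lift_lift_associator_hom_assoc, lift_whiskerLeft_assoc, hA, hA,
      _root_.mul_assoc]
  -- the division map
  obtain ⟨d, hd⟩ := exists_glue f (Z := Y ⊗ Y) (W := J')
    (fun T i x h z => κ T i x h (z ≫ fst Y Y) * (κ T i x h (z ≫ snd Y Y))⁻¹) hf
    (by
      intro T T' g i x h z
      rw [MonObj.comp_mul, GrpObj.comp_inv, κnat, κnat]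
      simp only [Category.assoc])
    (by
      intro T i j x₀ x₁ h₀ h₁ z
      rw [κch' T i j x₀ x₁ h₀ h₁ (z ≫ fst Y Y), κch' T i j x₀ x₁ h₀ h₁ (z ≫ snd Y Y)]
      group)
  have hps : NonAbH1.IsPseudoTorsorSch (⟨act', hone, hmul⟩ : AlgGrp.Action J' Y) := by
    refine ⟨⟨lift d (snd Y Y), ?_, ?_⟩⟩
    · apply hom_ext_localPts f hf
      intro T i x h z
      obtain ⟨g, y, rfl⟩ : ∃ (g : T ⟶ J') (y : T ⟶ Y), z = lift g y := ⟨_, _, pts₂ z⟩
      show lift g y ≫ lift act' (snd J' Y) ≫ lift d (snd Y Y) = lift g y ≫ 𝟙 _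
      have e1 : lift g y ≫ lift act' (snd J' Y) = lift (lift g y ≫ act') y := by rw [comp_lift, lift_snd]
      rw [Category.comp_id, ← Category.assoc, e1, comp_lift, lift_snd]
      congr 1
      rw [hd T i x h, lift_fst, lift_snd, hA, mul_inv_cancel_right]
    · apply hom_ext_localPts f hf
      intro T i x h z
      obtain ⟨y₁, y₂, rfl⟩ : ∃ (y₁ y₂ : T ⟶ Y), z = lift y₁ y₂ := ⟨_, _, pts₂ z⟩
      show lift y₁ y₂ ≫ lift d (snd Y Y) ≫ lift act' (snd J' Y) = lift y₁ y₂ ≫ 𝟙 _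
      have e1 : lift y₁ y₂ ≫ lift d (snd Y Y) = lift (lift y₁ y₂ ≫ d) y₂ := by rw [comp_lift, lift_snd]
      rw [Category.comp_id, ← Category.assoc, e1, comp_lift, lift_snd]
      congr 1
      apply (κ T i x h).injective
      rw [hA, hd T i x h, lift_fst, lift_snd, inv_mul_cancel_right]
  -- the equivariant morphism
  obtain ⟨fP, hfP⟩ := exists_glue f (Z := P) (W := Y)
    (fun T i x h p => (κ T i x h).symm (dl a p (sg f s hs T i x h) ≫ u)) hf
    (by
      intro T T' g i x h p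
      rw [κsn, ← Category.assoc, comp_dl, comp_sg])
    (by
      intro T i j x₀ x₁ h₀ h₁ p
      apply (κ T j x₁ h₁).injective
      rw [Equiv.apply_symm_apply, κch' T i j x₀ x₁ h₀ h₁, Equiv.apply_symm_apply, cc, ← MonObj.mul_comp, dl_mul])
  refine ⟨Y, ⟨act', hone, hmul⟩, ⟨hps, Presieve.ofArrows U f, hf, ?_⟩, fP, ?_⟩
  · rintro S' g ⟨i⟩
    exact ⟨((κ (Over.mk (f i)) i (𝟙 _) (Category.id_comp _)).symm 1).left, Over.w _⟩
  · apply hom_ext_localPts f hf
    intro T i x h z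
    obtain ⟨j, p, rfl⟩ : ∃ (j : T ⟶ J) (p : T ⟶ P), z = lift j p := ⟨_, _, pts₂ z⟩
    apply (κ T i x h).injective
    show κ T i x h (lift j p ≫ a.act ≫ fP) = κ T i x h (lift j p ≫ lift (fst J P ≫ u) (snd J P ≫ fP) ≫ act')
    rw [← Category.assoc, hfP T i x h, Equiv.apply_symm_apply, ← Category.assoc (lift j p), comp_lift,
      lift_fst_assoc, lift_snd_assoc, hA, hfP T i x h, Equiv.apply_symm_apply, dl_act_left, MonObj.mul_comp]

end Groth.Agent.Lib.Helper4.TorsorPush
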