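import Mathlib
import Groth.Agent.Lib.Helper4.UnivOpenDvr5

/-!
# Universal openness via irreducible components over discrete valuation rings
-/

set_option backward.isDefEq.respectTransparency false
set_option backward.isDefEq.respectTransparency.types false
set_option autoImplicit false
set_option linter.style.haveILetI false
universe u
open CategoryTheory CategoryTheory.Limits AlgebraicGeometry

namespace Groth.Agent.Lib.helper4.UnivOpenDvr6

open Groth.Agent.Lib.helper4.UnivOpenDvr4 Groth.Agent.Lib.helper4.UnivOpenDvr5

variable {X Y : Scheme.{u}}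

/-- In the spectrum of a discrete valuation ring, a point different from the closed point is the
generic point. -/
theorem eq_genericPoint_of_ne_closedPoint (A : Type u) [CommRing A] [IsDomain A]
    [IsDiscreteValuationRing A] (s : ↥(Spec (CommRingCat.of A)))
    (hs : s ≠ IsLocalRing.closedPoint A) : s = genericPoint (Spec (CommRingCat.of A)) := by
  rw [genericPoint_eq_bot_of_affine]
  apply PrimeSpectrum.ext
  by_contra hne
  have hmax : (s : PrimeSpectrum A).asIdeal.IsMaximal :=
    (s : PrimeSpectrum A).isPrime.isMaximal hne
  apply hs
  apply PrimeSpectrum.ext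
  exact IsLocalRing.eq_maximalIdeal hmax

theorem genericPoint_ne_closedPoint (A : Type u) [CommRing A] [IsDomain A]
    [IsDiscreteValuationRing A] :
    genericPoint (Spec (CommRingCat.of A)) ≠ IsLocalRing.closedPoint A := by
  intro heq
  have h1 : (genericPoint (Spec (CommRingCat.of A)) : PrimeSpectrum A).asIdeal =
      IsLocalRing.maximalIdeal A := congrArg PrimeSpectrum.asIdeal heq
  rw [genericPoint_eq_bot_of_affine] at h1
  exact IsDiscreteValuationRing.not_a_field A h1.symm

/-- The criterion "irreducible components dominate" for one discrete valuation ring. -/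
def CompDominate (f : X ⟶ Y) (A : Type u) [CommRing A] (g : Spec (CommRingCat.of A) ⟶ Y) : Prop :=
  ∀ Z ∈ irreducibleComponents (↥(pullback f g) : Type u), Dense ((pullback.snd f g).base '' Z)

/-- Universal openness at the points of the fibre gives domination of components. -/
theorem compDominate_of_dvrCrit (f : X ⟶ Y) (A : Type u) [CommRing A] [IsDomain A]
    [IsDiscreteValuationRing A] (g : Spec (CommRingCat.of A) ⟶ Y)
    (H : ∀ x : X, f.base x = g.base (IsLocalRing.closedPoint A) → DvrCrit f x) :
    CompDominate f A g := by
  intro Z hZ
  have hZirr : IsIrreducible Z := hZ.1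
  have hZcl : IsClosed Z := isClosed_of_mem_irreducibleComponents Z hZ
  set ξ := hZirr.genericPoint with hξdef
  have hξ : IsGenericPoint ξ (closure Z) := hZirr.isGenericPoint_genericPoint_closure
  rw [hZcl.closure_eq] at hξ
  have hξZ : ξ ∈ Z := hξ.mem
  -- the image of the generic point of `Z` is the generic point
  have hgen : (pullback.snd f g) ξ = genericPoint (Spec (CommRingCat.of A)) := by
    by_contra hne
    have hcl : (pullback.snd f g) ξ = IsLocalRing.closedPoint A := by
      by_contra hne'
      exact hne (eq_genericPoint_of_ne_closedPoint A _ hne')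
    have hfx : f ((pullback.fst f g) ξ) = g (IsLocalRing.closedPoint A) := by
      rw [← hcl, ← Scheme.Hom.comp_apply, ← Scheme.Hom.comp_apply, pullback.condition]
    obtain ⟨z', hz'sp, hz'ne⟩ := H _ hfx A g hfx.symm ξ rfl hcl
    -- `z'` is a generization of `ξ`, hence equal to it
    have hsub : Z ⊆ closure {z'} := by
      rw [← hξ.def]
      exact closure_minimal (Set.singleton_subset_iff.mpr hz'sp.mem_closure) isClosed_closure
    have hirr : IsIrreducible (closure ({z'} : Set ↥(pullback f g))) :=
      isIrreducible_singleton.closure
    have heq : closure {z'} ⊆ Z := hZ.2 hirr hsub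
    have hz'Z : z' ∈ Z := heq (subset_closure rfl)
    have hsp2 : ξ ⤳ z' := hξ.specializes hz'Z
    have : z' = ξ := (hz'sp.antisymm hsp2).eq
    exact hz'ne (this ▸ hcl)
  have hsubset : closure ({genericPoint (Spec (CommRingCat.of A))} :
      Set ↥(Spec (CommRingCat.of A))) ⊆ closure ((pullback.snd f g).base '' Z) := by
    apply closure_mono
    rw [Set.singleton_subset_iff]
    exact ⟨ξ, hξZ, hgen⟩
  intro s
  apply hsubset
  have := (genericPoint_spec (Spec (CommRingCat.of A))).def
  rw [this]
  trivial

/-- Domination of components gives the criterion over discrete valuation rings. -/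
theorem dvrCrit_of_compDominate [IsLocallyNoetherian Y] (f : X ⟶ Y) [LocallyOfFiniteType f]
    (x : X)
    (H : ∀ (A : Type u) [CommRing A] [IsDomain A] [IsDiscreteValuationRing A]
      (g : Spec (CommRingCat.of A) ⟶ Y), g.base (IsLocalRing.closedPoint A) = f.base x →
      CompDominate f A g) : DvrCrit f x := by
  intro A _ _ _ g hg x' hx' hx's
  have hZ := irreducibleComponent_mem_irreducibleComponents x'
  have hZirr : IsIrreducible (irreducibleComponent x') := isIrreducible_irreducibleComponent
  have hZcl : IsClosed (irreducibleComponent x') := isClosed_irreducibleComponent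
  set ξ := hZirr.genericPoint with hξdef
  have hξ : IsGenericPoint ξ (closure (irreducibleComponent x')) :=
    hZirr.isGenericPoint_genericPoint_closure
  rw [hZcl.closure_eq] at hξ
  have hsp : ξ ⤳ x' := hξ.specializes mem_irreducibleComponent
  refine ⟨ξ, hsp, ?_⟩
  have hdense := H A g hg _ hZ
  -- the image of `Z` lies in the closure of the image of `ξ`
  have h1 : (pullback.snd f g).base '' irreducibleComponent x' ⊆
      closure {(pullback.snd f g) ξ} := by
    rw [← hξ.def, ← Set.image_singleton]
    exact image_closure_subset_closure_image (pullback.snd f g).continuous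
  have h2 : genericPoint (Spec (CommRingCat.of A)) ∈ closure {(pullback.snd f g) ξ} :=
    closure_minimal h1 isClosed_closure (hdense _)
  have h3 : (pullback.snd f g) ξ ⤳ genericPoint (Spec (CommRingCat.of A)) :=
    specializes_iff_mem_closure.mpr h2
  have h4 : genericPoint (Spec (CommRingCat.of A)) ⤳ (pullback.snd f g) ξ :=
    genericPoint_specializes _
  have h5 : (pullback.snd f g) ξ = genericPoint (Spec (CommRingCat.of A)) :=
    (h3.antisymm h4).eq
  rw [h5]
  exact genericPoint_ne_closedPoint A

/-- **EGA IV 14.5.x**: universal openness at all points of a fibre via domination of irreducible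
components over discrete valuation rings. -/
theorem isUnivOpenAt_fibre_iff [IsLocallyNoetherian Y] (f : X ⟶ Y) [LocallyOfFiniteType f]
    (y : Y) :
    (∀ x : X, f.base x = y → EGA43.IsUnivOpenAt f x) ↔
      ∀ (A : Type u) [CommRing A] [IsDomain A] [IsDiscreteValuationRing A]
        (g : Spec (CommRingCat.of A) ⟶ Y), g.base (IsLocalRing.closedPoint A) = y →
        ∀ Z ∈ irreducibleComponents (↥(pullback f g) : Type u),
          Dense ((pullback.snd f g).base '' Z) := by
  constructor
  · intro h A _ _ _ g hg
    exact compDominate_of_dvrCrit f A g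
      (fun x hx => dvrCrit_of_isUnivOpenAt f x (h x (hx.trans hg)))
  · intro h x hx
    exact isUnivOpenAt_of_dvrCrit f x
      (dvrCrit_of_compDominate f x (fun A _ _ _ g hg => h A g (hg.trans hx)))

theorem isUnivOpenAt_of_universallyOpen (f : X ⟶ Y) [UniversallyOpen f] (x : X) :
    EGA43.IsUnivOpenAt f x := by
  intro Y' g' x'' _ U hU
  exact (pullback.snd f g').isOpenMap.image_mem_nhds hU

theorem universallyOpen_of_isUnivOpenAt (f : X ⟶ Y) (h : ∀ x : X, EGA43.IsUnivOpenAt f x) :
    UniversallyOpen f := by
  constructor
  apply MorphismProperty.universally_mk'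
  intro T g' _
  show IsOpenMap (pullback.fst g' f).base
  have hsnd : IsOpenMap (pullback.snd f g').base := by
    rw [isOpenMap_iff_nhds_le]
    intro x''
    rw [Filter.le_map_iff]
    intro U hU
    exact h _ T g' x'' rfl U hU
  have heq : pullback.fst g' f = (pullbackSymmetry g' f).hom ≫ pullback.snd f g' :=
    (pullbackSymmetry_hom_comp_snd g' f).symm
  rw [heq, Scheme.Hom.comp_base, TopCat.coe_comp]
  exact hsnd.comp (pullbackSymmetry g' f).hom.homeomorph.isOpenMap

/-- **EGA IV 14.5.x**: universal openness via domination of irreducible components over discrete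
valuation rings. -/
theorem universallyOpen_iff [IsLocallyNoetherian Y] (f : X ⟶ Y) [LocallyOfFiniteType f] :
    UniversallyOpen f ↔
      ∀ (A : Type u) [CommRing A] [IsDomain A] [IsDiscreteValuationRing A]
        (g : Spec (CommRingCat.of A) ⟶ Y),
        ∀ Z ∈ irreducibleComponents (↥(pullback f g) : Type u),
          Dense ((pullback.snd f g).base '' Z) := by
  constructor
  · intro h A _ _ _ g
    exact compDominate_of_dvrCrit f A g
      (fun x _ => dvrCrit_of_isUnivOpenAt f x (isUnivOpenAt_of_universallyOpen f x))
  · intro h
    apply universallyOpen_of_isUnivOpenAt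
    intro x
    exact isUnivOpenAt_of_dvrCrit f x
      (dvrCrit_of_compDominate f x (fun A _ _ _ g _ => h A g))

end Groth.Agent.Lib.helper4.UnivOpenDvr6
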