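import Groth.Agent.Lib.Helper4.AlgStWNA
import Groth.Agent.Lib.Helper4.GrpdQuotMain
import Groth.Agent.Lib.Helper4.EqvGrpd
import Groth.Agent.Lib.Helper1.BootE
import Groth.Agent.Lib.Helper14.RepSh6
import Groth.Agent.Lib.Helper14.AlgSpQuot1
import Groth.Agent.S10510
set_option autoImplicit false
set_option backward.isDefEq.respectTransparency false
set_option backward.isDefEq.respectTransparency.types false
set_option linter.unusedSectionVars false
set_option linter.style.haveILetI false
set_option linter.unusedVariables false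
open CategoryTheory CategoryTheory.Functor CategoryTheory.Limits Opposite AlgebraicGeometry
universe u

/-! An algebraic space with a finite locally free surjective chart from an affine scheme is an affine scheme
(quotient of the affine scheme by the finite locally free equivalence relation, SGA 3 V 4.1). -/

namespace Groth.Agent.Lib.Helper4.WnaSpace
open Groth.Agent.Lib.helper5.LocPBC

variable {S : Scheme.{u}}

/-- the base change of an fppf chart to a scheme is an fppf cover of schemes -/
theorem cover_props {F : AlgSp.Sp S} (hF : AlgSp.IsAlgSpace F) {U : Over S} (a : (AlgSp.yon S).obj U ⟶ F)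
    (h1 : AlgSp.IsSurjectiveMor a) (h2 : AlgSp.LocP @Flat a)
    (h3 : AlgSp.LocP @LocallyOfFinitePresentation a)
    {Z W : Over S} (g : (AlgSp.yon S).obj Z ⟶ F) (i : W ⟶ Z)
    (fst : (AlgSp.yon S).obj W ⟶ (AlgSp.yon S).obj U) (sq : IsPullback fst ((AlgSp.yon S).map i) a g) :
    Surjective i.left ∧ Flat i.left ∧ LocallyOfFinitePresentation i.left := by
  refine ⟨?_, ?_, ?_⟩
  · exact Groth.Agent.Lib.helper4.AlgStSmLoc.surjective_of_isSurjectiveMor i
      (Groth.Agent.Lib.helper5.isSurjectiveMor_of_isPullback sq.flip h1)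
  · exact AlgSp.locP_yon_map (locP_of_isPullback locPData_flat (AlgSp.IsAlgSpace.yon_obj U) hF
      (AlgSp.IsAlgSpace.yon_obj Z) sq h2)
  · exact AlgSp.locP_yon_map (locP_of_isPullback locPData_lfp (AlgSp.IsAlgSpace.yon_obj U) hF
      (AlgSp.IsAlgSpace.yon_obj Z) sq h3)

/-- an fppf chart of an algebraic space is an epimorphism of sheaves -/
theorem epi_of_fppf {F : AlgSp.Sp S} (hF : AlgSp.IsAlgSpace F) {U : Over S} (a : (AlgSp.yon S).obj U ⟶ F)
    (h1 : AlgSp.IsSurjectiveMor a) (h2 : AlgSp.LocP @Flat a)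
    (h3 : AlgSp.LocP @LocallyOfFinitePresentation a) : Epi a := by
  have : Sheaf.IsLocallySurjective a := by
    constructor
    intro T y
    obtain ⟨κ, Tk, c, hc, hl⟩ := Groth.Agent.S10510.result (S := S) ⟨F, hF⟩ (ι := PUnit.{u + 1})
      (fun _ => ⟨(AlgSp.yon S).obj U, AlgSp.IsAlgSpace.yon_obj U⟩) (fun _ => ObjectProperty.homMk a)
      ⟨fun _ => ⟨h2, h3⟩, fun x => ⟨PUnit.unit, h1 x⟩⟩ T ((AlgSp.J S).uliftYonedaEquiv.symm y)
    refine (AlgSp.J S).superset_covering ?_ hc
    rintro Y k ⟨Z, l, g, ⟨kk⟩, rfl⟩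
    obtain ⟨_, l', hl'⟩ := hl kk
    refine ⟨(AlgSp.J S).uliftYonedaEquiv ((AlgSp.yon S).map l ≫ l'), ?_⟩
    have e1 := GrothendieckTopology.uliftYonedaEquiv_comp (AlgSp.J S) ((AlgSp.yon S).map l ≫ l') a
    have hl'' : l' ≫ a = (AlgSp.yon S).map (c kk) ≫ (AlgSp.J S).uliftYonedaEquiv.symm y := hl'
    rw [Category.assoc, hl'', ← Category.assoc, ← Functor.map_comp,
      ← GrothendieckTopology.uliftYonedaEquiv_naturality, Equiv.apply_symm_apply] at e1
    exact e1.symm
  infer_instance

/-- the main statement on sheaves -/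
theorem exists_affine_rep {F : AlgSp.Sp S} (hF : AlgSp.IsAlgSpace F) {U : Over S} (hU : IsAffine U.left)
    (a : (AlgSp.yon S).obj U ⟶ F) (h1 : AlgSp.IsSurjectiveMor a) (h2 : AlgSp.LocP @Flat a)
    (h3 : AlgSp.LocP @LocallyOfFinitePresentation a) (h4 : AlgSp.IsFiniteMor a) :
    ∃ Y : Over S, IsAffine Y.left ∧ Nonempty ((AlgSp.yon S).obj Y ≅ F) := by
  obtain ⟨R, s, fst, sq, hR, hs⟩ := h4 hU a
  obtain ⟨t, rfl⟩ := (AlgSp.yon S).map_surjective fst
  obtain ⟨hs1, hs2, hs3⟩ := cover_props hF a h1 h2 h3 a s _ sq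
  have hepi : Epi a := epi_of_fppf hF a h1 h2 h3
  -- joint monicity
  have hJ : ∀ ⦃T : Scheme.{u}⦄ (α β : T ⟶ R.left), α ≫ t.left = β ≫ t.left → α ≫ s.left = β ≫ s.left →
      α = β := by
    intro T α β ht hs'
    have hβ : β ≫ R.hom = α ≫ R.hom := by
      rw [← Over.w s, ← Category.assoc, ← hs', Category.assoc]
    let T' : Over S := Over.mk (α ≫ R.hom)
    let α' : T' ⟶ R := Over.homMk α rfl
    let β' : T' ⟶ R := Over.homMk β hβ
    have h : (AlgSp.yon S).map α' = (AlgSp.yon S).map β' := by
      apply sq.hom_ext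
      · rw [← Functor.map_comp, ← Functor.map_comp]
        congr 1
        apply Over.OverMorphism.ext
        exact ht
      · rw [← Functor.map_comp, ← Functor.map_comp]
        congr 1
        apply Over.OverMorphism.ext
        exact hs'
    exact congrArg CommaMorphism.left ((AlgSp.yon S).map_injective h)
  -- identity
  obtain ⟨e, he⟩ := (AlgSp.yon S).map_surjective (sq.lift (𝟙 _) (𝟙 _) rfl)
  have e_t : e ≫ t = 𝟙 U := by
    apply (AlgSp.yon S).map_injective
    rw [Functor.map_comp, he, sq.lift_fst, CategoryTheory.Functor.map_id]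
  have e_s : e ≫ s = 𝟙 U := by
    apply (AlgSp.yon S).map_injective
    rw [Functor.map_comp, he, sq.lift_snd, CategoryTheory.Functor.map_id]
  -- inverse
  obtain ⟨i, hi⟩ := (AlgSp.yon S).map_surjective (sq.lift _ _ sq.w.symm)
  have i_t : i ≫ t = s := by
    apply (AlgSp.yon S).map_injective
    rw [Functor.map_comp, hi, sq.lift_fst]
  have i_s : i ≫ s = t := by
    apply (AlgSp.yon S).map_injective
    rw [Functor.map_comp, hi, sq.lift_snd]
  -- composition
  have hsnd : pullback.snd s.left t.left ≫ R.hom = pullback.fst s.left t.left ≫ R.hom := by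
    calc pullback.snd s.left t.left ≫ R.hom = pullback.snd s.left t.left ≫ t.left ≫ U.hom := by rw [Over.w t]
      _ = pullback.fst s.left t.left ≫ s.left ≫ U.hom := by
        rw [← Category.assoc, ← pullback.condition, Category.assoc]
      _ = pullback.fst s.left t.left ≫ R.hom := by rw [Over.w s]
  let P : Over S := Over.mk (pullback.fst s.left t.left ≫ R.hom)
  let pf : P ⟶ R := Over.homMk (pullback.fst s.left t.left) rfl
  let ps : P ⟶ R := Over.homMk (pullback.snd s.left t.left) hsnd
  have hpc : pf ≫ s = ps ≫ t := by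
    apply Over.OverMorphism.ext
    exact pullback.condition
  have hcond : (AlgSp.yon S).map (pf ≫ t) ≫ a = (AlgSp.yon S).map (ps ≫ s) ≫ a := by
    rw [Functor.map_comp, Category.assoc, sq.w, ← Category.assoc, ← Functor.map_comp, hpc,
      Functor.map_comp, Category.assoc, sq.w, ← Category.assoc, ← Functor.map_comp]
  obtain ⟨c, hc⟩ := (AlgSp.yon S).map_surjective (sq.lift _ _ hcond)
  have c_t : c ≫ t = pf ≫ t := by
    apply (AlgSp.yon S).map_injective
    rw [Functor.map_comp, hc, sq.lift_fst]
  have c_s : c ≫ s = ps ≫ s := by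
    apply (AlgSp.yon S).map_injective
    rw [Functor.map_comp, hc, sq.lift_snd]
  -- the groupoid
  let G : Grpd.GroupoidScheme S := Groth.Agent.Lib.Helper4.EqvGrpd.ofEqv U.hom s.left t.left e.left i.left c.left hJ
    (congrArg CommaMorphism.left e_s) (congrArg CommaMorphism.left e_t)
    (congrArg CommaMorphism.left i_s) (congrArg CommaMorphism.left i_t)
    (congrArg CommaMorphism.left c_s) (congrArg CommaMorphism.left c_t)
    ((Over.w s).trans (Over.w t).symm)
  haveI : IsFinite G.s := hs
  haveI : IsAffine G.U := hU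
  haveI : Flat G.s := hs2
  haveI : LocallyOfFinitePresentation G.s := hs3
  obtain ⟨Y, q, w, hdesc, huniq, -, -, hqsurj, -, -, -, hYaff, hJM⟩ :=
    Groth.Agent.Lib.Helper4.GrpdQuotMain.exists_quotient G
      (fun x => ⟨⊤, isAffineOpen_top _, fun _ _ => trivial⟩)
  obtain ⟨hqfin, hqflat, hqlfp, hiso⟩ := hJM hJ
  obtain ⟨pY, hpY⟩ := hdesc S U.hom ((Over.w s).trans (Over.w t).symm)
  let Y' : Over S := Over.mk pY
  let q' : U ⟶ Y' := Over.homMk q hpY
  haveI : Flat q'.left := hqflat
  haveI : LocallyOfFinitePresentation q'.left := hqlfp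
  haveI : Surjective q'.left := hqsurj
  have hepiq : Epi ((AlgSp.yon S).map q') :=
    (Groth.Agent.Lib.Helper14.AlgSpQuot.epi_repMap_iff_epi_yon_map q').1
      (Groth.Agent.Lib.Helper14.RepSh.epi_repMap_fppf q')
  have hw' : t ≫ q' = s ≫ q' := by
    apply Over.OverMorphism.ext
    exact w.symm
  have sqq : IsPullback ((AlgSp.yon S).map t) ((AlgSp.yon S).map s) ((AlgSp.yon S).map q')
      ((AlgSp.yon S).map q') := by
    refine Groth.Agent.H1.Boot.isPullback_yon_of t s _ _ ?_ ?_ ?_
    · rw [← Functor.map_comp, ← Functor.map_comp, hw']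
    · intro Z p p' hpp
      rw [← Functor.map_comp, ← Functor.map_comp] at hpp
      have h0 : p ≫ q' = p' ≫ q' := (AlgSp.yon S).map_injective hpp
      have h0' : p.left ≫ q = p'.left ≫ q := congrArg CommaMorphism.left h0
      let r₀ : Z.left ⟶ R.left := pullback.lift p.left p'.left h0' ≫ inv (pullback.lift G.t G.s w.symm)
      have hr1 : r₀ ≫ t.left = p.left := by
        have : inv (pullback.lift G.t G.s w.symm) ≫ t.left = pullback.fst q q := by
          rw [IsIso.inv_comp_eq]
          exact (pullback.lift_fst _ _ _).symm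
        rw [Category.assoc, this, pullback.lift_fst]
      have hr2 : r₀ ≫ s.left = p'.left := by
        have : inv (pullback.lift G.t G.s w.symm) ≫ s.left = pullback.snd q q := by
          rw [IsIso.inv_comp_eq]
          exact (pullback.lift_snd _ _ _).symm
        rw [Category.assoc, this, pullback.lift_snd]
      refine ⟨Over.homMk r₀ ?_, ?_, ?_⟩
      · rw [← Over.w t, ← Category.assoc, hr1, Over.w p]
      · apply Over.OverMorphism.ext
        exact hr1
      · apply Over.OverMorphism.ext
        exact hr2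
    · intro Z r r' h1 h2
      apply Over.OverMorphism.ext
      exact hJ _ _ (congrArg CommaMorphism.left h1) (congrArg CommaMorphism.left h2)
  haveI : IsRegularEpi a := Groth.Agent.Lib.Helper14.RepSh.isRegularEpi_of_epi Scheme.fppfPrecoverage a
  haveI : IsRegularEpi ((AlgSp.yon S).map q') :=
    Groth.Agent.Lib.Helper14.RepSh.isRegularEpi_of_epi Scheme.fppfPrecoverage _
  have hc1 : IsColimit (Cofork.ofπ a sq.w) := IsKernelPair.toCoequalizer' sq
  have hc2 : IsColimit (Cofork.ofπ ((AlgSp.yon S).map q') sqq.w) := IsKernelPair.toCoequalizer' sqq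
  exact ⟨Y', hYaff hU, ⟨hc2.coconePointUniqueUpToIso hc1⟩⟩

end Groth.Agent.Lib.Helper4.WnaSpace
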