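import Groth.Agent.Lib.Helper4.WnaSpace
import Groth.Agent.Lib.Helper4.AlgStLocQ
import Groth.Agent.S10530
import Groth.Agent.S10527
import Groth.Agent.S10540
set_option autoImplicit false
set_option backward.isDefEq.respectTransparency false
set_option backward.isDefEq.respectTransparency.types false
set_option linter.unusedSectionVars false
set_option linter.style.haveILetI false
set_option linter.unusedVariables false
open CategoryTheory CategoryTheory.Functor CategoryTheory.Limits Opposite AlgebraicGeometry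
universe u

/-! A well-nigh affine category over `(Sch/S)` which is representable by an algebraic space is an affine scheme. -/

namespace Groth.Agent.Lib.Helper4.WnaSpace
open Groth.Agent.FibEquiv FibCat Groth.Agent.Lib.helper4.FibPaste Groth.Agent.Lib.helper4.AlgStEquiv
open Groth.Agent.Lib.helper4.AlgStSetoid Groth.Agent.Lib.helper4.FibSwap Groth.Agent.FibFpProj
open Groth.Agent.Lib.helper4.AlgStFpAlg Groth.Agent.Lib.helper4.AlgStDiagComp
open Groth.Agent.Lib.helper4.AlgStDiagK Groth.Agent.Lib.helper4.AlgStSource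
open Groth.Agent.Lib.helper4.FibRep Groth.Agent.Lib.helper4.FibProd Groth.Agent.Lib.helper4.FibOverProd
open Groth.Agent.Lib.helper4.AlgStCancel Groth.Agent.Lib.helper4.AlgStDiagLFT
open Groth.Agent.Lib.helper4.AlgStSmLoc Groth.Agent.Lib.helper4.AlgStDM
open Groth.Agent.Lib.helper4.AlgStDiagCover Groth.Agent.Lib.helper4.AlgStPts
open Groth.Agent.Lib.helper4.AlgStLocQ Groth.Agent.Lib.helper4.PshRep
open Groth.Agent.Lib.helper5.LocPBC

variable {S : Scheme.{u}}

theorem isoInv_isFiniteMor : IsoInv (AlgSp.IsFiniteMor (S := S)) := by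
  intro A B U j s hA hB h Z hZ g
  obtain ⟨W, i, fst, sq, hW, hi⟩ := h hZ g
  refine ⟨W, i, fst ≫ j.hom, ?_, hW, hi⟩
  exact IsPullback.of_iso sq (Iso.refl _) j (Iso.refl _) (Iso.refl _) (by simp) (by simp) (by simp) (by simp)

theorem main (𝒳 : AlgSt.Cat S) (hw : AlgSt.IsWellNighAffine 𝒳) (hsp : AlgSt.RepByAlgSp 𝒳) :
    ∃ (U : Over S) (e : AlgSt.ofSch U ⥤ᵇ 𝒳), IsAffine U.left ∧ FibCat.IsEquivOver e := by
  obtain ⟨U, x, hU, hx⟩ := hw
  obtain ⟨F, e, he⟩ := hsp
  have hx₃ : AlgSt.RepByAlgSpWith AlgSp.IsSurjectiveMor x :=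
    repByAlgSpWith_mono x (fun _ _ _ h => h.1.1.1) hx
  have hx₁ : AlgSt.RepByAlgSpWith (AlgSp.LocP @Flat) x :=
    repByAlgSpWith_mono x (fun _ _ _ h => h.1.1.2) hx
  have hxf : AlgSt.RepByAlgSpWith AlgSp.IsFiniteMor x :=
    repByAlgSpWith_mono x (fun _ _ _ h => h.1.2) hx
  have hx₂ : AlgSt.RepByAlgSpWith (AlgSp.LocP @LocallyOfFinitePresentation) x :=
    repByAlgSpWith_mono x (fun _ _ _ h => h.2) hx
  have h3 : IsEquivOver (Groth.Agent.Lib.helper4.PshDict.toYon.{u + 1} U) :=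
    Groth.Agent.Lib.helper4.PshDict.toYon_isEquivOver U
  obtain ⟨eA, ⟨αA⟩, ⟨βA⟩⟩ := id h3
  have heA : IsEquivOver eA := isEquivOver_symm αA βA
  obtain ⟨eBi, ⟨αB⟩, ⟨βB⟩⟩ := id he
  let FU : AlgSp.Space S := ⟨(AlgSp.yon S).obj U, AlgSp.IsAlgSpace.yon_obj U⟩
  have ha1 := pshMapOf_of_repByAlgSpWith AlgSp.IsSurjectiveMor isoInv_isSurjectiveMor
    isLocalOnBase_isSurjectiveMor x hx₃ FU F eA heA e eBi βB he
  have ha2 := pshMapOf_of_repByAlgSpWith (AlgSp.LocP @Flat) (isoInv_locP _)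
    (isLocalOnBase_fppf_of_fpqc (Groth.Agent.S10530.result S)) x hx₁ FU F eA heA e eBi βB he
  have ha3 := pshMapOf_of_repByAlgSpWith (AlgSp.LocP @LocallyOfFinitePresentation) (isoInv_locP _)
    (isLocalOnBase_fppf_of_fpqc (Groth.Agent.S10527.result S)) x hx₂ FU F eA heA e eBi βB he
  have ha4 := pshMapOf_of_repByAlgSpWith AlgSp.IsFiniteMor isoInv_isFiniteMor
    (isLocalOnBase_fppf_of_fpqc (Groth.Agent.S10540.result S)) x hxf FU F eA heA e eBi βB he
  obtain ⟨Y, hY, ⟨φ⟩⟩ := exists_affine_rep F.property hU _ ha1 ha2 ha3 ha4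
  let ip : ((AlgSp.yon S).obj Y).obj ≅ F.obj.obj := (sheafToPresheaf (AlgSp.J S) (Type (u + 1))).mapIso φ
  exact ⟨Y, BasedFunctor.comp (Stk.ofPshMap ip.hom) e, hY,
    isEquivOver_comp _ _ (isEquivOver_ofPshMap_of_iso ip) he⟩

end Groth.Agent.Lib.Helper4.WnaSpace
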