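import Mathlib
import Groth.Agent.Lib.Helper13.KA4
import Groth.Agent.Lib.Helper4.DvrDense5

/-!
# A proper, generically finite morphism is finite near a point of codimension one

Via Krull–Akizuki (helper13): the local rings of `X` at points over a codimension one point `ξ`
of `Y` have dimension `≤ 1`, so the fibre over `ξ` consists of maximal points and is finite.
-/

set_option backward.isDefEq.respectTransparency false
set_option backward.isDefEq.respectTransparency.types false
set_option autoImplicit false
set_option linter.style.haveILetI false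
universe u
open CategoryTheory CategoryTheory.Limits AlgebraicGeometry

namespace Groth.Agent.Lib.helper4.ZmtDimOne

open Groth.Agent.Lib.helper4.GenFinite3 Groth.Agent.Lib.helper4.DvrDense
open Groth.Agent.Lib.helper4.DvrDense5

/-- Krull–Akizuki, in the form of a commutative square of ring homomorphisms. -/
theorem dimensionLEOne_of_square {R A K L : Type*} [CommRing R] [IsDomain R] [IsNoetherianRing R]
    [Ring.KrullDimLE 1 R] [CommRing A] [CommRing K] [CommRing L] (hK : IsField K) (hL : IsField L)
    (φ : R →+* A) (a : A →+* L) (r : R →+* K) (k : K →+* L) (comm : a.comp φ = k.comp r)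
    (ha : Function.Injective a) (hr : @IsFractionRing R _ K _ r.toAlgebra) (hk : k.Finite) :
    Ring.DimensionLEOne A := by
  letI := hK.toField
  letI := hL.toField
  letI := r.toAlgebra
  letI := k.toAlgebra
  letI := φ.toAlgebra
  letI := a.toAlgebra
  letI : Algebra R L := (a.comp φ).toAlgebra
  haveI : IsScalarTower R A L := IsScalarTower.of_algebraMap_eq' rfl
  haveI : IsScalarTower R K L := IsScalarTower.of_algebraMap_eq' comm
  haveI : FiniteDimensional K L := hk
  exact Groth.Agent.Lib.helper13.KA.dimensionLEOne_of_between R K L A ha


/-- If the stalk at `x` is a field, finiteness of the residue field map gives finiteness of the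
stalk map. -/
lemma finite_stalkMap_of_finite_residueFieldMap {X Y : Scheme.{u}} (f : X ⟶ Y) (x : X)
    (hX : IsField (X.presheaf.stalk x)) (h : (f.residueFieldMap x).hom.Finite) :
    (f.stalkMap x).hom.Finite := by
  letI := hX.toField
  have hinj : Function.Injective (X.residue x).hom := (X.residue x).hom.injective
  have hsurj : Function.Surjective (X.residue x).hom := X.residue_surjective x
  let E : X.presheaf.stalk x ≃+* X.residueField x := RingEquiv.ofBijective _ ⟨hinj, hsurj⟩
  have hcomp : (X.residue x).hom.comp (f.stalkMap x).hom =
      (f.residueFieldMap x).hom.comp (Y.residue (f x)).hom := by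
    have := Scheme.residue_residueFieldMap f x
    exact (congrArg CommRingCat.Hom.hom this).symm
  have h1 : ((f.residueFieldMap x).hom.comp (Y.residue (f x)).hom).Finite :=
    h.comp (RingHom.Finite.of_surjective _ (Y.residue_surjective _))
  rw [← hcomp] at h1
  have h2 : (f.stalkMap x).hom =
      E.symm.toRingHom.comp ((X.residue x).hom.comp (f.stalkMap x).hom) := by
    ext t
    simp only [RingHom.coe_comp, Function.comp_apply, RingEquiv.toRingHom_eq_coe,
      RingHom.coe_coe]
    exact (E.symm_apply_apply _).symm
  rw [h2]
  exact (RingHom.Finite.of_surjective _ E.symm.surjective).comp h1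

/-- The local rings of `X` at points over a point of codimension one of `Y` have dimension at
most one, when `X ⟶ Y` is dominant with finite function field extension. -/
theorem dimensionLEOne_stalk {X Y : Scheme.{u}} [IsIntegral X] [IsIntegral Y]
    [IsLocallyNoetherian Y] (f : X ⟶ Y) (hgen : f (genericPoint X) = genericPoint Y)
    (hfin : (f.residueFieldMap (genericPoint X)).hom.Finite) (x : X)
    (hdim : ringKrullDim (Y.presheaf.stalk (f x)) = 1) :
    Ring.DimensionLEOne (X.presheaf.stalk x) ∧ Function.Injective (f.stalkMap x).hom := by
  have hηx : genericPoint X ⤳ x := (genericPoint_spec X).specializes trivial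
  have hηfx : f (genericPoint X) ⤳ f x := f.base.hom.map_specializes hηx
  have hKfield : IsField (Y.presheaf.stalk (f (genericPoint X))) := by
    have : ∀ y, y = genericPoint Y → IsField (Y.presheaf.stalk y) := by
      rintro _ rfl; exact Field.toIsField Y.functionField
    exact this _ hgen
  have hLfield : IsField (X.presheaf.stalk (genericPoint X)) := Field.toIsField X.functionField
  have hfrac : @IsFractionRing (Y.presheaf.stalk (f x)) _
      (Y.presheaf.stalk (f (genericPoint X))) _ (Y.presheaf.stalkSpecializes hηfx).hom.toAlgebra := by
    have : ∀ y (_ : y = genericPoint Y) (h : y ⤳ f x), @IsFractionRing (Y.presheaf.stalk (f x)) _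
        (Y.presheaf.stalk y) _ (Y.presheaf.stalkSpecializes h).hom.toAlgebra := by
      rintro _ rfl h
      exact (inferInstance : IsFractionRing (Y.presheaf.stalk (f x)) Y.functionField)
    exact this _ hgen _
  have hR1 : Ring.KrullDimLE 1 (Y.presheaf.stalk (f x)) := by
    rw [Ring.krullDimLE_iff, hdim]; rfl
  have comm : (algebraMap (X.presheaf.stalk x) X.functionField).comp (f.stalkMap x).hom =
      (f.stalkMap (genericPoint X)).hom.comp (Y.presheaf.stalkSpecializes hηfx).hom := by
    have := Scheme.Hom.stalkSpecializes_stalkMap f (genericPoint X) x hηx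
    exact (congrArg CommRingCat.Hom.hom this).symm
  have ha : Function.Injective (algebraMap (X.presheaf.stalk x) X.functionField) :=
    IsFractionRing.injective _ _
  have hk := finite_stalkMap_of_finite_residueFieldMap f (genericPoint X) hLfield hfin
  refine ⟨dimensionLEOne_of_square hKfield hLfield (f.stalkMap x).hom
    (algebraMap (X.presheaf.stalk x) X.functionField) (Y.presheaf.stalkSpecializes hηfx).hom
    (f.stalkMap (genericPoint X)).hom comm ha hfrac hk, ?_⟩
  have hinj : Function.Injective ((f.stalkMap (genericPoint X)).hom.comp
      (Y.presheaf.stalkSpecializes hηfx).hom) := by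
    letI := hKfield.toField
    have h1 : Function.Injective (f.stalkMap (genericPoint X)).hom :=
      RingHom.injective (f.stalkMap (genericPoint X)).hom
    have h2 : Function.Injective (Y.presheaf.stalkSpecializes hηfx).hom := by
      letI := (Y.presheaf.stalkSpecializes hηfx).hom.toAlgebra
      exact IsFractionRing.injective (Y.presheaf.stalk (f x))
        (Y.presheaf.stalk (f (genericPoint X)))
    exact h1.comp h2
  rw [← comm] at hinj
  exact Function.Injective.of_comp hinj


/-- There are no nontrivial specializations inside the fibre over a point of codimension one. -/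
theorem eq_of_specializes {X Y : Scheme.{u}} [IsIntegral X] [IsIntegral Y]
    [IsLocallyNoetherian Y] (f : X ⟶ Y) (hgen : f (genericPoint X) = genericPoint Y)
    (hfin : (f.residueFieldMap (genericPoint X)).hom.Finite) (x x' : X) (h : x' ⤳ x)
    (hxx' : f x' = f x) (hdim : ringKrullDim (Y.presheaf.stalk (f x)) = 1) : x' = x := by
  obtain ⟨hD, hinj⟩ := dimensionLEOne_stalk f hgen hfin x hdim
  have hx' : x' ∈ Set.range (X.fromSpecStalk x) := by
    rw [Scheme.range_fromSpecStalk]; exact h
  obtain ⟨p, rfl⟩ := hx'
  by_cases hp : p.asIdeal = ⊥
  · exfalso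
    have h1 : f (X.fromSpecStalk x p) = Y.fromSpecStalk (f x) (Spec.map (f.stalkMap x) p) := by
      have := Scheme.SpecMap_stalkMap_fromSpecStalk f (x := x)
      exact (congrArg (fun ψ => ψ.base p) this).symm
    have h2 : Y.fromSpecStalk (f x) (IsLocalRing.closedPoint _) = f x :=
      Scheme.fromSpecStalk_closedPoint
    have h3 : Spec.map (f.stalkMap x) p = IsLocalRing.closedPoint (Y.presheaf.stalk (f x)) :=
      (Y.fromSpecStalk (f x)).isEmbedding.injective (by rw [← h1, hxx', h2])
    have h4 : (Spec.map (f.stalkMap x) p).asIdeal = ⊥ := by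
      show Ideal.comap (f.stalkMap x).hom p.asIdeal = ⊥
      rw [hp]
      exact (RingHom.injective_iff_ker_eq_bot _).mp hinj
    rw [h3] at h4
    have hF : IsField (Y.presheaf.stalk (f x)) := IsLocalRing.isField_iff_maximalIdeal_eq.mpr h4
    have h0 := ringKrullDim_eq_zero_of_isField hF
    rw [hdim] at h0
    exact one_ne_zero h0
  · have hmax : p.asIdeal.IsMaximal := hD.maximalOfPrime hp p.2
    have hpc : p = IsLocalRing.closedPoint _ :=
      PrimeSpectrum.ext (IsLocalRing.eq_maximalIdeal hmax)
    rw [hpc]
    exact Scheme.fromSpecStalk_closedPoint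

/-- The fibre over a point of codimension one is finite. -/
theorem finite_fibre {X Y : Scheme.{u}} [IsIntegral X] [IsIntegral Y]
    [IsLocallyNoetherian Y] (f : X ⟶ Y) [LocallyOfFiniteType f] [QuasiCompact f]
    (hgen : f (genericPoint X) = genericPoint Y)
    (hfin : (f.residueFieldMap (genericPoint X)).hom.Finite) (ξ : Y)
    (hξ : ringKrullDim (Y.presheaf.stalk ξ) = 1) : (f ⁻¹' {ξ}).Finite := by
  haveI : LocallyOfFiniteType (f.fiberToSpecResidueField ξ) := by
    delta Scheme.Hom.fiberToSpecResidueField; infer_instance
  haveI : IsLocallyNoetherian (f.fiber ξ) :=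
    LocallyOfFiniteType.isLocallyNoetherian (f.fiberToSpecResidueField ξ)
  haveI : IsNoetherian (f.fiber ξ) := {}
  have hmem : ∀ z : f.fiber ξ, f (f.fiberι ξ z) = ξ := by
    intro z
    have : f.fiberι ξ z ∈ Set.range (f.fiberι ξ) := ⟨z, rfl⟩
    rw [f.range_fiberι] at this
    exact this
  have hmax : ∀ z : f.fiber ξ, IsMaxPt z := by
    intro z z' hz'
    have h1 : f.fiberι ξ z' ⤳ f.fiberι ξ z := hz'.map (f.fiberι ξ).continuous
    have := eq_of_specializes f hgen hfin _ _ h1 ((hmem z').trans (hmem z).symm)
      (by rw [hmem z]; exact hξ)
    exact (f.fiberι ξ).isEmbedding.injective this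
  have hfin' : (irreducibleComponents (f.fiber ξ)).Finite :=
    finite_irreducibleComponents_of_isNoetherian
  have hF : Finite (f.fiber ξ) := by
    haveI := hfin'.to_subtype
    refine Finite.of_injective (fun z => (⟨closure {z},
      closure_mem_irreducibleComponents_of_isMaxPt z (hmax z)⟩ :
        irreducibleComponents (f.fiber ξ))) ?_
    intro z z' h
    have h' : closure {z} = closure {z'} := congrArg Subtype.val h
    exact (inseparable_iff_closure_eq.mpr h').eq
  rw [← f.range_fiberι]
  exact Set.finite_range _

/-- **Main.** A proper morphism of integral schemes which is generically finite is finite over a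
neighbourhood of any point of codimension one of the (locally Noetherian) target. -/
theorem exists_isFinite_morphismRestrict {X Y : Scheme.{u}} [IsIntegral X] [IsIntegral Y]
    [IsLocallyNoetherian Y] (f : X ⟶ Y) [IsProper f]
    (hgen : f (genericPoint X) = genericPoint Y)
    (hfin : (f.residueFieldMap (genericPoint X)).hom.Finite) (ξ : Y)
    (hξ : ringKrullDim (Y.presheaf.stalk ξ) = 1) : ∃ V : Y.Opens, ξ ∈ V ∧ IsFinite (f ∣_ V) :=
  exists_isFinite_morphismRestrict_of_finite_preimage_singleton f ξ
    (finite_fibre f hgen hfin ξ hξ)

end Groth.Agent.Lib.helper4.ZmtDimOne
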